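import Groth.Statements.S10531
import Mathlib
import Groth.Agent.S10544
import Groth.Agent.S10524
import Groth.Agent.S10261
import Groth.Agent.Lib.Helper12LargestOpen

set_option autoImplicit false
universe u
open CategoryTheory CategoryTheory.Limits AlgebraicGeometry
open AlgSp

namespace Groth.Agent.S10531

variable {S : Scheme.{u}}

/-- an open immersion of algebraic spaces is universally injective. -/
theorem isUnivInjectiveMor_of_open {A B : AlgSp.Sp S} (f : A ⟶ B)
    (hf : AlgSp.RepWith @IsOpenImmersion f) : AlgSp.IsUnivInjectiveMor f := by
  intro Z Z' _ g fst snd sq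
  exact Groth.Agent.Lib.Helper12.LargestOpen.injective_map_of_open snd
    (MorphismProperty.of_isPullback (P := AlgSp.RepWith @IsOpenImmersion) sq hf)

/-- The property of morphisms of algebraic spaces over S given by f is an open immersion (representable
by open immersions of schemes) is fpqc local on the base: for an fpqc covering of an algebraic space
Y by algebraic spaces Y_i, a morphism f : X ⟶ Y of algebraic spaces and cartesian squares X_i = Y_i
×_Y X, f has the property if and only if every X_i ⟶ Y_i has it. -/
theorem result (S : Scheme.{u}) :
    AlgSp.IsLocalOnBase (AlgSp.IsFpqcCover (S := S)) (AlgSp.RepWith @IsOpenImmersion) := by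
  intro ι Y Yi g hY hYi hcov X f hX Xi p q hXi sq
  constructor
  · intro hf i
    exact MorphismProperty.of_isPullback (P := AlgSp.RepWith @IsOpenImmersion) (sq i) hf
  · intro H
    have het : AlgSp.IsEtaleMor f :=
      (Groth.Agent.S10544.result S Yi g hY hYi hcov f hX Xi p q hXi sq).2
        (fun i => Groth.Agent.Lib.Helper12.LargestOpen.covProp_etale.of_open (hXi i) (hYi i)
          (p i) (H i))
    have hinj : AlgSp.IsUnivInjectiveMor f :=
      (Groth.Agent.S10524.result S Yi g hY hYi hcov f hX Xi p q hXi sq).2
        (fun i => isUnivInjectiveMor_of_open (p i) (H i))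
    exact Groth.Agent.S10261.result (X := ⟨X, hX⟩) (Y := ⟨Y, hY⟩) (ObjectProperty.homMk f) het hinj

end Groth.Agent.S10531
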