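import Groth.Statements.S10532
import Mathlib
import Groth.Agent.S10544
import Groth.Agent.S10524
import Groth.Agent.S10525
import Groth.Agent.S10261
import Groth.Agent.Lib.Helper12OpenSub2

set_option autoImplicit false
universe u
open CategoryTheory CategoryTheory.Limits AlgebraicGeometry
open AlgSp

namespace Groth.Agent.S10532

variable {S : Scheme.{u}}

/-- the map on points induced by an isomorphism is a homeomorphism. -/
theorem isHomeomorph_map_of_isIso {A B : AlgSp.Sp S} (f : A ⟶ B) [IsIso f] :
    IsHomeomorph (AlgSp.Points.map f) := by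
  have h1 : Function.LeftInverse (AlgSp.Points.map (inv f)) (AlgSp.Points.map f) := by
    intro x
    rw [← AlgSp.Points.map_comp, IsIso.hom_inv_id, AlgSp.Points.map_id]
  have h2 : Function.RightInverse (AlgSp.Points.map (inv f)) (AlgSp.Points.map f) := by
    intro x
    rw [← AlgSp.Points.map_comp, IsIso.inv_hom_id, AlgSp.Points.map_id]
  let e : AlgSp.Points A ≃ₜ AlgSp.Points B :=
    { toFun := AlgSp.Points.map f
      invFun := AlgSp.Points.map (inv f)
      left_inv := h1
      right_inv := h2
      continuous_toFun := AlgSp.Points.continuous_map f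
      continuous_invFun := AlgSp.Points.continuous_map (inv f) }
  exact e.isHomeomorph

/-- an isomorphism is a universal homeomorphism. -/
theorem isUnivHomeoMor_of_isIso {A B : AlgSp.Sp S} (f : A ⟶ B) [IsIso f] :
    AlgSp.IsUnivHomeoMor f := by
  intro Z Z' _ g fst snd sq
  have : IsIso snd := sq.isIso_snd_of_isIso
  exact isHomeomorph_map_of_isIso snd

/-- an isomorphism is universally injective. -/
theorem isUnivInjectiveMor_of_isIso {A B : AlgSp.Sp S} (f : A ⟶ B) [IsIso f] :
    AlgSp.IsUnivInjectiveMor f := by
  intro Z Z' _ g fst snd sq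
  have : IsIso snd := sq.isIso_snd_of_isIso
  exact (isHomeomorph_map_of_isIso snd).injective

/-- an isomorphism is etale. -/
theorem isEtaleMor_of_isIso {A B : AlgSp.Sp S} (f : A ⟶ B) [IsIso f] :
    AlgSp.IsEtaleMor f := by
  intro U φ hφ
  have : (AlgSp.RepWith (S := S) @Etale).RespectsIso :=
    @MorphismProperty.IsStableUnderBaseChange.respectsIso _ _ _
      (AlgSp.repWith_isStableUnderBaseChange (S := S) @Etale)
  exact (MorphismProperty.cancel_right_of_respectsIso (AlgSp.RepWith (S := S) @Etale) φ f).2 hφ

/-- a surjective open immersion of algebraic spaces is an isomorphism. -/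
theorem isIso_of_open_of_surjective {X Y : AlgSp.Sp S} (f : X ⟶ Y)
    (hf : AlgSp.RepWith @IsOpenImmersion f) (hs : Function.Surjective (AlgSp.Points.map f)) :
    IsIso f := by
  have hid : AlgSp.RepWith @IsOpenImmersion (𝟙 Y) :=
    (AlgSp.RepWith (S := S) @IsOpenImmersion).id_mem Y
  obtain ⟨e, he⟩ := Groth.Agent.Lib.Helper12.OpenSub.iso_of_range_eq f hf (𝟙 Y) hid (by
    rw [hs.range_eq]
    symm
    rw [Set.range_eq_univ]
    intro x
    exact ⟨x, AlgSp.Points.map_id x⟩)
  rw [Category.comp_id] at he
  rw [← he]
  infer_instance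

/-- The property of morphisms of algebraic spaces over S given by f is an isomorphism is fpqc local on
the base: for an fpqc covering of an algebraic space Y by algebraic spaces Y_i, a morphism f : X ⟶ Y
of algebraic spaces and cartesian squares X_i = Y_i ×_Y X, f has the property if and only if every
X_i ⟶ Y_i has it. -/
theorem result (S : Scheme.{u}) :
    AlgSp.IsLocalOnBase (AlgSp.IsFpqcCover (S := S)) (MorphismProperty.isomorphisms (AlgSp.Sp S)) := by
  intro ι Y Yi g hY hYi hcov X f hX Xi p q hXi sq
  constructor
  · intro hf i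
    have : IsIso f := hf
    exact (sq i).isIso_snd_of_isIso
  · intro H
    have hI : ∀ i, IsIso (p i) := H
    have het : AlgSp.IsEtaleMor f :=
      (Groth.Agent.S10544.result S Yi g hY hYi hcov f hX Xi p q hXi sq).2
        (fun i => isEtaleMor_of_isIso (p i))
    have hinj : AlgSp.IsUnivInjectiveMor f :=
      (Groth.Agent.S10524.result S Yi g hY hYi hcov f hX Xi p q hXi sq).2
        (fun i => isUnivInjectiveMor_of_isIso (p i))
    have hhom : AlgSp.IsUnivHomeoMor f :=
      (Groth.Agent.S10525.result S Yi g hY hYi hcov f hX Xi p q hXi sq).2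
        (fun i => isUnivHomeoMor_of_isIso (p i))
    have hopen : AlgSp.RepWith @IsOpenImmersion f :=
      Groth.Agent.S10261.result (X := ⟨X, hX⟩) (Y := ⟨Y, hY⟩) (ObjectProperty.homMk f) het hinj
    have hsurj : Function.Surjective (AlgSp.Points.map f) :=
      (hhom hY (𝟙 Y) (𝟙 X) f (IsPullback.of_horiz_isIso ⟨by simp⟩)).surjective
    exact isIso_of_open_of_surjective f hopen hsurj

end Groth.Agent.S10532
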