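import Groth.Statements.S10534
import Mathlib
import Groth.Agent.S10532
import Groth.Agent.S10506
import Groth.Agent.S9874
import Groth.Agent.S9931
import Groth.Agent.Lib.Helper12IdealDescent
import Groth.Agent.Lib.Helper12ZarGlue
import Groth.Agent.Lib.Helper15LocEss

set_option autoImplicit false
universe u
open CategoryTheory CategoryTheory.Limits AlgebraicGeometry
open AlgSp

namespace Groth.Agent.S10534

section SchemeLevel

variable {W Z V : Scheme.{u}}

/-- fpqc descent of closed subschemes, with the stability under the descent datum expressed on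
functors of points. -/
theorem exists_closed_descent (π : W ⟶ Z) [Flat π] [Surjective π] [QuasiCompact π]
    (i : V ⟶ W) [IsClosedImmersion i]
    (hst : ∀ (T : Scheme.{u}) (a b : T ⟶ W), a ≫ π = b ≫ π → (∃ l : T ⟶ V, l ≫ i = a) →
      ∃ l : T ⟶ V, l ≫ i = b) :
    ∃ (Zc : Scheme.{u}) (c : Zc ⟶ Z) (k : V ⟶ Zc), IsClosedImmersion c ∧ IsPullback i k π c := by
  have hle : ∀ (p q : pullback π π ⟶ W), p ≫ π = q ≫ π → i.ker.comap q ≤ i.ker.comap p := by
    intro p q hpq
    obtain ⟨l, hl⟩ := hst (pullback p i) (pullback.fst p i ≫ p) (pullback.fst p i ≫ q)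
      (by rw [Category.assoc, Category.assoc, hpq]) ⟨pullback.snd p i, pullback.condition.symm⟩
    rw [← Scheme.IdealSheafData.ker_fst_of_isClosedImmersion,
      ← Scheme.IdealSheafData.ker_fst_of_isClosedImmersion]
    have : pullback.lift (pullback.fst p i) l hl.symm ≫ pullback.fst q i = pullback.fst p i :=
      pullback.lift_fst _ _ _
    rw [← this]
    exact Scheme.Hom.le_ker_comp _ _
  have stab : i.ker.comap (pullback.fst π π) = i.ker.comap (pullback.snd π π) :=
    le_antisymm (hle _ _ pullback.condition.symm) (hle _ _ pullback.condition)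
  have key := Groth.Agent.Lib.Helper12.comap_map_eq_of_stable π i.ker stab
  have hker : (i ≫ π).ker = i.ker.map π := Scheme.Hom.ker_comp i π
  have hcJ : (i.ker.map π).subschemeι.ker = i.ker.map π :=
    Scheme.IdealSheafData.ker_subschemeι _
  refine ⟨(i.ker.map π).subscheme, (i.ker.map π).subschemeι,
    IsClosedImmersion.lift (i.ker.map π).subschemeι (i ≫ π) (by rw [hcJ, hker]), inferInstance, ?_⟩
  refine isPullback_of_isClosedImmersion i (i.ker.map π).subschemeι _ π
    (IsClosedImmersion.lift_fac _ _ _).symm ?_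
  rw [hcJ]
  exact key

end SchemeLevel

section Formal

/-- the base change of a monomorphism along a map factoring through it is an isomorphism. -/
lemma isIso_snd_of_factor {C : Type*} [Category C] {A B T Q : C} (m : A ⟶ B) [Mono m] (t : T ⟶ B)
    (v : T ⟶ A) (hv : v ≫ m = t) {fst : Q ⟶ A} {snd : Q ⟶ T} (sq : IsPullback fst snd m t) :
    IsIso snd := by
  refine ⟨sq.lift v (𝟙 T) (by rw [hv, Category.id_comp]), ?_, sq.lift_snd _ _ _⟩
  apply sq.hom_ext
  · rw [Category.assoc, sq.lift_fst, Category.id_comp]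
    rw [← cancel_mono m, Category.assoc, hv, sq.w]
  · rw [Category.assoc, sq.lift_snd, Category.comp_id, Category.id_comp]

end Formal

variable {S : Scheme.{u}}

/-- a single flat surjective morphism of affine schemes is an fpqc covering. -/
theorem isFpqcCover_single {W Z : Over S} (π : W ⟶ Z) [IsAffine W.left] [IsAffine Z.left]
    (hfl : Flat π.left)
    (hs : Surjective π.left) :
    AlgSp.IsFpqcCover (fun _ : PUnit.{u+1} => (AlgSp.yon S).obj W)
      (fun _ => (AlgSp.yon S).map π) := by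
  refine ⟨fun _ => Groth.Agent.Lib.Helper15LocEss.locP_yon_map_of_flat π hfl, fun T hT h => ?_⟩
  obtain ⟨t, rfl⟩ := (AlgSp.yon S).map_surjective h
  have sq := (IsPullback.of_hasPullback t π).map (Over.forget S)
  refine ⟨1, fun _ => pullback t π, fun _ => pullback.fst t π, fun _ => ?_, fun _ => ?_,
    fun z => ⟨0, ?_⟩, fun _ => ⟨PUnit.unit, (AlgSp.yon S).map (pullback.snd t π), ?_⟩⟩
  · haveI : IsAffine T.left := hT
    have : IsAffine (pullback t.left π.left) := inferInstance
    exact IsAffine.of_isIso (Y := pullback t.left π.left) sq.isoPullback.hom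
  · exact MorphismProperty.of_isPullback (P := @Flat) sq.flip hfl
  · have : Surjective (pullback.fst t π).left :=
      MorphismProperty.of_isPullback (P := @Surjective) sq.flip hs
    exact this.surj z
  · rw [← Functor.map_comp, ← Functor.map_comp, pullback.condition]

/-- if the base change of `s` to an fpqc covering of the base is a monomorphism through which the
base change of `c` factors, then the projection `P ×_B C ⟶ C` is an isomorphism. -/
theorem isIso_snd_of_local {ι : Type u} {B P C A : AlgSp.Sp S} (hB : AlgSp.IsAlgSpace B)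
    (hP : AlgSp.IsAlgSpace P) (hC : AlgSp.IsAlgSpace C) (s : P ⟶ B) (c : C ⟶ B)
    (a : A ⟶ P) (b : A ⟶ C) (sqA : IsPullback a b s c)
    (Bi : ι → AlgSp.Sp S) (g : ∀ i, Bi i ⟶ B) (hBi : ∀ i, AlgSp.IsAlgSpace (Bi i))
    (hcov : AlgSp.IsFpqcCover Bi g)
    (Pi : ι → AlgSp.Sp S) (si : ∀ i, Pi i ⟶ Bi i) (gP : ∀ i, Pi i ⟶ P)
    (sqP : ∀ i, IsPullback (gP i) (si i) s (g i))
    (Ci : ι → AlgSp.Sp S) (ci : ∀ i, Ci i ⟶ Bi i) (gC : ∀ i, Ci i ⟶ C)
    (hCi : ∀ i, AlgSp.IsAlgSpace (Ci i))
    (sqC : ∀ i, IsPullback (gC i) (ci i) c (g i))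
    [∀ i, Mono (si i)]
    (hv : ∀ i, ∃ v : Ci i ⟶ Pi i, v ≫ si i = ci i) : IsIso b := by
  have hA : AlgSp.IsAlgSpace A :=
    Groth.Agent.S9874.result S B hB.1 ⟨P, hP⟩ ⟨C, hC⟩ s c _ _ _ sqA
  have hcovC : AlgSp.IsFpqcCover Ci gC :=
    Groth.Agent.S10506.result (X := ⟨B, hB⟩) (X' := ⟨C, hC⟩) (ObjectProperty.homMk c)
      (fun i => ⟨Bi i, hBi i⟩) (fun i => ObjectProperty.homMk (g i))
      (fun i => ⟨Ci i, hCi i⟩) (fun i => ObjectProperty.homMk (gC i))
      (fun i => ObjectProperty.homMk (ci i)) sqC hcov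
  have hXi : ∀ i, AlgSp.IsAlgSpace (pullback b (gC i)) := fun i =>
    Groth.Agent.S9874.result S C hC.1 ⟨A, hA⟩ ⟨Ci i, hCi i⟩ b (gC i) _ _ _
      (IsPullback.of_hasPullback b (gC i))
  refine (Groth.Agent.S10532.result S Ci gC hC hCi hcovC b hA
    (fun i => pullback b (gC i)) (fun i => pullback.snd b (gC i)) (fun i => pullback.fst b (gC i))
    hXi (fun i => IsPullback.of_hasPullback b (gC i))).2 (fun i => ?_)
  change IsIso (pullback.snd b (gC i))
  have big : IsPullback (pullback.fst b (gC i) ≫ a) (pullback.snd b (gC i)) s (ci i ≫ g i) := by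
    have := (IsPullback.of_hasPullback b (gC i)).paste_horiz sqA
    rw [(sqC i).w] at this
    exact this
  have hl : IsPullback ((sqP i).lift (pullback.fst b (gC i) ≫ a) (pullback.snd b (gC i) ≫ ci i)
      (by rw [Category.assoc]; exact big.w)) (pullback.snd b (gC i)) (si i) (ci i) := by
    refine IsPullback.of_right ?_ ((sqP i).lift_snd _ _ _) (sqP i)
    rw [(sqP i).lift_fst]
    exact big
  obtain ⟨v, hv⟩ := hv i
  exact isIso_snd_of_factor (si i) (ci i) v hv hl

/-- two morphisms of algebraic spaces with the same target whose base changes to an fpqc covering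
are monomorphisms factoring through each other are isomorphic over the target. -/
theorem exists_iso_of_local {ι : Type u} {B P C : AlgSp.Sp S} (hB : AlgSp.IsAlgSpace B)
    (hP : AlgSp.IsAlgSpace P) (hC : AlgSp.IsAlgSpace C) (s : P ⟶ B) (c : C ⟶ B)
    (Bi : ι → AlgSp.Sp S) (g : ∀ i, Bi i ⟶ B) (hBi : ∀ i, AlgSp.IsAlgSpace (Bi i))
    (hcov : AlgSp.IsFpqcCover Bi g)
    (Pi : ι → AlgSp.Sp S) (si : ∀ i, Pi i ⟶ Bi i) (gP : ∀ i, Pi i ⟶ P)
    (hPi : ∀ i, AlgSp.IsAlgSpace (Pi i))
    (sqP : ∀ i, IsPullback (gP i) (si i) s (g i))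
    (Ci : ι → AlgSp.Sp S) (ci : ∀ i, Ci i ⟶ Bi i) (gC : ∀ i, Ci i ⟶ C)
    (hCi : ∀ i, AlgSp.IsAlgSpace (Ci i))
    (sqC : ∀ i, IsPullback (gC i) (ci i) c (g i))
    [∀ i, Mono (si i)] [∀ i, Mono (ci i)]
    (hu : ∀ i, ∃ u : Pi i ⟶ Ci i, u ≫ ci i = si i)
    (hv : ∀ i, ∃ v : Ci i ⟶ Pi i, v ≫ si i = ci i) :
    ∃ φ : P ≅ C, φ.hom ≫ c = s := by
  have sqA := IsPullback.of_hasPullback s c
  haveI h1 : IsIso (pullback.snd s c) :=
    isIso_snd_of_local hB hP hC s c _ _ sqA Bi g hBi hcov Pi si gP sqP Ci ci gC hCi sqC hv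
  haveI h2 : IsIso (pullback.fst s c) :=
    isIso_snd_of_local hB hC hP c s _ _ sqA.flip Bi g hBi hcov Ci ci gC sqC Pi si gP hPi sqP hu
  refine ⟨(asIso (pullback.fst s c)).symm ≪≫ asIso (pullback.snd s c), ?_⟩
  simp only [Iso.trans_hom, Iso.symm_hom, asIso_inv, asIso_hom, Category.assoc]
  rw [IsIso.inv_comp_eq]
  exact pullback.condition.symm

/-- **fpqc descent of closed immersions into an affine scheme**: a morphism from an algebraic space
to an affine scheme which becomes a closed immersion after base change to the members of a standard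
fpqc covering is (representable by) a closed immersion. -/
theorem repWith_closed_of_standard_cover
    {P₀ : AlgSp.Sp S} (hP₀ : AlgSp.IsAlgSpace P₀) {Z : Over S} (hZ : IsAffine Z.left)
    (snd : P₀ ⟶ (AlgSp.yon S).obj Z)
    {ι : Type u} [Finite ι] (Wj : ι → Over S) (c : ∀ j, Wj j ⟶ Z)
    (hWa : ∀ j, IsAffine (Wj j).left)
    (hfl : ∀ j, Flat (c j).left) (hsurj : ∀ z : Z.left, ∃ j, z ∈ Set.range (c j).left)
    (H : ∀ j, ∃ (V : Over S) (v : V ⟶ Wj j) (a : (AlgSp.yon S).obj V ⟶ P₀),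
       IsPullback a ((AlgSp.yon S).map v) snd ((AlgSp.yon S).map (c j)) ∧
         IsClosedImmersion v.left) :
    AlgSp.RepWith @IsClosedImmersion snd := by
  haveI := hZ
  haveI := hWa
  choose V v a sqa hv using H
  -- the coproduct of the members of the covering
  let Wl : Scheme.{u} := ∐ fun j => (Wj j).left
  let πl : Wl ⟶ Z.left := Sigma.desc fun j => (c j).left
  let W : Over S := Over.mk (πl ≫ Z.hom)
  let π : W ⟶ Z := Over.homMk πl rfl
  let ιj : ∀ j, Wj j ⟶ W := fun j => Over.homMk (Sigma.ι (fun j => (Wj j).left) j) (by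
    show Sigma.ι _ j ≫ πl ≫ Z.hom = (Wj j).hom
    rw [← Category.assoc, Sigma.ι_desc]
    exact Over.w (c j))
  have hιπ : ∀ j, ιj j ≫ π = c j := fun j => by
    ext
    exact Sigma.ι_desc _ _
  haveI : ∀ j, IsOpenImmersion (ιj j).left := fun j =>
    inferInstanceAs (IsOpenImmersion (Sigma.ι (fun j => (Wj j).left) j))
  have hcovW : ∀ t : W.left, ∃ j, t ∈ Set.range (ιj j).left := fun t => by
    obtain ⟨j, y, hy⟩ := (sigmaOpenCover (fun j => (Wj j).left)).exists_eq t
    exact ⟨j, y, hy⟩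
  haveI hπfl : Flat πl := IsZariskiLocalAtSource.sigmaDesc (P := @Flat) hfl
  haveI hπs : Surjective πl := by
    refine ⟨fun z => ?_⟩
    obtain ⟨j, w, hw⟩ := hsurj z
    refine ⟨(Sigma.ι (fun j => (Wj j).left) j) w, ?_⟩
    rw [← Scheme.Hom.comp_apply, Sigma.ι_desc]
    exact hw
  haveI : IsAffine W.left := inferInstanceAs (IsAffine (∐ fun j => (Wj j).left))
  -- glue the local closed immersions
  have sqa' : ∀ j, IsPullback (a j) ((AlgSp.yon S).map (v j)) snd
      ((AlgSp.yon S).map (ιj j) ≫ (AlgSp.yon S).map π) := by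
    intro j
    rw [← Functor.map_comp, hιπ]
    exact sqa j
  obtain ⟨V₀, w₀, a₀, sq₀, hk⟩ := Groth.Agent.Lib.Helper12.ZarGlue.exists_rep_of_openCover snd
    ((AlgSp.yon S).map π) Wj ιj V v a sqa' hcovW
  choose k hk1 _ using hk
  haveI hw₀ : IsClosedImmersion w₀.left :=
    Groth.Agent.Lib.Helper12.ZarGlue.property_of_openCover @IsClosedImmersion w₀ Wj ιj hcovW V v k
      hk1 hv
  -- descend the closed subscheme
  haveI : Flat π.left := hπfl
  haveI : Surjective π.left := hπs
  haveI : QuasiCompact π.left := inferInstance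
  obtain ⟨Zc, cl, kl, hcl, sqc⟩ := exists_closed_descent π.left w₀.left (by
    rintro T a b hab ⟨l, hl⟩
    let T' : Over S := Over.mk (a ≫ W.hom)
    let a' : T' ⟶ W := Over.homMk a rfl
    have hb : b ≫ W.hom = a ≫ W.hom := by
      rw [← Over.w π, ← Category.assoc, ← hab, Category.assoc]
    let b' : T' ⟶ W := Over.homMk b hb
    let l' : T' ⟶ V₀ := Over.homMk l (by
      show l ≫ V₀.hom = a ≫ W.hom
      rw [← Over.w w₀, ← Category.assoc, hl])
    have hl' : l' ≫ w₀ = a' := by
      ext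
      exact hl
    have hab' : a' ≫ π = b' ≫ π := by
      ext
      exact hab
    have hw : ((AlgSp.yon S).map l' ≫ a₀) ≫ snd =
        (AlgSp.yon S).map b' ≫ (AlgSp.yon S).map π := by
      rw [Category.assoc, sq₀.w, ← Category.assoc, ← Functor.map_comp, hl', ← Functor.map_comp,
        ← Functor.map_comp, hab']
    obtain ⟨l'', hl''⟩ := (AlgSp.yon S).map_surjective (sq₀.lift _ _ hw)
    have h3 : l'' ≫ w₀ = b' := by
      apply (AlgSp.yon S).map_injective
      rw [Functor.map_comp, hl'', sq₀.lift_snd]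
    exact ⟨l''.left, congrArg (fun x => x.left) h3⟩)
  let Zc' : Over S := Over.mk (cl ≫ Z.hom)
  let c' : Zc' ⟶ Z := Over.homMk cl rfl
  let k' : V₀ ⟶ Zc' := Over.homMk kl (by
    show kl ≫ cl ≫ Z.hom = V₀.hom
    rw [← Category.assoc, ← sqc.w, Category.assoc, Over.w π, Over.w w₀])
  have sqO : IsPullback w₀ k' π c' :=
    IsPullback.of_map (Over.forget S) (by ext; exact sqc.w) sqc
  have sqY := sqO.map (AlgSp.yon S)
  -- the comparison isomorphism
  haveI : Mono w₀.left := inferInstance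
  haveI : Mono w₀ := (Over.forget S).mono_of_mono_map ‹_›
  haveI : Mono ((AlgSp.yon S).map w₀) := inferInstance
  obtain ⟨φ, hφ⟩ := exists_iso_of_local (ι := PUnit.{u+1}) (AlgSp.IsAlgSpace.yon_obj Z) hP₀
    (AlgSp.IsAlgSpace.yon_obj Zc') snd ((AlgSp.yon S).map c')
    (fun _ => (AlgSp.yon S).obj W) (fun _ => (AlgSp.yon S).map π)
    (fun _ => AlgSp.IsAlgSpace.yon_obj W) (isFpqcCover_single π hπfl hπs)
    (fun _ => (AlgSp.yon S).obj V₀) (fun _ => (AlgSp.yon S).map w₀) (fun _ => a₀)
    (fun _ => AlgSp.IsAlgSpace.yon_obj V₀) (fun _ => sq₀)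
    (fun _ => (AlgSp.yon S).obj V₀) (fun _ => (AlgSp.yon S).map w₀)
    (fun _ => (AlgSp.yon S).map k') (fun _ => AlgSp.IsAlgSpace.yon_obj V₀) (fun _ => sqY.flip)
    (fun _ => ⟨𝟙 _, Category.id_comp _⟩) (fun _ => ⟨𝟙 _, Category.id_comp _⟩)
  rw [← hφ]
  haveI : (AlgSp.RepWith (S := S) @IsClosedImmersion).RespectsIso :=
    @MorphismProperty.IsStableUnderBaseChange.respectsIso _ _ _
      (AlgSp.repWith_isStableUnderBaseChange (S := S) @IsClosedImmersion)
  exact (MorphismProperty.cancel_left_of_respectsIso (AlgSp.RepWith @IsClosedImmersion) φ.hom _).2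
    ((AlgSp.repWith_yon_map_iff @IsClosedImmersion c').2 hcl)

/-- The property of morphisms of algebraic spaces over S given by f is a closed immersion
(representable by closed immersions of schemes) is fpqc local on the base. -/
theorem result (S : Scheme.{u}) :
    AlgSp.IsLocalOnBase (AlgSp.IsFpqcCover (S := S)) (AlgSp.RepWith @IsClosedImmersion) := by
  intro ι Y Yi g hY hYi hcov X f hX Xi p q hXi sq
  constructor
  · intro hf i
    exact MorphismProperty.of_isPullback (P := AlgSp.RepWith @IsClosedImmersion) (sq i) hf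
  · intro H
    refine Groth.Agent.S9931.result (X := ⟨X, hX⟩) (Y := ⟨Y, hY⟩) @IsClosedImmersion (Or.inl rfl)
      (ObjectProperty.homMk f) ?_
    intro Z hZ gZ P₀ fst snd sqZ
    have hP₀ : AlgSp.IsAlgSpace P₀ :=
      Groth.Agent.S9874.result S Y hY.1 ⟨X, hX⟩ ⟨(AlgSp.yon S).obj Z, AlgSp.IsAlgSpace.yon_obj Z⟩
        f gZ _ _ _ sqZ
    obtain ⟨m, Wj, c, hWa, hfl, hsurj, hl⟩ := hcov.2 Z hZ gZ
    refine repWith_closed_of_standard_cover hP₀ hZ snd (ι := ULift.{u} (Fin m))
      (fun j => Wj j.down) (fun j => c j.down) (fun j => hWa _) (fun j => hfl _)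
      (fun z => by
        obtain ⟨j, hj⟩ := hsurj z
        exact ⟨⟨j⟩, hj⟩) (fun j => ?_)
    obtain ⟨i, l, hl⟩ := hl j.down
    have hrep := H i
    obtain ⟨V, v, a', sq'⟩ := hrep.1 l
    have hv : IsClosedImmersion v.left := hrep.2 l a' v sq'
    have big := sq'.paste_horiz (sq i)
    rw [hl] at big
    refine ⟨V, v, sqZ.lift (a' ≫ q i) ((AlgSp.yon S).map v ≫ (AlgSp.yon S).map (c j.down))
      (by rw [Category.assoc]; exact big.w), ?_, hv⟩
    refine IsPullback.of_right ?_ (sqZ.lift_snd _ _ _) sqZ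
    rw [sqZ.lift_fst]
    exact big

end Groth.Agent.S10534
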