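import Groth.Statements.S10547
import Mathlib
import Groth.Agent.S10534
import Groth.Agent.S10505
import Groth.Agent.S9934
import Groth.Agent.S9962
import Groth.Agent.S9906
import Groth.Agent.S10194
import Groth.Agent.Lib.Helper12OpenSub
import Groth.Agent.Lib.Helper12OpenSub2
import Groth.Agent.Lib.Helper12LargestOpen

set_option autoImplicit false
universe u
open CategoryTheory CategoryTheory.Limits AlgebraicGeometry
open AlgSp

namespace Groth.Agent.S10547

variable {S : Scheme.{u}}

/-- the image of an immersion of algebraic spaces is locally closed. -/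
theorem isLocallyClosed_range_of_immersion {X Y : AlgSp.Sp S} (hY : AlgSp.IsAlgSpace Y) (p : X ⟶ Y)
    (hp : AlgSp.RepWith @IsImmersion p) :
    IsLocallyClosed (Set.range (AlgSp.Points.map p)) := by
  obtain ⟨V, c, hce, hcs⟩ := hY.atlas
  have hopen' : IsOpenMap (AlgSp.Points.map c) :=
    Groth.Agent.S9908.isOpenMap_map_of_repWith c
      (Groth.Agent.Lib.Helper12.OpenSub.repWith_mono
        (fun _ _ g hg => by haveI : Etale g := hg; infer_instance) hce)
  have hsurj' : Function.Surjective (AlgSp.Points.map c) :=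
    Groth.Agent.S9906.surjective_map_of_repWith c hcs
  have hofPt : AlgSp.Points.ofPt c = AlgSp.Points.map c ∘ AlgSp.Points.schemeHomeo V := by
    funext t
    exact AlgSp.Points.ofPt_eq_map_ofScheme c t
  have hopen : IsOpenMap (AlgSp.Points.ofPt c) := by
    rw [hofPt]
    exact hopen'.comp (AlgSp.Points.schemeHomeo V).isOpenMap
  have hsurj : Function.Surjective (AlgSp.Points.ofPt c) := by
    rw [hofPt]
    exact hsurj'.comp (AlgSp.Points.schemeHomeo V).surjective
  rw [isLocallyClosed_iff_isOpen_coborder]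
  obtain ⟨W, w, pr', sq⟩ := hp.1 c
  haveI : IsImmersion w.left := hp.2 c pr' w sq
  have h2 : AlgSp.Points.ofPt c ⁻¹' Set.range (AlgSp.Points.map p) = Set.range w.left := by
    have := Groth.Agent.S9908.preimage_ofPt_map_image sq Set.univ
    rw [Set.image_univ, Set.preimage_univ, Set.image_univ] at this
    exact this
  have h3 : IsOpen (AlgSp.Points.ofPt c ⁻¹' coborder (Set.range (AlgSp.Points.map p))) := by
    rw [← coborder_preimage hopen (AlgSp.Points.continuous_ofPt c), h2]
    exact w.left.isLocallyClosed_range.isOpen_coborder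
  rw [← Set.image_preimage_eq (coborder (Set.range (AlgSp.Points.map p))) hsurj]
  exact hopen _ h3

open Groth.Agent.Lib.Helper12 in
/-- **immersions descend along open fpqc coverings**: for an fpqc covering by morphisms which are
open on points and jointly surjective, a morphism whose base changes are immersions is an
immersion. -/
theorem repWith_immersion_of_open_cover {ι : Type u} {Y : AlgSp.Sp S} (Yi : ι → AlgSp.Sp S)
    (g : ∀ i, Yi i ⟶ Y) (hY : AlgSp.IsAlgSpace Y) (hYi : ∀ i, AlgSp.IsAlgSpace (Yi i))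
    (hcov : AlgSp.IsFpqcCover Yi g) (hopen : ∀ i, IsOpenMap (AlgSp.Points.map (g i)))
    (hsurj : ∀ y : AlgSp.Points Y, ∃ i, y ∈ Set.range (AlgSp.Points.map (g i)))
    {X : AlgSp.Sp S} (f : X ⟶ Y) (hX : AlgSp.IsAlgSpace X)
    (Xi : ι → AlgSp.Sp S) (p : ∀ i, Xi i ⟶ Yi i) (q : ∀ i, Xi i ⟶ X)
    (hXi : ∀ i, AlgSp.IsAlgSpace (Xi i)) (sq : ∀ i, IsPullback (q i) (p i) f (g i))
    (H : ∀ i, AlgSp.RepWith @IsImmersion (p i)) : AlgSp.RepWith @IsImmersion f := by
  obtain ⟨B, hB⟩ : ∃ B, B = Set.range (AlgSp.Points.map f) := ⟨_, rfl⟩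
  have hA : ∀ i, Set.range (AlgSp.Points.map (p i)) = AlgSp.Points.map (g i) ⁻¹' B := fun i => by
    rw [hB]
    exact OpenSub.range_map_fst_of_isPullback (sq i).flip
  have hcob : ∀ i, AlgSp.Points.map (g i) ⁻¹' coborder B =
      coborder (Set.range (AlgSp.Points.map (p i))) := fun i => by
    rw [hA i]
    exact (coborder_preimage (hopen i) (AlgSp.Points.continuous_map (g i)) B).symm
  have hWopen : IsOpen (coborder B) := by
    have : coborder B = ⋃ i, AlgSp.Points.map (g i) '' (AlgSp.Points.map (g i) ⁻¹' coborder B) := by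
      ext y
      constructor
      · intro hy
        obtain ⟨i, z, rfl⟩ := hsurj y
        exact Set.mem_iUnion.2 ⟨i, z, hy, rfl⟩
      · intro hy
        obtain ⟨i, z, hz, rfl⟩ := Set.mem_iUnion.1 hy
        exact hz
    rw [this]
    refine isOpen_iUnion fun i => hopen i _ ?_
    rw [hcob i]
    exact (isLocallyClosed_range_of_immersion (hYi i) (p i) (H i)).isOpen_coborder
  -- the open subspace
  obtain ⟨Y', j, hj, hY', hrj⟩ : ∃ (Y' : AlgSp.Sp S) (j : Y' ⟶ Y),
      AlgSp.RepWith @IsOpenImmersion j ∧ AlgSp.IsAlgSpace Y' ∧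
        Set.range (AlgSp.Points.map j) = coborder B :=
    ⟨OpenSub.obj Y (coborder B), OpenSub.incl Y (coborder B), OpenSub.repWith_incl hWopen,
      OpenSub.isAlgSpace_obj hY hWopen, OpenSub.range_map_incl _⟩
  obtain ⟨f', hf'⟩ := (Groth.Agent.S10194.exists_factor_iff j hj f).2 (by
    rw [hrj, ← hB]
    exact subset_coborder)
  -- the covering of the open subspace
  have sqY : ∀ i, IsPullback (pullback.fst (g i) j) (pullback.snd (g i) j) (g i) j := fun i =>
    IsPullback.of_hasPullback _ _
  have hfst : ∀ i, AlgSp.RepWith @IsOpenImmersion (pullback.fst (g i) j) := fun i =>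
    MorphismProperty.of_isPullback (P := AlgSp.RepWith @IsOpenImmersion) (sqY i).flip hj
  have hYi' : ∀ i, AlgSp.IsAlgSpace (pullback (g i) j) := fun i =>
    Groth.Agent.S9874.result S Y hY.1 ⟨Yi i, hYi i⟩ ⟨Y', hY'⟩ (g i) j _ _ _ (sqY i)
  have hcov' : AlgSp.IsFpqcCover (fun i => pullback (g i) j) (fun i => pullback.snd (g i) j) :=
    Groth.Agent.S10506.result (X := ⟨Y, hY⟩) (X' := ⟨Y', hY'⟩) (ObjectProperty.homMk j)
      (fun i => ⟨Yi i, hYi i⟩) (fun i => ObjectProperty.homMk (g i))
      (fun i => ⟨pullback (g i) j, hYi' i⟩) (fun i => ObjectProperty.homMk (pullback.snd (g i) j))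
      (fun i => ObjectProperty.homMk (pullback.fst (g i) j)) (fun i => (sqY i).flip) hcov
  have sqX : ∀ i, IsPullback (pullback.fst f' (pullback.snd (g i) j))
      (pullback.snd f' (pullback.snd (g i) j)) f' (pullback.snd (g i) j) := fun i =>
    IsPullback.of_hasPullback _ _
  have hXi' : ∀ i, AlgSp.IsAlgSpace (pullback f' (pullback.snd (g i) j)) := fun i =>
    Groth.Agent.S9874.result S Y' hY'.1 ⟨X, hX⟩ ⟨_, hYi' i⟩ f' _ _ _ _ (sqX i)
  haveI hRI : (AlgSp.RepWith (S := S) @IsImmersion).RespectsIso :=
    @MorphismProperty.IsStableUnderBaseChange.respectsIso _ _ _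
      (AlgSp.repWith_isStableUnderBaseChange (S := S) @IsImmersion)
  have hclosed : ∀ i, AlgSp.RepWith @IsClosedImmersion (pullback.snd f' (pullback.snd (g i) j)) := by
    intro i
    obtain ⟨r, hr⟩ : ∃ r, r = pullback.snd f' (pullback.snd (g i) j) := ⟨_, rfl⟩
    obtain ⟨s, hs⟩ : ∃ s, s = pullback.fst f' (pullback.snd (g i) j) := ⟨_, rfl⟩
    obtain ⟨fs, hfs⟩ : ∃ fs, fs = pullback.fst (g i) j := ⟨_, rfl⟩
    have hfso : AlgSp.RepWith @IsOpenImmersion fs := hfs ▸ hfst i
    have sqXi : IsPullback s r f' (pullback.snd (g i) j) := by rw [hs, hr]; exact sqX i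
    have sqYi : IsPullback fs (pullback.snd (g i) j) (g i) j := by rw [hfs]; exact sqY i
    rw [← hr]
    have big : IsPullback s (r ≫ fs) f (g i) := by
      have := sqXi.paste_vert sqYi.flip
      rw [hf'] at this
      exact this
    have he : (big.isoIsPullback _ _ (sq i)).hom ≫ p i = r ≫ fs :=
      big.isoIsPullback_hom_snd _ _ (sq i)
    obtain ⟨e, hee⟩ : ∃ e : pullback f' (pullback.snd (g i) j) ≅ Xi i, e.hom ≫ p i = r ≫ fs :=
      ⟨_, he⟩
    haveI : Mono fs := LargestOpen.mono_of_open fs hfso
    have hk : IsPullback (𝟙 (Xi i)) (e.inv ≫ r) (p i) fs := by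
      have := LargestOpen.isPullback_id_of_mono (e.inv ≫ r) fs
      rwa [Category.assoc, ← hee, Iso.inv_hom_id_assoc] at this
    have himm' : AlgSp.RepWith @IsImmersion (e.inv ≫ r) :=
      MorphismProperty.of_isPullback (P := AlgSp.RepWith @IsImmersion) hk (H i)
    have himm : AlgSp.RepWith @IsImmersion r :=
      (MorphismProperty.cancel_left_of_respectsIso (AlgSp.RepWith @IsImmersion) e.inv r).1 himm'
    -- the range is closed
    have hrange : Set.range (AlgSp.Points.map r) =
        AlgSp.Points.map fs ⁻¹' (Set.range (AlgSp.Points.map (p i))) := by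
      ext z
      constructor
      · rintro ⟨x, rfl⟩
        refine ⟨AlgSp.Points.map e.hom x, ?_⟩
        rw [← AlgSp.Points.map_comp, hee, AlgSp.Points.map_comp]
      · rintro ⟨x, hx⟩
        refine ⟨AlgSp.Points.map e.inv x, ?_⟩
        apply LargestOpen.injective_map_of_open fs hfso
        rw [← hx, ← AlgSp.Points.map_comp, ← AlgSp.Points.map_comp, ← hee,
          Iso.inv_hom_id_assoc]
    have hfsrange : Set.range (AlgSp.Points.map fs) =
        coborder (Set.range (AlgSp.Points.map (p i))) := by
      rw [OpenSub.range_map_fst_of_isPullback sqYi, hrj, hcob i]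
    have hcl : IsClosed (Set.range (AlgSp.Points.map r)) := by
      rw [hrange]
      have : AlgSp.Points.map fs ⁻¹' (Set.range (AlgSp.Points.map (p i))) =
          AlgSp.Points.map fs ⁻¹' closure (Set.range (AlgSp.Points.map (p i))) := by
        ext z
        constructor
        · intro hz
          exact subset_closure hz
        · intro hz
          have h1 : AlgSp.Points.map fs z ∈ coborder (Set.range (AlgSp.Points.map (p i))) := by
            rw [← hfsrange]
            exact ⟨z, rfl⟩
          have h2 := closure_inter_coborder (s := Set.range (AlgSp.Points.map (p i)))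
          rw [Set.mem_preimage, ← h2]
          exact ⟨hz, h1⟩
      rw [this]
      exact isClosed_closure.preimage (AlgSp.Points.continuous_map fs)
    exact (Groth.Agent.S9934.result (Z := ⟨_, hXi' i⟩) (X := ⟨_, hYi' i⟩) (ObjectProperty.homMk r)
      himm).2 hcl
  have hcl' : AlgSp.RepWith @IsClosedImmersion f' :=
    (Groth.Agent.S10534.result S _ _ hY' hYi' hcov' f' hX _ _ _ hXi' sqX).2 hclosed
  rw [← hf']
  exact (AlgSp.RepWith (S := S) @IsImmersion).comp_mem _ _
    (OpenSub.repWith_mono (fun _ _ k hk => by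
      haveI : IsClosedImmersion k := hk
      change IsImmersion k
      infer_instance) hcl')
    (OpenSub.repWith_mono (fun _ _ k hk => by
      haveI : IsOpenImmersion k := hk
      change IsImmersion k
      infer_instance) hj)

/-- The property of morphisms of algebraic spaces over S given by f is an immersion (representable by
immersions of schemes) is fppf local on the base. -/
theorem result (S : Scheme.{u}) :
    AlgSp.IsLocalOnBase (AlgSp.IsFppfCover (S := S)) (AlgSp.RepWith @IsImmersion) := by
  intro ι Y Yi g hY hYi hcov X f hX Xi p q hXi sq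
  constructor
  · intro hf i
    exact MorphismProperty.of_isPullback (P := AlgSp.RepWith @IsImmersion) (sq i) hf
  · intro H
    have hfpqc := Groth.Agent.S10505.result ⟨Y, hY⟩ (fun i => ⟨Yi i, hYi i⟩)
      (fun i => ObjectProperty.homMk (g i)) hcov
    exact repWith_immersion_of_open_cover Yi g hY hYi hfpqc
      (fun i => Groth.Agent.S9962.isUnivOpenMor_of_flat_lfp (hYi i) hY (g i) (hcov.1 i).1
        (hcov.1 i).2 hY (𝟙 _) (𝟙 _) (g i) IsPullback.of_id_fst)
      hcov.2 f hX Xi p q hXi sq H

end Groth.Agent.S10547
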