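import Groth.Statements.S9932
import Mathlib
import Groth.Agent.S10547
import Groth.Agent.S10531
import Groth.Agent.S10265
import Groth.Agent.Lib.Helper15DiagComp

set_option autoImplicit false
universe u
open CategoryTheory CategoryTheory.Limits AlgebraicGeometry
open AlgSp

namespace Groth.Agent.S9932

/-- (4) ⇒ (1): for P = closed immersion, open immersion or immersion, being representable with P
descends along a surjective etale base change from a scheme. -/
theorem result {S : Scheme.{u}} (P : MorphismProperty Scheme.{u})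
    (hP : P = @IsClosedImmersion ∨ P = @IsOpenImmersion ∨ P = @IsImmersion) {X Y : AlgSp.Space S} (f : X ⟶ Y)
    (V : Over S) (p : (AlgSp.yon S).obj V ⟶ Y.obj) (hp : AlgSp.RepWith @Etale p) (hps : AlgSp.RepWith @Surjective p)
    {P₀ : AlgSp.Sp S} (fst : P₀ ⟶ X.obj) (snd : P₀ ⟶ (AlgSp.yon S).obj V) (sq : IsPullback fst snd f.hom p)
    (h : AlgSp.RepWith P snd) : AlgSp.RepWith P f.hom := by
  have hV : AlgSp.IsAlgSpace ((AlgSp.yon S).obj V) := AlgSp.IsAlgSpace.yon_obj V
  have hP₀ : AlgSp.IsAlgSpace P₀ :=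
    Groth.Agent.S9874.result S Y.obj Y.property.1 X ⟨_, hV⟩ f.hom p _ _ _ sq
  have het : AlgSp.IsEtCover (fun _ : PUnit.{u + 1} => (AlgSp.yon S).obj V) (fun _ => p) :=
    Groth.Agent.Lib.Helper15DiagComp.isEtCover_atlas Y.property p hp hps
  have hfl := Groth.Agent.S10265.result (X := ⟨_, hV⟩) (Y := Y) (ObjectProperty.homMk p) (het.1 PUnit.unit)
  have hfppf : AlgSp.IsFppfCover (fun _ : PUnit.{u + 1} => (AlgSp.yon S).obj V) (fun _ => p) :=
    ⟨fun _ => ⟨hfl.2.2.1, hfl.2.2.2.1⟩, het.2⟩
  have hfpqc : AlgSp.IsFpqcCover (fun _ : PUnit.{u + 1} => (AlgSp.yon S).obj V) (fun _ => p) :=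
    Groth.Agent.S10505.result Y (fun _ => ⟨_, hV⟩) (fun _ => ObjectProperty.homMk p) hfppf
  rcases hP with rfl | rfl | rfl
  · exact (Groth.Agent.S10534.result S _ _ Y.property (fun _ => hV) hfpqc f.hom X.property
      (fun _ => P₀) (fun _ => snd) (fun _ => fst) (fun _ => hP₀) (fun _ => sq)).2 (fun _ => h)
  · exact (Groth.Agent.S10531.result S _ _ Y.property (fun _ => hV) hfpqc f.hom X.property
      (fun _ => P₀) (fun _ => snd) (fun _ => fst) (fun _ => hP₀) (fun _ => sq)).2 (fun _ => h)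
  · exact (Groth.Agent.S10547.result S _ _ Y.property (fun _ => hV) hfppf f.hom X.property
      (fun _ => P₀) (fun _ => snd) (fun _ => fst) (fun _ => hP₀) (fun _ => sq)).2 (fun _ => h)

end Groth.Agent.S9932
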