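import Groth.Statements.S10538
import Mathlib
import Groth.Agent.S10534
import Groth.Agent.S10531
import Groth.Agent.S10519
import Groth.Agent.S9912
import Groth.Agent.Lib.Helper12LargestOpen

set_option autoImplicit false
universe u
open CategoryTheory CategoryTheory.Limits AlgebraicGeometry
open AlgSp

namespace Groth.Agent.S10538

section SchemeLevel

open Groth.Agent.Lib.Helper12

/-- flat base change of the scheme-theoretic image of a quasi-compact morphism. -/
lemma ker_pullback_fst_of_flat {X Y Y' : Scheme.{u}} (g : Y' ⟶ Y) (h : X ⟶ Y) [Flat g]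
    [QuasiCompact h] : (pullback.fst g h).ker = h.ker.comap g := by
  let m : pullback g h ⟶ pullback g h.imageι :=
    pullback.map g h g h.imageι (𝟙 _) h.toImage (𝟙 _) (by simp) (by simp)
  have hm : IsPullback (pullback.snd g h) m h.toImage (pullback.snd g h.imageι) := by
    have big : IsPullback (pullback.snd g h) (pullback.fst g h) (h.toImage ≫ h.imageι) g := by
      rw [h.toImage_imageι]
      exact (IsPullback.of_hasPullback g h).flip
    refine IsPullback.of_bot ?_ ?_ (IsPullback.of_hasPullback g h.imageι).flip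
    · have : m ≫ pullback.fst g h.imageι = pullback.fst g h :=
        (pullback.lift_fst _ _ _).trans (Category.comp_id _)
      rw [this]; exact big
    · exact (pullback.lift_snd _ _ _).symm
  have : IsSchemeTheoreticallyDominant m := IsSchemeTheoreticallyDominant.of_isPullback hm
  have hm1 : m ≫ pullback.fst g h.imageι = pullback.fst g h :=
    (pullback.lift_fst _ _ _).trans (Category.comp_id _)
  change _ = (pullback.fst g h.imageι).ker
  rw [← hm1, ker_comp_of_dominant]

variable {W Z V : Scheme.{u}}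

/-- fpqc descent of the scheme-theoretic image of a quasi-compact immersion. -/
theorem exists_qc_immersion_descent (π : W ⟶ Z) [Flat π] [Surjective π] [QuasiCompact π]
    (i : V ⟶ W) [IsImmersion i] [QuasiCompact i]
    (hst : ∀ (T : Scheme.{u}) (a b : T ⟶ W), a ≫ π = b ≫ π → (∃ l : T ⟶ V, l ≫ i = a) →
      ∃ l : T ⟶ V, l ≫ i = b) :
    ∃ (C : Scheme.{u}) (c : C ⟶ Z) (C₀ : Scheme.{u}) (c₀ : C₀ ⟶ W) (πC : C₀ ⟶ C) (o : V ⟶ C₀),
      IsClosedImmersion c ∧ IsClosedImmersion c₀ ∧ IsPullback c₀ πC π c ∧ IsOpenImmersion o ∧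
        o ≫ c₀ = i := by
  have hle : ∀ (p q : pullback π π ⟶ W) [Flat p] [Flat q], p ≫ π = q ≫ π →
      i.ker.comap q ≤ i.ker.comap p := by
    intro p q _ _ hpq
    obtain ⟨l, hl⟩ := hst (pullback p i) (pullback.fst p i ≫ p) (pullback.fst p i ≫ q)
      (by rw [Category.assoc, Category.assoc, hpq]) ⟨pullback.snd p i, pullback.condition.symm⟩
    rw [← ker_pullback_fst_of_flat, ← ker_pullback_fst_of_flat]
    have : pullback.lift (pullback.fst p i) l hl.symm ≫ pullback.fst q i = pullback.fst p i :=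
      pullback.lift_fst _ _ _
    rw [← this]
    exact Scheme.Hom.le_ker_comp _ _
  have stab : i.ker.comap (pullback.fst π π) = i.ker.comap (pullback.snd π π) :=
    le_antisymm (hle _ _ pullback.condition.symm) (hle _ _ pullback.condition)
  have key := comap_map_eq_of_stable π i.ker stab
  have hcJ : (i.ker.map π).subschemeι.ker = i.ker.map π :=
    Scheme.IdealSheafData.ker_subschemeι _
  have hι : i.imageι.ker = i.ker := Scheme.IdealSheafData.ker_subschemeι _
  have hH : (i.ker.map π).subschemeι.ker ≤ (i.imageι ≫ π).ker := by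
    rw [hcJ]
    exact le_of_eq rfl
  refine ⟨_, (i.ker.map π).subschemeι, _, i.imageι,
    IsClosedImmersion.lift _ (i.imageι ≫ π) hH, i.toImage, inferInstance, inferInstance, ?_,
    inferInstance, i.toImage_imageι⟩
  refine isPullback_of_isClosedImmersion i.imageι _ _ π (IsClosedImmersion.lift_fac _ _ _).symm ?_
  rw [hcJ, hι]
  exact key

end SchemeLevel

variable {S : Scheme.{u}}

/-- glue the base changes of a morphism `P₀ ⟶ h_Z` to the members of a standard fpqc covering of
the affine scheme `Z` into the base change to the coproduct of the covering, together with the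
stability of the glued scheme under the descent datum (on functors of points). -/
theorem exists_glued_cover (P : MorphismProperty Scheme.{u}) [IsZariskiLocalAtTarget P]
    {P₀ : AlgSp.Sp S} {Z : Over S} (hZ : IsAffine Z.left)
    (snd : P₀ ⟶ (AlgSp.yon S).obj Z)
    {ι : Type u} [Finite ι] (Wj : ι → Over S) (c : ∀ j, Wj j ⟶ Z)
    (hWa : ∀ j, IsAffine (Wj j).left)
    (hfl : ∀ j, Flat (c j).left) (hsurj : ∀ z : Z.left, ∃ j, z ∈ Set.range (c j).left)
    (H : ∀ j, ∃ (V : Over S) (v : V ⟶ Wj j) (a : (AlgSp.yon S).obj V ⟶ P₀),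
       IsPullback a ((AlgSp.yon S).map v) snd ((AlgSp.yon S).map (c j)) ∧ P v.left) :
    ∃ (W : Over S) (π : W ⟶ Z) (V₀ : Over S) (w₀ : V₀ ⟶ W) (a₀ : (AlgSp.yon S).obj V₀ ⟶ P₀),
      IsAffine W.left ∧ Flat π.left ∧ Surjective π.left ∧
      IsPullback a₀ ((AlgSp.yon S).map w₀) snd ((AlgSp.yon S).map π) ∧ P w₀.left ∧
      (∀ (T : Scheme.{u}) (a b : T ⟶ W.left), a ≫ π.left = b ≫ π.left →
        (∃ l : T ⟶ V₀.left, l ≫ w₀.left = a) → ∃ l : T ⟶ V₀.left, l ≫ w₀.left = b) := by
  haveI := hZ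
  haveI := hWa
  choose V v a sqa hv using H
  let Wl : Scheme.{u} := ∐ fun j => (Wj j).left
  let πl : Wl ⟶ Z.left := Sigma.desc fun j => (c j).left
  let W : Over S := Over.mk (πl ≫ Z.hom)
  let π : W ⟶ Z := Over.homMk πl rfl
  let ιj : ∀ j, Wj j ⟶ W := fun j => Over.homMk (Sigma.ι (fun j => (Wj j).left) j) (by
    show Sigma.ι _ j ≫ πl ≫ Z.hom = (Wj j).hom
    rw [← Category.assoc, Sigma.ι_desc]
    exact Over.w (c j))
  have hιπ : ∀ j, ιj j ≫ π = c j := fun j => by
    ext
    exact Sigma.ι_desc _ _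
  haveI : ∀ j, IsOpenImmersion (ιj j).left := fun j =>
    inferInstanceAs (IsOpenImmersion (Sigma.ι (fun j => (Wj j).left) j))
  have hcovW : ∀ t : W.left, ∃ j, t ∈ Set.range (ιj j).left := fun t => by
    obtain ⟨j, y, hy⟩ := (sigmaOpenCover (fun j => (Wj j).left)).exists_eq t
    exact ⟨j, y, hy⟩
  have hπfl : Flat πl := IsZariskiLocalAtSource.sigmaDesc (P := @Flat) hfl
  have hπs : Surjective πl := by
    refine ⟨fun z => ?_⟩
    obtain ⟨j, w, hw⟩ := hsurj z
    refine ⟨(Sigma.ι (fun j => (Wj j).left) j) w, ?_⟩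
    rw [← Scheme.Hom.comp_apply, Sigma.ι_desc]
    exact hw
  have hWaff : IsAffine W.left := inferInstanceAs (IsAffine (∐ fun j => (Wj j).left))
  have sqa' : ∀ j, IsPullback (a j) ((AlgSp.yon S).map (v j)) snd
      ((AlgSp.yon S).map (ιj j) ≫ (AlgSp.yon S).map π) := by
    intro j
    rw [← Functor.map_comp, hιπ]
    exact sqa j
  obtain ⟨V₀, w₀, a₀, sq₀, hk⟩ := Groth.Agent.Lib.Helper12.ZarGlue.exists_rep_of_openCover snd
    ((AlgSp.yon S).map π) Wj ιj V v a sqa' hcovW
  choose k hk1 _ using hk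
  have hw₀ : P w₀.left :=
    Groth.Agent.Lib.Helper12.ZarGlue.property_of_openCover P w₀ Wj ιj hcovW V v k hk1 hv
  refine ⟨W, π, V₀, w₀, a₀, hWaff, hπfl, hπs, sq₀, hw₀, ?_⟩
  rintro T a b hab ⟨l, hl⟩
  let T' : Over S := Over.mk (a ≫ W.hom)
  let a' : T' ⟶ W := Over.homMk a rfl
  have hb : b ≫ W.hom = a ≫ W.hom := by
    rw [← Over.w π, ← Category.assoc, ← hab, Category.assoc]
  let b' : T' ⟶ W := Over.homMk b hb
  let l' : T' ⟶ V₀ := Over.homMk l (by
    show l ≫ V₀.hom = a ≫ W.hom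
    rw [← Over.w w₀, ← Category.assoc, hl])
  have hl' : l' ≫ w₀ = a' := by
    ext
    exact hl
  have hab' : a' ≫ π = b' ≫ π := by
    ext
    exact hab
  have hw : ((AlgSp.yon S).map l' ≫ a₀) ≫ snd =
      (AlgSp.yon S).map b' ≫ (AlgSp.yon S).map π := by
    rw [Category.assoc, sq₀.w, ← Category.assoc, ← Functor.map_comp, hl', ← Functor.map_comp,
      ← Functor.map_comp, hab']
  obtain ⟨l'', hl''⟩ := (AlgSp.yon S).map_surjective (sq₀.lift _ _ hw)
  have h3 : l'' ≫ w₀ = b' := by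
    apply (AlgSp.yon S).map_injective
    rw [Functor.map_comp, hl'', sq₀.lift_snd]
  exact ⟨l''.left, congrArg (fun x => x.left) h3⟩

/-- **fpqc descent of quasi-compact immersions into an affine scheme**. -/
theorem repWith_immersion_of_standard_cover
    {P₀ : AlgSp.Sp S} (hP₀ : AlgSp.IsAlgSpace P₀) {Z : Over S} (hZ : IsAffine Z.left)
    (snd : P₀ ⟶ (AlgSp.yon S).obj Z)
    {ι : Type u} [Finite ι] (Wj : ι → Over S) (c : ∀ j, Wj j ⟶ Z)
    (hWa : ∀ j, IsAffine (Wj j).left)
    (hfl : ∀ j, Flat (c j).left) (hsurj : ∀ z : Z.left, ∃ j, z ∈ Set.range (c j).left)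
    (H : ∀ j, ∃ (V : Over S) (v : V ⟶ Wj j) (a : (AlgSp.yon S).obj V ⟶ P₀),
       IsPullback a ((AlgSp.yon S).map v) snd ((AlgSp.yon S).map (c j)) ∧
         (@IsImmersion ⊓ @QuasiCompact : MorphismProperty Scheme.{u}) v.left) :
    AlgSp.RepWith @IsImmersion snd := by
  obtain ⟨W, π, V₀, w₀, a₀, hWaff, hπfl, hπs, sq₀, hw₀, hst⟩ :=
    exists_glued_cover (@IsImmersion ⊓ @QuasiCompact) hZ snd Wj c hWa hfl hsurj H
  haveI := hZ
  haveI := hWaff
  haveI : Flat π.left := hπfl
  haveI : Surjective π.left := hπs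
  haveI : QuasiCompact π.left := inferInstance
  haveI : IsImmersion w₀.left := hw₀.1
  haveI : QuasiCompact w₀.left := hw₀.2
  obtain ⟨C, cl, C₀, c₀l, πCl, ol, hcl, hc₀l, sqc, hol, hoc⟩ :=
    exists_qc_immersion_descent π.left w₀.left hst
  let C' : Over S := Over.mk (cl ≫ Z.hom)
  let c' : C' ⟶ Z := Over.homMk cl rfl
  let C₀' : Over S := Over.mk (c₀l ≫ W.hom)
  let c₀' : C₀' ⟶ W := Over.homMk c₀l rfl
  let πC' : C₀' ⟶ C' := Over.homMk πCl (by
    show πCl ≫ cl ≫ Z.hom = c₀l ≫ W.hom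
    rw [← Category.assoc, ← sqc.w, Category.assoc, Over.w π])
  let o' : V₀ ⟶ C₀' := Over.homMk ol (by
    show ol ≫ c₀l ≫ W.hom = V₀.hom
    rw [← Category.assoc, hoc, Over.w w₀])
  have ho' : o' ≫ c₀' = w₀ := by
    ext
    exact hoc
  have sqO : IsPullback c₀' πC' π c' :=
    IsPullback.of_map (Over.forget S) (by ext; exact sqc.w) sqc
  have sqY := sqO.map (AlgSp.yon S)
  haveI : Mono c₀'.left := inferInstanceAs (Mono c₀l)
  haveI : Mono c₀' := (Over.forget S).mono_of_mono_map ‹_›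
  haveI : Mono ((AlgSp.yon S).map c₀') := inferInstance
  have hcovW := Groth.Agent.S10534.isFpqcCover_single π hπfl hπs
  have hA : AlgSp.IsAlgSpace (pullback snd ((AlgSp.yon S).map c')) :=
    Groth.Agent.S9874.result S _ (AlgSp.IsAlgSpace.yon_obj Z).1 ⟨P₀, hP₀⟩
      ⟨_, AlgSp.IsAlgSpace.yon_obj C'⟩ snd ((AlgSp.yon S).map c') _ _ _
      (IsPullback.of_hasPullback _ _)
  -- (a) the projection to `P₀` is an isomorphism
  haveI hiso : IsIso (pullback.fst snd ((AlgSp.yon S).map c')) :=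
    Groth.Agent.S10534.isIso_snd_of_local (ι := PUnit.{u+1}) (AlgSp.IsAlgSpace.yon_obj Z)
      (AlgSp.IsAlgSpace.yon_obj C') hP₀ ((AlgSp.yon S).map c') snd _ _
      (IsPullback.of_hasPullback snd ((AlgSp.yon S).map c')).flip
      (fun _ => (AlgSp.yon S).obj W) (fun _ => (AlgSp.yon S).map π)
      (fun _ => AlgSp.IsAlgSpace.yon_obj W) hcovW
      (fun _ => (AlgSp.yon S).obj C₀') (fun _ => (AlgSp.yon S).map c₀')
      (fun _ => (AlgSp.yon S).map πC') (fun _ => sqY.flip)
      (fun _ => (AlgSp.yon S).obj V₀) (fun _ => (AlgSp.yon S).map w₀) (fun _ => a₀)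
      (fun _ => AlgSp.IsAlgSpace.yon_obj V₀) (fun _ => sq₀)
      (fun _ => ⟨(AlgSp.yon S).map o', by rw [← Functor.map_comp, ho']⟩)
  -- (b) the projection to `h_C` is an open immersion
  have hcovC : AlgSp.IsFpqcCover (fun _ : PUnit.{u+1} => (AlgSp.yon S).obj C₀')
      (fun _ => (AlgSp.yon S).map πC') :=
    Groth.Agent.S10506.result (X := ⟨_, AlgSp.IsAlgSpace.yon_obj Z⟩)
      (X' := ⟨_, AlgSp.IsAlgSpace.yon_obj C'⟩) (ObjectProperty.homMk ((AlgSp.yon S).map c'))
      (fun _ => ⟨_, AlgSp.IsAlgSpace.yon_obj W⟩) (fun _ => ObjectProperty.homMk ((AlgSp.yon S).map π))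
      (fun _ => ⟨_, AlgSp.IsAlgSpace.yon_obj C₀'⟩)
      (fun _ => ObjectProperty.homMk ((AlgSp.yon S).map πC'))
      (fun _ => ObjectProperty.homMk ((AlgSp.yon S).map c₀')) (fun _ => sqY.flip) hcovW
  have hwq : a₀ ≫ snd = (AlgSp.yon S).map (o' ≫ πC') ≫ (AlgSp.yon S).map c' := by
    rw [sq₀.w, ← ho', ← Functor.map_comp, ← Functor.map_comp, Category.assoc, Category.assoc,
      sqO.w]
  have hbig : IsPullback a₀ ((AlgSp.yon S).map o') snd
      ((AlgSp.yon S).map πC' ≫ (AlgSp.yon S).map c') := by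
    have h1 := Groth.Agent.Lib.Helper12.LargestOpen.isPullback_id_of_mono
      ((AlgSp.yon S).map o') ((AlgSp.yon S).map c₀')
    rw [← Functor.map_comp, ho'] at h1
    have h2 := h1.paste_horiz sq₀
    rw [Category.id_comp, sqY.w] at h2
    exact h2
  have hleft : IsPullback (pullback.lift a₀ ((AlgSp.yon S).map (o' ≫ πC')) hwq)
      ((AlgSp.yon S).map o') (pullback.snd snd ((AlgSp.yon S).map c'))
      ((AlgSp.yon S).map πC') := by
    refine IsPullback.of_right ?_ ?_ (IsPullback.of_hasPullback snd ((AlgSp.yon S).map c'))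
    · rw [pullback.lift_fst]
      exact hbig
    · rw [pullback.lift_snd, Functor.map_comp]
  have hopen : AlgSp.RepWith @IsOpenImmersion (pullback.snd snd ((AlgSp.yon S).map c')) :=
    (Groth.Agent.S10531.result S _ _ (AlgSp.IsAlgSpace.yon_obj C')
      (fun _ => AlgSp.IsAlgSpace.yon_obj C₀') hcovC (pullback.snd snd ((AlgSp.yon S).map c')) hA
      (fun _ => (AlgSp.yon S).obj V₀) (fun _ => (AlgSp.yon S).map o') (fun _ => _)
      (fun _ => AlgSp.IsAlgSpace.yon_obj V₀) (fun _ => hleft)).2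
      (fun _ => (AlgSp.repWith_yon_map_iff @IsOpenImmersion o').2 hol)
  -- (c) conclusion
  have hcomp : snd = inv (pullback.fst snd ((AlgSp.yon S).map c')) ≫
      pullback.snd snd ((AlgSp.yon S).map c') ≫ (AlgSp.yon S).map c' := by
    rw [IsIso.eq_inv_comp]
    exact pullback.condition
  haveI : (AlgSp.RepWith (S := S) @IsImmersion).RespectsIso :=
    @MorphismProperty.IsStableUnderBaseChange.respectsIso _ _ _
      (AlgSp.repWith_isStableUnderBaseChange (S := S) @IsImmersion)
  rw [hcomp, MorphismProperty.cancel_left_of_respectsIso (AlgSp.RepWith @IsImmersion)]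
  exact (AlgSp.RepWith (S := S) @IsImmersion).comp_mem _ _
    (Groth.Agent.Lib.Helper12.OpenSub.repWith_mono (fun _ _ k hk => by
      haveI : IsOpenImmersion k := hk
      change IsImmersion k
      infer_instance) hopen)
    ((AlgSp.repWith_yon_map_iff @IsImmersion c').2 (by
      haveI : IsClosedImmersion cl := hcl
      change IsImmersion cl
      infer_instance))

/-- The property of morphisms of algebraic spaces over S given by f is a quasi-compact immersion
is fpqc local on the base. -/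
theorem result (S : Scheme.{u}) :
    AlgSp.IsLocalOnBase (AlgSp.IsFpqcCover (S := S)) (AlgSp.RepWith (@IsImmersion ⊓ @QuasiCompact)) := by
  intro ι Y Yi g hY hYi hcov X f hX Xi p q hXi sq
  constructor
  · intro hf i
    exact MorphismProperty.of_isPullback (P := AlgSp.RepWith (@IsImmersion ⊓ @QuasiCompact))
      (sq i) hf
  · intro H
    have hqc : AlgSp.IsQuasiCompactMor f :=
      (Groth.Agent.S10519.result S Yi g hY hYi hcov f hX Xi p q hXi sq).2 (fun i =>
        (Groth.Agent.S9912.result (X := ⟨Xi i, hXi i⟩) (Y := ⟨Yi i, hYi i⟩)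
          (ObjectProperty.homMk (p i)) (H i).1).1
          (Groth.Agent.Lib.Helper12.OpenSub.repWith_mono (fun _ _ k hk => hk.2) (H i)))
    have himm : AlgSp.RepWith @IsImmersion f := by
      refine Groth.Agent.S9931.result (X := ⟨X, hX⟩) (Y := ⟨Y, hY⟩) @IsImmersion
        (Or.inr (Or.inr rfl)) (ObjectProperty.homMk f) ?_
      intro Z hZ gZ P₀ fst snd sqZ
      have hP₀ : AlgSp.IsAlgSpace P₀ :=
        Groth.Agent.S9874.result S Y hY.1 ⟨X, hX⟩
          ⟨(AlgSp.yon S).obj Z, AlgSp.IsAlgSpace.yon_obj Z⟩ f gZ _ _ _ sqZ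
      obtain ⟨m, Wj, c, hWa, hfl, hsurj, hl⟩ := hcov.2 Z hZ gZ
      refine repWith_immersion_of_standard_cover hP₀ hZ snd (ι := ULift.{u} (Fin m))
        (fun j => Wj j.down) (fun j => c j.down) (fun j => hWa _) (fun j => hfl _)
        (fun z => by
          obtain ⟨j, hj⟩ := hsurj z
          exact ⟨⟨j⟩, hj⟩) (fun j => ?_)
      obtain ⟨i, l, hl⟩ := hl j.down
      have hrep := H i
      obtain ⟨V, v, a', sq'⟩ := hrep.1 l
      have hv := hrep.2 l a' v sq'
      have big := sq'.paste_horiz (sq i)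
      rw [hl] at big
      refine ⟨V, v, sqZ.lift (a' ≫ q i) ((AlgSp.yon S).map v ≫ (AlgSp.yon S).map (c j.down))
        (by rw [Category.assoc]; exact big.w), ?_, hv⟩
      refine IsPullback.of_right ?_ (sqZ.lift_snd _ _ _) sqZ
      rw [sqZ.lift_fst]
      exact big
    have hqc' : AlgSp.RepWith @QuasiCompact f :=
      (Groth.Agent.S9912.result (X := ⟨X, hX⟩) (Y := ⟨Y, hY⟩) (ObjectProperty.homMk f) himm.1).2 hqc
    exact ⟨himm.1, fun U V g fst snd sq => ⟨himm.2 g fst snd sq, hqc'.2 g fst snd sq⟩⟩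

end Groth.Agent.S10538
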