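import Groth.Statements.S10582
import Mathlib
import Groth.Agent.S9927
import Groth.Agent.S9929
import Groth.Agent.S10177
import Groth.Agent.S10175
import Groth.Agent.S9874
import Groth.Agent.S9906
import Groth.Agent.S10509
import Groth.Agent.Lib.Helper12MonoFactor

set_option autoImplicit false
universe u
open CategoryTheory CategoryTheory.Limits AlgebraicGeometry
open AlgSp

namespace Groth.Agent.S10582

open Groth.Agent.S9929

/-- the base change of a quasi-compact flat surjective monomorphism to an affine étale chart is an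
isomorphism. -/
theorem isIso_snd_of_affine {S : Scheme.{u}} {X Y : AlgSp.Space S} (f : X ⟶ Y)
    (hqc : AlgSp.IsQuasiCompactMor f.hom) (hflat : AlgSp.LocP @Flat f.hom)
    (hsurj : AlgSp.IsSurjectiveMor f.hom) [Mono f.hom] {V : Over S} [IsAffine V.left]
    (b : (AlgSp.yon S).obj V ⟶ Y.obj) (hb : AlgSp.RepWith @Etale b) {P : AlgSp.Sp S}
    (fst : P ⟶ X.obj) (snd : P ⟶ (AlgSp.yon S).obj V) (sq : IsPullback fst snd f.hom b) :
    IsIso snd := by
  have hV : AlgSp.IsAlgSpace ((AlgSp.yon S).obj V) := AlgSp.IsAlgSpace.yon_obj V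
  have hP : AlgSp.IsAlgSpace P :=
    Groth.Agent.S9874.result S Y.obj Y.property.diag X ⟨_, hV⟩ f.hom b P fst snd sq
  have hVqc : AlgSp.IsQuasiCompactSp ((AlgSp.yon S).obj V) := by
    obtain ⟨U, p, h1, h2⟩ := hV.atlas
    refine ⟨V, 𝟙 _, ?_, ?_, inferInstance⟩
    · rw [← (AlgSp.yon S).map_id]
      exact (AlgSp.repWith_yon_map_iff _ _).2 (by dsimp; infer_instance)
    · rw [← (AlgSp.yon S).map_id]
      exact (AlgSp.repWith_yon_map_iff _ _).2 (by dsimp; infer_instance)
  obtain ⟨W, a, hae, has, hWc⟩ := hqc hV hVqc b fst snd sq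
  haveI : CompactSpace W.left := hWc
  haveI : Mono snd := sq.mono_snd_of_mono
  obtain ⟨g, hg⟩ := (AlgSp.yon S).map_surjective (a ≫ snd)
  -- `g` is flat
  have hfste : AlgSp.RepWith @Etale fst :=
    MorphismProperty.of_isPullback (P := AlgSp.RepWith @Etale) sq.flip hb
  haveI : Flat g.left := by
    refine hflat (a ≫ fst) b g (MorphismProperty.comp_mem _ _ _ hae hfste) hb ?_
    rw [Category.assoc, sq.w, ← Category.assoc, hg]
  -- `g` is quasi-compact
  haveI : QuasiCompact g.left := (quasiCompact_iff_compactSpace g.left).2 inferInstance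
  -- `g` is surjective
  haveI : Surjective g.left := by
    constructor
    intro v
    obtain ⟨x, hx⟩ := hsurj (AlgSp.Points.ofPt b v)
    obtain ⟨p, hp1, hp2⟩ := Groth.Agent.S10175.exists_point_of_isPullback sq.flip
      (AlgSp.Points.ofScheme V v) x (by
        rw [hx, AlgSp.Points.ofPt_eq_map_ofScheme])
    obtain ⟨w, rfl⟩ := Groth.Agent.S10177.surjective_ofPt a has p
    refine ⟨w, ?_⟩
    have h1 : AlgSp.Points.ofPt ((AlgSp.yon S).map g) w = AlgSp.Points.ofScheme V v := by
      rw [hg, ← AlgSp.Points.map_ofPt, hp1]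
    have h2 := AlgSp.Points.toScheme_ofPt g w
    rw [h1, AlgSp.Points.toScheme_ofScheme] at h2
    exact h2.symm
  -- the self fibre product
  obtain ⟨R, r2, r1', sqR⟩ := hae.1 a
  obtain ⟨r1, rfl⟩ := (AlgSp.yon S).map_surjective r1'
  haveI : Etale r2.left := hae.2 _ _ r2 sqR
  have sqR' := isPullback_comp_mono sqR snd
  rw [← hg] at sqR'
  have sqO : IsPullback r1 r2 g g := by
    refine IsPullback.of_map (AlgSp.yon S) ?_ sqR'
    apply (AlgSp.yon S).map_injective
    rw [Functor.map_comp, Functor.map_comp]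
    exact sqR'.w
  have sqL : IsPullback r1.left r2.left g.left g.left := sqO.map (Over.forget S)
  have hQ : (@Surjective ⊓ @Flat ⊓ @QuasiCompact : MorphismProperty Scheme.{u}) g.left :=
    ⟨⟨inferInstance, inferInstance⟩, inferInstance⟩
  have het : Etale g.left :=
    MorphismProperty.of_isPullback_of_descendsAlong (P := @Etale)
      (Q := @Surjective ⊓ @Flat ⊓ @QuasiCompact) sqL.flip hQ (inferInstance : Etale r2.left)
  haveI : Epi ((AlgSp.yon S).map g) :=
    Groth.Agent.S9927.epi_of_repWith _ ((AlgSp.repWith_yon_map_iff _ _).2 het)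
      ((AlgSp.repWith_yon_map_iff _ _).2 (inferInstance : Surjective g.left))
  rw [hg] at this
  haveI : Epi snd := epi_of_epi a snd
  exact isIso_of_mono_of_epi snd

/-- A monomorphism of algebraic spaces that is quasi-compact, flat and surjective is an isomorphism. -/
theorem result {S : Scheme.{u}} {X Y : AlgSp.Space S} (f : X ⟶ Y)
    (hqc : AlgSp.IsQuasiCompactMor f.hom) (hflat : AlgSp.LocP @Flat f.hom) (hsurj : AlgSp.IsSurjectiveMor f.hom)
    [Mono f.hom] : IsIso f.hom := by
  obtain ⟨U, c, hce, hcs⟩ := Y.property.atlas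
  haveI : Epi c := Groth.Agent.S9927.epi_of_repWith c hce hcs
  have key : ∃ d : (AlgSp.yon S).obj U ⟶ X.obj, d ≫ f.hom = c := by
    apply Groth.Agent.Lib.Helper12.MonoFactor.exists_factor_of_openCover f.hom c
    intro u
    obtain ⟨V, hV, huV, -⟩ := (U.left.isBasis_affineOpens).exists_subset_of_mem_open
      (Set.mem_univ u) isOpen_univ
    obtain ⟨V₀, hV', rfl⟩ := hV
    let V' : U.left.Opens := V₀
    refine ⟨V', huV, ?_⟩
    let U₀ : Over S := Over.mk (V'.ι ≫ U.hom)
    let j : U₀ ⟶ U := Over.homMk V'.ι rfl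
    haveI : IsAffine U₀.left := hV'
    have hb : AlgSp.RepWith @Etale ((AlgSp.yon S).map j ≫ c) :=
      MorphismProperty.comp_mem _ _ _
        ((AlgSp.repWith_yon_map_iff _ _).2 (show Etale V'.ι from inferInstance)) hce
    have sq := IsPullback.of_hasPullback f.hom ((AlgSp.yon S).map j ≫ c)
    haveI := isIso_snd_of_affine f hqc hflat hsurj _ hb _ _ sq
    refine ⟨inv (pullback.snd f.hom ((AlgSp.yon S).map j ≫ c)) ≫ pullback.fst _ _, ?_⟩
    rw [Category.assoc, pullback.condition, IsIso.inv_hom_id_assoc]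
  obtain ⟨d, hd⟩ := key
  haveI : Epi f.hom := epi_of_epi_fac hd
  exact isIso_of_mono_of_epi f.hom

end Groth.Agent.S10582
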