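import Groth.Statements.S9725
import Groth.Agent.Lib.T2H2SliceSmoothSch

set_option autoImplicit false
universe u
open FlatMor

namespace Groth.Agent.S9725

open AlgebraicGeometry CategoryTheory Limits in
/-- Let f : X ⟶ S be a morphism and x a point such that f is smooth on an open neighbourhood of x, and
let h be an element of the maximal ideal of the local ring O_{X,x} such that the image of dh in
Ω_{O_{X,x}/O_{S,f x}} ⊗ κ(x) (the fibre at x of the sheaf of differentials of X over S) is nonzero.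
Then there are an affine open U ∋ x and a nonzerodivisor h' of Γ(X, U) with germ h at x such that
the closed subscheme V(h') of U, an effective Cartier divisor through x, is smooth over S. -/
theorem result {X S : Scheme.{u}} (f : X ⟶ S) (x : X)
    (W : X.Opens) (hxW : x ∈ W) (hW : Smooth (W.ι ≫ f))
    (h : ↑(X.presheaf.stalk x)) (hm : h ∈ IsLocalRing.maximalIdeal ↑(X.presheaf.stalk x))
    (hd : letI := (f.stalkMap x).hom.toAlgebra
      (1 : IsLocalRing.ResidueField ↑(X.presheaf.stalk x)) ⊗ₜ[↑(X.presheaf.stalk x)]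
          (KaehlerDifferential.D ↑(S.presheaf.stalk (f x)) ↑(X.presheaf.stalk x) h) ≠ 0) :
    ∃ (U : X.Opens) (hU : IsAffineOpen U) (hx : x ∈ U) (h' : Γ(X, U)), X.presheaf.germ U x hx h' = h ∧
      h' ∈ nonZeroDivisors Γ(X, U) ∧
      Smooth (Spec.map (CommRingCat.ofHom (Ideal.Quotient.mk (Ideal.span {h'}))) ≫ hU.fromSpec ≫ f) := by
  obtain ⟨_, ⟨S₀, hS₀ : IsAffineOpen S₀, rfl⟩, hfxS₀, -⟩ :=
    S.isBasis_affineOpens.exists_subset_of_mem_open (Set.mem_univ (f x)) isOpen_univ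
  obtain ⟨W', hxW', s, hs⟩ := TopCat.Presheaf.exists_germ_eq X.presheaf h
  obtain ⟨_, ⟨V, hV : IsAffineOpen V, rfl⟩, hxV, hVle⟩ :=
    X.isBasis_affineOpens.exists_subset_of_mem_open
      (show x ∈ W' ⊓ (W ⊓ f ⁻¹ᵁ S₀) from ⟨hxW', hxW, hfxS₀⟩) (W' ⊓ (W ⊓ f ⁻¹ᵁ S₀)).isOpen
  have hVW' : V ≤ W' := fun y hy => (hVle hy).1
  have hVW : V ≤ W := fun y hy => (hVle hy).2.1
  have hVS : V ≤ f ⁻¹ᵁ S₀ := fun y hy => (hVle hy).2.2
  have hgerm : X.presheaf.germ V x hxV (X.presheaf.map (homOfLE hVW').op s) = h := by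
    rw [TopCat.Presheaf.germ_res_apply]
    exact hs
  subst hgerm
  obtain ⟨U, hU, hUV, hxU, hnzd, hsm⟩ :=
    Groth.Agent.Lib.T2H2.SliceSmoothSch.exists_smooth_slice f x hS₀ hV hVS hxV
      (fun U hU hUV => Groth.Agent.Lib.T2H2.SliceSmoothSch.smooth_appLE_of_le f W hW hS₀ hU
        (hUV.trans hVW) (hUV.trans hVS)) _ hm hd
  refine ⟨U, hU, hxU, X.presheaf.map (homOfLE hUV).op (X.presheaf.map (homOfLE hVW').op s),
    ?_, hnzd, ?_⟩
  · rw [TopCat.Presheaf.germ_res_apply]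
  · exact Groth.Agent.Lib.T2H2.SliceSmoothSch.smooth_SpecMap_quotient_comp f hS₀ hU
      (hUV.trans hVS) _ hsm

end Groth.Agent.S9725
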