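import Groth.Statements.S1348
import Groth.Agent.Lib.T2H2SliceFlatSch

set_option autoImplicit false
universe u
open FlatMor

namespace Groth.Agent.S1348

open AlgebraicGeometry CategoryTheory Limits in
/-- Let f be locally of finite presentation and flat at a point x with image s, and let h be an element
of the maximal ideal of the local ring at x whose image in the local ring of the fibre (the local
ring at x modulo the ideal generated by the maximal ideal at s) is a nonzerodivisor. Then there is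
an affine open neighbourhood U of x and a nonzerodivisor of its coordinate ring with germ h at x (so
its zero locus is an effective Cartier divisor of U through x) whose zero scheme is flat and locally
of finite presentation over the base. -/
theorem result {X S : Scheme.{u}} (f : X ⟶ S) [LocallyOfFinitePresentation f] (x : X)
    (hflat : (f.stalkMap x).hom.Flat) (h : X.presheaf.stalk x) (hm : h ∈ IsLocalRing.maximalIdeal (X.presheaf.stalk x))
    (hreg : Ideal.Quotient.mk (Ideal.map (f.stalkMap x).hom (IsLocalRing.maximalIdeal (S.presheaf.stalk (f x)))) h ∈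
      nonZeroDivisors (X.presheaf.stalk x ⧸ Ideal.map (f.stalkMap x).hom (IsLocalRing.maximalIdeal (S.presheaf.stalk (f x))))) :
    ∃ (U : X.Opens) (hU : IsAffineOpen U) (hx : x ∈ U) (h' : Γ(X, U)), X.presheaf.germ U x hx h' = h ∧ h' ∈ nonZeroDivisors Γ(X, U) ∧
      Flat (Spec.map (CommRingCat.ofHom (Ideal.Quotient.mk (Ideal.span {h'}))) ≫ hU.fromSpec ≫ f) ∧
      LocallyOfFinitePresentation (Spec.map (CommRingCat.ofHom (Ideal.Quotient.mk (Ideal.span {h'}))) ≫ hU.fromSpec ≫ f) := by
  obtain ⟨_, ⟨S₀, hS₀ : IsAffineOpen S₀, rfl⟩, hfxS₀, -⟩ :=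
    S.isBasis_affineOpens.exists_subset_of_mem_open (Set.mem_univ (f x)) isOpen_univ
  obtain ⟨W, hxW, s, hs⟩ := TopCat.Presheaf.exists_germ_eq X.presheaf h
  obtain ⟨_, ⟨V, hV : IsAffineOpen V, rfl⟩, hxV, hVle⟩ :=
    X.isBasis_affineOpens.exists_subset_of_mem_open
      (show x ∈ W ⊓ f ⁻¹ᵁ S₀ from ⟨hxW, hfxS₀⟩) (W ⊓ f ⁻¹ᵁ S₀).isOpen
  have hVW : V ≤ W := fun y hy => (hVle hy).1
  have hVS : V ≤ f ⁻¹ᵁ S₀ := fun y hy => (hVle hy).2
  have hgerm : X.presheaf.germ V x hxV (X.presheaf.map (homOfLE hVW).op s) = h := by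
    rw [TopCat.Presheaf.germ_res_apply]
    exact hs
  subst hgerm
  obtain ⟨U, hU, hUV, hxU, hnzd, hfl⟩ :=
    Groth.Agent.Lib.T2H2.SliceFlatSch.exists_slice f x hflat hS₀ hV hVS hxV _ hm hreg
  refine ⟨U, hU, hxU, X.presheaf.map (homOfLE hUV).op (X.presheaf.map (homOfLE hVW).op s),
    ?_, hnzd, ?_, ?_⟩
  · rw [TopCat.Presheaf.germ_res_apply]
  · exact Groth.Agent.Lib.T2H2.SliceFlatSch.flat_SpecMap_quotient_comp f hS₀ hU (hUV.trans hVS) _
      hfl
  · exact Groth.Agent.Lib.T2H2.SliceFlatSch.lfp_SpecMap_quotient_comp f hS₀ hU (hUV.trans hVS) _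

end Groth.Agent.S1348
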