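import Groth.Statements.S9269
import Groth.Agent.Lib.T2H7KRegC

set_option autoImplicit false
universe u
attribute [local instance] HasDerivedCategory.standard
open CategoryTheory
open LCI

namespace Groth.Agent.S9269

/-- Let B be an A-algebra of finite type. If the kernel of one presentation A[x_1, ..., x_n] → B is a
Koszul-regular ideal, then the kernel of any other presentation A[y_1, ..., y_m] → B is a
Koszul-regular ideal. -/
theorem result (A B : Type u) [CommRing A] [CommRing B]
    [Algebra A B] (n m : ℕ) (α : MvPolynomial (Fin n) A →ₐ[A] B) (hα : Function.Surjective α)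
    (β : MvPolynomial (Fin m) A →ₐ[A] B) (hβ : Function.Surjective β)
    (h : LCI.IsKoszulRegularIdeal (RingHom.ker α.toRingHom)) :
    LCI.IsKoszulRegularIdeal (RingHom.ker β.toRingHom) := by
  classical
  choose f hf using fun j : Fin m => hα (β (MvPolynomial.X j))
  choose g hg using fun i : Fin n => hβ (α (MvPolynomial.X i))
  let v₁ : Fin n ⊕ Fin m → MvPolynomial (Fin n) A := Sum.elim MvPolynomial.X f
  let v₂ : Fin n ⊕ Fin m → MvPolynomial (Fin m) A := Sum.elim g MvPolynomial.X
  have hγ : α.comp (Groth.Agent.Lib.T2H7.KRegC.ret A v₁) =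
      β.comp (Groth.Agent.Lib.T2H7.KRegC.ret A v₂) := by
    apply MvPolynomial.algHom_ext
    intro s
    rcases s with i | j
    · show α (MvPolynomial.aeval v₁ (MvPolynomial.X (Sum.inl i))) =
        β (MvPolynomial.aeval v₂ (MvPolynomial.X (Sum.inl i)))
      rw [MvPolynomial.aeval_X, MvPolynomial.aeval_X]
      exact (hg i).symm
    · show α (MvPolynomial.aeval v₁ (MvPolynomial.X (Sum.inr j))) =
        β (MvPolynomial.aeval v₂ (MvPolynomial.X (Sum.inr j)))
      rw [MvPolynomial.aeval_X, MvPolynomial.aeval_X]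
      exact hf j
  have hK : (RingHom.ker α.toRingHom).comap (Groth.Agent.Lib.T2H7.KRegC.ret A v₁).toRingHom =
      (RingHom.ker β.toRingHom).comap (Groth.Agent.Lib.T2H7.KRegC.ret A v₂).toRingHom := by
    rw [RingHom.comap_ker, RingHom.comap_ker]
    have : α.toRingHom.comp (Groth.Agent.Lib.T2H7.KRegC.ret A v₁).toRingHom =
        β.toRingHom.comp (Groth.Agent.Lib.T2H7.KRegC.ret A v₂).toRingHom :=
      congrArg AlgHom.toRingHom hγ
    rw [this]
  have h1 := (Groth.Agent.Lib.T2H7.KRegC.isKoszulRegularIdeal_comap_ret_iff (A := A)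
    (a := (Sum.inl : Fin n → Fin n ⊕ Fin m)) (b := (Sum.inr : Fin m → Fin n ⊕ Fin m)) (v := v₁)
    (fun i => rfl) (fun s => by
      rcases s with i | j
      · exact Or.inl ⟨i, rfl⟩
      · exact Or.inr ⟨j, rfl⟩) (fun i j => Sum.inl_ne_inr) Sum.inr_injective
    (RingHom.ker α.toRingHom)).mpr h
  rw [hK] at h1
  exact (Groth.Agent.Lib.T2H7.KRegC.isKoszulRegularIdeal_comap_ret_iff (A := A)
    (a := (Sum.inr : Fin m → Fin n ⊕ Fin m)) (b := (Sum.inl : Fin n → Fin n ⊕ Fin m)) (v := v₂)
    (fun i => rfl) (fun s => by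
      rcases s with i | j
      · exact Or.inr ⟨i, rfl⟩
      · exact Or.inl ⟨j, rfl⟩) (fun i j => Sum.inr_ne_inl) Sum.inl_injective
    (RingHom.ker β.toRingHom)).mp h1

end Groth.Agent.S9269
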