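import Groth.Statements.S9253
import Groth.Agent.Lib.T2H7KRegG

set_option autoImplicit false
universe u
attribute [local instance] HasDerivedCategory.standard
open CategoryTheory
open LCI

namespace Groth.Agent.S9253

/-- Let R → S be a ring map and g_1, ..., g_m elements of S generating the unit ideal. When every
localization S_{g_j} is a local complete intersection algebra over R, so is S. -/
theorem result (R S : Type u) [CommRing R] [CommRing S] [Algebra R S]
    (m : ℕ) (g : Fin m → S) (hg : Ideal.span (Set.range g) = ⊤)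
    (h : ∀ j, LCI.IsLCI R (Localization.Away (g j))) : LCI.IsLCI R S := by
  have hft : Algebra.FiniteType R S :=
    Algebra.FiniteType.of_span_eq_top_target (Set.range g) hg (fun x hx => by
      obtain ⟨j, rfl⟩ := hx
      exact (h j).1)
  obtain ⟨n, α, hα⟩ := Algebra.FiniteType.iff_quotient_mvPolynomial''.mp hft
  refine ⟨hft, n, α, hα, ?_⟩
  rw [Groth.Agent.Lib.T2H7.KRegB.isKoszulRegularIdeal_iff]
  intro 𝔭 h𝔭 hI
  have h𝔮 : (𝔭.map α.toRingHom).IsPrime := Ideal.map_isPrime_of_surjective hα hI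
  have hex : ∃ j, g j ∉ 𝔭.map α.toRingHom := by
    by_contra hall
    have hall' : ∀ j, g j ∈ 𝔭.map α.toRingHom := fun j => by
      by_contra hj
      exact hall ⟨j, hj⟩
    have hle : Ideal.span (Set.range g) ≤ 𝔭.map α.toRingHom := Ideal.span_le.mpr (by
      rintro _ ⟨j, rfl⟩
      exact hall' j)
    rw [hg] at hle
    exact h𝔮.ne_top (top_le_iff.mp hle)
  obtain ⟨j, hj⟩ := hex
  obtain ⟨G, hG⟩ := hα (g j)
  have hG𝔭 : G ∉ 𝔭 := fun hmem => hj (hG ▸ Ideal.mem_map_of_mem α.toRingHom hmem)
  exact Groth.Agent.Lib.T2H7.KRegG.kRegAt_ker_of_away α hα (g j) G hG (h j) 𝔭 hI hG𝔭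

end Groth.Agent.S9253
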