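import Groth.Statements.S1488
import Groth.Agent.Lib.T2H3FOGraph
import Groth.Agent.Lib.Helper2FormalEt
import Groth.Agent.Lib.Helper3FSmStalk
import Groth.Agent.Lib.Helper18UT4

set_option autoImplicit false
set_option linter.style.haveILetI false
universe u
open FlatMor

namespace Groth.Agent.S1488

open AlgebraicGeometry CategoryTheory Limits in
/-- A morphism f : X → S is smooth if and only if it is locally of finite presentation and formally
smooth, i.e. has the lifting property against first order thickenings of affine schemes (rings in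
the same universe). -/
theorem result {X S : Scheme.{u}} (f : X ⟶ S) :
    Smooth f ↔ LocallyOfFinitePresentation f ∧ MoreMor.IsFormallySmoothHom f := by
  constructor
  · intro hsm
    haveI := hsm
    refine ⟨inferInstance, ?_⟩
    intro A _ I hI a b w
    -- notation
    have hmk : Function.Surjective (CommRingCat.ofHom (Ideal.Quotient.mk I)).hom :=
      Ideal.Quotient.mk_surjective
    have hk : RingHom.ker (CommRingCat.ofHom (Ideal.Quotient.mk I)).hom ^ 2 = ⊥ := by
      change RingHom.ker (Ideal.Quotient.mk I) ^ 2 = ⊥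
      rw [Ideal.mk_ker]; exact hI
    have hi : MoreMor.IsFirstOrderThickening
        (Spec.map (CommRingCat.ofHom (Ideal.Quotient.mk I))) :=
      Groth.Agent.Helper18UT.isFirstOrderThickening_SpecMap _ hmk hk
    generalize Spec.map (CommRingCat.ofHom (Ideal.Quotient.mk I)) = i at hi a b w
    haveI hci : IsClosedImmersion i := hi.1.1
    haveI hsurj : Surjective i := hi.1.2
    have hnil : IsNilpotent i.ker := ⟨2, by rw [pow_two]; exact hi.2⟩
    have hhomeo : IsHomeomorph i := by
      rw [isHomeomorph_iff_isEmbedding_surjective]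
      exact ⟨i.isClosedEmbedding.isEmbedding, i.surjective⟩
    -- the fibre product
    let p₁ : pullback f b ⟶ X := pullback.fst f b
    let p₂ : pullback f b ⟶ _ := pullback.snd f b
    let σ : _ ⟶ pullback f b := pullback.lift a i w.symm
    have hσ1 : σ ≫ p₁ = a := pullback.lift_fst _ _ _
    have hσ2 : σ ≫ p₂ = i := pullback.lift_snd _ _ _
    have hloc : ∀ t : Spec (CommRingCat.of A), ∃ (D : (Spec (CommRingCat.of A)).Opens)
        (l : (D : Scheme.{u}) ⟶ pullback f b),
        t ∈ D ∧ l ≫ p₂ = D.ι ∧ (i ∣_ D) ≫ l = (i ⁻¹ᵁ D).ι ≫ σ := by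
      intro p'
      obtain ⟨p, rfl⟩ := i.surjective p'
      obtain ⟨_, ⟨V, hV, rfl⟩, hpV, -⟩ :=
        S.isBasis_affineOpens.exists_subset_of_mem_open (Set.mem_univ (b (i p))) isOpen_univ
      have hpV' : f (a p) ∈ V := by
        have : f (a p) = b (i p) := (congr($w p)).symm
        rw [this]; exact hpV
      obtain ⟨_, ⟨U, hU, rfl⟩, hpU, hUV : U ≤ f ⁻¹ᵁ V⟩ :=
        X.isBasis_affineOpens.exists_subset_of_mem_open hpV' (f ⁻¹ᵁ V).isOpen
      let O' : (Spec (CommRingCat.of A)).Opens :=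
        ⟨i '' (a ⁻¹ᵁ U).1, hhomeo.isOpenMap _ (a ⁻¹ᵁ U).2⟩
      have hpO : i p ∈ O' ⊓ b ⁻¹ᵁ V := ⟨⟨p, hpU, rfl⟩, hpV⟩
      obtain ⟨_, ⟨W', hW', rfl⟩, hpW, hWO : W' ≤ O' ⊓ b ⁻¹ᵁ V⟩ :=
        (Spec (CommRingCat.of A)).isBasis_affineOpens.exists_subset_of_mem_open hpO
          (O' ⊓ b ⁻¹ᵁ V).isOpen
      have hbW : W' ≤ b ⁻¹ᵁ V := fun x hx => (hWO hx).2
      have haW : i ⁻¹ᵁ W' ≤ a ⁻¹ᵁ U := by
        intro q hq
        obtain ⟨q', hq', hqq⟩ := (hWO hq).1
        rw [← i.injective hqq]
        exact hq'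
      have hfs : (f.appLE V U hUV).hom.FormallySmooth :=
        (HasRingHomProperty.appLE (P := @Smooth) f hsm ⟨V, hV⟩ ⟨U, hU⟩ hUV).1
      obtain ⟨l, hl1, hl2⟩ := Groth.Agent.Lib.Helper2.FormalEt.local_lift f i hnil a b w U V hU hV
        hUV hfs W' hW' hbW haW
      refine ⟨W', pullback.lift l (Scheme.Opens.ι W') hl1, hpW, pullback.lift_snd _ _ _, ?_⟩
      apply pullback.hom_ext
      · rw [Category.assoc, pullback.lift_fst, hl2, Category.assoc]
        change _ = _ ≫ σ ≫ p₁
        rw [hσ1]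
      · rw [Category.assoc, pullback.lift_snd, morphismRestrict_ι, Category.assoc]
        change _ = _ ≫ σ ≫ p₂
        rw [hσ2]
    haveI : IsAffine (Spec (CommRingCat.of (A ⧸ I))) := inferInstance
    obtain ⟨l, hl1, hl2⟩ :=
      Groth.Agent.Lib.T2H3.FOGraph.exists_lift_of_local_lifts i hi p₂ σ hσ2 hloc
    refine ⟨l ≫ p₁, ?_, ?_⟩
    · rw [← Category.assoc, hl2, hσ1]
    · rw [Category.assoc]
      change l ≫ pullback.fst f b ≫ f = b
      rw [pullback.condition, ← Category.assoc]
      change (l ≫ p₂) ≫ b = b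
      rw [hl1, Category.id_comp]
  · rintro ⟨hfp, hfs⟩
    haveI := hfp
    rw [← Scheme.Hom.smoothLocus_eq_top_iff, eq_top_iff]
    intro x _
    rw [Scheme.Hom.mem_smoothLocus]
    exact Groth.Agent.Lib.Helper3.FSmStalk.formallySmooth_stalkMap f hfs x

end Groth.Agent.S1488
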