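import Groth.Statements.S18675
import Mathlib

set_option autoImplicit false
open GLat

namespace Groth.Agent.S18675

section GLatAux

/-- permutation representation on finitely supported functions -/
noncomputable def permRep (G : Type) [Group G] (X : Type) [MulAction G X] : Representation ℤ G (X →₀ ℤ) where
  toFun g := Finsupp.lmapDomain ℤ ℤ (fun x => g • x)
  map_one' := by
    apply Finsupp.lhom_ext
    intro x c
    simp [Finsupp.lmapDomain_apply, Finsupp.mapDomain_single]
  map_mul' g h := by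
    apply Finsupp.lhom_ext
    intro x c
    simp [Finsupp.lmapDomain_apply, Finsupp.mapDomain_single, mul_smul]

theorem permRep_apply {G : Type} [Group G] {X : Type} [MulAction G X] (g : G) (φ : X →₀ ℤ) :
    permRep G X g φ = Finsupp.mapDomain (fun x => g • x) φ := rfl

theorem permRep_single {G : Type} [Group G] {X : Type} [MulAction G X] (g : G) (x : X) (c : ℤ) :
    permRep G X g (Finsupp.single x c) = Finsupp.single (g • x) c := by
  rw [permRep_apply, Finsupp.mapDomain_single]

theorem mapDomain_smul_apply {G : Type} [Group G] {X : Type} [MulAction G X] (a : G)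
    (φ : X →₀ ℤ) (x : X) : Finsupp.mapDomain (fun x => a • x) φ x = φ (a⁻¹ • x) := by
  have h := Finsupp.mapDomain_apply (MulAction.injective a) φ (a⁻¹ • x)
  rwa [smul_inv_smul] at h

theorem h1_perm {G : Type} [Group G] [Finite G] {X : Type} [MulAction G X] (H' : Subgroup G)
    (F : H' → (X →₀ ℤ))
    (hF : ∀ a b : H', F (a * b) = F a + Finsupp.mapDomain (fun x => (a : G) • x) (F b)) :
    ∃ m : X →₀ ℤ, ∀ a : H', F a = Finsupp.mapDomain (fun x => (a : G) • x) m - m := by
  classical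
  haveI : Fintype H' := Fintype.ofFinite H'
  obtain ⟨n, hn⟩ : ∃ n : ℤ, n = (Fintype.card H' : ℤ) := ⟨_, rfl⟩
  have hn0 : n ≠ 0 := by
    rw [hn]
    exact_mod_cast Fintype.card_ne_zero
  obtain ⟨M, hM⟩ : ∃ M : X →₀ ℤ, M = ∑ b : H', F b := ⟨_, rfl⟩
  have h1 : ∀ a : H', Finsupp.mapDomain (fun x => (a : G) • x) M = M - n • F a := by
    intro a
    have h2 : ∀ b : H', Finsupp.mapDomain (fun x => (a : G) • x) (F b) = F (a * b) - F a :=
      fun b => by rw [hF a b]; abel
    rw [hM, Finsupp.mapDomain_finsetSum, Finset.sum_congr rfl (fun b _ => h2 b),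
      Finset.sum_sub_distrib, Finset.sum_const, Finset.card_univ, hn, natCast_zsmul]
    congr 1
    exact Equiv.sum_comp (Equiv.mulLeft a) F
  have h0 : (fun z : ℤ => -(z / n)) 0 = 0 := by simp
  refine ⟨M.mapRange (fun z : ℤ => -(z / n)) h0, fun a => ?_⟩
  ext x
  rw [Finsupp.sub_apply, mapDomain_smul_apply, Finsupp.mapRange_apply, Finsupp.mapRange_apply]
  have h3 := DFunLike.congr_fun (h1 a) x
  rw [mapDomain_smul_apply, Finsupp.sub_apply, Finsupp.smul_apply, smul_eq_mul] at h3
  have h4 : M x - n * F a x = M x + n * (-(F a x)) := by ring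
  rw [h3, h4, Int.add_mul_ediv_left _ _ hn0]
  ring

variable {G : Type} [Group G] {A : Type} [AddCommGroup A] (ρ : Representation ℤ G A)

theorem rho_mul (g h : G) (a : A) : ρ (g * h) a = ρ g (ρ h a) := by
  rw [map_mul]; rfl

/-- invariants -/
def inv (H : Subgroup G) : Submodule ℤ A where
  carrier := {a | ∀ h ∈ H, ρ h a = a}
  add_mem' := by
    intro a b ha hb h hh
    rw [map_add, ha h hh, hb h hh]
  zero_mem' := by
    intro h _
    rw [map_zero]
  smul_mem' := by
    intro c a ha h hh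
    rw [map_smul, ha h hh]

def phi (H : Subgroup G) (a : A) (ha : a ∈ inv ρ H) : G ⧸ H → A :=
  Quotient.lift (fun g : G => ρ g a) (by
    intro g g' hgg'
    have h1 : g⁻¹ * g' ∈ H := QuotientGroup.leftRel_apply.mp hgg'
    have h2 : ρ (g⁻¹ * g') a = a := ha _ h1
    show ρ g a = ρ g' a
    calc ρ g a = ρ g (ρ (g⁻¹ * g') a) := by rw [h2]
      _ = ρ g' a := by rw [← rho_mul, mul_inv_cancel_left])

theorem phi_mk (H : Subgroup G) (a : A) (ha : a ∈ inv ρ H) (g : G) :
    phi ρ H a ha (g : G ⧸ H) = ρ g a := rfl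

abbrev Idx (S : Subgroup G → Finset A) : Type :=
  Σ Ha : (Σ H : Subgroup G, {a : A // a ∈ S H}), G ⧸ Ha.1

end GLatAux


/-- For a finite group G and a finitely generated G-module A there is an exact sequence 0 → Q → P → A →
0 of finitely generated G-modules with P a permutation lattice and Q a coflasque lattice; here
rendered by equivariant ℤ-linear maps i : Q → P injective, π : P → A surjective, with range i = ker
π. -/
theorem result (G : Type) [Group G] [Finite G]
    (A : Type) [AddCommGroup A] [Module.Finite ℤ A] (ρ : Representation ℤ G A) :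
    ∃ (Q : Type) (_ : AddCommGroup Q) (P : Type) (_ : AddCommGroup P)
      (_ : Module.Finite ℤ Q) (_ : Module.Free ℤ Q) (_ : Module.Finite ℤ P) (_ : Module.Free ℤ P)
      (σ : Representation ℤ G Q) (τ : Representation ℤ G P) (i : Q →ₗ[ℤ] P) (π : P →ₗ[ℤ] A),
      GLat.IsEquivariant σ τ i ∧ GLat.IsEquivariant τ ρ π ∧ Function.Injective i ∧ Function.Surjective π ∧
      LinearMap.range i = LinearMap.ker π ∧ GLat.IsPermutation τ ∧ GLat.IsCoflasque σ := by
  classical
  haveI : IsNoetherian ℤ A := inferInstance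
  choose S hS using (fun H : Subgroup G => (IsNoetherian.noetherian (inv ρ H) : (inv ρ H).FG))
  have hmemS : ∀ (H : Subgroup G) (a : A), a ∈ S H → a ∈ inv ρ H := fun H a ha => by
    rw [← hS H]; exact Submodule.subset_span ha
  obtain ⟨v, hv⟩ : ∃ v : Idx S → A, ∀ x : Idx S,
      v x = phi ρ x.1.1 x.1.2.1 (hmemS _ _ x.1.2.2) x.2 := ⟨_, fun _ => rfl⟩
  have hvg : ∀ (g : G) (x : Idx S), v (g • x) = ρ g (v x) := by
    rintro g ⟨⟨H, a, ha⟩, q⟩
    induction q using QuotientGroup.induction_on with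
    | H g' =>
      rw [hv, hv]
      show phi ρ H a _ (g • (g' : G ⧸ H)) = ρ g (phi ρ H a _ (g' : G ⧸ H))
      rw [MulAction.Quotient.smul_mk, smul_eq_mul]
      show ρ (g * g') a = ρ g (ρ g' a)
      exact rho_mul ρ g g' a
  obtain ⟨π, hπdef⟩ : ∃ π : (Idx S →₀ ℤ) →ₗ[ℤ] A, π = Finsupp.linearCombination ℤ v := ⟨_, rfl⟩
  have hπs : ∀ (x : Idx S) (c : ℤ), π (Finsupp.single x c) = c • v x := fun x c => by
    rw [hπdef, Finsupp.linearCombination_single]
  obtain ⟨τ, hτ⟩ : ∃ τ : Representation ℤ G (Idx S →₀ ℤ), τ = permRep G (Idx S) := ⟨_, rfl⟩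
  have hπ : ∀ (g : G) (p : Idx S →₀ ℤ), π (τ g p) = ρ g (π p) := by
    intro g p
    induction p using Finsupp.induction_linear with
    | zero => rw [map_zero, map_zero, map_zero]
    | add p1 p2 h1 h2 => simp only [map_add, h1, h2]
    | single x c => rw [hτ, permRep_single, hπs, hπs, hvg, map_smul]
  have hinv : ∀ (g : G) (p : Idx S →₀ ℤ), p ∈ LinearMap.ker π → τ g p ∈ LinearMap.ker π := by
    intro g p hp
    rw [LinearMap.mem_ker] at hp ⊢
    rw [hπ g p, hp, map_zero]
  obtain ⟨σ, hσ⟩ : ∃ σ : Representation ℤ G ↥(LinearMap.ker π),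
      ∀ (g : G) (q : ↥(LinearMap.ker π)), ((σ g q : ↥(LinearMap.ker π)) : Idx S →₀ ℤ) = τ g q := by
    refine ⟨{ toFun := fun g => (τ g).restrict (hinv g), map_one' := ?_, map_mul' := ?_ },
      fun g q => rfl⟩
    · apply LinearMap.ext
      rintro ⟨p, hp⟩
      apply Subtype.ext
      show τ 1 p = p
      rw [map_one]; rfl
    · intro g h
      apply LinearMap.ext
      rintro ⟨p, hp⟩
      apply Subtype.ext
      show τ (g * h) p = τ g (τ h p)
      rw [map_mul]; rfl
  have hsurj : Function.Surjective π := by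
    rw [← LinearMap.range_eq_top, eq_top_iff]
    have htop : inv ρ (⊥ : Subgroup G) = ⊤ := by
      rw [eq_top_iff]
      intro a _ h hh
      rw [Subgroup.mem_bot.mp hh, map_one]; rfl
    rw [← htop, ← hS ⊥, Submodule.span_le]
    intro a ha
    refine ⟨Finsupp.single ⟨⟨⊥, a, ha⟩, ((1 : G) : G ⧸ (⊥ : Subgroup G))⟩ 1, ?_⟩
    rw [hπs, one_smul, hv]
    show ρ 1 a = a
    rw [map_one]; rfl
  have hperm : GLat.IsPermutation τ := by
    refine ⟨Idx S, Finsupp.basisSingleOne, fun g x => ⟨g • x, ?_⟩⟩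
    rw [Finsupp.coe_basisSingleOne, hτ]
    exact permRep_single g x 1
  have hcofl : GLat.IsCoflasque σ := by
    intro H' f hf
    obtain ⟨p, hp⟩ := h1_perm (X := Idx S) H' (fun a => ((f a : ↥(LinearMap.ker π)) : Idx S →₀ ℤ)) (by
      intro a b
      have h1 := congrArg Subtype.val (hf a b)
      rw [Submodule.coe_add, hσ, hτ] at h1
      exact h1)
    have hπp : π p ∈ inv ρ H' := by
      intro h hh
      have h1 := hp ⟨h, hh⟩
      have h2 : π ((f ⟨h, hh⟩ : ↥(LinearMap.ker π)) : Idx S →₀ ℤ) = 0 :=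
        LinearMap.mem_ker.mp (f ⟨h, hh⟩).2
      rw [h1, map_sub, sub_eq_zero] at h2
      rw [← hπ h p, hτ]
      exact h2
    have hex : ∀ a ∈ inv ρ H', ∃ p' : Idx S →₀ ℤ, (∀ h ∈ H', τ h p' = p') ∧ π p' = a := by
      intro a ha
      rw [← hS H'] at ha
      refine Submodule.span_induction (p := fun a _ => ∃ p' : Idx S →₀ ℤ,
        (∀ h ∈ H', τ h p' = p') ∧ π p' = a) ?_ ?_ ?_ ?_ ha
      · intro a0 ha0
        refine ⟨Finsupp.single ⟨⟨H', a0, ha0⟩, ((1 : G) : G ⧸ H')⟩ 1, ?_, ?_⟩
        · intro h hh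
          rw [hτ, permRep_single]
          congr 1
          show (⟨⟨H', a0, ha0⟩, h • ((1 : G) : G ⧸ H')⟩ : Idx S) = _
          congr 1
          rw [MulAction.Quotient.smul_mk, smul_eq_mul, mul_one, QuotientGroup.eq]
          simpa using H'.inv_mem hh
        · rw [hπs, one_smul, hv]
          show ρ 1 a0 = a0
          rw [map_one]; rfl
      · exact ⟨0, fun h _ => map_zero _, map_zero _⟩
      · rintro a1 a2 _ _ ⟨p1, h1, e1⟩ ⟨p2, h2, e2⟩
        exact ⟨p1 + p2, fun h hh => by rw [map_add, h1 h hh, h2 h hh], by rw [map_add, e1, e2]⟩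
      · rintro c a1 _ ⟨p1, h1, e1⟩
        exact ⟨c • p1, fun h hh => by rw [map_smul, h1 h hh], by rw [map_smul, e1]⟩
    obtain ⟨p', hp'inv, hp'π⟩ := hex (π p) hπp
    refine ⟨⟨p - p', by rw [LinearMap.mem_ker, map_sub, hp'π, sub_self]⟩, fun a => ?_⟩
    apply Subtype.ext
    rw [Submodule.coe_sub, hσ]
    show ((f a : ↥(LinearMap.ker π)) : Idx S →₀ ℤ) = τ (a : G) (p - p') - (p - p')
    rw [hp a, map_sub, hp'inv a a.2, hτ, permRep_apply]
    abel
  refine ⟨↥(LinearMap.ker π), inferInstance, (Idx S →₀ ℤ), inferInstance, inferInstance,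
    inferInstance, inferInstance, inferInstance, σ, τ, (LinearMap.ker π).subtype, π,
    ?_, ?_, Subtype.val_injective, hsurj, Submodule.range_subtype _, hperm, hcofl⟩
  · intro g q
    exact hσ g q
  · intro g p
    exact hπ g p

end Groth.Agent.S18675
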