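import Groth.Statements.S7395
import Mathlib
import Groth.Agent.Lib.T2H6SepFP
import Groth.Agent.S2078

set_option autoImplicit false
universe u
open CategoryTheory AlgebraicGeometry
open Lim

namespace Groth.Agent.S7395

/-- Let `f : X → S` be separated and of finite type with `S` quasi-compact and quasi-separated. Then
there are a separated morphism `f' : X' → S` of finite presentation and a closed immersion `X → X'`
over `S`. -/
theorem result {X S : Scheme.{u}} (f : X ⟶ S) [IsSeparated f]
    [LocallyOfFiniteType f] [QuasiCompact f] [CompactSpace S] [QuasiSeparatedSpace S] :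
    ∃ (X' : Scheme.{u}) (f' : X' ⟶ S) (j : X ⟶ X'), IsSeparated f' ∧ LocallyOfFinitePresentation f' ∧
      QuasiCompact f' ∧ IsClosedImmersion j ∧ j ≫ f' = f := by
  classical
  haveI : CompactSpace X := QuasiCompact.compactSpace_of_compactSpace f
  haveI : QuasiSeparatedSpace X := quasiSeparatedSpace_of_quasiSeparated f
  obtain ⟨X₀, f₀, j, hfp, hqc, hqs, hj, hjf⟩ := Groth.Agent.S2078.result f
  haveI := hfp; haveI := hqc; haveI := hqs; haveI := hj
  haveI : CompactSpace X₀ := QuasiCompact.compactSpace_of_compactSpace f₀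
  haveI : QuasiSeparatedSpace X₀ := quasiSeparatedSpace_of_quasiSeparated f₀
  -- X ≅ V(I)
  let I : X₀.IdealSheafData := j.ker
  haveI hiso : IsIso j.toImage := inferInstance
  have hI : I.subschemeι ≫ f₀ = inv j.toImage ≫ f := by
    rw [IsIso.eq_inv_comp, ← hjf, ← Category.assoc]
    congr 1
    exact j.toImage_imageι
  haveI : IsSeparated (I.subschemeι ≫ f₀) := by
    rw [hI]; infer_instance
  obtain ⟨J, hJ, hsep⟩ := Groth.Agent.Lib.T2H6.SepFP.exists_ft_isSeparated f₀ I
  haveI : LocallyOfFinitePresentation J.subschemeι :=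
    Groth.Agent.Lib.Helper22.FTLimit.locallyOfFinitePresentation_subschemeι J hJ.2
  refine ⟨J.subscheme, J.subschemeι ≫ f₀, j.toImage ≫ Scheme.IdealSheafData.inclusion hJ.1,
    hsep, inferInstance, inferInstance, inferInstance, ?_⟩
  rw [Category.assoc, ← Category.assoc (Scheme.IdealSheafData.inclusion hJ.1),
    Scheme.IdealSheafData.inclusion_subschemeι, ← Category.assoc]
  rw [show j.toImage ≫ I.subschemeι = j from j.toImage_imageι, hjf]

end Groth.Agent.S7395
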