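import Groth.Statements.S2221
import Groth.Agent.S2215

set_option autoImplicit false
universe u
open Disc

namespace Groth.Agent.S2221

/-- Affine finite free case: let A be a Noetherian ring and B an A-algebra which is finite free as an
A-module, and suppose omega = Hom_A(B, A) is an invertible B-module. Then the different of B over A
(the b with b omega inside B Trace) equals the Noether different of B over A. -/
theorem result {A B : Type u} [CommRing A]
    [CommRing B] [Algebra A B] [IsNoetherianRing A] [Module.Finite A B] [Module.Free A B]
    [Module.Invertible B (Disc.Omega A B)] :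
    Disc.differentSet A B = (Disc.noetherDifferent A B : Set B) := by
  have hN : ∀ y : B, y ∈ Disc.noetherDifferent A B ↔
      ∃ φ : Disc.Omega A B →ₗ[B] B, φ (Disc.Omega.trace A B) = y := fun y =>
    Set.ext_iff.1 (Groth.Agent.S2215.result (A := A) (B := B)) y
  ext b
  constructor
  · intro hb
    have hclaim : ∀ z : TensorProduct B (Module.Dual B (Disc.Omega A B)) (Disc.Omega A B),
        b * contractLeft B (Disc.Omega A B) z ∈ Disc.noetherDifferent A B := by
      intro z
      induction z using TensorProduct.induction_on with
      | zero =>
        rw [map_zero, mul_zero]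
        exact Ideal.zero_mem _
      | tmul φ l =>
        rw [contractLeft_apply]
        obtain ⟨c, hc⟩ := hb l.toLinearMap
        have h1 : b • l = c • Disc.Omega.trace A B := by
          ext x
          rw [Disc.Omega.smul_toLinearMap_apply, Disc.Omega.smul_toLinearMap_apply]
          exact hc x
        have h2 : b * φ l = (c • φ) (Disc.Omega.trace A B) := by
          rw [LinearMap.smul_apply, ← map_smul, ← h1, map_smul, smul_eq_mul]
        rw [h2]
        exact (hN _).2 ⟨c • φ, rfl⟩
      | add x y hx hy =>
        rw [map_add, mul_add]
        exact Ideal.add_mem _ hx hy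
    obtain ⟨z, hz⟩ := (Module.Invertible.bijective (R := B) (M := Disc.Omega A B)).2 1
    have := hclaim z
    rw [hz, mul_one] at this
    exact this
  · intro hb
    obtain ⟨φ, rfl⟩ := (hN b).1 hb
    intro φ'
    refine ⟨φ ⟨φ'⟩, fun x => ?_⟩
    have hc := Module.Invertible.tmul_comm (R := B) (m₁ := Disc.Omega.trace A B)
      (m₂ := (⟨φ'⟩ : Disc.Omega A B))
    have h := congrArg (TensorProduct.lift ((LinearMap.lsmul B (Disc.Omega A B)).comp φ)) hc
    rw [TensorProduct.lift.tmul, TensorProduct.lift.tmul] at h
    have h' := congrArg (fun l : Disc.Omega A B => l.toLinearMap x) h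
    simpa [Disc.Omega.trace] using h'

end Groth.Agent.S2221
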