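import Groth.Statements.S6516
import Groth.Agent.Lib.Helper1FLF1

set_option autoImplicit false
universe u
open CategoryTheory
open DCoh

namespace Groth.Agent.S6516

open AlgebraicGeometry CategoryTheory.Limits in
theorem isFinLocFree_biprod {X : Scheme.{u}} (A B : X.Modules) (hA : FlatMod.IsFinLocFree A)
    (hB : FlatMod.IsFinLocFree B) : FlatMod.IsFinLocFree (A ⊞ B) := by
  have : HasFiniteBiproducts X.Modules := Abelian.hasFiniteBiproducts
  have h1 : FlatMod.IsFinLocFree (⨁ (pairFunction A B)) :=
    Groth.Agent.Lib.Helper1.FLF.isFinLocFree_biproduct (pairFunction A B) (by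
      rintro (_ | _)
      · exact hA
      · exact hB)
  let e : (A ⊞ B) ≅ ⨁ (pairFunction A B) :=
    biproduct.uniqueUpToIso (pairFunction A B) ((BinaryBiproduct.bicone A B).toBiconeIsBilimit.symm (BinaryBiproduct.isBilimit A B))
  exact Groth.Agent.Lib.Helper1.FLF.isFinLocFree_of_iso e.symm h1


open AlgebraicGeometry in
/-- Schemes; with the bounded finite-locally-free reading of strictly perfect used throughout this
problem's derived-category definitions: the mapping cone of a morphism between strictly perfect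
complexes of O_X-modules is strictly perfect. -/
theorem result {X : Scheme.{u}} {E F : CochainComplex X.Modules ℤ} (φ : E ⟶ F)
    (hE : DCoh.IsStrictlyPerfect E) (hF : DCoh.IsStrictlyPerfect F) :
    DCoh.IsStrictlyPerfect (CochainComplex.mappingCone φ) := by
  obtain ⟨⟨a, b, hab⟩, hEf⟩ := hE
  obtain ⟨⟨a', b', hab'⟩, hFf⟩ := hF
  have hiso : ∀ i : ℤ, Nonempty ((CochainComplex.mappingCone φ).X i ≅ (E.X (i + 1)) ⊞ (F.X i)) :=
    fun i => ⟨HomologicalComplex.homotopyCofiber.XIsoBiprod φ i (i + 1) rfl⟩
  refine ⟨⟨min (a - 1) a', max (b - 1) b', fun i hi => ?_⟩, fun i => ?_⟩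
  · obtain ⟨e⟩ := hiso i
    refine Limits.IsZero.of_iso ?_ e
    have h1 : Limits.IsZero (E.X (i + 1)) := hab (i + 1) (by omega)
    have h2 : Limits.IsZero (F.X i) := hab' i (by omega)
    rw [Limits.biprod_isZero_iff]
    exact ⟨h1, h2⟩
  · obtain ⟨e⟩ := hiso i
    exact Groth.Agent.Lib.Helper1.FLF.isFinLocFree_of_iso e.symm
      (isFinLocFree_biprod _ _ (hEf _) (hFf _))

end Groth.Agent.S6516
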