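import Groth.Statements.S10537
import Groth.Agent.Lib.T2H1QAffDesc2
import Groth.Agent.S9874

set_option autoImplicit false
universe u
open CategoryTheory CategoryTheory.Limits AlgebraicGeometry
open AlgSp

namespace Groth.Agent.S10537

/-- quasi-affine morphisms of sheaves are stable under base change. -/
lemma isQuasiAffineMor_of_isPullback {S : Scheme.{u}} {F G G' P : AlgSp.Sp S} {f : F ⟶ G}
    {g' : G' ⟶ G} {fst : P ⟶ F}
    {snd : P ⟶ G'} (sq : IsPullback fst snd f g') (hf : AlgSp.IsQuasiAffineMor f) :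
    AlgSp.IsQuasiAffineMor snd := by
  intro Z hZ c
  obtain ⟨W, i, a, sqW, hW⟩ := hf hZ (c ≫ g')
  have hw : a ≫ f = ((AlgSp.yon S).map i ≫ c) ≫ g' := by rw [Category.assoc]; exact sqW.w
  refine ⟨W, i, sq.lift a ((AlgSp.yon S).map i ≫ c) hw, ?_, hW⟩
  refine IsPullback.of_right ?_ (sq.lift_snd _ _ _) sq
  rw [sq.lift_fst]
  exact sqW

/-- The property of morphisms of algebraic spaces over S given by f is quasi-affine (every base change
to an affine scheme is a quasi-affine scheme) is fpqc local on the base: for an fpqc covering of an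
algebraic space Y by algebraic spaces Y_i, a morphism f : X ⟶ Y of algebraic spaces and cartesian
squares X_i = Y_i ×_Y X, f has the property if and only if every X_i ⟶ Y_i has it. -/
theorem result (S : Scheme.{u}) :
    AlgSp.IsLocalOnBase (AlgSp.IsFpqcCover (S := S)) AlgSp.IsQuasiAffineMor := by
  intro ι Y Yi g hY hYi hcov X f hX Xi p q hXi sq
  constructor
  · intro hf i
    exact isQuasiAffineMor_of_isPullback (sq i) hf
  · intro H Z hZ gZ
    have sqZ := IsPullback.of_hasPullback f gZ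
    have hP₀ : AlgSp.IsAlgSpace (pullback f gZ) :=
      Groth.Agent.S9874.result S Y hY.1 ⟨X, hX⟩ ⟨(AlgSp.yon S).obj Z, AlgSp.IsAlgSpace.yon_obj Z⟩
        f gZ _ _ _ sqZ
    obtain ⟨m, Wj, c, hWa, hfl, hsurj, hl⟩ := hcov.2 Z hZ gZ
    have Hj : ∀ j : ULift.{u} (Fin m), ∃ (V : Over S) (v : V ⟶ Wj j.down)
        (a : (AlgSp.yon S).obj V ⟶ pullback f gZ),
        IsPullback a ((AlgSp.yon S).map v) (pullback.snd f gZ) ((AlgSp.yon S).map (c j.down)) ∧
          V.left.IsQuasiAffine := by
      intro j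
      obtain ⟨i, l, hl⟩ := hl j.down
      obtain ⟨V, v, a', sq', hV⟩ := H i (hWa j.down) l
      have big := sq'.paste_horiz (sq i)
      rw [hl] at big
      refine ⟨V, v, sqZ.lift (a' ≫ q i) ((AlgSp.yon S).map v ≫ (AlgSp.yon S).map (c j.down))
        (by rw [Category.assoc]; exact big.w), ?_, hV⟩
      refine IsPullback.of_right ?_ (sqZ.lift_snd _ _ _) sqZ
      rw [sqZ.lift_fst]
      exact big
    choose V v a sqa hVa using Hj
    obtain ⟨W₀, i, q₀, hW₀, hq₀⟩ :=
      Groth.Agent.Lib.T2H1.QAffDesc.exists_quasiAffine_of_standard_cover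
      hP₀ hZ (pullback.snd f gZ) (fun j : ULift.{u} (Fin m) => Wj j.down) (fun j => c j.down)
      (fun j => hWa _) (fun j => hfl _)
      (fun z => by
        obtain ⟨j, hj⟩ := hsurj z
        exact ⟨⟨j⟩, hj⟩) V v a sqa hVa
    refine ⟨W₀, i, q₀.inv ≫ pullback.fst f gZ, ?_, hW₀⟩
    refine IsPullback.of_iso sqZ q₀ (Iso.refl _) (Iso.refl _) (Iso.refl _) ?_ ?_ ?_ ?_
    · simp
    · rw [Iso.refl_hom, Category.comp_id, hq₀]
    · simp
    · simp

end Groth.Agent.S10537
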