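import Groth.Statements.S9946
import Groth.Agent.Lib.T2H1AffDesc4
import Groth.Agent.S10537

set_option autoImplicit false
universe u
open CategoryTheory CategoryTheory.Limits AlgebraicGeometry
open AlgSp

namespace Groth.Agent.S9946

/-- (3) ⇒ (1): if the base change of f along a surjective etale map from a scheme is quasi-affine, then
f is representable by schemes and quasi-affine. -/
theorem result {S : Scheme.{u}} {X Y : AlgSp.Space S} (f : X ⟶ Y)
    (V : Over S) (p : (AlgSp.yon S).obj V ⟶ Y.obj) (hp : AlgSp.RepWith @Etale p) (hps : AlgSp.RepWith @Surjective p)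
    {P : AlgSp.Sp S} (fst : P ⟶ X.obj) (snd : P ⟶ (AlgSp.yon S).obj V) (sq : IsPullback fst snd f.hom p)
    (h : AlgSp.IsQuasiAffineMor snd) : AlgSp.Representable f.hom ∧ AlgSp.IsQuasiAffineMor f.hom := by
  have hqa : AlgSp.IsQuasiAffineMor f.hom :=
    (Groth.Agent.Lib.T2H1.AffDesc.of_chart_of_isLocalOnBase (Groth.Agent.S10537.result S) f V p
      hp hps fst snd sq).2 h
  refine ⟨?_, hqa⟩
  have hrep : AlgSp.RepWith (⊤ : MorphismProperty Scheme.{u}) f.hom :=
    Groth.Agent.Lib.Helper12.ZarGlue.repWith_of_affine ⊤ f.hom (fun Z hZ g => by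
      obtain ⟨W, i, a, sqW, -⟩ := hqa hZ g
      exact ⟨W, i, a, sqW, trivial⟩)
  exact hrep.1

end Groth.Agent.S9946
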