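import Groth.Statements.S10260
import Groth.Agent.Lib.T2H1LqfSepRepD

set_option autoImplicit false
universe u
open CategoryTheory CategoryTheory.Limits AlgebraicGeometry
open AlgSp

namespace Groth.Agent.S10260

/-- A locally quasi-finite separated morphism of algebraic spaces is representable by schemes. -/
theorem result {S : Scheme.{u}} {X Y : AlgSp.Space S} (f : X ⟶ Y)
    (hqf : AlgSp.LocP (@LocallyQuasiFinite ⊓ @LocallyOfFiniteType) f.hom) (hsep : AlgSp.IsSeparatedMor f.hom) :
    AlgSp.Representable f.hom := by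
  intro U g
  have sqP := IsPullback.of_hasPullback f.hom g
  have hP : AlgSp.IsAlgSpace (pullback f.hom g) :=
    Groth.Agent.S9874.isAlgSpace_of_isPullback Y.property.diag X.property
      (AlgSp.IsAlgSpace.yon_obj U) sqP
  have hsep' : AlgSp.IsSeparatedMor (pullback.snd f.hom g) :=
    Groth.Agent.Lib.Helper12.Proper.isSeparatedMor_baseChange sqP hsep
  have hqf' : AlgSp.LocP (@LocallyQuasiFinite ⊓ @LocallyOfFiniteType) (pullback.snd f.hom g) :=
    Groth.Agent.Lib.Helper12.LocPCases.good_lqf.locP_baseChange X.property Y.property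
      (AlgSp.IsAlgSpace.yon_obj U) sqP hqf
  obtain ⟨W, ⟨e⟩⟩ := Groth.Agent.Lib.T2H1.LqfSepRep.exists_iso_yon_of_lqf_separated hP
    (pullback.snd f.hom g) hsep' hqf'
  obtain ⟨w, hw⟩ := (AlgSp.yon S).map_surjective (e.hom ≫ pullback.snd f.hom g)
  refine ⟨W, w, e.hom ≫ pullback.fst f.hom g, ?_⟩
  refine IsPullback.of_iso sqP e.symm (Iso.refl _) (Iso.refl _) (Iso.refl _) ?_ ?_ ?_ ?_
  · simp
  · simp [hw]
  · simp
  · simp

end Groth.Agent.S10260
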