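import Groth.Statements.S9873
import Groth.Agent.Lib.T2H7DiagRep
import Groth.Agent.S9927
-- import your own Groth.Agent.* helpers here

set_option autoImplicit false
universe u
open CategoryTheory CategoryTheory.Limits AlgebraicGeometry
open AlgSp

namespace Groth.Agent.S9873

/-- Let `X` be an algebraic space over `S`, `F` an fppf sheaf of sets over `S`, and `f : X ⟶ F` a map of
sheaves which is representable by schemes, etale and surjective (in the representable sense). Then
`F` is an algebraic space over `S`; in particular an fppf sheaf receiving a representable etale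
surjective map from a scheme is an algebraic space. -/
theorem result (S : Scheme.{u}) (X : AlgSp.Space S) (F : AlgSp.Sp S)
    (f : X.obj ⟶ F) (he : AlgSp.RepWith @Etale f) (hs : AlgSp.RepWith @Surjective f) :
    AlgSp.IsAlgSpace F := by
  obtain ⟨V, π, hπe, hπs⟩ := X.property.atlas
  have hqe : AlgSp.RepWith @Etale (π ≫ f) := MorphismProperty.comp_mem _ _ _ hπe he
  have hqs : AlgSp.RepWith @Surjective (π ≫ f) := MorphismProperty.comp_mem _ _ _ hπs hs
  haveI : Epi (π ≫ f) := Groth.Agent.S9927.epi_of_repWith (π ≫ f) hqe hqs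
  haveI : Sheaf.IsLocallySurjective (π ≫ f) :=
    (Sheaf.isLocallySurjective_iff_epi _).mpr inferInstance
  have sq := hqe.rep.isPullback' (π ≫ f)
  haveI : Etale (hqe.rep.fst' (π ≫ f)).left := hqe.2 _ _ _ sq.flip
  refine ⟨?_, ⟨V, π ≫ f, hqe, hqs⟩⟩
  exact Groth.Agent.Lib.T2H7.DiagRep.representable_diag F (π ≫ f) (hqe.rep.snd (π ≫ f))
    (hqe.rep.fst' (π ≫ f)) sq

end Groth.Agent.S9873
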