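import Groth.Statements.S9868
import Groth.Agent.Lib.T2H7DiagRep
import Groth.Agent.Lib.T2H1RepIso
import Groth.Agent.S9884
-- import your own Groth.Agent.* helpers here

set_option autoImplicit false
universe u
open CategoryTheory CategoryTheory.Limits AlgebraicGeometry
open AlgSp

namespace Groth.Agent.S9868

/-- Let `s, t : R ⟶ U` be an etale equivalence relation on a scheme `U` over `S` (for every scheme `T`
over `S` the map from `T`-points of `R` to pairs of `T`-points of `U` is injective with image an
equivalence relation, and `s`, `t` are etale). Then the quotient sheaf `U/R` (the coequalizer of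
`h_s, h_t` in fppf sheaves of sets over `S`) is an algebraic space over `S`. -/
theorem result (S : Scheme.{u}) {R U : Over S} (s t : R ⟶ U)
    (h : AlgSp.IsEtaleEqvRel s t) :
    AlgSp.IsAlgSpace (QuotSh.quot Scheme.fppfPrecoverage s t) := by
  have sq := Groth.Agent.Lib.T2H1.RepIso.isPullback_yon_quotπ s t h.toIsEqvRel
  set p := (QuotSh.repIsoUliftYoneda Scheme.fppfPrecoverage U).inv ≫
    QuotSh.quotπ Scheme.fppfPrecoverage s t with hp
  haveI : Epi (QuotSh.quotπ Scheme.fppfPrecoverage s t) := by
    unfold QuotSh.quotπ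
    exact coequalizer.π_epi
  haveI : Epi p := epi_comp _ _
  haveI : Sheaf.IsLocallySurjective p := (Sheaf.isLocallySurjective_iff_epi _).mpr inferInstance
  haveI : Etale t.left := h.etale_right
  have hdiag : AlgSp.Representable (Limits.diag (QuotSh.quot Scheme.fppfPrecoverage s t)) :=
    Groth.Agent.Lib.T2H7.DiagRep.representable_diag _ p s t sq
  have hrep : AlgSp.Representable p := Functor.relativelyRepresentable.of_diag hdiag p
  -- `s` is surjective since the relation is reflexive
  obtain ⟨e, he1, he2⟩ := (h.toIsEqvRel.equivalence U).refl (𝟙 U)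
  have hsurj : Surjective s.left := by
    have h1 : e.left ≫ s.left = 𝟙 U.left := by
      rw [← Over.comp_left, he2]; rfl
    refine ⟨fun x => ⟨e.left x, ?_⟩⟩
    rw [← Scheme.Hom.comp_apply, h1]
    rfl
  haveI := Groth.Agent.Lib.T2H1.RepIso.isLocalAtTarget_fppf_etale.{u}
  haveI := Groth.Agent.Lib.T2H1.RepIso.isLocalAtTarget_fppf_surjective.{u}
  refine ⟨hdiag, ⟨U, p, ?_, ?_⟩⟩
  · exact Groth.Agent.S9884.result S _ _ _ p hrep p _ _ _ sq @Etale
      ((AlgSp.repWith_yon_map_iff _ _).2 h.etale_left)
  · exact Groth.Agent.S9884.result S _ _ _ p hrep p _ _ _ sq @Surjective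
      ((AlgSp.repWith_yon_map_iff _ _).2 hsurj)

end Groth.Agent.S9868
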