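import Groth.Statements.S10325
import Groth.Agent.Lib.T2H1Coprod2
import Groth.Agent.Lib.T2H1SigmaFinite

set_option autoImplicit false
universe u
open CategoryTheory CategoryTheory.Limits AlgebraicGeometry
open AlgSp

namespace Groth.Agent.S10325

/-- A finite disjoint union of algebraic spaces finite over Y is finite over Y. -/
theorem result {S : Scheme.{u}} {n : ℕ} (X : Fin n → AlgSp.Space S) (Y : AlgSp.Space S)
    (g : ∀ i, X i ⟶ Y) (hg : ∀ i, AlgSp.IsFiniteMor (g i).hom) (c : Cofan fun i => (X i).obj) (hc : IsColimit c)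
    (d : c.pt ⟶ Y.obj) (hd : ∀ i, c.inj i ≫ d = (g i).hom) : AlgSp.IsFiniteMor d := by
  intro Z hZ gz
  choose W w fst sqW hWaff hWfin using fun i => hg i hZ gz
  let F' : ULift.{u} (Fin n) → AlgSp.Sp S := fun j => (X j.down).obj
  let c' : Cofan F' := Cofan.mk c.pt (fun j => c.inj j.down)
  have hc' : IsColimit c' := mkCofanColimit _
    (fun s => Cofan.IsColimit.desc hc (fun i => s.inj ⟨i⟩))
    (fun s j => Cofan.IsColimit.fac hc _ j.down)
    (fun s m hm => Cofan.IsColimit.hom_ext hc _ _ (fun i => by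
      rw [Cofan.IsColimit.fac]
      exact hm ⟨i⟩))
  let V : ULift.{u} (Fin n) → Over S := fun j => W j.down
  obtain ⟨Xm, -, sqX⟩ := Groth.Agent.Lib.T2H1.Coprod.exists_isPullback_sig c' hc' d gz V
    (fun j => w j.down) (fun j => fst j.down) (fun j => by
      have := sqW j.down
      rw [← hd j.down] at this
      exact this)
  haveI : ∀ j, IsAffine (V j).left := fun j => hWaff j.down
  refine ⟨Groth.Agent.Lib.Helper1.Sig.sig V, Groth.Agent.Lib.Helper1.Sig.desc V (fun j => w j.down),
    Xm, sqX, ?_, ?_⟩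
  · exact (inferInstance : IsAffine (∐ fun j => (V j).left))
  · exact Groth.Agent.Lib.T2H1.SigmaFinite.isFinite_sigmaDesc (ULift.{u} (Fin n))
      (fun j => (V j).left) (fun j => (w j.down).left) (fun j => hWfin j.down)

end Groth.Agent.S10325
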