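import Groth.Statements.S10420
import Groth.Agent.Lib.T2H1FieldQuotL
import Groth.Agent.S10261
import Groth.Agent.S10176

set_option autoImplicit false
universe u
open CategoryTheory CategoryTheory.Limits AlgebraicGeometry Topology TopologicalSpace
open AlgSp

namespace Groth.Agent.S10420


open CategoryTheory.Limits Opposite

variable {S : Scheme.{u}}

/-- the morphism `Spec κ(u) ⟶ U` over `S`. -/
noncomputable abbrev ptι (U : Over S) (u : ↥U.left) :
    Over.mk (U.left.fromSpecResidueField u ≫ U.hom) ⟶ U :=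
  Over.homMk (U.left.fromSpecResidueField u) rfl

instance mono_ptι (U : Over S) (u : ↥U.left) : Mono (ptι U u) := by
  haveI : Mono (ptι U u).left := by
    show Mono (U.left.fromSpecResidueField u)
    infer_instance
  exact Over.mono_of_mono_left _

lemma exists_residue_factor {U V : Over S} (h : U ⟶ V) (u : ↥U.left) (v : ↥V.left)
    (huv : h.left u = v) :
    ∃ r : Over.mk (U.left.fromSpecResidueField u ≫ U.hom) ⟶
        Over.mk (V.left.fromSpecResidueField v ≫ V.hom), r ≫ ptι V v = ptι U u ≫ h := by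
  subst huv
  refine ⟨Over.homMk (Spec.map (h.left.residueFieldMap u)) ?_, ?_⟩
  · show Spec.map (h.left.residueFieldMap u) ≫ V.left.fromSpecResidueField (h.left u) ≫ V.hom =
      U.left.fromSpecResidueField u ≫ U.hom
    rw [← Category.assoc, Scheme.Hom.SpecMap_residueFieldMap_fromSpecResidueField,
      Category.assoc, Over.w h]
  · ext
    exact Scheme.Hom.SpecMap_residueFieldMap_fromSpecResidueField _ _

lemma toHom_ofPt' {X : AlgSp.Sp S} {U : Over S} (a : (AlgSp.yon S).obj U ⟶ X) (v : ↥U.left) :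
    (AlgSp.FieldPt.ofPt a v).toHom = (AlgSp.yon S).map (ptι U v) ≫ a :=
  AlgSp.FieldPt.toHom_ofPt a v

/-- the key cancellation property of elementary étale neighbourhoods. -/
lemma key {X : AlgSp.Sp S} {U U₁ : Over S} (h h' : U ⟶ U₁)
    (a₁ : (AlgSp.yon S).obj U₁ ⟶ X) (v : ↥U.left) (u₁ : ↥U₁.left) (hv : h.left v = u₁)
    (hv' : h'.left v = u₁) (hm : Mono (AlgSp.FieldPt.ofPt a₁ u₁).toHom) {T : Over S}
    (s t : T ⟶ Over.mk (U.left.fromSpecResidueField v ≫ U.hom))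
    (hst : (AlgSp.yon S).map (s ≫ ptι U v ≫ h) ≫ a₁ = (AlgSp.yon S).map (t ≫ ptι U v ≫ h') ≫ a₁) :
    s ≫ ptι U v ≫ h = t ≫ ptι U v ≫ h' := by
  obtain ⟨r, hr⟩ := exists_residue_factor h v u₁ hv
  obtain ⟨r', hr'⟩ := exists_residue_factor h' v u₁ hv'
  rw [← hr, ← hr'] at hst ⊢
  haveI : Mono ((AlgSp.yon S).map (ptι U₁ u₁) ≫ a₁) := by
    have := hm
    rw [toHom_ofPt'] at this
    exact this
  have h1 : (AlgSp.yon S).map (s ≫ r) ≫ ((AlgSp.yon S).map (ptι U₁ u₁) ≫ a₁) =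
      (AlgSp.yon S).map (t ≫ r') ≫ ((AlgSp.yon S).map (ptι U₁ u₁) ≫ a₁) := by
    simpa only [Functor.map_comp, Category.assoc] using hst
  have h2 : s ≫ r = t ≫ r' := (AlgSp.yon S).map_injective ((cancel_mono _).1 h1)
  rw [← Category.assoc, ← Category.assoc, h2]

/-- a criterion for the field-valued point at `v` to be a monomorphism. -/
lemma mono_toHom_ofPt {X : AlgSp.Sp S} {U : Over S} (a : (AlgSp.yon S).obj U ⟶ X) (v : ↥U.left)
    (H : ∀ (Z : Over S) (s t : Z ⟶ Over.mk (U.left.fromSpecResidueField v ≫ U.hom)),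
      (AlgSp.yon S).map (s ≫ ptι U v) ≫ a = (AlgSp.yon S).map (t ≫ ptι U v) ≫ a →
        s ≫ ptι U v = t ≫ ptι U v) : Mono (AlgSp.FieldPt.ofPt a v).toHom := by
  have : Mono ((AlgSp.yon S).map (ptι U v) ≫ a) := by
    refine Groth.Agent.Lib.T2H1.FieldQuot.mono_of_forall_yon _ (fun Z s' t' hst => ?_)
    obtain ⟨s, rfl⟩ := (AlgSp.yon S).map_surjective s'
    obtain ⟨t, rfl⟩ := (AlgSp.yon S).map_surjective t'
    have := H Z s t (by simpa only [Functor.map_comp, Category.assoc] using hst)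
    rw [(cancel_mono _).1 this]
  rw [toHom_ofPt']
  exact this

/-- For a decent algebraic space X over a scheme S and x ∈ |X|, the category of elementary etale
neighbourhoods (U, u) ⟶ (X, x) is cofiltered: two objects are dominated by a third and two parallel
morphisms are equalized from some object (it is nonempty by the existence of elementary etale
neighbourhoods). -/
theorem result {S : Scheme.{u}} (X : AlgSp.Space S) (hX : AlgSp.IsDecent X.obj)
    (x : AlgSp.Points X.obj) :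
    (∀ (U₁ U₂ : Over S) (a₁ : (AlgSp.yon S).obj U₁ ⟶ X.obj) (a₂ : (AlgSp.yon S).obj U₂ ⟶ X.obj) (u₁ : ↥U₁.left)
        (u₂ : ↥U₂.left), AlgSp.IsElemEtaleNbhd a₁ u₁ x → AlgSp.IsElemEtaleNbhd a₂ u₂ x →
        ∃ (U : Over S) (a : (AlgSp.yon S).obj U ⟶ X.obj) (v : ↥U.left) (h₁ : U ⟶ U₁) (h₂ : U ⟶ U₂),
          AlgSp.IsElemEtaleNbhd a v x ∧ (AlgSp.yon S).map h₁ ≫ a₁ = a ∧ (AlgSp.yon S).map h₂ ≫ a₂ = a ∧
            h₁.left v = u₁ ∧ h₂.left v = u₂) ∧
      (∀ (U₁ U₂ : Over S) (a₁ : (AlgSp.yon S).obj U₁ ⟶ X.obj) (a₂ : (AlgSp.yon S).obj U₂ ⟶ X.obj) (u₁ : ↥U₁.left)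
        (u₂ : ↥U₂.left) (b c : U₁ ⟶ U₂), AlgSp.IsElemEtaleNbhd a₁ u₁ x → AlgSp.IsElemEtaleNbhd a₂ u₂ x →
        (AlgSp.yon S).map b ≫ a₂ = a₁ → (AlgSp.yon S).map c ≫ a₂ = a₁ → b.left u₁ = u₂ → c.left u₁ = u₂ →
        ∃ (U : Over S) (a : (AlgSp.yon S).obj U ⟶ X.obj) (v : ↥U.left) (h : U ⟶ U₁),
          AlgSp.IsElemEtaleNbhd a v x ∧ (AlgSp.yon S).map h ≫ a₁ = a ∧ h.left v = u₁ ∧ h ≫ b = h ≫ c) := by
  have hXa : AlgSp.IsAlgSpace X.obj := X.property
  refine ⟨?_, ?_⟩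
  · intro U₁ U₂ a₁ a₂ u₁ u₂ hn₁ hn₂
    obtain ⟨P, h₂, fst, sq⟩ := hXa.representable_from_yon a₁ a₂
    obtain ⟨h₁, rfl⟩ := (AlgSp.yon S).map_surjective fst
    obtain ⟨v, hv₁, hv₂⟩ := Groth.Agent.S10176.exists_point_of_isPullback_yon sq u₁ u₂
      (hn₁.ofPt_eq.trans hn₂.ofPt_eq.symm)
    haveI : Etale h₁.left := hn₂.etale.2 a₁ _ h₁ sq.flip
    have hae : AlgSp.RepWith @Etale ((AlgSp.yon S).map h₁ ≫ a₁) :=
      MorphismProperty.comp_mem _ _ _ ((AlgSp.repWith_yon_map_iff _ _).2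
        (inferInstance : Etale h₁.left)) hn₁.etale
    refine ⟨P, (AlgSp.yon S).map h₁ ≫ a₁, v, h₁, h₂, ⟨hae, ?_, ?_⟩, rfl, sq.w.symm, hv₁, hv₂⟩
    · rw [Groth.Agent.S10176.ofPt_map_comp, hv₁]; exact hn₁.ofPt_eq
    · refine mono_toHom_ofPt _ v (fun Z s t hst => ?_)
      have e1 : s ≫ ptι P v ≫ h₁ = t ≫ ptι P v ≫ h₁ := by
        refine key h₁ h₁ a₁ v u₁ hv₁ hv₁ hn₁.mono s t ?_
        simpa only [Functor.map_comp, Category.assoc] using hst
      have e2 : s ≫ ptι P v ≫ h₂ = t ≫ ptι P v ≫ h₂ := by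
        refine key h₂ h₂ a₂ v u₂ hv₂ hv₂ hn₂.mono s t ?_
        simp only [Functor.map_comp, Category.assoc, ← sq.w]
        simpa only [Functor.map_comp, Category.assoc] using hst
      apply (AlgSp.yon S).map_injective
      apply sq.hom_ext
      · rw [← Functor.map_comp, ← Functor.map_comp, Category.assoc, Category.assoc, e1]
      · rw [← Functor.map_comp, ← Functor.map_comp, Category.assoc, Category.assoc, e2]
  · intro U₁ U₂ a₁ a₂ u₁ u₂ b c hn₁ hn₂ hb hc hbu hcu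
    obtain ⟨E, e, he⟩ := Groth.Agent.S9900.exists_isEqLocus (AlgSp.IsAlgSpace.yon_obj U₂).diag
      ((AlgSp.yon S).map b) ((AlgSp.yon S).map c)
    have hopen : IsOpenImmersion e.left :=
      Groth.Agent.S10261.isOpenImmersion_of_isEqLocus (AlgSp.IsAlgSpace.yon_obj U₂) a₂
        (fun _ φ hφ => MorphismProperty.comp_mem _ _ _ hφ hn₂.etale) (hb.trans hc.symm) he
    haveI := he.1
    -- the point factors through the equalizer
    have hbc : ptι U₁ u₁ ≫ b = ptι U₁ u₁ ≫ c := by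
      have := key b c a₂ u₁ u₂ hbu hcu hn₂.mono (𝟙 _) (𝟙 _) (by
        simp only [Category.id_comp, Functor.map_comp, Category.assoc, hb, hc])
      simpa only [Category.id_comp] using this
    obtain ⟨t', ht'⟩ := (he.2 _ (ptι U₁ u₁)).1 (by
      rw [← Functor.map_comp, ← Functor.map_comp, hbc])
    have hclosed : (ptι U₁ u₁).left (IsLocalRing.closedPoint (U₁.left.residueField u₁)) = u₁ :=
      Scheme.fromSpecResidueField_apply u₁ _
    obtain ⟨v, hvdef⟩ : ∃ v : ↥E.left,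
        v = t'.left (IsLocalRing.closedPoint (U₁.left.residueField u₁)) := ⟨_, rfl⟩
    have hv : e.left v = u₁ := by
      rw [hvdef]
      have h3 : (t' ≫ e).left (IsLocalRing.closedPoint (U₁.left.residueField u₁)) = u₁ := by
        rw [ht']; exact hclosed
      exact h3
    haveI : Etale e.left := inferInstance
    have hae : AlgSp.RepWith @Etale ((AlgSp.yon S).map e ≫ a₁) :=
      MorphismProperty.comp_mem _ _ _ ((AlgSp.repWith_yon_map_iff _ _).2
        (inferInstance : Etale e.left)) hn₁.etale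
    refine ⟨E, (AlgSp.yon S).map e ≫ a₁, v, e, ⟨hae, ?_, ?_⟩, rfl, hv, ?_⟩
    · rw [Groth.Agent.S10176.ofPt_map_comp, hv]; exact hn₁.ofPt_eq
    · refine mono_toHom_ofPt _ v (fun Z s t hst => ?_)
      have e1 : s ≫ ptι E v ≫ e = t ≫ ptι E v ≫ e := by
        refine key e e a₁ v u₁ hv hv hn₁.mono s t ?_
        simpa only [Functor.map_comp, Category.assoc] using hst
      rw [← Category.assoc, ← Category.assoc, cancel_mono] at e1
      exact e1
    · apply (AlgSp.yon S).map_injective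
      rw [Functor.map_comp, Functor.map_comp]
      exact he.eq

end Groth.Agent.S10420
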