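import Groth.Statements.S10440
import Groth.Agent.Lib.T2H1EssEtStalk
import Groth.Agent.Lib.Helper10MonoField
import Groth.Agent.Lib.Helper3EssEt
import Groth.Agent.S2778
import Groth.Agent.S10420

set_option autoImplicit false
universe u
open CategoryTheory CategoryTheory.Limits AlgebraicGeometry Topology TopologicalSpace
open AlgSp

namespace Groth.Agent.S10440


open CategoryTheory.Limits Opposite Groth.Agent.S10420

variable {S : Scheme.{u}}

/-- a morphism between schemes étale over an algebraic space is étale. -/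
lemma etale_of_comp {X : AlgSp.Sp S} (hXa : AlgSp.IsAlgSpace X) {U U' : Over S}
    (a : (AlgSp.yon S).obj U ⟶ X) (a' : (AlgSp.yon S).obj U' ⟶ X) (g : U' ⟶ U)
    (hg : (AlgSp.yon S).map g ≫ a = a') (ha : AlgSp.RepWith @Etale a)
    (ha' : AlgSp.RepWith @Etale a') : Etale g.left := by
  obtain ⟨P, pr₂, fst, sq⟩ := hXa.representable_from_yon a' a
  obtain ⟨pr₁, rfl⟩ := (AlgSp.yon S).map_surjective fst
  haveI : Etale pr₁.left := ha.2 a' _ pr₁ sq.flip
  haveI : Etale pr₂.left := ha'.2 a _ pr₂ sq
  obtain ⟨s, hs⟩ := (AlgSp.yon S).map_surjective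
    (sq.lift (𝟙 _) ((AlgSp.yon S).map g) (by rw [Category.id_comp, hg]))
  have hs1 : s ≫ pr₁ = 𝟙 _ := by
    apply (AlgSp.yon S).map_injective
    rw [Functor.map_comp, hs, sq.lift_fst, CategoryTheory.Functor.map_id]
  have hs2 : s ≫ pr₂ = g := by
    apply (AlgSp.yon S).map_injective
    rw [Functor.map_comp, hs, sq.lift_snd]
  haveI : Etale (s.left ≫ pr₁.left) := by
    rw [← Over.comp_left, hs1, Over.id_left]
    infer_instance
  haveI : Etale s.left := Etale.of_comp s.left pr₁.left
  rw [← hs2, Over.comp_left]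
  infer_instance

/-- a morphism of elementary étale neighbourhoods induces a bijection of residue fields. -/
lemma bijective_residueFieldMap {X : AlgSp.Sp S} {U U' : Over S}
    (a : (AlgSp.yon S).obj U ⟶ X) (a' : (AlgSp.yon S).obj U' ⟶ X) (g : U' ⟶ U) (u' : ↥U'.left)
    (hg : (AlgSp.yon S).map g ≫ a = a') (hm : Mono (AlgSp.FieldPt.ofPt a' u').toHom) :
    Function.Bijective (g.left.residueFieldMap u').hom := by
  let r : Over.mk (U'.left.fromSpecResidueField u' ≫ U'.hom) ⟶
      Over.mk (U.left.fromSpecResidueField (g.left u') ≫ U.hom) :=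
    Over.homMk (Spec.map (g.left.residueFieldMap u')) (by
      show Spec.map (g.left.residueFieldMap u') ≫ U.left.fromSpecResidueField (g.left u') ≫ U.hom =
        U'.left.fromSpecResidueField u' ≫ U'.hom
      rw [← Category.assoc, Scheme.Hom.SpecMap_residueFieldMap_fromSpecResidueField,
        Category.assoc, Over.w g])
  have hr : r ≫ ptι U (g.left u') = ptι U' u' ≫ g := by
    ext
    exact Scheme.Hom.SpecMap_residueFieldMap_fromSpecResidueField _ _
  haveI : Mono ((AlgSp.yon S).map (ptι U' u') ≫ a') := by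
    have := hm
    rw [toHom_ofPt'] at this
    exact this
  haveI : Mono r := by
    refine ⟨fun {T} s t hst => ?_⟩
    apply (AlgSp.yon S).map_injective
    rw [← cancel_mono ((AlgSp.yon S).map (ptι U' u') ≫ a'), ← hg]
    have e1 : ∀ q : T ⟶ Over.mk (U'.left.fromSpecResidueField u' ≫ U'.hom),
        (AlgSp.yon S).map q ≫ (AlgSp.yon S).map (ptι U' u') ≫ (AlgSp.yon S).map g ≫ a =
          (AlgSp.yon S).map ((q ≫ r) ≫ ptι U (g.left u')) ≫ a := by
      intro q
      rw [Category.assoc, hr]
      simp only [Functor.map_comp, Category.assoc]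
    rw [e1, e1, hst]
  haveI : Mono r.left := inferInstance
  have hrl : r.left = Spec.map (g.left.residueFieldMap u') := rfl
  have hmono : Mono (Spec.map (g.left.residueFieldMap u')) := hrl ▸ ‹Mono r.left›
  have hne : Nonempty ↥(Spec (U'.left.residueField u')) :=
    ⟨IsLocalRing.closedPoint (U'.left.residueField u')⟩
  haveI : IsIso (Spec.map (g.left.residueFieldMap u')) :=
    @Groth.Agent.Lib.Helper10.MonoField.isIso_of_mono_of_nonempty _
      (IsLocalRing.ResidueField (U.left.presheaf.stalk (g.left u'))) _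
      (Spec.map (g.left.residueFieldMap u')) hmono hne
  exact isIso_SpecMap_iff.1 inferInstance

/-- For a decent algebraic space X over a scheme S and x ∈ |X|, let g : (U', u') ⟶ (U, u) be a morphism
of elementary etale neighbourhoods of (X, x). If R is a henselization of O_{U', u'} then, through
the local ring map O_{U, u} ⟶ O_{U', u'} induced by g, R is a henselization of O_{U, u} as well.
(The published statement identifies the henselian local ring at x, defined as the colimit of global
sections over all elementary etale neighbourhoods, with the henselization of O_{U, u}; that ring is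
not a separate construction here, and this row states the resulting independence of the
henselization from the chosen neighbourhood.) -/
theorem result {S : Scheme.{u}} (X : AlgSp.Space S)
    (hX : AlgSp.IsDecent X.obj) (x : AlgSp.Points X.obj) {U U' : Over S}
    (a : (AlgSp.yon S).obj U ⟶ X.obj) (a' : (AlgSp.yon S).obj U' ⟶ X.obj) (g : U' ⟶ U) (u' : ↥U'.left)
    (hg : (AlgSp.yon S).map g ≫ a = a') (ha : AlgSp.IsElemEtaleNbhd a (g.left.base u') x)
    (ha' : AlgSp.IsElemEtaleNbhd a' u' x) (R : Type u) [CommRing R] [IsLocalRing R]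
    [Algebra ↥(U'.left.presheaf.stalk u') R] [IsLocalHom (algebraMap ↥(U'.left.presheaf.stalk u') R)]
    [Hensel.IsHenselization ↥(U'.left.presheaf.stalk u') R] :
    letI : Algebra ↥(U.left.presheaf.stalk (g.left.base u')) R :=
      ((algebraMap ↥(U'.left.presheaf.stalk u') R).comp (g.left.stalkMap u').hom).toAlgebra
    ∃ (_ : IsLocalHom (algebraMap ↥(U.left.presheaf.stalk (g.left.base u')) R)),
      Hensel.IsHenselization ↥(U.left.presheaf.stalk (g.left.base u')) R := by
  have hge : Etale g.left := etale_of_comp X.property a a' g hg ha.etale ha'.etale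
  have hbij := bijective_residueFieldMap a a' g u' hg ha'.mono
  letI algAA' : Algebra ↥(U.left.presheaf.stalk (g.left.base u')) ↥(U'.left.presheaf.stalk u') :=
    (g.left.stalkMap u').hom.toAlgebra
  haveI hlocAA' : IsLocalHom (algebraMap ↥(U.left.presheaf.stalk (g.left.base u'))
      ↥(U'.left.presheaf.stalk u')) :=
    (inferInstance : IsLocalHom (g.left.stalkMap u').hom)
  have hess : EGA4loc.IsEssentiallyEtale ↥(U.left.presheaf.stalk (g.left.base u'))
      ↥(U'.left.presheaf.stalk u') :=
    Groth.Agent.Lib.T2H1.EssEtStalk.isEssentiallyEtale_stalkMap g.left u'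
  have hstrict : EGA4loc.IsStrictlyEssentiallyEtale ↥(U.left.presheaf.stalk (g.left.base u'))
      ↥(U'.left.presheaf.stalk u') := ⟨hess, hbij⟩
  letI algAR : Algebra ↥(U.left.presheaf.stalk (g.left.base u')) R :=
    ((algebraMap ↥(U'.left.presheaf.stalk u') R).comp (g.left.stalkMap u').hom).toAlgebra
  have hlocAR : IsLocalHom (algebraMap ↥(U.left.presheaf.stalk (g.left.base u')) R) := by
    show IsLocalHom ((algebraMap ↥(U'.left.presheaf.stalk u') R).comp (g.left.stalkMap u').hom)
    exact RingHom.isLocalHom_comp _ _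
  refine ⟨hlocAR, ⟨Hensel.IsHenselization.henselian (R := ↥(U'.left.presheaf.stalk u')), ?_⟩⟩
  intro T _ _ f hf
  haveI := hf
  obtain ⟨ψ', ⟨hloc, hψ'⟩, huniq⟩ := Groth.Agent.S2778.result
    ↥(U.left.presheaf.stalk (g.left.base u')) ↥(U'.left.presheaf.stalk u') hstrict T f
  obtain ⟨g₁, hg₁, hg₁u⟩ := Hensel.IsHenselization.universal
    (R := ↥(U'.left.presheaf.stalk u')) (S := R) T ψ' hloc
  have halg : algebraMap ↥(U.left.presheaf.stalk (g.left.base u')) R =
      (algebraMap ↥(U'.left.presheaf.stalk u') R).comp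
        (algebraMap ↥(U.left.presheaf.stalk (g.left.base u')) ↥(U'.left.presheaf.stalk u')) := rfl
  refine ⟨g₁, ?_, ?_⟩
  · show g₁.comp (algebraMap ↥(U.left.presheaf.stalk (g.left.base u')) R) = f
    rw [halg, ← RingHom.comp_assoc, hg₁, hψ']
  · intro g₂ hg₂
    have hg₂' : (g₂.comp (algebraMap ↥(U'.left.presheaf.stalk u') R)).comp
        (algebraMap ↥(U.left.presheaf.stalk (g.left.base u')) ↥(U'.left.presheaf.stalk u')) = f := by
      rw [RingHom.comp_assoc, ← halg]; exact hg₂
    have hloc₂ : IsLocalHom (g₂.comp (algebraMap ↥(U'.left.presheaf.stalk u') R)) := by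
      constructor
      intro x hx
      by_contra hnx
      have hxm : x ∈ IsLocalRing.maximalIdeal ↥(U'.left.presheaf.stalk u') := hnx
      rw [← Groth.Agent.Lib.Helper3.EssEt.map_maximalIdeal
        ↥(U.left.presheaf.stalk (g.left.base u')) ↥(U'.left.presheaf.stalk u') hess] at hxm
      have hle : (IsLocalRing.maximalIdeal ↥(U.left.presheaf.stalk (g.left.base u'))).map
          (algebraMap ↥(U.left.presheaf.stalk (g.left.base u')) ↥(U'.left.presheaf.stalk u')) ≤
          (IsLocalRing.maximalIdeal T).comap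
            (g₂.comp (algebraMap ↥(U'.left.presheaf.stalk u') R)) := by
        rw [Ideal.map_le_iff_le_comap, Ideal.comap_comap, hg₂']
        exact ((IsLocalRing.local_hom_TFAE f).out 0 3 rfl rfl).mp hf
      exact (hle hxm) hx
    have h3 : g₂.comp (algebraMap ↥(U'.left.presheaf.stalk u') R) = ψ' :=
      huniq _ ⟨hloc₂, hg₂'⟩
    exact hg₁u g₂ h3

end Groth.Agent.S10440
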