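import Groth.Statements.S1685
import Groth.Agent.Lib.T2H2SkCartier

set_option autoImplicit false
universe u
open CategoryTheory CategoryTheory.Limits AlgebraicGeometry TopologicalSpace
open SDiv

namespace Groth.Agent.S1685

/-- Let X be a locally Noetherian scheme all of whose local rings satisfy Serre's condition (S_k), and
let D be the closed subscheme of an effective Cartier divisor. Then all local rings of D satisfy
(S_{k-1}). -/
theorem result (X : Scheme.{u}) [IsLocallyNoetherian X] (k : ℕ)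
    (hX : ∀ x : ↥X, min (k : WithBot ℕ∞) (ringKrullDim (X.presheaf.stalk x)) ≤
      ((LocCoh.depth (X.presheaf.stalk x) (X.presheaf.stalk x) : ℕ∞) : WithBot ℕ∞))
    (𝓘 : X.IdealSheafData) (h𝓘 : BlowUp.IsEffCartierIdeal 𝓘) (d : ↥𝓘.subscheme) :
    min ((k - 1 : ℕ) : WithBot ℕ∞) (ringKrullDim (𝓘.subscheme.presheaf.stalk d)) ≤
      ((LocCoh.depth (𝓘.subscheme.presheaf.stalk d) (𝓘.subscheme.presheaf.stalk d) : ℕ∞) : WithBot ℕ∞) := by
  obtain ⟨U, hxU, f, hf, hI⟩ := h𝓘 (𝓘.subschemeι d)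
  have hker : RingHom.ker (𝓘.subschemeι.stalkMap d).hom
      = Ideal.span {X.presheaf.germ U.1 (𝓘.subschemeι d) hxU f} := by
    rw [Groth.Agent.Lib.Helper5.RegImm.ker_stalkMap_eq_map_ker 𝓘.subschemeι d U.1 U.2 hxU,
      Scheme.IdealSheafData.ker_subschemeι]
    change (𝓘.ideal U).map _ = _
    rw [hI, Ideal.map_span, Set.image_singleton]
  have hsurj : Function.Surjective (𝓘.subschemeι.stalkMap d).hom :=
    𝓘.subschemeι.stalkMap_surjective d
  let e : (X.presheaf.stalk (𝓘.subschemeι d) ⧸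
      Ideal.span {X.presheaf.germ U.1 (𝓘.subschemeι d) hxU f}) ≃+* 𝓘.subscheme.presheaf.stalk d :=
    (Ideal.quotEquivOfEq hker.symm).trans (RingHom.quotientKerEquivOfSurjective hsurj)
  have hlocq : IsLocalRing (X.presheaf.stalk (𝓘.subschemeι d) ⧸
      Ideal.span {X.presheaf.germ U.1 (𝓘.subschemeι d) hxU f}) := e.symm.isLocalRing
  have hNq : IsNoetherianRing (𝓘.subscheme.presheaf.stalk d) := isNoetherianRing_of_ringEquiv _ e
  -- the germ is a nonzerodivisor in the maximal ideal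
  let _ := X.presheaf.algebra_section_stalk ⟨𝓘.subschemeι d, hxU⟩
  have hloc := U.2.isLocalization_stalk ⟨𝓘.subschemeι d, hxU⟩
  have hreg : IsSMulRegular (X.presheaf.stalk (𝓘.subschemeι d))
      (X.presheaf.germ U.1 (𝓘.subschemeι d) hxU f) := by
    apply Module.Flat.isSMulRegular_of_nonZeroDivisors
    exact IsLocalization.map_nonZeroDivisors_le
      (U.2.primeIdealOf ⟨𝓘.subschemeι d, hxU⟩).asIdeal.primeCompl
      (X.presheaf.stalk (𝓘.subschemeι d)) (Submonoid.mem_map_of_mem _ hf)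
  have hmem : X.presheaf.germ U.1 (𝓘.subschemeι d) hxU f ∈
      IsLocalRing.maximalIdeal (X.presheaf.stalk (𝓘.subschemeι d)) := by
    rw [IsLocalRing.mem_maximalIdeal, mem_nonunits_iff]
    intro hu
    have h1 : Ideal.span {X.presheaf.germ U.1 (𝓘.subschemeι d) hxU f} = ⊤ :=
      Ideal.span_singleton_eq_top.mpr hu
    have h2 : (1 : X.presheaf.stalk (𝓘.subschemeι d)) ∈ RingHom.ker (𝓘.subschemeι.stalkMap d).hom := by
      rw [hker, h1]
      exact Submodule.mem_top
    rw [RingHom.mem_ker, map_one] at h2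
    exact one_ne_zero h2
  have key := Groth.Agent.Lib.T2H2.SkCartier.sk_quotient
    (X.presheaf.germ U.1 (𝓘.subschemeι d) hxU f) hmem hreg k (hX (𝓘.subschemeι d))
  rw [ringKrullDim_eq_of_ringEquiv e,
    Groth.Agent.Lib.Helper28.depth_self_eq_of_ringEquiv e] at key
  exact key

end Groth.Agent.S1685
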