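import Groth.Statements.S0997
import Groth.Agent.Lib.T2H2TildeEqA
import Groth.Agent.Lib.T2H2NegVan
import Groth.Agent.Lib.Helper17DBrown5

set_option autoImplicit false
set_option linter.style.haveILetI false
universe u
open CategoryTheory CategoryTheory.Limits AlgebraicGeometry
attribute [local instance] HasDerivedCategory.standard
open Perf

namespace Groth.Agent.S0997

/-- The equivalence D(A) ≃ D_QCoh(O_X) for X = Spec A: assuming the tilde functor M ↦ M~ is recorded as
left exact, the induced functor D(A) ⥤ D(O_{Spec A}) is full and faithful, and an object of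
D(O_{Spec A}) has quasi-coherent cohomology sheaves if and only if it is in the essential image. -/
theorem result (R : CommRingCat.{u}) [PreservesFiniteLimits (tilde.functor R)] :
    (DCoh.tildeD R).Full ∧ (DCoh.tildeD R).Faithful ∧
    ∀ K : DCoh.D (Spec (CommRingCat.of R)), DCoh.IsQCohD K ↔ ∃ M, Nonempty ((DCoh.tildeD R).obj M ≅ K) := by
  haveI : IsGrothendieckAbelian.{u} (Spec (CommRingCat.of R)).Modules :=
    Groth.Agent.Lib.T2H2.ModLim.isGrothendieckAbelian_modules _
  haveI : PreservesFiniteColimits (tilde.functor R) := by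
    haveI := (tilde.adjunction (R := R)).leftAdjoint_preservesColimits
    infer_instance
  haveI : (moduleSpecΓFunctor (R := R)).Additive :=
    (tilde.adjunction (R := R)).right_adjoint_additive
  let adj := Groth.Agent.Lib.T2H2.NegVan.adjRG (tilde.functor R) (moduleSpecΓFunctor (R := R))
    (tilde.adjunction (R := R))
  letI : (Groth.Agent.Lib.T2H2.NegVan.RG (moduleSpecΓFunctor (R := R))).CommShift ℤ :=
    adj.rightAdjointCommShift ℤ
  haveI : adj.CommShift ℤ := adj.commShift_of_leftAdjoint ℤ
  obtain ⟨θ⟩ := Groth.Agent.Lib.T2H2.TildeEq.nonempty_frX_top_iso_tilde R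
  have hX : IsAffineOpen (⊤ : (Spec (CommRingCat.of R)).Opens) := isAffineOpen_top _
  haveI : Projective (ModuleCat.of R R) := ModuleCat.projective_of_free (Module.Free.chooseBasis R R)
  have hP : IsSeparator (ModuleCat.of R R) := Groth.Agent.Lib.Helper17.DBrown.isSeparator_of_self R
  -- `L` is bijective on `Hom(R[0], -)`
  have hL : ∀ K : DerivedCategory (ModuleCat.{u} R), Function.Bijective
      (fun ξ : Groth.Agent.Lib.Helper17.Hyp.dsgl (ModuleCat.of R R) ⟶ K =>
        (tilde.functor R).mapDerivedCategory.map ξ) :=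
    Groth.Agent.Lib.T2H2.DAdj.bijective_map_of_c₀ (tilde.functor R) θ
      (fun K => Groth.Agent.Lib.T2H2.DAdj.bijective_c₀_of_projective.{u + 1, u} _ hP K)
      (DCoh.IsQCohD (X := Spec (CommRingCat.of R)))
      (fun K hK => Groth.Agent.Lib.T2H2.TildeEq.bijective_c₀_affine K hK hX)
      (fun K i => Groth.Agent.Lib.T2H2.TildeEq.isQuasicoherent_homology_tildeD R K i)
      (fun M => ⟨(tilde.functor R).map_injective, (tilde.functor R).map_surjective⟩)
  have hunit : ∀ N : DerivedCategory (ModuleCat.{u} R), IsIso (adj.unit.app N) :=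
    Groth.Agent.Lib.T2H2.DAdj.isIso_unit_app (tilde.functor R) adj
      (fun ψ h => Groth.Agent.Lib.T2H2.DAdj.isIso_homology_zero_of_bijective.{u + 1, u} _ hP ψ h)
      hL
  have hcounit : ∀ K : DCoh.D (Spec (CommRingCat.of R)), DCoh.IsQCohD K →
      IsIso (adj.counit.app K) :=
    Groth.Agent.Lib.T2H2.DAdj.isIso_counit_app (tilde.functor R) adj θ
      (DCoh.IsQCohD (X := Spec (CommRingCat.of R)))
      (fun K n hK i => Groth.Agent.Lib.T2H2.TildeEq.isQuasicoherent_homology_shift K hK n i)
      (fun K i => Groth.Agent.Lib.T2H2.TildeEq.isQuasicoherent_homology_tildeD R K i)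
      (fun ψ hK hK' h =>
        Groth.Agent.Lib.T2H2.TildeEq.isIso_homology_zero_of_bijective_top hX hK hK' ψ h)
      hunit
  haveI : IsIso adj.unit := NatIso.isIso_of_isIso_app _
  have hff := adj.fullyFaithfulLOfIsIsoUnit
  refine ⟨hff.full, hff.faithful, fun K => ⟨fun hK => ?_, ?_⟩⟩
  · haveI := hcounit K hK
    exact ⟨_, ⟨asIso (adj.counit.app K)⟩⟩
  · rintro ⟨M, ⟨e⟩⟩ i
    exact Groth.Agent.Lib.T2H8.QCohDCoprod.isQCoh_of_iso
      ((DerivedCategory.homologyFunctor _ i).mapIso e)
      (Groth.Agent.Lib.T2H2.TildeEq.isQuasicoherent_homology_tildeD R M i)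

end Groth.Agent.S0997
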