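import Groth.Statements.S10190
import Groth.Agent.S10177

set_option autoImplicit false
universe u
open CategoryTheory CategoryTheory.Limits AlgebraicGeometry Topology TopologicalSpace
open AlgSp

namespace Groth.Agent.S10190


/-- every point of a scheme has a generalization whose local ring has dimension zero. -/
lemma exists_generalization_dim_zero (U : Scheme.{u}) (u₀ : U) :
    ∃ η : U, η ⤳ u₀ ∧ ringKrullDim (U.presheaf.stalk η) = 0 := by
  have hirr : IsIrreducible (irreducibleComponent u₀) := isIrreducible_irreducibleComponent
  have hcl : IsClosed (irreducibleComponent u₀) := isClosed_irreducibleComponent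
  have hgen : IsGenericPoint hirr.genericPoint (irreducibleComponent u₀) := by
    have := hirr.isGenericPoint_genericPoint_closure
    rwa [hcl.closure_eq] at this
  refine ⟨hirr.genericPoint, hgen.specializes mem_irreducibleComponent, ?_⟩
  rw [ringKrullDim_stalk_eq_coheight]
  have hmax : IsMax hirr.genericPoint := by
    intro η' hη'
    -- `hη' : η' ⤳ genericPoint`
    have hsp : η' ⤳ hirr.genericPoint := hη'
    have hsub : irreducibleComponent u₀ ⊆ closure {η'} := by
      rw [← hgen.def]
      exact closure_minimal (Set.singleton_subset_iff.2 hsp.mem_closure) isClosed_closure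
    have heq : closure {η'} = irreducibleComponent u₀ :=
      eq_irreducibleComponent isIrreducible_singleton.closure.isPreirreducible hsub
    have hgen' : IsGenericPoint η' (irreducibleComponent u₀) := heq
    have : η' = hirr.genericPoint := hgen'.eq hgen
    rw [this]
  rw [Order.coheight_eq_zero.2 hmax]
  rfl

/-- For an algebraic space X over a scheme S, the set of codimension 0 points of X (points x of |X| such
that, for some representable etale h_U ⟶ X from a scheme U and some point u of U mapping to x, the
local ring of U at u has dimension 0) is dense in |X|. -/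
theorem result {S : Scheme.{u}} (X : AlgSp.Space S) :
    Dense {x : AlgSp.Points X.obj |
      AlgSp.HasAt (fun U u => ringKrullDim ↥(U.presheaf.stalk u) = 0) X.obj x} := by
  rw [dense_iff_inter_open]
  rintro W hW ⟨x, hx⟩
  obtain ⟨U, a, ha, has⟩ := X.property.atlas
  obtain ⟨u₀, rfl⟩ := Groth.Agent.S10177.surjective_ofPt a has x
  obtain ⟨η, hη, hdim⟩ := exists_generalization_dim_zero U.left u₀
  have hpre : IsOpen (AlgSp.Points.ofPt a ⁻¹' W) := hW.preimage (AlgSp.Points.continuous_ofPt a)
  have hηW : η ∈ AlgSp.Points.ofPt a ⁻¹' W := hη.mem_open hpre hx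
  exact ⟨AlgSp.Points.ofPt a η, hηW, U, a, η, ha, rfl, hdim⟩

end Groth.Agent.S10190
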