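import Groth.Statements.S10455
import Groth.Agent.Lib.T2H1ResTrdeg
import Groth.Agent.Lib.T2H1StalkDim
import Groth.Agent.Lib.Helper4DimFormulaAQ
import Groth.Agent.Lib.Helper3GrpHomQF
import Groth.Agent.S10177

set_option autoImplicit false
universe u
open CategoryTheory CategoryTheory.Limits AlgebraicGeometry Topology TopologicalSpace
open AlgSp

namespace Groth.Agent.S10455

/-- a point of a scheme without proper generizations has a zero-dimensional local ring. -/
lemma dim_zero_of_maximal (U : Scheme.{u}) (η : U) (hmax : ∀ τ : U, τ ⤳ η → τ = η) :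
    ringKrullDim ↥(U.presheaf.stalk η) = 0 := by
  rw [ringKrullDim_stalk_eq_coheight]
  have hmax' : IsMax η := by
    intro τ hτ
    have hsp : τ ⤳ η := hτ
    rw [hmax τ hsp]
  rw [Order.coheight_eq_zero.2 hmax']
  rfl

/-- "quasi-finite at a point" in the open-neighbourhood form, for a morphism locally of finite
type, is the vanishing of the local fibre dimension. -/
lemma qf_pred_iff {U V : Scheme.{u}} (k : U ⟶ V) [LocallyOfFiniteType k] (u : U) :
    (∃ W : U.Opens, u ∈ W ∧ LocallyQuasiFinite (W.ι ≫ k) ∧ LocallyOfFiniteType (W.ι ≫ k)) ↔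
      FlatMor.fibreDimAt k u ≤ 0 := by
  rw [← Groth.Agent.Lib.Helper3.GrpHomQF.quasiFiniteAt_iff_fibreDimAt_le_zero]
  constructor
  · rintro ⟨W, huW, hq, -⟩
    haveI := hq
    have h1 : (W.ι ≫ k).QuasiFiniteAt (⟨u, huW⟩ : W) := (W.ι ≫ k).quasiFiniteAt _
    rwa [Scheme.Hom.quasiFiniteAt_comp_iff_of_isOpenImmersion] at h1
  · intro hq
    exact ⟨k.quasiFiniteLocus, hq, inferInstance, inferInstance⟩

/-- Let f : X ⟶ Y be a morphism of algebraic spaces over a scheme S which is locally of finite type,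
with Y locally Noetherian, and let y be a point of Y of codimension at most 1. If every codimension
0 point x of X whose image specializes to y has transcendence degree 0 over its image, then every
point of X mapping to y is a point where f is quasi-finite. -/
theorem result {S : Scheme.{u}} {X Y : AlgSp.Space S} (f : X ⟶ Y)
    (hf : AlgSp.LocP @LocallyOfFiniteType f.hom) (hY : AlgSp.IsLocNoethSp Y.obj) (y : AlgSp.Points Y.obj)
    (hy : AlgSp.HasAt (fun U u => ringKrullDim ↥(U.presheaf.stalk u) ≤ 1) Y.obj y)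
    (h : ∀ x : AlgSp.Points X.obj, AlgSp.HasAt (fun U u => ringKrullDim ↥(U.presheaf.stalk u) = 0) X.obj x → AlgSp.Points.map f.hom x ⤳ y →
      AlgSp.HasAtMor (fun _ _ h u => Dual3.resTrdeg h u = 0) f.hom x)
    (x : AlgSp.Points X.obj) (hx : AlgSp.Points.map f.hom x = y) :
    AlgSp.HasAtMor (fun U _ h u => ∃ W : U.Opens, u ∈ W ∧ LocallyQuasiFinite (W.ι ≫ h) ∧ LocallyOfFiniteType (W.ι ≫ h)) f.hom x := by
  obtain ⟨V₀, p, hpe, hps, hV₀⟩ := hY
  haveI : IsLocallyNoetherian V₀.left := hV₀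
  obtain ⟨v, hv⟩ := Groth.Agent.S10177.surjective_ofPt p hps (AlgSp.Points.map f.hom x)
  obtain ⟨U, a₀, k, u, ha₀, hab, hu, huv⟩ :=
    Groth.Agent.Lib.T2H1.Tower.exists_chart_over X.property Y.property f.hom x p hpe v hv
  haveI : LocallyOfFiniteType k.left := hf a₀ p k ha₀ hpe hab
  have hdimv : ringKrullDim ↥(V₀.left.presheaf.stalk (k.left u)) ≤ 1 :=
    Groth.Agent.Lib.T2H1.HasAt.of_hasAt
      (Groth.Agent.Lib.T2H1.HasAt.etInv1_stalkDim (fun s => s ≤ 1)) y hy p hpe (k.left u)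
      (by rw [huv, hv, hx])
  have key : FlatMor.fibreDimAt k.left u = ((0 : ℕ) : WithBot ℕ∞) := by
    refine Groth.Agent.Lib.Helper4.DimFormula.fibreDimAt_eq_of_generic_LN k.left u 0 hdimv
      (fun η hηmax hηu => ?_)
    have hξ0 : AlgSp.HasAt (fun U u => ringKrullDim ↥(U.presheaf.stalk u) = 0) X.obj
        (AlgSp.Points.ofPt a₀ η) := ⟨U, a₀, η, ha₀, rfl, dim_zero_of_maximal _ η hηmax⟩
    have hsp : AlgSp.Points.map f.hom (AlgSp.Points.ofPt a₀ η) ⤳ y := by
      rw [← hx, ← hu]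
      exact (hηu.map (AlgSp.Points.continuous_ofPt a₀)).map (AlgSp.Points.continuous_map f.hom)
    have H := h (AlgSp.Points.ofPt a₀ η) hξ0 hsp
    have e0 : Dual3.resTrdeg k.left η = 0 :=
      Groth.Agent.Lib.T2H1.HasAt.of_hasAtMor
        (Groth.Agent.Lib.T2H1.ResTrdeg.etInv_resTrdeg (fun t => t = (0 : Cardinal.{u})))
        f.hom _ H a₀ p k ha₀ hpe hab η rfl
    rw [Groth.Agent.Lib.Helper4.DimFormula.fibreDimAt_eq_ptTrdeg_of_maximal k.left η
      (fun y _ hy => hηmax y hy)]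
    rw [Groth.Agent.Lib.T2H1.ResTrdeg.resTrdeg_eq_ptTrdeg] at e0
    have e0' : Groth.Agent.Lib.Helper4.DimFormula.ptTrdeg k.left η = 0 := by exact_mod_cast e0
    rw [e0']
  refine ⟨U, V₀, a₀, p, k, u, ha₀, hpe, hab, hu, ?_⟩
  exact (qf_pred_iff k.left u).2 (by rw [key]; rfl)

end Groth.Agent.S10455
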