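import Groth.Statements.S10456
import Groth.Agent.S10455
import Groth.Agent.Lib.Helper4VarDim6
import Groth.Agent.Lib.Helper4FibDimG
import Groth.Agent.S10176

set_option autoImplicit false
universe u
open CategoryTheory CategoryTheory.Limits AlgebraicGeometry Topology TopologicalSpace
open AlgSp

namespace Groth.Agent.S10456

/-- a maximal point of a locally Noetherian scheme has an open neighbourhood inside its closure. -/
lemma exists_opens_subset_closure (U : Scheme.{u}) [IsLocallyNoetherian U] (η : U)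
    (hmax : ∀ τ : U, τ ⤳ η → τ = η) :
    ∃ N : U.Opens, η ∈ N ∧ (N : Set U) ⊆ closure {η} := by
  obtain ⟨V, hV, hηV, -⟩ := exists_isAffineOpen_mem_and_subset (X := U) (U := ⊤) (x := η) trivial
  haveI : IsNoetherianRing Γ(U, V) := IsLocallyNoetherian.component_noetherian ⟨V, hV⟩
  have hN := noetherianSpace_of_isAffineOpen V hV
  exact @Groth.Agent.Lib.Helper4.VarDim.exists_opens_subset_closure_of_maximal _ _ _ V hN η hηV hmax

/-- Let f : X ⟶ Y be a morphism of algebraic spaces over a scheme S which is locally of finite type,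
with Y locally Noetherian, and let y be a point of Y of codimension at most 1. If the points of |X|
where f is quasi-finite form a dense subset, then every point of X mapping to y is a point where f
is quasi-finite. -/
theorem result {S : Scheme.{u}} {X Y : AlgSp.Space S} (f : X ⟶ Y)
    (hf : AlgSp.LocP @LocallyOfFiniteType f.hom) (hY : AlgSp.IsLocNoethSp Y.obj) (y : AlgSp.Points Y.obj)
    (hy : AlgSp.HasAt (fun U u => ringKrullDim ↥(U.presheaf.stalk u) ≤ 1) Y.obj y)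
    (h : Dense {x : AlgSp.Points X.obj | AlgSp.HasAtMor (fun U _ h u => ∃ W : U.Opens, u ∈ W ∧ LocallyQuasiFinite (W.ι ≫ h) ∧ LocallyOfFiniteType (W.ι ≫ h)) f.hom x})
    (x : AlgSp.Points X.obj) (hx : AlgSp.Points.map f.hom x = y) :
    AlgSp.HasAtMor (fun U _ h u => ∃ W : U.Opens, u ∈ W ∧ LocallyQuasiFinite (W.ι ≫ h) ∧ LocallyOfFiniteType (W.ι ≫ h)) f.hom x := by
  obtain ⟨V₀, p, hpe, hps, hV₀⟩ := hY
  haveI : IsLocallyNoetherian V₀.left := hV₀
  obtain ⟨v, hv⟩ := Groth.Agent.S10177.surjective_ofPt p hps (AlgSp.Points.map f.hom x)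
  obtain ⟨U, a₀, k, u, ha₀, hab, hu, huv⟩ :=
    Groth.Agent.Lib.T2H1.Tower.exists_chart_over X.property Y.property f.hom x p hpe v hv
  haveI : LocallyOfFiniteType k.left := hf a₀ p k ha₀ hpe hab
  haveI : IsLocallyNoetherian U.left := LocallyOfFiniteType.isLocallyNoetherian k.left
  have hdimv : ringKrullDim ↥(V₀.left.presheaf.stalk (k.left u)) ≤ 1 :=
    Groth.Agent.Lib.T2H1.HasAt.of_hasAt
      (Groth.Agent.Lib.T2H1.HasAt.etInv1_stalkDim (fun s => s ≤ 1)) y hy p hpe (k.left u)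
      (by rw [huv, hv, hx])
  have hDopen : IsOpen {u' : ↥U.left | FlatMor.fibreDimAt k.left u' ≤ 0} :=
    Groth.Agent.Lib.Helper4.FibDim.isOpen_setOf_fibreDimAt_le' k.left 0
  have key : FlatMor.fibreDimAt k.left u = ((0 : ℕ) : WithBot ℕ∞) := by
    refine Groth.Agent.Lib.Helper4.DimFormula.fibreDimAt_eq_of_generic_LN k.left u 0 hdimv
      (fun η hηmax hηu => ?_)
    obtain ⟨N, hηN, hNcl⟩ := exists_opens_subset_closure U.left η hηmax
    have hNopen : IsOpen (AlgSp.Points.ofPt a₀ '' (N : Set ↥U.left)) :=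
      Groth.Agent.S10176.isOpenMap_ofPt a₀ ha₀ _ N.isOpen
    obtain ⟨x₁, hx₁N, hx₁D⟩ := h.inter_open_nonempty _ hNopen ⟨_, η, hηN, rfl⟩
    obtain ⟨n, hnN, rfl⟩ := hx₁N
    have hn : FlatMor.fibreDimAt k.left n ≤ 0 := by
      obtain ⟨U₁, V₁, a₁, b₁, h₁, u₁, ha₁, hb₁, hab₁, hu₁, hQ₁⟩ := hx₁D
      haveI : LocallyOfFiniteType h₁.left := hf a₁ b₁ h₁ ha₁ hb₁ hab₁
      have h0 : FlatMor.fibreDimAt h₁.left u₁ ≤ 0 := (Groth.Agent.S10455.qf_pred_iff h₁.left u₁).1 hQ₁
      exact Groth.Agent.Lib.T2H1.HasAt.of_hasAtMor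
        (Groth.Agent.Lib.T2H1.HasAt.etInv_fibreDim (fun s => s ≤ 0)) f.hom _
        ⟨U₁, V₁, a₁, b₁, h₁, u₁, ha₁, hb₁, hab₁, hu₁, h0⟩ a₀ p k ha₀ hpe hab n rfl
    have hηn : η ⤳ n := specializes_iff_mem_closure.2 (hNcl hnN)
    have hη0 : FlatMor.fibreDimAt k.left η ≤ 0 := hηn.mem_open hDopen hn
    rw [Groth.Agent.Lib.Helper4.DimFormula.fibreDimAt_eq_ptTrdeg_of_maximal k.left η
      (fun y _ hy => hηmax y hy)] at hη0 ⊢
    have e0' : Groth.Agent.Lib.Helper4.DimFormula.ptTrdeg k.left η = 0 := by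
      have : ((Groth.Agent.Lib.Helper4.DimFormula.ptTrdeg k.left η : ℕ) : WithBot ℕ∞) ≤ ((0 : ℕ) : WithBot ℕ∞) := hη0
      have h2 : Groth.Agent.Lib.Helper4.DimFormula.ptTrdeg k.left η ≤ 0 := by exact_mod_cast this
      omega
    rw [e0']
  refine ⟨U, V₀, a₀, p, k, u, ha₀, hpe, hab, hu, ?_⟩
  exact (Groth.Agent.S10455.qf_pred_iff k.left u).2 (by rw [key]; rfl)

end Groth.Agent.S10456
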