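import Groth.Statements.S10391
import Groth.Agent.Lib.T2H1FieldSp
import Groth.Agent.S10338

set_option autoImplicit false
universe u
open CategoryTheory CategoryTheory.Limits AlgebraicGeometry Topology TopologicalSpace
open AlgSp

namespace Groth.Agent.S10391


open Groth.Agent.Lib.T2H1.FieldSp in
/-- a subset of open Jacobson-closed points of a locally Noetherian scheme is closed. -/
lemma isClosed_of_forall_isOpen_singleton (U : Scheme.{u}) [IsLocallyNoetherian U]
    [JacobsonSpace ↥U] (F : Set ↥U) (hF : ∀ z ∈ F, IsOpen ({z} : Set ↥U)) : IsClosed F := by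
  rw [← isOpen_compl_iff, isOpen_iff_forall_mem_open]
  intro w hw
  obtain ⟨_, ⟨W, hW, rfl⟩, hwW, -⟩ := U.isBasis_affineOpens.exists_subset_of_mem_open
    (Set.mem_univ w) isOpen_univ
  replace hW : IsAffineOpen W := hW
  haveI : IsNoetherianRing Γ(U, W) := IsLocallyNoetherian.component_noetherian ⟨W, hW⟩
  haveI : NoetherianSpace ((W : Set U) : Type u) := noetherianSpace_of_isAffineOpen W hW
  have hcomp : IsCompact ((W : Set U) ∩ F) := by
    have h1 : IsCompact ((Subtype.val : ((W : Set U) : Type u) → U) ⁻¹' F) :=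
      NoetherianSpace.isCompact _
    have h2 := h1.image continuous_subtype_val
    rwa [Subtype.image_preimage_coe] at h2
  have hdisc : IsDiscrete ((W : Set U) ∩ F) := by
    rw [isDiscrete_iff_forall_mem_exists_isOpen]
    intro y hy
    refine ⟨{y}, hF y hy.2, ?_⟩
    rw [Set.inter_eq_left]
    exact Set.singleton_subset_iff.2 hy
  have hfin : ((W : Set U) ∩ F).Finite := hcomp.finite hdisc
  have hcl : IsClosed ((W : Set U) ∩ F) := by
    have := hfin.isClosed_biUnion (f := fun z => ({z} : Set U)) (fun z hz =>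
      isClosed_singleton_of_isLocallyClosed_singleton (hF z hz.2).isLocallyClosed)
    rwa [Set.biUnion_of_singleton] at this
  refine ⟨(W : Set U) ∩ ((W : Set U) ∩ F)ᶜ, ?_, W.isOpen.inter hcl.isOpen_compl, hwW, ?_⟩
  · rintro z ⟨hzW, hz⟩ hzF
    exact hz ⟨hzW, hzF⟩
  · rintro ⟨-, h⟩
    exact hw h

/-- Let k be a field, X an algebraic space over k which is locally of finite type, and x ∈ |X|. The
conditions (2) x is closed in |X| and has no proper generization, (3) x is an isolated point of |X|,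
(4) dim_x(X) = 0 are equivalent; if X is decent they are also equivalent to (1) dim_x(|X|) = 0. (The
equivalence with quasi-finiteness of X → Spec k at x is not part of this row.) -/
theorem result (k : Type u) [Field k] (X : AlgSp.Space (Spec (CommRingCat.of k)))
    (p : X.obj ⟶ (AlgSp.yon (Spec (CommRingCat.of k))).obj (Over.mk (𝟙 _))) (hp : AlgSp.LocP @LocallyOfFiniteType p) (x : AlgSp.Points X.obj) :
    (IsOpen ({x} : Set (AlgSp.Points X.obj)) ↔
        (IsClosed ({x} : Set (AlgSp.Points X.obj)) ∧ ∀ x' : AlgSp.Points X.obj, x' ⤳ x → x' = x)) ∧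
      (IsOpen ({x} : Set (AlgSp.Points X.obj)) ↔ AlgSp.HasAt (fun U u => FlatMor.localDim ↥U u = 0) X.obj x) ∧
      (AlgSp.IsDecent X.obj →
        (FlatMor.localDim (AlgSp.Points X.obj) x = 0 ↔ IsOpen ({x} : Set (AlgSp.Points X.obj)))) := by
  obtain ⟨U₀, a₀, he, hs⟩ := X.property.atlas
  obtain ⟨u₀, hu₀⟩ := Groth.Agent.S10177.surjective_ofPt a₀ hs x
  obtain ⟨hLN, hJ⟩ := Groth.Agent.Lib.T2H1.FieldSp.chart_props X p hp a₀ he
  haveI := hLN
  haveI := hJ
  -- image of an open point of the atlas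
  have himg : IsOpen ({u₀} : Set ↥U₀.left) → IsOpen ({x} : Set (AlgSp.Points X.obj)) := by
    intro h
    have := Groth.Agent.S10176.isOpenMap_ofPt a₀ he _ h
    rwa [Set.image_singleton, hu₀] at this
  -- if `{x}` is open, all points over `x` are open
  have hopen : IsOpen ({x} : Set (AlgSp.Points X.obj)) →
      ∀ z : ↥U₀.left, AlgSp.Points.ofPt a₀ z = x → IsOpen ({z} : Set ↥U₀.left) := by
    intro hx z hz
    refine Groth.Agent.Lib.T2H1.FieldSp.isOpen_singleton_of_fibre U₀.left
      (AlgSp.Points.ofPt a₀ ⁻¹' {x}) (AlgSp.Points.ofPt a₀ ⁻¹' {x})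
      (hx.preimage (AlgSp.Points.continuous_ofPt a₀)) subset_rfl (fun z hz _ => hz) ?_ z hz
    intro z' hz' τ hτ
    exact Groth.Agent.Lib.T2H1.FieldSp.maximal_of_dim_zero U₀.left z'
      (Groth.Agent.Lib.T2H1.FieldSp.dim_zero_of_isOpen X a₀ he x hx z' hz') τ hτ
  -- closed fibre with no generizations gives an open point
  have hclosed : ∀ O : Set ↥U₀.left, IsOpen O → AlgSp.Points.ofPt a₀ ⁻¹' {x} ⊆ O →
      (∀ z ∈ O, z ∈ closure (AlgSp.Points.ofPt a₀ ⁻¹' {x}) → z ∈ AlgSp.Points.ofPt a₀ ⁻¹' {x}) →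
      (∀ x' : AlgSp.Points X.obj, x' ⤳ x → x' = x) →
      IsOpen ({x} : Set (AlgSp.Points X.obj)) := by
    intro O hO hFO hF hgen
    apply himg
    refine Groth.Agent.Lib.T2H1.FieldSp.isOpen_singleton_of_fibre U₀.left O
      (AlgSp.Points.ofPt a₀ ⁻¹' {x}) hO hFO hF ?_ u₀ hu₀
    intro z hz τ hτ
    exact Groth.Agent.Lib.T2H1.FieldSp.maximal_of_no_generization X a₀ he x hgen z hz τ hτ
  refine ⟨⟨fun hx => ⟨?_, ?_⟩, ?_⟩, ⟨?_, ?_⟩, ?_⟩
  · -- closed
    apply Groth.Agent.Lib.T2H1.FieldSp.isClosed_of_preimage_atlas a₀ he hs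
    exact isClosed_of_forall_isOpen_singleton U₀.left _ (fun z hz => hopen hx z hz)
  · intro x' hx'
    exact hx'.mem_open hx rfl
  · rintro ⟨hcl, hgen⟩
    have hFc : IsClosed (AlgSp.Points.ofPt a₀ ⁻¹' {x}) :=
      hcl.preimage (AlgSp.Points.continuous_ofPt a₀)
    refine hclosed Set.univ isOpen_univ (Set.subset_univ _) (fun z _ hz => ?_) hgen
    rwa [hFc.closure_eq] at hz
  · intro hx
    refine ⟨U₀, a₀, u₀, he, hu₀, ?_⟩
    exact le_antisymm
      ((Groth.Agent.Lib.Helper3.GrpHomQF.isOpen_singleton_iff_localDim_le_zero U₀.left u₀).1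
        (hopen hx u₀ hu₀))
      (Groth.Agent.Lib.Helper7.TopDim.localDim_nonneg u₀)
  · rintro ⟨U, a, u, ha, hu, hdim⟩
    obtain ⟨hLN', -⟩ := Groth.Agent.Lib.T2H1.FieldSp.chart_props X p hp a ha
    haveI := hLN'
    have h1 : IsOpen ({u} : Set ↥U.left) :=
      (Groth.Agent.Lib.Helper3.GrpHomQF.isOpen_singleton_iff_localDim_le_zero U.left u).2 hdim.le
    have := Groth.Agent.S10176.isOpenMap_ofPt a ha _ h1
    rwa [Set.image_singleton, hu] at this
  · intro hdec
    haveI : T0Space (AlgSp.Points X.obj) := Groth.Agent.S10338.result X hdec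
    constructor
    · intro hdim
      obtain ⟨O, hxO, hO⟩ := Groth.Agent.Lib.Helper7.TopDim.exists_opens_dim_eq_localDim x
      rw [hdim] at hO
      have hspec : ∀ y y' : AlgSp.Points X.obj, y ∈ O → y' ∈ O → y' ⤳ y → y' = y := by
        intro y y' hy hy' hyy'
        have h1 : (⟨y', hy'⟩ : ((O : Set (AlgSp.Points X.obj)) : Type _)) ⤳ ⟨y, hy⟩ :=
          Topology.IsInducing.subtypeVal.specializes_iff.1 hyy'
        have := Groth.Agent.Lib.T2H1.FieldSp.eq_of_specializes_of_dim_le_zero hO.le h1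
        exact congrArg Subtype.val this
      have hgen : ∀ x' : AlgSp.Points X.obj, x' ⤳ x → x' = x := fun x' hx' =>
        hspec x x' hxO (hx'.mem_open O.isOpen hxO) hx'
      refine hclosed (AlgSp.Points.ofPt a₀ ⁻¹' (O : Set (AlgSp.Points X.obj)))
        (O.isOpen.preimage (AlgSp.Points.continuous_ofPt a₀)) ?_ ?_ hgen
      · intro z hz
        have : AlgSp.Points.ofPt a₀ z = x := hz
        show AlgSp.Points.ofPt a₀ z ∈ O
        rw [this]; exact hxO
      · intro z hzO hz
        have h1 : AlgSp.Points.ofPt a₀ z ∈ closure ({x} : Set (AlgSp.Points X.obj)) := by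
          have h2 := image_closure_subset_closure_image (AlgSp.Points.continuous_ofPt a₀)
            (Set.mem_image_of_mem _ hz)
          refine closure_mono ?_ h2
          rintro _ ⟨w, hw, rfl⟩
          exact hw
        have h3 : x ⤳ AlgSp.Points.ofPt a₀ z := specializes_iff_mem_closure.2 h1
        exact (hspec _ _ hzO hxO h3).symm
    · intro hx
      refine le_antisymm ?_ (Groth.Agent.Lib.Helper7.TopDim.localDim_nonneg x)
      haveI : DiscreteTopology (((⟨{x}, hx⟩ : Opens (AlgSp.Points X.obj)) :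
          Set (AlgSp.Points X.obj)) : Type _) := by
        haveI : Subsingleton (((⟨{x}, hx⟩ : Opens (AlgSp.Points X.obj)) :
          Set (AlgSp.Points X.obj)) : Type _) :=
          ⟨fun a b => Subtype.ext (a.2.trans b.2.symm)⟩
        infer_instance
      exact (Groth.Agent.Lib.Helper7.TopDim.localDim_le x ⟨{x}, hx⟩ rfl).trans
        (topologicalKrullDim_zero_of_discreteTopology _)

end Groth.Agent.S10391
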