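import Groth.Statements.S10448
import Groth.Agent.Lib.T2H1StalkDim
import Groth.Agent.Lib.T2H1HasAt1
import Groth.Agent.Lib.Helper10IntDim
import Groth.Agent.Lib.Helper4FibDimL
import Groth.Agent.S10177
import Groth.Agent.S10176

set_option autoImplicit false
universe u
open CategoryTheory CategoryTheory.Limits AlgebraicGeometry Topology TopologicalSpace
open AlgSp

namespace Groth.Agent.S10448


/-- an affine etale chart through a given point of an algebraic space. -/
lemma exists_affine_etale_nbhd {S : Scheme.{u}} (Y : AlgSp.Space S) (y : AlgSp.Points Y.obj) :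
    ∃ (V : Over S) (b : (AlgSp.yon S).obj V ⟶ Y.obj) (v : ↥V.left),
      AlgSp.RepWith @Etale b ∧ IsAffine V.left ∧ AlgSp.Points.ofPt b v = y := by
  obtain ⟨V₀, b₀, hb₀, hbs⟩ := Y.property.atlas
  obtain ⟨v₀, hv₀⟩ := Groth.Agent.S10177.surjective_ofPt b₀ hbs y
  obtain ⟨V₁, hV₁aff, hv₀V₁, -⟩ :=
    exists_isAffineOpen_mem_and_subset (X := V₀.left) (x := v₀) (U := ⊤) trivial
  let Vo : Over S := Over.mk (V₁.ι ≫ V₀.hom)
  let ι : Vo ⟶ V₀ := Over.homMk V₁.ι rfl
  have hι : AlgSp.RepWith @Etale ((AlgSp.yon S).map ι) :=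
    (AlgSp.repWith_yon_map_iff _ _).2 (inferInstance : Etale V₁.ι)
  refine ⟨Vo, (AlgSp.yon S).map ι ≫ b₀, (⟨v₀, hv₀V₁⟩ : ↥V₁),
    (AlgSp.RepWith @Etale).comp_mem _ _ hι hb₀, hV₁aff, ?_⟩
  rw [Groth.Agent.S10176.ofPt_map_comp]
  exact hv₀

/-- For an integral morphism f : X ⟶ Y of algebraic spaces over a scheme S, the dimension of X is at
most the dimension of Y. -/
theorem result {S : Scheme.{u}} {X Y : AlgSp.Space S} (f : X ⟶ Y)
    (hf : AlgSp.IsIntegralMor f.hom) : AlgSp.dim X.obj ≤ AlgSp.dim Y.obj := by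
  unfold AlgSp.dim
  refine iSup_le fun U => iSup_le fun a => iSup_le fun ha => ?_
  rw [Groth.Agent.Lib.Helper4.FibDim.topologicalKrullDim_eq_iSup_ringKrullDim_stalk]
  refine iSup_le fun u => ?_
  obtain ⟨V, b, v, hb, hVaff, hv⟩ :=
    exists_affine_etale_nbhd Y (AlgSp.Points.map f.hom (AlgSp.Points.ofPt a u))
  obtain ⟨W, i, fst, sq, hWaff, hi⟩ := hf hVaff b
  have hfst : AlgSp.RepWith @Etale fst :=
    MorphismProperty.of_isPullback (P := AlgSp.RepWith @Etale) sq.flip hb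
  obtain ⟨p, hp1, -⟩ := Groth.Agent.S10175.exists_point_of_isPullback sq
    (AlgSp.Points.ofPt a u) (AlgSp.Points.ofScheme V v)
    (by rw [← AlgSp.Points.ofPt_eq_map_ofScheme, hv])
  obtain ⟨w, rfl⟩ := (AlgSp.Points.schemeHomeo W).surjective p
  have hw : AlgSp.Points.ofPt fst w = AlgSp.Points.ofPt a u := by
    rw [AlgSp.Points.ofPt_eq_map_ofScheme]
    exact hp1
  have e1 : ringKrullDim ↥(W.left.presheaf.stalk w) = ringKrullDim ↥(U.left.presheaf.stalk u) :=
    Groth.Agent.Lib.T2H1.HasAt.of_hasAt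
      (Groth.Agent.Lib.T2H1.HasAt.etInv1_stalkDim
        (fun t => t = ringKrullDim ↥(U.left.presheaf.stalk u)))
      (AlgSp.Points.ofPt a u) ⟨U, a, u, ha, rfl, rfl⟩ fst hfst w hw
  rw [← e1]
  haveI : IsIntegralHom i.left := hi
  have hfin : topologicalKrullDim ↥V.left ≤ ⨆ (U : Over S) (a : (AlgSp.yon S).obj U ⟶ Y.obj)
      (_ : AlgSp.RepWith @Etale a), topologicalKrullDim ↥U.left :=
    le_iSup_of_le V (le_iSup_of_le b (le_iSup_of_le hb le_rfl))
  refine le_trans ?_ hfin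
  calc ringKrullDim ↥(W.left.presheaf.stalk w)
      ≤ topologicalKrullDim ↥W.left := by
        rw [Groth.Agent.Lib.Helper4.FibDim.topologicalKrullDim_eq_iSup_ringKrullDim_stalk]
        exact le_iSup (fun w : ↥W.left => ringKrullDim ↥(W.left.presheaf.stalk w)) w
    _ ≤ topologicalKrullDim ↥V.left := (Groth.Agent.Lib.Helper10.IntDim.main9683 i.left).1

end Groth.Agent.S10448
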