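import Groth.Statements.S10406
import Groth.Agent.S10340
import Groth.Agent.S10343
import Groth.Agent.S10448
import Groth.Agent.S10175
import Groth.Agent.S10176

set_option autoImplicit false
universe u
open CategoryTheory CategoryTheory.Limits AlgebraicGeometry Topology TopologicalSpace
open AlgSp

namespace Groth.Agent.S10406

/-- points of a fibre product `h_W = F ×_G h_U` with given images. -/
lemma exists_point_of_sq {S : Scheme.{u}} {F G : AlgSp.Sp S} {f : F ⟶ G} {U W : Over S}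
    {α : (AlgSp.yon S).obj U ⟶ G} {i : W ⟶ U} {fst : (AlgSp.yon S).obj W ⟶ F}
    (sq : IsPullback fst ((AlgSp.yon S).map i) f α) (y : AlgSp.Points F) (u : ↥U.left)
    (e : AlgSp.Points.map f y = AlgSp.Points.ofPt α u) :
    ∃ z : ↥W.left, AlgSp.Points.ofPt fst z = y ∧ i.left z = u := by
  rw [AlgSp.Points.ofPt_eq_map_ofScheme] at e
  obtain ⟨p, hp1, hp2⟩ := Groth.Agent.S10175.exists_point_of_isPullback sq y _ e
  obtain ⟨z, rfl⟩ := (AlgSp.Points.schemeHomeo W).surjective p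
  refine ⟨z, ?_, ?_⟩
  · rw [AlgSp.Points.ofPt_eq_map_ofScheme]; exact hp1
  · apply (AlgSp.Points.schemeHomeo U).injective
    rw [← AlgSp.Points.map_yon_map_apply]
    exact hp2

/-- the fibres of a finite morphism to a decent space contain no nontrivial specializations. -/
lemma eq_of_specializes_of_finite {S : Scheme.{u}} {X Y : AlgSp.Space S} (f : Y ⟶ X)
    (hf : AlgSp.IsFiniteMor f.hom) (hX : AlgSp.IsDecent X.obj) (hY : AlgSp.IsDecent Y.obj)
    (y₁ y₂ : AlgSp.Points Y.obj) (hs : y₁ ⤳ y₂)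
    (he : AlgSp.Points.map f.hom y₁ = AlgSp.Points.map f.hom y₂) : y₁ = y₂ := by
  obtain ⟨U, α, u, hα, hUaff, hu⟩ :=
    Groth.Agent.S10448.exists_affine_etale_nbhd X (AlgSp.Points.map f.hom y₂)
  obtain ⟨W, i, fst, sq, -, hfin⟩ := hf hUaff α
  haveI := hfin
  have hfst : AlgSp.RepWith @Etale fst :=
    MorphismProperty.of_isPullback (P := AlgSp.RepWith @Etale) sq.flip hα
  obtain ⟨z₂, hz₂, hiz₂⟩ := exists_point_of_sq sq y₂ u hu.symm
  obtain ⟨z₁, hz₁s, hz₁⟩ := Groth.Agent.S10343.result Y y₂ y₁ hs (hY y₁) fst hfst z₂ hz₂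
  have hα1 : AlgSp.Points.ofPt α (i.left z₁) = AlgSp.Points.map f.hom y₁ := by
    rw [← hz₁, AlgSp.Points.map_ofPt, sq.w, Groth.Agent.S10176.ofPt_map_comp]
  have hsp : i.left z₁ ⤳ u := by
    rw [← hiz₂]; exact hz₁s.map i.left.continuous
  have hiu : u = i.left z₁ :=
    Groth.Agent.S10340.result X hX α hα u (i.left z₁) (by rw [hα1, he, hu]) hsp
  haveI : DiscreteTopology ↥(i.left ⁻¹' {u}) := (i.left.isDiscrete_preimage_singleton u).to_subtype
  have hm₁ : z₁ ∈ i.left ⁻¹' {u} := hiu.symm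
  have hm₂ : z₂ ∈ i.left ⁻¹' {u} := hiz₂
  have hsub : (⟨z₁, hm₁⟩ : ↥(i.left ⁻¹' {u})) ⤳ ⟨z₂, hm₂⟩ :=
    Topology.IsInducing.subtypeVal.specializes_iff.1 hz₁s
  have hzz : z₁ = z₂ := congrArg Subtype.val hsub.eq
  rw [← hz₁, ← hz₂, hzz]

/-- Let S be a scheme, Y and X decent, locally Noetherian algebraic spaces over S, and f : Y ⟶ X a
surjective finite morphism, and let δ : |X| → ℤ be a function. Suppose δ ∘ |f| is a dimension
function on |Y| (it decreases strictly along nontrivial specializations and by exactly one along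
immediate specializations). Then δ is a dimension function on |X|. -/
theorem result {S : Scheme.{u}} {X Y : AlgSp.Space S} (f : Y ⟶ X)
    (hf : AlgSp.IsFiniteMor f.hom) (hs : AlgSp.IsSurjectiveMor f.hom) (hX : AlgSp.IsDecent X.obj)
    (hY : AlgSp.IsDecent Y.obj) (hXN : AlgSp.IsLocNoethSp X.obj) (hYN : AlgSp.IsLocNoethSp Y.obj)
    (δ : AlgSp.Points X.obj → ℤ)
    (hδ : (∀ a b : AlgSp.Points Y.obj, a ⤳ b → a ≠ b → (δ ∘ AlgSp.Points.map f.hom) b < (δ ∘ AlgSp.Points.map f.hom) a ∧ ((∀ c : AlgSp.Points Y.obj, a ⤳ c → c ⤳ b → c = a ∨ c = b) → (δ ∘ AlgSp.Points.map f.hom) a = (δ ∘ AlgSp.Points.map f.hom) b + 1))) :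
    (∀ a b : AlgSp.Points X.obj, a ⤳ b → a ≠ b → δ b < δ a ∧ ((∀ c : AlgSp.Points X.obj, a ⤳ c → c ⤳ b → c = a ∨ c = b) → δ a = δ b + 1)) := by
  intro a b hab hne
  obtain ⟨U, α, u_b, hα, hUaff, hu_b⟩ := Groth.Agent.S10448.exists_affine_etale_nbhd X b
  obtain ⟨u_a, hu_as, hu_a⟩ := Groth.Agent.S10343.result X b a hab (hX a) α hα u_b hu_b
  obtain ⟨W, i, fst, sq, -, hfin⟩ := hf hUaff α
  haveI := hfin
  obtain ⟨a', ha'⟩ := hs a
  obtain ⟨z_a, hz_a, hiz_a⟩ := exists_point_of_sq sq a' u_a (ha'.trans hu_a.symm)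
  obtain ⟨z_b, hz_abs, hiz_b⟩ := i.left.isClosedMap.specializingMap (by rw [hiz_a]; exact hu_as)
  have hzab : z_a ⤳ z_b := hz_abs
  have hsp' : a' ⤳ AlgSp.Points.ofPt fst z_b := by
    rw [← hz_a]; exact hzab.map (AlgSp.Points.continuous_ofPt fst)
  have hfb' : AlgSp.Points.map f.hom (AlgSp.Points.ofPt fst z_b) = b := by
    rw [AlgSp.Points.map_ofPt, sq.w, Groth.Agent.S10176.ofPt_map_comp, hiz_b, hu_b]
  have hne' : a' ≠ AlgSp.Points.ofPt fst z_b := by
    intro h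
    apply hne
    rw [← ha', h, hfb']
  obtain ⟨h1, h2⟩ := hδ a' _ hsp' hne'
  simp only [Function.comp_apply, ha', hfb'] at h1 h2
  refine ⟨h1, fun himm => h2 (fun c' hac' hc'b' => ?_)⟩
  have h3 : a ⤳ AlgSp.Points.map f.hom c' := by
    rw [← ha']; exact hac'.map (AlgSp.Points.continuous_map f.hom)
  have h4 : AlgSp.Points.map f.hom c' ⤳ b := by
    rw [← hfb']; exact hc'b'.map (AlgSp.Points.continuous_map f.hom)
  rcases himm _ h3 h4 with hc | hc
  · left
    exact (eq_of_specializes_of_finite f hf hX hY a' c' hac' (by rw [ha', hc])).symm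
  · right
    exact eq_of_specializes_of_finite f hf hX hY c' _ hc'b' (by rw [hc, hfb'])

end Groth.Agent.S10406
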