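import Groth.Statements.S10390
import Groth.Agent.Lib.T2H1FibreEmb
import Groth.Agent.Lib.T2H1Tower
import Groth.Agent.Lib.Helper12QcPoint
import Groth.Agent.S10341
import Groth.Agent.S10406
import Groth.Agent.S9938
import Groth.Agent.S10175
import Groth.Agent.S10176
import Groth.Agent.S10177

set_option autoImplicit false
universe u
open CategoryTheory CategoryTheory.Limits AlgebraicGeometry Topology TopologicalSpace
open AlgSp

namespace Groth.Agent.S10390



/-- a point represented by a quasi-compact field-valued point has an etale chart with exactly one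
point over it. -/
lemma exists_chart_single {S : Scheme.{u}} (Y : AlgSp.Space S) (r : AlgSp.FieldPt Y.obj)
    (hq : AlgSp.RepWith @QuasiCompact r.toHom) :
    ∃ (V : Over S) (b : (AlgSp.yon S).obj V ⟶ Y.obj) (v : ↥V.left), AlgSp.RepWith @Etale b ∧
      AlgSp.Points.ofPt b v = AlgSp.Points.mk r ∧
      ∀ v' : ↥V.left, AlgSp.Points.ofPt b v' = AlgSp.Points.mk r → v' = v := by
  obtain ⟨V₀, b₀, hb₀e, hb₀s⟩ := Y.property.atlas
  obtain ⟨v₀, hv₀⟩ := Groth.Agent.S10177.surjective_ofPt b₀ hb₀s (AlgSp.Points.mk r)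
  obtain ⟨W, hW, hv₀W, -⟩ : ∃ W : V₀.left.Opens, W ∈ V₀.left.affineOpens ∧ v₀ ∈ W ∧ W ≤ ⊤ :=
    TopologicalSpace.Opens.isBasis_iff_nbhd.1 V₀.left.isBasis_affineOpens
      (TopologicalSpace.Opens.mem_top v₀)
  -- first chart : the affine open `W`
  let V₁ : Over S := Over.mk (W.ι ≫ V₀.hom)
  let ι₁ : V₁ ⟶ V₀ := Over.homMk W.ι rfl
  have hb₁ : AlgSp.RepWith @Etale ((AlgSp.yon S).map ι₁ ≫ b₀) :=
    (AlgSp.RepWith @Etale).comp_mem _ _
      ((AlgSp.repWith_yon_map_iff _ _).2 (inferInstance : Etale W.ι)) hb₀e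
  haveI : IsAffine V₁.left := hW
  let v₁ : ↥V₁.left := ⟨v₀, hv₀W⟩
  have hv₁ : AlgSp.Points.ofPt ((AlgSp.yon S).map ι₁ ≫ b₀) v₁ = AlgSp.Points.mk r := by
    rw [Groth.Agent.S10176.ofPt_map_comp]
    exact hv₀
  have hfin : (AlgSp.Points.ofPt ((AlgSp.yon S).map ι₁ ≫ b₀) ⁻¹' {AlgSp.Points.mk r}).Finite :=
    Groth.Agent.Lib.Helper12.QcPoint.finite_fibre_of_quasiCompact r hq _ hb₁
  have hnospec : ∀ v' : ↥V₁.left,
      AlgSp.Points.ofPt ((AlgSp.yon S).map ι₁ ≫ b₀) v' = AlgSp.Points.mk r → v' ⤳ v₁ → v₁ = v' :=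
    fun v' hv' hs => Groth.Agent.S10341.result Y (AlgSp.Points.mk r)
      (fun V b hV hb => by
        haveI := hV
        exact Groth.Agent.Lib.Helper12.QcPoint.finite_fibre_of_quasiCompact r hq b hb)
      _ hb₁ v₁ v' hv₁ hv' hs
  -- the closed set of the closures of the other points
  let Φ : Set ↥V₁.left :=
    (AlgSp.Points.ofPt ((AlgSp.yon S).map ι₁ ≫ b₀) ⁻¹' {AlgSp.Points.mk r}) \ {v₁}
  have hΦfin : Φ.Finite := hfin.subset Set.diff_subset
  have hC : IsClosed (⋃ v' ∈ Φ, closure ({v'} : Set ↥V₁.left)) :=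
    hΦfin.isClosed_biUnion (fun _ _ => isClosed_closure)
  have hv₁C : v₁ ∉ ⋃ v' ∈ Φ, closure ({v'} : Set ↥V₁.left) := by
    intro hmem
    simp only [Set.mem_iUnion] at hmem
    obtain ⟨v', hv'Φ, hv'⟩ := hmem
    have hs : v' ⤳ v₁ := specializes_iff_mem_closure.2 hv'
    exact hv'Φ.2 (hnospec v' hv'Φ.1 hs).symm
  let W₂ : V₁.left.Opens := ⟨(⋃ v' ∈ Φ, closure ({v'} : Set ↥V₁.left))ᶜ, hC.isOpen_compl⟩
  let V₂ : Over S := Over.mk (W₂.ι ≫ V₁.hom)
  let ι₂ : V₂ ⟶ V₁ := Over.homMk W₂.ι rfl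
  have hb₂ : AlgSp.RepWith @Etale ((AlgSp.yon S).map ι₂ ≫ (AlgSp.yon S).map ι₁ ≫ b₀) :=
    (AlgSp.RepWith @Etale).comp_mem _ _
      ((AlgSp.repWith_yon_map_iff _ _).2 (inferInstance : Etale W₂.ι)) hb₁
  let v₂ : ↥V₂.left := ⟨v₁, hv₁C⟩
  refine ⟨V₂, _, v₂, hb₂, ?_, ?_⟩
  · rw [Groth.Agent.S10176.ofPt_map_comp]
    exact hv₁
  · intro v' hv'
    rw [Groth.Agent.S10176.ofPt_map_comp] at hv'
    have hv'1 : (ι₂.left v' : ↥V₁.left) = v₁ := by
      by_contra hne
      have hΦ' : (ι₂.left v' : ↥V₁.left) ∈ Φ := ⟨hv', hne⟩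
      have hnot : (ι₂.left v' : ↥V₁.left) ∉ ⋃ v' ∈ Φ, closure ({v'} : Set ↥V₁.left) := v'.2
      apply hnot
      simp only [Set.mem_iUnion]
      exact ⟨_, hΦ', subset_closure rfl⟩
    exact Subtype.ext hv'1

/-- Let S be a scheme, X and Y algebraic spaces over S, and f : X ⟶ Y a morphism, and let y ∈ |Y| be a
point represented by a monomorphism Spec k ⟶ Y which is representable quasi-compact. Then for the
fibre X_k = Spec k ×_Y X the map |X_k| → |X| is a homeomorphism of |X_k| onto f⁻¹({y}) with its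
induced topology. -/
theorem result {S : Scheme.{u}} {X Y : AlgSp.Space S} (f : X ⟶ Y)
    (r : AlgSp.FieldPt Y.obj) (hm : Mono r.toHom) (hq : AlgSp.RepWith @QuasiCompact r.toHom)
    (Xk : AlgSp.Space S) (fst : Xk ⟶ X) (snd : Xk.obj ⟶ (AlgSp.yon S).obj r.pt) (hsq : IsPullback fst.hom snd f.hom r.toHom) :
    IsEmbedding (AlgSp.Points.map fst.hom) ∧
      Set.range (AlgSp.Points.map fst.hom) = AlgSp.Points.map f.hom ⁻¹' {AlgSp.Points.mk r} := by
  haveI := hm
  -- (a) injectivity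
  have hinj : Function.Injective (AlgSp.Points.map fst.hom) := by
    apply Groth.Agent.S9938.injective_map_of_injK
    exact Groth.Agent.S9938.injK_of_isPullback hsq.flip
      (fun K _ str a b hab => (cancel_mono r.toHom).1 hab)
  -- all points of `Spec k` map to `y`
  have hpt : ∀ t : AlgSp.Points ((AlgSp.yon S).obj r.pt),
      AlgSp.Points.map r.toHom t = AlgSp.Points.mk r := by
    intro t
    obtain ⟨s, rfl⟩ := (AlgSp.Points.schemeHomeo r.pt).surjective t
    have : AlgSp.Points.schemeHomeo r.pt s = AlgSp.Points.ofScheme r.pt s := rfl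
    rw [this, ← AlgSp.Points.ofPt_eq_map_ofScheme]
    exact AlgSp.Points.ofPt_toHom r s
  have hfib : ∀ z : AlgSp.Points Xk.obj,
      AlgSp.Points.map f.hom (AlgSp.Points.map fst.hom z) = AlgSp.Points.mk r := by
    intro z
    rw [← AlgSp.Points.map_comp, hsq.w, AlgSp.Points.map_comp, hpt]
  -- (b) the range
  have hrange : Set.range (AlgSp.Points.map fst.hom) =
      AlgSp.Points.map f.hom ⁻¹' {AlgSp.Points.mk r} := by
    ext x
    constructor
    · rintro ⟨z, rfl⟩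
      exact hfib z
    · intro hx
      let t : AlgSp.Points ((AlgSp.yon S).obj r.pt) :=
        AlgSp.Points.schemeHomeo r.pt (((⊥ : PrimeSpectrum r.K) : ↥r.pt.left))
      obtain ⟨p, hp1, -⟩ := Groth.Agent.S10175.exists_point_of_isPullback hsq x t
        (by rw [hpt]; exact hx)
      exact ⟨p, hp1⟩
  refine ⟨⟨?_, hinj⟩, hrange⟩
  -- (c) the topology is induced
  constructor
  apply le_antisymm
  · exact continuous_iff_le_induced.1 (AlgSp.Points.continuous_map fst.hom)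
  intro O hO
  rw [isOpen_induced_iff]
  have key : ∀ z ∈ O, ∃ N : Set (AlgSp.Points X.obj), IsOpen N ∧
      AlgSp.Points.map fst.hom z ∈ N ∧ AlgSp.Points.map fst.hom ⁻¹' N ⊆ O := by
    intro z hz
    -- a chart of `Y` with a single point over `y`
    obtain ⟨V, b, v, hb, hv, hvuniq⟩ := exists_chart_single Y r hq
    -- a chart of `X` over it
    obtain ⟨U, a, h, u₀, ha, hc, hu₀, hhu₀⟩ :=
      Groth.Agent.Lib.T2H1.Tower.exists_chart_over X.property Y.property f.hom
        (AlgSp.Points.map fst.hom z) b hb v (by rw [hv, hfib])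
    -- `E = V ×_Y Spec k`
    obtain ⟨E, e₂, e₁', sqE⟩ := hb.1 r.toHom
    obtain ⟨e₁, rfl⟩ := (AlgSp.yon S).map_surjective e₁'
    haveI : Mono ((AlgSp.yon S).map e₁) := sqE.mono_fst_of_mono
    haveI : Mono e₁ := (AlgSp.yon S).mono_of_mono_map inferInstance
    haveI : Mono e₁.left := inferInstance
    have hE : ∀ ε : ↥E.left, e₁.left ε = v := by
      intro ε
      apply hvuniq
      rw [← Groth.Agent.S10176.ofPt_map_comp, sqE.w, Groth.Agent.S10176.ofPt_map_comp]
      exact AlgSp.Points.ofPt_toHom r _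
    obtain ⟨ε₀, -, -⟩ := Groth.Agent.S10176.exists_point_of_isPullback_yon sqE v
      (((⊥ : PrimeSpectrum r.K) : ↥r.pt.left))
      (by rw [hv]; exact (AlgSp.Points.ofPt_toHom r _).symm)
    -- `P = U ×_V E`
    have sqO := IsPullback.of_hasPullback h e₁
    have sqP := sqO.map (AlgSp.yon S)
    have sqS := sqO.map (Over.forget S)
    have hindP : Topology.IsInducing (pullback.fst h e₁).left :=
      Groth.Agent.Lib.T2H1.FibreEmb.isInducing_of_mono_fibre sqS v hE ε₀
    -- the chart `P ⟶ X_k`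
    have bigP : IsPullback ((AlgSp.yon S).map (pullback.fst h e₁))
        ((AlgSp.yon S).map (pullback.snd h e₁) ≫ (AlgSp.yon S).map e₂)
        ((AlgSp.yon S).map h ≫ b) r.toHom := sqP.paste_vert sqE
    rw [← hc] at bigP
    obtain ⟨aP, haP1, haP2⟩ := hsq.exists_lift ((AlgSp.yon S).map (pullback.fst h e₁) ≫ a)
      ((AlgSp.yon S).map (pullback.snd h e₁) ≫ (AlgSp.yon S).map e₂)
      (by rw [Category.assoc]; exact bigP.w)
    have sqXP : IsPullback ((AlgSp.yon S).map (pullback.fst h e₁)) aP a fst.hom := by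
      refine IsPullback.of_bot ?_ haP1.symm hsq
      rw [haP2]
      exact bigP
    have haPe : AlgSp.RepWith @Etale aP :=
      MorphismProperty.of_isPullback (P := AlgSp.RepWith @Etale) sqXP ha
    -- the point of `P` over `(u₀, z)`
    obtain ⟨p₀, hp₀1, hp₀2⟩ := Groth.Agent.S10406.exists_point_of_sq sqXP.flip z u₀ hu₀.symm
    -- the open set
    have hOP : IsOpen (AlgSp.Points.ofPt aP ⁻¹' O) := hO.preimage (AlgSp.Points.continuous_ofPt aP)
    rw [hindP.isOpen_iff] at hOP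
    obtain ⟨NU, hNU, hNUO⟩ := hOP
    refine ⟨AlgSp.Points.ofPt a '' NU, Groth.Agent.S10176.isOpenMap_ofPt a ha _ hNU, ?_, ?_⟩
    · refine ⟨u₀, ?_, hu₀⟩
      have : p₀ ∈ (pullback.fst h e₁).left ⁻¹' NU := by
        rw [hNUO]
        show AlgSp.Points.ofPt aP p₀ ∈ O
        rw [hp₀1]; exact hz
      rw [← hp₀2]
      exact this
    · rintro z' ⟨u', hu'N, hu'⟩
      obtain ⟨p', hp'1, hp'2⟩ := Groth.Agent.S10406.exists_point_of_sq sqXP.flip z' u' hu'.symm
      have : p' ∈ (pullback.fst h e₁).left ⁻¹' NU := by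
        show (pullback.fst h e₁).left p' ∈ NU
        rw [hp'2]; exact hu'N
      rw [hNUO] at this
      have h2 : AlgSp.Points.ofPt aP p' ∈ O := this
      rwa [hp'1] at h2
  choose! N hN1 hN2 hN3 using key
  refine ⟨⋃ z ∈ O, N z, isOpen_biUnion hN1, ?_⟩
  ext z'
  constructor
  · intro hz'
    simp only [Set.mem_preimage, Set.mem_iUnion] at hz'
    obtain ⟨z, hz, hz'⟩ := hz'
    exact hN3 z hz hz'
  · intro hz'
    simp only [Set.mem_preimage, Set.mem_iUnion]
    exact ⟨z', hz', hN2 z' hz'⟩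

end Groth.Agent.S10390
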