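import Groth.Statements.S11116
import Mathlib
import Groth.Agent.Lib.T2H1RDerCoprod
import Groth.Agent.Lib.T2H1PushCoprod
import Groth.Agent.Lib.T2H1MVTri

set_option autoImplicit false
universe u
open CategoryTheory CategoryTheory.Limits AlgebraicGeometry
attribute [local instance] HasDerivedCategory.standard
open Perf

namespace Groth.Agent.S11116

/-- Let f : X ⟶ S be a quasi-compact quasi-separated morphism of schemes and assume the unbounded
derived direct image Rf_* exists. For a family K_i of objects of D(O_X) indexed by a small type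
whose cohomology sheaves all vanish below one fixed degree n, with direct sums ∐ K_i in D(O_X) and ∐
Rf_* K_i in D(O_S), the canonical map ∐ Rf_* K_i ⟶ Rf_*(∐ K_i) is an isomorphism. No quasi-coherence
is assumed. -/
theorem result {X S : Scheme.{u}} (f : X ⟶ S) [QuasiCompact f]
    [QuasiSeparated f] [DCoh.HasRpush f] {ι : Type u} (K : ι → DCoh.D X) (n : ℤ) (hK : ∀ i, (K i).IsGE n)
    [HasCoproduct K] [HasCoproduct (fun i => (DCoh.Rpush f).obj (K i))] :
    IsIso (Sigma.desc (fun i => (DCoh.Rpush f).map (Sigma.ι K i))) := by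
  obtain ⟨β, hβ⟩ := Groth.Agent.Lib.T2H1.MVTri.exists_unit_Rpush f
  haveI := hβ
  haveI := Groth.Agent.Lib.T2H1.PushCoprod.preservesColimitsOfShape_discrete_pushforward f ι
  haveI : PreservesFiniteLimits (Scheme.Modules.pushforward f) := inferInstance
  exact Groth.Agent.Lib.T2H1.RDerCoprod.isIso_sigmaDesc_of_isGE (Scheme.Modules.pushforward f)
    (DCoh.Rpush f) β
    (fun M hM q hq =>
      Groth.Agent.Lib.T2H1.PushCoprod.isZero_Rpush_sigma_of_injective f M hM q hq) K n hK

end Groth.Agent.S11116
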