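import Groth.Statements.S10125
import Mathlib
import Groth.Agent.Lib.Helper12LocPCases
import Groth.Agent.S9911
import Groth.Agent.S9874

set_option autoImplicit false
universe u
open CategoryTheory CategoryTheory.Limits AlgebraicGeometry MonoidalCategory MonObj
open AlgSp

namespace Groth.Agent.S10125


open Groth.Agent.Lib.Helper12.LocPCases CartesianMonoidalCategory

section Shear

universe v' u'
variable {C : Type u'} [Category.{v'} C] [CartesianMonoidalCategory C] {G : C} [GrpObj G]

/-- the shear isomorphism `(g, h) ↦ (g h, h)`. -/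
noncomputable def shear : G ⊗ G ≅ G ⊗ G where
  hom := lift (fst G G * snd G G) (snd G G)
  inv := lift (fst G G * (snd G G)⁻¹) (snd G G)
  hom_inv_id := by
    apply CartesianMonoidalCategory.hom_ext
    · simp [comp_lift, MonObj.comp_mul, GrpObj.comp_inv]
    · simp
  inv_hom_id := by
    apply CartesianMonoidalCategory.hom_ext
    · simp [comp_lift, MonObj.comp_mul, GrpObj.comp_inv]
    · simp

lemma shear_hom_fst : (shear (G := G)).hom ≫ fst G G = μ[G] := by
  simp [shear, MonObj.mul_eq_mul]

end Shear

variable {S : Scheme.{u}}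

/-- `LocP` is invariant under precomposition with an isomorphism. -/
lemma locP_iso_comp (P : MorphismProperty Scheme.{u}) {X X' Y : AlgSp.Sp S}
    (e : X' ⟶ X) [IsIso e] (f : X ⟶ Y) (hf : AlgSp.LocP P f) : AlgSp.LocP P (e ≫ f) := by
  intro U V a b h ha hb hc
  exact hf (a ≫ e) b h (MorphismProperty.RespectsIso.postcomp _ e a ha) hb
    (by rw [Category.assoc]; exact hc)

/-- universal openness is stable under base change. -/
lemma isUnivOpenMor_baseChange {X Y X' Y' : AlgSp.Sp S} {f : X ⟶ Y} {g : Y' ⟶ Y} {fst : X' ⟶ X}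
    {f' : X' ⟶ Y'} (sq : IsPullback fst f' f g) (hf : AlgSp.IsUnivOpenMor f) :
    AlgSp.IsUnivOpenMor f' := by
  intro Z Z' hZ c fst' snd' sq'
  exact hf hZ (c ≫ g) (fst' ≫ fst) snd' (sq'.paste_horiz sq)

/-- universal openness is invariant under precomposition with an isomorphism. -/
lemma isUnivOpenMor_iso_comp {X X' Y : AlgSp.Sp S} (e : X' ⟶ X) [IsIso e] (f : X ⟶ Y)
    (hf : AlgSp.IsUnivOpenMor f) : AlgSp.IsUnivOpenMor (e ≫ f) := by
  intro Z Z' hZ c fst' snd' sq'
  refine hf hZ c (fst' ≫ e) snd' ?_
  exact IsPullback.of_iso sq' (Iso.refl _) (asIso e) (Iso.refl _) (Iso.refl _)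
    (by simp) (by simp) (by simp) (by simp)

/-- For a group algebraic space `G` over a field `k`, the multiplication `m` of `G`, a morphism `G ×_k G
⟶ G`, is both flat and universally open. (The published situation allows any base scheme `S` with
`k` a field over `S`; this row takes `S = Spec k`.) -/
theorem result (k : Type u) [Field k]
    (G : Over ((AlgSp.yon (Spec (CommRingCat.of k))).obj (Over.mk (𝟙 _)))) [GrpObj G]
    (hG : AlgSp.IsAlgSpace G.left) :
    AlgSp.LocP @Flat (μ[G]).left ∧ AlgSp.IsUnivOpenMor (μ[G]).left := by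
  have hB : AlgSp.IsAlgSpace ((AlgSp.yon (Spec (CommRingCat.of k))).obj (Over.mk (𝟙 _))) :=
    AlgSp.IsAlgSpace.yon_obj _
  -- the structure morphism is flat
  have hflat : AlgSp.LocP @Flat G.hom := by
    intro U V a b h ha hb hc
    obtain ⟨b₀, rfl⟩ := (AlgSp.yon (Spec (CommRingCat.of k))).map_surjective b
    haveI : Etale b₀.left := (AlgSp.repWith_yon_map_iff _ _).1 hb
    haveI : Subsingleton ↥(Over.mk (𝟙 (Spec (CommRingCat.of k)))).left :=
      inferInstanceAs (Subsingleton (PrimeSpectrum k))
    haveI : IsIntegral (Over.mk (𝟙 (Spec (CommRingCat.of k)))).left :=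
      inferInstanceAs (IsIntegral (Spec (CommRingCat.of k)))
    have h1 : Flat (h.left ≫ b₀.left) := inferInstance
    exact good_flat.hcancel h.left b₀.left inferInstance h1
  have huo : AlgSp.IsUnivOpenMor G.hom :=
    Groth.Agent.S9911.result (⟨G.left, hG⟩ : AlgSp.Space (Spec (CommRingCat.of k)))
      (𝟙 (Spec (CommRingCat.of k))) (ObjectProperty.homMk G.hom)
  have sq : IsPullback (snd G G).left (fst G G).left G.hom G.hom :=
    (IsPullback.of_hasPullback G.hom G.hom).flip
  have hμ : (μ[G]).left = (shear (G := G)).hom.left ≫ (fst G G).left := by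
    rw [← Over.comp_left, shear_hom_fst]
  haveI : IsIso (shear (G := G)).hom.left :=
    (inferInstance : IsIso ((Over.forget _).map (shear (G := G)).hom))
  rw [hμ]
  exact ⟨locP_iso_comp _ _ _ (good_flat.locP_baseChange hG hB hG sq hflat),
    isUnivOpenMor_iso_comp _ _ (isUnivOpenMor_baseChange sq huo)⟩

end Groth.Agent.S10125
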