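import Groth.Statements.S0698
import Groth.Agent.Lib.T2H1IndZar
import Mathlib

set_option autoImplicit false
open CategoryTheory CategoryTheory.Limits AlgebraicGeometry Opposite Topology
universe u
open ProEtW

namespace Groth.Agent.S0698

/-- Let A be a ring, X = Spec A and T a closed subset of pi_0(X). Then A has an ind-Zariski quotient
ring B (the map A -> B is surjective) whose spectrum maps homeomorphically onto the preimage of T in
X. -/
theorem result (A : Type u) [CommRing A]
    (T : Set (_root_.ConnectedComponents (PrimeSpectrum A))) (hT : IsClosed T) :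
    ∃ (B : Type u) (_ : CommRing B) (_ : Algebra A B),
      EtPBC.IsIndZariski A B ∧ Function.Surjective (algebraMap A B) ∧
      Topology.IsEmbedding (PrimeSpectrum.comap (algebraMap A B)) ∧
      Set.range (PrimeSpectrum.comap (algebraMap A B)) = _root_.ConnectedComponents.mk ⁻¹' T := by
  set Z : Set (PrimeSpectrum A) := _root_.ConnectedComponents.mk ⁻¹' T with hZdef
  have hZ : ∀ x ∉ Z, ∃ U, IsClopen U ∧ Z ⊆ U ∧ x ∉ U := fun x hx =>
    Groth.Agent.Lib.T2H1.IndZar.exists_isClopen_of_closed_pi0 T hT x hx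
  refine ⟨A ⧸ Ideal.span (Groth.Agent.Lib.T2H1.IndZar.idemSet Z), inferInstance, inferInstance,
    Groth.Agent.Lib.T2H1.IndZar.isIndZariski_quotient_idemSet Z,
    Ideal.Quotient.mk_surjective,
    (PrimeSpectrum.isClosedEmbedding_comap_of_surjective _ _ Ideal.Quotient.mk_surjective).isEmbedding,
    ?_⟩
  rw [_root_.range_comap_of_surjective _ (algebraMap A (A ⧸ Ideal.span (Groth.Agent.Lib.T2H1.IndZar.idemSet Z))) Ideal.Quotient.mk_surjective]
  have hker : RingHom.ker (algebraMap A (A ⧸ Ideal.span (Groth.Agent.Lib.T2H1.IndZar.idemSet Z))) =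
      Ideal.span (Groth.Agent.Lib.T2H1.IndZar.idemSet Z) := Ideal.mk_ker
  rw [hker, PrimeSpectrum.zeroLocus_span]
  exact Groth.Agent.Lib.T2H1.IndZar.zeroLocus_idemSet Z hZ

end Groth.Agent.S0698
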