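import Groth.Statements.S0073
import Groth.Agent.Lib.T2H8StrictHens

set_option autoImplicit false
universe u

namespace Groth.Agent.S0073

open CategoryTheory CategoryTheory.Limits AlgebraicGeometry Opposite
open EtBase

/-- Étale cohomology of any abelian sheaf on the spectrum of a strictly henselian local ring vanishes in
positive degrees. -/
theorem result (R : Type u) [CommRing R] [HenselianLocalRing R]
    [IsSepClosed (IsLocalRing.ResidueField R)] (F : EtCoh.Ab (Spec (CommRingCat.of R)))
    (p : ℕ) (hp : 1 ≤ p) : Subsingleton (EtCoh.H (Spec (CommRingCat.of R)) F p) := by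
  obtain ⟨n, rfl⟩ : ∃ n, p = n + 1 := ⟨p - 1, by omega⟩
  have := Groth.Agent.Lib.T2H8.StrictHens.projective_constZ R
  exact subsingleton_of_forall_eq 0 fun x => Abelian.Ext.eq_zero_of_projective x

end Groth.Agent.S0073
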