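import Groth.Statements.S1054
import Groth.Agent.Lib.T2H2LpullQCohB
import Groth.Agent.Lib.Helper23QCohLocal

set_option linter.style.haveILetI false

set_option autoImplicit false
universe u
open CategoryTheory CategoryTheory.Limits AlgebraicGeometry Opposite
attribute [local instance] HasDerivedCategory.standard
open Perf

namespace Groth.Agent.S1054

/-- Let f : Y ⟶ X be a morphism of schemes and assume the derived pullback Lf^* exists. If K ∈ D(O_X)
has quasi-coherent cohomology sheaves, so does Lf^*K. -/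
theorem result {Y X : Scheme.{u}} (f : Y ⟶ X) [DCoh.HasLpull f] (K : DCoh.D X) (hK : DCoh.IsQCohD K) :
    DCoh.IsQCohD ((DCoh.Lpull f).obj K) := by
  intro n
  open Groth.Agent.Lib.Helper1.Sky Groth.Agent.Lib.T2H2.LpullQCoh
    Groth.Agent.Lib.T2H8.QCohDCoprod in
  refine Groth.Agent.Lib.Helper23.QCohLocal.isQuasicoherent_of_affine_cover _
    (ι := {W : Y.Opens // IsAffineOpen W ∧ ∃ V : X.Opens, IsAffineOpen V ∧ W ≤ f ⁻¹ᵁ V})
    (fun W => W.1) ?_ (fun W => W.2.1) ?_
  · -- cover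
    refine TopologicalSpace.IsOpenCover.mk (top_le_iff.1 fun y _ => ?_)
    obtain ⟨V, hV, hyV, -⟩ :=
      TopologicalSpace.Opens.isBasis_iff_nbhd.1 (X.isBasis_affineOpens)
        (show f y ∈ (⊤ : X.Opens) from trivial)
    obtain ⟨W, hW, hyW, hWV⟩ :=
      TopologicalSpace.Opens.isBasis_iff_nbhd.1 (Y.isBasis_affineOpens)
        (show y ∈ (f ⁻¹ᵁ V : Y.Opens) from hyV)
    exact TopologicalSpace.Opens.mem_iSup.2 ⟨⟨W, hW, V, hV, hWV⟩, hyW⟩
  · rintro ⟨W, hW, V, hV, hWV⟩
    let j := hW.fromSpec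
    let k := hV.fromSpec
    haveI : DCoh.HasLpull j := hasLpull _
    haveI : DCoh.HasLpull k := hasLpull _
    obtain ⟨e⟩ := nonempty_homology_lpull_iso j ((DCoh.Lpull f).obj K) n
    refine isQCoh_of_iso e ?_
    have hrange : Set.range (j ≫ f) ⊆ Set.range k := by
      rintro _ ⟨z, rfl⟩
      have hz : j z ∈ (W : Set Y) := by
        rw [← hW.range_fromSpec]; exact ⟨z, rfl⟩
      have : f (j z) ∈ (V : Set X) := hWV hz
      rw [← hV.range_fromSpec] at this
      exact this
    let g := IsOpenImmersion.lift k (j ≫ f) hrange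
    have hg : g ≫ k = j ≫ f := IsOpenImmersion.lift_fac k (j ≫ f) hrange
    haveI : DCoh.HasLpull g := hasLpull _
    haveI : DCoh.HasLpull (j ≫ f) := hasLpull _
    haveI : DCoh.HasLpull (g ≫ k) := hasLpull _
    obtain ⟨c1⟩ := nonempty_lpull_comp_iso j f
    obtain ⟨c2⟩ := nonempty_lpull_comp_iso g k
    obtain ⟨c3⟩ := nonempty_lpull_congr hg
    have h1 : DCoh.IsQCohD ((DCoh.Lpull g).obj ((DCoh.Lpull k).obj K)) :=
      isQCohD_lpull_spec g _ (isQCohD_lpull_of_isOpenImmersion k K hK)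
    have h2 : DCoh.IsQCohD ((DCoh.Lpull j).obj ((DCoh.Lpull f).obj K)) :=
      isQCohD_of_iso (c2.app K ≪≫ c3.app K ≪≫ (c1.app K).symm) h1
    exact h2 n

end Groth.Agent.S1054
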