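import Groth.Statements.S0693
import Groth.Agent.Lib.T2H1EtTowerRetr

set_option autoImplicit false
open CategoryTheory CategoryTheory.Limits AlgebraicGeometry Opposite Topology
universe u
open ProEtW

namespace Groth.Agent.S0693

/-- Every ring A admits a faithfully flat ind-etale extension C over which all faithfully flat etale
algebras have retractions. -/
theorem result (A : Type u) [CommRing A] :
    ∃ (C : Type u) (_ : CommRing C) (_ : Algebra A C),
      Module.FaithfullyFlat A C ∧ EtPBC.IsIndEtale A C ∧ ProEtW.HasEtaleRetractions C := by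
  letI : Algebra A (Groth.Agent.Lib.T2H1.EtTower.colim A) :=
    (Groth.Agent.Lib.T2H1.EtTower.aC A).toAlgebra
  exact ⟨Groth.Agent.Lib.T2H1.EtTower.colim A, inferInstance,
    (Groth.Agent.Lib.T2H1.EtTower.aC A).toAlgebra,
    Groth.Agent.Lib.T2H1.EtTower.faithfullyFlat_colim A,
    Groth.Agent.Lib.T2H1.EtTower.isIndEtale_colim A,
    Groth.Agent.Lib.T2H1.EtTower.hasEtaleRetractions_colim A⟩

end Groth.Agent.S0693
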