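import Groth.Statements.S9870
import Groth.Agent.Lib.T2H1OpenDescent
import Groth.Agent.Lib.T2H1RepIso

set_option autoImplicit false
universe u
open CategoryTheory CategoryTheory.Limits AlgebraicGeometry
open AlgSp

namespace Groth.Agent.S9870


open Groth.Agent.S13210 Groth.Agent.S9878 Groth.Agent.Lib.Helper12.ZarGlue
  Groth.Agent.Lib.T2H1.RepIso Groth.Agent.Lib.T2H1.OpenDescent Opposite

local notation "K₀" => Scheme.fppfPrecoverage

section

variable {S : Scheme.{u}} {R U R' U' : Over S} (s t : R ⟶ U)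
    (g : U' ⟶ U) (s' t' : R' ⟶ U') (r : R' ⟶ R)
    (hsq : IsPullback (prod.lift t' s') r (prod.map g g) (prod.lift t s))
    (hR : AlgSp.IsEqvRel s t)

/-- the quotient map on `h_U`. -/
noncomputable def qmap : (AlgSp.yon S).obj U ⟶ QuotSh.quot K₀ s t :=
  (QuotSh.repIsoUliftYoneda K₀ U).inv ≫ QuotSh.quotπ K₀ s t

lemma qmap_eq : qmap s t = (QuotSh.repIsoUliftYoneda K₀ U).inv ≫ QuotSh.quotπ K₀ s t := rfl

lemma qmap_condition : (AlgSp.yon S).map s ≫ qmap s t = (AlgSp.yon S).map t ≫ qmap s t := by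
  rw [qmap_eq, ← Category.assoc, ← repIso_inv_naturality, Category.assoc, QuotSh.quot_condition,
    ← Category.assoc, repIso_inv_naturality, Category.assoc]

instance : Epi (qmap s t) := by
  haveI : Epi (QuotSh.quotπ K₀ s t) := by
    unfold QuotSh.quotπ
    exact coequalizer.π_epi
  rw [qmap_eq]
  exact epi_comp _ _

instance : Sheaf.IsLocallySurjective (qmap s t) :=
  (Sheaf.isLocallySurjective_iff_epi _).mpr inferInstance

include hsq in
/-- points of `U'` related through `R` are identified in `U'/R'`. -/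
lemma qmap_eq_of_rel {T : Over S} (a1 a2 : T ⟶ U') (ρ : T ⟶ R) (h1 : ρ ≫ t = a1 ≫ g)
    (h2 : ρ ≫ s = a2 ≫ g) :
    (AlgSp.yon S).map a1 ≫ qmap s' t' = (AlgSp.yon S).map a2 ≫ qmap s' t' := by
  have hw : prod.lift a1 a2 ≫ prod.map g g = ρ ≫ prod.lift t s := by
    apply Limits.prod.hom_ext
    · rw [Category.assoc, prod.map_fst, prod.lift_fst_assoc, Category.assoc, prod.lift_fst, h1]
    · rw [Category.assoc, prod.map_snd, prod.lift_snd_assoc, Category.assoc, prod.lift_snd, h2]
  have e1 : hsq.lift _ _ hw ≫ t' = a1 := by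
    have := congrArg (fun m => m ≫ prod.fst) (hsq.lift_fst _ _ hw)
    simpa only [Category.assoc, prod.lift_fst] using this
  have e2 : hsq.lift _ _ hw ≫ s' = a2 := by
    have := congrArg (fun m => m ≫ prod.snd) (hsq.lift_fst _ _ hw)
    simpa only [Category.assoc, prod.lift_snd] using this
  calc (AlgSp.yon S).map a1 ≫ qmap s' t'
      = (AlgSp.yon S).map (hsq.lift _ _ hw) ≫ (AlgSp.yon S).map t' ≫ qmap s' t' := by
        rw [← Category.assoc, ← Functor.map_comp, e1]
    _ = (AlgSp.yon S).map (hsq.lift _ _ hw) ≫ (AlgSp.yon S).map s' ≫ qmap s' t' := by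
        rw [qmap_condition]
    _ = (AlgSp.yon S).map a2 ≫ qmap s' t' := by
        rw [← Category.assoc, ← Functor.map_comp, e2]

end

section Main

variable {S : Scheme.{u}} {R U R' U' : Over S} (s t : R ⟶ U)
    (g : U' ⟶ U) (s' t' : R' ⟶ U') (r : R' ⟶ R)
    (hsq : IsPullback (prod.lift t' s') r (prod.map g g) (prod.lift t s))
    (hR : AlgSp.IsEqvRel s t)
    (φ : QuotSh.quot K₀ s' t' ⟶ QuotSh.quot K₀ s t)
    (hφ : qmap s' t' ≫ φ = (AlgSp.yon S).map g ≫ qmap s t)

include hsq hR hφ in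
/-- the induced map of quotients is a monomorphism. -/
lemma mono_φ : Mono φ := by
  have KP := isPullback_yon_quotπ s t hR
  have key : ∀ (T : Over S) (z1 z2 : (AlgSp.yon S).obj T ⟶ QuotSh.quot K₀ s' t'),
      z1 ≫ φ = z2 ≫ φ → z1 = z2 := by
    intro T z1 z2 h12
    obtain ⟨R1, hR1, hl1⟩ := Groth.Agent.S9884.exists_fppf_lift (qmap s' t') z1
    refine hom_ext_of_fppf z1 z2 R1 hR1 (fun T1 g1 hg1 => ?_)
    obtain ⟨d1, hd1⟩ := hl1 g1 hg1
    obtain ⟨R2, hR2, hl2⟩ := Groth.Agent.S9884.exists_fppf_lift (qmap s' t')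
      ((AlgSp.yon S).map (Over.homMk g1 : Over.mk (g1 ≫ T.hom) ⟶ T) ≫ z2)
    refine hom_ext_of_fppf _ _ R2 hR2 (fun T2 g2 hg2 => ?_)
    obtain ⟨d2, hd2⟩ := hl2 g2 hg2
    obtain ⟨a1, rfl⟩ := (AlgSp.yon S).map_surjective d1
    obtain ⟨a2, rfl⟩ := (AlgSp.yon S).map_surjective d2
    set G2 : Over.mk (g2 ≫ (Over.mk (g1 ≫ T.hom)).hom) ⟶ Over.mk (g1 ≫ T.hom) := Over.homMk g2
    set G1 : Over.mk (g1 ≫ T.hom) ⟶ T := Over.homMk g1
    -- both sides lift to `U'`, and the lifts are related through `R`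
    have eL : (AlgSp.yon S).map ((G2 ≫ a1) ≫ g) ≫ qmap s t =
        (AlgSp.yon S).map G2 ≫ (AlgSp.yon S).map G1 ≫ z1 ≫ φ := by
      simp only [Functor.map_comp, Category.assoc]
      rw [← hφ, ← Category.assoc ((AlgSp.yon S).map a1), hd1, Category.assoc]
    have eR : (AlgSp.yon S).map (a2 ≫ g) ≫ qmap s t =
        (AlgSp.yon S).map G2 ≫ (AlgSp.yon S).map G1 ≫ z2 ≫ φ := by
      simp only [Functor.map_comp, Category.assoc]
      rw [← hφ, ← Category.assoc ((AlgSp.yon S).map a2), hd2]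
      simp only [Category.assoc]
    have hw : (AlgSp.yon S).map ((G2 ≫ a1) ≫ g) ≫ qmap s t =
        (AlgSp.yon S).map (a2 ≫ g) ≫ qmap s t := by
      rw [eL, eR, h12]
    obtain ⟨ρ, hρ⟩ := (AlgSp.yon S).map_surjective (KP.lift _ _ hw)
    have hρt : ρ ≫ t = (G2 ≫ a1) ≫ g := by
      apply (AlgSp.yon S).map_injective
      rw [Functor.map_comp, hρ, KP.lift_fst]
    have hρs : ρ ≫ s = a2 ≫ g := by
      apply (AlgSp.yon S).map_injective
      rw [Functor.map_comp, hρ, KP.lift_snd]
    have h3 := qmap_eq_of_rel s t g s' t' r hsq (G2 ≫ a1) a2 ρ hρt hρs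
    rw [← hd2, ← h3, Functor.map_comp, Category.assoc, hd1]
  refine ⟨fun {Z} a b hab => ?_⟩
  refine Groth.Agent.Lib.Helper9.SpQuot.jEpi_yon Z a b ?_
  rintro ⟨T, z⟩
  exact key T (z ≫ a) (z ≫ b) (by rw [Category.assoc, Category.assoc, hab])

end Main

section Main2

variable {S : Scheme.{u}} {R U R' U' : Over S} (s t : R ⟶ U)
    (g : U' ⟶ U) (s' t' : R' ⟶ U') (r : R' ⟶ R)
    (hsq : IsPullback (prod.lift t' s') r (prod.map g g) (prod.lift t s))
    (hR : AlgSp.IsEqvRel s t)
    (φ : QuotSh.quot K₀ s' t' ⟶ QuotSh.quot K₀ s t)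
    (hφ : qmap s' t' ≫ φ = (AlgSp.yon S).map g ≫ qmap s t)

/-- the saturation of the image of `U'` in `U`. -/
def Wset : Set U.left := t.left '' (s.left ⁻¹' Set.range g.left)

include hR hφ in
/-- a point of `U` whose class lies in `U'/R'` lands in the saturation of the image of `U'`. -/
lemma range_subset_of_factor {T : Over S} (a : T ⟶ U)
    (z : (AlgSp.yon S).obj T ⟶ QuotSh.quot K₀ s' t')
    (hz : z ≫ φ = (AlgSp.yon S).map a ≫ qmap s t) : Set.range a.left ⊆ Wset s t g := by
  have KP := isPullback_yon_quotπ s t hR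
  rintro _ ⟨pt, rfl⟩
  obtain ⟨Rz, hRz, hlift⟩ := Groth.Agent.S9884.exists_fppf_lift (qmap s' t') z
  obtain ⟨I, Zs, f, rfl⟩ := Presieve.exists_eq_ofArrows Rz
  let 𝒰 : Scheme.Cover Scheme.fppfPrecoverage T.left := ⟨⟨I, Zs, f⟩, hRz⟩
  obtain ⟨k, y, hy⟩ := 𝒰.exists_eq pt
  obtain ⟨d, hd⟩ := hlift (f k) ⟨k⟩
  obtain ⟨a', rfl⟩ := (AlgSp.yon S).map_surjective d
  set Fk : Over.mk (f k ≫ T.hom) ⟶ T := Over.homMk (f k)
  have hw : (AlgSp.yon S).map (Fk ≫ a) ≫ qmap s t = (AlgSp.yon S).map (a' ≫ g) ≫ qmap s t := by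
    rw [Functor.map_comp, Category.assoc, ← hz, ← Category.assoc, ← hd, Category.assoc, hφ,
      Functor.map_comp, Category.assoc]
  obtain ⟨ρ, hρ⟩ := (AlgSp.yon S).map_surjective (KP.lift _ _ hw)
  have hρt : ρ ≫ t = Fk ≫ a := by
    apply (AlgSp.yon S).map_injective
    rw [Functor.map_comp, hρ, KP.lift_fst]
  have hρs : ρ ≫ s = a' ≫ g := by
    apply (AlgSp.yon S).map_injective
    rw [Functor.map_comp, hρ, KP.lift_snd]
  refine ⟨ρ.left y, ⟨a'.left y, ?_⟩, ?_⟩
  · have := congrArg (fun m => m.left y) hρs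
    simp only [Over.comp_left, Scheme.Hom.comp_apply] at this
    exact this.symm
  · have := congrArg (fun m => m.left y) hρt
    simp only [Over.comp_left, Scheme.Hom.comp_apply] at this
    rw [this]
    congr 1

end Main2

section Main3

variable {S : Scheme.{u}} {R U R' U' : Over S} (s t : R ⟶ U)
    (g : U' ⟶ U) (s' t' : R' ⟶ U') (r : R' ⟶ R)
    (φ : QuotSh.quot K₀ s' t' ⟶ QuotSh.quot K₀ s t)
    (hφ : qmap s' t' ≫ φ = (AlgSp.yon S).map g ≫ qmap s t)

include hφ in
/-- a point of `U` landing in the saturation of the image of `U'` has its class in `U'/R'`. -/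
lemma factor_of_range_subset [Mono φ] [Flat t.left] [LocallyOfFinitePresentation t.left]
    [Flat g.left] [LocallyOfFinitePresentation g.left] {T : Over S} (a : T ⟶ U)
    (ha : Set.range a.left ⊆ Wset s t g) :
    ∃ z : (AlgSp.yon S).obj T ⟶ QuotSh.quot K₀ s' t', z ≫ φ = (AlgSp.yon S).map a ≫ qmap s t := by
  let m : pullback s.left g.left ⟶ U.left := pullback.fst s.left g.left ≫ t.left
  refine exists_lift_of_mono φ ((AlgSp.yon S).map a ≫ qmap s t)
    (Presieve.ofArrows (fun _ : Unit => pullback a.left m) (fun _ => pullback.fst a.left m)) ?_ ?_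
  · rw [Scheme.fppfPrecoverage, Scheme.ofArrows_mem_precoverage_iff]
    refine ⟨fun pt => ?_, fun _ => ⟨inferInstance, inferInstance⟩⟩
    obtain ⟨ρ, ⟨u', hu'⟩, hρ⟩ := ha ⟨pt, rfl⟩
    obtain ⟨q, hq1, hq2⟩ := Scheme.Pullback.exists_preimage_pullback (f := s.left) (g := g.left)
      ρ u' hu'.symm
    have hmq : a.left pt = m q := by
      simp only [m, Scheme.Hom.comp_apply]
      rw [hq1, hρ]
    obtain ⟨w, hw1, hw2⟩ := Scheme.Pullback.exists_preimage_pullback (f := a.left) (g := m)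
      pt q hmq
    exact ⟨(), w, hw1⟩
  · rintro Y g' ⟨⟨⟩⟩
    have hc1 := pullback.condition_assoc (f := a.left) (g := m) U.hom
    have hc2 := pullback.condition_assoc (f := s.left) (g := g.left) U.hom
    let T1 : Over S := Over.mk (pullback.fst a.left m ≫ T.hom)
    let π : T1 ⟶ T := Over.homMk (pullback.fst a.left m)
    let ρ : T1 ⟶ R := Over.homMk (pullback.snd a.left m ≫ pullback.fst s.left g.left) (by
      simp only [T1, Over.mk_hom]
      rw [← Over.w t, ← Over.w a]
      simp only [m, Category.assoc] at hc1 ⊢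
      exact hc1.symm)
    let a' : T1 ⟶ U' := Over.homMk (pullback.snd a.left m ≫ pullback.snd s.left g.left) (by
      simp only [T1, Over.mk_hom]
      rw [← Over.w g, ← Over.w a]
      simp only [m, Category.assoc] at hc1 ⊢
      rw [← hc2, Over.w s, ← Over.w t]
      exact hc1.symm)
    have hρt : ρ ≫ t = π ≫ a := by
      ext1
      simp only [ρ, π, Over.comp_left, Over.homMk_left, Category.assoc]
      exact pullback.condition.symm
    have hρs : ρ ≫ s = a' ≫ g := by
      ext1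
      simp only [ρ, a', Over.comp_left, Over.homMk_left, Category.assoc]
      rw [pullback.condition]
    refine ⟨(AlgSp.yon S).map a' ≫ qmap s' t', ?_⟩
    calc ((AlgSp.yon S).map a' ≫ qmap s' t') ≫ φ
        = (AlgSp.yon S).map (a' ≫ g) ≫ qmap s t := by
          rw [Category.assoc, hφ, Functor.map_comp, Category.assoc]
      _ = (AlgSp.yon S).map ρ ≫ (AlgSp.yon S).map s ≫ qmap s t := by
          rw [← hρs, Functor.map_comp, Category.assoc]
      _ = (AlgSp.yon S).map ρ ≫ (AlgSp.yon S).map t ≫ qmap s t := by rw [qmap_condition]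
      _ = (AlgSp.yon S).map π ≫ (AlgSp.yon S).map a ≫ qmap s t := by
          rw [← Category.assoc, ← Functor.map_comp, hρt, Functor.map_comp, Category.assoc]

end Main3

/-- Let `s, t : R ⟶ U` be a pre-relation on a scheme `U` over `S` which is an equivalence relation (on
`T`-points, for every scheme `T` over `S`), with `s` and `t` surjective, flat and locally of finite
presentation, and let `g : U' ⟶ U` be flat and locally of finite presentation. Let `s', t' : R' ⟶
U'` be the restriction of the pre-relation to `U'`, i.e. `R'` with `(t', s')` and `R' ⟶ R` is the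
fibre product of `U' ×_S U'` and `R` over `U ×_S U`. Then the map of fppf quotient sheaves `U'/R' ⟶
U/R` induced by `g` (the unique map under the quotient maps compatible with `h_g`) is representable
and an open immersion. -/
theorem result (S : Scheme.{u}) {R U R' U' : Over S} (s t : R ⟶ U)
    (g : U' ⟶ U) (s' t' : R' ⟶ U') (r : R' ⟶ R)
    (hsq : IsPullback (prod.lift t' s') r (prod.map g g) (prod.lift t s))
    (hR : AlgSp.IsEqvRel s t)
    [Surjective s.left] [Flat s.left] [LocallyOfFinitePresentation s.left]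
    [Surjective t.left] [Flat t.left] [LocallyOfFinitePresentation t.left]
    [Flat g.left] [LocallyOfFinitePresentation g.left]
    (φ : QuotSh.quot Scheme.fppfPrecoverage s' t' ⟶ QuotSh.quot Scheme.fppfPrecoverage s t)
    (hφ : QuotSh.quotπ Scheme.fppfPrecoverage s' t' ≫ φ = QuotSh.repMap Scheme.fppfPrecoverage g ≫ QuotSh.quotπ Scheme.fppfPrecoverage s t) :
    AlgSp.RepWith @IsOpenImmersion φ := by
  have hφ' : qmap s' t' ≫ φ = (AlgSp.yon S).map g ≫ qmap s t := by
    rw [qmap_eq, qmap_eq, Category.assoc, hφ, ← Category.assoc, repIso_inv_naturality,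
      Category.assoc]
  haveI hmono : Mono φ := mono_φ s t g s' t' r hsq hR φ hφ'
  have hWopen : IsOpen (Wset s t g) := by
    have h1 : IsOpen (Set.range g.left) := g.left.isOpenMap.isOpen_range
    have h2 : IsOpen (s.left ⁻¹' Set.range g.left) := s.left.continuous.isOpen_preimage _ h1
    exact t.left.isOpenMap _ h2
  let W : U.left.Opens := ⟨Wset s t g, hWopen⟩
  refine MorphismProperty.relative.of_exists (fun T x => ?_)
  obtain ⟨Rx, hRx, hlift⟩ := Groth.Agent.S9884.exists_fppf_lift (qmap s t) x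
  obtain ⟨I, Z, h, rfl⟩ := Presieve.exists_eq_ofArrows Rx
  choose d hd using fun i => hlift (h i) ⟨i⟩
  let a : ∀ i, Over.mk (h i ≫ T.hom) ⟶ U := fun i => (AlgSp.yon S).preimage (d i)
  have ha : ∀ i, (AlgSp.yon S).map (a i) ≫ qmap s t =
      (AlgSp.yon S).map (Over.homMk (h i) : Over.mk (h i ≫ T.hom) ⟶ T) ≫ x := fun i => by
    rw [Functor.map_preimage, hd]
  obtain ⟨V, zV, sq⟩ := exists_isPullback_open φ x Z h hRx (fun i => (a i).left ⁻¹ᵁ W)
    (fun i T'' t'' => by
      rw [← ha i, ← Category.assoc, ← Functor.map_comp]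
      constructor
      · rintro ⟨z, hz⟩
        have h1 := range_subset_of_factor s t g s' t' hR φ hφ' (t'' ≫ a i) z hz
        rintro _ ⟨y, rfl⟩
        exact h1 ⟨y, rfl⟩
      · intro hsub
        refine factor_of_range_subset s t g s' t' φ hφ' (t'' ≫ a i) ?_
        rintro _ ⟨y, rfl⟩
        exact hsub ⟨y, rfl⟩)
  exact ⟨_, zV, _, sq, (inferInstance : IsOpenImmersion V.ι)⟩

end Groth.Agent.S9870
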