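import Groth.Statements.S10865
import Mathlib
import Groth.Agent.Lib.T2H5ArtinRees
-- import your own Groth.Agent.* helpers here

set_option autoImplicit false
universe u
open Coherent

namespace Groth.Agent.S10865

open CategoryTheory CategoryTheory.Limits AlgebraicGeometry in
/-- Let X be a nonempty Noetherian scheme and K an isomorphism-closed class of O_X-modules such that (a)
in a short exact sequence of coherent modules, if the middle and right terms lie in K so does the
left one, and if the two outer terms lie in K so does the middle one; (b) if a coherent F has some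
d-fold direct sum (d ≥ 1) in K then F lies in K. If for every integral closed subscheme i : Z → X
there is a coherent O_Z-module with nonzero stalk at the generic point whose direct image under i
lies in K, then every coherent O_X-module lies in K. (For the empty scheme the hypotheses hold for
the empty class, so X is taken nonempty here.) -/
theorem result (X : Scheme.{u}) [IsNoetherian X] [Nonempty X]
    (K : ObjectProperty X.Modules) [K.IsClosedUnderIsomorphisms]
    (ha : ∀ S : ShortComplex X.Modules, S.ShortExact → Coh.IsCoh S.X₁ → Coh.IsCoh S.X₂ → Coh.IsCoh S.X₃ →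
      (K S.X₂ → K S.X₃ → K S.X₁) ∧ (K S.X₁ → K S.X₃ → K S.X₂))
    (hb : ∀ (F : X.Modules) (d : ℕ), 1 ≤ d → Coh.IsCoh F → K (∐ fun _ : Fin d => F) → K F)
    (hgen : ∀ (Z : Scheme.{u}) (i : Z ⟶ X) [IsClosedImmersion i] [IsIntegral Z],
      ∃ H : Z.Modules, Coh.IsCoh H ∧ Nontrivial (H.presheaf.stalk (genericPoint Z)) ∧
        K ((Scheme.Modules.pushforward i).obj H))
    (F : X.Modules) (hF : Coh.IsCoh F) : K F := by
  classical
  have hK : ∀ M N : X.Modules, Nonempty (M ≅ N) → K M → K N := fun M N ⟨e⟩ h => K.prop_of_iso e h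
  have hext : ∀ S : ShortComplex X.Modules, S.ShortExact → Coh.IsCoh S.X₁ → Coh.IsCoh S.X₂ → Coh.IsCoh S.X₃ →
      K S.X₁ → K S.X₃ → K S.X₂ := fun S hS h1 h2 h3 => (ha S hS h1 h2 h3).2
  -- the zero modules lie in `K`
  have h0 : ∀ N : X.Modules, IsZero N → K N := by
    intro N hN
    obtain ⟨x⟩ := ‹Nonempty X›
    have hYc : IsClosed (closure ({x} : Set X)) := isClosed_closure
    have hYirr : IsIrreducible (closure ({x} : Set X)) := isIrreducible_singleton.closure
    have hint := Groth.Agent.Lib.T2H5.GenIsoE.isIntegral_subscheme_vanishingIdeal _ hYc hYirr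
    obtain ⟨H, hH, -, hKH⟩ := hgen _ (Scheme.IdealSheafData.vanishingIdeal ⟨_, hYc⟩).subschemeι
    have hG := Groth.Agent.Lib.T2H5.GenIsoD.isCoh_pushforward
      (Scheme.IdealSheafData.vanishingIdeal ⟨_, hYc⟩).subschemeι H hH
    set G := (Scheme.Modules.pushforward (Scheme.IdealSheafData.vanishingIdeal ⟨_, hYc⟩).subschemeι).obj H
      with hGdef
    have hS := Groth.Agent.Lib.T2H5.GenIsoB.kerSC_shortExact (𝟙 G)
    have hk : IsZero (kernel (𝟙 G)) := isZero_kernel_of_mono _
    have hι0 : kernel.ι (𝟙 G) = 0 := hk.eq_of_src _ _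
    have e3 : cokernel (kernel.ι (𝟙 G)) ≅ G := cokernelIsoOfEq hι0 ≪≫ cokernelZeroIsoTarget
    have hK1 := (ha _ hS (Groth.Agent.Lib.T2H5.GenIsoB.isCoh_kernel _ hG hG) hG
      (Groth.Agent.Lib.T2H5.Devissage.isCoh_of_iso e3.symm hG)).1 hKH (hK _ _ ⟨e3.symm⟩ hKH)
    exact hK _ _ ⟨hk.iso hN⟩ hK1
  refine Groth.Agent.Lib.T2H5.Devissage.core K hK h0 hext Set.univ ?_ F hF (Set.subset_univ _)
  intro Y hY hYirr _ ihN M hM hMk
  have hint := Groth.Agent.Lib.T2H5.GenIsoE.isIntegral_subscheme_vanishingIdeal Y hY hYirr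
  obtain ⟨H, hH, hHξ, hKH⟩ := hgen _ (Scheme.IdealSheafData.vanishingIdeal ⟨Y, hY⟩).subschemeι
  exact Groth.Agent.Lib.T2H5.ArtinRees.irr_step_kernel_ext K hK h0 ha hb Y hY _
    (Groth.Agent.Lib.T2H5.GenIsoE.range_subschemeι_vanishingIdeal Y hY) ihN H hH hHξ hKH M hM hMk

end Groth.Agent.S10865
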