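import Groth.Statements.S2330
import Mathlib
import Groth.Agent.Lib.T2H6VAmpleE
import Groth.Agent.Lib.T2H5AmplePn
import Groth.Agent.Lib.Helper23PB
import Groth.Agent.Lib.Helper23AmpleIso
import Groth.Agent.Lib.Helper23SecTw6

set_option autoImplicit false
universe u
open CategoryTheory CategoryTheory.Limits AlgebraicGeometry
open EGA2

namespace Groth.Agent.S2330

/-- Let Y be affine, q : X → Y separated and of finite type, and L an invertible O_X-module. Then L is
ample if and only if some L^{⊗n} (n > 0) is very ample relative to q, in the sense that it is the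
pullback of O(1) along an immersion of X into some P^m_Y over Y; moreover, if L is ample this holds
for all n beyond some n₀. ('Very ample relative to q' in general means this with P(E) for a
quasi-coherent O_Y-module E in place of P^m_Y; for q of finite type over an affine base the two
agree, and the P^m_Y form is the one used here.) -/
theorem result {X Y : Scheme.{u}} [IsAffine Y] (q : X ⟶ Y) [IsSeparated q]
    [QuasiCompact q] [LocallyOfFiniteType q] (L : X.Modules) (hL : PicF.IsInvertible L) :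
    (CohB1.IsAmple L ↔ ∃ n : ℕ, 0 < n ∧ RelAmple.IsRelVeryAmplePn q (CohB1.tensorPow L n)) ∧
      (CohB1.IsAmple L → ∃ n₀ : ℕ, ∀ n, n₀ ≤ n → RelAmple.IsRelVeryAmplePn q (CohB1.tensorPow L n)) := by
  have hmore : CohB1.IsAmple L → ∃ n₀ : ℕ, ∀ n, n₀ ≤ n →
      RelAmple.IsRelVeryAmplePn q (CohB1.tensorPow L n) :=
    fun hA => Groth.Agent.Lib.T2H6.VAmpleE.eventually_veryAmple_pow q L hA
  refine ⟨⟨fun hA => ?_, ?_⟩, hmore⟩
  · obtain ⟨n₀, h⟩ := hmore hA
    exact ⟨max n₀ 1, lt_of_lt_of_le Nat.zero_lt_one (le_max_right _ _), h _ (le_max_left _ _)⟩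
  · rintro ⟨n, hn, m, i, himm, hcomp, ⟨e⟩⟩
    haveI : CompactSpace X := by
      have h1 : IsCompact (q ⁻¹' (Set.univ : Set Y)) :=
        QuasiCompact.isCompact_preimage (f := q) _ isOpen_univ isCompact_univ
      rw [Set.preimage_univ] at h1
      exact isCompact_univ_iff.1 h1
    -- `O(1)` on `P^m_ℤ` is ample
    have h1 : CohB1.IsAmple (Twist.twistProjSpace m (ULift.{u} ℤ) 1) := by
      have := Groth.Agent.Lib.T2H5.AmplePn.isAmple_twist_of_pos m (ULift.{u} ℤ) 1 Nat.one_pos
      simpa using this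
    -- `O(1)` on `P^m_Y` is ample as `Y` is affine
    haveI : IsAffineHom (specULiftZIsTerminal.from Y) := isAffineHom_of_isAffine _
    haveI : IsAffineHom (pullback.fst (CohB1.ProjSpace.toSpec m (ULift.{u} ℤ))
        (specULiftZIsTerminal.from Y)) :=
      MorphismProperty.pullback_fst _ _ inferInstance
    have h2 : CohB1.IsAmple (Twist.twistOver m Y 1) :=
      Groth.Agent.Lib.Helper23.PB.isAmple_pullback_of_isAffineHom
        (pullback.fst (CohB1.ProjSpace.toSpec m (ULift.{u} ℤ)) (specULiftZIsTerminal.from Y)) _ h1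
    have h3 : CohB1.IsAmple ((Scheme.Modules.pullback i).obj (Twist.twistOver m Y 1)) :=
      Groth.Agent.Lib.Helper23.PB.isAmple_pullback_of_isEmbedding i
        (Scheme.Hom.isEmbedding i) _ h2
    have h4 : CohB1.IsAmple (CohB1.tensorPow L n) :=
      Groth.Agent.Lib.Helper23.AmpleIso.isAmple_of_iso e.symm h3
    obtain ⟨-, hc, h⟩ := h4
    refine ⟨hL, hc, fun x => ?_⟩
    obtain ⟨k, σ, hxσ, haff⟩ := h x
    obtain ⟨k', hk'⟩ : ∃ k', n * (k + 1) = k' + 1 := ⟨n * (k + 1) - 1, by
      have : 0 < n * (k + 1) := Nat.mul_pos hn (Nat.succ_pos k)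
      omega⟩
    obtain ⟨Φ⟩ := Groth.Agent.Lib.Helper23.SecTw.nonempty_tensorPow_tensorPow_iso L hL n (k + 1) (k' + 1) hk'
    refine ⟨k', σ ≫ Φ.hom, ?_⟩
    rw [Groth.Agent.Lib.Helper23.AmpleIso.genLocus_comp_iso]
    exact ⟨hxσ, haff⟩

end Groth.Agent.S2330
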