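import Groth.Statements.S7245
import Groth.Agent.Lib.T2H2AffQhD
import Groth.Agent.Lib.T2H1KhUnit
import Groth.Agent.Lib.T2H1RpushSupport

set_option linter.style.haveILetI false

set_option autoImplicit false
universe u
open CategoryTheory CategoryTheory.Limits AlgebraicGeometry
attribute [local instance] HasDerivedCategory.standard
open Perf

namespace Groth.Agent.S7245

/-- Let f : X ⟶ S be an affine morphism of schemes and F a cochain complex of quasi-coherent
O_X-modules. Assuming Rf_* exists on the unbounded derived category, the canonical map f_*F ⟶ Rf_*F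
in D(O_S) (the unit of the total right derived functor at F) is an isomorphism. -/
theorem result {X S : Scheme.{u}} (f : X ⟶ S) [IsAffineHom f] [DCoh.HasRpush f]
    (F : CochainComplex X.Modules ℤ) (hq : ∀ n : ℤ, Coh.IsQCoh (F.X n)) :
    IsIso (((DCoh.pushKh f).totalRightDerivedUnit DerivedCategory.Qh (HomotopyCategory.quasiIso X.Modules (ComplexShape.up ℤ))).app
      ((HomotopyCategory.quotient X.Modules (ComplexShape.up ℤ)).obj F)) := by
  haveI := Groth.Agent.Lib.T2H2.ModLim.isGrothendieckAbelian_modules X
  obtain ⟨I, φ, hI, hφ⟩ :=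
    Groth.Agent.Lib.T2H1.RpushSupport.exists_kInjective_resolution.{u} F
  haveI := hI
  haveI := hφ
  haveI h1 : IsIso (((DCoh.pushKh f).totalRightDerivedUnit DerivedCategory.Qh
      (HomotopyCategory.quasiIso X.Modules (ComplexShape.up ℤ))).app
      ((HomotopyCategory.quotient X.Modules (ComplexShape.up ℤ)).obj I)) :=
    Groth.Agent.Lib.T2H1.KhUnit.isIso_app_quotient_of_isKInjective.{u}
      (Scheme.Modules.pushforward f) (DCoh.Rpush f) _ I
  have nat := ((DCoh.pushKh f).totalRightDerivedUnit DerivedCategory.Qh
      (HomotopyCategory.quasiIso X.Modules (ComplexShape.up ℤ))).naturality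
      ((HomotopyCategory.quotient X.Modules (ComplexShape.up ℤ)).map φ)
  haveI h2 : IsIso ((DCoh.pushKh f).map
      ((HomotopyCategory.quotient X.Modules (ComplexShape.up ℤ)).map φ)) := by
    change IsIso (DerivedCategory.Q.map
      (((Scheme.Modules.pushforward f).mapHomologicalComplex (ComplexShape.up ℤ)).map φ))
    rw [DerivedCategory.isIso_Q_map_iff_quasiIso]
    exact Groth.Agent.Lib.T2H2.AffQh.quasiIso_push f φ hq
  haveI h3 : IsIso ((DerivedCategory.Qh ⋙ DCoh.Rpush f).map
      ((HomotopyCategory.quotient X.Modules (ComplexShape.up ℤ)).map φ)) := by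
    change IsIso ((DCoh.Rpush f).map (DerivedCategory.Q.map φ))
    haveI : IsIso (DerivedCategory.Q.map φ) := by
      rw [DerivedCategory.isIso_Q_map_iff_quasiIso]
      infer_instance
    infer_instance
  have h4 : IsIso ((((DCoh.pushKh f).totalRightDerivedUnit DerivedCategory.Qh
      (HomotopyCategory.quasiIso X.Modules (ComplexShape.up ℤ))).app
      ((HomotopyCategory.quotient X.Modules (ComplexShape.up ℤ)).obj F)) ≫
      (DerivedCategory.Qh ⋙ DCoh.Rpush f).map
      ((HomotopyCategory.quotient X.Modules (ComplexShape.up ℤ)).map φ)) := by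
    rw [← nat]
    infer_instance
  exact IsIso.of_isIso_comp_right _ ((DerivedCategory.Qh ⋙ DCoh.Rpush f).map
      ((HomotopyCategory.quotient X.Modules (ComplexShape.up ℤ)).map φ))

end Groth.Agent.S7245
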