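import Groth.Statements.S0998
import Groth.Agent.Lib.T2H2QcRpushE
import Groth.Agent.Lib.T2H1MVTri

set_option autoImplicit false
universe u
open CategoryTheory CategoryTheory.Limits AlgebraicGeometry
attribute [local instance] HasDerivedCategory.standard
open Perf

namespace Groth.Agent.S0998


attribute [local instance] Groth.Agent.Lib.T2H1.RpushSupport.hasRpush

open CategoryTheory CategoryTheory.Limits AlgebraicGeometry in
/-- the relative Mayer–Vietoris triangle, in the form used by `T2H2.QcRpush`. -/
theorem relMV : Groth.Agent.Lib.T2H2.QcRpush.RelMV.{u} :=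
  fun f U V hUV E => Groth.Agent.Lib.T2H1.MVTri.exists_relative_mv_triangle U V hUV f E

/-- Let f : X ⟶ S be quasi-compact and quasi-separated and assume Rf_* exists on the unbounded derived
category. If K ∈ D(O_X) has quasi-coherent cohomology sheaves, so does Rf_*K. -/
theorem result {X S : Scheme.{u}} (f : X ⟶ S) [QuasiCompact f] [QuasiSeparated f] [DCoh.HasRpush f]
    (K : DCoh.D X) (hK : DCoh.IsQCohD K) : DCoh.IsQCohD ((DCoh.Rpush f).obj K) := by
  exact Groth.Agent.Lib.T2H2.QcRpush.isQCohD_Rpush_of_qcqs relMV f K hK

end Groth.Agent.S0998
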