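import Groth.Statements.S10424
import Groth.Agent.Lib.T2H1UnivBdd

set_option autoImplicit false
universe u
open CategoryTheory CategoryTheory.Limits AlgebraicGeometry Topology TopologicalSpace
open AlgSp

namespace Groth.Agent.S10424

/-- Let X be an algebraic space over a scheme S, V ⟶ U a morphism of schemes over S and U ⟶ X a
morphism. Suppose that the fibres of V ⟶ U and of U ⟶ X are universally bounded. Then V ⟶ X also has
universally bounded fibres. -/
theorem result {S : Scheme.{u}} (X : AlgSp.Space S) {U V : Over S} (f : V ⟶ U)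
    (g : (AlgSp.yon S).obj U ⟶ X.obj) (hf : W4dec.HasUnivBddFibres ((AlgSp.yon S).map f)) (hg : W4dec.HasUnivBddFibres g) :
    W4dec.HasUnivBddFibres ((AlgSp.yon S).map f ≫ g) := by
  obtain ⟨n, hf⟩ := hf
  obtain ⟨m, hg⟩ := hg
  refine ⟨n * m, ?_⟩
  intro q T c snd hpb
  obtain ⟨T', c', fst', hT'⟩ := X.property.representable_from_yon g q.toHom
  have hc' := hg q T' c' fst' hT'.flip
  let a' : (AlgSp.yon S).obj T ⟶ (AlgSp.yon S).obj T' :=
    hT'.lift (snd ≫ (AlgSp.yon S).map f) ((AlgSp.yon S).map c) (by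
      rw [Category.assoc, ← hpb.w])
  have ha1 : a' ≫ fst' = snd ≫ (AlgSp.yon S).map f := hT'.lift_fst _ _ _
  have ha2 : a' ≫ (AlgSp.yon S).map c' = (AlgSp.yon S).map c := hT'.lift_snd _ _ _
  obtain ⟨a, ha⟩ := (AlgSp.yon S).map_surjective a'
  rw [← ha] at ha1 ha2
  have hac : a ≫ c' = c := by
    apply (AlgSp.yon S).map_injective
    rw [Functor.map_comp]
    exact ha2
  have hbig : IsPullback snd ((AlgSp.yon S).map a ≫ (AlgSp.yon S).map c')
      ((AlgSp.yon S).map f ≫ g) q.toHom := by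
    rw [ha2]
    exact hpb.flip
  have htop : IsPullback snd ((AlgSp.yon S).map a) ((AlgSp.yon S).map f) fst' :=
    IsPullback.of_bot hbig ha1.symm hT'
  have h1 := Groth.Agent.Lib.T2H1.UnivBdd.degFibresLE_baseChange htop.flip hf
  have h2 := Groth.Agent.Lib.T2H1.UnivBdd.fibDegLE_of_degFibresLE a h1
  have h3 := Groth.Agent.Lib.T2H1.UnivBdd.finDeg_comp a.left c'.left hc' h2
  rw [← hac]
  exact h3

end Groth.Agent.S10424
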