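import Groth.Statements.S15583
import Groth.Agent.Lib.T2H2HermDiag
import Groth.Agent.Lib.Helper15QuadEtale

set_option autoImplicit false
universe u v
open RInv

namespace Groth.Agent.S15583

/-- Let `A` be a commutative ring with an involution `lam` whose fixed ring `B` is local, let `ε = ±1`,
and let `h` be an invertible `n × n` matrix over `A` that is `(ε, lam)`-hermitian: `h` equals `ε`
times the transpose of `lam` applied entrywise to `h`. If `lam` is not the identity modulo the
Jacobson radical of `A`, or `ε ≠ -1` modulo that radical, or `n` is odd, then `h` is congruent to a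
diagonal matrix: there is an invertible `v` with `(lam v)ᵀ h v` diagonal. -/
theorem result (B : Type u) (A : Type v) [CommRing B] [CommRing A]
    [Algebra B A] (lam : A ≃+* A) (hlam : Function.Involutive lam) (hB : RInv.IsFixedRing B A lam)
    [IsLocalRing B] (n : ℕ) (ε : A) (hε : ε = 1 ∨ ε = -1) (h : Matrix (Fin n) (Fin n) A)
    (hh : IsUnit h) (herm : ε • (h.map lam).transpose = h)
    (hcase : (∃ a : A, lam a - a ∉ Ring.jacobson A) ∨ ε + 1 ∉ Ring.jacobson A ∨ Odd n) :
    ∃ v : Matrix (Fin n) (Fin n) A, IsUnit v ∧
      ∃ d : Fin n → A, (v.map lam).transpose * h * v = Matrix.diagonal d := by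
  let _ : StarRing A :=
    { star := lam
      star_involutive := hlam
      star_mul := fun a b => by
        show lam (a * b) = lam b * lam a
        rw [map_mul, mul_comm]
      star_add := fun a b => map_add lam a b }
  have hnt : Nontrivial A := hB.1.nontrivial
  have HU : ∀ a : A, (star a = a ∨ star a = -a) → a ∉ Ring.jacobson A → IsUnit a := by
    intro a ha hJ
    rcases ha with ha | ha
    · obtain ⟨b, rfl⟩ := (hB.2 a).mp ha
      by_contra hnu
      apply hJ
      apply Groth.Agent.Lib.Helper15.QuadEtale.algebraMap_mem_jacobson lam hlam hB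
      rw [IsLocalRing.mem_maximalIdeal]
      intro hb
      exact hnu (hb.map _)
    · have hex : ∃ M : Ideal A, M.IsMaximal ∧ a ∉ M := by
        by_contra hcon
        push Not at hcon
        apply hJ
        rw [← Ideal.jacobson_bot]
        exact Ideal.mem_sInf.mpr fun M hM => hcon M hM.2
      obtain ⟨M, hM, haM⟩ := hex
      exact Groth.Agent.Lib.Helper15.QuadEtale.isUnit_of_anti_of_notMem lam hlam hB a ha M haM
  have hcase' : (∃ a : A, star a - a ∉ Ring.jacobson A) ∨ ε + 1 ∉ Ring.jacobson A ∨
      Odd (Fintype.card (Fin n)) := by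
    rw [Fintype.card_fin]
    exact hcase
  obtain ⟨v, hv, d, hd⟩ :=
    Groth.Agent.Lib.T2H2.HermDiag.diag_of_cases hε HU h hh herm hcase'
  exact ⟨v, hv, d, hd⟩

end Groth.Agent.S15583
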