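import Groth.Statements.S0385
import Groth.Agent.Lib.T2H2ImmStageC

set_option autoImplicit false
universe u
open FlatMor

namespace Groth.Agent.S0385

open AlgebraicGeometry CategoryTheory Limits in
/-- Zariski's Main Theorem in its finite-factorization form (Mathlib already has the open immersion into
the integral relative normalization; the content here is replacing integral by finite): a
quasi-finite separated morphism (locally of finite type, quasi-compact, with finite fibres) to a
quasi-compact quasi-separated scheme is a quasi-compact open immersion followed by a finite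
morphism. -/
theorem result {X S : Scheme.{u}} (f : X ⟶ S) [CompactSpace S] [QuasiSeparatedSpace S] [LocallyQuasiFinite f] [LocallyOfFiniteType f] [QuasiCompact f] [IsSeparated f] :
    ∃ (T : Scheme.{u}) (j : X ⟶ T) (π : T ⟶ S), IsOpenImmersion j ∧ QuasiCompact j ∧ IsFinite π ∧ j ≫ π = f := by
  obtain ⟨C', g', hg', hfin, hfac⟩ := Groth.Agent.Lib.T2H2.ImmStageC.exists_immersion_finite f
  have hqc : QuasiCompact g' := by
    have : QuasiCompact (g' ≫ C'.π) := by rw [hfac]; infer_instance
    exact QuasiCompact.of_comp g' C'.π
  have hqc' : QuasiCompact g'.toImage := by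
    have : QuasiCompact (g'.toImage ≫ g'.imageι) := by rw [Scheme.Hom.toImage_imageι]; exact hqc
    exact QuasiCompact.of_comp g'.toImage g'.imageι
  refine ⟨g'.image, g'.toImage, g'.imageι ≫ C'.π, inferInstance, hqc', inferInstance, ?_⟩
  rw [Scheme.Hom.toImage_imageι_assoc, hfac]

end Groth.Agent.S0385
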