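import Groth.Statements.S12084
import Mathlib
import Groth.Agent.Lib.Helper18Fitt4

set_option autoImplicit false
universe u
open Fitt

namespace Groth.Agent.S12084

open Groth.Agent.Helper18Fitt

section FittProd

variable {R : Type u} [CommRing R] {M : Type u} [AddCommGroup M] [Module R M]
  {M' : Type u} [AddCommGroup M'] [Module R M']

theorem T_mono {k k' : ℕ} {ι : Type} [Fintype ι] [DecidableEq ι] (x : ι → M) (h : k ≤ k') :
    T (R := R) k ι x ≤ T k' ι x := by
  unfold T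
  apply Ideal.span_mono
  rintro d ⟨a, S, hS, ha, rfl⟩
  exact ⟨a, S, hS.trans h, ha, rfl⟩

/-- the generating family of `M × M'` -/
def yy {ι ι' : Type} (x : ι → M) (x' : ι' → M') : ι ⊕ ι' → M × M' :=
  Sum.elim (fun i => LinearMap.inl R M M' (x i)) (fun j => LinearMap.inr R M M' (x' j))

theorem rel_split {ι ι' : Type} [Fintype ι] [Fintype ι'] (x : ι → M) (x' : ι' → M')
    (r : ι ⊕ ι' → R) :
    (∑ c, r c • (yy (R := R) x x' c)) =
      (∑ j, r (Sum.inl j) • x j, ∑ j, r (Sum.inr j) • x' j) := by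
  rw [Fintype.sum_sum_type]
  have e1 : ∀ j, r (Sum.inl j) • yy (R := R) x x' (Sum.inl j) = (r (Sum.inl j) • x j, (0 : M')) := by
    intro j
    simp [yy, LinearMap.inl_apply, Prod.smul_mk]
  have e2 : ∀ j, r (Sum.inr j) • yy (R := R) x x' (Sum.inr j) = ((0 : M), r (Sum.inr j) • x' j) := by
    intro j
    simp [yy, LinearMap.inr_apply, Prod.smul_mk]
  simp only [e1, e2]
  refine Prod.ext ?_ ?_ <;> simp [Prod.fst_sum, Prod.snd_sum]

theorem span_yy {ι ι' : Type} (x : ι → M) (x' : ι' → M')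
    (hx : Submodule.span R (Set.range x) = ⊤) (hx' : Submodule.span R (Set.range x') = ⊤) :
    Submodule.span R (Set.range (yy (R := R) x x')) = ⊤ := by
  rw [eq_top_iff]
  rintro ⟨m, m'⟩ -
  have h1 : (m, (0 : M')) ∈ Submodule.span R (Set.range (yy (R := R) x x')) := by
    have hm : m ∈ Submodule.span R (Set.range x) := by rw [hx]; trivial
    have h2 : Submodule.map (LinearMap.inl R M M') (Submodule.span R (Set.range x)) ≤
        Submodule.span R (Set.range (yy (R := R) x x')) := by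
      rw [Submodule.map_span, Submodule.span_le]
      rintro _ ⟨_, ⟨i, rfl⟩, rfl⟩
      exact Submodule.subset_span ⟨Sum.inl i, rfl⟩
    exact h2 ⟨m, hm, rfl⟩
  have h2 : ((0 : M), m') ∈ Submodule.span R (Set.range (yy (R := R) x x')) := by
    have hm : m' ∈ Submodule.span R (Set.range x') := by rw [hx']; trivial
    have h2 : Submodule.map (LinearMap.inr R M M') (Submodule.span R (Set.range x')) ≤
        Submodule.span R (Set.range (yy (R := R) x x')) := by
      rw [Submodule.map_span, Submodule.span_le]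
      rintro _ ⟨_, ⟨i, rfl⟩, rfl⟩
      exact Submodule.subset_span ⟨Sum.inr i, rfl⟩
    exact h2 ⟨m', hm, rfl⟩
  have h3 : ((m, m') : M × M') = (m, 0) + (0, m') := by simp
  rw [h3]
  exact Submodule.add_mem _ h1 h2

theorem det_mem_of_split {ι ι' : Type} [Fintype ι] [DecidableEq ι] [Fintype ι'] [DecidableEq ι']
    (x : ι → M) (x' : ι' → M') (l : ℕ) (m : Matrix (ι ⊕ ι') (ι ⊕ ι') R)
    (P S : Finset (ι ⊕ ι')) (hS : S.card ≤ l)
    (h1 : ∀ i ∈ P, ∀ j, m i (Sum.inr j) = 0)
    (h1' : ∀ i ∈ P, i ∉ S → ∑ j, m i (Sum.inl j) • x j = 0)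
    (h2 : ∀ i, i ∉ P → ∀ j, m i (Sum.inl j) = 0)
    (h2' : ∀ i, i ∉ P → i ∉ S → ∑ j, m i (Sum.inr j) • x' j = 0) :
    m.det ∈ ∑ k ∈ Finset.range (l + 1), T (R := R) k ι x * T (R := R) (l - k) ι' x' := by
  classical
  by_cases h : ∃ σ : Equiv.Perm (ι ⊕ ι'), (∀ j, σ (Sum.inl j) ∈ P) ∧ (∀ j, σ (Sum.inr j) ∉ P)
  · obtain ⟨e, he1, he2⟩ := h
    obtain ⟨m', hm'⟩ : ∃ m' : Matrix (ι ⊕ ι') (ι ⊕ ι') R, m' = m.submatrix e id := ⟨_, rfl⟩
    have h12 : m'.toBlocks₁₂ = 0 := by
      ext i j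
      rw [hm']
      exact h1 (e (Sum.inl i)) (he1 i) j
    have h21 : m'.toBlocks₂₁ = 0 := by
      ext i j
      rw [hm']
      exact h2 (e (Sum.inr i)) (he2 i) j
    have hdet' : m'.det = m'.toBlocks₁₁.det * m'.toBlocks₂₂.det := by
      conv_lhs => rw [← Matrix.fromBlocks_toBlocks m', h12, h21]
      exact Matrix.det_fromBlocks_zero₂₁ _ _ _
    obtain ⟨S₁, hS₁⟩ : ∃ S₁ : Finset ι, ∀ i, i ∈ S₁ ↔ e (Sum.inl i) ∈ S :=
      ⟨Finset.univ.filter (fun i => e (Sum.inl i) ∈ S), fun i => by simp⟩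
    obtain ⟨S₂, hS₂⟩ : ∃ S₂ : Finset ι', ∀ i, i ∈ S₂ ↔ e (Sum.inr i) ∈ S :=
      ⟨Finset.univ.filter (fun i => e (Sum.inr i) ∈ S), fun i => by simp⟩
    have hcard : S₁.card + S₂.card ≤ S.card := by
      rw [← Finset.card_disjSum]
      refine Finset.card_le_card_of_injOn e ?_ e.injective.injOn
      intro c hc
      rcases c with i | i
      · exact (hS₁ i).mp (Finset.inl_mem_disjSum.mp hc)
      · exact (hS₂ i).mp (Finset.inr_mem_disjSum.mp hc)
    have hA : m'.toBlocks₁₁.det ∈ T (R := R) S₁.card ι x := by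
      refine mem_T_of _ S₁ le_rfl ?_
      intro i hi
      have hi' : e (Sum.inl i) ∉ S := fun hh => hi ((hS₁ i).mpr hh)
      have := h1' (e (Sum.inl i)) (he1 i) hi'
      rw [hm']
      exact this
    have hD : m'.toBlocks₂₂.det ∈ T (R := R) (l - S₁.card) ι' x' := by
      refine T_mono x' (by omega) (mem_T_of _ S₂ le_rfl ?_)
      intro i hi
      have hi' : e (Sum.inr i) ∉ S := fun hh => hi ((hS₂ i).mpr hh)
      have := h2' (e (Sum.inr i)) (he2 i) hi'
      rw [hm']
      exact this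
    have hmem : m'.det ∈
        ∑ k ∈ Finset.range (l + 1), T (R := R) k ι x * T (R := R) (l - k) ι' x' := by
      rw [hdet']
      have hk : S₁.card ∈ Finset.range (l + 1) := Finset.mem_range.mpr (by omega)
      have hle : T (R := R) S₁.card ι x * T (R := R) (l - S₁.card) ι' x' ≤
          ∑ k ∈ Finset.range (l + 1), T (R := R) k ι x * T (R := R) (l - k) ι' x' := by
        rw [Ideal.sum_eq_sup]
        exact Finset.le_sup (f := fun k => T (R := R) k ι x * T (R := R) (l - k) ι' x') hk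
      exact hle (Ideal.mul_mem_mul hA hD)
    have h1d := Matrix.det_permute e m
    rw [← hm'] at h1d
    rcases Int.units_eq_one_or (Equiv.Perm.sign e) with hs | hs
    · rw [hs] at h1d
      simp only [Units.val_one, Int.cast_one, one_mul] at h1d
      rw [← h1d]; exact hmem
    · rw [hs] at h1d
      simp only [Units.val_neg, Units.val_one, Int.cast_neg, Int.cast_one, neg_mul, one_mul] at h1d
      have h5 : m.det = - m'.det := by rw [h1d, neg_neg]
      rw [h5]; exact (Ideal.neg_mem_iff _).mpr hmem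
  · have hz : m.det = 0 := by
      rw [Matrix.det_apply]
      refine Finset.sum_eq_zero (fun σ _ => ?_)
      have hex : ∃ c, m (σ c) c = 0 := by
        by_contra hcon
        push Not at hcon
        apply h
        refine ⟨σ, fun j => ?_, fun j => ?_⟩
        · by_contra hj
          exact hcon (Sum.inl j) (h2 _ hj j)
        · intro hj
          exact hcon (Sum.inr j) (h1 _ hj j)
      obtain ⟨c, hc⟩ := hex
      rw [Finset.prod_eq_zero (f := fun i => m (σ i) i) (Finset.mem_univ c) hc, smul_zero]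
    rw [hz]; exact Ideal.zero_mem _

theorem T_prod_le {ι ι' : Type} [Fintype ι] [DecidableEq ι] [Fintype ι'] [DecidableEq ι']
    (x : ι → M) (x' : ι' → M') (l : ℕ) :
    T (R := R) l (ι ⊕ ι') (yy (R := R) x x') ≤
      ∑ k ∈ Finset.range (l + 1), T (R := R) k ι x * T (R := R) (l - k) ι' x' := by
  classical
  conv_lhs => unfold T
  rw [Ideal.span_le]
  rintro _ ⟨a, S, hS, ha, rfl⟩
  have hrel : ∀ i, i ∉ S →
      (∑ j, a i (Sum.inl j) • x j = 0) ∧ (∑ j, a i (Sum.inr j) • x' j = 0) := by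
    intro i hi
    have h := ha i hi
    rw [rel_split] at h
    exact ⟨congrArg Prod.fst h, congrArg Prod.snd h⟩
  obtain ⟨U, hU⟩ : ∃ U : (ι ⊕ ι') → (ι ⊕ ι') → R,
      ∀ i c, U i c = Sum.elim (fun j => a i (Sum.inl j)) (fun _ => 0) c := ⟨_, fun _ _ => rfl⟩
  obtain ⟨V, hV⟩ : ∃ V : (ι ⊕ ι') → (ι ⊕ ι') → R,
      ∀ i c, V i c = Sum.elim (fun _ => 0) (fun j => a i (Sum.inr j)) c := ⟨_, fun _ _ => rfl⟩
  have hUV : (a : (ι ⊕ ι') → (ι ⊕ ι') → R) = U + V := by
    funext i c
    rw [Pi.add_apply, Pi.add_apply, hU, hV]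
    rcases c with j | j <;> simp
  have hexp : a.det = ∑ P : Finset (ι ⊕ ι'),
      Matrix.det (P.piecewise U V : Matrix (ι ⊕ ι') (ι ⊕ ι') R) := by
    have h := (Matrix.detRowAlternating (n := ι ⊕ ι') (R := R)).toMultilinearMap.map_add_univ U V
    rw [← hUV] at h
    exact h
  rw [SetLike.mem_coe, hexp]
  refine Ideal.sum_mem _ (fun P _ => ?_)
  refine det_mem_of_split x x' l _ P S hS ?_ ?_ ?_ ?_
  · intro i hi j
    rw [Finset.piecewise_eq_of_mem _ _ _ hi, hU]
    rfl
  · intro i hi hiS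
    rw [Finset.piecewise_eq_of_mem _ _ _ hi]
    simp only [hU, Sum.elim_inl]
    exact (hrel i hiS).1
  · intro i hi j
    rw [Finset.piecewise_eq_of_notMem _ _ _ hi, hV]
    rfl
  · intro i hi hiS
    rw [Finset.piecewise_eq_of_notMem _ _ _ hi]
    simp only [hV, Sum.elim_inr]
    exact (hrel i hiS).2

theorem mul_le_T_prod {ι ι' : Type} [Fintype ι] [DecidableEq ι] [Fintype ι'] [DecidableEq ι']
    (x : ι → M) (x' : ι' → M') (l k : ℕ) (hk : k ≤ l) :
    T (R := R) k ι x * T (R := R) (l - k) ι' x' ≤ T (R := R) l (ι ⊕ ι') (yy (R := R) x x') := by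
  classical
  conv_lhs => unfold T
  rw [Ideal.span_mul_span', Ideal.span_le]
  rintro _ ⟨d, ⟨a, S, hS, ha, rfl⟩, d', ⟨a', S', hS', ha', rfl⟩, rfl⟩
  show a.det * a'.det ∈ T (R := R) l (ι ⊕ ι') (yy (R := R) x x')
  rw [← Matrix.det_fromBlocks_zero₂₁ a 0 a']
  refine mem_T_of _ (S.disjSum S') (by rw [Finset.card_disjSum]; omega) ?_
  intro i hi
  rw [rel_split]
  rcases i with i | i
  · have hi' : i ∉ S := fun h => hi (Finset.inl_mem_disjSum.mpr h)
    simp only [Matrix.fromBlocks_apply₁₁, Matrix.fromBlocks_apply₁₂, Matrix.zero_apply, zero_smul,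
      Finset.sum_const_zero]
    rw [ha i hi']
    rfl
  · have hi' : i ∉ S' := fun h => hi (Finset.inr_mem_disjSum.mpr h)
    simp only [Matrix.fromBlocks_apply₂₁, Matrix.fromBlocks_apply₂₂, Matrix.zero_apply, zero_smul,
      Finset.sum_const_zero]
    rw [ha' i hi']
    rfl

end FittProd


/-- For finite `R`-modules `M`, `M'` and every `l`, the `l`-th Fitting ideal of `M ⊕ M'` equals `∑_{k +
k' = l} Fit_k(M) · Fit_{k'}(M')`; in particular `Fit_0(M ⊕ M') = Fit_0(M) · Fit_0(M')`. -/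
theorem result (R : Type u) [CommRing R] (M M' : Type u) [AddCommGroup M] [Module R M]
    [AddCommGroup M'] [Module R M'] [Module.Finite R M] [Module.Finite R M'] (l : ℕ) :
    Fitt.ideal R (M × M') l = ∑ k ∈ Finset.range (l + 1), Fitt.ideal R M k * Fitt.ideal R M' (l - k) := by
  obtain ⟨n, x, hx⟩ := Module.Finite.exists_fin (R := R) (M := M)
  obtain ⟨n', x', hx'⟩ := Module.Finite.exists_fin (R := R) (M := M')
  obtain ⟨N, w, hw⟩ := Module.Finite.exists_fin (R := R) (M := M × M')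
  rw [fitt_eq_T w hw l, T_indep l w (yy (R := R) x x') hw (span_yy x x' hx hx')]
  have hM : ∀ k, Fitt.ideal R M k = T k (Fin n) x := fun k => fitt_eq_T x hx k
  have hM' : ∀ k, Fitt.ideal R M' k = T k (Fin n') x' := fun k => fitt_eq_T x' hx' k
  simp only [hM, hM']
  apply le_antisymm (T_prod_le x x' l)
  rw [Ideal.sum_eq_sup]
  exact Finset.sup_le (fun k hk => mul_le_T_prod x x' l k (by have := Finset.mem_range.mp hk; omega))

end Groth.Agent.S12084
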