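import Groth.Statements.S2023
import Groth.Agent.Lib.T2H3IndSmooth

set_option autoImplicit false
set_option linter.style.haveILetI false
universe u
open Smoothing

namespace Groth.Agent.S2023

/-- Let `I` be an ideal of square zero in `R` and `Λ` an `R`-algebra with `Λ/IΛ` ind-smooth over `R/I`.
Any `R`-algebra map `A → Λ` with `A` finitely presented factors through a quotient `B/J`, where `B`
is a smooth `R`-algebra and `J` is a finitely generated ideal contained in `IB`. -/
theorem result {R Λ A : Type u} [CommRing R] [CommRing Λ] [Algebra R Λ] (I : Ideal R)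
    (hI : I ^ 2 = ⊥) (h : Smoothing.IndSmooth (R ⧸ I) (Λ ⧸ I.map (algebraMap R Λ)))
    [CommRing A] [Algebra R A] [Algebra.FinitePresentation R A] (φ : A →ₐ[R] Λ) :
    ∃ (B : Type u) (_ : CommRing B) (_ : Algebra R B), Algebra.Smooth R B ∧
      ∃ J : Ideal B, J ≤ I.map (algebraMap R B) ∧ J.FG ∧
        ∃ (g : A →ₐ[R] B ⧸ J) (k : (B ⧸ J) →ₐ[R] Λ), k.comp g = φ := by
  classical
  obtain ⟨C, _, _, hC, ψ, Q, _, _, π, γ, hπ, hker, hcompat⟩ :=
    Groth.Agent.Lib.T2H3.IndSmooth.exists_smooth_model_mod I hI h φ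
  obtain ⟨n, f, hf, hfg⟩ := Algebra.FinitePresentation.out (R := R) (A := A)
  choose b hb using fun i : Fin n => hπ (γ (f (MvPolynomial.X i)))
  have hδ : ∀ i, φ (f (MvPolynomial.X i)) - ψ (b i) ∈ I.map (algebraMap R Λ) := fun i => by
    have := hcompat (f (MvPolynomial.X i)) (b i) (hb i)
    rwa [← Ideal.neg_mem_iff, neg_sub] at this
  choose l hl1 hl2 using fun i =>
    Groth.Agent.Lib.T2H3.IndSmooth.exists_list_of_mem_map I (hδ i)
  let σ := Σ i : Fin n, Fin (l i).length
  haveI : Algebra.Smooth C (MvPolynomial σ C) := ⟨inferInstance, inferInstance⟩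
  haveI : Algebra.Smooth R (MvPolynomial σ C) := Algebra.Smooth.comp R C (MvPolynomial σ C)
  letI : Algebra C Λ := (ψ : C →+* Λ).toAlgebra
  haveI : IsScalarTower R C Λ := IsScalarTower.of_algebraMap_eq (fun r => (ψ.commutes r).symm)
  have hψalg : ∀ c, algebraMap C Λ c = ψ c := fun _ => rfl
  let lam : σ → Λ := fun s => ((l s.1)[s.2.1]).2
  let eps : σ → R := fun s => ((l s.1)[s.2.1]).1
  have heps : ∀ s, eps s ∈ I := fun s => hl1 s.1 _ (List.getElem_mem _)
  let ψ' : MvPolynomial σ C →ₐ[R] Λ :=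
    (MvPolynomial.aeval lam : MvPolynomial σ C →ₐ[C] Λ).restrictScalars R
  let x' : Fin n → MvPolynomial σ C := fun i => MvPolynomial.C (b i) +
    ∑ t : Fin (l i).length, MvPolynomial.C (algebraMap R C (eps ⟨i, t⟩)) * MvPolynomial.X ⟨i, t⟩
  have hψ'x : ∀ i, ψ' (x' i) = φ (f (MvPolynomial.X i)) := by
    intro i
    have e1 : ψ' (x' i) = ψ (b i) + ∑ t : Fin (l i).length,
        algebraMap R Λ (eps ⟨i, t⟩) * lam ⟨i, t⟩ := by
      simp only [ψ', x', AlgHom.restrictScalars_apply, map_add, map_sum, map_mul,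
        MvPolynomial.aeval_C, MvPolynomial.aeval_X, hψalg, AlgHom.commutes]
    have e2 : ∑ t : Fin (l i).length, algebraMap R Λ (eps ⟨i, t⟩) * lam ⟨i, t⟩ =
        ((l i).map (fun p => algebraMap R Λ p.1 * p.2)).sum :=
      Fin.sum_univ_fun_getElem (l i) (fun p => algebraMap R Λ p.1 * p.2)
    rw [e1, e2, ← hl2 i]
    ring
  let g₀ : MvPolynomial (Fin n) R →ₐ[R] MvPolynomial σ C := MvPolynomial.aeval x'
  have hψ'g₀ : ∀ p, ψ' (g₀ p) = φ (f p) := by
    have : ψ'.comp g₀ = φ.comp f := by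
      apply MvPolynomial.algHom_ext
      intro i
      simp only [AlgHom.comp_apply, g₀, MvPolynomial.aeval_X, hψ'x]
    exact fun p => congr($this p)
  set J : Ideal (MvPolynomial σ C) := (RingHom.ker f).map (g₀ : _ →+* MvPolynomial σ C) with hJ
  have hJfg : J.FG := Ideal.FG.map hfg _
  let ρ : MvPolynomial σ C →+* MvPolynomial σ Q := MvPolynomial.map (π : C →+* Q)
  have hkerρ : RingHom.ker ρ = I.map (algebraMap R (MvPolynomial σ C)) := by
    have h1 : RingHom.ker ρ = (RingHom.ker (π : C →+* Q)).map MvPolynomial.C :=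
      MvPolynomial.ker_map _
    rw [h1]
    have h2 : RingHom.ker (π : C →+* Q) = I.map (algebraMap R C) := hker
    rw [h2, Ideal.map_map]
    rfl
  have hρg₀ : ∀ p, ρ (g₀ p) = MvPolynomial.C (γ (f p)) := by
    have : (ρ.comp (g₀ : _ →+* MvPolynomial σ C)) =
        ((MvPolynomial.C : Q →+* MvPolynomial σ Q).comp
          ((γ.comp f : MvPolynomial (Fin n) R →ₐ[R] Q) : MvPolynomial (Fin n) R →+* Q)) := by
      apply MvPolynomial.ringHom_ext
      · intro r
        simp only [RingHom.comp_apply, RingHom.coe_coe, ρ]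
        rw [← MvPolynomial.algebraMap_eq, AlgHom.commutes, AlgHom.commutes]
        rw [IsScalarTower.algebraMap_apply R C (MvPolynomial σ C), MvPolynomial.algebraMap_eq,
          MvPolynomial.map_C]
        congr 1
        exact π.commutes r
      · intro i
        simp only [RingHom.comp_apply, RingHom.coe_coe, ρ, g₀, MvPolynomial.aeval_X, x', map_add,
          map_sum, map_mul, MvPolynomial.map_C, MvPolynomial.map_X, AlgHom.comp_apply]
        have h0 : ∀ t : Fin (l i).length, π (algebraMap R C (eps ⟨i, t⟩)) = 0 := by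
          intro t
          have : algebraMap R C (eps ⟨i, t⟩) ∈ RingHom.ker π := by
            rw [hker]
            exact Ideal.mem_map_of_mem _ (heps ⟨i, t⟩)
          exact this
        simp only [h0, map_zero, zero_mul, Finset.sum_const_zero, add_zero]
        congr 1
        exact hb i
    exact fun p => congr($this p)
  have hJI : J ≤ I.map (algebraMap R (MvPolynomial σ C)) := by
    rw [hJ, Ideal.map_le_iff_le_comap]
    intro p hp
    rw [Ideal.mem_comap, ← hkerρ, RingHom.mem_ker]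
    change ρ (g₀ p) = 0
    rw [hρg₀, RingHom.mem_ker.mp hp, map_zero, map_zero]
  refine ⟨MvPolynomial σ C, inferInstance, inferInstance, inferInstance, J, hJI, hJfg, ?_⟩
  let e : (MvPolynomial (Fin n) R ⧸ RingHom.ker f) ≃ₐ[R] A :=
    Ideal.quotientKerAlgEquivOfSurjective hf
  have he : ∀ p, e.symm (f p) = Ideal.Quotient.mk _ p := fun p => by
    rw [AlgEquiv.symm_apply_eq]
    rfl
  let g₁ : (MvPolynomial (Fin n) R ⧸ RingHom.ker f) →ₐ[R] MvPolynomial σ C ⧸ J :=
    Ideal.Quotient.liftₐ (RingHom.ker f) ((Ideal.Quotient.mkₐ R J).comp g₀) (fun p hp => by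
      rw [AlgHom.comp_apply, Ideal.Quotient.mkₐ_eq_mk, Ideal.Quotient.eq_zero_iff_mem]
      exact Ideal.mem_map_of_mem _ hp)
  let k : (MvPolynomial σ C ⧸ J) →ₐ[R] Λ := Ideal.Quotient.liftₐ J ψ' (fun y hy => by
    have hle : J ≤ RingHom.ker ψ' := by
      rw [hJ, Ideal.map_le_iff_le_comap]
      intro p hp
      rw [Ideal.mem_comap, RingHom.mem_ker]
      change ψ' (g₀ p) = 0
      rw [hψ'g₀, RingHom.mem_ker.mp hp, map_zero]
    exact hle hy)
  refine ⟨g₁.comp e.symm, k, ?_⟩
  ext a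
  obtain ⟨p, rfl⟩ := hf a
  rw [AlgHom.comp_apply, AlgHom.comp_apply, AlgEquiv.coe_toAlgHom, he]
  change ψ' (g₀ p) = φ (f p)
  exact hψ'g₀ p

end Groth.Agent.S2023
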