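import Groth.Statements.S6821
import Groth.Agent.Lib.T2H3IndSmooth

set_option autoImplicit false
set_option linter.style.haveILetI false
universe u
open Smoothing

namespace Groth.Agent.S6821

/-- Let R → Λ be a flat ring map and I ⊆ R an ideal with I² = 0 such that Λ/IΛ is ind-smooth over R/I
(every map from a finitely presented algebra factors through a smooth one). Let B be a smooth
R-algebra, φ : B → Λ an R-algebra map and J ⊆ IB a finitely generated ideal with φ(J) = 0. Then
there are a smooth R-algebra B' and R-algebra maps α : B → B' and β : B' → Λ with α(J) = 0 and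
β(α(b)) − φ(b) ∈ IΛ for all b. -/
theorem result {R Λ B : Type u} [CommRing R] [CommRing Λ] [Algebra R Λ] [Module.Flat R Λ]
    (I : Ideal R) (hI : I ^ 2 = ⊥) (h : Smoothing.IndSmooth (R ⧸ I) (Λ ⧸ I.map (algebraMap R Λ)))
    [CommRing B] [Algebra R B] [Algebra.Smooth R B] (φ : B →ₐ[R] Λ) (J : Ideal B)
    (hJ : J ≤ I.map (algebraMap R B)) (hJfg : J.FG) (hφJ : ∀ x ∈ J, φ x = 0) :
    ∃ (B' : Type u) (_ : CommRing B') (_ : Algebra R B'), Algebra.Smooth R B' ∧
      ∃ (α : B →ₐ[R] B') (β : B' →ₐ[R] Λ), (∀ x ∈ J, α x = 0) ∧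
        ∀ b : B, β (α b) - φ b ∈ I.map (algebraMap R Λ) := by
  classical
  obtain ⟨S, hS⟩ := hJfg
  -- each generator as a combination with coefficients in `I`
  have hSmem : ∀ h : S, (h : B) ∈ I.map (algebraMap R B) := fun h =>
    hJ (hS ▸ Ideal.subset_span h.2)
  choose l hl1 hl2 using fun h : S =>
    Groth.Agent.Lib.T2H3.IndSmooth.exists_list_of_mem_map I (hSmem h)
  let eps : ∀ h : S, Fin (l h).length → R := fun h t => ((l h)[t.1]).1
  let bb : ∀ h : S, Fin (l h).length → B := fun h t => ((l h)[t.1]).2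
  have heps : ∀ h t, eps h t ∈ I := fun h t => hl1 h _ (List.getElem_mem _)
  have hsum : ∀ h : S, (h : B) = ∑ t, algebraMap R B (eps h t) * bb h t := fun h => by
    rw [hl2 h]
    exact (Fin.sum_univ_fun_getElem (l h) (fun p => algebraMap R B p.1 * p.2)).symm
  -- the relations in `Λ` are trivial by flatness
  have hrel : ∀ h : S, ∑ t, eps h t • φ (bb h t) = 0 := by
    intro h
    have h0 : φ (h : B) = 0 := hφJ _ (hS ▸ Ideal.subset_span h.2)
    rw [hsum h, map_sum] at h0
    rw [← h0]
    refine Finset.sum_congr rfl fun t _ => ?_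
    rw [map_mul, AlgHom.commutes, Algebra.smul_def]
  choose k a y hy1 hy2 using fun h : S =>
    Module.Flat.isTrivialRelation_of_sum_smul_eq_zero (R := R) (M := Λ) (f := eps h)
      (x := fun t => φ (bb h t)) (hrel h)
  have hy1' : ∀ (h : S) (i : Fin (l h).length), φ (bb h i) = ∑ j, a h i j • y h j := hy1
  -- the finitely presented algebra `A₁`
  let ν := Σ h : S, Fin (k h)
  let τ := Σ h : S, Fin (l h).length
  let rel : τ → MvPolynomial ν B := fun s => MvPolynomial.C (bb s.1 s.2) -
    ∑ j : Fin (k s.1), MvPolynomial.C (algebraMap R B (a s.1 s.2 j)) * MvPolynomial.X ⟨s.1, j⟩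
  let K : Ideal (MvPolynomial ν B) := Ideal.span (Set.range rel)
  haveI : Algebra.FinitePresentation R B := Algebra.Smooth.finitePresentation
  haveI : Algebra.FinitePresentation R (MvPolynomial ν B) :=
    Algebra.FinitePresentation.trans R B (MvPolynomial ν B)
  haveI : Algebra.FinitePresentation R (MvPolynomial ν B ⧸ K) :=
    Algebra.FinitePresentation.quotient (Submodule.fg_span (Set.finite_range rel))
  letI : Algebra B Λ := (φ : B →+* Λ).toAlgebra
  haveI : IsScalarTower R B Λ := IsScalarTower.of_algebraMap_eq (fun r => (φ.commutes r).symm)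
  have hφalg : ∀ b, algebraMap B Λ b = φ b := fun _ => rfl
  let yy : ν → Λ := fun s => y s.1 s.2
  let κ₀ : MvPolynomial ν B →ₐ[R] Λ :=
    (MvPolynomial.aeval yy : MvPolynomial ν B →ₐ[B] Λ).restrictScalars R
  have hκ₀ : ∀ x ∈ K, κ₀ x = 0 := by
    intro x hx
    have hle : K ≤ RingHom.ker κ₀ := by
      refine Ideal.span_le.mpr ?_
      rintro _ ⟨s, rfl⟩
      rw [SetLike.mem_coe, RingHom.mem_ker]
      simp only [κ₀, rel, AlgHom.restrictScalars_apply, map_sub, map_sum, map_mul,
        MvPolynomial.aeval_C, MvPolynomial.aeval_X, hφalg, AlgHom.commutes, yy]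
      rw [hy1' s.1 s.2, sub_eq_zero]
      refine Finset.sum_congr rfl fun j _ => ?_
      rw [Algebra.smul_def]
    exact hle hx
  let κ : (MvPolynomial ν B ⧸ K) →ₐ[R] Λ := Ideal.Quotient.liftₐ K κ₀ hκ₀
  let ι₁ : B →ₐ[R] (MvPolynomial ν B ⧸ K) :=
    (Ideal.Quotient.mkₐ R K).comp (IsScalarTower.toAlgHom R B (MvPolynomial ν B))
  have hι₁ : ∀ b, ι₁ b = Ideal.Quotient.mk K (MvPolynomial.C b) := fun _ => rfl
  have hκι₁ : ∀ b, κ (ι₁ b) = φ b := by
    intro b
    rw [hι₁]
    change κ₀ (MvPolynomial.C b) = φ b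
    simp only [κ₀, AlgHom.restrictScalars_apply, MvPolynomial.aeval_C, hφalg]
  obtain ⟨C, _, _, hC, ψ, Q, _, _, π, γ, hπ, hker, hcompat⟩ :=
    Groth.Agent.Lib.T2H3.IndSmooth.exists_smooth_model_mod I hI h κ
  have hIC2 : I.map (algebraMap R C) * I.map (algebraMap R C) = ⊥ := by
    rw [← Ideal.map_mul, ← pow_two, hI, Ideal.map_bot]
  have hnil : IsNilpotent (RingHom.ker (π : C →+* Q)) := by
    refine ⟨2, ?_⟩
    have : RingHom.ker (π : C →+* Q) = I.map (algebraMap R C) := hker
    rw [this, pow_two, hIC2]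
    rfl
  let α : B →ₐ[R] C := Algebra.FormallySmooth.liftOfSurjective (γ.comp ι₁) π hπ hnil
  have hα : ∀ b, π (α b) = γ (ι₁ b) := fun b =>
    congr($(Algebra.FormallySmooth.comp_liftOfSurjective (γ.comp ι₁) π hπ hnil) b)
  refine ⟨C, inferInstance, inferInstance, hC, α, ψ, ?_, ?_⟩
  · -- `α` kills `J`
    have hgen : ∀ h : S, α (h : B) = 0 := by
      intro h
      choose Yt hYt using fun j : Fin (k h) =>
        hπ (γ (Ideal.Quotient.mk K (MvPolynomial.X (⟨h, j⟩ : ν))))
      have hz : ∀ t : Fin (l h).length,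
          α (bb h t) - ∑ j, algebraMap R C (a h t j) * Yt j ∈ I.map (algebraMap R C) := by
        intro t
        rw [← hker, RingHom.mem_ker, map_sub, hα, hι₁, map_sum, sub_eq_zero]
        have e1 : Ideal.Quotient.mk K (MvPolynomial.C (bb h t)) = Ideal.Quotient.mk K
            (∑ j : Fin (k h), MvPolynomial.C (algebraMap R B (a h t j)) *
              MvPolynomial.X (⟨h, j⟩ : ν)) := by
          rw [Ideal.Quotient.eq]
          exact Ideal.subset_span ⟨(⟨h, t⟩ : τ), rfl⟩
        rw [e1, map_sum, map_sum]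
        refine Finset.sum_congr rfl fun j _ => ?_
        rw [map_mul, map_mul, map_mul, hYt j, AlgHom.commutes]
        congr 1
        have : Ideal.Quotient.mk K (MvPolynomial.C (algebraMap R B (a h t j))) =
            algebraMap R (MvPolynomial ν B ⧸ K) (a h t j) := rfl
        rw [this, AlgHom.commutes]
      have hkill : ∀ t : Fin (l h).length, algebraMap R C (eps h t) *
          (α (bb h t) - ∑ j, algebraMap R C (a h t j) * Yt j) = 0 := by
        intro t
        have := Ideal.mul_mem_mul (Ideal.mem_map_of_mem (algebraMap R C) (heps h t)) (hz t)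
        rwa [hIC2, Ideal.mem_bot] at this
      have e2 : α (h : B) = ∑ t, algebraMap R C (eps h t) * α (bb h t) := by
        conv_lhs => rw [hsum h]
        rw [map_sum]
        refine Finset.sum_congr rfl fun t _ => ?_
        rw [map_mul, AlgHom.commutes]
      have e3 : ∀ t : Fin (l h).length, algebraMap R C (eps h t) * α (bb h t) =
          ∑ j, algebraMap R C (eps h t * a h t j) * Yt j := by
        intro t
        have := hkill t
        rw [mul_sub, sub_eq_zero] at this
        rw [this, Finset.mul_sum]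
        refine Finset.sum_congr rfl fun j _ => ?_
        rw [map_mul]
        ring
      rw [e2, Finset.sum_congr rfl (fun t _ => e3 t), Finset.sum_comm]
      refine Finset.sum_eq_zero fun j _ => ?_
      rw [← Finset.sum_mul, ← map_sum, hy2 h j, map_zero, zero_mul]
    intro x hx
    have hle : J ≤ RingHom.ker α := by
      rw [← hS]
      refine Ideal.span_le.mpr ?_
      intro s hs
      exact hgen ⟨s, hs⟩
    exact hle hx
  · intro b
    have := hcompat (ι₁ b) (α b) (hα b)
    rwa [hκι₁] at this

end Groth.Agent.S6821
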