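import Groth.Statements.S5969
import Groth.Agent.Lib.T2H2NbhdSymm

set_option linter.style.haveILetI false
-- import your own Groth.Agent.* helpers here

set_option autoImplicit false
universe u
open CategoryTheory CategoryTheory.Limits AlgebraicGeometry TopologicalSpace Opposite
open Nrm16

namespace Groth.Agent.S5969

/-- Let f : X ⟶ S be a morphism of schemes and n a natural number. On the order-n infinitesimal
thickening of the diagonal of f there is an endomorphism σ which is compatible, under the immersion
into X ×_S X, with the symmetry exchanging the two factors; σ is an involution, it exchanges the two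
projections to X (so it exchanges the two O_X-algebra structures of P^n_{X/S}) and it fixes the
diagonal section. -/
theorem result {X S : Scheme.{u}} (f : X ⟶ S) (n : ℕ) :
    ∃ σ : PrinPart.nbhd f n ⟶ PrinPart.nbhd f n,
      σ ≫ PrinPart.nbhdι f n = PrinPart.nbhdι f n ≫ (pullbackSymmetry f f).hom ∧
      σ ≫ σ = 𝟙 (PrinPart.nbhd f n) ∧
      σ ≫ PrinPart.pr1 f n = PrinPart.pr2 f n ∧ σ ≫ PrinPart.pr2 f n = PrinPart.pr1 f n ∧
      PrinPart.toNbhd f n ≫ σ = PrinPart.toNbhd f n := by
  have hs : (pullbackSymmetry f f).hom ≫ (pullbackSymmetry f f).hom = 𝟙 (pullback f f) := by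
    apply pullback.hom_ext <;> simp
  have hΔ : pullback.diagonal f ≫ (pullbackSymmetry f f).hom = pullback.diagonal f := by
    apply pullback.hom_ext <;> simp
  obtain ⟨sO, hsO⟩ := Groth.Agent.Lib.T2H2.NbhdSymm.exists_restrict_coborder
    (pullback.diagonal f) (pullbackSymmetry f f).hom hs hΔ
  have hj : PrinPart.diagCl f ≫ sO = PrinPart.diagCl f := by
    rw [← cancel_mono (pullback.diagonal f).coborderRange.ι, Category.assoc, hsO,
      Scheme.Hom.liftCoborder_ι_assoc, hΔ, Scheme.Hom.liftCoborder_ι]
  obtain ⟨σ, hσ⟩ := Groth.Agent.Lib.T2H2.NbhdSymm.exists_infNbhd_map (PrinPart.diagCl f) sO hj n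
  have hσι : σ ≫ PrinPart.nbhdι f n = PrinPart.nbhdι f n ≫ (pullbackSymmetry f f).hom := by
    unfold PrinPart.nbhdι
    rw [← Category.assoc, hσ, Category.assoc, hsO, Category.assoc]
  haveI : IsClosedImmersion (PrinPart.infNbhdι (PrinPart.diagCl f) n) := by
    unfold PrinPart.infNbhdι; infer_instance
  haveI : Mono (PrinPart.nbhdι f n) := by
    unfold PrinPart.nbhdι; infer_instance
  refine ⟨σ, hσι, ?_, ?_, ?_, ?_⟩
  · rw [← cancel_mono (PrinPart.nbhdι f n), Category.assoc, hσι, ← Category.assoc, hσι,
      Category.assoc, hs, Category.comp_id, Category.id_comp]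
  · unfold PrinPart.pr1 PrinPart.pr2
    rw [← Category.assoc, hσι, Category.assoc, pullbackSymmetry_hom_comp_fst]
  · unfold PrinPart.pr1 PrinPart.pr2
    rw [← Category.assoc, hσι, Category.assoc, pullbackSymmetry_hom_comp_snd]
  · rw [← cancel_mono (PrinPart.nbhdι f n), Category.assoc, hσι, PrinPart.toNbhd_ι_assoc, hΔ,
      PrinPart.toNbhd_ι]

end Groth.Agent.S5969
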