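import Groth.Statements.S17759
import Groth.Agent.S7692
import Groth.Agent.Lib.T2H4CoassTop3

set_option autoImplicit false
universe u
open LocCoh

namespace Groth.Agent.S17759

/-- Let R be a complete Noetherian local ring with maximal ideal m, E an injective hull of its residue
field, I an ideal of R and M a finitely generated R-module whose support has dimension n. Then the
set of associated primes of the Matlis dual Hom_R(H^n_I(M), E) of the top local cohomology module
(the coassociated primes of H^n_I(M)) is the set of prime ideals p of R containing the annihilator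
of M such that R ⧸ p has dimension n and the radical of I + p is m. -/
theorem result (R : Type u) [CommRing R] [IsNoetherianRing R] [IsLocalRing R] [IsAdicComplete (IsLocalRing.maximalIdeal R) R] (E : Type u) [AddCommGroup E] [Module R E] (f : IsLocalRing.ResidueField R →ₗ[R] E) (hf : InjHull.IsInjectiveHull f) (I : Ideal R) (M : Type u) [AddCommGroup M] [Module R M] [Module.Finite R M] (n : ℕ) (hn : Module.supportDim R M = n) : associatedPrimes R (LocCoh.H I n M →ₗ[R] E) = {p : Ideal R | p.IsPrime ∧ Module.annihilator R M ≤ p ∧ ringKrullDim (R ⧸ p) = n ∧ (I ⊔ p).radical = IsLocalRing.maximalIdeal R} := by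
  
  classical
  have hdim : Module.supportDim R M < ((n + 1 : ℕ) : WithBot ℕ∞) := by
    rw [hn]
    exact_mod_cast Nat.lt_succ_self n
  have hfwd : ∀ q : Ideal R, IsAssociatedPrime q (LocCoh.H I n M →ₗ[R] E) →
      q.IsPrime ∧ Module.annihilator R M ≤ q ∧ ringKrullDim (R ⧸ q) = n ∧
        (I ⊔ q).radical = IsLocalRing.maximalIdeal R := by
    intro q hq
    rw [isAssociatedPrime_iff] at hq
    obtain ⟨hqp, φ, hφq⟩ := hq
    have hφ0 : φ ≠ 0 := by
      rintro rfl
      apply hqp.ne_top
      rw [hφq, Ideal.eq_top_iff_one, Submodule.mem_colon_singleton, Submodule.mem_bot, smul_zero]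
    have hqφ : ∀ a ∈ q, a • φ = 0 := by
      intro a ha
      rw [hφq, Submodule.mem_colon_singleton, Submodule.mem_bot] at ha
      exact ha
    have hqM : Module.annihilator R M ≤ q := by
      intro a ha
      rw [hφq, Submodule.mem_colon_singleton, Submodule.mem_bot]
      apply LinearMap.ext
      intro y
      rw [LinearMap.smul_apply, LinearMap.zero_apply, ← map_smul]
      have h0 : a • y = 0 := by
        apply Groth.Agent.Lib.Helper8.LC.smul_H_eq_zero_of_smul_eq_zero
        intro m
        exact Module.mem_annihilator.mp ha m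
      rw [h0, map_zero]
    have hnt := Groth.Agent.Lib.T2H4.CoassTop.nontrivial_H_quot_of_dual I n hdim q φ hφ0 hqφ
    haveI := hqp
    exact ⟨hqp, hqM, Groth.Agent.Lib.T2H4.CoassTop.dim_eq_of_nontrivial_H_quot I n hn q hqM hnt,
      Groth.Agent.Lib.T2H4.CoassTop.radical_eq_of_nontrivial_H_quot I n hn q hqM hnt⟩
  ext q
  constructor
  · exact hfwd q
  · rintro ⟨hqp, hqM, hdimq, hrad⟩
    haveI := hqp
    have hnt := Groth.Agent.Lib.T2H4.CoassTop.nontrivial_H_quot_of_radical_eq I n hn q hqM hdimq hrad
    obtain ⟨φ, hφ0, hqφ⟩ :=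
      Groth.Agent.Lib.T2H4.CoassTop.exists_dual_of_nontrivial_H_quot f hf I n hdim q hnt
    obtain ⟨q', hq', hle⟩ := exists_le_isAssociatedPrime_of_isNoetherianRing R φ hφ0
    have hqq' : q ≤ q' := by
      intro a ha
      apply hle
      rw [Submodule.mem_colon_singleton, Submodule.mem_bot]
      exact hqφ a ha
    obtain ⟨hq'p, -, hdimq', -⟩ := hfwd q' hq'
    haveI := hq'p
    have heq : q = q' := by
      by_contra hne
      have hlt : q < q' := lt_of_le_of_ne hqq' hne
      have h1 := Groth.Agent.S7692.dim_quot_succ_le hlt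
      rw [hdimq, hdimq'] at h1
      have h2 : ((n : ℕ) : WithBot ℕ∞) + 1 = ((n + 1 : ℕ) : WithBot ℕ∞) := by push_cast; rfl
      rw [h2] at h1
      have h3 : (n + 1 : ℕ) ≤ n := by exact_mod_cast h1
      omega
    rw [heq]
    exact hq'

end Groth.Agent.S17759
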