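import Groth.Statements.S4471
import Mathlib
import Groth.Agent.Lib.T2H5PnOverC
import Groth.Agent.Lib.T2H5PushSingle
-- import your own Groth.Agent.* helpers here

set_option autoImplicit false
universe u
open Coherent

namespace Groth.Agent.S4471

open AlgebraicGeometry CategoryTheory in
/-- The case of the trivial bundle of rank r+1, i.e. projective r-space over Y; vanishing assertion. Let
Y be a scheme, r ≥ 0, f : P^r_Y → Y the structure morphism and d an integer. Then R^i f_* O(d) = 0
(higher direct image of the underlying abelian sheaf of the twisting sheaf) except possibly when i =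
0 and d ≥ 0, or i = r and d ≤ -(r+1). -/
theorem result (Y : Scheme.{u}) (r : ℕ) (i : ℕ) (d : ℤ)
    (h : ¬ ((i = 0 ∧ 0 ≤ d) ∨ (i = r ∧ d ≤ -((r : ℤ) + 1)))) :
    Limits.IsZero ((Coh.RpushAb (CohB1.ProjSpaceOver.toBase r Y) i).obj (Coh.toAb (Twist.twistOver r Y d))) := by
  obtain ⟨h₀, hn⟩ := not_or.mp h
  have key : ∀ V ∈ (Y.affineOpens : Set Y.Opens),
      Subsingleton (Groth.Agent.Lib.Helper23.AffVanish.HE
        (Groth.Agent.Lib.Helper23.AffVanish.ab' (Twist.twistOver r Y d)) i
        ((TopologicalSpace.Opens.map (CohB1.ProjSpaceOver.toBase r Y).base).obj V)) := fun V hV =>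
    Groth.Agent.Lib.T2H5.PnOver.subsingleton_HE_twistOver Y r hV d i h₀ hn
  cases i with
  | zero =>
    exact Groth.Agent.Lib.T2H5.PushSingle.isZero_Rpush_zero_of_basis
      (CohB1.ProjSpaceOver.toBase r Y).base Y.affineOpens Y.isBasis_affineOpens _ key
  | succ n =>
    exact Groth.Agent.Lib.T2H5.PushSingle.isZero_Rpush_succ_of_basis
      (CohB1.ProjSpaceOver.toBase r Y).base Y.affineOpens Y.isBasis_affineOpens _ n key

end Groth.Agent.S4471
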