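import Groth.Statements.S1152
import Mathlib
import Groth.Agent.Lib.T2H5AmpleDescB
-- import your own Groth.Agent.* helpers here

set_option autoImplicit false
open CategoryTheory CategoryTheory.Limits AlgebraicGeometry Opposite
universe u
open Desc

namespace Groth.Agent.S1152
open Groth.Agent.Lib.T2H5.AmpleDesc Groth.Agent.Lib.Helper23.AmpleIso Groth.Agent.Lib.Helper23.PB

/-- ampleness of a pullback only depends on the morphism up to an isomorphism of the source -/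
theorem isAmple_pullback_of_iso_source {C D Z : Scheme.{u}} (a : C ⟶ Z) (b : D ⟶ Z) (j : C ≅ D)
    (hj : j.hom ≫ b = a) (L : Z.Modules) (h : CohB1.IsAmple ((Scheme.Modules.pullback b).obj L)) :
    CohB1.IsAmple ((Scheme.Modules.pullback a).obj L) := by
  have h1 : CohB1.IsAmple ((Scheme.Modules.pullback j.hom).obj ((Scheme.Modules.pullback b).obj L)) :=
    isAmple_pullback_of_isAffineHom j.hom _ h
  refine isAmple_of_iso ?_ h1
  exact (Scheme.Modules.pullbackComp j.hom b).app L ≪≫ (Scheme.Modules.pullbackCongr hj).app L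

/-- transport of ampleness between the two descriptions of the preimage of an open of `g⁻¹ V` -/
theorem isAmple_restrict_transport {X X' S' : Scheme.{u}} (p : X' ⟶ X) (q : X' ⟶ S') (L : X.Modules)
    (UX : X.Opens) (UT : S'.Opens) (e : q ⁻¹ᵁ UT ≤ p ⁻¹ᵁ UX) (V'' : (UT : Scheme.{u}).Opens)
    (hD : CohB1.IsAmple (((Scheme.Modules.pullback p).obj L).restrict (q ⁻¹ᵁ (UT.ι ''ᵁ V'')).ι)) :
    CohB1.IsAmple (((Scheme.Modules.pullback (p.resLE UX (q ⁻¹ᵁ UT) e)).obj (L.restrict UX.ι)).restrict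
      ((q ∣_ UT) ⁻¹ᵁ V'').ι) := by
  let C : ((q ⁻¹ᵁ UT : X'.Opens) : Scheme.{u}).Opens := (q ∣_ UT) ⁻¹ᵁ V''
  let D : X'.Opens := q ⁻¹ᵁ (UT.ι ''ᵁ V'')
  have himg : (q ⁻¹ᵁ UT).ι ''ᵁ C = D := image_morphismRestrict_preimage q UT V''
  have hr : Set.range (C.ι ≫ (q ⁻¹ᵁ UT).ι) = Set.range D.ι := by
    rw [Scheme.Opens.range_ι, ← himg]
    ext x
    constructor
    · rintro ⟨y, rfl⟩
      exact ⟨y.1, y.2, rfl⟩
    · rintro ⟨y, hy, rfl⟩
      exact ⟨⟨y, hy⟩, rfl⟩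
  let j : (C : Scheme.{u}) ≅ (D : Scheme.{u}) := IsOpenImmersion.isoOfRangeEq (C.ι ≫ (q ⁻¹ᵁ UT).ι) D.ι hr
  have hj : j.hom ≫ D.ι = C.ι ≫ (q ⁻¹ᵁ UT).ι := IsOpenImmersion.isoOfRangeEq_hom_fac _ _ hr
  -- both modules are pullbacks of `L`
  have hb : CohB1.IsAmple ((Scheme.Modules.pullback (D.ι ≫ p)).obj L) :=
    isAmple_of_iso (restrictPullbackIso p L D) hD
  have ha : CohB1.IsAmple ((Scheme.Modules.pullback ((C.ι ≫ p.resLE UX (q ⁻¹ᵁ UT) e) ≫ UX.ι)).obj L) := by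
    refine isAmple_pullback_of_iso_source _ (D.ι ≫ p) j ?_ L hb
    rw [← Category.assoc, hj, Category.assoc, Category.assoc, Scheme.Hom.resLE_comp_ι]
  refine isAmple_of_iso ?_ ha
  exact ((Scheme.Modules.pullbackComp (C.ι ≫ p.resLE UX (q ⁻¹ᵁ UT) e) UX.ι).app L).symm ≪≫
    ((Scheme.Modules.pullback (C.ι ≫ p.resLE UX (q ⁻¹ᵁ UT) e)).mapIso
      ((Scheme.Modules.restrictFunctorIsoPullback UX.ι).app L)).symm ≪≫
    (restrictPullbackIso (p.resLE UX (q ⁻¹ᵁ UT) e) (L.restrict UX.ι) C).symm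

/-- Single quasi-compact flat surjective cover; the converse direction is base change: Let f : X ⟶ S be
a morphism, L an invertible O_X-module, g : S' ⟶ S quasi-compact, flat and surjective, X' = X ×_S S'
with projections to X and S', and L' the pullback of L to X'. If L' is ample on X' relative to S',
then L is ample on X relative to S. -/
theorem result {X S S' : Scheme.{u}} (f : X ⟶ S) (L : X.Modules) (hL : PicF.IsInvertible L)
    (g : S' ⟶ S) [QuasiCompact g] [Flat g] [Surjective g]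
    (h : RelAmple.IsRelAmple (pullback.snd f g) ((Scheme.Modules.pullback (pullback.fst f g)).obj L)) :
    RelAmple.IsRelAmple f L := by
  classical
  let p : pullback f g ⟶ X := pullback.fst f g
  let q : pullback f g ⟶ S' := pullback.snd f g
  have hpb : IsPullback p q f g := IsPullback.of_hasPullback f g
  have hcov : (@Surjective ⊓ @Flat ⊓ @QuasiCompact : MorphismProperty Scheme.{u}) g :=
    ⟨⟨inferInstance, inferInstance⟩, inferInstance⟩
  haveI hqq : QuasiCompact q := h.1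
  haveI hfqc : QuasiCompact f :=
    (Groth.Agent.Lib.Helper12.descendsAlong_quasiCompact).of_isPullback hpb.flip hcov hqq
  refine ⟨hfqc, fun V => ?_⟩
  haveI : IsAffine (V.1 : Scheme.{u}) := V.2
  have hUY : q ⁻¹ᵁ (g ⁻¹ᵁ V.1) = p ⁻¹ᵁ (f ⁻¹ᵁ V.1) ⊓ q ⁻¹ᵁ (g ⁻¹ᵁ V.1) := by
    have e : p ⁻¹ᵁ (f ⁻¹ᵁ V.1) = q ⁻¹ᵁ (g ⁻¹ᵁ V.1) := by
      rw [← Scheme.Hom.comp_preimage, ← Scheme.Hom.comp_preimage, hpb.w]
    rw [e, inf_idem]
  have HV := Scheme.Hom.isPullback_resLE hpb (US := V.1) (UT := g ⁻¹ᵁ V.1) (UX := f ⁻¹ᵁ V.1) le_rfl le_rfl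
    (UY := q ⁻¹ᵁ (g ⁻¹ᵁ V.1)) hUY
  rw [Scheme.Hom.resLE_eq_morphismRestrict, Scheme.Hom.resLE_eq_morphismRestrict,
    Scheme.Hom.resLE_eq_morphismRestrict] at HV
  haveI : QuasiCompact (f ∣_ V.1) := IsZariskiLocalAtTarget.restrict hfqc _
  haveI : QuasiCompact (g ∣_ V.1) := IsZariskiLocalAtTarget.restrict (P := @QuasiCompact) inferInstance _
  haveI : Flat (g ∣_ V.1) := IsZariskiLocalAtTarget.restrict (P := @Flat) inferInstance _
  haveI : Surjective (g ∣_ V.1) := IsZariskiLocalAtTarget.restrict (P := @Surjective) inferInstance _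
  refine isAmple_of_isRelAmple_isPullback HV (L.restrict (f ⁻¹ᵁ V.1).ι)
    (Groth.Agent.Lib.Helper23.SecTw.isInvertible_restrict L hL _) (fun V'' hV'' => ?_)
  have hD := h.2 ⟨(g ⁻¹ᵁ V.1).ι ''ᵁ V'', hV''.image_of_isOpenImmersion _⟩
  exact isAmple_restrict_transport p q L (f ⁻¹ᵁ V.1) (g ⁻¹ᵁ V.1) _ V'' hD

end Groth.Agent.S1152
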