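import Groth.Statements.S1627
import Mathlib
import Groth.Agent.Lib.T2H6AmpCurveI

set_option autoImplicit false
universe u
open CategoryTheory CategoryTheory.Limits AlgebraicGeometry
open Variety

namespace Groth.Agent.S1627

/-- A curve X over k (integral, separated, of finite type, of dimension one) is either affine or
H-projective, i.e. admits a closed immersion into some P^d_k over k. -/
theorem result (k : Type u) [Field k] (X : Scheme.{u}) [X.Over (Spec (CommRingCat.of k))] [IsIntegral X] [IsSeparated (X ↘ (Spec (CommRingCat.of k)))] [LocallyOfFiniteType (X ↘ (Spec (CommRingCat.of k)))] [QuasiCompact (X ↘ (Spec (CommRingCat.of k)))] (hdim : topologicalKrullDim X = 1) :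
    IsAffine X ∨ ∃ (d : ℕ) (c : X ⟶ CohB1.ProjSpace d k), IsClosedImmersion c ∧ c ≫ CohB1.ProjSpace.toSpec d k = X ↘ (Spec (CommRingCat.of k)) := by
  classical
  obtain ⟨d, Y, c, j, hc, hj, hjc, hdense, hstd, hfin, hcl, hdimY, hY⟩ :=
    Groth.Agent.Lib.T2H6.AmpCurve.exists_projective_completion k X hdim.le
  haveI := hc
  haveI := hj
  haveI := hstd
  haveI := hY
  by_cases hsurj : j.opensRange = ⊤
  · right
    haveI : IsIso j := isIso_of_isOpenImmersion_of_opensRange_eq_top j hsurj
    exact ⟨d, j ≫ c, inferInstance, by rw [Category.assoc]; exact hjc⟩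
  · left
    letI : Y.Over (Spec (CommRingCat.of k)) := ⟨c ≫ CohB1.ProjSpace.toSpec d k⟩
    haveI hprop : IsProper (CohB1.ProjSpace.toSpec d k) := Groth.Agent.S9705.isProper_projSpace_toSpec d k
    haveI : IsProper (Y ↘ Spec (CommRingCat.of k)) :=
      inferInstanceAs (IsProper (c ≫ CohB1.ProjSpace.toSpec d k))
    haveI : IsReduced Y := IsSchemeTheoreticallyDominant.isReduced j
    haveI : IrreducibleSpace Y := by
      have h1 : IsIrreducible (Set.range j.base) := by
        have := (IrreducibleSpace.isIrreducible_univ X).image j.base j.continuous.continuousOn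
        rwa [Set.image_univ] at this
      have h2 := h1.closure
      rw [hdense.closure_eq] at h2
      exact (irreducibleSpace_def Y).2 h2
    haveI : IsIntegral Y := isIntegral_of_irreducibleSpace_of_isReduced Y
    have hdimY1 : topologicalKrullDim Y = 1 :=
      le_antisymm hdimY (hdim ▸ j.isOpenEmbedding.isInducing.topologicalKrullDim_le)
    have hU : IsAffineOpen j.opensRange :=
      Groth.Agent.Lib.T2H6.AmpCurve.isAffineOpen_of_ne_top k hdimY1 j.opensRange
        ⟨j (Classical.arbitrary X), ⟨_, rfl⟩⟩ (by
          by_contra h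
          push Not at h
          exact hsurj (eq_top_iff.2 (fun y _ => h y)))
    haveI : IsAffine (↑j.opensRange : Scheme.{u}) := hU
    exact IsAffine.of_isIso j.isoOpensRange.hom

end Groth.Agent.S1627
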