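import Groth.Statements.S12986
import Mathlib
import Groth.Agent.Lib.Helper15DiagBase
import Groth.Agent.Lib.Helper15DiagLft
import Groth.Agent.Lib.Helper15Atlas
import Groth.Agent.Lib.Helper15FpSwap
import Groth.Agent.Lib.Helper15QcRep
import Groth.Agent.Lib.Helper15UnivComp
import Groth.Agent.S12982

set_option autoImplicit false
universe u
open CategoryTheory AlgebraicGeometry
open AlgSt

namespace Groth.Agent.S12986

/-- If the composite of f : 𝒳 → 𝒴 and g : 𝒴 → 𝒵 (morphisms of algebraic stacks) is quasi-compact and g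
is quasi-separated, then f is quasi-compact. -/
theorem result
    (S : Scheme.{u}) (𝒳 : AlgSt.Cat S) (𝒴 : AlgSt.Cat S) (𝒵 : AlgSt.Cat S)
    (h𝒳 : AlgSt.IsAlgStack Scheme.fppfPrecoverage 𝒳)
    (h𝒴 : AlgSt.IsAlgStack Scheme.fppfPrecoverage 𝒴)
    (h𝒵 : AlgSt.IsAlgStack Scheme.fppfPrecoverage 𝒵)
    (f : 𝒳 ⥤ᵇ 𝒴) (g : 𝒴 ⥤ᵇ 𝒵) :
    AlgSt.IsQuasiCompactMor Scheme.fppfPrecoverage (BasedFunctor.comp f g) → AlgSt.IsQuasiSeparatedMor g → AlgSt.IsQuasiCompactMor Scheme.fppfPrecoverage f := by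
  intro hfg hg
  let a : 𝒳 ⥤ᵇ 𝒵 := BasedFunctor.comp f g
  let e' : BasedFunctor.comp (BasedFunctor.id 𝒳) a ≅ BasedFunctor.comp f g := Iso.refl _
  -- the graph is quasi-compact
  have hΓ : AlgSt.RepByAlgSpWith AlgSp.IsQuasiCompactMor
      (FibCat.fpLift (F := a) (G := g) (BasedFunctor.id 𝒳) f e') :=
    Groth.Agent.Lib.Helper15DiagLft.repByAlgSpWith_mono (fun _ _ _ hk => hk.1) _
      (Groth.Agent.Lib.Helper15DiagBase.repByAlgSpWith_graph _ a g f e' hg)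
  have hfpa : AlgSt.IsAlgStack Scheme.fppfPrecoverage (FibCat.fp g a) :=
    Groth.Agent.Lib.Helper15Atlas.isAlgStack_fp_of_isPrestack
      (Groth.Agent.Lib.Helper17.IsStack.isPrestack _ h𝒵.isStack) h𝒵.diag h𝒴 h𝒳 g a
  let Γ' : 𝒳 ⥤ᵇ FibCat.fp g a :=
    BasedFunctor.comp (FibCat.fpLift (F := a) (G := g) (BasedFunctor.id 𝒳) f e')
      (Groth.Agent.Lib.Helper15FpSwap.fpSwap a g)
  have hΓ' : AlgSt.RepByAlgSpWith AlgSp.IsQuasiCompactMor Γ' :=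
    (Groth.Agent.Lib.Helper17.repByAlgSpWith_of_square _ Γ'
      (FibCat.fpLift (F := a) (G := g) (BasedFunctor.id 𝒳) f e') (BasedFunctor.id _)
      (Groth.Agent.Lib.Helper15FpSwap.fpSwap a g) (Groth.Agent.Lib.Helper17.isEquivOver_id _)
      (Groth.Agent.Lib.Helper15FpSwap.isEquivOver_fpSwap a g) (Iso.refl _)).2 hΓ
  have h1 : AlgSt.IsQuasiCompactMor Scheme.fppfPrecoverage Γ' :=
    Groth.Agent.Lib.Helper15QcRep.isQuasiCompactMor_of_rep h𝒳 hfpa Γ' hΓ'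
  have h2 : AlgSt.IsQuasiCompactMor Scheme.fppfPrecoverage (FibCat.fpFst g a) :=
    Groth.Agent.S12982.result S 𝒳 𝒵 𝒴 h𝒳 h𝒵 h𝒴 a g hfg
  exact Groth.Agent.Lib.Helper15UnivComp.isQuasiCompactMor_comp hfpa h𝒴 Γ' (FibCat.fpFst g a) h1 h2

end Groth.Agent.S12986
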