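import Groth.Statements.S16280
import Mathlib
import Groth.Agent.Lib.T2H5SSSerre
import Groth.Agent.Lib.Helper21GSS
import Groth.Agent.Lib.T2H5RpushCoh
import Groth.Agent.Lib.T2H5GenIsoB
import Groth.Agent.Lib.T2H5Filt
import Groth.Agent.Lib.Helper21DerPost
import Groth.Agent.Lib.Helper21RelExtSS
import Groth.Agent.Lib.T2H4ExtShCoh
import Groth.Agent.S6150
import Groth.Agent.S9705

set_option autoImplicit false
set_option backward.isDefEq.respectTransparency.types false
set_option linter.style.haveILetI false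
universe u
open CategoryTheory CategoryTheory.Limits AlgebraicGeometry
open Coherent

namespace Groth.Agent.S16280

/-- Let Y be a Noetherian scheme, f : X → Y a morphism admitting a factorisation through a closed
immersion e : X → P^n_Y followed by the projection (a projective morphism), and F, G coherent
O_X-modules. Then for every p ≥ 0 the relative Ext sheaf Ext^p_f(F, G) — the value at G of the p-th
right derived functor of the left exact functor G ↦ f_* Hom_{O_X}(F, G) from O_X-modules to
O_Y-modules — is a coherent O_Y-module. (The internal Hom functor of F, injective resolutions of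
O_X-modules and additivity of the composite functor are the stated instance hypotheses, all true.) -/
theorem result (X Y : Scheme.{u}) [IsNoetherian Y] (f : X ⟶ Y)
    (n : ℕ) (e : X ⟶ CohB1.ProjSpaceOver n Y) [IsClosedImmersion e] (he : e ≫ CohB1.ProjSpaceOver.toBase n Y = f)
    (F G : X.Modules) (hF : Coh.IsCoh F) (hG : Coh.IsCoh G)
    [ModSite.HasSheafHom (O := X.sheaf) F] [HasInjectiveResolutions (ModSite.Mod X.sheaf)]
    [(ModSite.sheafHom (O := X.sheaf) F ⋙ Scheme.Modules.pushforward f).Additive] (p : ℕ) :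
    Coh.IsCoh (((ModSite.sheafHom (O := X.sheaf) F ⋙ Scheme.Modules.pushforward f).rightDerived p).obj G) := by
  classical
  haveI hIX : HasInjectiveResolutions X.Modules := ‹HasInjectiveResolutions (ModSite.Mod X.sheaf)›
  haveI : IsLocallyNoetherian Y := inferInstance
  haveI : IsProper (CohB1.ProjSpaceOver.toBase n Y) := Groth.Agent.S9705.isProper_toBase n Y
  haveI : IsProper f := by rw [← he]; infer_instance
  haveI hXN : IsLocallyNoetherian X := LocallyOfFiniteType.isLocallyNoetherian f
  let T : X.Modules ⥤ X.Modules := ModSite.sheafHom (O := X.sheaf) F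
  haveI hTa : T.Additive := ModSite.sheafHom_additive X.sheaf F
  let S : X.Modules ⥤ Y.Modules := Scheme.Modules.pushforward f
  haveI hSa : S.Additive :=
    (Scheme.Modules.pullbackPushforwardAdjunction f).right_adjoint_additive
  have hlim0 : Limits.PreservesLimitsOfSize.{0, 0} S :=
    (Scheme.Modules.pullbackPushforwardAdjunction f).rightAdjoint_preservesLimits
  haveI hlim : Limits.PreservesFiniteLimits S := Limits.PreservesLimitsOfSize.preservesFiniteLimits _
  have hT : ∀ Q : X.Modules, Injective Q → ∀ q : ℕ, 0 < q →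
      Limits.IsZero ((S.rightDerived q).obj (T.obj Q)) := by
    intro Q hQ q hq
    obtain ⟨q, rfl⟩ : ∃ k, q = k + 1 := ⟨q - 1, by omega⟩
    have h1 : CohCx.IsTotallyAcyclic
        (ModSite.toAb ((ModSite.sheafHom (O := X.sheaf) F).obj Q)) :=
      @Groth.Agent.S6150.result _ _ _ X.sheaf F Q _ hQ
    have h2 := Groth.Agent.Lib.Helper21.RelExtSS.isFlasque_of_isTotallyAcyclic _ h1
    exact Groth.Agent.Lib.Helper21.RelExtSS.isZero_Rpush_of_isFlasque f _ h2 q
  let Z0 : Y.Modules := Limits.kernel (𝟙 (Coh.structureModule Y))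
  have hZ0 : Limits.IsZero Z0 := Limits.isZero_kernel_of_mono _
  let H : ℤ → Y.Modules := fun m =>
    match m with
    | Int.ofNat k => ((T ⋙ S).rightDerived k).obj G
    | Int.negSucc _ => Z0
  let E2 : ℤ → ℤ → Y.Modules := fun p q =>
    match p, q with
    | Int.ofNat a, Int.ofNat b => (S.rightDerived a).obj ((T.rightDerived b).obj G)
    | Int.ofNat _, Int.negSucc _ => Z0
    | Int.negSucc _, _ => Z0
  have hH : ∀ m : ℕ, Nonempty (((T ⋙ S).rightDerived m).obj G ≅ H m) := fun m => ⟨Iso.refl _⟩
  have hH' : ∀ m : ℤ, m < 0 → Limits.IsZero (H m) := by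
    intro m hm
    cases m with
    | ofNat k => exact absurd hm (by simp)
    | negSucc k => exact hZ0
  have hE2 : ∀ p q : ℕ, Nonempty ((S.rightDerived p).obj ((T.rightDerived q).obj G) ≅ E2 p q) :=
    fun p q => ⟨Iso.refl _⟩
  have hE2' : ∀ p q : ℤ, ¬ (0 ≤ p ∧ 0 ≤ q) → Limits.IsZero (E2 p q) := by
    intro p q hpq
    cases p with
    | ofNat a =>
      cases q with
      | ofNat b => exact absurd ⟨by simp, by simp⟩ hpq
      | negSucc b => exact hZ0
    | negSucc a => exact hZ0
  obtain ⟨E, a, hfin, -, hpq⟩ := Groth.Agent.Lib.Helper21.GSS.gss_general T S hT G H hH hH' E2 hE2 hE2'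
  have hSerre : Groth.Agent.Lib.T2H5.SSSerre.IsWeakSerreClass (C := Y.Modules) Coh.IsCoh :=
    { iso := fun e h => Groth.Agent.Lib.T2H5.Devissage.isCoh_of_iso e h
      kernel := fun φ h1 h2 => Groth.Agent.Lib.T2H5.GenIsoB.isCoh_kernel φ h1 h2
      cokernel := fun φ h1 h2 => Groth.Agent.Lib.T2H5.GenIsoB.isCoh_cokernel φ h1 h2
      ext := fun T hT h1 h3 => Groth.Agent.Lib.T2H5.GenIsoA.isCoh_of_shortExact T hT h1 h3
      zero := fun M hM => Groth.Agent.Lib.T2H5.FiltCat.isCoh_of_isZero hM }
  have hres : Coh.IsCoh (H (p : ℤ)) := by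
    refine Groth.Agent.Lib.T2H5.SSSerre.abutment_le hSerre E H a (p : ℤ) ?_ ?_ (p : ℤ) le_rfl (hfin _)
    · rintro ⟨a', b'⟩ hq
      obtain ⟨e'⟩ := hpq a' b'
      refine Limits.IsZero.of_iso (hE2' a' b' ?_) e'
      simp only at hq
      omega
    · rintro ⟨a', b'⟩ ha' hb' hbn
      obtain ⟨e'⟩ := hpq a' b'
      refine Groth.Agent.Lib.T2H5.Devissage.isCoh_of_iso e'.symm ?_
      simp only at ha' hb' hbn
      cases a' with
      | negSucc a'' => exact absurd ha' (by simp)
      | ofNat a'' =>
        cases b' with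
        | negSucc b'' => exact absurd hb' (by simp)
        | ofNat b'' =>
          exact Groth.Agent.Lib.T2H5.RpushCoh.isCoh_Rpush f _
            (Groth.Agent.Lib.T2H4.ExtShCoh.isCoh_extSh F G hF hG b'') a''
  exact hres

end Groth.Agent.S16280
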