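import Groth.Statements.S4085
import Groth.Agent.Lib.T2H7GrpdQuotC

set_option autoImplicit false
universe u
open CategoryTheory MonoidalCategory CartesianMonoidalCategory MonObj GrpObj AlgebraicGeometry CategoryTheory.Limits
open GrpQ

namespace Groth.Agent.S4085

/-- Let (U, R, s, t, c) be a groupoid scheme over S such that the source map s is finite locally free
and, for every point x of U, the set t(s⁻¹(x)) is contained in an affine open of U. Then there are a
scheme Y and a morphism p : U → Y with t ≫ p = s ≫ p which is a coequalizer of (t, s) in the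
category of schemes; p is integral, surjective and open, two points of U have the same image exactly
when they are the target and source of a point of R, the morphism R → U ×_Y U with components (t, s)
is surjective, and Y is affine when U is. (The source also shows that (Y, p) is a cokernel in all
ringed spaces.) -/
theorem result (S : Scheme.{u}) (G : Grpd.GroupoidScheme S)
    (ha : Mor2.IsFinLocFree G.s)
    (hb : ∀ x : G.U, ∃ V : G.U.Opens, IsAffineOpen V ∧ G.t.base '' (G.s.base ⁻¹' {x}) ⊆ (V : Set G.U)) :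
    ∃ (Y : Scheme.{u}) (p : G.U ⟶ Y) (w : G.t ≫ p = G.s ≫ p),
      Nonempty (IsColimit (Cofork.ofπ p w)) ∧ IsIntegralHom p ∧ Surjective p ∧ IsOpenMap p.base ∧
      (∀ x y : G.U, p.base x = p.base y ↔ ∃ r : G.R, G.t.base r = x ∧ G.s.base r = y) ∧
      Function.Surjective (pullback.lift G.t G.s w).base ∧ (IsAffine G.U → IsAffine Y) := by
  obtain ⟨h1, h2, h3⟩ := ha
  have hcov := Groth.Agent.Lib.T2H7.GrpdQuotB.hcov_of_orbits (G := G) hb
  refine ⟨Groth.Agent.Lib.T2H7.GrpdGlue.Y G, Groth.Agent.Lib.T2H7.GrpdGlue.q hcov,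
    (Groth.Agent.Lib.T2H7.GrpdQuot.q_coeq hcov).symm,
    Groth.Agent.Lib.T2H7.GrpdQuotB.isColimit_q' hcov,
    Groth.Agent.Lib.T2H7.GrpdQuot.isIntegralHom_q hcov,
    Groth.Agent.Lib.T2H7.GrpdQuot.surjective_q hcov,
    Groth.Agent.Lib.T2H7.GrpdQuotC.isOpenMap_q hcov, ?_,
    Groth.Agent.Lib.T2H7.GrpdQuotC.surjective_lift hcov _, ?_⟩
  · intro x y
    rw [show ((Groth.Agent.Lib.T2H7.GrpdGlue.q hcov).base x =
      (Groth.Agent.Lib.T2H7.GrpdGlue.q hcov).base y) ↔ _ from
      Groth.Agent.Lib.T2H7.GrpdQuot.q_eq_iff hcov x y]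
    constructor
    · rintro ⟨r, hr1, hr2⟩
      exact ⟨G.i r, by
        show G.t (G.i r) = x
        rw [Groth.Agent.Lib.T2H7.GrpdInv.t_i]; exact hr1, by
        show G.s (G.i r) = y
        rw [Groth.Agent.Lib.T2H7.GrpdInv.s_i]; exact hr2⟩
    · rintro ⟨r, hr1, hr2⟩
      exact ⟨G.i r, by rw [Groth.Agent.Lib.T2H7.GrpdInv.s_i]; exact hr1, by
        rw [Groth.Agent.Lib.T2H7.GrpdInv.t_i]; exact hr2⟩
  · intro hU
    exact Groth.Agent.Lib.T2H7.GrpdQuotC.isAffine_Y hcov

end Groth.Agent.S4085
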