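import Groth.Statements.S10192
import Mathlib
import Groth.Agent.Lib.Helper1ClosedSub2
import Groth.Agent.Lib.Helper10RedInd
import Groth.Agent.Lib.Helper12Reduced
import Groth.Agent.S9908
import Groth.Agent.S9906
import Groth.Agent.S10509

set_option autoImplicit false
universe u
open CategoryTheory CategoryTheory.Limits AlgebraicGeometry
open AlgSp

namespace Groth.Agent.S10192

open Groth.Agent.Lib.Helper1 Scheme.IdealSheafData

/-- For an algebraic space X over a scheme S and a closed subset T of |X| there is a reduced closed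
subspace Z of X with |Z| = T, that is, an algebraic space Z with a morphism Z ⟶ X representable by
closed immersions whose image in |X| is T and such that Z is reduced. (Only existence is asserted;
uniqueness is not part of this row.) -/
theorem result {S : Scheme.{u}} (X : AlgSp.Space S) (T : Set (AlgSp.Points X.obj))
    (hT : IsClosed T) :
    ∃ (Z : AlgSp.Space S) (i : Z ⟶ X), AlgSp.IsRedInduced T i.hom := by
  obtain ⟨U, c, hce, hcs⟩ := X.property.atlas
  obtain ⟨R, p₂, p₁', sqR⟩ := hce.1 c
  obtain ⟨p₁, rfl⟩ := (AlgSp.yon S).map_surjective p₁'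
  haveI : Etale p₂.left := hce.2 c _ p₂ sqR
  haveI : Etale p₁.left := hce.2 c _ p₁ sqR.flip
  -- the closed subset of the chart
  let TU : TopologicalSpace.Closeds U.left :=
    ⟨AlgSp.Points.ofPt c ⁻¹' T, hT.preimage (AlgSp.Points.continuous_ofPt c)⟩
  obtain ⟨I, hI⟩ : ∃ I, I = vanishingIdeal TU := ⟨_, rfl⟩
  haveI hred : IsReduced I.subscheme := by
    rw [hI]
    exact Groth.Agent.Lib.Helper10.RedInd.isReduced_subscheme_vanishingIdeal TU
  have hrange : Set.range I.subschemeι = AlgSp.Points.ofPt c ⁻¹' T := by
    rw [range_subschemeι, hI, coe_support_vanishingIdeal]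
    rfl
  have hcomap : ∀ (p : R ⟶ U) [Etale p.left], I.comap p.left =
      vanishingIdeal (.closure (p.left ⁻¹' (AlgSp.Points.ofPt c ⁻¹' T))) := by
    intro p _
    haveI : IsReduced (pullback p.left I.subschemeι) :=
      Groth.Agent.Lib.Helper12.Reduced.isReduced_of_smooth (pullback.snd p.left I.subschemeι)
    rw [Scheme.IdealSheafData.comap,
      Groth.Agent.Lib.Helper10.RedInd.ker_eq_vanishingIdeal_of_isReduced,
      Scheme.Pullback.range_fst, hrange]
  have hpre : p₁.left ⁻¹' (AlgSp.Points.ofPt c ⁻¹' T) = p₂.left ⁻¹' (AlgSp.Points.ofPt c ⁻¹' T) := by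
    ext r
    simp only [Set.mem_preimage]
    rw [← Groth.Agent.S10509.ofPt_yon_map_comp p₁ c r, ← Groth.Agent.S10509.ofPt_yon_map_comp p₂ c r,
      sqR.w]
  have hI1 : I.comap p₁.left = I.comap p₂.left := by
    rw [hcomap p₁, hcomap p₂, hpre]
  let C : Over S := Over.mk (I.subschemeι ≫ U.hom)
  let iC : C ⟶ U := Over.homMk I.subschemeι rfl
  haveI : IsClosedImmersion iC.left := inferInstanceAs (IsClosedImmersion I.subschemeι)
  haveI : Mono iC.left := inferInstance
  haveI : Mono iC := (Over.forget S).mono_of_mono_map ‹_›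
  have hkerC : iC.left.ker = I := Scheme.IdealSheafData.ker_subschemeι I
  have hinv : ClosedSub.Invariant c iC :=
    ClosedSub.invariant_of_comap_eq c iC p₁ p₂ sqR (by rw [hkerC]; exact hI1)
  have hZbar := ClosedSub.isAlgSpace_obj c iC X.property hce hcs hinv
  have hincl := ClosedSub.repWith_incl c iC X.property hce hcs hinv inferInstance
  obtain ⟨a', sqC⟩ := ClosedSub.exists_chart c iC hinv
  have hae : AlgSp.RepWith @Etale a' :=
    MorphismProperty.of_isPullback (P := AlgSp.RepWith @Etale) sqC.flip hce
  have has : AlgSp.RepWith @Surjective a' :=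
    MorphismProperty.of_isPullback (P := AlgSp.RepWith @Surjective) sqC.flip hcs
  refine ⟨⟨ClosedSub.obj c iC, hZbar⟩, ObjectProperty.homMk (ClosedSub.incl c iC), hincl, ?_,
    ⟨C, a', hae, has, hred⟩⟩
  -- the points
  have hsurj : Function.Surjective (AlgSp.Points.ofPt c) := by
    have h1 : AlgSp.Points.ofPt c = AlgSp.Points.map c ∘ AlgSp.Points.schemeHomeo U := by
      funext t
      exact AlgSp.Points.ofPt_eq_map_ofScheme c t
    rw [h1]
    exact (Groth.Agent.S9906.surjective_map_of_repWith c hcs).comp
      (AlgSp.Points.schemeHomeo U).surjective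
  apply hsurj.preimage_injective
  have h2 := Groth.Agent.S9908.preimage_ofPt_map_image sqC Set.univ
  rw [Set.image_univ, Set.preimage_univ, Set.image_univ] at h2
  show AlgSp.Points.ofPt c ⁻¹' Set.range (AlgSp.Points.map (ClosedSub.incl c iC)) = _
  rw [h2]
  exact hrange

end Groth.Agent.S10192
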