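import Groth.Statements.S10337
import Mathlib
import Groth.Agent.Lib.T2H7FinLocusB
import Groth.Agent.Lib.T2H7DecentFib
import Groth.Agent.Lib.T2H7EtFinOpen
import Groth.Agent.Lib.Helper12OpenSub2
import Groth.Agent.S10197

set_option autoImplicit false
universe u
open CategoryTheory CategoryTheory.Limits AlgebraicGeometry Topology TopologicalSpace
open AlgSp

namespace Groth.Agent.S10337

/-- For a scheme S, a decent algebraic space X over S contains a dense open subspace that is a scheme: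
there is an open subspace X' ⟶ X whose underlying sheaf is representable by a scheme and whose set
of points is dense in |X|. -/
theorem result {S : Scheme.{u}} (X : AlgSp.Space S)
    (hX : AlgSp.IsDecent X.obj) :
    ∃ (X' : AlgSp.Space S) (j : X' ⟶ X), AlgSp.RepWith @IsOpenImmersion j.hom ∧ X'.obj.obj.IsRepresentable ∧
      Dense (Set.range (AlgSp.Points.map j.hom)) := by
  classical
  obtain ⟨W, hWrep, hWmax⟩ := Groth.Agent.S10197.aux X
  refine ⟨⟨Groth.Agent.Lib.Helper12.OpenSub.obj X.obj (W : Set (AlgSp.Points X.obj)),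
      Groth.Agent.Lib.Helper12.OpenSub.isAlgSpace_obj X.property W.2⟩,
    ObjectProperty.homMk (Groth.Agent.Lib.Helper12.OpenSub.incl X.obj _),
    Groth.Agent.Lib.Helper12.OpenSub.repWith_incl W.2, hWrep, ?_⟩
  change Dense (Set.range (AlgSp.Points.map
    (Groth.Agent.Lib.Helper12.OpenSub.incl X.obj (W : Set (AlgSp.Points X.obj)))))
  rw [Groth.Agent.Lib.Helper12.OpenSub.range_map_incl, dense_iff_inter_open]
  rintro O hO ⟨x, hxO⟩
  obtain ⟨U₀, p₀, hp₀e, hp₀s⟩ := X.property.atlas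
  obtain ⟨u₀, hu₀⟩ := Groth.Agent.S10177.surjective_ofPt p₀ hp₀s x
  have hcont : Continuous (AlgSp.Points.ofPt p₀) := AlgSp.Points.continuous_ofPt p₀
  obtain ⟨_, ⟨A₀, hA, rfl⟩, hu₀A, hAO⟩ :=
    (U₀.left.isBasis_affineOpens).exists_subset_of_mem_open
      (show u₀ ∈ AlgSp.Points.ofPt p₀ ⁻¹' O by rw [Set.mem_preimage, hu₀]; exact hxO)
      (hO.preimage hcont)
  let A : U₀.left.Opens := A₀
  let U : Over S := Over.mk (A.ι ≫ U₀.hom)
  let ιA : U ⟶ U₀ := Over.homMk A.ι rfl
  let p : (AlgSp.yon S).obj U ⟶ X.obj := (AlgSp.yon S).map ιA ≫ p₀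
  have het : AlgSp.RepWith @Etale p :=
    (AlgSp.RepWith @Etale).comp_mem _ _
      ((AlgSp.repWith_yon_map_iff @Etale ιA).2 (inferInstanceAs (Etale A.ι))) hp₀e
  have hUaff : IsAffine U.left := hA
  have hUne : Nonempty ↥U.left := ⟨⟨u₀, hu₀A⟩⟩
  obtain ⟨R, s, t', sq⟩ := het.1 p
  obtain ⟨t, rfl⟩ := (AlgSp.yon S).map_surjective t'
  have hset : Etale s.left := het.2 p _ s sq
  have hsep : IsSeparated s.left := by
    have hc : t.left ≫ U.hom = s.left ≫ U.hom := (Over.w t).trans (Over.w s).symm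
    let m : R.left ⟶ pullback U.hom U.hom := pullback.lift t.left s.left hc
    have hm1 : m ≫ pullback.fst U.hom U.hom = t.left := pullback.lift_fst _ _ _
    have hm2 : m ≫ pullback.snd U.hom U.hom = s.left := pullback.lift_snd _ _ _
    have : Mono m := ⟨fun α β h =>
      Groth.Agent.Lib.T2H7.KerPairGrpd.hom_ext_left sq α β
        (by rw [← hm1, ← Category.assoc, h, Category.assoc])
        (by rw [← hm2, ← Category.assoc, h, Category.assoc])⟩
    rw [← hm2]
    infer_instance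
  have hfin : ∀ u : ↥U.left, (s.left ⁻¹' {u}).Finite :=
    Groth.Agent.Lib.T2H7.DecentFib.finite_fibre_of_isDecent hX p het sq
  obtain ⟨V, ⟨v, hv⟩, hVfin⟩ := Groth.Agent.Lib.T2H7.EtFinOpen.exists_finite_of_affine s.left hfin
  have hrep := Groth.Agent.Lib.T2H7.FinLocusB.isRepresentable_image_of_finite p het sq V hVfin
  have hNopen : IsOpen (AlgSp.Points.ofPt p '' (V : Set ↥U.left)) :=
    Groth.Agent.S10176.isOpenMap_ofPt p het _ V.2
  have hle := hWmax ⟨_, hNopen⟩ hrep
  refine ⟨AlgSp.Points.ofPt p v, ?_, hle ⟨v, hv, rfl⟩⟩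
  have h1 : AlgSp.Points.ofPt p v = AlgSp.Points.ofPt p₀ (A.ι v) :=
    Groth.Agent.S10176.ofPt_map_comp ιA p₀ v
  rw [h1]
  apply hAO
  have h := A.range_ι
  have h2 : A.ι v ∈ Set.range A.ι := ⟨v, rfl⟩
  rw [h] at h2
  exact h2

end Groth.Agent.S10337
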