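import Groth.Statements.S10423
import Groth.Agent.Lib.T2H1FieldQuotF
import Groth.Agent.S9903
import Groth.Agent.S9874

set_option autoImplicit false
universe u
open CategoryTheory CategoryTheory.Limits AlgebraicGeometry Topology TopologicalSpace
open AlgSp

namespace Groth.Agent.S10423

/-- A morphism of algebraic spaces over a scheme S which is representable, or which is quasi-separated,
is decent (all its base changes to schemes are decent algebraic spaces). The implications through
reasonable and very reasonable morphisms are not part of this row. -/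
theorem result {S : Scheme.{u}} {X Y : AlgSp.Space S} (f : X ⟶ Y) :
    (AlgSp.Representable f.hom → AlgSp.IsDecentMor f.hom) ∧
      (AlgSp.IsQuasiSeparatedMor f.hom → AlgSp.IsDecentMor f.hom) := by
  refine ⟨fun hf T F' g fst snd sq => ?_, fun hf T F' g fst snd sq => ?_⟩
  · obtain ⟨W, a, b, sq'⟩ := hf g
    exact (Groth.Agent.Lib.T2H1.FieldQuot.isDecent_yon W).of_iso (sq'.isoIsPullback _ _ sq)
  · have hF' : AlgSp.IsAlgSpace F' :=
      Groth.Agent.S9874.isAlgSpace_of_isPullback Y.property.diag X.property
        (AlgSp.IsAlgSpace.yon_obj T) sq
    exact Groth.Agent.Lib.T2H1.FieldQuot.isDecent_of_isQuasiSeparatedMor hF' snd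
      (Groth.Agent.S9903.stable_diagonal @QuasiCompact sq hf)

end Groth.Agent.S10423
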