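import Groth.Statements.S10339
import Mathlib
import Groth.Agent.Lib.T2H7SoberQs
import Groth.Agent.S10337
import Groth.Agent.S10381
import Groth.Agent.S10423

set_option autoImplicit false
universe u
open CategoryTheory CategoryTheory.Limits AlgebraicGeometry Topology TopologicalSpace
open AlgSp

namespace Groth.Agent.S10339

/-- For a scheme S and a decent algebraic space X over S, every irreducible closed subset of |X| is the
closure of some point. (The published statement says that |X| is sober; this row states only the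
existence of generic points, their uniqueness being the Kolmogorov property of |X|, a separate
statement.) -/
theorem result {S : Scheme.{u}} (X : AlgSp.Space S) (hX : AlgSp.IsDecent X.obj) :
    QuasiSober (AlgSp.Points X.obj) := by
  constructor
  intro T hTirr hTcl
  obtain ⟨Z, i, hci, hrange, -⟩ := Groth.Agent.S10192.result X T hTcl
  have hemb : IsEmbedding (AlgSp.Points.map i.hom) :=
    (Groth.Agent.S10191.result i (Groth.Agent.Lib.Helper12.OpenSub.repWith_mono
      (fun _ _ g hg => by have : IsClosedImmersion g := hg; infer_instance) hci)).1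
  have hZ : AlgSp.IsDecent Z.obj :=
    Groth.Agent.S10381.result i ((Groth.Agent.S10423.result i).1 hci.1) hX
  obtain ⟨Z', j, hj, hrep, hdense⟩ := Groth.Agent.S10337.result Z hZ
  have hNopen : IsOpen (Set.range (AlgSp.Points.map j.hom)) :=
    Groth.Agent.Lib.Helper12.OpenSub.isOpen_range_of_open j.hom hj
  -- the open subscheme is nonempty
  obtain ⟨x₀, hx₀⟩ := hTirr.nonempty
  rw [← hrange] at hx₀
  obtain ⟨z₀, -⟩ := hx₀
  obtain ⟨z₁, hz₁⟩ : (Set.range (AlgSp.Points.map j.hom)).Nonempty := by
    have : Nonempty (AlgSp.Points Z.obj) := ⟨z₀⟩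
    exact hdense.nonempty
  -- the scheme `Y`
  obtain ⟨Y, ⟨r⟩⟩ := hrep.has_representation
  let e : (AlgSp.yon S).obj Y ≅ Z'.obj := AlgSp.isoOfRepresentableBy r
  let k : (AlgSp.yon S).obj Y ⟶ Z.obj := e.hom ≫ j.hom
  have hk : AlgSp.RepWith @IsOpenImmersion k :=
    (MorphismProperty.cancel_left_of_respectsIso (AlgSp.RepWith @IsOpenImmersion) e.hom _).2 hj
  have hkOE : IsOpenEmbedding (AlgSp.Points.map k) :=
    IsOpenEmbedding.of_continuous_injective_isOpenMap (AlgSp.Points.continuous_map k)
      (Groth.Agent.Lib.Helper12.LargestOpen.injective_map_of_open k hk)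
      (Groth.Agent.Lib.Helper12.OpenSub.isOpenMap_map_of_open k hk)
  have hkrange : Set.range (AlgSp.Points.map k) = Set.range (AlgSp.Points.map j.hom) := by
    apply le_antisymm
    · rintro _ ⟨y, rfl⟩
      exact ⟨AlgSp.Points.map e.hom y, (AlgSp.Points.map_comp _ _ y).symm⟩
    · rintro _ ⟨y, rfl⟩
      refine ⟨AlgSp.Points.map e.inv y, ?_⟩
      rw [← AlgSp.Points.map_comp]
      change AlgSp.Points.map (e.inv ≫ e.hom ≫ j.hom) y = _
      rw [Iso.inv_hom_id_assoc]
  let ψ : ↥Y.left → AlgSp.Points X.obj :=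
    AlgSp.Points.map i.hom ∘ AlgSp.Points.map k ∘ AlgSp.Points.schemeHomeo Y
  have hψind : IsInducing ψ :=
    hemb.isInducing.comp (hkOE.isInducing.comp (AlgSp.Points.schemeHomeo Y).isInducing)
  have hψcont : Continuous ψ := hψind.continuous
  obtain ⟨O, hO, hON⟩ := hemb.isInducing.isOpen_iff.1 hNopen
  have hψrange : Set.range ψ = T ∩ O := by
    rw [Set.range_comp, Set.range_comp, (AlgSp.Points.schemeHomeo Y).surjective.range_eq,
      Set.image_univ, hkrange, ← hON, Set.image_preimage_eq_inter_range, hrange, Set.inter_comm]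
  have hne : (T ∩ O).Nonempty := by
    refine ⟨AlgSp.Points.map i.hom z₁, ?_, ?_⟩
    · rw [← hrange]; exact ⟨z₁, rfl⟩
    · have : z₁ ∈ AlgSp.Points.map i.hom ⁻¹' O := by rw [hON]; exact hz₁
      exact this
  -- `Y` is irreducible
  have hpre : PreirreducibleSpace ↥Y.left :=
    ⟨Groth.Agent.Lib.T2H7.SoberQs.isPreirreducible_univ_of_isInducing hψind
      (hψrange ▸ Groth.Agent.Lib.T2H7.SoberQs.isPreirreducible_inter_open
        hTirr.isPreirreducible hO)⟩
  have hYne : Nonempty ↥Y.left := by
    obtain ⟨x, hx⟩ := hne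
    rw [← hψrange] at hx
    obtain ⟨y, -⟩ := hx
    exact ⟨y⟩
  have hirr : IrreducibleSpace ↥Y.left :=
    { toPreirreducibleSpace := hpre, toNonempty := hYne }
  let ξ : ↥Y.left := genericPoint ↥Y.left
  have hξ : closure ({ξ} : Set ↥Y.left) = Set.univ := (genericPoint_spec ↥Y.left).def
  refine ⟨ψ ξ, ?_⟩
  change closure {ψ ξ} = T
  apply le_antisymm
  · apply hTcl.closure_subset_iff.2
    rw [Set.singleton_subset_iff]
    have h1 : ψ ξ ∈ Set.range ψ := ⟨ξ, rfl⟩
    rw [hψrange] at h1
    exact h1.1
  · have h1 : T ⊆ closure (T ∩ O) :=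
      subset_closure_inter_of_isPreirreducible_of_isOpen hTirr.isPreirreducible hO hne
    refine h1.trans (closure_minimal ?_ isClosed_closure)
    rw [← hψrange, ← Set.image_univ, ← hξ]
    refine (image_closure_subset_closure_image hψcont).trans ?_
    rw [Set.image_singleton]

end Groth.Agent.S10339
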