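import Groth.Statements.S10360
import Groth.Agent.Lib.T2H1FieldQuotK

set_option autoImplicit false
universe u
open CategoryTheory CategoryTheory.Limits AlgebraicGeometry Topology TopologicalSpace
open AlgSp

namespace Groth.Agent.S10360


open Groth.Agent.Lib.T2H1.FieldQuot

/-- (1) ⇔ (4): for an algebraic space X over a scheme S and x ∈ |X|, the fibres over x of |U| → |X| and
|U ×_X U| → |X| are finite for every etale h_U ⟶ X with U affine, if and only if x is represented by
a monomorphism Spec k ⟶ X which is representable quasi-compact. -/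
theorem result {S : Scheme.{u}} (X : AlgSp.Space S)
    (x : AlgSp.Points X.obj) :
    (∀ (U : Over S) (φ : (AlgSp.yon S).obj U ⟶ X.obj), IsAffine U.left → AlgSp.RepWith @Etale φ →
        ∀ (R : Over S) (s t : R ⟶ U), IsPullback ((AlgSp.yon S).map t) ((AlgSp.yon S).map s) φ φ →
          (AlgSp.Points.ofPt φ ⁻¹' {x}).Finite ∧ (AlgSp.Points.ofPt ((AlgSp.yon S).map t ≫ φ) ⁻¹' {x}).Finite) ↔
      ∃ p : AlgSp.FieldPt X.obj, AlgSp.Points.mk p = x ∧ Mono p.toHom ∧ AlgSp.RepWith @QuasiCompact p.toHom := by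
  constructor
  · intro H
    obtain ⟨U₀, a, hae, has⟩ := X.property.atlas
    obtain ⟨u₀, hu₀⟩ := Groth.Agent.S10177.surjective_ofPt a has x
    have hch : ∃ Uo : U₀.left.Opens, IsAffineOpen Uo ∧ u₀ ∈ Uo := by
      obtain ⟨_, ⟨Uo, hUo, rfl⟩, hmem, -⟩ := U₀.left.isBasis_affineOpens.exists_subset_of_mem_open
        (Set.mem_univ u₀) isOpen_univ
      exact ⟨Uo, hUo, hmem⟩
    obtain ⟨Uo, hUo, hmem⟩ := hch
    let Uj : Over S := Over.mk (Uo.ι ≫ U₀.hom)
    let ιU : Uj ⟶ U₀ := Over.homMk Uo.ι rfl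
    haveI : IsAffine Uj.left := hUo
    have hφ : AlgSp.RepWith @Etale ((AlgSp.yon S).map ιU ≫ a) := by
      refine MorphismProperty.comp_mem _ _ _ ((AlgSp.repWith_yon_map_iff _ _).2 ?_) hae
      exact (inferInstance : Etale Uo.ι)
    let u : ↥Uj.left := (⟨u₀, hmem⟩ : ↥Uo)
    have hu : AlgSp.Points.ofPt ((AlgSp.yon S).map ιU ≫ a) u = x := by
      rw [Groth.Agent.S10176.ofPt_map_comp]
      exact hu₀
    obtain ⟨R, s, pr, sq⟩ := X.property.representable_from_yon ((AlgSp.yon S).map ιU ≫ a)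
      ((AlgSp.yon S).map ιU ≫ a)
    obtain ⟨t, rfl⟩ := (AlgSp.yon S).map_surjective pr
    obtain ⟨-, hfinR⟩ := H Uj _ inferInstance hφ R s t sq
    have hfin : {r : ↥R.left | s.left r = u ∧ t.left r = u}.Finite := by
      refine hfinR.subset ?_
      rintro r ⟨-, hr⟩
      show AlgSp.Points.ofPt ((AlgSp.yon S).map t ≫ (AlgSp.yon S).map ιU ≫ a) r = x
      rw [Groth.Agent.S10176.ofPt_map_comp, hr, hu]
    obtain ⟨p, hp, hpm⟩ := exists_mono_of_finite_fibre X.property _ hφ u u rfl s t sq hfin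
    haveI := hpm
    have hpx : AlgSp.Points.mk p = x := hp.trans hu
    subst hpx
    refine ⟨p, rfl, hpm, ?_⟩
    refine repWith_quasiCompact_of_finite_fibres X.property p (fun U φ hU hφ' => ?_)
    obtain ⟨R', s', pr', sq'⟩ := X.property.representable_from_yon φ φ
    obtain ⟨t', rfl⟩ := (AlgSp.yon S).map_surjective pr'
    exact (H U φ hU hφ' R' s' t' sq').1
  · rintro ⟨p, rfl, hpm, hpqc⟩ U φ hU hφ R s t hR
    haveI := hU
    obtain ⟨T, τ, pr, sq⟩ := X.property.representable_from_yon p.toHom φ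
    obtain ⟨c, rfl⟩ := (AlgSp.yon S).map_surjective pr
    haveI : QuasiCompact τ.left := hpqc.2 φ _ τ sq
    haveI : CompactSpace ↥U.left := inferInstance
    haveI : CompactSpace ↥T.left := QuasiCompact.compactSpace_of_compactSpace τ.left
    haveI : Etale c.left := hφ.2 _ _ c sq.flip
    haveI : LocallyQuasiFinite c.left := Groth.Agent.S10555.lqf_of_etale c.left
    haveI : IsAffine p.pt.left := (inferInstance : IsAffine (Spec (CommRingCat.of p.K)))
    haveI : QuasiCompact c.left :=
      (HasAffineProperty.iff_of_isAffine (P := @QuasiCompact)).2 ‹CompactSpace ↥T.left›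
    haveI : IsLocallyArtinian p.pt.left :=
      Scheme.isLocallyArtinianScheme_Spec.mpr (inferInstance : IsArtinianRing p.K)
    haveI : IsFinite c.left := IsFinite.of_locallyQuasiFinite c.left
    haveI : Subsingleton ↥p.pt.left := inferInstanceAs (Subsingleton (PrimeSpectrum p.K))
    haveI : Finite ↥T.left := finite_of_isFinite_of_subsingleton c.left
    refine ⟨?_, finite_fibre_R X.property p φ c τ sq s t hR⟩
    rw [fibre_eq_range p φ c τ sq]
    exact Set.finite_range _

end Groth.Agent.S10360
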