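import Groth.Statements.S9960
import Groth.Agent.S9959
import Groth.Agent.S9874
import Groth.Agent.S9912
import Groth.Agent.S9937
import Groth.Agent.Lib.Helper12LocPCases
import Groth.Agent.Lib.Helper12SmoothST

set_option autoImplicit false
universe u
open CategoryTheory CategoryTheory.Limits AlgebraicGeometry
open AlgSp

namespace Groth.Agent.S9960

/-- The diagonal of a morphism locally of finite type is locally of finite presentation, and of finite
presentation when the morphism is also quasi-separated. -/
theorem result {S : Scheme.{u}} {X Y : AlgSp.Space S} (f : X ⟶ Y)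
    (hf : AlgSp.LocP @LocallyOfFiniteType f.hom) :
    AlgSp.LocP @LocallyOfFinitePresentation (pullback.diagonal f.hom) ∧
    (AlgSp.IsQuasiSeparatedMor f.hom → AlgSp.IsFinitePresentationMor (pullback.diagonal f.hom)) := by
  have hZ : AlgSp.IsAlgSpace (pullback f.hom f.hom) :=
    Groth.Agent.S9874.isAlgSpace_of_isPullback Y.property.diag X.property X.property
      (IsPullback.of_hasPullback f.hom f.hom)
  have h1 : AlgSp.LocP @LocallyOfFiniteType (pullback.fst f.hom f.hom) :=
    Groth.Agent.Lib.Helper12.LocPCases.good_lft.locP_baseChange X.property Y.property X.property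
      (IsPullback.of_hasPullback f.hom f.hom).flip hf
  have hΔ : AlgSp.LocP @LocallyOfFinitePresentation (pullback.diagonal f.hom) := by
    refine Groth.Agent.S9959.locP_of_comp' @LocallyOfFinitePresentation @LocallyOfFiniteType
      (fun u k hk huk => Groth.Agent.Lib.Helper6.locallyOfFinitePresentation_of_comp hk huk)
      X.property (pullback.diagonal f.hom) (pullback.fst f.hom f.hom) ?_ h1
    rw [pullback.diagonal_fst]
    exact Groth.Agent.Lib.Helper12.SmoothST.locP_id @LocallyOfFinitePresentation
      (fun g hg => by haveI := hg; infer_instance) X.obj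
  refine ⟨hΔ, fun hqs => ⟨hΔ, ?_, ?_⟩⟩
  · exact Groth.Agent.S9912.isQuasiCompactMor_of_repWith X.property hZ.diag _ hqs
  · exact Groth.Agent.S9937.repWith_of_isIso @QuasiCompact (pullback.diagonal (pullback.diagonal f.hom))

end Groth.Agent.S9960
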