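import Groth.Statements.S10021
import Groth.Agent.Lib.T2H7LimDescE
import Groth.Agent.S10013
import Groth.Agent.S10015
import Groth.Agent.S10016
import Groth.Agent.S10261
import Groth.Agent.S10532

set_option autoImplicit false
universe u
open CategoryTheory CategoryTheory.Limits AlgebraicGeometry
open AlgSp

namespace Groth.Agent.S10021

/-- Let `S` be a quasi-separated scheme and `B` the limit, in fppf sheaves over `S`, of a cofiltered
system `(B_i)` of algebraic spaces over `S` whose transition maps are affine; fix an index `i₀` such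
that `B_{i₀}` is quasi-compact and quasi-separated over `S`, and a morphism `f₀ : X₀ ⟶ Y₀` of
algebraic spaces over `B_{i₀}` whose source and target are quasi-compact and quasi-separated over
`S`. Write `f_i` (for `i` mapping to `i₀`) and `f` for the base changes of `f₀` to `B_i` and to `B`,
given by pullback squares. If `f` is an isomorphism and `f₀` locally of finite presentation, then
for some `i` mapping to `i₀` every such base change `f_i` is an isomorphism. (The published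
statement allows any base scheme and uses absolute quasi-separatedness; this row assumes the base
quasi-separated, over which quasi-separatedness relative to the base is the absolute notion.) -/
theorem result (S : Scheme.{u}) [QuasiSeparatedSpace S] {I : Type u} [SmallCategory I] [IsCofiltered I]
    (D : I ⥤ AlgSp.Sp S) (hD : ∀ i, AlgSp.IsAlgSpace (D.obj i))
    (hDa : ∀ (i j : I) (φ : i ⟶ j), AlgSp.IsAffineMor (D.map φ))
    (c : Cone D) (hc : IsLimit c) (i₀ : I)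
    (hBqc : AlgSp.IsQuasiCompactSp (D.obj i₀)) (hBqs : AlgSp.IsQuasiSeparatedSp (D.obj i₀))
    (X₀ Y₀ : AlgSp.Space S) (f₀ : X₀.obj ⟶ Y₀.obj) (b₀ : Y₀.obj ⟶ D.obj i₀)
    (hXqc : AlgSp.IsQuasiCompactSp X₀.obj) (hXqs : AlgSp.IsQuasiSeparatedSp X₀.obj)
    (hYqc : AlgSp.IsQuasiCompactSp Y₀.obj) (hYqs : AlgSp.IsQuasiSeparatedSp Y₀.obj)
    (X Y : AlgSp.Sp S) (f : X ⟶ Y) (pY : Y ⟶ Y₀.obj) (qY : Y ⟶ c.pt)
    (hY : IsPullback pY qY b₀ (c.π.app i₀)) (pX : X ⟶ X₀.obj) (hX : IsPullback pX f f₀ pY)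
    [IsIso f] (hf₀ : AlgSp.LocP @LocallyOfFinitePresentation f₀) :
    ∃ (i : I) (φ : i ⟶ i₀), ∀ (Xi Yi : AlgSp.Sp S) (fi : Xi ⟶ Yi) (pYi : Yi ⟶ Y₀.obj) (qYi : Yi ⟶ D.obj i)
      (_ : IsPullback pYi qYi b₀ (D.map φ)) (pXi : Xi ⟶ X₀.obj) (_ : IsPullback pXi fi f₀ pYi),
      IsIso fi := by
  have hfe : AlgSp.IsEtaleMor f := Groth.Agent.S10532.isEtaleMor_of_isIso f
  have hfs : AlgSp.IsSurjectiveMor f := (Groth.Agent.S10532.isHomeomorph_map_of_isIso f).surjective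
  have hfi : AlgSp.IsUnivInjectiveMor f := Groth.Agent.S10532.isUnivInjectiveMor_of_isIso f
  have hf₀' : AlgSp.LocP @LocallyOfFiniteType f₀ := fun U V a b h ha hb comm => by
    have := hf₀ a b h ha hb comm
    infer_instance
  obtain ⟨i₁, φ₁, H₁⟩ := Groth.Agent.S10013.result S D hD hDa c hc i₀ hBqc hBqs X₀ Y₀ f₀ b₀ hXqc hXqs
    hYqc hYqs X Y f pY qY hY pX hX hfe hf₀
  obtain ⟨i₂, φ₂, H₂⟩ := Groth.Agent.S10015.result S D hD hDa c hc i₀ hBqc hBqs X₀ Y₀ f₀ b₀ hXqc hXqs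
    hYqc hYqs X Y f pY qY hY pX hX hfs hf₀
  obtain ⟨i₃, φ₃, H₃⟩ := Groth.Agent.S10016.result S D hD hDa c hc i₀ hBqc hBqs X₀ Y₀ f₀ b₀ hXqc hXqs
    hYqc hYqs X Y f pY qY hY pX hX hfi hf₀'
  let j₁ : Over i₀ := Over.mk φ₁
  let j₂ : Over i₀ := Over.mk φ₂
  let j₃ : Over i₀ := Over.mk φ₃
  let j12 : Over i₀ := IsCofiltered.min j₁ j₂
  let j : Over i₀ := IsCofiltered.min j12 j₃
  let ψ₁ : j ⟶ j₁ := IsCofiltered.minToLeft j12 j₃ ≫ IsCofiltered.minToLeft j₁ j₂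
  let ψ₂ : j ⟶ j₂ := IsCofiltered.minToLeft j12 j₃ ≫ IsCofiltered.minToRight j₁ j₂
  let ψ₃ : j ⟶ j₃ := IsCofiltered.minToRight j12 j₃
  have e₁ : ψ₁.left ≫ φ₁ = j.hom := Over.w ψ₁
  have e₂ : ψ₂.left ≫ φ₂ = j.hom := Over.w ψ₂
  have e₃ : ψ₃.left ≫ φ₃ = j.hom := Over.w ψ₃
  refine ⟨j.left, j.hom, fun Xi Yi fi pYi qYi hYi pXi hXi => ?_⟩
  have hYialg : AlgSp.IsAlgSpace Yi :=
    Groth.Agent.S9874.isAlgSpace_of_isPullback (hD i₀).diag Y₀.property (hD j.left) hYi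
  have hXialg : AlgSp.IsAlgSpace Xi :=
    Groth.Agent.S9874.isAlgSpace_of_isPullback Y₀.property.diag X₀.property hYialg hXi
  have h1 : AlgSp.IsEtaleMor fi :=
    Groth.Agent.Lib.T2H7.LimDescE.shrink_index D hD φ₁ ψ₁.left X₀ Y₀ f₀ b₀ _
      Groth.Agent.Lib.T2H7.LimDescE.bcStable_isEtaleMor H₁ Xi Yi fi pYi qYi
      (by rw [e₁]; exact hYi) pXi hXi
  have h2 : AlgSp.IsSurjectiveMor fi :=
    Groth.Agent.Lib.T2H7.LimDescE.shrink_index D hD φ₂ ψ₂.left X₀ Y₀ f₀ b₀ _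
      Groth.Agent.Lib.T2H7.LimDescE.bcStable_isSurjectiveMor H₂ Xi Yi fi pYi qYi
      (by rw [e₂]; exact hYi) pXi hXi
  have h3 : AlgSp.IsUnivInjectiveMor fi :=
    Groth.Agent.Lib.T2H7.LimDescE.shrink_index D hD φ₃ ψ₃.left X₀ Y₀ f₀ b₀ _
      Groth.Agent.Lib.T2H7.LimDescE.bcStable_isUnivInjectiveMor H₃ Xi Yi fi pYi qYi
      (by rw [e₃]; exact hYi) pXi hXi
  have hopen := Groth.Agent.S10261.result (X := ⟨Xi, hXialg⟩) (Y := ⟨Yi, hYialg⟩)
    (ObjectProperty.homMk fi) h1 h3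
  exact Groth.Agent.S10532.isIso_of_open_of_surjective fi hopen h2

end Groth.Agent.S10021
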