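import Groth.Statements.S10621
import Groth.Agent.Lib.T2H1FormalCharts2

set_option autoImplicit false
universe u
open CategoryTheory CategoryTheory.Limits AlgebraicGeometry
open AlgSp

namespace Groth.Agent.S10621


open Groth.Agent.Lib.T2H1.RepEtale Groth.Agent.Lib.T2H1.FormalDescent Groth.Agent.Lib.T2H1.FormalYon
  Groth.Agent.Lib.T2H1.FormalCharts2 in
theorem of_chart {S : Scheme.{u}} {X Y : AlgSp.Sp S} (f : X ⟶ Y) {U V : Over S}
    (a : (AlgSp.yon S).obj U ⟶ X) (b : (AlgSp.yon S).obj V ⟶ Y) (h : U ⟶ V)
    (ha : AlgSp.RepWith @Etale a) (has : AlgSp.RepWith @Surjective a)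
    (hb : AlgSp.RepWith @Etale b) (w : a ≫ f = (AlgSp.yon S).map h ≫ b)
    (hh : FormallyUnramified h.left) : AlgSp.IsFormallyUnramifiedMor f := by
  have h1 : AlgSp.IsFormallyUnramifiedMor ((AlgSp.yon S).map h ≫ b) :=
    (Groth.Agent.S10619.result _ _).2.2 (isFormallyUnramifiedMor_yon_map h)
      (isFormallyUnramifiedMor_of_etale (isFormallyEtaleMor_of_repWith b hb))
  rw [← w] at h1
  exact isFormallyUnramifiedMor_of_comp a ha has f h1

/-- For a morphism f : X ⟶ Y of algebraic spaces over S, these conditions are equivalent: f is formally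
unramified (lifting along square-zero thickenings of affine schemes); for every scheme U with a
representable etale U ⟶ X, every scheme V with a representable etale V ⟶ Y and every compatible U ⟶
V, the morphism of schemes U ⟶ V is formally unramified; and this holds as soon as it holds for one
such diagram in which both charts are moreover surjective. Formal unramifiedness of a morphism of
schemes is Mathlib's FormallyUnramified (formally unramified ring maps on affine opens, no
finite-type condition), which agrees with the lifting definition used here. -/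
theorem result {S : Scheme.{u}} {X Y : AlgSp.Space S} (f : X ⟶ Y) :
    (AlgSp.IsFormallyUnramifiedMor f.hom ↔ AlgSp.LocP @FormallyUnramified f.hom) ∧
    (∀ (U V : Over S) (a : (AlgSp.yon S).obj U ⟶ X.obj) (b : (AlgSp.yon S).obj V ⟶ Y.obj) (h : U ⟶ V),
      AlgSp.RepWith @Etale a → AlgSp.RepWith @Surjective a → AlgSp.RepWith @Etale b → AlgSp.RepWith @Surjective b →
      a ≫ f.hom = (AlgSp.yon S).map h ≫ b → FormallyUnramified h.left → AlgSp.IsFormallyUnramifiedMor f.hom) := by
  refine ⟨⟨fun hf U V a b h ha hb w => ?_, fun hL => ?_⟩,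
    fun U V a b h ha has hb _ w hh => of_chart f.hom a b h ha has hb w hh⟩
  · have h1 : AlgSp.IsFormallyUnramifiedMor (a ≫ f.hom) :=
      (Groth.Agent.S10619.result _ _).2.2
        (Groth.Agent.Lib.T2H1.FormalCharts2.isFormallyUnramifiedMor_of_etale
          (Groth.Agent.Lib.T2H1.RepEtale.isFormallyEtaleMor_of_repWith a ha)) hf
    rw [w] at h1
    have h2 := (Groth.Agent.S10618.result ((AlgSp.yon S).map h) b
      (Groth.Agent.Lib.T2H1.FormalCharts2.isFormallyUnramifiedMor_of_etale
        (Groth.Agent.Lib.T2H1.RepEtale.isFormallyEtaleMor_of_repWith b hb))).1 h1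
    exact Groth.Agent.Lib.T2H1.FormalYon.formallyUnramified_of_yon_map h h2
  · obtain ⟨U, V, a, b, h, ha, has, hb, -, w⟩ :=
      Groth.Agent.Lib.T2H1.FormalCharts2.exists_surj_chart_diagram X.property Y.property f.hom
    exact of_chart f.hom a b h ha has hb w (hL a b h ha hb w)

end Groth.Agent.S10621
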