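import Groth.Statements.S10613
import Groth.Agent.Lib.T2H1LqfSepRepD
import Groth.Agent.S10262
import Groth.Agent.S10621
import Groth.Agent.S10322
import Groth.Agent.S10260

set_option autoImplicit false
universe u
open CategoryTheory CategoryTheory.Limits AlgebraicGeometry
open AlgSp

namespace Groth.Agent.S10613

open Groth.Agent.Lib.Helper12 in
/-- a monomorphism is universally injective. -/
lemma isUnivInjectiveMor_of_mono {S : Scheme.{u}} {X Y : AlgSp.Space S} (f : X ⟶ Y) [Mono f.hom] :
    AlgSp.IsUnivInjectiveMor f.hom :=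
  (Groth.Agent.S9938.result f).1.1 (fun K _ str a b hab => (cancel_mono f.hom).1 hab)

open Groth.Agent.Lib.Helper12 in
/-- an unramified universally injective morphism is a monomorphism. -/
lemma mono_of_unramified_of_univInjective {S : Scheme.{u}} {X Y : AlgSp.Space S} (f : X ⟶ Y)
    (hu : AlgSp.LocP (@LocallyOfFiniteType ⊓ @FormallyUnramified) f.hom)
    (hi : AlgSp.IsUnivInjectiveMor f.hom) : Mono f.hom := by
  have hΔ : AlgSp.RepWith @IsOpenImmersion (pullback.diagonal f.hom) :=
    (Groth.Agent.S10262.result f).1 hu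
  have hs : AlgSp.IsSurjectiveMor (pullback.diagonal f.hom) := (Groth.Agent.S9938.result f).2.1 hi
  obtain ⟨g, hg⟩ := (Groth.Agent.S10194.exists_factor_iff (pullback.diagonal f.hom) hΔ (𝟙 _)).2
    (fun x _ => hs x)
  haveI : Mono (pullback.diagonal f.hom) := LargestOpen.mono_of_open _ hΔ
  haveI : IsSplitEpi (pullback.diagonal f.hom) := ⟨⟨⟨g, hg⟩⟩⟩
  haveI : IsIso (pullback.diagonal f.hom) := isIso_of_mono_of_isSplitEpi _
  exact (pullback.isIso_diagonal_iff f.hom).1 inferInstance

open Groth.Agent.Lib.Helper12 in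
/-- a monomorphism locally of finite type is unramified. -/
lemma unramified_of_lft_of_mono {S : Scheme.{u}} {X Y : AlgSp.Space S} (f : X ⟶ Y)
    (hl : AlgSp.LocP @LocallyOfFiniteType f.hom) [Mono f.hom] :
    AlgSp.LocP (@LocallyOfFiniteType ⊓ @FormallyUnramified) f.hom := by
  haveI : IsIso (pullback.diagonal f.hom) := (pullback.isIso_diagonal_iff f.hom).2 inferInstance
  exact (Groth.Agent.S10262.result f).2 hl
    (MorphismProperty.of_isIso (AlgSp.RepWith @IsOpenImmersion) (pullback.diagonal f.hom))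

/-- For a morphism f : X ⟶ Y of algebraic spaces over S, these four conditions on f are equivalent: (a)
unramified plus monomorphism; (b) unramified plus universally injective; (c) a monomorphism that is
locally of finite type; (d) universally injective, locally of finite type and formally unramified
(lifting sense). In that case f is representable by schemes, separated and locally quasi-finite.
(Unramified is the etale-local condition locally of finite type and formally unramified on charts;
monomorphisms are taken in fppf sheaves.) -/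
theorem result {S : Scheme.{u}} {X Y : AlgSp.Space S} (f : X ⟶ Y) :
    ((AlgSp.LocP (@LocallyOfFiniteType ⊓ @FormallyUnramified) f.hom ∧ Mono f.hom) ↔
      (AlgSp.LocP (@LocallyOfFiniteType ⊓ @FormallyUnramified) f.hom ∧ AlgSp.IsUnivInjectiveMor f.hom)) ∧
    ((AlgSp.LocP (@LocallyOfFiniteType ⊓ @FormallyUnramified) f.hom ∧ Mono f.hom) ↔
      (AlgSp.LocP @LocallyOfFiniteType f.hom ∧ Mono f.hom)) ∧
    ((AlgSp.LocP (@LocallyOfFiniteType ⊓ @FormallyUnramified) f.hom ∧ Mono f.hom) ↔
      (AlgSp.IsUnivInjectiveMor f.hom ∧ AlgSp.LocP @LocallyOfFiniteType f.hom ∧ AlgSp.IsFormallyUnramifiedMor f.hom)) ∧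
    (AlgSp.LocP @LocallyOfFiniteType f.hom ∧ Mono f.hom →
      AlgSp.Representable f.hom ∧ AlgSp.IsSeparatedMor f.hom ∧
        AlgSp.LocP (@LocallyQuasiFinite ⊓ @LocallyOfFiniteType) f.hom) := by
  have hlft : AlgSp.LocP (@LocallyOfFiniteType ⊓ @FormallyUnramified) f.hom →
      AlgSp.LocP @LocallyOfFiniteType f.hom :=
    Groth.Agent.Lib.Helper12.LargestOpen.locP_mono (fun _ _ _ h => h.1)
  have hfu : AlgSp.LocP (@LocallyOfFiniteType ⊓ @FormallyUnramified) f.hom →
      AlgSp.LocP @FormallyUnramified f.hom :=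
    Groth.Agent.Lib.Helper12.LargestOpen.locP_mono (fun _ _ _ h => h.2)
  refine ⟨⟨fun ⟨h1, h2⟩ => ⟨h1, ?_⟩, fun ⟨h1, h2⟩ => ⟨h1, mono_of_unramified_of_univInjective f h1 h2⟩⟩,
    ⟨fun ⟨h1, h2⟩ => ⟨hlft h1, h2⟩, fun ⟨h1, h2⟩ => ⟨?_, h2⟩⟩,
    ⟨fun ⟨h1, h2⟩ => ⟨?_, hlft h1, (Groth.Agent.S10621.result f).1.2 (hfu h1)⟩, fun ⟨h1, h2, h3⟩ => ?_⟩,
    fun ⟨h1, h2⟩ => ?_⟩
  · haveI := h2
    exact isUnivInjectiveMor_of_mono f
  · haveI := h2
    exact unramified_of_lft_of_mono f h1
  · haveI := h2
    exact isUnivInjectiveMor_of_mono f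
  · have h4 : AlgSp.LocP (@LocallyOfFiniteType ⊓ @FormallyUnramified) f.hom := by
      have h5 := (Groth.Agent.S10621.result f).1.1 h3
      intro U V a b k ha hb hc
      exact ⟨h2 a b k ha hb hc, h5 a b k ha hb hc⟩
    exact ⟨h4, mono_of_unramified_of_univInjective f h4 h1⟩
  · haveI := h2
    have hu := unramified_of_lft_of_mono f h1
    have hq := (Groth.Agent.S10322.result f).2 hu
    have hs : AlgSp.IsSeparatedMor f.hom := Groth.Agent.Lib.Helper12.Proper.isSeparatedMor_of_mono f.hom
    exact ⟨Groth.Agent.S10260.result f hq hs, hs, hq⟩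

end Groth.Agent.S10613
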