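import Groth.Statements.S10022
import Groth.Agent.Lib.T2H7DiagPB
import Groth.Agent.S10021
import Groth.Agent.S9960
import Groth.Agent.S9921
import Groth.Agent.S9874

set_option autoImplicit false
universe u
open CategoryTheory CategoryTheory.Limits AlgebraicGeometry
open AlgSp

namespace Groth.Agent.S10022

/-- Let `S` be a quasi-separated scheme and `B` the limit, in fppf sheaves over `S`, of a cofiltered
system `(B_i)` of algebraic spaces over `S` whose transition maps are affine; fix an index `i₀` such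
that `B_{i₀}` is quasi-compact and quasi-separated over `S`, and a morphism `f₀ : X₀ ⟶ Y₀` of
algebraic spaces over `B_{i₀}` whose source and target are quasi-compact and quasi-separated over
`S`. Write `f_i` (for `i` mapping to `i₀`) and `f` for the base changes of `f₀` to `B_i` and to `B`,
given by pullback squares. If `f` is a monomorphism and `f₀` locally of finite type, then for some
`i` mapping to `i₀` every such base change `f_i` is a monomorphism. (The published statement allows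
any base scheme and uses absolute quasi-separatedness; this row assumes the base quasi-separated,
over which quasi-separatedness relative to the base is the absolute notion.) -/
theorem result (S : Scheme.{u}) [QuasiSeparatedSpace S] {I : Type u} [SmallCategory I] [IsCofiltered I]
    (D : I ⥤ AlgSp.Sp S) (hD : ∀ i, AlgSp.IsAlgSpace (D.obj i))
    (hDa : ∀ (i j : I) (φ : i ⟶ j), AlgSp.IsAffineMor (D.map φ))
    (c : Cone D) (hc : IsLimit c) (i₀ : I)
    (hBqc : AlgSp.IsQuasiCompactSp (D.obj i₀)) (hBqs : AlgSp.IsQuasiSeparatedSp (D.obj i₀))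
    (X₀ Y₀ : AlgSp.Space S) (f₀ : X₀.obj ⟶ Y₀.obj) (b₀ : Y₀.obj ⟶ D.obj i₀)
    (hXqc : AlgSp.IsQuasiCompactSp X₀.obj) (hXqs : AlgSp.IsQuasiSeparatedSp X₀.obj)
    (hYqc : AlgSp.IsQuasiCompactSp Y₀.obj) (hYqs : AlgSp.IsQuasiSeparatedSp Y₀.obj)
    (X Y : AlgSp.Sp S) (f : X ⟶ Y) (pY : Y ⟶ Y₀.obj) (qY : Y ⟶ c.pt)
    (hY : IsPullback pY qY b₀ (c.π.app i₀)) (pX : X ⟶ X₀.obj) (hX : IsPullback pX f f₀ pY)
    [Mono f] (hf₀ : AlgSp.LocP @LocallyOfFiniteType f₀) :
    ∃ (i : I) (φ : i ⟶ i₀), ∀ (Xi Yi : AlgSp.Sp S) (fi : Xi ⟶ Yi) (pYi : Yi ⟶ Y₀.obj) (qYi : Yi ⟶ D.obj i)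
      (_ : IsPullback pYi qYi b₀ (D.map φ)) (pXi : Xi ⟶ X₀.obj) (_ : IsPullback pXi fi f₀ pYi),
      Mono fi := by
  have sqZ₀ := IsPullback.of_hasPullback f₀ f₀
  have hZ₀alg : AlgSp.IsAlgSpace (pullback f₀ f₀) :=
    Groth.Agent.S9874.isAlgSpace_of_isPullback Y₀.property.diag X₀.property X₀.property sqZ₀
  let Z₀s : AlgSp.Space S := ⟨pullback f₀ f₀, hZ₀alg⟩
  have hZ₀ := Groth.Agent.S9921.result (X := X₀) (Y := Y₀) (Z := X₀) (P := Z₀s)
    (ObjectProperty.homMk f₀) (ObjectProperty.homMk f₀)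
    (ObjectProperty.homMk (pullback.fst f₀ f₀)) (ObjectProperty.homMk (pullback.snd f₀ f₀)) sqZ₀
    ⟨hXqc, hXqs⟩ ⟨hYqc, hYqs⟩ ⟨hXqc, hXqs⟩
  have hΔ₀ : AlgSp.LocP @LocallyOfFinitePresentation (pullback.diagonal f₀) :=
    (Groth.Agent.S9960.result (X := X₀) (Y := Y₀) (ObjectProperty.homMk f₀) hf₀).1
  have hΔiso : IsIso (pullback.diagonal f) := (pullback.isIso_diagonal_iff f).2 inferInstance
  have hZ : IsPullback (Groth.Agent.Lib.T2H7.DiagPB.pZ hX) (pullback.fst f f ≫ f ≫ qY)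
      (pullback.fst f₀ f₀ ≫ f₀ ≫ b₀) (c.π.app i₀) := by
    have := (Groth.Agent.Lib.T2H7.DiagPB.isPullback_pZ hX).paste_vert hY
    simpa only [Category.assoc] using this
  obtain ⟨i, φ, H⟩ := Groth.Agent.S10021.result S D hD hDa c hc i₀ hBqc hBqs X₀ Z₀s
    (pullback.diagonal f₀) (pullback.fst f₀ f₀ ≫ f₀ ≫ b₀) hXqc hXqs hZ₀.1 hZ₀.2 X (pullback f f)
    (pullback.diagonal f) (Groth.Agent.Lib.T2H7.DiagPB.pZ hX) (pullback.fst f f ≫ f ≫ qY) hZ pX
    (Groth.Agent.Lib.T2H7.DiagPB.isPullback_diagonal hX) hΔ₀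
  refine ⟨i, φ, fun Xi Yi fi pYi qYi hYi pXi hXi => ?_⟩
  have hZi : IsPullback (Groth.Agent.Lib.T2H7.DiagPB.pZ hXi) (pullback.fst fi fi ≫ fi ≫ qYi)
      (pullback.fst f₀ f₀ ≫ f₀ ≫ b₀) (D.map φ) := by
    have := (Groth.Agent.Lib.T2H7.DiagPB.isPullback_pZ hXi).paste_vert hYi
    simpa only [Category.assoc] using this
  have hs := H Xi (pullback fi fi) (pullback.diagonal fi) (Groth.Agent.Lib.T2H7.DiagPB.pZ hXi)
    (pullback.fst fi fi ≫ fi ≫ qYi) hZi pXi (Groth.Agent.Lib.T2H7.DiagPB.isPullback_diagonal hXi)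
  exact (pullback.isIso_diagonal_iff fi).1 hs

end Groth.Agent.S10022
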