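import Groth.Statements.S10019
import Groth.Agent.Lib.T2H7LimDescRep
import Groth.Agent.Lib.T2H7LimRestart
import Groth.Agent.Lib.T2H7AffQcqs
import Groth.Agent.Lib.T2H1LimAffine
import Groth.Agent.S10022
import Groth.Agent.S10613
import Groth.Agent.S9928
import Groth.Agent.S9948
import Groth.Agent.S9984
import Groth.Agent.S9874

set_option autoImplicit false
universe u
open CategoryTheory CategoryTheory.Limits AlgebraicGeometry
open AlgSp

namespace Groth.Agent.S10019

/-- Let `S` be a quasi-separated scheme and `B` the limit, in fppf sheaves over `S`, of a cofiltered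
system `(B_i)` of algebraic spaces over `S` whose transition maps are affine; fix an index `i₀` such
that `B_{i₀}` is quasi-compact and quasi-separated over `S`, and a morphism `f₀ : X₀ ⟶ Y₀` of
algebraic spaces over `B_{i₀}` whose source and target are quasi-compact and quasi-separated over
`S`. Write `f_i` (for `i` mapping to `i₀`) and `f` for the base changes of `f₀` to `B_i` and to `B`,
given by pullback squares. If `f` is a closed immersion and `f₀` locally of finite type, then for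
some `i` mapping to `i₀` every such base change `f_i` is a closed immersion. (The published
statement allows any base scheme and uses absolute quasi-separatedness; this row assumes the base
quasi-separated, over which quasi-separatedness relative to the base is the absolute notion.) -/
theorem result (S : Scheme.{u}) [QuasiSeparatedSpace S] {I : Type u} [SmallCategory I] [IsCofiltered I]
    (D : I ⥤ AlgSp.Sp S) (hD : ∀ i, AlgSp.IsAlgSpace (D.obj i))
    (hDa : ∀ (i j : I) (φ : i ⟶ j), AlgSp.IsAffineMor (D.map φ))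
    (c : Cone D) (hc : IsLimit c) (i₀ : I)
    (hBqc : AlgSp.IsQuasiCompactSp (D.obj i₀)) (hBqs : AlgSp.IsQuasiSeparatedSp (D.obj i₀))
    (X₀ Y₀ : AlgSp.Space S) (f₀ : X₀.obj ⟶ Y₀.obj) (b₀ : Y₀.obj ⟶ D.obj i₀)
    (hXqc : AlgSp.IsQuasiCompactSp X₀.obj) (hXqs : AlgSp.IsQuasiSeparatedSp X₀.obj)
    (hYqc : AlgSp.IsQuasiCompactSp Y₀.obj) (hYqs : AlgSp.IsQuasiSeparatedSp Y₀.obj)
    (X Y : AlgSp.Sp S) (f : X ⟶ Y) (pY : Y ⟶ Y₀.obj) (qY : Y ⟶ c.pt)
    (hY : IsPullback pY qY b₀ (c.π.app i₀)) (pX : X ⟶ X₀.obj) (hX : IsPullback pX f f₀ pY)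
    (hf : AlgSp.RepWith @IsClosedImmersion f) (hf₀ : AlgSp.LocP @LocallyOfFiniteType f₀) :
    ∃ (i : I) (φ : i ⟶ i₀), ∀ (Xi Yi : AlgSp.Sp S) (fi : Xi ⟶ Yi) (pYi : Yi ⟶ Y₀.obj) (qYi : Yi ⟶ D.obj i)
      (_ : IsPullback pYi qYi b₀ (D.map φ)) (pXi : Xi ⟶ X₀.obj) (_ : IsPullback pXi fi f₀ pYi),
      AlgSp.RepWith @IsClosedImmersion fi := by
  have hYalg : AlgSp.IsAlgSpace Y :=
    Groth.Agent.S9874.isAlgSpace_of_isPullback (hD i₀).diag Y₀.property
      (Groth.Agent.Lib.T2H1.LimAffine.isAlgSpace_pt D hDa c hc hD) hY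
  have hXalg : AlgSp.IsAlgSpace X :=
    Groth.Agent.S9874.isAlgSpace_of_isPullback Y₀.property.diag X₀.property hYalg hX
  have himm : AlgSp.RepWith @IsImmersion f :=
    ⟨hf.1, fun _ _ g fst snd sq => by
      have h1 : IsClosedImmersion snd.left := hf.2 g fst snd sq
      exact (inferInstance : IsImmersion snd.left)⟩
  have hmono : Mono f := Groth.Agent.S9928.result (X := ⟨X, hXalg⟩) (Y := ⟨Y, hYalg⟩)
    (ObjectProperty.homMk f) himm
  obtain ⟨i, φ, Hm⟩ := Groth.Agent.S10022.result S D hD hDa c hc i₀ hBqc hBqs X₀ Y₀ f₀ b₀ hXqc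
    hXqs hYqc hYqs X Y f pY qY hY pX hX hf₀
  have hYi := IsPullback.of_hasPullback b₀ (D.map φ)
  have hXi := IsPullback.of_hasPullback f₀ (pullback.fst b₀ (D.map φ))
  have hYialg : AlgSp.IsAlgSpace (pullback b₀ (D.map φ)) :=
    Groth.Agent.S9874.isAlgSpace_of_isPullback (hD i₀).diag Y₀.property (hD i) hYi
  have hXialg : AlgSp.IsAlgSpace (pullback f₀ (pullback.fst b₀ (D.map φ))) :=
    Groth.Agent.S9874.isAlgSpace_of_isPullback Y₀.property.diag X₀.property hYialg hXi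
  let Yis : AlgSp.Space S := ⟨pullback b₀ (D.map φ), hYialg⟩
  let Xis : AlgSp.Space S := ⟨pullback f₀ (pullback.fst b₀ (D.map φ)), hXialg⟩
  have haffY : AlgSp.IsAffineMor (pullback.fst b₀ (D.map φ)) :=
    Groth.Agent.Lib.T2H7.AffQcqs.isAffineMor_of_isPullback hYi.flip (hDa i i₀ φ)
  have haffX : AlgSp.IsAffineMor (pullback.fst f₀ (pullback.fst b₀ (D.map φ))) :=
    Groth.Agent.Lib.T2H7.AffQcqs.isAffineMor_of_isPullback hXi.flip haffY
  have hYiqc : AlgSp.IsQuasiCompactSp Yis.obj :=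
    Groth.Agent.Lib.T2H7.AffQcqs.isQuasiCompactSp_of_isAffineMor Yis Y₀ _ haffY hYqc
  have hYiqs : AlgSp.IsQuasiSeparatedSp Yis.obj :=
    Groth.Agent.Lib.T2H7.AffQcqs.isQuasiSeparatedSp_of_isAffineMor Yis Y₀ _ haffY hYqs
  have hXiqc : AlgSp.IsQuasiCompactSp Xis.obj :=
    Groth.Agent.Lib.T2H7.AffQcqs.isQuasiCompactSp_of_isAffineMor Xis X₀ _ haffX hXqc
  have hXiqs : AlgSp.IsQuasiSeparatedSp Xis.obj :=
    Groth.Agent.Lib.T2H7.AffQcqs.isQuasiSeparatedSp_of_isAffineMor Xis X₀ _ haffX hXqs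
  have hmono_i : Mono (pullback.snd f₀ (pullback.fst b₀ (D.map φ))) := Hm _ _ _ _ _ hYi _ hXi
  have hlft_i : AlgSp.LocP @LocallyOfFiniteType (pullback.snd f₀ (pullback.fst b₀ (D.map φ))) :=
    Groth.Agent.S9984.result @LocallyOfFiniteType (Or.inl rfl) (X := X₀) (Y := Y₀) (Y' := Yis)
      (X' := Xis) (ObjectProperty.homMk f₀) (ObjectProperty.homMk (pullback.fst b₀ (D.map φ)))
      (ObjectProperty.homMk (pullback.fst f₀ (pullback.fst b₀ (D.map φ))))
      (ObjectProperty.homMk (pullback.snd f₀ (pullback.fst b₀ (D.map φ)))) hXi hf₀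
  have h613 := (Groth.Agent.S10613.result (X := Xis) (Y := Yis)
    (ObjectProperty.homMk (pullback.snd f₀ (pullback.fst b₀ (D.map φ))))).2.2.2 ⟨hlft_i, hmono_i⟩
  have hrlft : AlgSp.RepWith @LocallyOfFiniteType
      (pullback.snd f₀ (pullback.fst b₀ (D.map φ))) :=
    (Groth.Agent.S9948.result @LocallyOfFiniteType (Or.inl rfl) (X := Xis) (Y := Yis)
      (ObjectProperty.homMk (pullback.snd f₀ (pullback.fst b₀ (D.map φ)))) h613.1).1 hlft_i
  obtain ⟨pY', pX', s1, s2, -, -⟩ := Groth.Agent.Lib.T2H7.LimRestart.exists_restart (D.map φ)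
    (c.π.app i) (c.π.app i₀) (c.w φ) f₀ b₀ hY hX
  have H2 := Groth.Agent.Lib.T2H7.LimDescRep.descend_closedImmersion_of_representable D hD hDa c hc
    i Xis Yis (pullback.snd f₀ (pullback.fst b₀ (D.map φ))) (pullback.snd b₀ (D.map φ))
    hXiqc hXiqs hYiqc hYiqs X Y f pY' qY s1 pX' s2 hf hrlft
  exact Groth.Agent.Lib.T2H7.LimRestart.restart_stage D φ f₀ b₀
    (AlgSp.RepWith @IsClosedImmersion) H2

end Groth.Agent.S10019
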