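import Groth.Statements.S10235
import Groth.Agent.Lib.T2H7GrpdQuotC
import Groth.Agent.Lib.Helper12QuotSh

set_option autoImplicit false
universe u
open CategoryTheory CategoryTheory.Limits AlgebraicGeometry Topology TopologicalSpace
open AlgSp

namespace Groth.Agent.S10235

/-- Let (U, R, s, t, c) be a groupoid scheme over a scheme S whose source and target maps s, t : R ⟶ U
are finite locally free and whose map j = (t, s) is an equivalence relation, and suppose that in
each nonempty closed subset of U one can find a point u such that some affine open of U contains the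
whole equivalence class t(s⁻¹{u}) of u. Then there are a scheme M over S and a finite locally free
morphism U ⟶ M over S such that the square with the two maps t, s : R ⟶ U over U ⟶ M is cartesian (R
= U ×_M U) and U ⟶ M exhibits h_M as the quotient of h_U by the pair h_R ⇉ h_U in the category of
fppf sheaves. -/
theorem result {S : Scheme.{u}} (G : Grpd.GroupoidScheme S)
    (hs : Mor2.IsFinLocFree G.s) (ht : Mor2.IsFinLocFree G.t)
    (heq : AlgSp.IsEqvRel (Over.homMk G.s G.s_over : Over.mk G.pR ⟶ Over.mk G.pU) (Over.homMk G.t G.t_over : Over.mk G.pR ⟶ Over.mk G.pU))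
    (h3 : ∀ Z : Set ↥G.U, IsClosed Z → Z.Nonempty →
      ∃ u ∈ Z, ∃ W : G.U.Opens, IsAffineOpen W ∧ ∀ r : ↥G.R, G.s r = u → G.t r ∈ W) :
    ∃ (M : Over S) (m : Over.mk G.pU ⟶ M), Mor2.IsFinLocFree m.left ∧ IsPullback G.t G.s m.left m.left ∧
      QuotSh.IsQuotient Scheme.fppfPrecoverage (Over.homMk G.s G.s_over : Over.mk G.pR ⟶ Over.mk G.pU) (Over.homMk G.t G.t_over : Over.mk G.pR ⟶ Over.mk G.pU) m := by
  obtain ⟨hs1, hs2, hs3⟩ := hs
  -- `j` is a monomorphism
  have hmono : Mono G.j := by
    constructor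
    intro T r r' hrr
    have h1 : r ≫ G.t = r' ≫ G.t := by
      have := congrArg (fun φ => φ ≫ pullback.fst G.pU G.pU) hrr
      simpa only [Category.assoc, Grpd.GroupoidScheme.j, pullback.lift_fst] using this
    have h2 : r ≫ G.s = r' ≫ G.s := by
      have := congrArg (fun φ => φ ≫ pullback.snd G.pU G.pU) hrr
      simpa only [Category.assoc, Grpd.GroupoidScheme.j, pullback.lift_snd] using this
    have hpR : r' ≫ G.pR = r ≫ G.pR := by
      rw [← G.t_over, ← Category.assoc, ← h1, Category.assoc]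
    let r₁ : Over.mk (r ≫ G.pR) ⟶ Over.mk G.pR := Over.homMk r rfl
    let r₂ : Over.mk (r ≫ G.pR) ⟶ Over.mk G.pR := Over.homMk r' hpR
    have := heq.injective (Over.mk (r ≫ G.pR)) r₁ r₂
      (by apply Over.OverMorphism.ext; exact h1)
      (by apply Over.OverMorphism.ext; exact h2)
    exact congrArg (fun φ => φ.left) this
  -- every point has an invariant affine open neighbourhood
  have hcov : ∀ u : G.U, ∃ W : Groth.Agent.Lib.T2H7.GrpdGlue.IAO G, u ∈ W.W := by
    by_contra hne
    set Z : Set G.U := {u | ¬ ∃ W : Groth.Agent.Lib.T2H7.GrpdGlue.IAO G, u ∈ W.W} with hZ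
    have hZc : IsClosed Z := by
      rw [← isOpen_compl_iff]
      have : Zᶜ = ⋃ W : Groth.Agent.Lib.T2H7.GrpdGlue.IAO G, (W.W : Set G.U) := by
        ext u
        simp only [hZ, Set.mem_compl_iff, Set.mem_ofPred_eq, not_not, Set.mem_iUnion,
          SetLike.mem_coe]
      rw [this]
      exact isOpen_iUnion (fun W => W.W.isOpen)
    have hZne : Z.Nonempty := by
      rw [not_forall] at hne
      obtain ⟨u, hu⟩ := hne
      exact ⟨u, hu⟩
    obtain ⟨u, huZ, V, hV, huV⟩ := h3 Z hZc hZne
    obtain ⟨W, hW, hu, hinv⟩ :=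
      Groth.Agent.Lib.T2H7.GrpdInv.exists_invariant_affine G u V hV huV
    exact huZ ⟨⟨W, hW, hinv⟩, hu⟩
  obtain ⟨m0, hm0, -⟩ := Groth.Agent.Lib.T2H7.GrpdQuot.existsUnique_desc hcov G.pU
    (by rw [G.s_over, G.t_over])
  have hpb := Groth.Agent.Lib.T2H7.GrpdQuot.isPullback_q_q hcov
  have hfin := Groth.Agent.Lib.T2H7.GrpdQuot.isFinite_q hcov
  have hflat := Groth.Agent.Lib.T2H7.GrpdQuot.flat_q hcov
  have hlfp := Groth.Agent.Lib.T2H7.GrpdQuot.lfp_q hcov
  have hsurj := Groth.Agent.Lib.T2H7.GrpdQuot.surjective_q hcov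
  refine ⟨Over.mk m0, Over.homMk (Groth.Agent.Lib.T2H7.GrpdGlue.q hcov) hm0,
    ⟨hfin, hflat, hlfp⟩, hpb, ?_⟩
  refine Groth.Agent.Lib.Helper12.QuotShLib.isQuotient_of_isKernelPair _ _ _ _ ?_ ?_
  · refine IsPullback.of_map (Over.forget S) ?_ ?_
    · apply Over.OverMorphism.ext
      simp only [Over.comp_left, Over.homMk_left]
      exact hpb.w.symm
    · exact hpb.flip
  · exact (Groth.Agent.Lib.T2H7.GrpdGlue.q hcov).singleton_mem_fppfPrecoverage

end Groth.Agent.S10235
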