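import Groth.Statements.S8691
import Groth.Agent.Lib.T2H7LamDiv

set_option autoImplicit false
universe u
open Finset
open LambdaRing

namespace Groth.Agent.S8691

open Groth.Agent.Lib.T2H7.LamDiv Groth.Agent.Lib.Helper4

/-- Let K be a λ-ring in the strict sense, d a natural number and N ∈ K with λ^i(N) = 0 for every i > d;
put λ_{−1}(N) = Σ_{i=0}^{d} (−1)^i λ^i(N). Then for every p ≥ 1 and every x ∈ K the element λ^p(x ·
λ_{−1}(N)) is divisible by λ_{−1}(N). (The published statement is for the λ-ring generated over the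
integers by N and x subject to λ^i(N) = 0 for i > d, a polynomial ring; the divisibility passes to
any λ-ring along the λ-homomorphism sending the generators to N and x, which is the substituted form
stated here.) The hypotheses hP and hQ, existence of the universal polynomials, are true statements
carried so that the identities of K can be used at every index. -/
theorem result (K : Type u) [CommRing K] [LambdaRing.LambdaOps K]
    (hK : LambdaRing.IsSpecial K)
    (hP : ∀ n : ℕ, ∃ P : MvPolynomial (Fin n ⊕ Fin n) ℤ, LambdaRing.IsMulPoly n P)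
    (hQ : ∀ i j : ℕ, ∃ Q : MvPolynomial (Fin (i * j)) ℤ, LambdaRing.IsCompPoly i j Q)
    (d : ℕ) (N : K) (hN : ∀ i : ℕ, d < i → LambdaRing.LambdaOps.lam i N = 0)
    (p : ℕ) (hp : 1 ≤ p) (x : K) :
    (∑ i ∈ range (d + 1), (-1 : K) ^ i * LambdaRing.LambdaOps.lam i N) ∣
      LambdaRing.LambdaOps.lam p (x * ∑ i ∈ range (d + 1), (-1 : K) ^ i * LambdaRing.LambdaOps.lam i N) := by
  classical
  choose Q hQ' using hQ
  set y := ∑ i ∈ range (d + 1), (-1 : K) ^ i * LambdaRing.LambdaOps.lam i N with hy
  have hdiv : ∀ k : ℕ, 1 ≤ k → y ∣ LambdaOps.lam k y := by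
    intro k hk
    obtain ⟨H, hH⟩ := Yuniv_dvd_coeff_Useries d Q hQ' k hk
    have h1 := map_evN_Useries d N hN hK Q hQ'
    have h2 : LambdaOps.lam k y = evN d N (PowerSeries.coeff k (Useries d Q)) := by
      have h3 := congrArg (PowerSeries.coeff k) h1
      rw [PowerSeries.coeff_map, coeff_lamSeries] at h3
      exact h3.symm
    rw [h2, hH, map_mul, evN_Yuniv d N hN]
    exact dvd_mul_right _ _
  obtain ⟨P, hP'⟩ := hP p
  rw [hK.lam_mul p P hP' x y]
  exact dvd_aeval_of_isMulPoly p hp P hP' _ _ y fun k => hdiv _ (by omega)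

end Groth.Agent.S8691
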