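import Groth.Statements.S10539
import Groth.Agent.Lib.T2H1AffDesc3
import Groth.Agent.Lib.Helper12Descent
import Groth.Agent.S9874

set_option autoImplicit false
universe u
open CategoryTheory CategoryTheory.Limits AlgebraicGeometry
open AlgSp

namespace Groth.Agent.S10539

/-- The property of morphisms of algebraic spaces over S given by f is integral (every base change to an
affine scheme is an affine scheme integral over it) is fpqc local on the base: for an fpqc covering
of an algebraic space Y by algebraic spaces Y_i, a morphism f : X ⟶ Y of algebraic spaces and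
cartesian squares X_i = Y_i ×_Y X, f has the property if and only if every X_i ⟶ Y_i has it. -/
theorem result (S : Scheme.{u}) :
    AlgSp.IsLocalOnBase (AlgSp.IsFpqcCover (S := S)) AlgSp.IsIntegralMor := by
  intro ι Y Yi g hY hYi hcov X f hX Xi p q hXi sq
  constructor
  · intro hf i Z hZ c
    obtain ⟨W, i', a, sqW, hW, hfin⟩ := hf hZ (c ≫ g i)
    have hw : a ≫ f = ((AlgSp.yon S).map i' ≫ c) ≫ g i := by rw [Category.assoc]; exact sqW.w
    refine ⟨W, i', (sq i).lift a ((AlgSp.yon S).map i' ≫ c) hw, ?_, hW, hfin⟩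
    refine IsPullback.of_right ?_ ((sq i).lift_snd _ _ _) (sq i)
    rw [(sq i).lift_fst]
    exact sqW
  · intro H Z hZ gZ
    have sqZ := IsPullback.of_hasPullback f gZ
    have hP₀ : AlgSp.IsAlgSpace (pullback f gZ) :=
      Groth.Agent.S9874.result S Y hY.1 ⟨X, hX⟩ ⟨(AlgSp.yon S).obj Z, AlgSp.IsAlgSpace.yon_obj Z⟩
        f gZ _ _ _ sqZ
    obtain ⟨m, Wj, c, hWa, hfl, hsurj, hl⟩ := hcov.2 Z hZ gZ
    have Hj : ∀ j : ULift.{u} (Fin m), ∃ (V : Over S) (v : V ⟶ Wj j.down)
        (a : (AlgSp.yon S).obj V ⟶ pullback f gZ),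
        IsPullback a ((AlgSp.yon S).map v) (pullback.snd f gZ) ((AlgSp.yon S).map (c j.down)) ∧
          IsAffine V.left ∧ IsIntegralHom v.left := by
      intro j
      obtain ⟨i, l, hl⟩ := hl j.down
      obtain ⟨V, v, a', sq', hV, hfin⟩ := H i (hWa j.down) l
      have big := sq'.paste_horiz (sq i)
      rw [hl] at big
      refine ⟨V, v, sqZ.lift (a' ≫ q i) ((AlgSp.yon S).map v ≫ (AlgSp.yon S).map (c j.down))
        (by rw [Category.assoc]; exact big.w), ?_, hV, hfin⟩
      refine IsPullback.of_right ?_ (sqZ.lift_snd _ _ _) sqZ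
      rw [sqZ.lift_fst]
      exact big
    choose V v a sqa hVa hvfin using Hj
    obtain ⟨W₀, i, q₀, hW₀, hq₀, hprop⟩ :=
      Groth.Agent.Lib.T2H1.AffDesc.exists_affine_of_standard_cover
      hP₀ hZ (pullback.snd f gZ) (fun j : ULift.{u} (Fin m) => Wj j.down) (fun j => c j.down)
      (fun j => hWa _) (fun j => hfl _)
      (fun z => by
        obtain ⟨j, hj⟩ := hsurj z
        exact ⟨⟨j⟩, hj⟩) V v a sqa hVa
    haveI := Groth.Agent.Lib.Helper12.descendsAlong_isIntegralHom.{u}
    refine ⟨W₀, i, q₀.inv ≫ pullback.fst f gZ, ?_, hW₀, hprop @IsIntegralHom hvfin⟩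
    refine IsPullback.of_iso sqZ q₀ (Iso.refl _) (Iso.refl _) (Iso.refl _) ?_ ?_ ?_ ?_
    · simp
    · rw [Iso.refl_hom, Category.comp_id, hq₀]
    · simp
    · simp

end Groth.Agent.S10539
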