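import Groth.Statements.S10394
import Mathlib
import Groth.Agent.S10338
import Groth.Agent.S10339
import Groth.Agent.S10340
import Groth.Agent.S10343
import Groth.Agent.S10177
import Groth.Agent.Lib.Helper14IrrComp
import Groth.Agent.Lib.T2H1IrrFlat2
import Groth.Agent.Lib.T2H1HasAt1
import Groth.Agent.Lib.T2H1StalkDim

set_option autoImplicit false
universe u
open CategoryTheory CategoryTheory.Limits AlgebraicGeometry Topology TopologicalSpace
open AlgSp

namespace Groth.Agent.S10394

/-- (1) ⇔ (4): let S be a scheme, X a decent algebraic space over S and x ∈ |X|. Then x is the generic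
point of some irreducible component of |X| if and only if the local ring of X at x has dimension
zero (x is a codimension 0 point of X). -/
theorem result {S : Scheme.{u}} (X : AlgSp.Space S)
    (hX : AlgSp.IsDecent X.obj) (x : AlgSp.Points X.obj) :
    (∃ T ∈ irreducibleComponents (AlgSp.Points X.obj), IsGenericPoint x T) ↔ AlgSp.HasAt (fun U u => ringKrullDim ↥(U.presheaf.stalk u) = 0) X.obj x := by
  have hqsob : QuasiSober (AlgSp.Points X.obj) := Groth.Agent.S10339.result X hX
  have ht0 : T0Space (AlgSp.Points X.obj) := Groth.Agent.S10338.result X hX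
  obtain ⟨U, p, hpe, hps⟩ := X.property.atlas
  obtain ⟨u, hu⟩ := Groth.Agent.S10177.surjective_ofPt p hps x
  have hiff : (∃ Z ∈ irreducibleComponents (AlgSp.Points X.obj), IsGenericPoint x Z) ↔
      closure ({x} : Set (AlgSp.Points X.obj)) ∈ irreducibleComponents (AlgSp.Points X.obj) := by
    constructor
    · rintro ⟨Z, hZ, hxZ⟩
      rw [hxZ.def]
      exact hZ
    · intro h
      exact ⟨_, h, rfl⟩
  rw [hiff, Groth.Agent.Lib.Helper14.closure_mem_irreducibleComponents_iff]
  constructor
  · intro hx
    refine ⟨U, p, u, hpe, hu, ?_⟩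
    change ringKrullDim ↥(U.left.presheaf.stalk u) = 0
    rw [Groth.Agent.Lib.T2H1.IrrFlat.ringKrullDim_stalk_eq_zero_iff]
    change closure ({u} : Set ↥U.left) ∈ irreducibleComponents ↥U.left
    rw [
      Groth.Agent.Lib.Helper14.closure_mem_irreducibleComponents_iff]
    intro u' hu'
    have h1 : AlgSp.Points.ofPt p u' ⤳ x := by
      rw [← hu]
      exact hu'.map (AlgSp.Points.continuous_ofPt p)
    have h2 := hx _ h1
    exact (Groth.Agent.S10340.result X hX p hpe u u' (by rw [hu, h2]) hu').symm
  · intro hx x' hx'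
    have hdim : ringKrullDim ↥(U.left.presheaf.stalk u) = 0 :=
      Groth.Agent.Lib.T2H1.HasAt.of_hasAt
        (Groth.Agent.Lib.T2H1.HasAt.etInv1_stalkDim (fun s => s = 0)) x hx p hpe u hu
    have hgen := (Groth.Agent.Lib.T2H1.IrrFlat.ringKrullDim_stalk_eq_zero_iff u).1 hdim
    obtain ⟨u', hu'u, hu'x⟩ := Groth.Agent.S10343.result X x x' hx' (hX x') p hpe u hu
    have := (Groth.Agent.Lib.Helper14.closure_mem_irreducibleComponents_iff u).1 hgen u' hu'u
    rw [← hu'x, this, hu]

end Groth.Agent.S10394
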