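import Groth.Statements.S18285
import Groth.Agent.Lib.T2H3MagnetDom

set_option autoImplicit false
set_option linter.style.haveILetI false
universe u
open CategoryTheory MonoidalCategory CartesianMonoidalCategory MonObj AlgebraicGeometry Opposite
open Magnet

namespace Groth.Agent.S18285

/-- Let X be an S-scheme separated over S with an action of the diagonalizable monoid scheme A(M)_S of a
commutative monoid M, and N a submonoid of M. Then the canonical map from the attractor X^N to X
(evaluation at the unit section of A(N)_S) is a monomorphism: for every S-scheme T it is injective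
on T-points. (The published statement allows X to be an algebraic space over S; here X is a scheme.) -/
theorem result (S : Scheme.{u}) (M : Type) [AddCommMonoid M]
    (X : Over S) [IsSeparated X.hom] (a : Magnet.MonAct (Magnet.AMonS S M) X) (N : AddSubmonoid M) (T : Over S) :
    Function.Injective (fun φ => (Magnet.attrToX a N).app (op T) φ) := by
  intro φ ψ hφψ
  apply Subtype.ext
  have hev : lift (toUnit T ≫ η[AMonS S N]) (𝟙 T) ≫ φ.1 =
      lift (toUnit T ≫ η[AMonS S N]) (𝟙 T) ≫ ψ.1 := hφψ
  have key : ∀ (χ : (attr a N).obj (op T)) (T' : Over S) (g : T' ⟶ AMonS S M) (t : T' ⟶ T),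
      lift g t ≫ (AMonS.map S N.subtype ▷ T) ≫ χ.1 =
        lift g (t ≫ lift (toUnit T ≫ η[AMonS S N]) (𝟙 T) ≫ χ.1) ≫ a.act := by
    intro χ T' g t
    have h := (MonAct.mem_eqvHom_iff χ.1).mp χ.2 T' g (1 : T' ⟶ AMonS S N) t
    unfold subAct at h
    rw [MonAct.lift_restrict_act, MonAct.lift_regular_act, _root_.mul_one] at h
    rw [lift_whiskerRight_assoc, h]
    congr 2
    rw [comp_lift_assoc, Category.comp_id, ← Category.assoc, toUnit_unique (t ≫ toUnit T) (toUnit T'),
      Hom.one_def]
  refine Groth.Agent.Lib.T2H3.MagnetDom.ext_of_AMonS_map S N.subtype N.subtype_injective T φ.1 ψ.1 ?_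
  apply Magnet.hom_ext_lift₂
  intro T' g t
  rw [key φ, key ψ, hev]

end Groth.Agent.S18285
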