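import Groth.Statements.S6883
import Groth.Agent.S6886
import Groth.Agent.Lib.T2H7FinFlatDesc

set_option autoImplicit false
universe u
open TensorProduct
open CAlg

namespace Groth.Agent.S6883

/-- For an injective ring map `R → S` between Noetherian rings making `S` a finite `R`-module, and an
`R`-module `M`, flatness of `S ⊗_R M` over `S` implies flatness of `M` over `R`. -/
theorem result (R S : Type u) [CommRing R] [IsNoetherianRing R]
    [CommRing S] [IsNoetherianRing S] [Algebra R S] [Module.Finite R S] (hinj : Function.Injective (algebraMap R S))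
    (M : Type u) [AddCommGroup M] [Module R M] [Module.Flat S (S ⊗[R] M)] : Module.Flat R M := by
  obtain ⟨R', _, _, hfin, hfree, hinj', n, d, α, φ, hφ, hP⟩ := Groth.Agent.S6886.result R S
  rcases subsingleton_or_nontrivial R' with hsub | hnt
  · have : Subsingleton R := hinj'.subsingleton
    have : Subsingleton M := Module.subsingleton R M
    infer_instance
  have hff : Module.FaithfullyFlat R R' := inferInstance
  let algS : Algebra S (R' ⊗[R] S) := Algebra.TensorProduct.rightAlgebra
  have hinjS' : Function.Injective (algebraMap R' (R' ⊗[R] S)) :=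
    Algebra.TensorProduct.includeLeft_injective (S := R) hinj
  have h1 : Module.Flat (R' ⊗[R] S) ((R' ⊗[R] S) ⊗[R] M) :=
    Groth.Agent.Lib.Helper5.flat_baseChange_of_flat_baseChange (A := R) (A₁ := S)
      (T := R' ⊗[R] S) M inferInstance
  have h2 : Module.Flat (R' ⊗[R] S) ((R' ⊗[R] S) ⊗[R'] (R' ⊗[R] M)) :=
    Groth.Agent.Lib.Helper5.flat_baseChange_baseChange_of_flat (A := R) (A₁ := R')
      (T := R' ⊗[R] S) M h1
  have hgen : Algebra.adjoin R' (Set.range fun i : Fin n => φ (MvPolynomial.X i)) = ⊤ := by
    have h3 : (Set.range fun i : Fin n => φ (MvPolynomial.X i)) =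
        φ '' (Set.range (MvPolynomial.X : Fin n → MvPolynomial (Fin n) R')) := by
      rw [← Set.range_comp]
      rfl
    rw [h3, ← AlgHom.map_adjoin, MvPolynomial.adjoin_range_X, Algebra.map_top,
      AlgHom.range_eq_top]
    exact hφ
  have hP' : ∀ i, ∏ j, (φ (MvPolynomial.X i) - algebraMap R' (R' ⊗[R] S) (α i j)) = 0 := by
    intro i
    rw [← hP i, map_prod]
    refine Finset.prod_congr rfl fun j _ => ?_
    rw [map_sub, ← MvPolynomial.algebraMap_eq, AlgHom.commutes]
  have h3 : Module.Flat R' (R' ⊗[R] M) :=
    Groth.Agent.Lib.T2H7.FinFlatDesc.flat_of_fg_split n R' (R' ⊗[R] S) hinjS'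
      (fun i => φ (MvPolynomial.X i)) hgen d α hP' (R' ⊗[R] M) h2
  exact Module.Flat.of_flat_tensorProduct R M R'

end Groth.Agent.S6883
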