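import Groth.Statements.S9869
import Groth.Agent.Lib.T2H1RepIso
import Groth.Agent.S9884

set_option autoImplicit false
universe u
open CategoryTheory CategoryTheory.Limits AlgebraicGeometry
open AlgSp

namespace Groth.Agent.S9869

/-- Let `s, t : R ⟶ U` be an etale equivalence relation on a scheme `U` over `S` and suppose that the
fppf quotient sheaf `U/R` is an algebraic space over `S`. Then the quotient map `h_U ⟶ U/R` is
representable etale and representable surjective, and `(U, R, h_U ⟶ U/R)` is a presentation of `U/R`
(in particular `h_R`, with `h_t` and `h_s`, is the fibre product `h_U ×_{U/R} h_U`). The quotient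
map is written on `h_U` through the canonical identification of `h_U` with the sheafified
representable presheaf. -/
theorem result (S : Scheme.{u}) {R U : Over S} (s t : R ⟶ U)
    (h : AlgSp.IsEtaleEqvRel s t) (hq : AlgSp.IsAlgSpace (QuotSh.quot Scheme.fppfPrecoverage s t)) :
    AlgSp.IsPresentation s t
      ((QuotSh.repIsoUliftYoneda Scheme.fppfPrecoverage U).inv ≫ QuotSh.quotπ Scheme.fppfPrecoverage s t) := by
  have sq := Groth.Agent.Lib.T2H1.RepIso.isPullback_yon_quotπ s t h.toIsEqvRel
  set p := (QuotSh.repIsoUliftYoneda Scheme.fppfPrecoverage U).inv ≫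
    QuotSh.quotπ Scheme.fppfPrecoverage s t with hp
  have hrep : AlgSp.Representable p := hq.representable_from_yon p
  haveI : Epi (QuotSh.quotπ Scheme.fppfPrecoverage s t) := by
    unfold QuotSh.quotπ
    exact coequalizer.π_epi
  haveI : Epi p := epi_comp _ _
  haveI : Sheaf.IsLocallySurjective p := (Sheaf.isLocallySurjective_iff_epi _).mpr inferInstance
  -- `s` is surjective since the relation is reflexive
  obtain ⟨e, he1, he2⟩ := (h.toIsEqvRel.equivalence U).refl (𝟙 U)
  have hsurj : Surjective s.left := by
    have h1 : e.left ≫ s.left = 𝟙 U.left := by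
      rw [← Over.comp_left, he2]; rfl
    refine ⟨fun x => ⟨e.left x, ?_⟩⟩
    rw [← Scheme.Hom.comp_apply, h1]
    rfl
  haveI := Groth.Agent.Lib.T2H1.RepIso.isLocalAtTarget_fppf_etale.{u}
  haveI := Groth.Agent.Lib.T2H1.RepIso.isLocalAtTarget_fppf_surjective.{u}
  refine ⟨h, ?_, ?_, sq⟩
  · exact Groth.Agent.S9884.result S _ _ _ p hrep p _ _ _ sq @Etale
      ((AlgSp.repWith_yon_map_iff _ _).2 h.etale_left)
  · exact Groth.Agent.S9884.result S _ _ _ p hrep p _ _ _ sq @Surjective
      ((AlgSp.repWith_yon_map_iff _ _).2 hsurj)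

end Groth.Agent.S9869
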