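import Groth.Statements.S17971
import Groth.Agent.S0521
import Mathlib
-- import your own Groth.Agent.* helpers here

set_option autoImplicit false
open CategoryTheory CategoryTheory.Limits AlgebraicGeometry
universe u
open Hensel

namespace Groth.Agent.S17971

/-- Clopen lifting property of a map of topological spaces. -/
def ClopenLift {P Y : Type*} [TopologicalSpace P] [TopologicalSpace Y] (p : P → Y) : Prop :=
  ∀ V : Set P, IsClopen V → ∃! U : Set Y, IsClopen U ∧ p ⁻¹' U = V

theorem clopenLift_of_homeo {P P' Y Y' : Type*} [TopologicalSpace P] [TopologicalSpace P']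
    [TopologicalSpace Y] [TopologicalSpace Y'] (e : P ≃ₜ P') (h : Y ≃ₜ Y') (p : P → Y) (p' : P' → Y')
    (hc : ∀ x, h (p x) = p' (e x)) (H : ClopenLift p) : ClopenLift p' := by
  intro V' hV'
  obtain ⟨U, ⟨hU, hpU⟩, huniq⟩ := H (e ⁻¹' V') (hV'.preimage e.continuous)
  refine ⟨h.symm ⁻¹' U, ⟨hU.preimage h.symm.continuous, ?_⟩, ?_⟩
  · ext x'
    obtain ⟨x, rfl⟩ := e.surjective x'
    have : h.symm (p' (e x)) = p x := by rw [← hc, h.symm_apply_apply]
    simp only [Set.mem_preimage, this]
    have := Set.ext_iff.mp hpU x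
    simpa using this
  · rintro U'' ⟨hU'', hpU''⟩
    have h1 : h ⁻¹' U'' = U := by
      apply huniq
      refine ⟨hU''.preimage h.continuous, ?_⟩
      ext x
      simp only [Set.mem_preimage, hc]
      have := Set.ext_iff.mp hpU'' (e x)
      simpa using this
    rw [← h1]
    ext y
    simp

theorem clopenLift_homeo_iff {P P' Y Y' : Type*} [TopologicalSpace P] [TopologicalSpace P']
    [TopologicalSpace Y] [TopologicalSpace Y'] (e : P ≃ₜ P') (h : Y ≃ₜ Y') (p : P → Y) (p' : P' → Y')
    (hc : ∀ x, h (p x) = p' (e x)) : ClopenLift p ↔ ClopenLift p' := by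
  refine ⟨clopenLift_of_homeo e h p p' hc, clopenLift_of_homeo e.symm h.symm p' p ?_⟩
  intro x'
  obtain ⟨x, rfl⟩ := e.surjective x'
  rw [← hc, h.symm_apply_apply, e.symm_apply_apply]

/-- For an embedding, the clopen lifting property only depends on the range. -/
theorem clopenLift_embedding_iff {P Y : Type*} [TopologicalSpace P] [TopologicalSpace Y]
    (p : P → Y) (hp : Topology.IsEmbedding p) :
    ClopenLift p ↔ ClopenLift (Subtype.val : Set.range p → Y) :=
  clopenLift_homeo_iff hp.toHomeomorph (Homeomorph.refl Y) p _ (fun _ => rfl)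

theorem clopenLift_image_iff {Y Y' : Type*} [TopologicalSpace Y] [TopologicalSpace Y']
    (h : Y ≃ₜ Y') (Z : Set Y) :
    ClopenLift (Subtype.val : Z → Y) ↔ ClopenLift (Subtype.val : (h '' Z) → Y') :=
  clopenLift_homeo_iff (h.image Z) h _ _ (fun _ => rfl)

theorem clopenLift_of_range_eq {P Q Y Y' : Type*} [TopologicalSpace P] [TopologicalSpace Q]
    [TopologicalSpace Y] [TopologicalSpace Y'] (p : P → Y) (hp : Topology.IsEmbedding p)
    (q : Q → Y') (hq : Topology.IsEmbedding q) (h : Y ≃ₜ Y') (hr : h '' Set.range p = Set.range q) :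
    ClopenLift p ↔ ClopenLift q := by
  rw [clopenLift_embedding_iff p hp, clopenLift_embedding_iff q hq, clopenLift_image_iff h, hr]

/-- Ring level: clopen lifting along `Spec C → Spec B` is bijectivity on idempotents. -/
theorem clopenLift_comap_iff {B C : Type*} [CommRing B] [CommRing C] (φ : B →+* C) :
    ClopenLift (PrimeSpectrum.comap φ) ↔
      Set.BijOn φ {e : B | IsIdempotentElem e} {e : C | IsIdempotentElem e} := by
  have nat : ∀ b : {e : B // IsIdempotentElem e},
      (PrimeSpectrum.comap φ) ⁻¹' (PrimeSpectrum.isIdempotentElemEquivClopens b : Set (PrimeSpectrum B)) =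
        (PrimeSpectrum.isIdempotentElemEquivClopens
          (⟨φ b.1, b.2.map φ⟩ : {e : C // IsIdempotentElem e}) : Set (PrimeSpectrum C)) := by
    intro b
    rw [PrimeSpectrum.coe_isIdempotentElemEquivClopens_apply,
      PrimeSpectrum.coe_isIdempotentElemEquivClopens_apply]
    ext x
    simp
  constructor
  · intro H
    refine ⟨fun b hb => hb.map φ, ?_, ?_⟩
    · intro b hb b' hb' hbb'
      let V : Set (PrimeSpectrum C) :=
        (PrimeSpectrum.isIdempotentElemEquivClopens
          (⟨φ b, hb.map φ⟩ : {e : C // IsIdempotentElem e}) : Set (PrimeSpectrum C))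
      have hV : IsClopen V := (PrimeSpectrum.isIdempotentElemEquivClopens _).isClopen
      obtain ⟨U, -, huniq⟩ := H V hV
      have h1 := huniq _ ⟨(PrimeSpectrum.isIdempotentElemEquivClopens ⟨b, hb⟩).isClopen, nat ⟨b, hb⟩⟩
      have h2 := huniq _ ⟨(PrimeSpectrum.isIdempotentElemEquivClopens ⟨b', hb'⟩).isClopen, by
        rw [nat ⟨b', hb'⟩]
        have : (⟨φ b', hb'.map φ⟩ : {e : C // IsIdempotentElem e}) = ⟨φ b, hb.map φ⟩ :=
          Subtype.ext hbb'.symm
        rw [this]⟩
      have h3 : PrimeSpectrum.isIdempotentElemEquivClopens (⟨b, hb⟩ : {e : B // IsIdempotentElem e}) =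
          PrimeSpectrum.isIdempotentElemEquivClopens ⟨b', hb'⟩ :=
        TopologicalSpace.Clopens.ext (h1.trans h2.symm)
      exact congrArg Subtype.val (PrimeSpectrum.isIdempotentElemEquivClopens.injective h3)
    · intro c hc
      let V : Set (PrimeSpectrum C) :=
        (PrimeSpectrum.isIdempotentElemEquivClopens
          (⟨c, hc⟩ : {e : C // IsIdempotentElem e}) : Set (PrimeSpectrum C))
      have hV : IsClopen V := (PrimeSpectrum.isIdempotentElemEquivClopens _).isClopen
      obtain ⟨U, ⟨hU, hUV⟩, -⟩ := H V hV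
      obtain ⟨b, hb⟩ := PrimeSpectrum.isIdempotentElemEquivClopens.surjective
        (⟨U, hU⟩ : TopologicalSpace.Clopens (PrimeSpectrum B))
      refine ⟨b.1, b.2, ?_⟩
      have h1 := nat b
      rw [hb] at h1
      have h2 : PrimeSpectrum.isIdempotentElemEquivClopens
          (⟨φ b.1, b.2.map φ⟩ : {e : C // IsIdempotentElem e}) =
          PrimeSpectrum.isIdempotentElemEquivClopens ⟨c, hc⟩ :=
        TopologicalSpace.Clopens.ext (h1.symm.trans hUV)
      exact congrArg Subtype.val (PrimeSpectrum.isIdempotentElemEquivClopens.injective h2)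
  · intro H V hV
    obtain ⟨c, hc⟩ := PrimeSpectrum.isIdempotentElemEquivClopens.surjective
      (⟨V, hV⟩ : TopologicalSpace.Clopens (PrimeSpectrum C))
    obtain ⟨b, hb, hbc⟩ := H.surjOn c.2
    refine ⟨(PrimeSpectrum.isIdempotentElemEquivClopens ⟨b, hb⟩ : Set (PrimeSpectrum B)),
      ⟨(PrimeSpectrum.isIdempotentElemEquivClopens ⟨b, hb⟩).isClopen, ?_⟩, ?_⟩
    · rw [nat ⟨b, hb⟩]
      have : (⟨φ b, hb.map φ⟩ : {e : C // IsIdempotentElem e}) = c := Subtype.ext hbc
      rw [this, hc]
      rfl
    · rintro U' ⟨hU', hU'V⟩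
      obtain ⟨b', hb'⟩ := PrimeSpectrum.isIdempotentElemEquivClopens.surjective
        (⟨U', hU'⟩ : TopologicalSpace.Clopens (PrimeSpectrum B))
      have h1 := nat b'
      rw [hb'] at h1
      have h2 : PrimeSpectrum.isIdempotentElemEquivClopens
          (⟨φ b'.1, b'.2.map φ⟩ : {e : C // IsIdempotentElem e}) = PrimeSpectrum.isIdempotentElemEquivClopens c := by
        rw [hc]
        exact TopologicalSpace.Clopens.ext (h1.symm.trans hU'V)
      have h3 : φ b'.1 = c.1 := congrArg Subtype.val (PrimeSpectrum.isIdempotentElemEquivClopens.injective h2)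
      have h4 : b'.1 = b := H.injOn b'.2 hb (h3.trans hbc.symm)
      have h5 : b' = ⟨b, hb⟩ := Subtype.ext h4
      rw [← h5, hb']
      rfl

theorem key {A : Type u} [CommRing A] (I : Ideal A) {Y : Scheme.{u}}
    (g : Y ⟶ Spec (CommRingCat.of A))
    {B : Type u} [CommRing B] (h : Y ≃ₜ PrimeSpectrum B) (ψ : A →+* B)
    (hg : ∀ y : Y, PrimeSpectrum.comap ψ (h y) = g y) :
    ClopenLift (pullback.fst g (Spec.map (CommRingCat.ofHom (Ideal.Quotient.mk I)))).base ↔
      Set.BijOn (Ideal.Quotient.mk (I.map ψ)) {e | IsIdempotentElem e} {e | IsIdempotentElem e} := by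
  rw [← clopenLift_comap_iff]
  have : IsClosedImmersion (Spec.map (CommRingCat.ofHom (Ideal.Quotient.mk I))) :=
    IsClosedImmersion.spec_of_surjective _ Ideal.Quotient.mk_surjective
  have hi : Set.range (Spec.map (CommRingCat.ofHom (Ideal.Quotient.mk I))) =
      PrimeSpectrum.zeroLocus (I : Set A) := by
    have := _root_.range_comap_of_surjective _ (Ideal.Quotient.mk I) Ideal.Quotient.mk_surjective
    rw [Ideal.mk_ker] at this
    exact this
  refine clopenLift_of_range_eq _
    (pullback.fst g (Spec.map (CommRingCat.ofHom (Ideal.Quotient.mk I)))).isClosedEmbedding.isEmbedding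
    _ (PrimeSpectrum.isClosedEmbedding_comap_of_surjective _ _ Ideal.Quotient.mk_surjective).isEmbedding
    h ?_
  rw [_root_.range_comap_of_surjective _ _ Ideal.Quotient.mk_surjective, Ideal.mk_ker]
  have hr := Scheme.Pullback.range_fst g (Spec.map (CommRingCat.ofHom (Ideal.Quotient.mk I)))
  rw [hi] at hr
  erw [hr]
  ext x
  obtain ⟨y, rfl⟩ := h.surjective x
  simp only [Set.mem_image, h.injective.eq_iff, exists_eq_right]
  have h1 : y ∈ ⇑g ⁻¹' PrimeSpectrum.zeroLocus (I : Set A) ↔
      PrimeSpectrum.comap ψ (h y) ∈ PrimeSpectrum.zeroLocus (I : Set A) := by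
    rw [hg y]; rfl
  rw [h1]
  simp only [PrimeSpectrum.mem_zeroLocus, SetLike.coe_subset_coe, PrimeSpectrum.comap_asIdeal]
  exact Ideal.map_le_iff_le_comap.symm

theorem hom_eq {A : Type u} [CommRing A] {Y : Scheme.{u}} (g : Y ⟶ Spec (CommRingCat.of A)) :
    Y.toSpecΓ ≫ Spec.map ((Scheme.ΓSpecIso (CommRingCat.of A)).inv ≫ g.appTop) = g := by
  rw [Spec.map_comp, ← Category.assoc, ← Scheme.toSpecΓ_naturality, Category.assoc,
    toSpecΓ_SpecMap_ΓSpecIso_inv, Category.comp_id]

/-- For a commutative ring A and an ideal I, the pair (A, I) is henselian if and only if the couple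
(Spec A, Spec (A/I)) is henselian, i.e. if and only if for every finite morphism g : Y ⟶ Spec A
every open-closed subset of Y ×_{Spec A} Spec (A/I) is the inverse image under the first projection
of exactly one open-closed subset of Y. -/
theorem result (A : Type u) [CommRing A] (I : Ideal A) :
    HenselianRing A I ↔
    ∀ (Y : Scheme.{u}) (g : Y ⟶ Spec (CommRingCat.of A)), IsFinite g →
      ∀ V : Set ↥(pullback g (Spec.map (CommRingCat.ofHom (Ideal.Quotient.mk I)))), IsClopen V →
        ∃! U : Set ↥Y, IsClopen U ∧ (pullback.fst g (Spec.map (CommRingCat.ofHom (Ideal.Quotient.mk I)))).base ⁻¹' U = V := by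
  rw [Groth.Agent.S0521.result]
  constructor
  · intro H Y g hg
    have : IsAffine Y := isAffine_of_isAffineHom g
    let ψ : A →+* Γ(Y, ⊤) := ((Scheme.ΓSpecIso (CommRingCat.of A)).inv ≫ g.appTop).hom
    have hψ : ψ.Finite := by
      have h1 : (g.appTop).hom.Finite := g.finite_appTop
      have h2 : ((Scheme.ΓSpecIso (CommRingCat.of A)).inv).hom.Finite :=
        RingHom.Finite.of_surjective _
          ((ConcreteCategory.bijective_of_isIso (Scheme.ΓSpecIso (CommRingCat.of A)).inv).2)
      exact h1.comp h2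
    letI : Algebra A Γ(Y, ⊤) := ψ.toAlgebra
    have hfin : Module.Finite A Γ(Y, ⊤) := hψ
    have hB := H Γ(Y, ⊤) hfin
    have := (key I g (Scheme.homeoOfIso Y.isoSpec) ψ ?_).mpr hB
    · exact this
    · intro y
      have h1 := hom_eq g
      have h2 : g y = (Y.toSpecΓ ≫ Spec.map ((Scheme.ΓSpecIso (CommRingCat.of A)).inv ≫ g.appTop)) y := by
        rw [h1]
      rw [h2]
      rfl
  · intro H B _ _ hfin
    have hg : IsFinite (Spec.map (CommRingCat.ofHom (algebraMap A B))) := by
      rw [IsFinite.SpecMap_iff]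
      exact RingHom.finite_algebraMap.mpr hfin
    have h1 := H (Spec (CommRingCat.of B)) (Spec.map (CommRingCat.ofHom (algebraMap A B))) hg
    exact (key I (Spec.map (CommRingCat.ofHom (algebraMap A B))) (Homeomorph.refl _) (algebraMap A B)
      (fun y => rfl)).mp h1

end Groth.Agent.S17971
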