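import Groth.Statements.S15044
import Groth.Agent.Lib.T2H9SyntSrc
import Groth.Agent.S18934
import Groth.Agent.Lib.Helper6SmSynt

set_option autoImplicit false
set_option linter.style.haveILetI false
open CategoryTheory AlgebraicGeometry
universe u
open Quiet

namespace Groth.Agent.S15044

theorem isSyntomic_of_isRootTower (p : ℕ) [Fact p.Prime] : ∀ (n : ℕ) (A B : Type u) [CommRing A]
    [CommRing B] [Algebra A B], Quiet.IsRootTower p n A B → Synt.IsSyntomic A B := by
  intro n
  induction n with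
  | zero =>
    intro A B _ _ _ h
    obtain ⟨e⟩ := h
    exact Groth.Agent.Lib.T2H9.SyntComp.isSyntomic_of_algEquiv A A B e.symm
      (Groth.Agent.Lib.T2H9.SyntComp.isSyntomic_self A)
  | succ n ih =>
    intro A B _ _ _ h
    obtain ⟨a, alg, tower, h'⟩ := h
    letI := alg
    haveI := tower
    exact Groth.Agent.Lib.T2H9.SyntComp.isSyntomic_comp A (Quiet.RootRing p A a) B
      (Groth.Agent.S18934.result p A a).1 (ih _ B h')

theorem isSyntomicMor_of_isPthRoot (p : ℕ) [Fact p.Prime] {Y X : Scheme.{u}} (r : Y ⟶ X)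
    (hr : Quiet.IsPthRoot p r) : Synt.IsSyntomicMor r := by
  intro v
  obtain ⟨U, hxU, haff, hn⟩ := hr (r v)
  refine ⟨⟨r ⁻¹ᵁ U.1, haff⟩, U, le_rfl, hxU, ?_⟩
  show @Synt.IsSyntomic Γ(X, U.1) _ Γ(Y, r ⁻¹ᵁ U.1) _ (r.appLE U.1 (r ⁻¹ᵁ U.1) le_rfl).hom.toAlgebra
  rw [Scheme.Hom.appLE_eq_app]
  letI := (r.app U.1).hom.toAlgebra
  obtain ⟨n, hn'⟩ := hn
  exact isSyntomic_of_isRootTower p n _ _ hn'

/-- Over a scheme `X` of prime characteristic `p`, a quasi-etale morphism `f : Y ⟶ X` (locally on the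
source an extraction of `p`-th roots followed by an etale morphism) is syntomic: every point of `Y`
has an affine open neighbourhood mapping into an affine open of `X` such that the induced ring map
is flat, finitely presented and has local complete intersection fibres. -/
theorem result (p : ℕ) [Fact p.Prime] {X Y : Scheme.{u}} [FrobSch.IsCharP X p]
    (f : Y ⟶ X) (hf : Quiet.IsQuiet p f) : Synt.IsSyntomicMor f := by
  apply Groth.Agent.Lib.T2H9.SyntSrc.isSyntomicMor_of_forall_exists_open
  intro y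
  obtain ⟨V, Y', r, e, hy, hr, he, hfac⟩ := hf y
  refine ⟨V, hy, ?_⟩
  rw [← hfac]
  haveI := he
  exact Groth.Agent.Lib.T2H9.SyntSrc.isSyntomicMor_comp r e (isSyntomicMor_of_isPthRoot p r hr)
    (Groth.Agent.Lib.Helper6.SmSynt.isSyntomicMor_of_smooth e)

end Groth.Agent.S15044
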