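import Groth.Statements.S9363
import Groth.Agent.Lib.T2H9SyntMor

set_option autoImplicit false
set_option linter.style.haveILetI false
universe u
open Synt

namespace Groth.Agent.S9363

open AlgebraicGeometry CategoryTheory in
/-- f : X → S is syntomic if and only if, for every affine open V of S and every affine open U of X
mapped into V, the induced map O_S(V) → O_X(U) makes O_X(U) a syntomic algebra over O_S(V). -/
theorem result {X S : Scheme.{u}} (f : X ⟶ S) :
    Synt.IsSyntomicMor f ↔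
      ∀ (U : X.affineOpens) (V : S.affineOpens) (e : U.1 ≤ f ⁻¹ᵁ V.1),
        letI := (f.appLE V.1 U.1 e).hom.toAlgebra
        Synt.IsSyntomic Γ(S, V.1) Γ(X, U.1) := by
  constructor
  · intro h U V e
    obtain ⟨hfl, hfp, hc⟩ := (Groth.Agent.Lib.T2H9.SyntMor.isSyntomicMor_iff_isCIMorphism f).mp h
    haveI := hfl
    haveI := hfp
    refine (Groth.Agent.Lib.T2H9.SyntMor.isSyntomic_appLE_iff f U.2 V.2 e).mpr
      ⟨Flat.flat_appLE f V.2 U.2 e,
        LocallyOfFinitePresentation.finitePresentation_appLE f V.2 U.2 e, fun x' _ => ?_⟩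
    haveI := Groth.Agent.Lib.T2H9.CIComp.isNoetherianRing_fiberStalk f x'
      (LocallyOfFiniteType.stalkMap f x')
    exact (Groth.Agent.Lib.T2H9.CIBaseChange.pci_iff _).mpr (hc x')
  · intro h x
    obtain ⟨V, hV, hfx, -⟩ := TopologicalSpace.Opens.isBasis_iff_nbhd.mp S.isBasis_affineOpens
      (TopologicalSpace.Opens.mem_top (f x))
    obtain ⟨U, hU, hx, e⟩ := TopologicalSpace.Opens.isBasis_iff_nbhd.mp X.isBasis_affineOpens
      (show x ∈ f ⁻¹ᵁ V from hfx)
    exact ⟨⟨U, hU⟩, ⟨V, hV⟩, e, hx, h ⟨U, hU⟩ ⟨V, hV⟩ e⟩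

end Groth.Agent.S9363
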