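import Groth.Statements.S9150
import Groth.Agent.Lib.T2H7SyntO

set_option autoImplicit false
universe u
open Synt

namespace Groth.Agent.S9150

/-- Let I be an ideal of a ring R and S̄ an R-algebra killed by I which is syntomic over R/I. Then S̄ is
covered by finitely many basic opens S̄_g each isomorphic, as an R-algebra, to S/IS for some
relative global complete intersection S over R. -/
theorem result (R : Type u) [CommRing R] (I : Ideal R) (Sb : Type u) [CommRing Sb]
    [Algebra R Sb] [Algebra (R ⧸ I) Sb] [IsScalarTower R (R ⧸ I) Sb] (h : Synt.IsSyntomic (R ⧸ I) Sb) :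
    ∃ s : Finset Sb, Ideal.span (s : Set Sb) = ⊤ ∧ ∀ g ∈ s,
      ∃ (n c : ℕ) (F : Fin c → MvPolynomial (Fin n) R), Synt.IsRelGCI R n c F ∧
        Nonempty (Localization.Away g ≃ₐ[R]
          (Synt.RelGCIRing R n c F ⧸ I.map (algebraMap R (Synt.RelGCIRing R n c F)))) := by
  classical
  have hloc : ∀ q : Ideal Sb, q.IsPrime → ∃ g : Sb, g ∉ q ∧
      ∃ (n c : ℕ) (F : Fin c → MvPolynomial (Fin n) R), Synt.IsRelGCI R n c F ∧
        Nonempty (Localization.Away g ≃ₐ[R]
          (Synt.RelGCIRing R n c F ⧸ I.map (algebraMap R (Synt.RelGCIRing R n c F)))) := by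
    intro q hq
    obtain ⟨g, hg, n, c, Fb, hcn, hrel, ⟨e'⟩⟩ :=
      Groth.Agent.Lib.T2H7.SyntL.exists_relGCI_away_of_isSyntomic Sb h q
    choose F hF using fun i => MvPolynomial.map_surjective (Ideal.Quotient.mk I)
      Ideal.Quotient.mk_surjective (Fb i)
    have hFb : Groth.Agent.Lib.T2H7.SyntM.redF F I = Fb := funext hF
    subst hFb
    have e : Localization.Away g ≃ₐ[R ⧸ I] (MvPolynomial (Fin n) (R ⧸ I) ⧸
        Ideal.span (Set.range (Groth.Agent.Lib.T2H7.SyntM.redF F I))) := e'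
    obtain ⟨h', h1, h2⟩ := Groth.Agent.Lib.T2H7.SyntN.exists_away_isRelGCI_of_mod_ideal F I hrel
    obtain ⟨e5⟩ := Groth.Agent.Lib.T2H7.SyntO.nonempty_quotient_algEquiv F I h' h1
    refine ⟨g, hg, n + 1, c + 1, Groth.Agent.Lib.T2H7.SyntI.snocF F h', h2, ⟨?_⟩⟩
    exact (e.restrictScalars R).trans e5.symm
  set G : Set Sb := {g | ∃ (n c : ℕ) (F : Fin c → MvPolynomial (Fin n) R), Synt.IsRelGCI R n c F ∧
        Nonempty (Localization.Away g ≃ₐ[R]
          (Synt.RelGCIRing R n c F ⧸ I.map (algebraMap R (Synt.RelGCIRing R n c F))))} with hG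
  have hspan : Ideal.span G = ⊤ := by
    by_contra hne
    obtain ⟨𝔪, h𝔪, hle⟩ := Ideal.exists_le_maximal _ hne
    obtain ⟨g, hg, hgG⟩ := hloc 𝔪 h𝔪.isPrime
    exact hg (hle (Ideal.subset_span hgG))
  obtain ⟨s, hsG, hs⟩ := (Ideal.span_eq_top_iff_finite G).mp hspan
  exact ⟨s, hs, fun g hg => hsG hg⟩

end Groth.Agent.S9150
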