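import Groth.Statements.S2218
import Mathlib

set_option autoImplicit false
universe u v
open Disc

namespace Groth.Agent.S2218

theorem isAssoc_iff' {R : Type*} {M : Type*} [CommRing R] [IsNoetherianRing R] [AddCommGroup M]
    [Module R M] (I : Ideal R) :
    IsAssociatedPrime I M ↔ I.IsPrime ∧ ∃ x : M, ∀ r, r ∈ I ↔ r • x = 0 := by
  rw [isAssociatedPrime_iff]
  constructor
  · rintro ⟨h, x, hx⟩
    refine ⟨h, x, fun r => ?_⟩
    rw [hx, Submodule.mem_colon_singleton, Submodule.mem_bot]
  · rintro ⟨h, x, hx⟩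
    refine ⟨h, x, Ideal.ext fun r => ?_⟩
    rw [hx r, Submodule.mem_colon_singleton, Submodule.mem_bot]

theorem omega_smul_eq_zero_iff {A : Type*} {B : Type*} [CommRing A] [CommRing B] [Algebra A B]
    (b : B) (φ : Disc.Omega A B) :
    b • φ = 0 ↔ ∀ x, φ.toLinearMap (b * x) = 0 := by
  constructor
  · intro h x
    have h2 : (b • φ).toLinearMap x = (0 : Disc.Omega A B).toLinearMap x := by rw [h]
    simpa using h2
  · intro h
    ext x
    exact h x

theorem dir1 {A : Type*} {B : Type*} [CommRing A] [CommRing B] [Algebra A B]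
    [IsNoetherianRing A] [IsNoetherianRing B] [Module.Finite A B]
    (q : Ideal B) (hq : q ∈ associatedPrimes B (Disc.Omega A B)) :
    q.IsPrime ∧ q.comap (algebraMap A B) ∈ associatedPrimes A A := by
  rw [AssociatedPrimes.mem_iff, isAssoc_iff'] at hq
  obtain ⟨hqp, φ, hφ⟩ := hq
  refine ⟨hqp, ?_⟩
  rw [AssociatedPrimes.mem_iff, isAssoc_iff']
  have hpp : (q.comap (algebraMap A B)).IsPrime := Ideal.IsPrime.comap _
  refine ⟨hpp, ?_⟩
  obtain ⟨S, hS⟩ := (Module.Finite.fg_top : (⊤ : Submodule A B).FG)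
  have key : ∀ x : A, x ∈ q.comap (algebraMap A B) ↔ ∀ y : B, x * φ.toLinearMap y = 0 := by
    intro x
    rw [Ideal.mem_comap, hφ, omega_smul_eq_zero_iff]
    refine forall_congr' fun y => ?_
    rw [← Algebra.smul_def, map_smul, smul_eq_mul]
  have key2 : ∀ x : A, (∀ y ∈ S, x * φ.toLinearMap y = 0) →
      ∀ y : B, x * φ.toLinearMap y = 0 := by
    intro x hx y
    have hy : y ∈ Submodule.span A (S : Set B) := by rw [hS]; trivial
    refine Submodule.span_induction (p := fun y _ => x * φ.toLinearMap y = 0) ?_ ?_ ?_ ?_ hy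
    · intro z hz; exact hx z hz
    · simp
    · intro u v _ _ hu hv; rw [map_add, mul_add, hu, hv, add_zero]
    · intro r u _ hu; rw [map_smul, smul_eq_mul, mul_left_comm, hu, mul_zero]
  let f : B → Ideal A := fun y => LinearMap.ker (LinearMap.toSpanSingleton A A (φ.toLinearMap y))
  have hf : ∀ y (x : A), x ∈ f y ↔ x * φ.toLinearMap y = 0 := by
    intro y x
    simp only [f, LinearMap.mem_ker, LinearMap.toSpanSingleton_apply, smul_eq_mul]
  have hle : S.inf f ≤ q.comap (algebraMap A B) := by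
    intro x hx
    rw [key]
    refine key2 x (fun y hy => ?_)
    rw [← hf]
    exact (Finset.inf_le hy : S.inf f ≤ f y) hx
  obtain ⟨y, hyS, hy⟩ := (Ideal.IsPrime.inf_le' hpp).mp hle
  refine ⟨φ.toLinearMap y, fun x => ⟨fun hx => ?_, fun hx => ?_⟩⟩
  · rw [smul_eq_mul]; exact (key x).mp hx y
  · exact hy ((hf y x).mpr (by rwa [smul_eq_mul] at hx))

theorem exists_functional {D : Type*} {C : Type*} [CommRing D] [IsDomain D] [IsNoetherianRing D]
    [AddCommGroup C] [Module D C] [Module.Finite D C]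
    (c : C) (hc : ∀ d : D, d • c = 0 → d = 0) :
    ∃ ψ : C →ₗ[D] D, ψ c ≠ 0 := by
  classical
  have hv : (LocalizedModule.mkLinearMap (nonZeroDivisors D) C c) ≠ 0 := by
    intro h
    rw [LocalizedModule.mkLinearMap_apply, ← LocalizedModule.zero_mk (1 : nonZeroDivisors D)] at h
    obtain ⟨u, hu⟩ := LocalizedModule.mk_eq.mp h
    simp only [one_smul, smul_zero] at hu
    exact nonZeroDivisors.coe_ne_zero u (hc (u : D) hu)
  obtain ⟨ℓ, hℓ⟩ : ∃ ℓ : Module.Dual (FractionRing D) (LocalizedModule (nonZeroDivisors D) C),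
      ℓ (LocalizedModule.mkLinearMap (nonZeroDivisors D) C c) ≠ 0 := by
    by_contra hcon
    push Not at hcon
    exact hv ((Module.forall_dual_apply_eq_zero_iff (FractionRing D) _).mp hcon)
  obtain ⟨g, hg⟩ : ∃ g : C →ₗ[D] FractionRing D, g c ≠ 0 :=
    ⟨(ℓ.restrictScalars D) ∘ₗ LocalizedModule.mkLinearMap (nonZeroDivisors D) C, hℓ⟩
  haveI : Module.FinitePresentation D C := Module.finitePresentation_of_finite D C
  obtain ⟨h, s, hs⟩ := Module.FinitePresentation.exists_lift_of_isLocalizedModule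
    (nonZeroDivisors D) (Algebra.linearMap D (FractionRing D)) g
  refine ⟨h, fun h0 => ?_⟩
  have h1 := LinearMap.congr_fun hs c
  rw [LinearMap.comp_apply, h0, map_zero, LinearMap.smul_apply] at h1
  have h2 := h1.symm
  rw [Submonoid.smul_def, Algebra.smul_def] at h2
  rcases mul_eq_zero.mp h2 with h3 | h3
  · exact nonZeroDivisors.coe_ne_zero s
      ((map_eq_zero_iff _ (IsFractionRing.injective D (FractionRing D))).mp h3)
  · exact hg h3

theorem dir2 {A : Type*} {B : Type*} [CommRing A] [CommRing B] [Algebra A B]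
    [IsNoetherianRing A] [IsNoetherianRing B] [Module.Finite A B]
    (q : Ideal B) (hqp : q.IsPrime) (hq : q.comap (algebraMap A B) ∈ associatedPrimes A A) :
    q ∈ associatedPrimes B (Disc.Omega A B) := by
  rw [AssociatedPrimes.mem_iff, isAssoc_iff'] at hq ⊢
  obtain ⟨hpp, a, ha⟩ := hq
  refine ⟨hqp, ?_⟩
  haveI := hqp
  haveI hfin : Module.Finite (A ⧸ q.comap (algebraMap A B)) (B ⧸ q) :=
    Module.Finite.of_restrictScalars_finite A _ _
  have hinj : Function.Injective (algebraMap (A ⧸ q.comap (algebraMap A B)) (B ⧸ q)) :=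
    Ideal.algebraMap_quotient_injective
  obtain ⟨ψ, hψ⟩ := exists_functional (D := A ⧸ q.comap (algebraMap A B)) (C := B ⧸ q) 1 (by
    intro d hd
    rw [Algebra.smul_def, mul_one] at hd
    exact (map_eq_zero_iff _ hinj).mp hd)
  have hker : (q.comap (algebraMap A B) : Submodule A A) ≤
      LinearMap.ker (LinearMap.toSpanSingleton A A a) := by
    intro x hx
    rw [LinearMap.mem_ker, LinearMap.toSpanSingleton_apply]
    exact (ha x).mp hx
  have hker' : LinearMap.ker (LinearMap.toSpanSingleton A A a) ≤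
      (q.comap (algebraMap A B) : Submodule A A) := by
    intro x hx
    rw [LinearMap.mem_ker, LinearMap.toSpanSingleton_apply] at hx
    exact (ha x).mpr hx
  obtain ⟨ι, hι⟩ : ∃ ι : (A ⧸ q.comap (algebraMap A B)) →ₗ[A] A, Function.Injective ι :=
    ⟨Submodule.liftQ _ _ hker, LinearMap.ker_eq_bot.mp (Submodule.ker_liftQ_eq_bot _ _ hker hker')⟩
  obtain ⟨φ₀, hφ₀⟩ : ∃ φ₀ : B →ₗ[A] A, ∀ b, φ₀ b = ι (ψ (Ideal.Quotient.mk q b)) :=
    ⟨ι ∘ₗ (ψ.restrictScalars A) ∘ₗ (Ideal.Quotient.mkₐ A q).toLinearMap, fun b => rfl⟩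
  refine ⟨⟨φ₀⟩, fun b => ?_⟩
  rw [omega_smul_eq_zero_iff]
  constructor
  · intro hb x
    show φ₀ (b * x) = 0
    rw [hφ₀, map_mul, Ideal.Quotient.eq_zero_iff_mem.mpr hb, zero_mul, map_zero, map_zero]
  · intro hb
    by_contra hbq
    have hb' : ∀ x : B, ψ (Ideal.Quotient.mk q (b * x)) = 0 := by
      intro x
      have h1 : φ₀ (b * x) = 0 := hb x
      rw [hφ₀] at h1
      exact hι (h1.trans (map_zero ι).symm)
    have hc0 : Ideal.Quotient.mk q b ≠ 0 := fun h => hbq (Ideal.Quotient.eq_zero_iff_mem.mp h)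
    have hint : IsIntegral (A ⧸ q.comap (algebraMap A B)) (Ideal.Quotient.mk q b) :=
      Algebra.IsIntegral.isIntegral _
    have hne := Ideal.comap_ne_bot_of_integral_mem (R := A ⧸ q.comap (algebraMap A B)) hc0
      (Ideal.mem_span_singleton_self _) hint
    obtain ⟨d, hd, hd0⟩ := Submodule.exists_mem_ne_zero_of_ne_bot hne
    rw [Ideal.mem_comap] at hd
    obtain ⟨y, hy⟩ := Ideal.mem_span_singleton'.mp hd
    obtain ⟨y', rfl⟩ := Ideal.Quotient.mk_surjective y
    have h2 : ψ (algebraMap _ _ d) = 0 := by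
      rw [← hy, ← map_mul, mul_comm]
      exact hb' y'
    rw [Algebra.algebraMap_eq_smul_one, map_smul, smul_eq_mul] at h2
    rcases mul_eq_zero.mp h2 with h3 | h3
    · exact hd0 h3
    · exact hψ h3


/-- Special case: A -> B finite (the source allows quasi-finite maps). For a finite map of Noetherian
rings and omega = Hom_A(B, A) with its B-module structure through the argument, the associated
primes of the B-module omega are exactly the primes of B whose contraction to A is an associated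
prime of A. -/
theorem result {A : Type u} {B : Type v} [CommRing A] [CommRing B]
    [Algebra A B] [IsNoetherianRing A] [IsNoetherianRing B] [Module.Finite A B] :
    associatedPrimes B (Disc.Omega A B) =
      {q : Ideal B | q.IsPrime ∧ q.comap (algebraMap A B) ∈ associatedPrimes A A} := by
  ext q
  constructor
  · intro hq
    exact dir1 q hq
  · rintro ⟨hqp, hq⟩
    exact dir2 q hqp hq

end Groth.Agent.S2218
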