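import Groth.Statements.S11527
import Groth.Agent.Lib.T2H8RPowFP

set_option autoImplicit false
universe u
open AdicRing

namespace Groth.Agent.S11527

/-- Let R be a base ring of class (N) or (V) for the ideal I, A an R-algebra topologically of finite
type, M a finite A-module and N a submodule of M which is saturated with respect to I: every element
x of M with I^n x contained in N for some n already lies in N. Then N is finitely generated. -/
theorem result
    (R : Type u) [CommRing R] (I : Ideal R) (hR : AdicRing.IsBase R I)
    (A : Type u) [CommRing A] [Algebra R A] (hA : AdicRing.TopFiniteType R I A)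
    (M : Type u) [AddCommGroup M] [Module A M] [Module R M] [IsScalarTower R A M]
    [Module.Finite A M] (N : Submodule A M)
    (hsat : ∀ (x : M) (n : ℕ), (∀ a ∈ I ^ n, a • x ∈ N) → x ∈ N) :
    N.FG := by
  obtain ⟨n, φ, hφ⟩ := hA
  letI : Algebra (AdicRing.RPow R I n) A := φ.toRingHom.toAlgebra
  haveI : IsScalarTower R (AdicRing.RPow R I n) A :=
    IsScalarTower.of_algebraMap_eq (fun r => (φ.commutes r).symm)
  letI : Module (AdicRing.RPow R I n) M := Module.compHom M (algebraMap (AdicRing.RPow R I n) A)
  haveI : IsScalarTower (AdicRing.RPow R I n) A M :=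
    IsScalarTower.of_algebraMap_smul (fun r x => rfl)
  haveI : IsScalarTower R (AdicRing.RPow R I n) M := ⟨fun r p x => by
    show algebraMap _ A (r • p) • x = r • (algebraMap _ A p • x)
    rw [Algebra.smul_def, map_mul, ← IsScalarTower.algebraMap_apply, mul_smul, algebraMap_smul]⟩
  haveI : Module.Finite (AdicRing.RPow R I n) A :=
    Module.Finite.of_surjective (Algebra.linearMap _ A) hφ
  haveI : Module.Finite (AdicRing.RPow R I n) M := Module.Finite.trans A M
  have hQ : AdicRing.NoPowTorsion I (M ⧸ N.restrictScalars (AdicRing.RPow R I n)) := by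
    intro x k hx
    obtain ⟨x, rfl⟩ := Submodule.Quotient.mk_surjective _ x
    rw [Submodule.Quotient.mk_eq_zero]
    apply hsat x k
    intro a ha
    have h1 := hx a ha
    rw [← Submodule.Quotient.mk_smul, Submodule.Quotient.mk_eq_zero] at h1
    exact h1
  haveI := Groth.Agent.Lib.T2H8.RPowFP.fp_of_isBase I hR n
    (M ⧸ N.restrictScalars (AdicRing.RPow R I n)) hQ
  have hker := Module.FinitePresentation.fg_ker
    (N.restrictScalars (AdicRing.RPow R I n)).mkQ (Submodule.mkQ_surjective _)
  rw [Submodule.ker_mkQ] at hker
  exact Submodule.FG.of_restrictScalars (AdicRing.RPow R I n) hker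

end Groth.Agent.S11527
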