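import Groth.Statements.S11528
import Groth.Agent.Lib.T2H8RPowSat
import Groth.Agent.S11527

set_option autoImplicit false
universe u
open AdicRing

namespace Groth.Agent.S11528

/-- Let R be a base ring of class (N) or (V) for the ideal I, A an R-algebra topologically of finite
type, M a finite A-module and N a submodule of M. Then for some n₀ and all m, the intersection of
I^(m+n₀) M with N lies in I^m N. (The published statement asserts only that the I-adic topology of M
induces that of N; this row states the uniform form: for some n₀ and all m, I^(m+n₀) M ∩ N lies in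
I^m N.) -/
theorem result
    (R : Type u) [CommRing R] (I : Ideal R) (hR : AdicRing.IsBase R I)
    (A : Type u) [CommRing A] [Algebra R A] (hA : AdicRing.TopFiniteType R I A)
    (M : Type u) [AddCommGroup M] [Module A M] [Module R M] [IsScalarTower R A M]
    [Module.Finite A M] (N : Submodule A M) :
    ∃ n₀ : ℕ, ∀ m : ℕ,
      (I ^ (m + n₀) • (⊤ : Submodule R M)) ⊓ N.restrictScalars R ≤ I ^ m • N.restrictScalars R := by
  obtain ⟨hc, hN | ⟨hdom, hval, hdim, t, ht0, rfl⟩⟩ := hR
  · obtain ⟨hN, -⟩ := hN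
    haveI := hN
    haveI := Groth.Agent.Lib.T2H8.RPowUse.isNoetherianRing_of_tft I A hA
    obtain ⟨k, hk⟩ := Ideal.exists_pow_inf_eq_pow_smul (I.map (algebraMap R A)) N
    refine ⟨k, fun m => ?_⟩
    have h1 := hk (m + k) (Nat.le_add_left k m)
    rw [Nat.add_sub_cancel] at h1
    have e1 : ∀ j : ℕ, (((I.map (algebraMap R A)) ^ j • (⊤ : Submodule A M)).restrictScalars R) =
        I ^ j • (⊤ : Submodule R M) := by
      intro j
      rw [← Ideal.map_pow, Ideal.smul_restrictScalars, Submodule.restrictScalars_top]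
    have e2 : ∀ j : ℕ, (((I.map (algebraMap R A)) ^ j • N).restrictScalars R) =
        I ^ j • N.restrictScalars R := by
      intro j
      rw [← Ideal.map_pow, Ideal.smul_restrictScalars]
    rintro x ⟨hx1, hx2⟩
    rw [SetLike.mem_coe, ← e1] at hx1
    rw [← e2]
    have hx1' : x ∈ (I.map (algebraMap R A)) ^ (m + k) • (⊤ : Submodule A M) :=
      (Submodule.restrictScalars_mem R _ x).mp hx1
    have hx2' : x ∈ N := (Submodule.restrictScalars_mem R N x).mp hx2
    have hx3 : x ∈ (I.map (algebraMap R A)) ^ (m + k) • (⊤ : Submodule A M) ⊓ N :=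
      Submodule.mem_inf.mpr ⟨hx1', hx2'⟩
    rw [h1] at hx3
    have hx4 : x ∈ (I.map (algebraMap R A)) ^ m • N :=
      Submodule.smul_mono le_rfl inf_le_right hx3
    exact (Submodule.restrictScalars_mem R _ x).mpr hx4
  · have hR' : AdicRing.IsBase R (Ideal.span {t}) := ⟨hc, Or.inr ⟨hdom, hval, hdim, t, ht0, rfl⟩⟩
    obtain ⟨n₀, hn₀⟩ := Groth.Agent.Lib.T2H8.RPowSat.exists_pow_smul_mem_of_fg t N
      (Groth.Agent.S11527.result R _ hR' A hA M (Groth.Agent.Lib.T2H8.RPowSat.sat t N)
        (Groth.Agent.Lib.T2H8.RPowSat.sat_saturated t N))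
    refine ⟨n₀, fun m => ?_⟩
    rintro x ⟨hx1, hx2⟩
    obtain ⟨y, rfl⟩ := Groth.Agent.Lib.T2H8.RPowSat.exists_eq_pow_smul_of_mem t (m + n₀) x hx1
    have hy : y ∈ Groth.Agent.Lib.T2H8.RPowSat.sat t N := ⟨m + n₀, hx2⟩
    have h2 := hn₀ y hy
    rw [pow_add, mul_smul]
    exact Submodule.smul_mem_smul (Ideal.pow_mem_pow (Ideal.mem_span_singleton_self t) m) h2

end Groth.Agent.S11528
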