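import Groth.Statements.S11529
import Groth.Agent.Lib.T2H8RPowCompl
import Groth.Agent.S11527
import Groth.Agent.S11528

set_option autoImplicit false
universe u
open AdicRing

namespace Groth.Agent.S11529

/-- Let R be a base ring of class (N) or (V) for the ideal I, A an R-algebra topologically of finite
type and M a finite A-module. Then M is complete and separated for the I-adic topology. -/
theorem result
    (R : Type u) [CommRing R] (I : Ideal R) (hR : AdicRing.IsBase R I)
    (A : Type u) [CommRing A] [Algebra R A] (hA : AdicRing.TopFiniteType R I A)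
    (M : Type u) [AddCommGroup M] [Module A M] [Module R M] [IsScalarTower R A M]
    [Module.Finite A M] :
    IsAdicComplete I M := by
  obtain ⟨n, φ, hφ⟩ := hA
  letI : Algebra (AdicRing.RPow R I n) A := φ.toRingHom.toAlgebra
  haveI : IsScalarTower R (AdicRing.RPow R I n) A :=
    IsScalarTower.of_algebraMap_eq (fun r => (φ.commutes r).symm)
  letI : Module (AdicRing.RPow R I n) M := Module.compHom M (algebraMap (AdicRing.RPow R I n) A)
  haveI : IsScalarTower (AdicRing.RPow R I n) A M :=
    IsScalarTower.of_algebraMap_smul (fun r x => rfl)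
  haveI : IsScalarTower R (AdicRing.RPow R I n) M := ⟨fun r p x => by
    show algebraMap _ A (r • p) • x = r • (algebraMap _ A p • x)
    rw [Algebra.smul_def, map_mul, ← IsScalarTower.algebraMap_apply, mul_smul, algebraMap_smul]⟩
  haveI : Module.Finite (AdicRing.RPow R I n) A :=
    Module.Finite.of_surjective (Algebra.linearMap _ A) hφ
  haveI : Module.Finite (AdicRing.RPow R I n) M := Module.Finite.trans A M
  have hIfg : I.FG := by
    obtain ⟨-, hN | ⟨-, -, -, t, -, rfl⟩⟩ := hR
    · haveI := hN.1
      exact IsNoetherian.noetherian I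
    · exact ⟨{t}, by simp⟩
  have hprec : IsPrecomplete I M :=
    Groth.Agent.Lib.T2H8.RPowCompl.isPrecomplete_of_finite_rpow I hIfg n M
  have hhaus : IsHausdorff I M := by
    obtain ⟨hc, hN | ⟨hdom, hval, hdim, t, ht0, rfl⟩⟩ := hR
    · obtain ⟨hN, -⟩ := hN
      haveI := hN
      haveI : IsNoetherianRing (AdicRing.RPow R I n) :=
        Groth.Agent.Lib.T2H8.RPowUse.isNoetherianRing_rpow I n
      haveI : IsNoetherianRing A := isNoetherianRing_of_surjective _ _ φ.toRingHom hφ
      have hfgJ : (I.map (MvPolynomial.C : R →+* MvPolynomial (Fin n) R)).FG := hIfg.map _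
      haveI := AdicCompletion.isAdicComplete_self
        (I.map (MvPolynomial.C : R →+* MvPolynomial (Fin n) R)) hfgJ
      have hjacP : ∀ r ∈ I, algebraMap R (AdicRing.RPow R I n) r ∈
          (⊥ : Ideal (AdicRing.RPow R I n)).jacobson := by
        intro r hr
        apply IsAdicComplete.le_jacobson_bot
          ((I.map (MvPolynomial.C : R →+* MvPolynomial (Fin n) R)).map
            (algebraMap (MvPolynomial (Fin n) R) (AdicRing.RPow R I n)))
        exact Ideal.mem_map_of_mem _ (Ideal.mem_map_of_mem _ hr)
      have hjacA : I.map (algebraMap R A) ≤ (⊥ : Ideal A).jacobson := by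
        rw [Ideal.map_le_iff_le_comap]
        intro r hr
        rw [Ideal.mem_comap, Ideal.mem_jacobson_bot]
        intro y
        obtain ⟨y', rfl⟩ := hφ y
        have h1 := Ideal.mem_jacobson_bot.mp (hjacP r hr) y'
        have h2 : algebraMap R A r * φ y' + 1 =
            φ (algebraMap R (AdicRing.RPow R I n) r * y' + 1) := by
          rw [map_add, map_mul, map_one, φ.commutes]
        rw [h2]
        exact h1.map φ
      have hbot := Ideal.iInf_pow_smul_eq_bot_of_le_jacobson (M := M)
        (I.map (algebraMap R A)) hjacA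
      refine ⟨fun x hx => ?_⟩
      have hx' : x ∈ (⨅ i : ℕ, (I.map (algebraMap R A)) ^ i • ⊤ : Submodule A M) := by
        rw [Submodule.mem_iInf]
        intro k
        have h1 := hx k
        rw [SModEq.zero] at h1
        have e1 : (((I.map (algebraMap R A)) ^ k • (⊤ : Submodule A M)).restrictScalars R) =
            I ^ k • (⊤ : Submodule R M) := by
          rw [← Ideal.map_pow, Ideal.smul_restrictScalars, Submodule.restrictScalars_top]
        rw [← e1] at h1
        exact (Submodule.restrictScalars_mem R _ x).mp h1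
      rw [hbot] at hx'
      exact (Submodule.mem_bot A).mp hx'
    · have hR' : AdicRing.IsBase R (Ideal.span {t}) :=
        ⟨hc, Or.inr ⟨hdom, hval, hdim, t, ht0, rfl⟩⟩
      haveI := hdom
      haveI := hval
      haveI := hdim
      have hP : AdicRing.TopFiniteType R (Ideal.span {t}) (AdicRing.RPow R (Ideal.span {t}) n) :=
        ⟨n, AlgHom.id R _, Function.surjective_id⟩
      obtain ⟨T, hT⟩ : ∃ T : Submodule (AdicRing.RPow R (Ideal.span {t}) n) M,
          T = Groth.Agent.Lib.T2H8.RPowSat.sat t ⊥ := ⟨_, rfl⟩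
      have hTsat : ∀ (x : M) (k : ℕ), (∀ a ∈ (Ideal.span {t}) ^ k, a • x ∈ T) → x ∈ T := by
        rw [hT]
        exact Groth.Agent.Lib.T2H8.RPowSat.sat_saturated t ⊥
      have hTfg : T.FG := Groth.Agent.S11527.result R _ hR' _ hP M T hTsat
      obtain ⟨n₀, hn₀⟩ : ∃ n₀ : ℕ, ∀ x ∈ T, t ^ n₀ • x = 0 := by
        rw [hT] at hTfg ⊢
        obtain ⟨n₀, hn₀⟩ := Groth.Agent.Lib.T2H8.RPowSat.exists_pow_smul_mem_of_fg t
          (⊥ : Submodule (AdicRing.RPow R (Ideal.span {t}) n) M) hTfg
        exact ⟨n₀, fun x hx => (Submodule.mem_bot _).mp (hn₀ x hx)⟩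
      obtain ⟨n₁, hn₁⟩ := Groth.Agent.S11528.result R _ hR' _ hP M T
      have hQ : AdicRing.NoPowTorsion (Ideal.span {t}) (M ⧸ T) := by
        intro x k hx
        obtain ⟨x, rfl⟩ := Submodule.Quotient.mk_surjective _ x
        rw [Submodule.Quotient.mk_eq_zero]
        apply hTsat x k
        intro a ha
        have h1 := hx a ha
        rw [← Submodule.Quotient.mk_smul, Submodule.Quotient.mk_eq_zero] at h1
        exact h1
      refine ⟨fun x hx => ?_⟩
      have hxk : ∀ k, ∃ y : M, x = t ^ k • y := fun k => by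
        have h1 := hx k
        rw [SModEq.zero] at h1
        exact Groth.Agent.Lib.T2H8.RPowSat.exists_eq_pow_smul_of_mem t k x h1
      have hxT : x ∈ T := by
        rw [← Submodule.Quotient.mk_eq_zero]
        apply Groth.Agent.Lib.T2H8.RPowCompl.eq_zero_of_forall_smul t ht0 hc n (M ⧸ T) hQ
        intro m
        obtain ⟨y, hy⟩ := hxk m
        exact ⟨Submodule.Quotient.mk y, by rw [hy, Submodule.Quotient.mk_smul]⟩
      have h2 : x ∈ (Ideal.span {t}) ^ n₀ • T.restrictScalars R := by
        apply hn₁ n₀
        refine ⟨?_, hxT⟩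
        have h1 := hx (n₀ + n₁)
        rw [SModEq.zero] at h1
        exact h1
      have h3 : (Ideal.span {t}) ^ n₀ • T.restrictScalars R ≤ ⊥ := by
        rw [Submodule.smul_le]
        intro a ha y hy
        obtain ⟨b, rfl⟩ := (Groth.Agent.Lib.T2H8.RPowUse.mem_span_pow_iff t n₀ a).mp ha
        rw [Submodule.mem_bot, mul_comm, mul_smul, hn₀ y hy, smul_zero]
      exact (Submodule.mem_bot R).mp (h3 h2)
  exact { toIsHausdorff := hhaus, toIsPrecomplete := hprec }

end Groth.Agent.S11529
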