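import Groth.Statements.S11275
import Mathlib

set_option autoImplicit false
universe u
open W4bk4grassmannian

namespace Groth.Agent.S11275

section Aux

theorem det_submatrix_equivs {R : Type*} [CommRing R] {m n : Type*} [Fintype m] [DecidableEq m]
    [Fintype n] [DecidableEq n] (A : Matrix n n R) (e₁ e₂ : m ≃ n) :
    ∃ u : ℤˣ, (A.submatrix e₁ e₂).det = ((u : ℤ) : R) * A.det := by
  refine ⟨Equiv.Perm.sign (e₂.symm.trans e₁), ?_⟩
  have h : A.submatrix e₁ e₂ = ((A.submatrix (e₂.symm.trans e₁) id).submatrix e₂ e₂) := by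
    ext i j
    simp [Matrix.submatrix_apply]
  rw [h, Matrix.det_submatrix_equiv_self, Matrix.det_permute]

theorem mem_of_unit_mul' {R : Type*} [CommRing R] {I : Ideal R} {a b : R} (u : ℤˣ)
    (h : a = ((u : ℤ) : R) * b) (ha : a ∈ I) : b ∈ I := by
  have hb : b = ((u : ℤ) : R) * a := by
    rw [h, ← mul_assoc, ← Int.cast_mul, ← Units.val_mul, Int.units_mul_self, Units.val_one,
      Int.cast_one, one_mul]
  rw [hb]
  exact I.mul_mem_left _ ha

theorem minorIdeal_succ_le {R : Type u} [CommRing R] {m n : Type} [Fintype m] [Fintype n]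
    (Z : Matrix m n R) (k : ℕ) :
    CAlgX.minorIdeal Z (k + 1) ≤ CAlgX.minorIdeal Z k := by
  unfold CAlgX.minorIdeal
  rw [Ideal.span_le]
  rintro _ ⟨⟨f, g⟩, rfl⟩
  show (Z.submatrix f g).det ∈ (Ideal.span _ : Ideal R)
  rw [Matrix.det_succ_row _ 0]
  refine Ideal.sum_mem _ (fun j _ => ?_)
  refine Ideal.mul_mem_left _ _ ?_
  refine Ideal.subset_span ⟨(f ∘ Fin.succAbove 0, g ∘ j.succAbove), ?_⟩
  simp only [Matrix.submatrix_submatrix]

theorem minorIdeal_anti {R : Type u} [CommRing R] {m n : Type} [Fintype m] [Fintype n]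
    (Z : Matrix m n R) {k l : ℕ} (h : k ≤ l) :
    CAlgX.minorIdeal Z l ≤ CAlgX.minorIdeal Z k := by
  induction h with
  | refl => exact le_refl _
  | step _ ih => exact (minorIdeal_succ_le Z _).trans ih

theorem cnt_le' {d r : ℕ} (m : ℕ) (ρ : Fin m → Fin d ⊕ Fin r) :
    (∑ i, if (ρ i).isRight = true then 1 else 0) ≤ m := by
  calc (∑ i : Fin m, if (ρ i).isRight = true then 1 else 0) ≤ ∑ i : Fin m, 1 :=
        Finset.sum_le_sum (fun i _ => by split_ifs <;> omega)
    _ = m := by simp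

theorem det_mem_of_all_right {R : Type u} [CommRing R] {d r : ℕ} (Z : Matrix (Fin r) (Fin d) R)
    (t m : ℕ) (ρ : Fin m → Fin d ⊕ Fin r) (g : Fin m → Fin d)
    (hall : ∀ i, (ρ i).isRight = true) (htm : t ≤ m) :
    ((Matrix.fromRows (1 : Matrix (Fin d) (Fin d) R) Z).submatrix ρ g).det ∈
      CAlgX.minorIdeal Z t := by
  refine minorIdeal_anti Z htm ?_
  have hρ : ∀ i, ∃ j, ρ i = Sum.inr j := fun i => Sum.isRight_iff.mp (hall i)
  choose ρ' hρ' using hρ
  have hEq : (Matrix.fromRows (1 : Matrix (Fin d) (Fin d) R) Z).submatrix ρ g =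
      Z.submatrix ρ' g := by
    ext i j
    rw [Matrix.submatrix_apply, Matrix.submatrix_apply, hρ' i, Matrix.fromRows_apply_inr]
  rw [hEq]
  unfold CAlgX.minorIdeal
  exact Ideal.subset_span ⟨(ρ', g), rfl⟩

theorem det_mem_of_count {R : Type u} [CommRing R] {d r : ℕ} (Z : Matrix (Fin r) (Fin d) R)
    (t : ℕ) :
    ∀ (m : ℕ) (ρ : Fin m → Fin d ⊕ Fin r) (g : Fin m → Fin d),
      t ≤ (∑ i, if (ρ i).isRight = true then 1 else 0) →
      ((Matrix.fromRows (1 : Matrix (Fin d) (Fin d) R) Z).submatrix ρ g).det ∈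
        CAlgX.minorIdeal Z t := by
  intro m
  induction m with
  | zero =>
    intro ρ g h
    exact det_mem_of_all_right Z t 0 ρ g (fun i => i.elim0) (h.trans (cnt_le' 0 ρ))
  | succ m ih =>
    intro ρ g h
    by_cases hall : ∀ i, (ρ i).isRight = true
    · exact det_mem_of_all_right Z t (m + 1) ρ g hall (h.trans (cnt_le' _ ρ))
    · obtain ⟨i, hi⟩ := not_forall.mp hall
      rw [Matrix.det_succ_row _ i]
      refine Ideal.sum_mem _ (fun k _ => Ideal.mul_mem_left _ _ ?_)
      rw [Matrix.submatrix_submatrix]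
      apply ih
      rw [Fin.sum_univ_succAbove _ i, if_neg hi, zero_add] at h
      exact h

theorem cellMatrix_of_lt (K : Type u) [CommRing K] (d r : ℕ) (i : Fin (d + r)) (h : i.val < d)
    (j : Fin d) :
    W4bk4grassmannian.cellMatrix K d r i j =
      if (⟨i.val, h⟩ : Fin d) = j then (1 : W4bk4grassmannian.CellRing K d r) else 0 := by
  unfold W4bk4grassmannian.cellMatrix
  rw [Matrix.of_apply, dif_pos h]
  by_cases hij : i.val = j.val
  · rw [if_pos hij, if_pos (show (⟨i.val, h⟩ : Fin d) = j from Fin.ext hij)]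
  · rw [if_neg hij, if_neg (show ¬ (⟨i.val, h⟩ : Fin d) = j from fun h' => hij (congrArg Fin.val h'))]

theorem cellMatrix_of_not_lt (K : Type u) [CommRing K] (d r : ℕ) (i : Fin (d + r))
    (h : ¬ i.val < d) (j : Fin d) :
    W4bk4grassmannian.cellMatrix K d r i j =
      W4bk4grassmannian.genMatrix K r d ⟨i.val - d, by have := i.isLt; omega⟩ j := by
  unfold W4bk4grassmannian.cellMatrix W4bk4grassmannian.genMatrix
  rw [Matrix.of_apply, Matrix.of_apply, dif_neg h]

theorem cellMatrix_castAdd (K : Type u) [CommRing K] (d r : ℕ) (c j : Fin d) :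
    W4bk4grassmannian.cellMatrix K d r (Fin.castAdd r c) j =
      if c = j then (1 : W4bk4grassmannian.CellRing K d r) else 0 :=
  cellMatrix_of_lt K d r (Fin.castAdd r c) c.isLt j

theorem cellMatrix_natAdd (K : Type u) [CommRing K] (d r : ℕ) (ρ : Fin r) (j : Fin d) :
    W4bk4grassmannian.cellMatrix K d r (Fin.natAdd d ρ) j =
      W4bk4grassmannian.genMatrix K r d ρ j := by
  have h : ¬ (Fin.natAdd d ρ).val < d := by
    show ¬ d + ρ.val < d
    omega
  unfold W4bk4grassmannian.cellMatrix W4bk4grassmannian.genMatrix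
  rw [Matrix.of_apply, Matrix.of_apply, dif_neg h]
  exact congrArg MvPolynomial.X (Prod.ext (Fin.ext (by show d + ρ.val - d = ρ.val; omega)) rfl)

theorem cellMinor_mem (K : Type u) [CommRing K] (d r t : ℕ) (hd : 0 < d) (ht : 0 < t)
    (htd : t ≤ d) (θ : W4bk4grassmannian.Idx d (d + r))
    (hθ : d ≤ (θ.1 ⟨d - t, Nat.sub_lt hd ht⟩).val) :
    W4bk4grassmannian.cellMinor K d r θ ∈
      CAlgX.minorIdeal (W4bk4grassmannian.genMatrix K r d) t := by
  obtain ⟨ρ, hρ⟩ : ∃ ρ : Fin d → Fin d ⊕ Fin r, ∀ i, ρ i =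
      if h : (θ.1 i).val < d then Sum.inl ⟨(θ.1 i).val, h⟩
      else Sum.inr ⟨(θ.1 i).val - d, by have := (θ.1 i).isLt; omega⟩ := ⟨_, fun _ => rfl⟩
  have hEq : (W4bk4grassmannian.cellMatrix K d r).submatrix θ.1 id =
      (Matrix.fromRows (1 : Matrix (Fin d) (Fin d) (W4bk4grassmannian.CellRing K d r))
        (W4bk4grassmannian.genMatrix K r d)).submatrix ρ id := by
    ext i j
    rw [Matrix.submatrix_apply, Matrix.submatrix_apply, hρ i, id_eq]
    by_cases h : (θ.1 i).val < d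
    · rw [dif_pos h, Matrix.fromRows_apply_inl, Matrix.one_apply, cellMatrix_of_lt K d r _ h]
    · rw [dif_neg h, Matrix.fromRows_apply_inr, cellMatrix_of_not_lt K d r _ h]
  unfold W4bk4grassmannian.cellMinor
  rw [hEq]
  obtain ⟨a, ha⟩ : ∃ a : Fin d, a = ⟨d - t, Nat.sub_lt hd ht⟩ := ⟨_, rfl⟩
  rw [← ha] at hθ
  have hright : ∀ i : Fin d, a ≤ i → (ρ i).isRight = true := by
    intro i hi
    have hmono : θ.1 a ≤ θ.1 i := θ.2.monotone hi
    have hmono' : (θ.1 a).val ≤ (θ.1 i).val := hmono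
    have h2 : ¬ (θ.1 i).val < d := by omega
    rw [hρ i, dif_neg h2]
    rfl
  refine det_mem_of_count _ t d ρ id ?_
  calc t = (Finset.Ici a).card := by
        rw [Fin.card_Ici, ha]
        show t = d - (d - t)
        omega
    _ = ∑ i ∈ Finset.Ici a, 1 := Finset.card_eq_sum_ones _
    _ = ∑ i ∈ Finset.Ici a, if (ρ i).isRight = true then 1 else 0 :=
        Finset.sum_congr rfl (fun i hi => by rw [if_pos (hright i (Finset.mem_Ici.mp hi))])
    _ ≤ ∑ i, if (ρ i).isRight = true then 1 else 0 :=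
        Finset.sum_le_sum_of_subset (Finset.subset_univ _)

theorem block_det (K : Type u) [CommRing K] (d r s t : ℕ)
    (θ₁ : Fin s → Fin d) (hθ₁ : Function.Injective θ₁) (g' : Fin t → Fin d)
    (hdisj : ∀ i j, θ₁ i ≠ g' j) (colEq : Fin s ⊕ Fin t ≃ Fin d)
    (hcl : ∀ i, colEq (Sum.inl i) = θ₁ i) (hcr : ∀ j, colEq (Sum.inr j) = g' j)
    (θ₂ : Fin t → Fin r) (θ : Fin d → Fin (d + r)) (rowEq : Fin s ⊕ Fin t ≃ Fin d)
    (hrl : ∀ i, θ (rowEq (Sum.inl i)) = Fin.castAdd r (θ₁ i))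
    (hrr : ∀ j, θ (rowEq (Sum.inr j)) = Fin.natAdd d (θ₂ j)) :
    ∃ u : ℤˣ, ((W4bk4grassmannian.cellMatrix K d r).submatrix θ id).det =
      ((u : ℤ) : W4bk4grassmannian.CellRing K d r) *
        ((W4bk4grassmannian.genMatrix K r d).submatrix θ₂ g').det := by
  obtain ⟨u, hu⟩ := det_submatrix_equivs
    ((W4bk4grassmannian.cellMatrix K d r).submatrix θ id) rowEq colEq
  have hblock : ((W4bk4grassmannian.cellMatrix K d r).submatrix θ id).submatrix rowEq colEq =
      Matrix.fromBlocks (1 : Matrix (Fin s) (Fin s) (W4bk4grassmannian.CellRing K d r)) 0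
        (Matrix.of fun (i : Fin t) (j : Fin s) =>
          W4bk4grassmannian.genMatrix K r d (θ₂ i) (θ₁ j))
        ((W4bk4grassmannian.genMatrix K r d).submatrix θ₂ g') := by
    ext i j
    rcases i with i | i <;> rcases j with j | j
    · rw [Matrix.submatrix_apply, Matrix.submatrix_apply, hrl, id_eq, hcl,
        Matrix.fromBlocks_apply₁₁, cellMatrix_castAdd, Matrix.one_apply]
      by_cases hij : i = j
      · rw [if_pos hij, if_pos (by rw [hij])]
      · rw [if_neg hij, if_neg (fun h => hij (hθ₁ h))]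
    · rw [Matrix.submatrix_apply, Matrix.submatrix_apply, hrl, id_eq, hcr,
        Matrix.fromBlocks_apply₁₂, cellMatrix_castAdd, if_neg (hdisj i j)]
      rfl
    · rw [Matrix.submatrix_apply, Matrix.submatrix_apply, hrr, id_eq, hcl,
        Matrix.fromBlocks_apply₂₁, cellMatrix_natAdd, Matrix.of_apply]
    · rw [Matrix.submatrix_apply, Matrix.submatrix_apply, hrr, id_eq, hcr,
        Matrix.fromBlocks_apply₂₂, cellMatrix_natAdd, Matrix.submatrix_apply]
  rw [hblock, Matrix.det_fromBlocks_zero₁₂, Matrix.det_one, one_mul] at hu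
  refine ⟨u, ?_⟩
  rw [hu, ← mul_assoc, ← Int.cast_mul, ← Units.val_mul, Int.units_mul_self, Units.val_one,
    Int.cast_one, one_mul]

theorem exists_perm_of_range_eq {α : Type*} {t : ℕ} (f f' : Fin t → α)
    (hf : Function.Injective f) (hf' : Function.Injective f')
    (h : Set.range f' = Set.range f) : ∃ σ : Equiv.Perm (Fin t), f' = f ∘ σ := by
  refine ⟨(Equiv.ofInjective f' hf').trans
    ((Equiv.setCongr h).trans (Equiv.ofInjective f hf).symm), ?_⟩
  funext j
  simp only [Function.comp_apply, Equiv.trans_apply]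
  rw [Equiv.apply_ofInjective_symm hf]
  rfl

theorem minor_mem (K : Type u) [CommRing K] (d r t : ℕ) (hd : 0 < d) (ht : 0 < t) (htd : t ≤ d)
    (f : Fin t → Fin r) (g : Fin t → Fin d) (hf : Function.Injective f)
    (hg : Function.Injective g) :
    ((W4bk4grassmannian.genMatrix K r d).submatrix f g).det ∈
      (Ideal.span {p : W4bk4grassmannian.CellRing K d r | ∃ θ : W4bk4grassmannian.Idx d (d + r),
        d ≤ (θ.1 ⟨d - t, Nat.sub_lt hd ht⟩).val ∧ p = W4bk4grassmannian.cellMinor K d r θ} :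
        Ideal (W4bk4grassmannian.CellRing K d r)) := by
  obtain ⟨Sg, hSgdef⟩ : ∃ S : Finset (Fin d), S = Finset.univ.image g := ⟨_, rfl⟩
  have hSg : Sg.card = t := by
    rw [hSgdef, Finset.card_image_of_injective _ hg, Finset.card_univ, Fintype.card_fin]
  have hm : Sgᶜ.card = d - t := by rw [Finset.card_compl, hSg, Fintype.card_fin]
  have hn : Sgᶜᶜ.card = t := by rw [compl_compl]; exact hSg
  obtain ⟨Sf, hSfdef⟩ : ∃ S : Finset (Fin r), S = Finset.univ.image f := ⟨_, rfl⟩
  have hSf : Sf.card = t := by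
    rw [hSfdef, Finset.card_image_of_injective _ hf, Finset.card_univ, Fintype.card_fin]
  obtain ⟨θ₁, hθ₁def⟩ : ∃ e : Fin (d - t) ↪o Fin d, e = Sgᶜ.orderEmbOfFin hm := ⟨_, rfl⟩
  obtain ⟨g', hg'def⟩ : ∃ e : Fin t ↪o Fin d, e = Sgᶜᶜ.orderEmbOfFin hn := ⟨_, rfl⟩
  obtain ⟨θ₂, hθ₂def⟩ : ∃ e : Fin t ↪o Fin r, e = Sf.orderEmbOfFin hSf := ⟨_, rfl⟩
  have hlt : ∀ i : Fin d, ¬ i.val < d - t → i.val - (d - t) < t := fun i h => by
    have := i.isLt
    omega
  obtain ⟨θ, hθdef⟩ : ∃ θ : Fin d → Fin (d + r), ∀ i, θ i =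
      if h : i.val < d - t then Fin.castAdd r (θ₁ ⟨i.val, h⟩)
      else Fin.natAdd d (θ₂ ⟨i.val - (d - t), hlt i h⟩) := ⟨_, fun _ => rfl⟩
  have hθmono : StrictMono θ := by
    intro i j hij
    have hij' : i.val < j.val := hij
    rw [hθdef i, hθdef j]
    by_cases hi : i.val < d - t
    · by_cases hj : j.val < d - t
      · rw [dif_pos hi, dif_pos hj]
        have h1 : θ₁ ⟨i.val, hi⟩ < θ₁ ⟨j.val, hj⟩ :=
          θ₁.strictMono (show (⟨i.val, hi⟩ : Fin (d - t)) < ⟨j.val, hj⟩ from hij')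
        show (θ₁ ⟨i.val, hi⟩).val < (θ₁ ⟨j.val, hj⟩).val
        exact h1
      · rw [dif_pos hi, dif_neg hj]
        show (θ₁ ⟨i.val, hi⟩).val < d + (θ₂ ⟨j.val - (d - t), hlt j hj⟩).val
        have := (θ₁ ⟨i.val, hi⟩).isLt
        omega
    · have hj : ¬ j.val < d - t := by omega
      rw [dif_neg hi, dif_neg hj]
      have h1 : θ₂ ⟨i.val - (d - t), hlt i hi⟩ < θ₂ ⟨j.val - (d - t), hlt j hj⟩ :=
        θ₂.strictMono (show (⟨i.val - (d - t), hlt i hi⟩ : Fin t) < ⟨j.val - (d - t), hlt j hj⟩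
          from by show i.val - (d - t) < j.val - (d - t); omega)
      have h2 : (θ₂ ⟨i.val - (d - t), hlt i hi⟩).val < (θ₂ ⟨j.val - (d - t), hlt j hj⟩).val := h1
      show d + (θ₂ ⟨i.val - (d - t), hlt i hi⟩).val < d + (θ₂ ⟨j.val - (d - t), hlt j hj⟩).val
      omega
  obtain ⟨rowEq, hrowdef⟩ : ∃ e : Fin (d - t) ⊕ Fin t ≃ Fin d,
      e = finSumFinEquiv.trans (finCongr (by omega : d - t + t = d)) := ⟨_, rfl⟩
  have hrowl : ∀ i : Fin (d - t), (rowEq (Sum.inl i)).val = i.val := fun i => by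
    rw [hrowdef]; rfl
  have hrowr : ∀ j : Fin t, (rowEq (Sum.inr j)).val = d - t + j.val := fun j => by
    rw [hrowdef]; rfl
  have hrl : ∀ i, θ (rowEq (Sum.inl i)) = Fin.castAdd r (θ₁ i) := fun i => by
    have h1 : (rowEq (Sum.inl i)).val < d - t := by rw [hrowl i]; exact i.isLt
    have h2 : (⟨(rowEq (Sum.inl i)).val, h1⟩ : Fin (d - t)) = i := Fin.ext (hrowl i)
    rw [hθdef, dif_pos h1, h2]
  have hrr : ∀ j, θ (rowEq (Sum.inr j)) = Fin.natAdd d (θ₂ j) := fun j => by
    have h1 : ¬ (rowEq (Sum.inr j)).val < d - t := by rw [hrowr j]; omega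
    have h2 : (⟨(rowEq (Sum.inr j)).val - (d - t), hlt _ h1⟩ : Fin t) = j :=
      Fin.ext (by show (rowEq (Sum.inr j)).val - (d - t) = j.val; rw [hrowr j]; omega)
    rw [hθdef, dif_neg h1, h2]
  obtain ⟨colEq, hcoldef⟩ : ∃ e : Fin (d - t) ⊕ Fin t ≃ Fin d,
      e = finSumEquivOfFinset hm hn := ⟨_, rfl⟩
  have hcl : ∀ i, colEq (Sum.inl i) = θ₁ i := fun i => by
    rw [hcoldef, hθ₁def, finSumEquivOfFinset_inl]
  have hcr : ∀ j, colEq (Sum.inr j) = g' j := fun j => by
    rw [hcoldef, hg'def, finSumEquivOfFinset_inr]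
  have hdisj : ∀ i j, θ₁ i ≠ g' j := fun i j h => by
    have h1 : θ₁ i ∈ Sgᶜ := by rw [hθ₁def]; exact Finset.orderEmbOfFin_mem _ _ _
    have h2 : g' j ∈ Sgᶜᶜ := by rw [hg'def]; exact Finset.orderEmbOfFin_mem _ _ _
    rw [h] at h1
    exact (Finset.mem_compl.mp h2) h1
  obtain ⟨u₁, hu₁⟩ := block_det K d r (d - t) t θ₁ θ₁.injective g' hdisj colEq hcl hcr θ₂ θ
    rowEq hrl hrr
  have hrange₂ : Set.range θ₂ = Set.range f := by
    rw [hθ₂def, Finset.range_orderEmbOfFin, hSfdef, Finset.coe_image, Finset.coe_univ,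
      Set.image_univ]
  have hrange_g : Set.range g' = Set.range g := by
    rw [hg'def, Finset.range_orderEmbOfFin, compl_compl, hSgdef, Finset.coe_image,
      Finset.coe_univ, Set.image_univ]
  obtain ⟨σ, hσ⟩ := exists_perm_of_range_eq f θ₂ hf θ₂.injective hrange₂
  obtain ⟨τ, hτ⟩ := exists_perm_of_range_eq g g' hg g'.injective hrange_g
  obtain ⟨u₂, hu₂⟩ := det_submatrix_equivs
    ((W4bk4grassmannian.genMatrix K r d).submatrix f g) σ τ
  rw [Matrix.submatrix_submatrix, ← hσ, ← hτ] at hu₂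
  have hnc : ¬ ((⟨d - t, Nat.sub_lt hd ht⟩ : Fin d).val < d - t) := lt_irrefl _
  have hcond : d ≤ (θ ⟨d - t, Nat.sub_lt hd ht⟩).val := by
    rw [hθdef, dif_neg hnc]
    exact Nat.le_add_right d _
  have h3 : ((W4bk4grassmannian.cellMatrix K d r).submatrix θ id).det ∈
      (Ideal.span {p : W4bk4grassmannian.CellRing K d r |
        ∃ θ : W4bk4grassmannian.Idx d (d + r),
        d ≤ (θ.1 ⟨d - t, Nat.sub_lt hd ht⟩).val ∧ p = W4bk4grassmannian.cellMinor K d r θ} :
        Ideal (W4bk4grassmannian.CellRing K d r)) :=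
    Ideal.subset_span ⟨⟨θ, hθmono⟩, hcond, rfl⟩
  have h4 := mem_of_unit_mul' u₁ hu₁ h3
  exact mem_of_unit_mul' u₂ hu₂ h4

theorem minor_mem_all (K : Type u) [CommRing K] (d r t : ℕ) (hd : 0 < d) (ht : 0 < t)
    (htd : t ≤ d) (f : Fin t → Fin r) (g : Fin t → Fin d) :
    ((W4bk4grassmannian.genMatrix K r d).submatrix f g).det ∈
      (Ideal.span {p : W4bk4grassmannian.CellRing K d r | ∃ θ : W4bk4grassmannian.Idx d (d + r),
        d ≤ (θ.1 ⟨d - t, Nat.sub_lt hd ht⟩).val ∧ p = W4bk4grassmannian.cellMinor K d r θ} :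
        Ideal (W4bk4grassmannian.CellRing K d r)) := by
  by_cases hf : Function.Injective f
  · by_cases hg : Function.Injective g
    · exact minor_mem K d r t hd ht htd f g hf hg
    · obtain ⟨a, b, hab, hne⟩ := Function.not_injective_iff.mp hg
      have h0 : ((W4bk4grassmannian.genMatrix K r d).submatrix f g).det = 0 :=
        Matrix.det_zero_of_column_eq hne (fun k => by
          rw [Matrix.submatrix_apply, Matrix.submatrix_apply, hab])
      rw [h0]
      exact zero_mem _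
  · obtain ⟨a, b, hab, hne⟩ := Function.not_injective_iff.mp hf
    have h0 : ((W4bk4grassmannian.genMatrix K r d).submatrix f g).det = 0 :=
      Matrix.det_zero_of_row_eq hne (by
        funext k
        rw [Matrix.submatrix_apply, Matrix.submatrix_apply, hab])
    rw [h0]
    exact zero_mem _

end Aux

open W4bk4grassmannian in
/-- Ideal-theoretic form; determinantal ideals as ideals of opposite cells of Schubert varieties: let K
be a commutative ring, d, r ≥ 1, 1 ≤ t ≤ min(d, r), Z the generic r × d matrix over K[z_{ij}] and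
[I_d ; Z] the (d + r) × d matrix with the identity block on top. For θ ∈ I(d, d + r) let q_θ be the
d × d minor of [I_d ; Z] on the rows θ (the Plücker coordinate p_θ on the opposite big cell). Then
the ideal generated by the q_θ with θ_{d-t} ≥ d (0-indexed; these are the θ not below the index φ =
(t-1, …, d-1, d+r+1-t, …, d+r-1) of the Schubert variety whose opposite cell is D_t) equals the
ideal generated by the t × t minors of Z. (The published statement is over an algebraically closed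
field and identifies the determinantal variety D_t with the opposite cell of the Schubert variety
X(φ); this row states the equality of ideals behind that identification, over any commutative ring
K.) -/
theorem result (K : Type u) [CommRing K] (d r t : ℕ) (hd : 0 < d)
    (ht : 0 < t) (htd : t ≤ d) (htr : t ≤ r) :
    Ideal.span {f : CellRing K d r | ∃ θ : Idx d (d + r),
        d ≤ (θ.1 ⟨d - t, Nat.sub_lt hd ht⟩).val ∧ f = cellMinor K d r θ} =
      CAlgX.minorIdeal (genMatrix K r d) t := by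
  apply le_antisymm
  · rw [Ideal.span_le]
    rintro _ ⟨θ, hθ, rfl⟩
    exact cellMinor_mem K d r t hd ht htd θ hθ
  · unfold CAlgX.minorIdeal
    rw [Ideal.span_le]
    rintro _ ⟨⟨f, g⟩, rfl⟩
    exact minor_mem_all K d r t hd ht htd f g

end Groth.Agent.S11275
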