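import Groth.Statements.S7157
import Groth.Agent.Lib.T2H9TotRam
import Groth.Agent.Lib.T2H9Eisenstein

set_option autoImplicit false
set_option linter.style.haveILetI false
set_option linter.unusedSectionVars false
universe u
open EtAlg

namespace Groth.Agent.S7157

open Polynomial IsLocalRing Groth.Agent.Lib.T2H9.Eisenstein Groth.Agent.Lib.T2H9.TotRam

theorem root_eq {A R : Type*} [CommRing A] [CommRing R] [Algebra A R] (π : A) (n q : ℕ) (x : R)
    (h : aeval x (poly π n q) = 0) : x ^ q = algebraMap A R π + algebraMap A R π ^ n * x := by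
  simp only [poly, map_sub, map_mul, map_pow, aeval_X, aeval_C] at h
  rw [sub_sub, sub_eq_zero] at h
  rw [h]
  ring

section general

variable {A K : Type u} [CommRing A] [IsDomain A] [IsDiscreteValuationRing A] [Field K]
  [Algebra A K] [IsFractionRing A K]
  {L : Type u} [Field L] [Algebra K L] [Algebra A L] [IsScalarTower A K L]

theorem general {π : A} (hπ : Irreducible π) {n q : ℕ} (hn : 1 < n) (hq : 2 ≤ q) (x : L)
    (hx : x ^ q = algebraMap A L π + algebraMap A L π ^ n * x)
    (htop : Algebra.adjoin K {x} = ⊤) :
    EtRam.IsTotallyRamified A (algebraMap A L) ∧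
      ∃ πB b b' : L, πB ∈ integralClosure A L ∧ b ∈ integralClosure A L ∧
        b' ∈ integralClosure A L ∧
        πB ^ q = algebraMap A L π + algebraMap A L π ^ n * b ∧
        πB ^ q = algebraMap A L π + πB ^ (n * q) * b' := by
  have hinjAL : Function.Injective (algebraMap A L) := by
    rw [IsScalarTower.algebraMap_eq A K L]
    exact (algebraMap K L).injective.comp (IsFractionRing.injective A K)
  have hint : IsIntegral A x := by
    refine ⟨poly π n q, poly_monic π n q hq, ?_⟩
    rw [← aeval_def]
    simp only [poly, map_sub, map_mul, map_pow, aeval_X, aeval_C]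
    rw [hx]
    ring
  let B : Subalgebra A L := Algebra.adjoin A {x}
  let xB : B := ⟨x, Algebra.self_mem_adjoin_singleton A x⟩
  haveI : Module.Finite A B := Algebra.finite_adjoin_simple_of_isIntegral hint
  haveI : Algebra.IsIntegral A B := Algebra.IsIntegral.of_finite A B
  have hinj : Function.Injective (algebraMap A B) := by
    intro a a' h
    apply hinjAL
    have := congrArg (fun b : B => (b : L)) h
    exact this
  have h1 : algebraMap A B π = xB * (xB ^ (q - 1) - algebraMap A B π ^ n) := by
    apply Subtype.ext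
    change algebraMap A L π = x * (x ^ (q - 1) - algebraMap A L π ^ n)
    rw [mul_sub, mul_pow_sub_one (by omega), hx]
    ring
  have h2 : xB ^ q = algebraMap A B π * (1 + algebraMap A B π ^ (n - 1) * xB) := by
    apply Subtype.ext
    change x ^ q = algebraMap A L π * (1 + algebraMap A L π ^ (n - 1) * x)
    rw [hx, mul_add, mul_one, ← mul_assoc, mul_pow_sub_one (by omega)]
  have hdec : ∀ b : B, ∃ (a : A) (y : B), b = algebraMap A B a + xB * y := by
    rintro ⟨b, hb⟩
    have hb' : b ∈ (aeval x : A[X] →ₐ[A] L).range := by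
      rw [← Algebra.adjoin_singleton_eq_range_aeval]
      exact hb
    obtain ⟨p, rfl⟩ := hb'
    have hy : aeval x (divX p) ∈ B := by
      change aeval x (divX p) ∈ Algebra.adjoin A {x}
      rw [Algebra.adjoin_singleton_eq_range_aeval]
      exact ⟨_, rfl⟩
    refine ⟨p.coeff 0, ⟨aeval x (divX p), hy⟩, ?_⟩
    apply Subtype.ext
    change aeval x p = algebraMap A L (p.coeff 0) + x * aeval x (divX p)
    conv_lhs => rw [← divX_mul_X_add p]
    simp only [map_add, map_mul, aeval_X, aeval_C]
    ring
  obtain ⟨hdvr, hmax⟩ := isDVR_of_unifRoot hinj hπ xB _ _ h1 h2 hdec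
  haveI := hdvr
  have hmax' : maximalIdeal B = Ideal.span {xB} := hmax
  haveI : FaithfulSMul B L := (faithfulSMul_iff_algebraMap_injective B L).mpr Subtype.val_injective
  haveI : IsFractionRing B L := by
    refine IsFractionRing.of_field B L ?_
    intro z
    have hz : z ∈ Algebra.adjoin K {x} := by rw [htop]; exact Algebra.mem_top
    rw [Algebra.adjoin_singleton_eq_range_aeval] at hz
    obtain ⟨p, rfl⟩ := hz
    obtain ⟨b, hb, hspec⟩ := IsLocalization.integerNormalization_spec (nonZeroDivisors A) p
    set P := IsLocalization.integerNormalization (nonZeroDivisors A) p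
    have hP : aeval x P ∈ B := by
      change aeval x P ∈ Algebra.adjoin A {x}
      rw [Algebra.adjoin_singleton_eq_range_aeval]
      exact ⟨_, rfl⟩
    refine ⟨⟨aeval x P, hP⟩, algebraMap A B b, ?_⟩
    have hb0 : algebraMap A L b ≠ 0 := by
      intro h
      rw [← map_zero (algebraMap A L)] at h
      exact nonZeroDivisors.ne_zero hb (hinjAL h)
    change aeval x p = aeval x P / algebraMap A L b
    rw [eq_div_iff hb0]
    have := congrArg (aeval x) hspec
    rw [aeval_map_algebraMap, ← algebraMap_smul K b p, map_smul, Algebra.smul_def,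
      ← IsScalarTower.algebraMap_apply] at this
    rw [this]
    ring
  haveI : FaithfulSMul A B := (faithfulSMul_iff_algebraMap_injective A B).mpr hinj
  haveI : IsLocalHom (algebraMap A B) := inferInstance
  have hres : ∀ b : B, ∃ a : A, b - algebraMap A B a ∈ maximalIdeal B := by
    intro b
    obtain ⟨a, y, rfl⟩ := hdec b
    refine ⟨a, ?_⟩
    rw [add_sub_cancel_left, hmax']
    exact Ideal.mul_mem_right _ _ (Ideal.mem_span_singleton_self xB)
  have htot := isTotallyRamified_of_dvr (A := A) (B := B) L hinj hres
  have hcomp : (algebraMap B L).comp (algebraMap A B) = algebraMap A L := by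
    ext a
    rfl
  rw [hcomp] at htot
  refine ⟨htot, ?_⟩
  have hBle : ∀ b : B, (b : L) ∈ integralClosure A L := fun b =>
    adjoin_le_integralClosure hint b.2
  -- the unit
  have hmem : algebraMap A B π ^ (n - 1) * xB ∈ maximalIdeal B := by
    rw [hmax']
    exact Ideal.mul_mem_left _ _ (Ideal.mem_span_singleton_self xB)
  have hunit : IsUnit (1 + algebraMap A B π ^ (n - 1) * xB) := by
    have := IsLocalRing.isUnit_one_sub_self_of_mem_nonunits _
      ((maximalIdeal B).neg_mem hmem)
    rwa [sub_neg_eq_add] at this
  obtain ⟨v, hv⟩ := isUnit_iff_exists_inv.mp hunit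
  have hvL : (1 + algebraMap A L π ^ (n - 1) * x) * (v : L) = 1 := by
    have := congrArg (fun b : B => (b : L)) hv
    exact this
  have hπv : algebraMap A L π = x ^ q * (v : L) := by
    have h2L : x ^ q = algebraMap A L π * (1 + algebraMap A L π ^ (n - 1) * x) := by
      have := congrArg (fun b : B => (b : L)) h2
      exact this
    rw [h2L, mul_assoc, hvL, mul_one]
  refine ⟨x, x, (v : L) ^ n * x, hBle xB, hBle xB, hBle (v ^ n * xB), hx, ?_⟩
  rw [hx]
  congr 1
  conv_lhs => rw [hπv]
  ring

end general

section construction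

variable (A K : Type u) [CommRing A] [IsDomain A] [IsDiscreteValuationRing A] [Field K]
  [Algebra A K] [IsFractionRing A K]

theorem main_ge_two (π : A) (hπ : Irreducible π) (n q : ℕ) (hn : 1 < n) (hq : 2 ≤ q) :
    ∃ (L : Type u) (_ : Field L) (_ : Algebra K L) (_ : Algebra A L) (_ : IsScalarTower A K L),
      Module.finrank K L = q ∧ Algebra.IsSeparable K L ∧
      EtRam.IsTotallyRamified A (algebraMap A L) ∧
      ∃ πB b b' : L, πB ∈ integralClosure A L ∧ b ∈ integralClosure A L ∧
        b' ∈ integralClosure A L ∧
        πB ^ q = algebraMap A L π + algebraMap A L π ^ n * b ∧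
        πB ^ q = algebraMap A L π + πB ^ (n * q) * b' := by
  have hirr := poly_map_irreducible K hπ n q (by omega) hq
  have hsep := poly_map_separable K hπ n q (by omega) hq
  haveI : Fact (Irreducible ((poly π n q).map (algebraMap A K))) := ⟨hirr⟩
  have hne : (poly π n q).map (algebraMap A K) ≠ 0 := hirr.ne_zero
  have hroot : aeval (AdjoinRoot.root ((poly π n q).map (algebraMap A K))) (poly π n q) = 0 := by
    rw [← aeval_map_algebraMap K, aeval_def, AdjoinRoot.algebraMap_eq]
    exact AdjoinRoot.eval₂_root _
  have hx : (AdjoinRoot.root ((poly π n q).map (algebraMap A K))) ^ q =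
      algebraMap A (AdjoinRoot ((poly π n q).map (algebraMap A K))) π +
        algebraMap A (AdjoinRoot ((poly π n q).map (algebraMap A K))) π ^ n *
          AdjoinRoot.root ((poly π n q).map (algebraMap A K)) := by
    exact root_eq π n q _ hroot
  have htop : Algebra.adjoin K {AdjoinRoot.root ((poly π n q).map (algebraMap A K))} = ⊤ :=
    AdjoinRoot.adjoinRoot_eq_top
  obtain ⟨htot, hel⟩ := general (K := K) hπ hn hq _ hx htop
  refine ⟨AdjoinRoot ((poly π n q).map (algebraMap A K)), inferInstance, inferInstance,
    inferInstance, inferInstance, ?_, ?_, htot, hel⟩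
  · rw [(AdjoinRoot.powerBasis hne).finrank, AdjoinRoot.powerBasis_dim,
      (poly_monic π n q hq).natDegree_map, poly_natDegree π n q hq]
  · rw [← IntermediateField.isSeparable_top,
      ← IntermediateField.adjoin_eq_top_of_algebra K _ htop,
      IntermediateField.isSeparable_adjoin_simple_iff_isSeparable]
    refine Separable.of_dvd hsep (minpoly.dvd _ _ ?_)
    rw [aeval_def, AdjoinRoot.algebraMap_eq]
    exact AdjoinRoot.eval₂_root _

theorem main_one (π : A) (n : ℕ) :
    ∃ (L : Type u) (_ : Field L) (_ : Algebra K L) (_ : Algebra A L) (_ : IsScalarTower A K L),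
      Module.finrank K L = 1 ∧ Algebra.IsSeparable K L ∧
      EtRam.IsTotallyRamified A (algebraMap A L) ∧
      ∃ πB b b' : L, πB ∈ integralClosure A L ∧ b ∈ integralClosure A L ∧
        b' ∈ integralClosure A L ∧
        πB ^ 1 = algebraMap A L π + algebraMap A L π ^ n * b ∧
        πB ^ 1 = algebraMap A L π + πB ^ (n * 1) * b' := by
  refine ⟨K, inferInstance, inferInstance, inferInstance, inferInstance, Module.finrank_self K,
    inferInstance, ?_, algebraMap A K π, 0, 0, ?_, Subalgebra.zero_mem _, Subalgebra.zero_mem _,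
    by simp, by simp⟩
  · have hres : ∀ b : A, ∃ a : A, b - algebraMap A A a ∈ maximalIdeal A :=
      fun b => ⟨b, by simp⟩
    have := isTotallyRamified_of_dvr (A := A) (B := A) K Function.injective_id hres
    exact this
  · exact Subalgebra.algebraMap_mem _ _

end construction

theorem result (p : ℕ) (hp : p.Prime) (A K : Type u)
    [CommRing A] [IsDomain A] [IsDiscreteValuationRing A] [Field K] [Algebra A K] [IsFractionRing A K]
    [CharP (IsLocalRing.ResidueField A) p] (π : A) (hπ : IsLocalRing.maximalIdeal A = Ideal.span {π})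
    (n : ℕ) (hn : 1 < n) (k : ℕ) :
    ∃ (L : Type u) (_ : Field L) (_ : Algebra K L) (_ : Algebra A L) (_ : IsScalarTower A K L),
      Module.finrank K L = p ^ k ∧ Algebra.IsSeparable K L ∧ EtRam.IsTotallyRamified A (algebraMap A L) ∧
      ∃ πB b b' : L, πB ∈ integralClosure A L ∧ b ∈ integralClosure A L ∧ b' ∈ integralClosure A L ∧
        πB ^ (p ^ k) = algebraMap A L π + algebraMap A L π ^ n * b ∧
        πB ^ (p ^ k) = algebraMap A L π + πB ^ (n * p ^ k) * b' := by
  have hirr : Irreducible π := (IsDiscreteValuationRing.irreducible_iff_uniformizer π).mpr hπ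
  rcases Nat.eq_zero_or_pos k with rfl | hk
  · rw [pow_zero]
    exact main_one A K π n
  · have hq : 2 ≤ p ^ k := by
      calc 2 ≤ p := hp.two_le
        _ = p ^ 1 := (pow_one p).symm
        _ ≤ p ^ k := Nat.pow_le_pow_right hp.pos hk
    exact main_ge_two A K π hirr n (p ^ k) hn hq

end Groth.Agent.S7157
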