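import Groth.Statements.S5003
-- import your own Groth.Agent.* helpers here
import Mathlib
import Groth.Agent.S5802
import Groth.Agent.Lib.Helper5RegImm2
import Groth.Agent.Lib.T2H2QRegStalk

set_option autoImplicit false
universe u
open CategoryTheory CategoryTheory.Limits AlgebraicGeometry TopologicalSpace
open Nrm16

namespace Groth.Agent.S5003

open Groth.Agent.Lib.Helper5.RegImm Groth.Agent.Lib.T2H2.QRegStalk

/-- Let X be a locally Noetherian scheme and j : Y ⟶ X a morphism. Then j is a regular immersion if and
only if j is a quasi-regular immersion. -/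
theorem result {X Y : Scheme.{u}} [IsLocallyNoetherian X] (j : Y ⟶ X) :
    RegImm.IsRegularImmersion RegImm.Kind.regular j ↔ RegImm.IsRegularImmersion RegImm.Kind.quasi j := by
  constructor
  · rintro ⟨himm, h⟩
    refine ⟨himm, fun z => ?_⟩
    obtain ⟨U, hzU, hcl, rs, hreg, hker⟩ := h z
    refine ⟨U, hzU, hcl, rs, ?_, hker⟩
    have hreg' : RingTheory.Sequence.IsRegular Γ(X, U.1) rs := hreg
    have hw : RingTheory.Sequence.IsWeaklyRegular Γ(X, U.1) (List.ofFn rs.get) := by
      rw [List.ofFn_get]; exact hreg'.toIsWeaklyRegular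
    exact Groth.Agent.S5802.result _ rs.length rs.get hw
  · rintro ⟨himm, h⟩
    refine ⟨himm, fun z => ?_⟩
    have := himm
    have h1 : StalkReg j z := stalkReg_of_isRegularImmersionAt_quasi j z (h z)
    have h2 : StalkReg j.liftCoborder z :=
      stalkReg_of_comp_eq j.liftCoborder j.coborderRange.ι j j.liftCoborder_ι z h1
    exact isRegularImmersionAt_of_stalkReg j z h2

end Groth.Agent.S5003
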