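import Groth.Statements.S8905
import Groth.Agent.Lib.T2H9KoszulH1
import Groth.Agent.S2103

set_option autoImplicit false
set_option linter.style.haveILetI false
universe u
open CategoryTheory CategoryTheory.Limits AlgebraicGeometry TopologicalSpace
open SDiv

namespace Groth.Agent.S8905

/-- Let i : Z ⟶ X be an immersion of schemes. If i is a regular immersion then it is Koszul-regular; if
Koszul-regular then H_1-regular; if H_1-regular then quasi-regular. -/
theorem result {Z X : Scheme.{u}} (i : Z ⟶ X) :
    (RegImm.IsRegularImmersion RegImm.Kind.regular i → RegImm.IsRegularImmersion RegImm.Kind.koszul i) ∧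
      (RegImm.IsRegularImmersion RegImm.Kind.koszul i → RegImm.IsRegularImmersion RegImm.Kind.h1 i) ∧
      (RegImm.IsRegularImmersion RegImm.Kind.h1 i → RegImm.IsRegularImmersion RegImm.Kind.quasi i) := by
  have key : ∀ (k k' : RegImm.Kind),
      (∀ (R : Type u) [CommRing R] (rs : List R), k.Seq R rs → k'.Seq R rs) →
      RegImm.IsRegularImmersion k i → RegImm.IsRegularImmersion k' i := by
    intro k k' hkk' h
    refine ⟨h.1, fun z => ?_⟩
    obtain ⟨U, h1, h2, rs, h3, h4⟩ := h.2 z
    exact ⟨U, h1, h2, rs, hkk' _ rs h3, h4⟩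
  refine ⟨key _ _ ?_, key _ _ ?_, key _ _ ?_⟩
  · intro R _ rs h
    have h' : RingTheory.Sequence.IsRegular R rs := h
    exact Groth.Agent.Lib.T2H9.KoszulH1.isKoszulRegularSeq_of_isWeaklyRegular rs h'.toIsWeaklyRegular
  · intro R _ rs h
    have h' : LCI.IsKoszulRegularSeq R rs := h
    exact Groth.Agent.Lib.T2H9.KoszulH1.isH1Regular_of_isKoszulRegularSeq rs h'
  · intro R _ rs h
    have h' : CAlgX.IsH1Regular rs.get := h
    exact Groth.Agent.S2103.result rs.get h'

end Groth.Agent.S8905
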