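import Groth.Statements.S10962
import Mathlib
import Groth.Agent.Lib.T2H5AmplePn
-- import your own Groth.Agent.* helpers here

set_option autoImplicit false
universe u
open CategoryTheory CategoryTheory.Limits AlgebraicGeometry TopologicalSpace
open SDiv

namespace Groth.Agent.S10962

/-- Let R be a nonzero ring and n ≥ 1, and let X be projective n-space over R. For an integer d, the
Serre twist O_X(d) is ample if and only if d > 0. (Ample is taken in the sense that X is
quasi-compact and covered by the affine open non-vanishing loci X_s of global sections s of positive
tensor powers; for the quasi-compact separated scheme X this agrees with the definition through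
finitely many generating sections with quasi-affine non-vanishing loci. The published remark also
asserts that O_X(d) is very ample relative to R for d > 0; that clause is not part of this row.) -/
theorem result (R : Type u) [CommRing R] [Nontrivial R] (n : ℕ) (hn : 1 ≤ n) (d : ℤ) :
    CohB1.IsAmple (Twist.twistProjSpace n R d) ↔ 0 < d := by
  constructor
  · intro h
    by_contra hd
    exact Groth.Agent.Lib.T2H5.AmplePn.not_isAmple_twist_of_nonpos n R hn d (by omega) h
  · intro hd
    obtain ⟨e, rfl⟩ := Int.eq_ofNat_of_zero_le hd.le
    exact Groth.Agent.Lib.T2H5.AmplePn.isAmple_twist_of_pos n R e (by exact_mod_cast hd)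

end Groth.Agent.S10962
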