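import Groth.Statements.S1536
import Groth.Agent.Lib.T2H9GammaBC
import Groth.Agent.Lib.T2H9H0Unit

set_option autoImplicit false
set_option linter.style.haveILetI false
set_option linter.unusedVariables false
universe u
open CategoryTheory CategoryTheory.Limits AlgebraicGeometry
open Variety

namespace Groth.Agent.S1536

/-- For a proper scheme X over a field k which is geometrically reduced and geometrically connected,
H^0(X, O_X) is one-dimensional over k, i.e. the global functions are the constants. -/
theorem result (k : Type u) [Field k] (X : Scheme.{u}) [X.Over (Spec (CommRingCat.of k))] [IsProper (X ↘ (Spec (CommRingCat.of k)))]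
    [GeometricallyReduced (X ↘ (Spec (CommRingCat.of k)))] [GeometricallyConnected (X ↘ (Spec (CommRingCat.of k)))] :
    Module.finrank k (Coh.HH X (Coh.structureModule X) 0) = 1 := by
  have hs := Groth.Agent.Lib.T2H9.GammaBC.appTop_surjective k X (X ↘ (Spec (CommRingCat.of k)))
  haveI : Nonempty X := by
    haveI : ConnectedSpace X :=
      GeometricallyConnected.connectedSpace_of_subsingleton (X ↘ (Spec (CommRingCat.of k)))
    infer_instance
  haveI : Nonempty ↥(⊤ : X.Opens) := ⟨⟨Classical.arbitrary _, trivial⟩⟩
  haveI : Nontrivial (Coh.Γtop X) := inferInstanceAs (Nontrivial Γ(X, ⊤))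
  apply Groth.Agent.Lib.T2H9.H0Unit.finrank_hh0_eq_one k X
  unfold Coh.toGlobal
  exact hs.comp (ConcreteCategory.bijective_of_isIso (Scheme.ΓSpecIso (CommRingCat.of k)).inv).2

end Groth.Agent.S1536
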