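-- Statement S18468: eigenspace decomposition of the augmentation ideal under the power maps.
import Mathlib
import Groth.Statements.S18468
import Groth.Agent.S18467
import Groth.Agent.Lib.T2H3OortTate

set_option autoImplicit false
universe u
open OortTate

namespace Groth.Agent.S18468

open Groth.Agent.Lib.T2H3.OortTate in
theorem result
    (p : ℕ) [Fact p.Prime] (R : Type u) [CommRing R] (u : R) (hu : u * ((p - 1 : ℕ) : R) = 1)
    (χ : (ZMod p)ˣ →* Rˣ) (hχ : ∀ m : (ZMod p)ˣ, m ≠ 1 → IsUnit ((χ m : R) - 1))
    (A : Type u) [CommRing A] [HopfAlgebra R A]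
    (hp : (WithConv.toConv (AlgHom.id R A)) ^ p = 1) :
    iSupIndep (fun i : Fin (p - 1) => OortTate.eigenAug R A p χ (i : ℕ)) ∧
      (⨆ i : Fin (p - 1), OortTate.eigenAug R A p χ (i : ℕ)) =
        LinearMap.ker (Bialgebra.counitAlgHom R A).toLinearMap ∧
      ∀ i : Fin (p - 1), OortTate.eigenAug R A p χ (i : ℕ) =
        Submodule.map (OortTate.proj R A p u χ (i : ℕ))
          (LinearMap.ker (Bialgebra.counitAlgHom R A).toLinearMap) := by
  classical
  have hcard : Fintype.card (ZMod p)ˣ = p - 1 := ZMod.card_units p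
  -- the projectors form a complete family of orthogonal idempotents
  have hcoi : CompleteOrthogonalIdempotents
      (fun i : Fin (p - 1) => OortTate.proj R A p u χ (i : ℕ)) := by
    have h := (Groth.Agent.S18467.result p R u hu χ hχ).map
      (groupAlgHom R A p hp : MonoidAlgebra R (ZMod p)ˣ →+* Module.End R A)
    convert h using 1
    funext i
    exact (groupAlgHom_idem p hp u χ (i : ℕ)).symm
  -- the projector formula
  have hproj : ∀ (i : ℕ) (f : A), OortTate.proj R A p u χ i f =
      u • ∑ m : (ZMod p)ˣ, (((χ m⁻¹ : Rˣ) : R) ^ i) • rho R A p hp m f := by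
    intro i f
    unfold OortTate.proj
    rw [LinearMap.smul_apply, LinearMap.sum_apply]
    rfl
  -- eigenvector property of the image of the projectors
  have heig : ∀ (i : ℕ) (m : (ZMod p)ˣ) (f : A),
      rho R A p hp m (OortTate.proj R A p u χ i f) =
        ((χ m : Rˣ) : R) ^ i • OortTate.proj R A p u χ i f := by
    intro i m f
    rw [hproj, LinearMap.map_smul, smul_comm]
    congr 1
    rw [map_sum, Finset.smul_sum, ← Equiv.sum_comp (Equiv.mulLeft m⁻¹)]
    refine Finset.sum_congr rfl fun n _ => ?_
    rw [LinearMap.map_smul, ← Module.End.mul_apply, ← map_mul, Equiv.coe_mulLeft,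
      mul_inv_cancel_left, smul_smul]
    congr 1
    rw [mul_inv_rev, inv_inv, map_mul, Units.val_mul, mul_pow]
    exact mul_comm _ _
  -- the projectors preserve the augmentation ideal
  have hcounit : ∀ (i : ℕ) (f : A), Coalgebra.counit (R := R) f = 0 →
      Coalgebra.counit (R := R) (OortTate.proj R A p u χ i f) = 0 := by
    intro i f hf
    rw [hproj, map_smul, map_sum]
    rw [Finset.sum_eq_zero, smul_zero]
    intro m _
    rw [map_smul, rho_apply]
    show _ • Coalgebra.counit (R := R) (SGA3b.powConv R A (m : ZMod p).val f) = 0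
    rw [counit_powConv, hf, smul_zero]
  -- membership in the eigenspace
  have hmem : ∀ (i : ℕ) (f : A), f ∈ OortTate.eigenAug R A p χ i ↔
      Coalgebra.counit (R := R) f = 0 ∧ ∀ m : (ZMod p)ˣ, rho R A p hp m f = ((χ m : Rˣ) : R) ^ i • f := by
    intro i f
    unfold OortTate.eigenAug
    rw [Submodule.mem_inf, LinearMap.mem_ker, Submodule.mem_iInf]
    refine and_congr Iff.rfl (forall_congr' fun m => ?_)
    rw [Module.End.mem_eigenspace_iff]
    rfl
  -- the projector fixes the eigenspace
  have hfix : ∀ (i : ℕ) (f : A), f ∈ OortTate.eigenAug R A p χ i →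
      OortTate.proj R A p u χ i f = f := by
    intro i f hf
    rw [hmem] at hf
    rw [hproj]
    have : ∀ m : (ZMod p)ˣ, (((χ m⁻¹ : Rˣ) : R) ^ i) • rho R A p hp m f = f := by
      intro m
      rw [hf.2 m, smul_smul, ← mul_pow, ← Units.val_mul, ← map_mul, inv_mul_cancel, map_one,
        Units.val_one, one_pow, one_smul]
    rw [Finset.sum_congr rfl fun m _ => this m, Finset.sum_const, Finset.card_univ, hcard,
      ← Nat.cast_smul_eq_nsmul R, smul_smul, hu, one_smul]
  have himage : ∀ (i : ℕ) (f : A), Coalgebra.counit (R := R) f = 0 →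
      OortTate.proj R A p u χ i f ∈ OortTate.eigenAug R A p χ i := by
    intro i f hf
    rw [hmem]
    exact ⟨hcounit i f hf, fun m => heig i m f⟩
  have hle : ∀ i : ℕ, OortTate.eigenAug R A p χ i ≤
      LinearMap.ker (Bialgebra.counitAlgHom R A).toLinearMap := by
    intro i
    unfold OortTate.eigenAug
    exact inf_le_left
  refine ⟨?_, ?_, ?_⟩
  · -- independence
    rw [iSupIndep_def]
    intro i
    rw [Submodule.disjoint_def]
    intro x hx1 hx2
    have hker : (⨆ j, ⨆ (_ : j ≠ i), OortTate.eigenAug R A p χ (j : ℕ)) ≤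
        LinearMap.ker (OortTate.proj R A p u χ (i : ℕ)) := by
      refine iSup₂_le fun j hj y hy => ?_
      rw [LinearMap.mem_ker, ← hfix (j : ℕ) y hy, ← Module.End.mul_apply]
      have := hcoi.ortho (Ne.symm hj)
      simp only at this
      rw [this, LinearMap.zero_apply]
    have h2 := hker hx2
    rwa [LinearMap.mem_ker, hfix (i : ℕ) x hx1] at h2
  · -- the sum is the augmentation ideal
    apply le_antisymm
    · exact iSup_le fun i => hle (i : ℕ)
    · intro f hf
      have hf' : Coalgebra.counit (R := R) f = 0 := hf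
      have hsum : f = ∑ i : Fin (p - 1), OortTate.proj R A p u χ (i : ℕ) f := by
        have := hcoi.complete
        have h2 := congrArg (fun φ : Module.End R A => φ f) this
        simp only [LinearMap.sum_apply, Module.End.one_apply] at h2
        exact h2.symm
      rw [hsum]
      refine Submodule.sum_mem _ fun i _ => ?_
      exact Submodule.mem_iSup_of_mem i (himage (i : ℕ) f hf')
  · intro i
    apply le_antisymm
    · intro f hf
      exact ⟨f, hle (i : ℕ) hf, hfix (i : ℕ) f hf⟩
    · rintro _ ⟨f, hf, rfl⟩
      exact himage (i : ℕ) f hf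

end Groth.Agent.S18468
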