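import Groth.Statements.S0005
import Groth.Agent.S7757
import Groth.Agent.Lib.Helper22Hartogs2
import Groth.Agent.Lib.T2H3PuritySchF

set_option autoImplicit false
set_option linter.style.haveILetI false
universe u
open FEt

namespace Groth.Agent.S0005

open CategoryTheory AlgebraicGeometry in
/-- Purity for finite étale covers, global form: let X be a Noetherian scheme all of whose local rings
are regular and U ⊆ X an open subscheme such that every point of X outside U has local ring of Krull
dimension at least 2. Then restriction of finite étale covers from X to U is an equivalence of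
categories. -/
theorem result (X : Scheme.{u}) [IsNoetherian X]
    (hreg : ∀ x : X, IsRegularLocalRing (X.presheaf.stalk x)) (U : X.Opens)
    (hU : ∀ x : X, x ∉ U → (2 : WithBot ℕ∞) ≤ ringKrullDim (X.presheaf.stalk x)) :
    (FEt.restrict U.ι).IsEquivalence := by
  have hdepth : ∀ x : X, x ∉ U →
      (2 : ℕ∞) ≤ LocCoh.depth (X.presheaf.stalk x) (X.presheaf.stalk x) := by
    intro x hx
    haveI := hreg x
    obtain ⟨f, a, hf, ha, hreg', hab⟩ :=
      Groth.Agent.Lib.T2H3.Purity.exists_regular_param_pair (X.presheaf.stalk x) (hU x hx)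
    exact Groth.Agent.Lib.T2H3.Purity.two_le_depth hf ha hreg' hab
  obtain ⟨hfull, hfaith⟩ : (FEt.restrict U.ι).Full ∧ (FEt.restrict U.ι).Faithful := by
    apply Groth.Agent.S7757.result
    intro V
    rw [Scheme.Opens.ι_app]
    refine Groth.Agent.Lib.Helper22.Hartogs.bijective_res_of_depth U hdepth V _ _ ?_ ?_
    · rintro x ⟨hxV, hxU⟩
      exact ⟨⟨x, hxU⟩, hxV, rfl⟩
    · rintro _ ⟨x, -, rfl⟩
      exact x.2
  haveI := hfull
  haveI := hfaith
  haveI : (FEt.restrict U.ι).EssSurj :=
    Groth.Agent.Lib.T2H3.PuritySchG.essSurj_restrict U hreg hU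
  exact { }

end Groth.Agent.S0005
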