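import Groth.Statements.S0027
import Mathlib
import Groth.Agent.Lib.T2H5GenIsoF
-- import your own Groth.Agent.* helpers here

set_option autoImplicit false
universe u
open Coherent

namespace Groth.Agent.S0027

open AlgebraicGeometry CategoryTheory CategoryTheory.Limits in
/-- Let X be a nonempty Noetherian scheme and P an isomorphism-invariant property of O_X-modules such
that (1) in a short exact sequence of coherent modules, P for the two outer terms implies P for the
middle term, and (2) P holds for the direct image of every quasi-coherent ideal sheaf of every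
integral closed subscheme of X. Then P holds for every coherent O_X-module. (Nonemptiness of X is
needed for the zero module; the published statement leaves it implicit.) -/
theorem result (X : Scheme.{u}) [IsNoetherian X] [Nonempty X]
    (P : X.Modules → Prop) (hP : ∀ M N : X.Modules, Nonempty (M ≅ N) → P M → P N)
    (h₁ : ∀ S : ShortComplex X.Modules, S.ShortExact → Coh.IsCoh S.X₁ → Coh.IsCoh S.X₂ →
      Coh.IsCoh S.X₃ → P S.X₁ → P S.X₃ → P S.X₂)
    (h₂ : ∀ (Z : Scheme.{u}) (i : Z ⟶ X), IsClosedImmersion i → IsIntegral Z →
      ∀ (I : Z.Modules) (ι : I ⟶ Coh.structureModule Z), Mono ι → Coh.IsQCoh I →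
        P ((Coh.push i).obj I))
    (M : X.Modules) (hM : Coh.IsCoh M) : P M := by
  classical
  -- `P` holds for the zero modules
  have h0 : ∀ N : X.Modules, IsZero N → P N := by
    intro N hN
    obtain ⟨x⟩ := ‹Nonempty X›
    have hYc : IsClosed (closure ({x} : Set X)) := isClosed_closure
    have hYirr : IsIrreducible (closure ({x} : Set X)) := isIrreducible_singleton.closure
    have hint := Groth.Agent.Lib.T2H5.GenIsoE.isIntegral_subscheme_vanishingIdeal _ hYc hYirr
    set Z := (Scheme.IdealSheafData.vanishingIdeal ⟨_, hYc⟩).subscheme with hZ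
    have hq : (Coh.structureModule Z).IsQuasicoherent :=
      Groth.Agent.Lib.Helper20.OmegaAff.isQuasicoherent_structureModule
    have hPz := h₂ Z (Scheme.IdealSheafData.vanishingIdeal ⟨_, hYc⟩).subschemeι inferInstance hint
      (kernel (𝟙 (Coh.structureModule Z))) (kernel.ι _) inferInstance
      (Groth.Agent.Lib.Helper23.QCohLocal.isQuasicoherent_kernel _)
    have hz : IsZero (kernel (𝟙 (Coh.structureModule Z))) := isZero_kernel_of_mono _
    exact hP _ _ ⟨(Functor.map_isZero _ hz).iso hN⟩ hPz
  refine Groth.Agent.Lib.T2H5.Devissage.core P hP h0 h₁ Set.univ ?_ M hM (Set.subset_univ _)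
  intro Y hY hYirr _ ihN M' hM' hM'k
  have hint := Groth.Agent.Lib.T2H5.GenIsoE.isIntegral_subscheme_vanishingIdeal Y hY hYirr
  exact Groth.Agent.Lib.T2H5.GenIsoF.irr_step_ideal P hP h0 h₁ Y hY hYirr ihN
    (fun I ι hι hI => h₂ _ _ inferInstance hint I ι hι hI) M' hM' hM'k

end Groth.Agent.S0027
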