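import Groth.Statements.S0037
import Mathlib
import Groth.Agent.Lib.T2H5RpushStalk
import Groth.Agent.Lib.Helper23AffOpen2
-- import your own Groth.Agent.* helpers here

set_option autoImplicit false
universe u
open Coherent

namespace Groth.Agent.S0037

open AlgebraicGeometry CategoryTheory in
/-- Let Y be locally Noetherian, f : X → Y proper and y a point whose fibre f⁻¹{y} is finite. Then for
every coherent F on X and every p > 0 the stalk of R^p f_* F at y vanishes. -/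
theorem result {X Y : Scheme.{u}} (f : X ⟶ Y) [IsProper f]
    [IsLocallyNoetherian Y] (y : Y) (hy : (f.base ⁻¹' {y}).Finite) (M : X.Modules) (hM : Coh.IsCoh M)
    (p : ℕ) (hp : 0 < p) :
    Limits.IsZero (TopCat.Presheaf.stalk ((Coh.RpushAb f p).obj (Coh.toAb M)).obj y) := by
  obtain ⟨V₀, hyV₀, hfin⟩ := AlgebraicGeometry.exists_isFinite_morphismRestrict_of_finite_preimage_singleton f y hy
  haveI : M.IsQuasicoherent := hM.1
  obtain ⟨p', rfl⟩ : ∃ p', p = p' + 1 := ⟨p - 1, by omega⟩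
  let B : Set Y.Opens := {V | AlgebraicGeometry.IsAffineOpen V ∧ V ≤ V₀}
  refine Groth.Agent.Lib.T2H5.RpushStalk.isZero_stalk_Rpush f.base y B ?_
    (Groth.Agent.Lib.Helper23.AffVanish.ab' M) ?_ p'
  · intro V hyV
    obtain ⟨V', hV', hyV', hle⟩ := (TopologicalSpace.Opens.isBasis_iff_nbhd.1 Y.isBasis_affineOpens)
      (show y ∈ V ⊓ V₀ from ⟨hyV, hyV₀⟩)
    exact ⟨V', ⟨hV', hle.trans inf_le_right⟩, hyV', hle.trans inf_le_left⟩
  · rintro V ⟨hV, hVV₀⟩ i
    have hW : AlgebraicGeometry.IsAffineOpen (V₀.ι ⁻¹ᵁ V) :=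
      hV.preimage_of_isOpenImmersion V₀.ι (by simpa using hVV₀)
    have h1 : AlgebraicGeometry.IsAffineOpen ((f ∣_ V₀) ⁻¹ᵁ (V₀.ι ⁻¹ᵁ V)) := hW.preimage (f ∣_ V₀)
    have h2 := h1.image_of_isOpenImmersion (f ⁻¹ᵁ V₀).ι
    have h3 : (f ⁻¹ᵁ V₀).ι ''ᵁ ((f ∣_ V₀) ⁻¹ᵁ (V₀.ι ⁻¹ᵁ V)) = f ⁻¹ᵁ V := by
      rw [AlgebraicGeometry.image_morphismRestrict_preimage,
        AlgebraicGeometry.Scheme.Hom.image_preimage_eq_opensRange_inf]
      simp [inf_eq_right.2 hVV₀]
    rw [h3] at h2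
    exact Groth.Agent.Lib.Helper23.AffVanish.subsingleton_HE_of_isAffineOpen h2 M i

end Groth.Agent.S0037
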