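import Groth.Statements.S0043
import Mathlib
import Groth.Prelude.Def_Coh
import Groth.Agent.Lib.T2H4CechKz
import Groth.Agent.Lib.T2H4ExtCechNak
import Groth.Agent.Lib.Helper23AffOpen2
import Groth.Agent.Lib.Helper20OmegaAff

set_option autoImplicit false
universe u
open Coherent

namespace Groth.Agent.S0043
open AlgebraicGeometry CategoryTheory Opposite TopologicalSpace CategoryTheory.Limits
open Groth.Agent.Lib.Helper6 Groth.Agent.Lib.T2H2.LowCechR Groth.Agent.Lib.T2H2.FlasqueKz
open Groth.Agent.Lib.Helper16.CechLow Groth.Agent.Lib.Helper16.CechH1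
open Groth.Agent.Lib.T2H4.SecLoc Groth.Agent.Lib.T2H4.YVan Groth.Agent.Lib.Helper23.AffVanish
open Groth.Agent.Lib.T2H4.CechKz

variable (X : Scheme.{u})

/-- a finite list of global functions with affine basic opens covering `X` -/
lemma exists_list [X.IsQuasiAffine] : ∃ fs : List Γ(X, ⊤),
    (∀ f ∈ fs, IsAffineOpen (X.basicOpen f)) ∧
    (⨆ i : II fs, fam (RingHom.id Γ(X, ⊤)) (aa fs) i) = ⊤ := by
  have H : ∀ x : X, ∃ r : Γ(X, ⊤), IsAffineOpen (X.basicOpen r) ∧ x ∈ X.basicOpen r := by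
    intro x
    obtain ⟨_, ⟨_, ⟨r, hr, rfl⟩, rfl⟩, hxr, -⟩ :=
      (Scheme.IsQuasiAffine.isBasis_basicOpen X).exists_subset_of_mem_open (Set.mem_univ x)
        isOpen_univ
    exact ⟨r, hr, hxr⟩
  choose r hr hxr using H
  obtain ⟨t, ht⟩ := isCompact_univ.elim_finite_subcover (fun x : X => (X.basicOpen (r x) : Set X))
    (fun x => (X.basicOpen (r x)).2) (fun y _ => Set.mem_iUnion.2 ⟨y, hxr y⟩)
  refine ⟨t.toList.map r, ?_, ?_⟩
  · intro f hf
    obtain ⟨x, _, rfl⟩ := List.mem_map.1 hf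
    exact hr x
  · rw [eq_top_iff]
    intro y _
    obtain ⟨x, hx⟩ := Set.mem_iUnion.1 (ht (Set.mem_univ y))
    obtain ⟨hxt, hy⟩ := Set.mem_iUnion.1 hx
    have hmem : r x ∈ t.toList.map r := List.mem_map.2 ⟨x, Finset.mem_toList.2 hxt, rfl⟩
    obtain ⟨i, hi⟩ := List.mem_iff_get.1 hmem
    refine Opens.mem_iSup.2 ⟨⟨i⟩, ?_⟩
    change y ∈ X.basicOpen ((t.toList.map r).get i)
    rw [hi]
    exact hy

/-- products of members of the list have affine basic opens -/
lemma isAffineOpen_gprod (fs : List Γ(X, ⊤)) (hfs : ∀ f ∈ fs, IsAffineOpen (X.basicOpen f))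
    {n : ℕ} (σ : Fin (n + 1) → II fs) :
    IsAffineOpen (X.basicOpen ((RingHom.id Γ(X, ⊤)) (gprod (aa fs) σ))) := by
  have h0 : IsAffineOpen (X.basicOpen (aa fs (σ 0))) := hfs _ (List.get_mem fs (σ 0).down)
  have e : gprod (aa fs) σ = aa fs (σ 0) * ∏ k : Fin n, aa fs (σ k.succ) :=
    Fin.prod_univ_succ (fun k => aa fs (σ k))
  rw [RingHom.id_apply, e, X.basicOpen_mul]
  have := h0.basicOpen ((X.presheaf.map (homOfLE (le_top : X.basicOpen (aa fs (σ 0)) ≤ ⊤)).op).hom
    (∏ k : Fin n, aa fs (σ k.succ)))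
  rwa [Scheme.basicOpen_res] at this

theorem main [X.IsQuasiAffine]
    (h : ∀ p : ℕ, 0 < p → Subsingleton (Coh.HH X (Coh.structureModule X) p)) : IsAffine X := by
  obtain ⟨fs, hfs, hcov⟩ := exists_list X
  suffices hspan : Ideal.span {a : Γ(X, ⊤) | a ∈ fs} = ⊤ from
    isAffine_of_isAffineOpen_basicOpen {a | a ∈ fs} hspan (fun i hi => hfs i hi)
  have hUfs : Ufs (RingHom.id Γ(X, ⊤)) fs = ⊤ := by
    rw [Ufs_eq, eq_top_iff]
    refine hcov.ge.trans (iSup_le fun i => ?_)
    exact le_iSup (fun j : Fin fs.length =>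
      X.basicOpen ((RingHom.id Γ(X, ⊤)) (fs.get j))) i.down
  have hρ : ∀ m : (ModuleCat.of Γ(X, ⊤) ((Coh.structureModule X).val.obj (op ⊤))),
      resR (Coh.structureModule X) (RingHom.id Γ(X, ⊤))
        (hUfs.ge : ⊤ ≤ Ufs (RingHom.id Γ(X, ⊤)) fs)
        (ρR (Coh.structureModule X) (RingHom.id Γ(X, ⊤)) _ (eX (Coh.structureModule X))
          (Ufs (RingHom.id Γ(X, ⊤)) fs) m) = eX (Coh.structureModule X) m := by
    intro m
    rw [resR_ρR]
    exact map_self (Coh.structureModule X).presheaf le_top _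
  -- all Koszul colimits vanish
  have hK : ∀ i : ℕ, Subsingleton (CohIII.koszulHLim fs
      (ModuleCat.of Γ(X, ⊤) ((Coh.structureModule X).val.obj (op ⊤))) i) := by
    intro i
    match i with
    | 0 =>
      obtain ⟨c⟩ := nonempty_ker_equiv (Coh.structureModule X) (RingHom.id Γ(X, ⊤)) _
        (eX (Coh.structureModule X)) fs
      have : Subsingleton (LinearMap.ker (ρR (Coh.structureModule X) (RingHom.id Γ(X, ⊤)) _
          (eX (Coh.structureModule X)) (Ufs (RingHom.id Γ(X, ⊤)) fs))) := by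
        refine ⟨fun a b => Subtype.ext ?_⟩
        apply (eX (Coh.structureModule X)).injective
        rw [← hρ a.1, ← hρ b.1, LinearMap.mem_ker.1 a.2, LinearMap.mem_ker.1 b.2]
      exact c.symm.toEquiv.subsingleton
    | 1 =>
      obtain ⟨c⟩ := nonempty_coker_equiv (Coh.structureModule X) (RingHom.id Γ(X, ⊤)) _
        (eX (Coh.structureModule X)) fs
      have : Subsingleton (SecR (Coh.structureModule X) (RingHom.id Γ(X, ⊤))
          (Ufs (RingHom.id Γ(X, ⊤)) fs) ⧸ LinearMap.range (ρR (Coh.structureModule X)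
            (RingHom.id Γ(X, ⊤)) _ (eX (Coh.structureModule X))
            (Ufs (RingHom.id Γ(X, ⊤)) fs))) := by
        rw [Submodule.Quotient.subsingleton_iff, LinearMap.range_eq_top]
        intro s
        refine ⟨(eX (Coh.structureModule X)).symm (resR (Coh.structureModule X)
          (RingHom.id Γ(X, ⊤)) (hUfs.ge : ⊤ ≤ Ufs (RingHom.id Γ(X, ⊤)) fs) s), ?_⟩
        have h1 : ∀ m, ρR (Coh.structureModule X) (RingHom.id Γ(X, ⊤)) _
            (eX (Coh.structureModule X)) (Ufs (RingHom.id Γ(X, ⊤)) fs) m =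
            resR (Coh.structureModule X) (RingHom.id Γ(X, ⊤)) le_top
              ((eX (Coh.structureModule X)) m) := fun m => rfl
        rw [h1, LinearEquiv.apply_symm_apply, resR_resR]
        exact map_self (Coh.structureModule X).presheaf _ _
      exact c.symm.toEquiv.subsingleton
    | (p + 2) =>
      obtain ⟨e1⟩ := nonempty_cech_equiv_koszulHLim (Coh.structureModule X) fs (p + 1) (by omega)
      obtain ⟨e2⟩ := Groth.Agent.S0464.result (ab' (Coh.structureModule X))
        (fam (RingHom.id Γ(X, ⊤)) (aa fs)) (by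
          intro n σ q
          rw [iInf_fam]
          exact subsingleton_HE_of_isAffineOpen (isAffineOpen_gprod X fs hfs σ)
            (Coh.structureModule X) q) (p + 1)
      rw [hcov] at e2
      have h3 : Subsingleton (CohTop.H (ab' (Coh.structureModule X)) (p + 1)) := h (p + 1) (by omega)
      have h4 : Subsingleton (HE (ab' (Coh.structureModule X)) (p + 1) ⊤) :=
        (HETopEquivH X.carrier (ab' (Coh.structureModule X)) (p + 1)).toEquiv.subsingleton
      have h5 : Subsingleton (CohTop.HU (ab' (Coh.structureModule X)) (p + 1) ⊤) := h4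
      have h6 : Subsingleton ((CK (fun i : ULift.{u} (Fin fs.length) => X.basicOpen (fs.get i.down))
          (Coh.structureModule X).presheaf).homology (p + 1)) :=
        @Equiv.subsingleton _ _ e2.toEquiv h5
      exact e1.symm.toEquiv.subsingleton
  -- the extended Čech complex is acyclic
  have hE : ∀ i : ℤ, IsZero (DerCA.extCechH fs
      (ModuleCat.of Γ(X, ⊤) ((Coh.structureModule X).val.obj (op ⊤))) i) := by
    intro i
    by_cases hi : i < 0
    · exact Groth.Agent.Lib.Helper1.ExtCech.isZero_extCechH fs _ i (Or.inl hi)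
    · obtain ⟨n, rfl⟩ := Int.eq_ofNat_of_zero_le (not_lt.1 hi)
      obtain ⟨e⟩ := Groth.Agent.Lib.T2H2.KzCech.nonempty_koszulHLim_equiv_extCechH fs
        (ModuleCat.of Γ(X, ⊤) ((Coh.structureModule X).val.obj (op ⊤))) n
      rw [ModuleCat.isZero_iff_subsingleton]
      have := hK n
      exact e.symm.toEquiv.subsingleton
  have htop := Groth.Agent.Lib.T2H4.ExtCechNak.smul_top_eq_top fs _ hE
  -- `M` is the ring itself
  rw [Ideal.eq_top_iff_one]
  have key : ∀ m : (ModuleCat.of Γ(X, ⊤) ((Coh.structureModule X).val.obj (op ⊤))),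
      m ∈ (Ideal.span {a : Γ(X, ⊤) | a ∈ fs}) •
        (⊤ : Submodule Γ(X, ⊤) (ModuleCat.of Γ(X, ⊤) ((Coh.structureModule X).val.obj (op ⊤)))) →
      (show Γ(X, ⊤) from m) ∈ Ideal.span {a : Γ(X, ⊤) | a ∈ fs} := by
    intro m hm
    refine Submodule.smul_induction_on hm ?_ ?_
    · intro r hr n _
      exact Ideal.mul_mem_right (show Γ(X, ⊤) from n) _ hr
    · intro x y hx hy
      exact Ideal.add_mem _ hx hy
  have h1 := key (show Γ(X, ⊤) from 1) (by rw [htop]; exact Submodule.mem_top)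
  exact h1


open AlgebraicGeometry in
/-- If X is quasi-affine and H^p(X, O_X) = 0 for all p > 0, then X is affine. -/
theorem result (X : Scheme.{u}) [X.IsQuasiAffine]
    (h : ∀ p : ℕ, 0 < p → Subsingleton (Coh.HH X (Coh.structureModule X) p)) : IsAffine X := by
  exact main X h

end Groth.Agent.S0043
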