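import Groth.Statements.S0074
import Groth.Agent.Lib.T2H8StrictHens
import Groth.Agent.Lib.T2H8StrictHens2

set_option autoImplicit false
open CategoryTheory CategoryTheory.Limits AlgebraicGeometry Opposite
universe u
open EtBase

namespace Groth.Agent.S0074

instance pfc : PreservesFilteredColimitsOfSize.{u, u} (forget AddCommGrpCat.{u + 1}) :=
  preservesFilteredColimitsOfSize_shrink.{u, u + 1, u, u + 1} _

open IsLocalRing in
/-- every element of the fibre of the closed geometric point comes from a section -/
theorem exists_hom (R : Type u) [CommRing R] [HenselianLocalRing R]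
    [IsSepClosed (IsLocalRing.ResidueField R)] (X : (Spec (CommRingCat.of R)).Etale)
    (x : (Scheme.pointSmallEtale
      (Spec.map (CommRingCat.ofHom (IsLocalRing.residue R)))).fiber.obj X) :
    ∃ σ : EtCoh.top (Spec (CommRingCat.of R)) ⟶ X,
      (Scheme.pointSmallEtale (Spec.map (CommRingCat.ofHom (IsLocalRing.residue R)))).fiber.map σ
        (Over.homMk (Spec.map (CommRingCat.ofHom (IsLocalRing.residue R))) (Category.comp_id _)) = x := by
  have hx : x.left ≫ X.hom = Spec.map (CommRingCat.ofHom (IsLocalRing.residue R)) := Over.w x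
  obtain ⟨σ₀, h1, h2⟩ := Groth.Agent.Lib.T2H8.StrictHens.exists_section_through R X.hom x.left hx
  refine ⟨MorphismProperty.Over.homMk σ₀ h1 trivial, ?_⟩
  apply Over.OverMorphism.ext
  exact h2

/-- On the spectrum of a strictly henselian local ring, global sections of an abelian étale sheaf map
bijectively onto the stalk at the geometric closed point. -/
theorem result (R : Type u) [CommRing R] [HenselianLocalRing R]
    [IsSepClosed (IsLocalRing.ResidueField R)] (F : EtCoh.Ab (Spec (CommRingCat.of R))) :
    Function.Bijective ((Scheme.pointSmallEtale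
      (Spec.map (CommRingCat.ofHom (IsLocalRing.residue R)))).toPresheafFiber
        (EtCoh.top (Spec (CommRingCat.of R)))
        (Over.homMk (Spec.map (CommRingCat.ofHom (IsLocalRing.residue R))) (Category.comp_id _)) F.obj) := by
  constructor
  · intro z₁ z₂ h
    rw [GrothendieckTopology.Point.toPresheafFiber_eq_iff'] at h
    obtain ⟨Y, f, y, -, hy⟩ := h
    obtain ⟨σ, -⟩ := exists_hom R Y y
    have hσ : σ ≫ f = 𝟙 _ := (EtCore.topIsTerminal _).hom_ext _ _
    have h1 : ∀ z, F.obj.map σ.op (F.obj.map f.op z) = z := by
      intro z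
      rw [← ConcreteCategory.comp_apply, ← Functor.map_comp, ← op_comp, hσ]
      simp
    rw [← h1 z₁, ← h1 z₂, hy]
  · intro p
    obtain ⟨X, x, z, rfl⟩ := GrothendieckTopology.Point.toPresheafFiber_jointly_surjective _ p
    obtain ⟨σ, rfl⟩ := exists_hom R X x
    refine ⟨F.obj.map σ.op z, ?_⟩
    rw [← GrothendieckTopology.Point.toPresheafFiber_w_apply]

end Groth.Agent.S0074
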