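import Groth.Statements.S0089
import Groth.Agent.Lib.T2H3EtSepClosed

set_option autoImplicit false
set_option linter.style.haveILetI false
open CategoryTheory CategoryTheory.Limits AlgebraicGeometry Opposite
universe u
open EtBase

namespace Groth.Agent.S0089

/-- Part (1) — over an integral normal scheme whose function field is separably closed, any separated
étale scheme is a disjoint union of open subschemes of the base. -/
theorem result {U X : Scheme.{u}} [IsIntegral X] (hN : ∀ x : X, IsIntegrallyClosed (X.presheaf.stalk x))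
    [IsSepClosed X.functionField] (g : U ⟶ X) [AlgebraicGeometry.Etale g] [IsSeparated g] :
    ∃ (ι : Type u) (V : ι → X.Opens) (e : (∐ fun i => (V i : Scheme.{u})) ≅ U),
      ∀ i, Sigma.ι (fun i => (V i : Scheme.{u})) i ≫ e.hom ≫ g = (V i).ι := by
  classical
  open Groth.Agent.Lib.T2H3.EtSepClosed Groth.Agent.Lib.Helper4.EtNormalSch in
  have hX : Pi1.IsNormalScheme X := fun x => ⟨inferInstance, hN x⟩
  have hNU := isNormalScheme_of_etale hX g
  have hdom : ∀ t : U, IsDomain (U.presheaf.stalk t) := fun t => (hNU t).1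
  have hlf := fun t => exists_opens_finite_genericPoints g t
  have hopen : ∀ Z ∈ irreducibleComponents U, IsOpen Z :=
    fun Z hZ => isOpen_of_mem_irreducibleComponents hdom hlf hZ
  haveI : IsReduced U := by
    haveI : ∀ t, _root_.IsReduced (U.presheaf.stalk t) := fun t => by
      haveI := hdom t
      infer_instance
    exact isReduced_of_isReduced_stalk U
  let ι : Type u := ↥(irreducibleComponents U)
  let TZ : ι → U.Opens := fun Z => ⟨Z.1, hopen Z.1 Z.2⟩
  have hint : ∀ Z : ι, IsIntegral (TZ Z : Scheme.{u}) := by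
    intro Z
    haveI : IrreducibleSpace ((TZ Z : Scheme.{u}) : Type u) :=
      Subtype.irreducibleSpace (s := Z.1) Z.2.1
    exact isIntegral_of_irreducibleSpace_of_isReduced _
  let gZ : ∀ Z : ι, (TZ Z : Scheme.{u}) ⟶ X := fun Z => (TZ Z).ι ≫ g
  haveI hoi : ∀ Z, IsOpenImmersion (gZ Z) := fun Z => by
    haveI := hint Z
    exact isOpenImmersion_of_etale (gZ Z)
  let V : ι → X.Opens := fun Z => (gZ Z).opensRange
  let φ : ∀ Z : ι, (V Z : Scheme.{u}) ⟶ U :=
    fun Z => (Scheme.Hom.isoOpensRange (gZ Z)).inv ≫ (TZ Z).ι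
  have hrange : ∀ Z : ι, Set.range (φ Z) = Z.1 := by
    intro Z
    have h1 : Set.range (φ Z) = Set.range (TZ Z).ι := by
      show Set.range ((Scheme.Hom.isoOpensRange (gZ Z)).inv ≫ (TZ Z).ι) = _
      rw [Scheme.Hom.comp_base, TopCat.coe_comp, Set.range_comp,
        Set.range_eq_univ.mpr (Scheme.Hom.isoOpensRange (gZ Z)).inv.surjective, Set.image_univ]
    rw [h1, Scheme.Opens.range_ι]
    rfl
  haveI : ∀ Z, IsOpenImmersion (φ Z) := fun Z => inferInstance
  have hdisj : Pairwise (Function.onFun Disjoint (fun Z : ι => Set.range (φ Z))) := by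
    intro Z Z' hne
    show Disjoint (Set.range (φ Z)) (Set.range (φ Z'))
    rw [hrange, hrange, Set.disjoint_left]
    intro t ht ht'
    haveI := hdom t
    exact hne (Subtype.ext (irreducibleComponents_eq_of_mem t Z.2 Z'.2 ht ht'))
  haveI : IsOpenImmersion (Sigma.desc φ) := isOpenImmersion_sigmaDesc _ φ hdisj
  haveI : IsIso (Sigma.desc φ) := by
    apply isIso_of_isOpenImmersion_of_opensRange_eq_top
    rw [eq_top_iff]
    intro t _
    let Z : ι := ⟨irreducibleComponent t, irreducibleComponent_mem_irreducibleComponents t⟩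
    have ht : t ∈ Set.range (φ Z) := by
      rw [hrange]; exact mem_irreducibleComponent
    obtain ⟨v, hv⟩ := ht
    refine ⟨Sigma.ι (fun Z : ι => (V Z : Scheme.{u})) Z v, ?_⟩
    rw [← Scheme.Hom.comp_apply, Sigma.ι_desc]
    exact hv
  refine ⟨ι, V, asIso (Sigma.desc φ), fun Z => ?_⟩
  rw [asIso_hom, Sigma.ι_desc_assoc]
  show ((Scheme.Hom.isoOpensRange (gZ Z)).inv ≫ (TZ Z).ι) ≫ g = _
  rw [Category.assoc]
  exact Scheme.Hom.isoOpensRange_inv_comp (gZ Z)

end Groth.Agent.S0089
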