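import Groth.Statements.S0223
import Groth.Agent.Lib.T2H9FBCMain
import Groth.Agent.Lib.Helper23PB
import Groth.Agent.Lib.Helper23Serre

set_option autoImplicit false
set_option linter.style.haveILetI false
set_option linter.unusedVariables false
universe u
open CategoryTheory CategoryTheory.Limits AlgebraicGeometry
open Curves

namespace Groth.Agent.S0223

/-- For a proper one-dimensional scheme X over a field k with only constant global functions, base
change to a field extension k' keeps the global functions equal to the constants and keeps the genus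
dim H^1(X, O_X). The base change is given as any pullback square. -/
theorem result (k : Type u) [Field k] (X : Scheme.{u}) [X.Over (Spec (CommRingCat.of k))]
    [IsProper (X ↘ Spec (CommRingCat.of k))] (hdim : topologicalKrullDim X = 1)
    (h0 : Module.finrank k (Coh.HH X (Coh.structureModule X) 0) = 1)
    (k' : Type u) [Field k'] [Algebra k k'] (X' : Scheme.{u}) [X'.Over (Spec (CommRingCat.of k'))]
    (g : X' ⟶ X)
    (hpb : IsPullback g (X' ↘ Spec (CommRingCat.of k')) (X ↘ Spec (CommRingCat.of k))
      (Spec.map (CommRingCat.ofHom (algebraMap k k')))) :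
    Module.finrank k' (Coh.HH X' (Coh.structureModule X') 0) = 1 ∧
      Module.finrank k' (Coh.HH X' (Coh.structureModule X') 1) =
        Module.finrank k (Coh.HH X (Coh.structureModule X) 1) := by
  haveI : (Coh.structureModule X).IsQuasicoherent :=
    Groth.Agent.Lib.Helper23.Serre.isQuasicoherent_structureModule' X
  have key : ∀ i : ℕ, Module.finrank k' (Coh.HH X' (Coh.structureModule X') i) =
      Module.finrank k (Coh.HH X (Coh.structureModule X) i) := by
    intro i
    obtain ⟨e⟩ := Groth.Agent.Lib.T2H9.FBCMain.flat_base_change (A := k) (B := k') g hpb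
      (Coh.structureModule X) i
    let ι := Groth.Agent.Lib.Helper23.PB.pullbackUnitIso g
    have hb : Function.Bijective (Canon.HHlin k' ι.hom i) := by
      refine Function.bijective_iff_has_inverse.2 ⟨Canon.HHlin k' ι.inv i, fun x => ?_, fun x => ?_⟩
      · refine (Formal.HHmap_comp ι.hom ι.inv i x).trans ?_
        have e2 : (SheafOfModules.toSheaf X'.ringCatSheaf).map (ι.hom ≫ ι.inv) = 𝟙 _ :=
          (congrArg (fun t => (SheafOfModules.toSheaf X'.ringCatSheaf).map t) ι.hom_inv_id).trans
            (CategoryTheory.Functor.map_id _ _)
        exact (congrArg (fun t => CategoryTheory.Sheaf.H.map t i x) e2).trans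
          (CategoryTheory.Sheaf.H.map_id_apply _)
      · refine (Formal.HHmap_comp ι.inv ι.hom i x).trans ?_
        have e2 : (SheafOfModules.toSheaf X'.ringCatSheaf).map (ι.inv ≫ ι.hom) = 𝟙 _ :=
          (congrArg (fun t => (SheafOfModules.toSheaf X'.ringCatSheaf).map t) ι.inv_hom_id).trans
            (CategoryTheory.Functor.map_id _ _)
        exact (congrArg (fun t => CategoryTheory.Sheaf.H.map t i x) e2).trans
          (CategoryTheory.Sheaf.H.map_id_apply _)
    let e3 := LinearEquiv.ofBijective (Canon.HHlin k' ι.hom i) hb
    rw [← (e.trans e3).finrank_eq, Module.finrank_baseChange]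
  exact ⟨(key 0).trans h0, key 1⟩

end Groth.Agent.S0223
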