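import Groth.Statements.S0232
import Mathlib
import Groth.Agent.Lib.T2H5PicDescGeo
import Groth.Agent.Lib.T2H9H0Unit
import Groth.Prelude.Def_PicGrp
-- import your own Groth.Agent.* helpers here

set_option autoImplicit false
universe u
open CategoryTheory CategoryTheory.Limits AlgebraicGeometry
open Curves

namespace Groth.Agent.S0232

/-- For a quasi-compact quasi-separated scheme X over a field k with finite-dimensional H^0(X, O_X), an
invertible module on X that becomes trivial after base change to a field extension k' is already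
trivial (injectivity of Pic(X) → Pic(X_{k'}), stated on classes without a group structure). The base
change is given as any pullback square. -/
theorem result (k : Type u) [Field k] (X : Scheme.{u}) [X.Over (Spec (CommRingCat.of k))]
    [CompactSpace X] [QuasiSeparatedSpace X]
    (hfin : Module.Finite k (Coh.HH X (Coh.structureModule X) 0))
    (k' : Type u) [Field k'] [Algebra k k'] (X' : Scheme.{u}) (g : X' ⟶ X) (q : X' ⟶ Spec (CommRingCat.of k'))
    (hpb : IsPullback g q (X ↘ Spec (CommRingCat.of k)) (Spec.map (CommRingCat.ofHom (algebraMap k k'))))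
    (L : X.Modules) (hL : PicF.IsInvertible L) (htriv : PicF.IsTrivialCl (PicF.pullCl g (PicF.cl L))) :
    PicF.IsTrivialCl (PicF.cl L) := by
  let algk : Algebra k Γ(X, ⊤) := (Coh.toGlobal (X ↘ Spec (CommRingCat.of k))).toAlgebra
  let e0 : Coh.HH X (Coh.structureModule X) 0 ≃ₗ[k] Γ(X, ⊤) :=
    { Groth.Agent.Lib.T2H9.H0Unit.hh0Unit X with
      map_smul' := fun a x => by
        have h1 : a • x = (Coh.toGlobal (X ↘ Spec (CommRingCat.of k)) a) • x := rfl
        change Groth.Agent.Lib.T2H9.H0Unit.hh0Unit X (a • x) =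
          a • (show Γ(X, ⊤) from Groth.Agent.Lib.T2H9.H0Unit.hh0Unit X x)
        rw [h1, Groth.Agent.Lib.T2H9.H0Unit.hh0Unit_smul]
        rfl }
  have : Module.Finite k Γ(X, ⊤) := Module.Finite.equiv e0
  have : IsArtinianRing Γ(X, ⊤) := IsArtinianRing.of_finite k Γ(X, ⊤)
  have hsl : Finite (MaximalSpectrum Γ(X, ⊤)) := inferInstance
  have hff : (CommRingCat.ofHom (algebraMap k k')).hom.FaithfullyFlat :=
    RingHom.faithfullyFlat_algebraMap_iff.2 inferInstance
  obtain ⟨hfl, hsurj⟩ := (flat_and_surjective_SpecMap_iff (CommRingCat.ofHom (algebraMap k k'))).2 hff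
  have := hfl
  have := hsurj
  have htriv' : Nonempty ((Scheme.Modules.pullback g).obj L ≅ Coh.structureModule X') :=
    (PicGrp.cl_eq_cl_iff _ _).1 htriv
  exact (PicGrp.cl_eq_cl_iff _ _).2
    (Groth.Agent.Lib.T2H5.PicDescGeo.nonempty_iso_structureModule_of_pullback
      (X ↘ Spec (CommRingCat.of k)) (Spec.map (CommRingCat.ofHom (algebraMap k k'))) g q hpb hsl L hL htriv')

end Groth.Agent.S0232
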