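import Groth.Statements.S0271
import Groth.Agent.Lib.T2H7InertiaStdB
import Groth.Agent.Lib.T2H7InertiaEltB

set_option autoImplicit false
universe u
open Pi1

namespace Groth.Agent.S0271

open AlgebraicGeometry CategoryTheory CategoryTheory.Limits in
/-- Let a finite group G act on a ring R, let q be a prime of R with inertia subgroup I (elements acting
trivially modulo q). Then the ring of I-invariants is etale over the ring of G-invariants at the
prime below q: some principal localization of the I-invariants at an element outside that prime is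
an etale algebra over the G-invariants. -/
theorem result (G R : Type u) [Group G] [Finite G] [CommRing R] [MulSemiringAction G R]
    (q : Ideal R) [q.IsPrime] :
    ∃ g : FixedPoints.subring R (q.inertia G),
      g ∉ q.comap (FixedPoints.subring R (q.inertia G)).subtype ∧
      Algebra.Etale (FixedPoints.subring R G) (Localization.Away g) := by
  obtain ⟨a, hH, hq⟩ := Groth.Agent.Lib.T2H7.InertiaEltB.exists_good_element (G := G) q
  refine ⟨Groth.Agent.Lib.T2H7.InertiaStdB.δC (q.inertia G) a hH, ?_, ?_⟩
  · change Groth.Agent.Lib.T2H7.InertiaStd.δ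
      (Groth.Agent.Lib.T2H7.InertiaStd.one : Groth.Agent.Lib.T2H7.InertiaStd.Q G R a) ∉ q
    unfold Groth.Agent.Lib.T2H7.InertiaStd.δ
    rw [Ideal.IsPrime.prod_mem_iff]
    rintro ⟨τ, hτ, h⟩
    obtain ⟨g, rfl⟩ := QuotientGroup.mk_surjective τ
    rw [Groth.Agent.Lib.T2H7.InertiaStd.rt_one, Groth.Agent.Lib.T2H7.InertiaStd.rt_mk] at h
    refine hq g (fun hg => ?_) h
    apply (Finset.mem_erase.1 hτ).1
    apply Groth.Agent.Lib.T2H7.InertiaStd.rt_injective
    rw [Groth.Agent.Lib.T2H7.InertiaStd.rt_one, Groth.Agent.Lib.T2H7.InertiaStd.rt_mk]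
    exact (hH g).1 hg
  · have := Groth.Agent.Lib.T2H7.InertiaStdB.isStandardEtale (q.inertia G) a hH
    infer_instance

end Groth.Agent.S0271
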