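import Groth.Statements.S0336
import Groth.Agent.Lib.LeadKzc
-- import your own Groth.Agent.* helpers here

set_option autoImplicit false
universe u v
open LocCoh

namespace Groth.Agent.S0336

/-- A Noetherian ring of prime characteristic p is regular exactly when its Frobenius endomorphism is
flat. -/
theorem result (p : ℕ) [Fact p.Prime] (R : Type u) [CommRing R] [IsNoetherianRing R] [CharP R p] : IsRegularRing R ↔ (frobenius R p).Flat := by
  constructor
  · intro hreg
    refine RingHom.Flat.ofLocalizationPrime (frobenius R p) (fun J hJ => ?_)
    have key : ∀ (Q : Ideal R) [Q.IsPrime] (hQ : Q = Ideal.comap (frobenius R p) J), Q = J →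
        (Localization.localRingHom Q J (frobenius R p) hQ).Flat := by
      intro Q _ hQ hQJ
      subst hQJ
      have := Groth.Agent.Lib.LeadKz.charP_localization p R Q
      rw [Groth.Agent.Lib.LeadKz.localRingHom_frobenius]
      exact Groth.Agent.Lib.LeadKz.frobenius_flat_of_isRegularLocalRing p _
    have : (Ideal.comap (frobenius R p) J).IsPrime := Ideal.comap_isPrime _ _
    exact key _ rfl (Groth.Agent.Lib.LeadKz.comap_frobenius p R J)
  · intro hF
    rw [isRegularRing_iff]
    intro P _
    have := Groth.Agent.Lib.LeadKz.charP_localization p R P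
    apply Groth.Agent.Lib.LeadKz.isRegularLocalRing_of_frobenius_flat p
    have h := RingHom.Flat.localRingHom hF P P (Groth.Agent.Lib.LeadKz.comap_frobenius p R P).symm
    rwa [Groth.Agent.Lib.LeadKz.localRingHom_frobenius] at h

end Groth.Agent.S0336
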