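import Groth.Statements.S0368
import Groth.Agent.Lib.T2H4DepthCM

set_option autoImplicit false
universe u v
open CategoryTheory
attribute [local instance] HasDerivedCategory.standard
open Dual

namespace Groth.Agent.S0368

/-- (1)⇔(3): for a Noetherian local ring with normalized dualizing complex ω, a nonzero finite module M
with support of dimension d is Cohen–Macaulay exactly when Hom(M, ω[−i]) vanishes in D(A) for every
i ≠ d. -/
theorem result (A : Type u) [CommRing A] [IsLocalRing A] [IsNoetherianRing A] (ω : Dual.D A) (hω : Dual.IsDualizing A ω) (hn : Dual.IsNormalized A ω) (M : Type u) [AddCommGroup M] [Module A M] [Module.Finite A M] [Nontrivial M] (d : ℕ) (hd : Module.supportDim A M = d) : LocCoh.IsCohenMacaulayModule A M ↔ ∀ i : ℤ, i ≠ d → Subsingleton (Dual.inD A M ⟶ ω⟦(-i)⟧) := by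
  
  open Groth.Agent.Lib.T2H4.Depth Groth.Agent.Lib.Helper28 in
  have hne : LocCoh.depth A M ≠ ⊤ := idealDepth_ne_top maximalIdeal_smul_top_ne_top
  obtain ⟨δ, hδ⟩ := ENat.ne_top_iff_exists.1 hne
  obtain ⟨hP1, hP2⟩ := Groth.Agent.Lib.T2H4.Depth.depth_aux ω hω hn δ M hδ.symm
  have hlow := Groth.Agent.Lib.T2H4.Depth.subsingleton_hom_below ω hω hn (d + 1) M (by
    rw [hd]
    exact_mod_cast Nat.lt_succ_self d)
  unfold LocCoh.IsCohenMacaulayModule
  rw [hd, ← hδ]
  constructor
  · intro h
    have hdδ : d = δ := by exact_mod_cast h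
    subst hdδ
    intro i hi
    rcases lt_or_gt_of_ne hi with h | h
    · exact hP1 _ (by lia)
    · exact hlow _ (by push_cast; lia)
  · intro h
    have hdδ : d = δ := by
      by_contra hne'
      have hδd : ((δ : ℕ) : ℤ) ≠ (d : ℤ) := by
        intro h'
        exact hne' (by exact_mod_cast h'.symm)
      have := h δ hδd
      exact not_subsingleton _ this
    rw [hdδ]
    rfl

end Groth.Agent.S0368
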