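import Groth.Statements.S0624
import Groth.Agent.Lib.T2H7EtSplitA
import Groth.Agent.Lib.T2H7EtLift
import Groth.Agent.Lib.Helper18NormalSepClosed3

set_option autoImplicit false
open CategoryTheory CategoryTheory.Limits AlgebraicGeometry Opposite
universe u
open EtCore

namespace Groth.Agent.S0624

/-- Let X be an affine, integral and normal scheme with separably closed function field, Z -> X a closed
immersion and V -> Z etale with V affine. Then V splits, over Z, as the disjoint union of finitely
many open subschemes of Z. -/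
theorem result {V Z X : Scheme.{u}} [IsAffine X] [IsIntegral X]
    (hN : ∀ x : X, IsIntegrallyClosed (X.presheaf.stalk x)) [IsSepClosed X.functionField]
    (i : Z ⟶ X) [IsClosedImmersion i] (φ : V ⟶ Z) [AlgebraicGeometry.Etale φ] [IsAffine V] :
    ∃ (ι : Type u) (_ : Finite ι) (W : ι → Z.Opens) (e : (∐ fun k => (W k : Scheme.{u})) ≅ V),
      ∀ k, Sigma.ι (fun k => (W k : Scheme.{u})) k ≫ e.hom ≫ φ = (W k).ι := by
  obtain ⟨U, hU, f, hf, j, hpb⟩ := Groth.Agent.Lib.T2H7.EtLift.exists_etale_isPullback i φ
  haveI := hU
  haveI := hf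
  exact Groth.Agent.Lib.T2H7.EtSplitA.exists_iso_sigma_of_isPullback
    (fun x => Groth.Agent.Lib.Helper18NormalSepClosed3.main X hN x) f i φ j hpb

end Groth.Agent.S0624
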