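import Groth.Statements.S0642
import Groth.Agent.Lib.T2H8StalkUnivInj

set_option autoImplicit false
open CategoryTheory CategoryTheory.Limits AlgebraicGeometry Opposite
universe u
open EtCore

namespace Groth.Agent.S0642

/-- Let X_0 -> X be integral, universally injective and surjective (a universal homeomorphism). Then for
every abelian sheaf F on the small etale site of X and every q the pullback map from H^q(X, F) to
H^q(X_0, F|_{X_0}) is bijective. (Exactness of pullback of abelian sheaves, which always holds, is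
carried as an instance hypothesis.) -/
theorem result {X₀ X : Scheme.{u}} (i : X₀ ⟶ X) [IsIntegralHom i]
    [UniversallyInjective i] [Surjective i] [PreservesFiniteLimits (EtCoh.pull i)] (F : EtCoh.Ab X) (q : ℕ) :
    Function.Bijective (EtCore.Hpull i F q) := by
  have hc : ∀ G : EtCoh.Ab X₀, IsIso ((EtCoh.pullPushAdj i).counit.app G) :=
    Groth.Agent.Lib.T2H8StalkUnivInj.isIso_counit i
  have hu : ∀ G : EtCoh.Ab X, IsIso ((EtCoh.pullPushAdj i).unit.app G) := fun G =>
    Groth.Agent.Lib.T2H8StalkUnivInj.isIso_unit_of_supp i G (by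
      have : Set.range i.base = Set.univ := Set.range_eq_univ.mpr i.surjective
      rw [this]
      exact Set.subset_univ _)
  let e : EtCoh.Ab X ≌ EtCoh.Ab X₀ := (EtCoh.pullPushAdj i).toEquivalence
  haveI : (EtCoh.pull i).Full := (inferInstance : e.functor.Full)
  haveI : (EtCoh.pull i).Faithful := (inferInstance : e.functor.Faithful)
  haveI : (EtCoh.push i).PreservesMonomorphisms := by
    haveI := (EtCoh.pullPushAdj i).rightAdjoint_preservesLimits
    infer_instance
  haveI : (EtCoh.pull i).PreservesInjectiveObjects :=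
    Functor.preservesInjectiveObjects_of_adjunction_of_preservesMonomorphisms e.symm.toAdjunction
  have h1 := Functor.mapExt_bijective_of_preservesInjectiveObjects (EtCoh.pull i)
    ((constantSheaf X.smallEtaleTopology AddCommGrpCat.{u + 1}).obj
      (AddCommGrpCat.of (ULift.{u + 1} ℤ))) F q
  have h2 : Function.Bijective (fun e' : Abelian.Ext ((EtCoh.pull i).obj (EtCoh.const X ℤ))
      ((EtCoh.pull i).obj F) q =>
      (Abelian.Ext.mk₀ (EtCore.pullConst i ℤ).inv).comp e' (zero_add q)) := by
    rw [Function.bijective_iff_has_inverse]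
    refine ⟨fun e'' => (Abelian.Ext.mk₀ (EtCore.pullConst i ℤ).hom).comp e'' (zero_add q), ?_, ?_⟩
    · intro e'
      change (Abelian.Ext.mk₀ (EtCore.pullConst i ℤ).hom).comp
        ((Abelian.Ext.mk₀ (EtCore.pullConst i ℤ).inv).comp e' (zero_add q)) (zero_add q) = e'
      rw [Abelian.Ext.mk₀_comp_mk₀_assoc, Iso.hom_inv_id, Abelian.Ext.mk₀_id_comp]
    · intro e''
      change (Abelian.Ext.mk₀ (EtCore.pullConst i ℤ).inv).comp
        ((Abelian.Ext.mk₀ (EtCore.pullConst i ℤ).hom).comp e'' (zero_add q)) (zero_add q) = e''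
      rw [Abelian.Ext.mk₀_comp_mk₀_assoc, Iso.inv_hom_id, Abelian.Ext.mk₀_id_comp]
  exact h2.comp h1

end Groth.Agent.S0642
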