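import Groth.Statements.S0694
import Groth.Agent.Lib.T2H1WLocMain

set_option autoImplicit false
open CategoryTheory CategoryTheory.Limits AlgebraicGeometry Opposite Topology
universe u
open ProEtW

namespace Groth.Agent.S0694

/-- For every ring A there is a faithfully flat ind-Zariski A-algebra A_w whose spectrum is w-local, the
closed points of Spec A_w mapping bijectively onto Spec A. (Part (4), reducedness of the particular
closed subscheme structure of the construction, is not stated.) -/
theorem result (A : Type u) [CommRing A] :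
    ∃ (Aw : Type u) (_ : CommRing Aw) (_ : Algebra A Aw),
      Module.FaithfullyFlat A Aw ∧ EtPBC.IsIndZariski A Aw ∧ ProEtW.IsWLocal (PrimeSpectrum Aw) ∧
      Set.BijOn (PrimeSpectrum.comap (algebraMap A Aw)) (ProEtW.closedPoints (PrimeSpectrum Aw))
        Set.univ := by
  exact ⟨Groth.Agent.Lib.T2H1.WLoc.Aw A, inferInstance, inferInstance,
    Groth.Agent.Lib.T2H1.WLocMain.faithfullyFlat_Aw A,
    Groth.Agent.Lib.T2H1.WLocMain.isIndZariski_Aw A,
    Groth.Agent.Lib.T2H1.WLoc.isWLocal,
    Groth.Agent.Lib.T2H1.WLoc.bijOn_closedPoints⟩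

end Groth.Agent.S0694
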