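import Groth.Statements.S0707
import Groth.Agent.Lib.T2H1WContr
import Mathlib

set_option autoImplicit false
open CategoryTheory CategoryTheory.Limits AlgebraicGeometry Opposite Topology
universe u
open ProEtW

namespace Groth.Agent.S0707

/-- Let A be w-contractible, E a finite set of elements of A with zero set Z in Spec A, and B a
localization of A at a multiplicative subset S such that the image of Spec B → Spec A is precisely
the set of points of Spec A specializing to some point of Z. Then B is w-contractible. -/
theorem result (A B : Type u) [CommRing A] [CommRing B]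
    [Algebra A B] (S : Submonoid A) [IsLocalization S B] (E : Finset A)
    (hB : Set.range (PrimeSpectrum.comap (algebraMap A B)) =
      {x | ∃ z : PrimeSpectrum A, z ∈ PrimeSpectrum.zeroLocus (R := A) E ∧ x ⤳ z})
    (hA : EtPBC.IsWContractible A) : EtPBC.IsWContractible B := by
  intro B' _ _ hff hwe
  classical
  letI : Algebra A B' := ((algebraMap B B').comp (algebraMap A B)).toAlgebra
  haveI : IsScalarTower A B B' := IsScalarTower.of_algebraMap_eq (fun _ => rfl)
  haveI : Algebra.WeaklyEtale A B :=
    Groth.Agent.Lib.Helper14.WEField.weaklyEtale_of_isLocalization S B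
  haveI : Algebra.WeaklyEtale A B' := Algebra.WeaklyEtale.trans A B B'
  let C := (f : ↥E) → Localization.Away (f : A)
  haveI : Algebra.WeaklyEtale A (B' × C) := Groth.Agent.Lib.T2H1.WContr.weaklyEtale_prod A B' C
  haveI : Module.FaithfullyFlat A (B' × C) := by
    apply Module.FaithfullyFlat.of_comap_surjective
    intro p
    by_cases hp : p ∈ Set.range (PrimeSpectrum.comap (algebraMap A B))
    · obtain ⟨q, rfl⟩ := hp
      obtain ⟨q', rfl⟩ := PrimeSpectrum.comap_surjective_of_faithfullyFlat (A := B) (B := B') q
      refine ⟨PrimeSpectrum.comap (RingHom.fst B' C) q', ?_⟩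
      ext a
      simp only [PrimeSpectrum.comap_asIdeal, Ideal.mem_comap]
      rfl
    · rw [hB] at hp
      have : ∃ f ∈ E, f ∉ p.asIdeal := by
        by_contra hcon
        push_neg at hcon
        exact hp ⟨p, fun f hf => hcon f hf, specializes_rfl⟩
      obtain ⟨f, hfE, hfp⟩ := this
      obtain ⟨q, hq⟩ : p ∈ Set.range (PrimeSpectrum.comap (algebraMap A (Localization.Away f))) := by
        rw [PrimeSpectrum.localization_away_comap_range (Localization.Away f) f]
        exact hfp
      refine ⟨PrimeSpectrum.comap ((Pi.evalRingHom _ (⟨f, hfE⟩ : ↥E)).comp (RingHom.snd B' C)) q, ?_⟩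
      rw [← hq]
      ext a
      simp only [PrimeSpectrum.comap_asIdeal, Ideal.mem_comap]
      rfl
  obtain ⟨ρ⟩ := hA (B' × C) inferInstance inferInstance
  refine Groth.Agent.Lib.T2H1.WContr.exists_retraction S B' C ρ ?_
  have hsum : ((0 : B'), (1 : C)) = ∑ f : ↥E, ((0 : B'), (Pi.single f 1 : C)) := by
    refine Prod.ext ?_ ?_
    · simp [Prod.fst_sum]
    · rw [Prod.snd_sum]
      exact (Finset.univ_sum_single (1 : C)).symm
  rw [hsum, map_sum, map_sum]
  refine Finset.sum_eq_zero (fun f _ => ?_)
  refine Groth.Agent.Lib.T2H1.WContr.map_eq_zero_of_idem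
    (PrimeSpectrum.zeroLocus (R := A) E) hB _ ?_ ?_
  · have : IsIdempotentElem (((0 : B'), (Pi.single f 1 : C)) : B' × C) := by
      show ((0 : B'), (Pi.single f 1 : C)) * (0, Pi.single f 1) = (0, Pi.single f 1)
      ext
      · simp
      · simp only [Prod.snd_mul, ← Pi.single_mul, mul_one]
    exact this.map ρ
  · intro z hz
    have hfz : (f : A) ∈ z.asIdeal := hz f.2
    let w : B' × C := (0, Pi.single f (IsLocalization.Away.invSelf (f : A)))
    have hw : ((f : A) • ((0 : B'), (Pi.single f 1 : C))) * w = (0, Pi.single f 1) := by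
      refine Prod.ext ?_ ?_
      · simp [w]
      · show ((f : A) • (Pi.single f 1 : C)) * Pi.single f (IsLocalization.Away.invSelf (f : A)) =
          Pi.single f 1
        rw [← Pi.single_smul, ← Pi.single_mul, Algebra.smul_def, mul_one,
          IsLocalization.Away.mul_invSelf]
    have := congrArg ρ hw
    rw [map_mul, map_smul, smul_eq_mul] at this
    rw [← this]
    exact Ideal.mul_mem_right _ _ (Ideal.mul_mem_right _ _ hfz)

end Groth.Agent.S0707
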