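import Groth.Statements.S0708
import Groth.Agent.Lib.T2H1WContr
import Groth.Agent.S0675
import Mathlib

set_option autoImplicit false
open CategoryTheory CategoryTheory.Limits AlgebraicGeometry Opposite Topology
universe u
open ProEtW

namespace Groth.Agent.S0708

open TensorProduct

/-- Let A be a ring all of whose faithfully flat etale algebras have retractions, I an ideal with zero
set Z, and B a localization of A at a multiplicative subset such that the image of Spec B → Spec A
is precisely the set of points of Spec A specializing to some point of Z. Then every faithfully flat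
etale B-algebra has a retraction. -/
theorem result (A B : Type u) [CommRing A] [CommRing B]
    [Algebra A B] (S : Submonoid A) [IsLocalization S B] (I : Ideal A)
    (hB : Set.range (PrimeSpectrum.comap (algebraMap A B)) =
      {x | ∃ z : PrimeSpectrum A, z ∈ PrimeSpectrum.zeroLocus (R := A) I ∧ x ⤳ z})
    (hA : ProEtW.HasEtaleRetractions A) : ProEtW.HasEtaleRetractions B := by
  intro B' _ _ hff het
  classical
  obtain ⟨s, _, _, E₁, _, _, _, ⟨θ⟩⟩ :=
    Groth.Agent.Lib.T2H1.WContr.exists_descent_localization (A := A) (B := B) S B'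
  -- `E₁` as an étale `A`-algebra
  letI : Algebra A E₁ :=
    ((algebraMap (Localization.Away (s : A)) E₁).comp (algebraMap A (Localization.Away (s : A)))).toAlgebra
  haveI : IsScalarTower A (Localization.Away (s : A)) E₁ := IsScalarTower.of_algebraMap_eq (fun _ => rfl)
  haveI : Algebra.Etale A E₁ := Algebra.Etale.comp A (Localization.Away (s : A)) E₁
  -- the ring map `E₁ → B'`
  let j : E₁ →+* B' := (θ : B ⊗[Localization.Away (s : A)] E₁ →+* B').comp
    (Algebra.TensorProduct.includeRight : E₁ →ₐ[Localization.Away (s : A)] B ⊗[Localization.Away (s : A)] E₁).toRingHom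
  have hj : ∀ a : A, j (algebraMap A E₁ a) = algebraMap B B' (algebraMap A B a) := by
    intro a
    show θ ((1 : B) ⊗ₜ[Localization.Away (s : A)]
      (algebraMap (Localization.Away (s : A)) E₁ (algebraMap A (Localization.Away (s : A)) a))) = _
    rw [Algebra.algebraMap_eq_smul_one (algebraMap A (Localization.Away (s : A)) a),
      ← TensorProduct.smul_tmul, Algebra.smul_def, mul_one,
      ← IsScalarTower.algebraMap_apply A (Localization.Away (s : A)) B]
    have : (algebraMap A B a) ⊗ₜ[Localization.Away (s : A)] (1 : E₁) =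
        algebraMap B (B ⊗[Localization.Away (s : A)] E₁) (algebraMap A B a) := by
      rw [Algebra.TensorProduct.algebraMap_apply]
      rfl
    rw [this, θ.commutes]
  -- the open image
  have hopen : IsOpenMap (PrimeSpectrum.comap (algebraMap A E₁)) :=
    PrimeSpectrum.isOpenMap_comap_of_hasGoingDown_of_finitePresentation
  set U : Set (PrimeSpectrum A) := Set.range (PrimeSpectrum.comap (algebraMap A E₁)) with hU
  have hUo : IsOpen U := hopen.isOpen_range
  have hZU : PrimeSpectrum.zeroLocus (R := A) I ⊆ U := by
    intro z hz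
    have hzB : z ∈ Set.range (PrimeSpectrum.comap (algebraMap A B)) := by
      rw [hB]
      exact ⟨z, hz, specializes_rfl⟩
    obtain ⟨q, rfl⟩ := hzB
    obtain ⟨q', rfl⟩ := PrimeSpectrum.comap_surjective_of_faithfullyFlat (A := B) (B := B') q
    refine ⟨PrimeSpectrum.comap j q', ?_⟩
    ext a
    simp only [PrimeSpectrum.comap_asIdeal, Ideal.mem_comap]
    rw [hj]
  set J : Ideal A := PrimeSpectrum.vanishingIdeal Uᶜ with hJ
  have hzero : PrimeSpectrum.zeroLocus (J : Set A) = Uᶜ := by
    rw [hJ, PrimeSpectrum.zeroLocus_vanishingIdeal_eq_closure]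
    exact hUo.isClosed_compl.closure_eq
  have hIJ : I ⊔ J = ⊤ := by
    by_contra hne
    obtain ⟨m, hm, hle⟩ := Ideal.exists_le_maximal _ hne
    have h1 : (⟨m, hm.isPrime⟩ : PrimeSpectrum A) ∈ PrimeSpectrum.zeroLocus (R := A) I :=
      fun x hx => hle (Ideal.mem_sup_left hx)
    have h2 : (⟨m, hm.isPrime⟩ : PrimeSpectrum A) ∈ PrimeSpectrum.zeroLocus (J : Set A) :=
      fun x hx => hle (Ideal.mem_sup_right hx)
    rw [hzero] at h2
    exact h2 (hZU h1)
  obtain ⟨f, hfI, g, hgJ, hfg⟩ := Submodule.mem_sup.mp ((Ideal.eq_top_iff_one _).mp hIJ)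
  -- the cover
  haveI : Algebra.Etale A (E₁ × Localization.Away f) := Groth.Agent.S0675.etale_prod A E₁ _
  haveI : Module.FaithfullyFlat A (E₁ × Localization.Away f) := by
    haveI : Module.Flat A (E₁ × Localization.Away f) := inferInstance
    apply Module.FaithfullyFlat.of_comap_surjective
    intro p
    by_cases hp : p ∈ U
    · obtain ⟨q, rfl⟩ := hp
      refine ⟨PrimeSpectrum.comap (RingHom.fst E₁ (Localization.Away f)) q, ?_⟩
      ext a
      simp only [PrimeSpectrum.comap_asIdeal, Ideal.mem_comap]
      rfl
    · have hpJ : p ∈ PrimeSpectrum.zeroLocus (J : Set A) := by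
        rw [hzero]
        exact hp
      have hfp : f ∉ p.asIdeal := by
        intro hf
        have : (1 : A) ∈ p.asIdeal := by
          rw [← hfg]
          exact p.asIdeal.add_mem hf (hpJ hgJ)
        exact p.isPrime.ne_top ((Ideal.eq_top_iff_one _).mpr this)
      obtain ⟨q, hq⟩ : p ∈ Set.range (PrimeSpectrum.comap (algebraMap A (Localization.Away f))) := by
        rw [PrimeSpectrum.localization_away_comap_range (Localization.Away f) f]
        exact hfp
      refine ⟨PrimeSpectrum.comap (RingHom.snd E₁ (Localization.Away f)) q, ?_⟩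
      rw [← hq]
      ext a
      simp only [PrimeSpectrum.comap_asIdeal, Ideal.mem_comap]
      rfl
  obtain ⟨ρ⟩ := hA (E₁ × Localization.Away f) inferInstance inferInstance
  have h0 : algebraMap A B (ρ (0, 1)) = 0 := by
    refine Groth.Agent.Lib.T2H1.WContr.map_eq_zero_of_idem
      (PrimeSpectrum.zeroLocus (R := A) I) hB _ ?_ ?_
    · have : IsIdempotentElem (((0 : E₁), (1 : Localization.Away f)) : E₁ × Localization.Away f) := by
        show ((0 : E₁), (1 : Localization.Away f)) * (0, 1) = (0, 1)
        ext <;> simp
      exact this.map ρ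
    · intro z hz
      exact Groth.Agent.Lib.T2H1.WContr.retraction_mem E₁ f ρ z.asIdeal (hz hfI)
  obtain ⟨r⟩ := Groth.Agent.Lib.T2H1.WContr.exists_algHom_of_retraction (B := B) E₁
    (Localization.Away f) ρ h0
  -- `r` is linear over `A_s`
  have hr : r.toRingHom.comp (algebraMap (Localization.Away (s : A)) E₁) =
      algebraMap (Localization.Away (s : A)) B := by
    apply IsLocalization.ringHom_ext (Submonoid.powers (s : A))
    ext a
    simp only [RingHom.comp_apply]
    rw [← IsScalarTower.algebraMap_apply A (Localization.Away (s : A)) E₁,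
      ← IsScalarTower.algebraMap_apply A (Localization.Away (s : A)) B]
    exact r.commutes a
  let r' : E₁ →ₐ[Localization.Away (s : A)] B :=
    { r.toRingHom with commutes' := fun x => congr($hr x) }
  let t : B ⊗[Localization.Away (s : A)] E₁ →ₐ[B] B :=
    Algebra.TensorProduct.lift (AlgHom.id B B) r' (fun _ _ => Commute.all _ _)
  exact ⟨t.comp (θ.symm : B' →ₐ[B] B ⊗[Localization.Away (s : A)] E₁)⟩

end Groth.Agent.S0708
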