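import Groth.Statements.S0792
import Mathlib
import Groth.Agent.Lib.T2H5ProperSupport
import Groth.Agent.Lib.T2H5GenIsoC
import Groth.Agent.Lib.Helper2PullbackSec
import Groth.Agent.Lib.Helper20FormalPull
-- import your own Groth.Agent.* helpers here

set_option autoImplicit false
universe u
open Coherent

namespace Groth.Agent.S0792

open CategoryTheory AlgebraicGeometry in
/-- Let f : X → S be locally of finite type and F a quasi-coherent O_X-module of finite type. The
support of F is proper over S if and only if there are a closed subscheme i : Z → X with Z proper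
over S and a quasi-coherent O_Z-module G of finite type with i_* G isomorphic to F. (The published
statement also gives a further equivalent condition, that the scheme-theoretic support of F is
proper over S; it is not used here.) -/
theorem result {X S : Scheme.{u}} (f : X ⟶ S) [LocallyOfFiniteType f]
    (F : X.Modules) (hq : Coh.IsQCoh F) (hft : CohB1.IsFT F) :
    ClSub.IsProperOver f (CohB1.support F) ↔
      ∃ (Z : Scheme.{u}) (i : Z ⟶ X), IsClosedImmersion i ∧ IsProper (i ≫ f) ∧
        ∃ G : Z.Modules, Coh.IsQCoh G ∧ CohB1.IsFT G ∧
          Nonempty ((Scheme.Modules.pushforward i).obj G ≅ F) := by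
  have : F.IsQuasicoherent := hq
  have : SheafOfModules.IsFiniteType (R := X.ringCatSheaf) F := hft
  have hsupp : ((Groth.Agent.Lib.T2H5.AnnIdeal.annIdeal F).support : Set X) = CohB1.support F :=
    Groth.Agent.Lib.T2H5.AnnIdeal.support_annIdeal F
  have hclosed : IsClosed (CohB1.support F) := by
    rw [← hsupp]
    exact (Groth.Agent.Lib.T2H5.AnnIdeal.annIdeal F).support.isClosed
  constructor
  · rintro ⟨hZ, hprop⟩
    set I := Groth.Agent.Lib.T2H5.AnnIdeal.annIdeal F with hI
    have hle : I ≤ Scheme.IdealSheafData.vanishingIdeal ⟨CohB1.support F, hZ⟩ := by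
      rw [← Scheme.IdealSheafData.le_support_iff_le_vanishingIdeal]
      intro x hx
      change x ∈ (I.support : Set X)
      rw [hsupp]
      exact hx
    let g := Scheme.IdealSheafData.inclusion hle
    have hg : g ≫ I.subschemeι =
        (Scheme.IdealSheafData.vanishingIdeal ⟨CohB1.support F, hZ⟩).subschemeι :=
      Scheme.IdealSheafData.inclusion_subschemeι hle
    have : IsClosedImmersion g := by
      have : IsClosedImmersion (g ≫ I.subschemeι) := by rw [hg]; infer_instance
      exact IsClosedImmersion.of_comp g I.subschemeι
    have : Surjective g := by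
      refine ⟨fun z' => ?_⟩
      have h1 : I.subschemeι z' ∈
          Set.range (Scheme.IdealSheafData.vanishingIdeal ⟨CohB1.support F, hZ⟩).subschemeι := by
        rw [Scheme.IdealSheafData.range_subschemeι, Scheme.IdealSheafData.coe_support_vanishingIdeal]
        change _ ∈ CohB1.support F
        rw [← hsupp, ← Scheme.IdealSheafData.range_subschemeι]
        exact ⟨z', rfl⟩
      obtain ⟨z, hz⟩ := h1
      refine ⟨z, ?_⟩
      apply I.subschemeι.isClosedEmbedding.injective
      rw [← hz, ← hg]
      rfl
    have : IsProper (g ≫ (I.subschemeι ≫ f)) := by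
      rw [← Category.assoc, hg]
      exact hprop
    have : IsProper (I.subschemeι ≫ f) :=
      Groth.Agent.Lib.T2H5.ProperThick.isProper_of_comp_surjective_closedImmersion g
        (I.subschemeι ≫ f)
    refine ⟨I.subscheme, I.subschemeι, inferInstance, inferInstance,
      (Scheme.Modules.pullback I.subschemeι).obj F,
      Groth.Agent.Lib.Helper2.PullbackSec.isQuasicoherent_pullback I.subschemeι F,
      Groth.Agent.Lib.Helper20.FormalPull.isFiniteType_pullback I.subschemeι F, ?_⟩
    have : IsIso ((Scheme.Modules.pullbackPushforwardAdjunction I.subschemeι).unit.app F) := by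
      refine Groth.Agent.S0786.isIso_unit_closedImmersion I.subschemeι F ?_
      rw [Scheme.IdealSheafData.ker_subschemeι]
      exact Groth.Agent.Lib.T2H5.AnnIdeal.killedBy_annIdeal F
    exact ⟨(asIso ((Scheme.Modules.pullbackPushforwardAdjunction I.subschemeι).unit.app F)).symm⟩
  · rintro ⟨Z, i, hi, hprop, G, -, -, ⟨e⟩⟩
    refine ⟨hclosed, ?_⟩
    have hcl : IsClosed (Set.range i) := i.isClosedEmbedding.isClosed_range
    have hsub : CohB1.support F ⊆ Set.range i := by
      rw [← Groth.Agent.Lib.T2H5.GenIsoB.support_eq_of_iso e]
      exact Groth.Agent.Lib.T2H5.GenIsoC.support_pushforward_subset i G hcl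
    set I₀ := Scheme.IdealSheafData.vanishingIdeal ⟨CohB1.support F, hclosed⟩ with hI₀
    have hker : i.ker ≤ I₀.subschemeι.ker := by
      rw [Scheme.IdealSheafData.ker_subschemeι, hI₀,
        ← Scheme.IdealSheafData.le_support_iff_le_vanishingIdeal]
      intro x hx
      change x ∈ (i.ker.support : Set X)
      rw [Scheme.Hom.support_ker, hcl.closure_eq]
      exact hsub hx
    let k := IsClosedImmersion.lift i I₀.subschemeι hker
    have hk : k ≫ i = I₀.subschemeι := IsClosedImmersion.lift_fac i I₀.subschemeι hker
    have : IsClosedImmersion k := by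
      have : IsClosedImmersion (k ≫ i) := by rw [hk]; infer_instance
      exact IsClosedImmersion.of_comp k i
    rw [← hk, Category.assoc]
    infer_instance

end Groth.Agent.S0792
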