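import Groth.Statements.S0818
import Mathlib
import Groth.Agent.Lib.T2H5GenIsoE
-- import your own Groth.Agent.* helpers here

set_option autoImplicit false
universe u
open Coherent

namespace Groth.Agent.S0818

open CategoryTheory AlgebraicGeometry in
/-- Let X be a nonempty Noetherian scheme and P an isomorphism-invariant property of O_X-modules such
that (1) in every short exact sequence of coherent O_X-modules, if two of the three terms satisfy P
then so does the third, and (2) for every integral scheme Z and closed immersion i : Z → X, with ξ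
the generic point of Z, there is a coherent O_X-module G satisfying P whose support is exactly i(Z)
and whose stalk at i(ξ) is isomorphic, as a module over the local ring O_{X,i(ξ)}, to the residue
field of that local ring. Then every coherent O_X-module satisfies P. (The published statement
leaves the nonemptiness of X implicit; it is needed to handle the zero module and is assumed
explicitly here.) -/
theorem result (X : Scheme.{u}) [IsNoetherian X] [Nonempty X]
    (P : X.Modules → Prop) (hP : ∀ M N : X.Modules, Nonempty (M ≅ N) → P M → P N)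
    (h₁ : ∀ S : ShortComplex X.Modules, S.ShortExact → Coh.IsCoh S.X₁ → Coh.IsCoh S.X₂ → Coh.IsCoh S.X₃ →
      (P S.X₁ → P S.X₂ → P S.X₃) ∧ (P S.X₁ → P S.X₃ → P S.X₂) ∧ (P S.X₂ → P S.X₃ → P S.X₁))
    (h₂ : ∀ (Z : Scheme.{u}) (i : Z ⟶ X) [IsClosedImmersion i] [IsIntegral Z],
      ∃ G : X.Modules, Coh.IsCoh G ∧ CohB1.support G = Set.range ⇑i ∧
        Nonempty (↑(G.presheaf.stalk (i (genericPoint Z))) ≃ₗ[X.presheaf.stalk (i (genericPoint Z))]
          IsLocalRing.ResidueField (X.presheaf.stalk (i (genericPoint Z)))) ∧ P G)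
    (M : X.Modules) (hM : Coh.IsCoh M) : P M := by
  classical
  -- `P` holds for the zero modules
  have h0 : ∀ N : X.Modules, Limits.IsZero N → P N := by
    intro N hN
    obtain ⟨x⟩ := ‹Nonempty X›
    have hYc : IsClosed (closure ({x} : Set X)) := isClosed_closure
    have hYirr : IsIrreducible (closure ({x} : Set X)) := isIrreducible_singleton.closure
    have := Groth.Agent.Lib.T2H5.GenIsoE.isIntegral_subscheme_vanishingIdeal _ hYc hYirr
    obtain ⟨G, hG, -, -, hPG⟩ := h₂ _ (Scheme.IdealSheafData.vanishingIdeal ⟨_, hYc⟩).subschemeι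
    have hS := Groth.Agent.Lib.T2H5.GenIsoB.cokerSC_shortExact (𝟙 G)
    have hC : Coh.IsCoh (Limits.cokernel (𝟙 G)) := Groth.Agent.Lib.T2H5.GenIsoB.isCoh_cokernel (𝟙 G) hG hG
    have hK : Coh.IsCoh (Limits.kernel (Limits.cokernel.π (𝟙 G))) :=
      Groth.Agent.Lib.T2H5.GenIsoB.isCoh_kernel _ hG hC
    have hz : Limits.IsZero (Limits.cokernel (𝟙 G)) := Limits.isZero_cokernel_of_epi (𝟙 G)
    have hπ : Limits.cokernel.π (𝟙 G) = 0 := hz.eq_of_tgt _ _
    have hι : IsIso (Limits.kernel.ι (Limits.cokernel.π (𝟙 G))) := by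
      rw [hπ]; infer_instance
    have hPK : P (Limits.kernel (Limits.cokernel.π (𝟙 G))) :=
      hP _ _ ⟨(asIso (Limits.kernel.ι (Limits.cokernel.π (𝟙 G)))).symm⟩ hPG
    have hPC : P (Limits.cokernel (𝟙 G)) := (h₁ _ hS hK hG hC).1 hPK hPG
    exact hP _ _ ⟨hz.iso hN⟩ hPC
  refine Groth.Agent.Lib.T2H5.Devissage.core P hP h0 (fun S hS a b c => (h₁ S hS a b c).2.1) Set.univ ?_ M hM
    (Set.subset_univ _)
  intro Y hY hYirr _ ihN M' hM' hM'k
  have := Groth.Agent.Lib.T2H5.GenIsoE.isIntegral_subscheme_vanishingIdeal Y hY hYirr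
  obtain ⟨G, hG, hGs, ⟨e⟩, hPG⟩ := h₂ _ (Scheme.IdealSheafData.vanishingIdeal ⟨Y, hY⟩).subschemeι
  have hr := Groth.Agent.Lib.T2H5.GenIsoE.range_subschemeι_vanishingIdeal Y hY
  have hy : closure {(Scheme.IdealSheafData.vanishingIdeal ⟨Y, hY⟩).subschemeι
      (genericPoint (Scheme.IdealSheafData.vanishingIdeal ⟨Y, hY⟩).subscheme)} = Y := by
    rw [Groth.Agent.Lib.T2H5.GenIsoD.closure_genericPoint_image, hr]
  exact Groth.Agent.Lib.T2H5.GenIsoE.irr_step_residue P hP h0 Y hY hYirr
    (fun S hS a b c _ => h₁ S hS a b c) ihN _ hy G hG (by rw [hGs, hr]) e hPG M' hM' hM'k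

end Groth.Agent.S0818
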