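import Groth.Statements.S0819
import Mathlib
import Groth.Agent.Lib.T2H5GenIsoF
-- import your own Groth.Agent.* helpers here

set_option autoImplicit false
universe u
open Coherent

namespace Groth.Agent.S0819

open CategoryTheory AlgebraicGeometry in
/-- Let X be a Noetherian scheme, Z₀ ⊆ X an irreducible closed subset with generic point ξ, and P an
isomorphism-invariant property of O_X-modules such that: (1) in every short exact sequence of
coherent modules supported in Z₀, P for two of the terms implies P for the third; (2) P holds for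
i_* I whenever i : Z → X is an integral closed subscheme with i(Z) a proper subset of Z₀ and I ⊆ O_Z
is a quasi-coherent ideal sheaf; (3) there is a coherent G with support exactly Z₀, stalk at ξ
isomorphic to the residue field over the local ring, and P(G). Then P holds for every coherent
module whose support is contained in Z₀. -/
theorem result (X : Scheme.{u}) [IsNoetherian X]
    (Z₀ : Set X) (hZ₀ : IsClosed Z₀) (hirr : IsIrreducible Z₀) (ξ : X) (hξ : ξ ∈ Z₀ ∧ closure {ξ} = Z₀)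
    (P : X.Modules → Prop) (hP : ∀ M N : X.Modules, Nonempty (M ≅ N) → P M → P N)
    (h₁ : ∀ S : ShortComplex X.Modules, S.ShortExact → Coh.IsCoh S.X₁ → Coh.IsCoh S.X₂ → Coh.IsCoh S.X₃ →
      CohB1.support S.X₂ ⊆ Z₀ →
      (P S.X₁ → P S.X₂ → P S.X₃) ∧ (P S.X₁ → P S.X₃ → P S.X₂) ∧ (P S.X₂ → P S.X₃ → P S.X₁))
    (h₂ : ∀ (Z : Scheme.{u}) (i : Z ⟶ X), IsClosedImmersion i → IsIntegral Z →
      Set.range ⇑i ⊆ Z₀ → Set.range ⇑i ≠ Z₀ →
      ∀ (I : Z.Modules) (ι : I ⟶ Coh.structureModule Z), Mono ι → Coh.IsQCoh I →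
        P ((Coh.push i).obj I))
    (h₃ : ∃ G : X.Modules, Coh.IsCoh G ∧ CohB1.support G = Z₀ ∧
      Nonempty (↑(G.presheaf.stalk ξ) ≃ₗ[X.presheaf.stalk ξ] IsLocalRing.ResidueField (X.presheaf.stalk ξ)) ∧ P G)
    (M : X.Modules) (hM : Coh.IsCoh M) (hsupp : CohB1.support M ⊆ Z₀) : P M := by
  classical
  obtain ⟨G, hG, hGs, ⟨e⟩, hPG⟩ := h₃
  -- `P` holds for the zero modules
  have h0 : ∀ N : X.Modules, Limits.IsZero N → P N := by
    intro N hN
    have hS := Groth.Agent.Lib.T2H5.GenIsoB.cokerSC_shortExact (𝟙 G)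
    have hC : Coh.IsCoh (Limits.cokernel (𝟙 G)) := Groth.Agent.Lib.T2H5.GenIsoB.isCoh_cokernel (𝟙 G) hG hG
    have hK : Coh.IsCoh (Limits.kernel (Limits.cokernel.π (𝟙 G))) :=
      Groth.Agent.Lib.T2H5.GenIsoB.isCoh_kernel _ hG hC
    have hz : Limits.IsZero (Limits.cokernel (𝟙 G)) := Limits.isZero_cokernel_of_epi (𝟙 G)
    have hπ : Limits.cokernel.π (𝟙 G) = 0 := hz.eq_of_tgt _ _
    have hι : IsIso (Limits.kernel.ι (Limits.cokernel.π (𝟙 G))) := by
      rw [hπ]; infer_instance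
    have hPK : P (Limits.kernel (Limits.cokernel.π (𝟙 G))) :=
      hP _ _ ⟨(asIso (Limits.kernel.ι (Limits.cokernel.π (𝟙 G)))).symm⟩ hPG
    have hPC : P (Limits.cokernel (𝟙 G)) := (h₁ _ hS hK hG hC hGs.le).1 hPK hPG
    exact hP _ _ ⟨hz.iso hN⟩ hPC
  have hP' : ∀ M N : X.Modules, Nonempty (M ≅ N) → (CohB1.support M ⊆ Z₀ → P M) →
      (CohB1.support N ⊆ Z₀ → P N) := fun M N ⟨e⟩ hM hN =>
    hP M N ⟨e⟩ (hM (by rw [Groth.Agent.Lib.T2H5.GenIsoB.support_eq_of_iso e]; exact hN))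
  have hext' : ∀ S : ShortComplex X.Modules, S.ShortExact → Coh.IsCoh S.X₁ → Coh.IsCoh S.X₂ →
      Coh.IsCoh S.X₃ → (CohB1.support S.X₁ ⊆ Z₀ → P S.X₁) → (CohB1.support S.X₃ ⊆ Z₀ → P S.X₃) →
      (CohB1.support S.X₂ ⊆ Z₀ → P S.X₂) := by
    intro S hS c1 c2 c3 p1 p3 hS2
    have := hS.mono_f
    have := hS.epi_g
    exact (h₁ S hS c1 c2 c3 hS2).2.1
      (p1 ((Groth.Agent.Lib.T2H5.GenIsoB.support_subset_of_mono S.f).trans hS2))
      (p3 ((Groth.Agent.Lib.T2H5.GenIsoB.support_subset_of_epi S.g).trans hS2))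
  refine Groth.Agent.Lib.T2H5.Devissage.core (fun N => CohB1.support N ⊆ Z₀ → P N) hP'
    (fun N hN _ => h0 N hN) hext' Z₀ ?_ M hM hsupp hsupp
  intro Y hY hYirr hYZ ihN' M' hM' hM'k hM'Z
  by_cases hYeq : Y = Z₀
  · subst hYeq
    exact Groth.Agent.Lib.T2H5.GenIsoE.irr_step_residue P hP h0 Y hY hYirr h₁
      (fun N hN hNY hne => ihN' N hN hNY hne hNY) ξ hξ.2 G hG hGs.le e hPG M' hM' hM'k
  · have hint := Groth.Agent.Lib.T2H5.GenIsoE.isIntegral_subscheme_vanishingIdeal Y hY hYirr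
    have hr := Groth.Agent.Lib.T2H5.GenIsoE.range_subschemeι_vanishingIdeal Y hY
    exact Groth.Agent.Lib.T2H5.GenIsoF.irr_step_ideal (fun N => CohB1.support N ⊆ Z₀ → P N) hP'
      (fun N hN _ => h0 N hN) hext' Y hY hYirr ihN'
      (fun I ι hι hI _ => h₂ _ _ inferInstance hint (by rw [hr]; exact hYZ) (by rw [hr]; exact hYeq) I ι hι hI)
      M' hM' hM'k hM'Z

end Groth.Agent.S0819
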