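import Groth.Statements.S0828
import Mathlib
import Groth.Agent.Lib.T2H4CMFree

set_option autoImplicit false
universe u
open Coherent

namespace Groth.Agent.S0828

open CategoryTheory AlgebraicGeometry in
/-- Let X be a regular scheme (locally Noetherian with regular local rings) and F a coherent O_X-module.
Then F has support all of X and Cohen–Macaulay stalks if and only if F is finite locally free of
positive rank near every point. -/
theorem result (X : Scheme.{u}) [IsLocallyNoetherian X]
    (hreg : ∀ x : X, IsRegularLocalRing (X.presheaf.stalk x)) (F : X.Modules) (hF : Coh.IsCoh F) :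
    (CohB1.support F = Set.univ ∧
        ∀ x : X, LocCoh.IsCohenMacaulayModule (X.presheaf.stalk x) ↑(F.presheaf.stalk x)) ↔
      ∀ x : X, ∃ (U : X.Opens) (n : ℕ), x ∈ U ∧ 0 < n ∧
        Nonempty (F.restrict U.ι ≅ FlatMod.freeMod (↑U) n) := by
  haveI : F.IsQuasicoherent := hF.1
  haveI : SheafOfModules.IsFiniteType (R := X.ringCatSheaf) F := hF.2
  haveI : SheafOfModules.IsFinitePresentation (R := X.ringCatSheaf) F :=
    Groth.Agent.Lib.Helper23.FinType.isFinitePresentation_of_isFiniteType F
  constructor
  · rintro ⟨hsupp, hCM⟩ x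
    haveI := hreg x
    haveI : IsDomain (X.presheaf.stalk x) :=
      Groth.Agent.Lib.Helper5.isDomain_of_isRegularLocalRing _
    haveI : Module.Finite (X.presheaf.stalk x) (F.presheaf.stalk x) :=
      Groth.Agent.Lib.Helper2.FibreCrit.finite_stalk F x
    haveI : Nontrivial (F.presheaf.stalk x) := by
      have : x ∈ CohB1.support F := by rw [hsupp]; trivial
      exact not_subsingleton_iff_nontrivial.1 this
    have hann := Groth.Agent.Lib.T2H4.CMFree.annihilator_stalk_eq_bot F hsupp x
    have hflat : FlatMod.IsFlatAt F x :=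
      Groth.Agent.Lib.T2H4.CMFree.flat_of_cm_of_regular _ _ hann (hCM x)
    obtain ⟨D, m, hxD, ⟨e⟩⟩ :=
      Groth.Agent.Lib.Helper2.LocFree.exists_restrict_iso_freeMod_of_isFlatAt F x hflat
    refine ⟨D, m, hxD, ?_, ⟨e⟩⟩
    obtain ⟨-, hrk⟩ :=
      Groth.Agent.Lib.Helper2.RankLoc.fibreRank_eq_of_restrict_iso_freeMod D.ι F e ⟨x, hxD⟩
    change Groth.Agent.Lib.Helper2.RankLoc.fibreRank F x = m at hrk
    by_contra hm
    have hm0 : m = 0 := by omega
    rw [hm0] at hrk
    have hsub : Subsingleton (TensorProduct (X.presheaf.stalk x)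
        (IsLocalRing.ResidueField (X.presheaf.stalk x)) (F.presheaf.stalk x)) := by
      rw [← Module.finrank_zero_iff (R := IsLocalRing.ResidueField (X.presheaf.stalk x))]
      exact hrk
    rw [IsLocalRing.subsingleton_tensorProduct] at hsub
    exact not_subsingleton _ hsub
  · intro H
    have hlf : FlatMod.IsFinLocFree F := fun x => by
      obtain ⟨U, n, hx, -, e⟩ := H x
      exact ⟨U, n, hx, e⟩
    have hnt : ∀ x : X, Nontrivial (F.presheaf.stalk x) := by
      intro x
      obtain ⟨U, n, hxU, hn, ⟨e⟩⟩ := H x
      obtain ⟨-, hrk⟩ :=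
        Groth.Agent.Lib.Helper2.RankLoc.fibreRank_eq_of_restrict_iso_freeMod U.ι F e ⟨x, hxU⟩
      change Groth.Agent.Lib.Helper2.RankLoc.fibreRank F x = n at hrk
      by_contra hnot
      rw [not_nontrivial_iff_subsingleton] at hnot
      have : Groth.Agent.Lib.Helper2.RankLoc.fibreRank F x = 0 := by
        haveI : Subsingleton (TensorProduct (X.presheaf.stalk x)
            (IsLocalRing.ResidueField (X.presheaf.stalk x)) (F.presheaf.stalk x)) :=
          (TensorProduct.uniqueRight).instSubsingleton
        exact Module.finrank_zero_of_subsingleton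
      omega
    refine ⟨?_, fun x => ?_⟩
    · rw [Set.eq_univ_iff_forall]
      intro x
      haveI := hnt x
      exact not_subsingleton _
    · haveI := hreg x
      haveI := hnt x
      haveI : Module.Finite (X.presheaf.stalk x) (F.presheaf.stalk x) :=
        Groth.Agent.Lib.Helper2.FibreCrit.finite_stalk F x
      exact Groth.Agent.Lib.T2H4.CMFree.isCM_of_depth_le _ _
        (Groth.Agent.Lib.T2H4.HZshLF.depth_le_depth_stalk_of_isFinLocFree F hlf x)

end Groth.Agent.S0828
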