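import Groth.Statements.S0834
import Groth.Agent.Lib.T2H9Ker5

set_option autoImplicit false
set_option linter.style.haveILetI false
set_option linter.unusedVariables false
universe u
open Formal2

namespace Groth.Agent.S0834

open CategoryTheory CategoryTheory.Limits AlgebraicGeometry in
/-- Let A be a ring, I ⊆ A an ideal and X a Noetherian scheme over Spec A. Then the full subcategory of
inverse systems of 𝒪_X-modules formed by the coherent formal modules for the ideal sheaf I·𝒪_X has
kernels. (This is the kernel half of the statement that this category is abelian; cokernels are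
componentwise, and abelianness itself is not asserted here.) -/
theorem result (A : Type u) [CommRing A] (I : Ideal A) (X : Scheme.{u})
    [X.Over (Spec (CommRingCat.of A))] [IsNoetherian X] : HasKernels (Formal2.CohFormalCat I X) := by
  refine ⟨fun {P Q} f => ?_⟩
  obtain ⟨D⟩ := Groth.Agent.Lib.T2H9.Ker4.nonempty_kData I f.hom P.property Q.property
  let K : Formal2.CohFormalCat I X := ⟨D.Ksys, D.isCohFormal_Ksys⟩
  let ι : K ⟶ P := CategoryTheory.ObjectProperty.homMk D.ι
  have w : ι ≫ f = 0 := by
    apply CategoryTheory.ObjectProperty.hom_ext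
    exact D.ι_α
  have hz : ∀ {W' : Formal2.CohFormalCat I X} (g' : W' ⟶ P), g' ≫ f = 0 → g'.hom ≫ f.hom = 0 := by
    intro W' g' h
    have := congrArg (fun t => t.hom) h
    exact this
  refine CategoryTheory.Limits.HasLimit.mk ⟨CategoryTheory.Limits.KernelFork.ofι ι w,
    CategoryTheory.Limits.KernelFork.IsLimit.ofι ι w
    (fun {W'} g' h => CategoryTheory.ObjectProperty.homMk
      (Groth.Agent.Lib.T2H9.Ker5.lift D W'.property g'.hom (hz g' h))) ?_ ?_⟩
  · intro W' g' h
    apply CategoryTheory.ObjectProperty.hom_ext
    exact Groth.Agent.Lib.T2H9.Ker5.lift_ι D W'.property g'.hom (hz g' h)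
  · intro W' g' h m hm
    apply CategoryTheory.ObjectProperty.hom_ext
    change m.hom = Groth.Agent.Lib.T2H9.Ker5.lift D W'.property g'.hom (hz g' h)
    rw [← sub_eq_zero]
    apply Groth.Agent.Lib.T2H9.Ker5.eq_zero_of_comp_ι D W'.property
    rw [CategoryTheory.Preadditive.sub_comp, Groth.Agent.Lib.T2H9.Ker5.lift_ι, sub_eq_zero]
    have := congrArg (fun t => t.hom) hm
    exact this

end Groth.Agent.S0834
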