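import Groth.Statements.S0901
import Mathlib
import Groth.Agent.S0455
import Groth.Agent.Lib.T2H4CechIso

set_option autoImplicit false
universe u
open CategoryTheory
open CohTop

namespace Groth.Agent.S0901
open TopologicalSpace Opposite CategoryTheory.Limits
open Groth.Agent.Lib.Helper16.CechLow Groth.Agent.Lib.Helper16.CechH1

section Coarse

variable {X : TopCat.{u}} {ι : Type u} (U : ι → Opens X)

/-- the points of the union, to be given a coarser topology -/
def Pt : Type u := ↥(iSup U)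

/-- the coarse open sets: unions of finite intersections of the `U i` -/
def CoarseOpen (s : Set (Pt U)) : Prop :=
  ∀ x ∈ s, ∃ (p : ℕ) (σ : Fin (p + 1) → ι), (∀ j, x.1 ∈ U (σ j)) ∧
    ∀ y : Pt U, (∀ j, y.1 ∈ U (σ j)) → y ∈ s

lemma exists_mem (x : Pt U) : ∃ i, x.1 ∈ U i := by
  have hx : x.1 ∈ iSup U := x.2
  rw [Opens.mem_iSup] at hx
  exact hx

instance : TopologicalSpace (Pt U) where
  IsOpen := CoarseOpen U
  isOpen_univ := by
    intro x _
    obtain ⟨i, hi⟩ := exists_mem U x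
    exact ⟨0, fun _ => i, fun _ => hi, fun _ _ => Set.mem_univ _⟩
  isOpen_inter := by
    intro s t hs ht x hx
    obtain ⟨p, σ, hσ, hσs⟩ := hs x hx.1
    obtain ⟨q, τ, hτ, hτt⟩ := ht x hx.2
    have hpq : p + 1 + q + 1 = (p + 1) + (q + 1) := by omega
    refine ⟨p + 1 + q, fun j => Fin.append σ τ (Fin.cast hpq j), ?_, ?_⟩
    · intro j
      change x.1 ∈ U (Fin.append σ τ (Fin.cast hpq j))
      generalize Fin.cast hpq j = j'
      refine Fin.addCases (fun a => ?_) (fun a => ?_) j'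
      · rw [Fin.append_left]; exact hσ a
      · rw [Fin.append_right]; exact hτ a
    · intro y hy
      have hy' : ∀ j' : Fin (p + 1 + (q + 1)), y.1 ∈ U (Fin.append σ τ j') := by
        intro j'
        have := hy (Fin.cast hpq.symm j')
        simpa using this
      refine ⟨hσs y (fun a => ?_), hτt y (fun a => ?_)⟩
      · have := hy' (Fin.castAdd (q + 1) a)
        rwa [Fin.append_left] at this
      · have := hy' (Fin.natAdd (p + 1) a)
        rwa [Fin.append_right] at this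
  isOpen_sUnion := by
    intro S hS x hx
    obtain ⟨s, hsS, hxs⟩ := hx
    obtain ⟨p, σ, hσ, hσs⟩ := hS s hsS x hxs
    exact ⟨p, σ, hσ, fun y hy => ⟨s, hsS, hσs y hy⟩⟩

lemma isOpen_iff (s : Set (Pt U)) : IsOpen s ↔ CoarseOpen U s := Iff.rfl

/-- the coarse space -/
abbrev X' : TopCat.{u} := TopCat.of (Pt U)

/-- the union with its subspace topology -/
abbrev Y : TopCat.{u} := TopCat.of ↥(iSup U)

/-- the identity map from the subspace topology to the coarse one -/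
def gfun : ↥(iSup U) → Pt U := fun x => x

lemma continuous_gfun : Continuous (gfun U) := by
  refine ⟨fun s hs => ?_⟩
  rw [isOpen_iff_forall_mem_open]
  intro x hx
  obtain ⟨p, σ, hσ, hσs⟩ := hs x hx
  refine ⟨Subtype.val ⁻¹' (⋂ j, (U (σ j) : Set X)), ?_, ?_, ?_⟩
  · intro y hy
    exact hσs y (fun j => Set.mem_iInter.1 hy j)
  · exact (isOpen_iInter_of_finite (fun j => (U (σ j)).isOpen)).preimage continuous_subtype_val
  · exact Set.mem_iInter.2 hσ

/-- the comparison map -/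
def g : Y U ⟶ X' U := TopCat.ofHom ⟨gfun U, continuous_gfun U⟩

/-- the coarse family -/
def U' (i : ι) : Opens (X' U) :=
  ⟨{w : Pt U | w.1 ∈ U i}, by
    intro x hx
    exact ⟨0, fun _ => i, fun _ => hx, fun y hy => hy 0⟩⟩

lemma mem_U' (i : ι) (w : Pt U) : w ∈ U' U i ↔ w.1 ∈ U i := Iff.rfl

/-- the open of `X` underlying a coarse open -/
noncomputable def Φ (V : Opens (X' U)) : Opens X :=
  (iSup U).isOpenEmbedding.isOpenMap.functor.obj ((Opens.map (g U)).obj V)

lemma mem_Φ (V : Opens (X' U)) (x : X) : x ∈ Φ U V ↔ ∃ w : Pt U, w ∈ V ∧ w.1 = x := by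
  constructor
  · rintro ⟨w, hw, rfl⟩
    exact ⟨w, hw, rfl⟩
  · rintro ⟨w, hw, rfl⟩
    exact ⟨w, hw, rfl⟩

lemma Φ_top : Φ U ⊤ = iSup U := by
  ext x
  rw [SetLike.mem_coe, SetLike.mem_coe, mem_Φ]
  constructor
  · rintro ⟨w, _, rfl⟩
    exact w.2
  · intro hx
    exact ⟨⟨x, hx⟩, trivial, rfl⟩

lemma Ux_eq_iInf {Z : TopCat.{u}} (W : ι → Opens Z) {n : ℕ} (σ : Fin (n + 1) → ι) :
    Ux W σ = ⨅ a, W (σ a) :=
  le_antisymm (le_iInf (Ux_le W σ)) (le_Ux W σ _ (fun a => iInf_le _ a))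

lemma mem_Ux {Z : TopCat.{u}} (W : ι → Opens Z) {n : ℕ} (σ : Fin (n + 1) → ι) (z : Z) :
    z ∈ Ux W σ ↔ ∀ a, z ∈ W (σ a) := by
  rw [Ux_eq_iInf, ← SetLike.mem_coe, Opens.coe_iInf, Set.mem_iInter]
  rfl

lemma Φ_Ux {n : ℕ} (σ : Fin (n + 1) → ι) : Φ U (Ux (U' U) σ) = Ux U σ := by
  ext x
  rw [SetLike.mem_coe, SetLike.mem_coe, mem_Φ, mem_Ux]
  constructor
  · rintro ⟨w, hw, rfl⟩
    exact fun a => (mem_Ux (U' U) σ w).1 hw a
  · intro hx
    have hxW : x ∈ iSup U := Opens.mem_iSup.2 ⟨σ 0, hx 0⟩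
    exact ⟨⟨x, hxW⟩, (mem_Ux (U' U) σ _).2 (fun a => hx a), rfl⟩

/-- every coarse open is a union of finite intersections -/
lemma Φ_eq_iSup (V : Opens (X' U)) :
    ∃ (κ : Type u) (a : κ → Σ p : ℕ, Fin (p + 1) → ι), Φ U V = ⨆ k, ⨅ j, U ((a k).2 j) := by
  refine ⟨{a : Σ p : ℕ, Fin (p + 1) → ι // (⨅ j, U (a.2 j)) ≤ Φ U V}, fun k => k.1, ?_⟩
  apply le_antisymm
  · intro x hx
    rw [mem_Φ] at hx
    obtain ⟨w, hw, rfl⟩ := hx
    obtain ⟨p, σ, hσ, hσV⟩ := V.isOpen w hw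
    have hle : (⨅ j, U (σ j)) ≤ Φ U V := by
      intro y hy
      rw [← SetLike.mem_coe, Opens.coe_iInf, Set.mem_iInter] at hy
      have hyW : y ∈ iSup U := Opens.mem_iSup.2 ⟨σ 0, hy 0⟩
      exact (mem_Φ U V y).2 ⟨⟨y, hyW⟩, hσV ⟨y, hyW⟩ (fun j => hy j), rfl⟩
    refine Opens.mem_iSup.2 ⟨⟨⟨p, σ⟩, hle⟩, ?_⟩
    rw [← SetLike.mem_coe, Opens.coe_iInf, Set.mem_iInter]
    exact hσ
  · exact iSup_le fun k => k.2

end Coarse

section Main

variable {X : TopCat.{u}} (F : CohTop.Ab X) {ι : Type u} (U : ι → Opens X)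

/-- the sheaf on the coarse space -/
noncomputable def F' : CohTop.Ab (X' U) := (CohTop.push (g U)).obj (CohTop.restr F (iSup U))

/-- the action of `Φ` on morphisms of the opposite categories -/
noncomputable def Φmap {V₁ V₂ : (Opens (X' U))ᵒᵖ} (m : V₁ ⟶ V₂) :
    op (Φ U V₁.unop) ⟶ op (Φ U V₂.unop) :=
  ((iSup U).isOpenEmbedding.isOpenMap.functor.map ((Opens.map (g U)).map m.unop)).op

lemma F'_map_eq {V₁ V₂ : (Opens (X' U))ᵒᵖ} (m : V₁ ⟶ V₂) :
    (F' F U).obj.map m = F.obj.map (Φmap U m) := rfl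

lemma surj_transport (P : (Opens X)ᵒᵖ ⥤ AddCommGrpCat.{u}) {A A' B B' : Opens X} (hA : A = A')
    (hB : B = B') (m : op A ⟶ op B) (m' : op A' ⟶ op B') (h : Function.Surjective (P.map m')) :
    Function.Surjective (P.map m) := by
  subst hA hB
  have : m = m' := Subsingleton.elim _ _
  rwa [this]

lemma map_comm (P : (Opens X)ᵒᵖ ⥤ AddCommGrpCat.{u}) {A B C D : Opens X} (m1 : op A ⟶ op B)
    (m2 : op B ⟶ op D) (m3 : op A ⟶ op C) (m4 : op C ⟶ op D) (y : P.obj (op A)) :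
    P.map m2 (P.map m1 y) = P.map m4 (P.map m3 y) := by
  rw [← ConcreteCategory.comp_apply, ← ConcreteCategory.comp_apply, ← P.map_comp, ← P.map_comp]
  exact congrArg (fun m => (P.map m) y) (Subsingleton.elim _ _)

variable (h : ∀ (κ : Type u) (a : κ → Σ p : ℕ, Fin (p + 1) → ι),
      Function.Surjective (F.obj.map (homOfLE
        (iSup_le fun k => (iInf_le _ ⟨0, Nat.succ_pos _⟩).trans (le_iSup U ((a k).2 ⟨0, Nat.succ_pos _⟩)) :
          (⨆ k, ⨅ j, U ((a k).2 j)) ≤ iSup U)).op))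

include h in
lemma isFlasque_F' : TopCat.Sheaf.IsFlasque (F' F U) where
  epi {V₁ V₂} i := by
    have htop : Epi ((F' F U).obj.map (homOfLE (le_top : V₂.unop ≤ ⊤)).op) := by
      rw [AddCommGrpCat.epi_iff_surjective]
      obtain ⟨κ, a, ha⟩ := Φ_eq_iSup U V₂.unop
      rw [F'_map_eq]
      exact surj_transport F.obj (Φ_top U) ha _ _ (h κ a)
    have hcomp : (F' F U).obj.map (homOfLE (le_top : V₁.unop ≤ ⊤)).op ≫ (F' F U).obj.map i =
        (F' F U).obj.map (homOfLE (le_top : V₂.unop ≤ ⊤)).op := by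
      rw [← Functor.map_comp]
      exact congrArg _ (Subsingleton.elim _ _)
    rw [← hcomp] at htop
    exact epi_of_epi ((F' F U).obj.map (homOfLE (le_top : V₁.unop ≤ ⊤)).op) _

/-- sections over the finite intersections agree -/
noncomputable def eσ (n : ℕ) (σ : Fin (n + 1) → ι) :
    F.obj.obj (op (Ux U σ)) ≃+ (F' F U).obj.obj (op (Ux (U' U) σ)) :=
  (F.obj.mapIso (eqToIso (congrArg op (Φ_Ux U σ).symm))).addCommGroupIsoToAddEquiv

lemma eσ_apply (n : ℕ) (σ : Fin (n + 1) → ι) (y : F.obj.obj (op (Ux U σ))) :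
    eσ F U n σ y = F.obj.map (eqToHom (congrArg op (Φ_Ux U σ).symm)) y := rfl

lemma eσ_face (n : ℕ) (σ : Fin (n + 2) → ι) (i : Fin (n + 2))
    (y : F.obj.obj (op (Ux U (σ ∘ Fin.succAbove i)))) :
    eσ F U (n + 1) σ (F.obj.map (face U σ i).op y) =
      (F' F U).obj.map (face (U' U) σ i).op (eσ F U n (σ ∘ Fin.succAbove i) y) := by
  exact map_comm F.obj (face U σ i).op (eqToHom (congrArg op (Φ_Ux U σ).symm))
    (eqToHom (congrArg op (Φ_Ux U (σ ∘ Fin.succAbove i)).symm)) (Φmap U (face (U' U) σ i).op) y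

include h in
theorem main (p : ℕ) : IsZero (CohTop.cechH F.obj U (p + 1)) := by
  have := isFlasque_F' F U h
  have hz := Groth.Agent.S0455.result (F' F U) (U' U) p
  obtain ⟨e⟩ := Groth.Agent.Lib.T2H4.CechIso.nonempty_homology_equiv U (U' U) F.obj (F' F U).obj
    (eσ F U) (eσ_face F U) (p + 1)
  have := AddCommGrpCat.subsingleton_of_isZero hz
  have : Subsingleton ((CK U F.obj).homology (p + 1)) := e.toEquiv.subsingleton
  exact AddCommGrpCat.isZero_of_subsingleton _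

end Main


open TopologicalSpace Opposite CategoryTheory.Limits in
/-- Let F be an abelian sheaf on X and U_i a family of opens with union U. Assume that for every union
U' of opens of the form U_{i_0} ∩ ... ∩ U_{i_p} the restriction map F(U) -> F(U') is surjective.
Then the Cech cohomology of F with respect to the family vanishes in all positive degrees. -/
theorem result {X : TopCat.{u}} (F : CohTop.Ab X)
    {ι : Type u} (U : ι → Opens X)
    (h : ∀ (κ : Type u) (a : κ → Σ p : ℕ, Fin (p + 1) → ι),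
      Function.Surjective (F.obj.map (homOfLE
        (iSup_le fun k => (iInf_le _ ⟨0, Nat.succ_pos _⟩).trans (le_iSup U ((a k).2 ⟨0, Nat.succ_pos _⟩)) :
          (⨆ k, ⨅ j, U ((a k).2 j)) ≤ iSup U)).op)) (p : ℕ) :
    IsZero (CohTop.cechH F.obj U (p + 1)) := by
  exact main F U h p

end Groth.Agent.S0901
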