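import Groth.Statements.S0981
import Mathlib
import Groth.Agent.Lib.T2H5UnitPushC
-- import your own Groth.Agent.* helpers here

set_option autoImplicit false
universe u
open CategoryTheory AlgebraicGeometry
open Perf

namespace Groth.Agent.S0981

open CategoryTheory.Limits in
/-- Let f : X ⟶ S be proper, flat and of finite presentation, and assume that for every algebraically
closed field K and every point Spec K ⟶ S the fibre X ×_S Spec K is a reduced, connected (in
particular nonempty) scheme. Then O_S ⟶ f_*O_X is an isomorphism: for every open V of S the map
O_S(V) ⟶ O_X(f⁻¹V) is an isomorphism. (The source adds that this persists after any base change.) -/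
theorem result {X S : Scheme.{u}} (f : X ⟶ S)
    [IsProper f] [Flat f] [LocallyOfFinitePresentation f]
    (h : ∀ (K : Type u) [Field K] [IsAlgClosed K] (g : Spec (CommRingCat.of K) ⟶ S),
      IsReduced (pullback f g) ∧ ConnectedSpace ↥(pullback f g))
    (V : S.Opens) : IsIso (f.app V) := by
  have hH : ∀ s : S, CategoryTheory.IsIso (f.fiberToSpecResidueField s).appTop := fun s =>
    (CategoryTheory.ConcreteCategory.isIso_iff_bijective _).2
      (Groth.Agent.Lib.T2H5.UnitPush.appTop_bijective_of_reduced_connected f s
        (h (AlgebraicClosure (S.residueField s)) _).1 (h (AlgebraicClosure (S.residueField s)) _).2)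
  exact Groth.Agent.Lib.T2H5.UnitPush.isIso_app_of_fibres f hH V

end Groth.Agent.S0981
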