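import Groth.Statements.S0988
import Mathlib
import Groth.Agent.S0856
import Groth.Agent.Lib.T2H5QCohInjEmb
-- import your own Groth.Agent.* helpers here

set_option autoImplicit false
universe u
open CategoryTheory AlgebraicGeometry Opposite
open Perf

namespace Groth.Agent.S0988

/-- Let X be a Noetherian scheme and J an injective object of the category QCoh(O_X) of quasi-coherent
O_X-modules (the full subcategory of all O_X-modules). Then J is flasque: for opens U ⊆ V of X the
restriction map J(V) → J(U) is surjective. -/
theorem result (X : Scheme.{u}) [IsNoetherian X]
    (J : ObjectProperty.FullSubcategory (fun M : X.Modules => Coh.IsQCoh M)) (hJ : Injective J)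
    (U V : X.Opens) (hUV : U ≤ V) :
    Function.Surjective (J.obj.val.map (homOfLE hUV).op).hom := by
  have hinj : Injective J.obj := Groth.Agent.Lib.T2H5.QCohInjEmb.injective_of_injective_qcoh X J hJ
  exact @Groth.Agent.S0856.result X.Opens _ _ X.ringCatSheaf J.obj hinj _ _ (homOfLE hUV) inferInstance

end Groth.Agent.S0988
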