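import Groth.Statements.S10000
import Mathlib
import Groth.Agent.Lib.T2H7LargeField
import Groth.Agent.Lib.Helper9SpPoint6
import Groth.Agent.Lib.Helper20EtLocalSch
import Groth.Agent.S10176
import Groth.Agent.S10177

set_option autoImplicit false
universe u
open CategoryTheory CategoryTheory.Limits AlgebraicGeometry
open AlgSp

namespace Groth.Agent.S10000

/-- For a morphism X ⟶ Y of algebraic spaces and an algebraically closed field k over S that is large
compared with X, X(k) surjects onto |X| ×_{|Y|} Y(k): every pair of a point x of |X| and a k-valued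
point of Y with the same image in |Y| comes from a k-valued point of X. (The published statement
measures largeness by a cardinal attached to X that bounds the residue fields of an etale atlas;
this row asks directly that every residue field of one surjective etale chart U of X have
cardinality smaller than that of k, which is how the bound enters the argument.) -/
theorem result {S : Scheme.{u}} {X Y : AlgSp.Space S} (f : X ⟶ Y)
    {U : Over S} (a : (AlgSp.yon S).obj U ⟶ X.obj) (ha : AlgSp.RepWith @Etale a) (has : AlgSp.RepWith @Surjective a)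
    (ybar : AlgSp.FieldPt Y.obj) (hy : ybar.IsGeometric)
    (hk : ∀ u : ↥U.left, Cardinal.mk ↥(U.left.residueField u) < Cardinal.mk ybar.K)
    (x : AlgSp.Points X.obj) (hx : AlgSp.Points.map f.hom x = AlgSp.Points.mk ybar) :
    ∃ xbar : (AlgSp.yon S).obj ybar.pt ⟶ X.obj, xbar ≫ f.hom = ybar.toHom ∧
      AlgSp.Points.ofPt xbar (IsLocalRing.closedPoint ybar.K) = x := by
  classical
  haveI : IsAlgClosed ybar.K := hy
  -- a point of the chart over `x`
  obtain ⟨u, hu⟩ := Groth.Agent.S10177.surjective_ofPt a has x
  -- the geometric point lifts to a chart of `Y`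
  obtain ⟨V, b, hbe, hbs⟩ := Y.property.atlas
  obtain ⟨v, hv⟩ := Groth.Agent.S10177.surjective_ofPt b hbs (AlgSp.Points.mk ybar)
  obtain ⟨⟨σ, hσ⟩⟩ := Groth.Agent.Lib.Helper9.SpPoint.exists_lift_of_ofPt_eq_mk ybar hy
    (AlgSp.EtOver.mk b hbe) v hv
  change (AlgSp.yon S).map σ ≫ b = ybar.toHom at hσ
  let σS : Spec (CommRingCat.of ybar.K) ⟶ V.left := σ.left
  let v₀ : V.left := σS (IsLocalRing.closedPoint ybar.K)
  have hv₀ : AlgSp.Points.ofPt b v₀ = AlgSp.Points.mk ybar := by
    have h1 := Groth.Agent.S10176.ofPt_map_comp σ b (IsLocalRing.closedPoint ybar.K)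
    rw [hσ, AlgSp.Points.ofPt_toHom] at h1
    exact h1.symm
  -- the fibre product of the two charts
  have sq' := hbe.1.isPullback (a ≫ f.hom)
  let U' : Over S := hbe.1.pullback (a ≫ f.hom)
  let sU : U' ⟶ U := hbe.1.snd (a ≫ f.hom)
  obtain ⟨pV, hpV⟩ : ∃ pV : U' ⟶ V, (AlgSp.yon S).map pV = hbe.1.fst (a ≫ f.hom) :=
    (AlgSp.yon S).map_surjective _
  have sq : IsPullback ((AlgSp.yon S).map pV) ((AlgSp.yon S).map sU) b (a ≫ f.hom) := by
    rw [hpV]
    exact sq'
  haveI hsUe : Etale sU.left := hbe.2 _ _ _ sq'
  have hpt : AlgSp.Points.ofPt b v₀ = AlgSp.Points.ofPt (a ≫ f.hom) u := by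
    rw [hv₀, ← hx, ← hu]
    rfl
  obtain ⟨u', hpu', hsu'⟩ := Groth.Agent.S10176.exists_point_of_isPullback_yon sq v₀ u hpt
  -- the residue fields
  let α : V.left.residueField v₀ ⟶ CommRingCat.of ybar.K :=
    Scheme.descResidueField (Scheme.stalkClosedPointTo σS)
  have hα : Spec.map α ≫ V.left.fromSpecResidueField v₀ = σS :=
    Scheme.descResidueField_stalkClosedPointTo_fromSpecResidueField ybar.K V.left σS
  let α' : V.left.residueField (pV.left u') ⟶ CommRingCat.of ybar.K :=
    (V.left.residueFieldCongr hpu').hom ≫ α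
  have hα' : Spec.map α' ≫ V.left.fromSpecResidueField (pV.left u') = σS := by
    rw [Spec.map_comp, Category.assoc, Scheme.residueFieldCongr_fromSpecResidueField, hα]
  let β := pV.left.residueFieldMap u'
  letI : Algebra (V.left.residueField (pV.left u')) (U'.left.residueField u') := β.hom.toAlgebra
  letI : Algebra (V.left.residueField (pV.left u')) ybar.K := α'.hom.toAlgebra
  have hcard : Cardinal.mk (U'.left.residueField u') < Cardinal.mk ybar.K := by
    obtain ⟨-, hfin, -⟩ :=
      (Groth.Agent.Lib.Helper20.EtLocal.formallyUnramified_stalkMap_iff_local sU.left u').mp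
        (FormallyUnramified.stalkMap sU.left u')
    letI := (sU.left.residueFieldMap u').hom.toAlgebra
    exact Groth.Agent.Lib.T2H7.LargeField.card_lt_of_finite
      (U.left.residueField (sU.left u')) (U'.left.residueField u') ybar.K (hk _)
  obtain ⟨τ⟩ := Groth.Agent.Lib.T2H7.LargeField.exists_algHom_of_card_lt
    (V.left.residueField (pV.left u')) (U'.left.residueField u') ybar.K hcard
  have hτ : β ≫ CommRingCat.ofHom τ.toRingHom = α' := by
    ext c
    exact τ.commutes c
  -- the point of the fibre product
  let xS : Spec (CommRingCat.of ybar.K) ⟶ U'.left :=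
    Spec.map (CommRingCat.ofHom τ.toRingHom) ≫ U'.left.fromSpecResidueField u'
  have hxSp : xS ≫ pV.left = σS := by
    show (Spec.map (CommRingCat.ofHom τ.toRingHom) ≫ U'.left.fromSpecResidueField u') ≫ pV.left = _
    rw [Category.assoc, ← Scheme.Hom.SpecMap_residueFieldMap_fromSpecResidueField,
      ← Category.assoc, ← Spec.map_comp]
    have h4 : Spec.map (pV.left.residueFieldMap u' ≫ CommRingCat.ofHom τ.toRingHom) =
        Spec.map α' := congrArg Spec.map hτ
    exact (congrArg (· ≫ V.left.fromSpecResidueField (pV.left u')) h4).trans hα'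
  let xO : ybar.pt ⟶ U' := Over.homMk xS (by
    have h1 : pV.left ≫ V.hom = U'.hom := Over.w pV
    have h2 : σ.left ≫ V.hom = ybar.pt.hom := Over.w σ
    rw [← h1, ← Category.assoc, hxSp]
    exact h2)
  have hxOp : xO ≫ pV = σ := by
    ext
    exact hxSp
  refine ⟨(AlgSp.yon S).map (xO ≫ sU) ≫ a, ?_, ?_⟩
  · rw [Category.assoc, Functor.map_comp, Category.assoc, ← sq.w, ← Category.assoc,
      ← Functor.map_comp, hxOp, hσ]
  · rw [Groth.Agent.S10176.ofPt_map_comp, ← hu]
    congr 1
    show sU.left (xS (IsLocalRing.closedPoint ybar.K)) = u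
    rw [← hsu']
    congr 1
    show (U'.left.fromSpecResidueField u') _ = u'
    exact Scheme.fromSpecResidueField_apply _ _

end Groth.Agent.S10000
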