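import Groth.Statements.S10001
import Mathlib
import Groth.Agent.Lib.T2H1MonoGlue
import Groth.Agent.S9928
import Groth.Agent.S10176

set_option autoImplicit false
universe u
open CategoryTheory CategoryTheory.Limits AlgebraicGeometry Opposite
open AlgSp

namespace Groth.Agent.S10001

open Groth.Agent.Lib.T2H1.MonoGlue

/-- if `h` factors through `i`, the kernel family of `i` is contained in the kernel family of
`h`. -/
lemma idealOfRep_le_of_factor {S : Scheme.{u}} {Z X : AlgSp.Sp S} (i : Z ⟶ X)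
    (hi : AlgSp.Representable i) {T : AlgSp.Sp S} (h : T ⟶ X) (hh : AlgSp.Representable h)
    (k : T ⟶ Z) (hk : k ≫ i = h) : AlgSp.idealOfRep hi ≤ AlgSp.idealOfRep hh := by
  intro E hE a ha
  rw [AlgSp.mem_idealOfRep_iff] at ha ⊢
  have sqZ := AlgSp.EtOver.isPullback_bcObj hi E
  have sqT := AlgSp.EtOver.isPullback_bcObj hh E
  obtain ⟨l, hl⟩ := (AlgSp.yon S).map_surjective
    (sqZ.lift ((AlgSp.EtOver.bcObj hh E).obj.hom ≫ k) ((AlgSp.yon S).map (AlgSp.EtOver.bcπ hh E))
      (by rw [Category.assoc, hk, sqT.w]))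
  have hl2 : l ≫ AlgSp.EtOver.bcπ hi E = AlgSp.EtOver.bcπ hh E := (AlgSp.yon S).map_injective (by
    rw [Functor.map_comp, hl]; exact sqZ.lift_snd _ _ _)
  have h2 : (AlgSp.EtOver.bcπ hh E).left = l.left ≫ (AlgSp.EtOver.bcπ hi E).left := by
    rw [← Over.comp_left, hl2]
  rw [h2, Scheme.Hom.comp_appTop, CommRingCat.hom_comp, RingHom.comp_apply, ha, map_zero]

/-- Last assertion, on T-valued points for schemes T: if i : Z ⟶ X is the closed subspace cut out by the
sheaf of ideals I, a morphism h : h_T ⟶ X from a scheme T factors through Z exactly when h^*I ⟶ O_T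
vanishes, that is, when for every affine etale chart U of X the functions in I(U) pull back to zero
on T ×_X U (I is contained in the kernel family of h). -/
theorem result {S : Scheme.{u}} {Z X : AlgSp.Space S} (i : Z ⟶ X) (I : AlgSp.IdealEt X.obj)
    (hZ : AlgSp.IsCutOutBy I i.hom) {T : Over S} (h : (AlgSp.yon S).obj T ⟶ X.obj) (hh : AlgSp.Representable h) :
    (∃ k : (AlgSp.yon S).obj T ⟶ Z.obj, k ≫ i.hom = h) ↔ I ≤ AlgSp.idealOfRep hh := by
  obtain ⟨hi, rfl⟩ := hZ
  haveI : Mono i.hom := Groth.Agent.S9928.mono_of_repWith @IsClosedImmersion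
    (fun _ _ g hg => by haveI : IsClosedImmersion g := hg; infer_instance) i.hom hi
  constructor
  · rintro ⟨k, hk⟩
    exact idealOfRep_le_of_factor i.hom hi.1 h hh k hk
  · intro hle
    obtain ⟨V, p, hpe, hps⟩ := X.property.atlas
    -- the affine pieces of the atlas as objects of the small etale site
    let ιj : ∀ j : V.left.affineCover.I₀, V.left.affineCover.X j ⟶ V.left :=
      fun j => V.left.affineCover.f j
    let Vj : V.left.affineCover.I₀ → Over S := fun j => Over.mk (ιj j ≫ V.hom)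
    let ιj' : ∀ j, Vj j ⟶ V := fun j => Over.homMk (ιj j) rfl
    have hιj : ∀ j, AlgSp.RepWith @Etale ((AlgSp.yon S).map (ιj' j)) := fun j =>
      (AlgSp.repWith_yon_map_iff _ _).2 (inferInstance : Etale (ιj j))
    let Ej : V.left.affineCover.I₀ → AlgSp.EtOver X.obj := fun j =>
      AlgSp.EtOver.mk ((AlgSp.yon S).map (ιj' j) ≫ p)
        ((AlgSp.RepWith @Etale).comp_mem _ _ (hιj j) hpe)
    have hEj : ∀ j, IsAffine (Ej j).obj.left.left := fun j => by
      change IsAffine (V.left.affineCover.X j)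
      infer_instance
    -- the covering family of `T`
    let Tj : V.left.affineCover.I₀ → Over S := fun j => (AlgSp.EtOver.bcObj hh (Ej j)).obj.left
    let c : ∀ j, Tj j ⟶ T := fun j => (AlgSp.yon S).preimage (AlgSp.EtOver.bcObj hh (Ej j)).obj.hom
    have hc : ∀ j, (AlgSp.yon S).map (c j) = (AlgSp.EtOver.bcObj hh (Ej j)).obj.hom :=
      fun j => (AlgSp.yon S).map_preimage _
    have hcet : ∀ j, Etale (c j).left := fun j => by
      have h1 : AlgSp.RepWith @Etale ((AlgSp.yon S).map (c j)) := by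
        rw [hc]; exact (AlgSp.EtOver.bcObj hh (Ej j)).property
      exact (AlgSp.repWith_yon_map_iff _ _).1 h1
    have hsurj : ∀ t : T.left, ∃ j, t ∈ Set.range (c j).left := by
      intro t
      obtain ⟨TV, snd, fst, sq⟩ := hpe.1 h
      haveI : Surjective snd.left := hps.2 _ _ _ sq
      obtain ⟨y, hy⟩ := snd.left.surjective t
      obtain ⟨fst', rfl⟩ := (AlgSp.yon S).map_surjective fst
      obtain ⟨j, v, hv⟩ := V.left.affineCover.exists_eq (fst'.left y)
      refine ⟨j, ?_⟩
      have sqT := AlgSp.EtOver.isPullback_bcObj hh (Ej j)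
      rw [← hc] at sqT
      have e : AlgSp.Points.ofPt h t = AlgSp.Points.ofPt (Ej j).obj.hom v := by
        change _ = AlgSp.Points.ofPt ((AlgSp.yon S).map (ιj' j) ≫ p) v
        rw [Groth.Agent.S10176.ofPt_map_comp, ← hy, ← Groth.Agent.S10176.ofPt_map_comp,
          ← sq.w, Groth.Agent.S10176.ofPt_map_comp]
        congr 1
        exact hv.symm
      obtain ⟨z, hz1, -⟩ := Groth.Agent.S10176.exists_point_of_isPullback_yon sqT t v e
      exact ⟨z, hz1⟩
    have hmem := ofArrows_mem Tj c (fun j => by haveI := hcet j; infer_instance)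
      (fun j => by haveI := hcet j; infer_instance) hsurj
    refine exists_factor_of_cover i.hom h Tj c hmem (fun j => ?_)
    have sqZ := AlgSp.EtOver.isPullback_bcObj hi.1 (Ej j)
    have sqT := AlgSp.EtOver.isPullback_bcObj hh (Ej j)
    haveI : IsClosedImmersion (AlgSp.EtOver.bcπ hi.1 (Ej j)).left := hi.2 _ _ _ sqZ
    haveI := hEj j
    obtain ⟨l, hl⟩ := exists_lift_of_ker_le (AlgSp.EtOver.bcπ hi.1 (Ej j)).left
      (AlgSp.EtOver.bcπ hh (Ej j)).left (hle (Ej j) (hEj j))
    let l' : Tj j ⟶ (AlgSp.EtOver.bcObj hi.1 (Ej j)).obj.left := Over.homMk l (by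
      have h1 := Over.w (AlgSp.EtOver.bcπ hi.1 (Ej j))
      have h2 := Over.w (AlgSp.EtOver.bcπ hh (Ej j))
      rw [← h1, ← Category.assoc, hl, h2])
    have hl' : l' ≫ AlgSp.EtOver.bcπ hi.1 (Ej j) = AlgSp.EtOver.bcπ hh (Ej j) := by
      ext
      exact hl
    refine ⟨(AlgSp.yon S).map l' ≫ (AlgSp.EtOver.bcObj hi.1 (Ej j)).obj.hom, ?_⟩
    rw [Category.assoc, sqZ.w, ← Category.assoc, ← Functor.map_comp, hl', hc, sqT.w]

end Groth.Agent.S10001
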