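import Groth.Statements.S9989
import Mathlib
import Groth.Agent.Lib.T2H1MonoGlue
import Groth.Agent.S10001

set_option autoImplicit false
universe u
open CategoryTheory CategoryTheory.Limits AlgebraicGeometry Opposite
open AlgSp

namespace Groth.Agent.S9989

open Groth.Agent.Lib.T2H1.MonoGlue

/-- For closed subspaces i : Z ⟶ X and i' : Z' ⟶ X of an algebraic space cut out by sheaves of ideals I
and I', one has I ≤ I' exactly when i' factors through i. -/
theorem result {S : Scheme.{u}} {X Z Z' : AlgSp.Space S} (i : Z ⟶ X) (i' : Z' ⟶ X)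
    (I I' : AlgSp.IdealEt X.obj) (h : AlgSp.IsCutOutBy I i.hom) (h' : AlgSp.IsCutOutBy I' i'.hom) :
    I ≤ I' ↔ ∃ k : Z' ⟶ Z, k ≫ i = i' := by
  obtain ⟨hi, rfl⟩ := h
  obtain ⟨hi', rfl⟩ := h'
  constructor
  · intro hle
    haveI : Mono i.hom := Groth.Agent.S9928.mono_of_repWith @IsClosedImmersion
      (fun _ _ g hg => by haveI : IsClosedImmersion g := hg; infer_instance) i.hom hi
    obtain ⟨d, hd⟩ := exists_factor_of_forall_yon i.hom i'.hom (fun T t => by
      have hrep : AlgSp.Representable (t ≫ i'.hom) := X.property.representable_from_yon _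
      have h1 : AlgSp.idealOfRep hi'.1 ≤ AlgSp.idealOfRep hrep :=
        Groth.Agent.S10001.idealOfRep_le_of_factor i'.hom hi'.1 (t ≫ i'.hom) hrep t rfl
      exact (Groth.Agent.S10001.result i (AlgSp.idealOfRep hi.1) ⟨hi, rfl⟩ (t ≫ i'.hom) hrep).2
        (fun E hE => (hle E hE).trans (h1 E hE)))
    exact ⟨ObjectProperty.homMk d, by ext1; exact hd⟩
  · rintro ⟨k, rfl⟩
    exact Groth.Agent.S10001.idealOfRep_le_of_factor i.hom hi.1 _ hi'.1 k.hom rfl

end Groth.Agent.S9989
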