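import Groth.Statements.S10003
import Mathlib
import Groth.Agent.Lib.T2H7SchImA
import Groth.Agent.Lib.T2H1MonoGlue
import Groth.Agent.S9988
import Groth.Agent.S9989
import Groth.Agent.S10001
import Groth.Agent.S9928

set_option autoImplicit false
universe u
open CategoryTheory CategoryTheory.Limits AlgebraicGeometry Opposite
open AlgSp

namespace Groth.Agent.S10003

/-- For a quasi-compact morphism f : X ⟶ Y of algebraic spaces that is representable by schemes, the
sheaf of ideals Ker(O_Y ⟶ f_* O_X) (the kernel family on affine etale charts of Y) is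
quasi-coherent, and the scheme theoretic image of f is exactly the closed subspace it cuts out. (The
published statement is for an arbitrary quasi-compact morphism of algebraic spaces; f_* O_X on the
small etale site with scheme charts is available only for representable f, the case stated.) -/
theorem result {S : Scheme.{u}} {X Y : AlgSp.Space S} (f : X ⟶ Y)
    (hf : AlgSp.Representable f.hom) (hqc : AlgSp.IsQuasiCompactMor f.hom) :
    (AlgSp.idealOfRep hf).IsQCoh ∧
      ∀ (Z : AlgSp.Space S) (i : Z ⟶ Y), AlgSp.IsSchImage f.hom i.hom ↔ AlgSp.IsCutOutBy (AlgSp.idealOfRep hf) i.hom := by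
  have hQ : (AlgSp.idealOfRep hf).IsQCoh := Groth.Agent.Lib.T2H7.SchIm.isQCoh_idealOfRep hf hqc
  -- the closed subspace cut out by the kernel family is a scheme theoretic image
  have key : ∀ (Z : AlgSp.Space S) (i : Z ⟶ Y), AlgSp.IsCutOutBy (AlgSp.idealOfRep hf) i.hom →
      AlgSp.IsSchImage f.hom i.hom := by
    intro Z i hcut
    obtain ⟨hi, hK⟩ := hcut
    have : Mono i.hom := Groth.Agent.S9928.mono_of_repWith @IsClosedImmersion
      (fun _ _ g hg => by have : IsClosedImmersion g := hg; infer_instance) i.hom hi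
    refine ⟨hi, ?_, ?_⟩
    · refine Groth.Agent.Lib.T2H1.MonoGlue.exists_factor_of_forall_yon i.hom f.hom (fun T t => ?_)
      have hrep : AlgSp.Representable (t ≫ f.hom) := Y.property.representable_from_yon _
      refine (Groth.Agent.S10001.result i (AlgSp.idealOfRep hf) ⟨hi, hK⟩ (t ≫ f.hom) hrep).2 ?_
      exact Groth.Agent.S10001.idealOfRep_le_of_factor f.hom hf (t ≫ f.hom) hrep t rfl
    · intro Z' i' hZ' hi' hfac
      obtain ⟨f'', hf''⟩ := hfac
      let ZZ' : AlgSp.Space S := ⟨Z', hZ'⟩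
      let ii' : ZZ' ⟶ Y := ObjectProperty.homMk i'
      have hle : AlgSp.idealOfRep hi'.1 ≤ AlgSp.idealOfRep hf :=
        Groth.Agent.S10001.idealOfRep_le_of_factor i' hi'.1 f.hom hf f'' hf''
      obtain ⟨k, hk⟩ := (Groth.Agent.S9989.result ii' i (AlgSp.idealOfRep hi'.1)
        (AlgSp.idealOfRep hf) ⟨hi', rfl⟩ ⟨hi, hK⟩).1 hle
      exact ⟨k.hom, congrArg (fun m => m.hom) hk⟩
  refine ⟨hQ, fun Z i => ⟨?_, key Z i⟩⟩
  rintro ⟨hi, ⟨f', hf'⟩, hmin⟩
  obtain ⟨Z₀, i₀, hcut₀⟩ := Groth.Agent.S9988.result Y (AlgSp.idealOfRep hf) hQ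
  have hsch₀ := key Z₀ i₀ hcut₀
  obtain ⟨hi₀, hK₀⟩ := hcut₀
  obtain ⟨k, hk⟩ := hmin i₀.hom Z₀.property hi₀ hsch₀.2.1
  refine ⟨hi, ?_⟩
  have h1 : AlgSp.idealOfRep hi.1 ≤ AlgSp.idealOfRep hf :=
    Groth.Agent.S10001.idealOfRep_le_of_factor i.hom hi.1 f.hom hf f' hf'
  have h2 : AlgSp.idealOfRep hi₀.1 ≤ AlgSp.idealOfRep hi.1 :=
    Groth.Agent.S10001.idealOfRep_le_of_factor i₀.hom hi₀.1 i.hom hi.1 k hk
  rw [hK₀] at h2
  exact AlgSp.IdealEt.ext (funext fun E => funext fun hE => le_antisymm (h1 E hE) (h2 E hE))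

end Groth.Agent.S10003
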