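import Groth.Statements.S10018
import Groth.Agent.Lib.T2H7LimDescFin
import Groth.Agent.Lib.T2H7LimRestart
import Groth.Agent.Lib.T2H7AffQcqs
import Groth.Agent.Lib.T2H1LimAffine
import Groth.Agent.Lib.T2H7FinStageB
import Groth.Agent.Lib.T2H7StageAffC
import Groth.Agent.S10017
import Groth.Agent.S10267
import Groth.Agent.S9984
import Groth.Agent.S9948
import Groth.Agent.S9874

set_option autoImplicit false
universe u
open CategoryTheory CategoryTheory.Limits AlgebraicGeometry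
open AlgSp

namespace Groth.Agent.S10018

/-- Let `S` be a quasi-separated scheme and `B` the limit, in fppf sheaves over `S`, of a cofiltered
system `(B_i)` of algebraic spaces over `S` whose transition maps are affine; fix an index `i₀` such
that `B_{i₀}` is quasi-compact and quasi-separated over `S`, and a morphism `f₀ : X₀ ⟶ Y₀` of
algebraic spaces over `B_{i₀}` whose source and target are quasi-compact and quasi-separated over
`S`. Write `f_i` (for `i` mapping to `i₀`) and `f` for the base changes of `f₀` to `B_i` and to `B`,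
given by pullback squares. If `f` is finite and `f₀` locally of finite type, then for some `i`
mapping to `i₀` every such base change `f_i` is finite. (The published statement allows any base
scheme and uses absolute quasi-separatedness; this row assumes the base quasi-separated, over which
quasi-separatedness relative to the base is the absolute notion.) -/
theorem result (S : Scheme.{u}) [QuasiSeparatedSpace S] {I : Type u} [SmallCategory I] [IsCofiltered I]
    (D : I ⥤ AlgSp.Sp S) (hD : ∀ i, AlgSp.IsAlgSpace (D.obj i))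
    (hDa : ∀ (i j : I) (φ : i ⟶ j), AlgSp.IsAffineMor (D.map φ))
    (c : Cone D) (hc : IsLimit c) (i₀ : I)
    (hBqc : AlgSp.IsQuasiCompactSp (D.obj i₀)) (hBqs : AlgSp.IsQuasiSeparatedSp (D.obj i₀))
    (X₀ Y₀ : AlgSp.Space S) (f₀ : X₀.obj ⟶ Y₀.obj) (b₀ : Y₀.obj ⟶ D.obj i₀)
    (hXqc : AlgSp.IsQuasiCompactSp X₀.obj) (hXqs : AlgSp.IsQuasiSeparatedSp X₀.obj)
    (hYqc : AlgSp.IsQuasiCompactSp Y₀.obj) (hYqs : AlgSp.IsQuasiSeparatedSp Y₀.obj)
    (X Y : AlgSp.Sp S) (f : X ⟶ Y) (pY : Y ⟶ Y₀.obj) (qY : Y ⟶ c.pt)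
    (hY : IsPullback pY qY b₀ (c.π.app i₀)) (pX : X ⟶ X₀.obj) (hX : IsPullback pX f f₀ pY)
    (hf : AlgSp.IsFiniteMor f) (hf₀ : AlgSp.LocP @LocallyOfFiniteType f₀) :
    ∃ (i : I) (φ : i ⟶ i₀), ∀ (Xi Yi : AlgSp.Sp S) (fi : Xi ⟶ Yi) (pYi : Yi ⟶ Y₀.obj) (qYi : Yi ⟶ D.obj i)
      (_ : IsPullback pYi qYi b₀ (D.map φ)) (pXi : Xi ⟶ X₀.obj) (_ : IsPullback pXi fi f₀ pYi),
      AlgSp.IsFiniteMor fi := by

  have hYalg : AlgSp.IsAlgSpace Y :=
    Groth.Agent.S9874.isAlgSpace_of_isPullback (hD i₀).diag Y₀.property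
      (Groth.Agent.Lib.T2H1.LimAffine.isAlgSpace_pt D hDa c hc hD) hY
  have hXalg : AlgSp.IsAlgSpace X :=
    Groth.Agent.S9874.isAlgSpace_of_isPullback Y₀.property.diag X₀.property hYalg hX
  have hfr : AlgSp.RepWith @IsFinite f :=
    (Groth.Agent.S10267.result (X := ⟨X, hXalg⟩) (Y := ⟨Y, hYalg⟩) (ObjectProperty.homMk f)).2.1 hf
  obtain ⟨i, φ, Ha⟩ := Groth.Agent.S10017.result S D hD hDa c hc i₀ hBqc hBqs X₀ Y₀ f₀ b₀ hXqc
    hXqs hYqc hYqs X Y f pY qY hY pX hX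
    (Groth.Agent.Lib.T2H7.FinStageB.isAffineMor_of_isFiniteMor f hf)
  have hYi := IsPullback.of_hasPullback b₀ (D.map φ)
  have hXi := IsPullback.of_hasPullback f₀ (pullback.fst b₀ (D.map φ))
  have hYialg : AlgSp.IsAlgSpace (pullback b₀ (D.map φ)) :=
    Groth.Agent.S9874.isAlgSpace_of_isPullback (hD i₀).diag Y₀.property (hD i) hYi
  have hXialg : AlgSp.IsAlgSpace (pullback f₀ (pullback.fst b₀ (D.map φ))) :=
    Groth.Agent.S9874.isAlgSpace_of_isPullback Y₀.property.diag X₀.property hYialg hXi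
  let Yis : AlgSp.Space S := ⟨pullback b₀ (D.map φ), hYialg⟩
  let Xis : AlgSp.Space S := ⟨pullback f₀ (pullback.fst b₀ (D.map φ)), hXialg⟩
  have haffY : AlgSp.IsAffineMor (pullback.fst b₀ (D.map φ)) :=
    Groth.Agent.Lib.T2H7.AffQcqs.isAffineMor_of_isPullback hYi.flip (hDa i i₀ φ)
  have haffX : AlgSp.IsAffineMor (pullback.fst f₀ (pullback.fst b₀ (D.map φ))) :=
    Groth.Agent.Lib.T2H7.AffQcqs.isAffineMor_of_isPullback hXi.flip haffY
  have hYiqc : AlgSp.IsQuasiCompactSp Yis.obj :=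
    Groth.Agent.Lib.T2H7.AffQcqs.isQuasiCompactSp_of_isAffineMor Yis Y₀ _ haffY hYqc
  have hYiqs : AlgSp.IsQuasiSeparatedSp Yis.obj :=
    Groth.Agent.Lib.T2H7.AffQcqs.isQuasiSeparatedSp_of_isAffineMor Yis Y₀ _ haffY hYqs
  have hXiqc : AlgSp.IsQuasiCompactSp Xis.obj :=
    Groth.Agent.Lib.T2H7.AffQcqs.isQuasiCompactSp_of_isAffineMor Xis X₀ _ haffX hXqc
  have hXiqs : AlgSp.IsQuasiSeparatedSp Xis.obj :=
    Groth.Agent.Lib.T2H7.AffQcqs.isQuasiSeparatedSp_of_isAffineMor Xis X₀ _ haffX hXqs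
  have haff_i : AlgSp.IsAffineMor (pullback.snd f₀ (pullback.fst b₀ (D.map φ))) :=
    Ha _ _ _ _ _ hYi _ hXi
  have hlft_i : AlgSp.LocP @LocallyOfFiniteType (pullback.snd f₀ (pullback.fst b₀ (D.map φ))) :=
    Groth.Agent.S9984.result @LocallyOfFiniteType (Or.inl rfl) (X := X₀) (Y := Y₀) (Y' := Yis)
      (X' := Xis) (ObjectProperty.homMk f₀) (ObjectProperty.homMk (pullback.fst b₀ (D.map φ)))
      (ObjectProperty.homMk (pullback.fst f₀ (pullback.fst b₀ (D.map φ))))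
      (ObjectProperty.homMk (pullback.snd f₀ (pullback.fst b₀ (D.map φ)))) hXi hf₀
  have hrep_i : AlgSp.RepWith @IsAffineHom (pullback.snd f₀ (pullback.fst b₀ (D.map φ))) :=
    Groth.Agent.Lib.T2H7.StageAffC.repWith_of_isAffineMor _ haff_i
  have hrlft : AlgSp.RepWith @LocallyOfFiniteType
      (pullback.snd f₀ (pullback.fst b₀ (D.map φ))) :=
    (Groth.Agent.S9948.result @LocallyOfFiniteType (Or.inl rfl) (X := Xis) (Y := Yis)
      (ObjectProperty.homMk (pullback.snd f₀ (pullback.fst b₀ (D.map φ)))) hrep_i.1).1 hlft_i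
  obtain ⟨pY', pX', s1, s2, -, -⟩ := Groth.Agent.Lib.T2H7.LimRestart.exists_restart (D.map φ)
    (c.π.app i) (c.π.app i₀) (c.w φ) f₀ b₀ hY hX
  have H2 := Groth.Agent.Lib.T2H7.LimDescFin.descend_finite_of_representable D hD hDa c hc
    i Xis Yis (pullback.snd f₀ (pullback.fst b₀ (D.map φ))) (pullback.snd b₀ (D.map φ))
    hXiqc hXiqs hYiqc hYiqs X Y f pY' qY s1 pX' s2 hfr hrlft
  obtain ⟨j, φ', H3⟩ := Groth.Agent.Lib.T2H7.LimRestart.restart_stage D φ f₀ b₀
    (AlgSp.RepWith @IsFinite) H2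
  refine ⟨j, φ', fun Xj Yj fj pYj qYj hYj pXj hXj Z hZ g => ?_⟩
  have hr := H3 Xj Yj fj pYj qYj hYj pXj hXj
  obtain ⟨W, snd, fst, sq⟩ := hr.1 g
  have : IsFinite snd.left := hr.2 g fst snd sq
  have := hZ
  exact ⟨W, snd, fst, sq, isAffine_of_isAffineHom snd.left, inferInstance⟩

end Groth.Agent.S10018
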