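import Groth.Statements.S10027
import Groth.Agent.S10025
import Groth.Agent.S10026

set_option autoImplicit false
universe u
open CategoryTheory CategoryTheory.Limits AlgebraicGeometry
open AlgSp Opposite

namespace Groth.Agent.S10027

/-- the comparison from the fibre of `fst` over `y` to the fibre of `b` over `a y`. -/
def fibMap (S : Scheme.{u}) {F G H P : AlgSp.PSp S}
    (a : F ⟶ G) (b : H ⟶ G) (fst : P ⟶ F) (snd : P ⟶ H) (w : fst ≫ a = snd ≫ b)
    (T : Over S) (y : F.obj (op T)) :
    fiberFun fst T y ⟶ fiberFun b T (a.app _ y) where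
  app T' := ↾fun x => ⟨snd.app _ x.1, by
    have h1 : b.app _ (snd.app _ x.1) = a.app _ (fst.app _ x.1) := by
      have := congrArg (fun t => t.app (op ((Over.map T.hom).obj T'.unop))) w
      exact (ConcreteCategory.congr_hom this x.1).symm
    rw [h1, x.2]
    exact NatTrans.naturality_apply a _ y⟩
  naturality T' T'' g := by
    ext x : 3
    apply Subtype.ext
    change snd.app _ (P.map _ x.1) = H.map _ (snd.app _ x.1)
    exact NatTrans.naturality_apply snd _ x.1

theorem fibMap_bijective (S : Scheme.{u}) {F G H P : AlgSp.PSp S}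
    (a : F ⟶ G) (b : H ⟶ G) (fst : P ⟶ F) (snd : P ⟶ H) (hP : IsPullback fst snd a b)
    (T : Over S) (y : F.obj (op T)) (T' : (Over T.left)ᵒᵖ) :
    Function.Bijective ((fibMap S a b fst snd hP.w T y).app T') := by
  have hev := hP.map ((evaluation _ _).obj (op ((Over.map T.hom).obj T'.unop)))
  rw [Types.isPullback_iff] at hev
  obtain ⟨-, huniq, hex⟩ := hev
  constructor
  · intro x x' hxx'
    apply Subtype.ext
    apply huniq
    refine ⟨?_, ?_⟩
    · exact x.2.trans x'.2.symm
    · exact congrArg Subtype.val hxx'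
  · intro z
    obtain ⟨p, hp1, hp2⟩ := hex (F.map (overHom T T'.unop).op y) z.1 (by
      change a.app _ (F.map (overHom T T'.unop).op y) = b.app _ z.1
      rw [show b.app _ z.1 = _ from z.2]
      exact NatTrans.naturality_apply a _ y)
    exact ⟨⟨p, hp1⟩, Subtype.ext hp2⟩

theorem baseChange (S : Scheme.{u}) {F G H P : AlgSp.PSp S}
    (a : F ⟶ G) (b : H ⟶ G) (fst : P ⟶ F) (snd : P ⟶ H) (hP : IsPullback fst snd a b)
    (hb : AlgSp.IsRelLimitPreserving b) : AlgSp.IsRelLimitPreserving fst := by
  intro T y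
  have hiso : IsIso (fibMap S a b fst snd hP.w T y) := by
    rw [NatTrans.isIso_iff_isIso_app]
    intro T'
    rw [isIso_iff_bijective]
    exact fibMap_bijective S a b fst snd hP T y T'
  exact (hb T (a.app _ y)).of_iso (asIso (fibMap S a b fst snd hP.w T y)).symm

/-- Let `a : F ⟶ G`, `b : H ⟶ G`, `c : G ⟶ E` be transformations of presheaves of sets on schemes over
`S` and `P` a fibre product `F ×_G H`. If `c`, `a ≫ c` and `b ≫ c` are relatively limit preserving,
then so is `P ⟶ E`. -/
theorem result (S : Scheme.{u}) {E F G H P : AlgSp.PSp S}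
    (a : F ⟶ G) (b : H ⟶ G) (c : G ⟶ E) (fst : P ⟶ F) (snd : P ⟶ H) (hP : IsPullback fst snd a b)
    (hc : AlgSp.IsRelLimitPreserving c) (hac : AlgSp.IsRelLimitPreserving (a ≫ c))
    (hbc : AlgSp.IsRelLimitPreserving (b ≫ c)) :
    AlgSp.IsRelLimitPreserving (fst ≫ a ≫ c) := by
  have hb := Groth.Agent.S10026.result S b c hbc hc
  have hfst := baseChange S a b fst snd hP hb
  exact Groth.Agent.S10025.result S fst (a ≫ c) hfst hac

end Groth.Agent.S10027
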