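import Groth.Statements.S10054
import Groth.Agent.Lib.T2H1DvrClosure
import Groth.Agent.Lib.Helper12FibreSpec
import Groth.Agent.S10175
import Groth.Agent.S10176
import Groth.Agent.S10177

set_option autoImplicit false
universe u
open CategoryTheory CategoryTheory.Limits AlgebraicGeometry
open AlgSp

namespace Groth.Agent.S10054

/-- Let `f : X ⟶ Y` be a morphism of finite type of algebraic spaces over `S` with `Y` locally
Noetherian, and `y ∈ |Y|` a point lying in the closure of `f`'s image on points. Then one can find a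
discrete valuation ring `A` with fraction field `K` and a commutative square `Spec K ⟶ X`, `Spec A ⟶
Y` (over `f` and `Spec K ⟶ Spec A`) sending the closed point of `Spec A` to `y`. (The refinement
that the `K`-point may be taken at a codimension-0 point with `K` a residue field of an etale chart
is not included.) -/
theorem result (S : Scheme.{u}) {X Y : AlgSp.Space S} (f : X ⟶ Y)
    (hft : AlgSp.IsFiniteTypeMor f.hom) (hY : AlgSp.IsLocNoethSp Y.obj) (y : AlgSp.Points Y.obj)
    (hy : y ∈ closure (Set.range (AlgSp.Points.map f.hom))) :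
    ∃ (A : Type u) (_ : CommRing A) (_ : IsDomain A) (_ : IsDiscreteValuationRing A)
      (a : Spec (CommRingCat.of A) ⟶ S)
      (α : (AlgSp.yon S).obj (Over.mk a) ⟶ Y.obj)
      (κ : (AlgSp.yon S).obj (Over.mk (Spec.map (CommRingCat.ofHom (algebraMap A (FractionRing A))) ≫ a)) ⟶ X.obj),
      κ ≫ f.hom = (AlgSp.yon S).map (Over.homMk (Spec.map (CommRingCat.ofHom (algebraMap A (FractionRing A))))) ≫ α ∧
      AlgSp.Points.map α (AlgSp.Points.schemeEquiv (Over.mk a) (IsLocalRing.closedPoint A)) = y := by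
  obtain ⟨hlft, hqc⟩ := hft
  have hYa : AlgSp.IsAlgSpace Y.obj := Y.property
  -- an affine étale chart of `Y` through `y`
  obtain ⟨V₀, b₀, hb₀e, hb₀s⟩ := hYa.atlas
  obtain ⟨v₀, rfl⟩ := Groth.Agent.S10177.surjective_ofPt b₀ hb₀s y
  obtain ⟨_, ⟨Vo₀, hVo, rfl⟩, hv₀, -⟩ :=
    V₀.left.isBasis_affineOpens.exists_subset_of_mem_open (Set.mem_univ v₀) isOpen_univ
  obtain ⟨Vo, hVo₀⟩ : ∃ Vo : V₀.left.Opens, Vo = Vo₀ := ⟨Vo₀, rfl⟩
  subst hVo₀
  let V : Over S := Over.mk (Vo.ι ≫ V₀.hom)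
  let ιV : V ⟶ V₀ := Over.homMk Vo.ι rfl
  haveI : IsAffine V.left := hVo
  let b : (AlgSp.yon S).obj V ⟶ Y.obj := (AlgSp.yon S).map ιV ≫ b₀
  have hb : AlgSp.RepWith @Etale b := by
    refine MorphismProperty.comp_mem _ _ _ ((AlgSp.repWith_yon_map_iff _ _).2 ?_) hb₀e
    exact (inferInstance : Etale Vo.ι)
  let v : ↥V.left := ⟨v₀, hv₀⟩
  have hbv : AlgSp.Points.ofPt b v = AlgSp.Points.ofPt b₀ v₀ :=
    Groth.Agent.S10176.ofPt_map_comp ιV b₀ v
  haveI : IsLocallyNoetherian V.left :=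
    Groth.Agent.Lib.Helper12.FibreSpec.isLocallyNoetherian_of_chart hY b hb
  -- the base change of `X` to `V` is quasi-compact
  have sq : IsPullback (pullback.fst f.hom b) (pullback.snd f.hom b) f.hom b :=
    IsPullback.of_hasPullback f.hom b
  have hVqc : AlgSp.IsQuasiCompactSp ((AlgSp.yon S).obj V) :=
    ⟨V, 𝟙 _, AlgSp.repWith_id _ V, AlgSp.repWith_id _ V, (inferInstance : CompactSpace ↥V.left)⟩
  obtain ⟨U, c, hce, hcs, hUc⟩ :=
    hqc (AlgSp.IsAlgSpace.yon_obj V) hVqc b (pullback.fst f.hom b) (pullback.snd f.hom b) sq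
  obtain ⟨h, hh⟩ := (AlgSp.yon S).map_surjective (c ≫ pullback.snd f.hom b)
  have hfste : AlgSp.RepWith @Etale (pullback.fst f.hom b) :=
    MorphismProperty.of_isPullback (P := AlgSp.RepWith @Etale) sq.flip hb
  have ha : AlgSp.RepWith @Etale (c ≫ pullback.fst f.hom b) :=
    MorphismProperty.comp_mem _ _ _ hce hfste
  have hcomm : (c ≫ pullback.fst f.hom b) ≫ f.hom = (AlgSp.yon S).map h ≫ b := by
    rw [Category.assoc, pullback.condition, ← Category.assoc, hh]
  haveI : LocallyOfFiniteType h.left := hlft _ _ h ha hb hcomm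
  haveI : CompactSpace ↥U.left := hUc
  haveI : IsLocallyNoetherian U.left := LocallyOfFiniteType.isLocallyNoetherian h.left
  haveI : QuasiCompact h.left := inferInstance
  -- `v` lies in the closure of the image of `U`
  have hcl : v ∈ closure (Set.range h.left) := by
    rw [mem_closure_iff]
    intro N hN hvN
    have hopen : IsOpen (AlgSp.Points.ofPt b '' N) := Groth.Agent.S10176.isOpenMap_ofPt b hb N hN
    have hmem : AlgSp.Points.ofPt b₀ v₀ ∈ AlgSp.Points.ofPt b '' N := ⟨v, hvN, hbv⟩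
    obtain ⟨_, ⟨v', hv'N, hv'⟩, ⟨x, rfl⟩⟩ := mem_closure_iff.1 hy _ hopen hmem
    have e : AlgSp.Points.map f.hom x = AlgSp.Points.map b (AlgSp.Points.ofScheme V v') := by
      rw [← AlgSp.Points.ofPt_eq_map_ofScheme]; exact hv'.symm
    obtain ⟨p, -, hp2⟩ := Groth.Agent.S10175.exists_point_of_isPullback sq x _ e
    obtain ⟨u, rfl⟩ := Groth.Agent.S10177.surjective_ofPt c hcs p
    have h1 : AlgSp.Points.ofPt ((AlgSp.yon S).map h) u = AlgSp.Points.ofScheme V v' := by
      rw [hh, ← AlgSp.Points.map_ofPt]; exact hp2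
    have h2 := AlgSp.Points.toScheme_ofPt h u
    rw [h1, AlgSp.Points.toScheme_ofScheme] at h2
    exact ⟨v', hv'N, u, h2.symm⟩
  obtain ⟨u, hs⟩ := Groth.Agent.Lib.Helper4.DVRSch.exists_specializes_of_mem_closure_range h.left hcl
  obtain ⟨A, iA, iD, iDVR, g, k, hk, hg⟩ :=
    Groth.Agent.Lib.T2H1.DvrClosure.exists_dvr_of_specializes h.left u v hs
  have hkw : k ≫ U.hom = Spec.map (CommRingCat.ofHom (algebraMap A (FractionRing A))) ≫ g ≫ V.hom := by
    rw [← Over.w h, ← Category.assoc, hk, Category.assoc]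
  let gO : Over.mk (g ≫ V.hom) ⟶ V := Over.homMk g rfl
  let kO : Over.mk (Spec.map (CommRingCat.ofHom (algebraMap A (FractionRing A))) ≫ g ≫ V.hom) ⟶ U :=
    Over.homMk k hkw
  refine ⟨A, iA, iD, iDVR, g ≫ V.hom, (AlgSp.yon S).map gO ≫ b,
    (AlgSp.yon S).map kO ≫ c ≫ pullback.fst f.hom b, ?_, ?_⟩
  · have e1 : kO ≫ h = (Over.homMk (Spec.map (CommRingCat.ofHom (algebraMap A (FractionRing A)))) rfl :
        Over.mk (Spec.map (CommRingCat.ofHom (algebraMap A (FractionRing A))) ≫ g ≫ V.hom) ⟶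
          Over.mk (g ≫ V.hom)) ≫ gO := by
      ext
      exact hk
    rw [Category.assoc, Category.assoc, pullback.condition, ← Category.assoc c, ← hh]
    have e2 := congrArg (fun m => (AlgSp.yon S).map m ≫ b) e1
    simp only [Functor.map_comp, Category.assoc] at e2
    exact e2
  · change AlgSp.Points.map ((AlgSp.yon S).map gO ≫ b)
      (AlgSp.Points.ofScheme (Over.mk (g ≫ V.hom)) (IsLocalRing.closedPoint A)) = _
    rw [← AlgSp.Points.ofPt_eq_map_ofScheme, Groth.Agent.S10176.ofPt_map_comp]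
    change AlgSp.Points.ofPt b (g (IsLocalRing.closedPoint A)) = _
    rw [hg, hbv]

end Groth.Agent.S10054
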