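import Groth.Statements.S9964
import Mathlib
import Groth.Agent.Lib.Helper1ClosedSub2

set_option autoImplicit false
universe u
open CategoryTheory CategoryTheory.Limits AlgebraicGeometry
open AlgSp

namespace Groth.Agent.S9964

open Groth.Agent.Lib.Helper1

/-- Every morphism of algebraic spaces has a scheme theoretic image, a smallest closed subspace of the
target through which it factors. -/
theorem result {S : Scheme.{u}} {X Y : AlgSp.Space S} (f : X ⟶ Y) :
    ∃ (Z : AlgSp.Space S) (i : Z ⟶ Y), AlgSp.IsSchImage f.hom i.hom := by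
  obtain ⟨U, c, hce, hcs⟩ := Y.property.atlas
  obtain ⟨W₀, p, hpe, hps⟩ := X.property.atlas
  -- the equivalence relation of the chart
  obtain ⟨R, p₂, p₁', sqR⟩ := hce.1 c
  obtain ⟨p₁, rfl⟩ := (AlgSp.yon S).map_surjective p₁'
  -- the base change of the atlas of `X` to the chart
  obtain ⟨W, w₀, w', sqW'⟩ := hce.1 (p ≫ f.hom)
  obtain ⟨w, rfl⟩ := (AlgSp.yon S).map_surjective w'
  have sqW : IsPullback ((AlgSp.yon S).map w₀) ((AlgSp.yon S).map w) (p ≫ f.hom) c := sqW'.flip
  -- the largest invariant ideal sheaf contained in the kernel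
  let 𝒥 : Set U.left.IdealSheafData :=
    {J | J.comap p₁.left = J.comap p₂.left ∧ J ≤ w.left.ker}
  obtain ⟨I, hI⟩ : ∃ I, I = sSup 𝒥 := ⟨_, rfl⟩
  have hI1 : I.comap p₁.left = I.comap p₂.left := by
    rw [hI, (Scheme.IdealSheafData.map_gc p₁.left).l_sSup,
      (Scheme.IdealSheafData.map_gc p₂.left).l_sSup]
    refine iSup_congr fun J => iSup_congr fun hJ => hJ.1
  have hI2 : I ≤ w.left.ker := by
    rw [hI]
    exact sSup_le fun J hJ => hJ.2
  let C : Over S := Over.mk (I.subschemeι ≫ U.hom)
  let iC : C ⟶ U := Over.homMk I.subschemeι rfl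
  haveI : IsClosedImmersion iC.left := inferInstanceAs (IsClosedImmersion I.subschemeι)
  haveI : Mono iC.left := inferInstance
  haveI : Mono iC := (Over.forget S).mono_of_mono_map ‹_›
  have hkerC : iC.left.ker = I := Scheme.IdealSheafData.ker_subschemeι I
  have hinv : ClosedSub.Invariant c iC :=
    ClosedSub.invariant_of_comap_eq c iC p₁ p₂ sqR (by rw [hkerC]; exact hI1)
  have hZbar := ClosedSub.isAlgSpace_obj c iC Y.property hce hcs hinv
  have hincl := ClosedSub.repWith_incl c iC Y.property hce hcs hinv inferInstance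
  obtain ⟨a', sqC⟩ := ClosedSub.exists_chart c iC hinv
  refine ⟨⟨ClosedSub.obj c iC, hZbar⟩, ObjectProperty.homMk (ClosedSub.incl c iC), hincl, ?_, ?_⟩
  · -- `f` factors through the closed subspace
    refine (ClosedSub.exists_factor_iff_of_atlas c iC f.hom p hpe hps w₀ w sqW).2 ?_
    have hle : iC.left.ker ≤ w.left.ker := by rw [hkerC]; exact hI2
    refine ⟨Over.homMk (IsClosedImmersion.lift iC.left w.left hle) ?_, ?_⟩
    · rw [← Over.w iC, ← Category.assoc, IsClosedImmersion.lift_fac, Over.w w]
    · ext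
      exact IsClosedImmersion.lift_fac _ _ _
  · -- minimality
    intro Z' i' hZ' hi' ⟨f'', hf''⟩
    obtain ⟨V', v', pr', sqV'⟩ := hi'.1 c
    haveI : IsClosedImmersion v'.left := hi'.2 c pr' v' sqV'
    have hV'inv : ∀ (T : Over S) (a b : T ⟶ U),
        (AlgSp.yon S).map a ≫ c = (AlgSp.yon S).map b ≫ c →
        (∃ l : T ⟶ V', l ≫ v' = a) → ∃ l : T ⟶ V', l ≫ v' = b := by
      rintro T a b hab ⟨l, hl⟩
      have hw : ((AlgSp.yon S).map l ≫ pr') ≫ i' = (AlgSp.yon S).map b ≫ c := by
        rw [Category.assoc, sqV'.w, ← Category.assoc, ← Functor.map_comp, hl, hab]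
      obtain ⟨l', hl'⟩ := (AlgSp.yon S).map_surjective (sqV'.lift _ _ hw)
      refine ⟨l', ?_⟩
      apply (AlgSp.yon S).map_injective
      rw [Functor.map_comp, hl', sqV'.lift_snd]
    have hJ1 : v'.left.ker.comap p₁.left = v'.left.ker.comap p₂.left :=
      ClosedSub.comap_eq_of_invariant c v' p₁ p₂ sqR.w hV'inv
    have hJ2 : v'.left.ker ≤ w.left.ker := by
      have hw : ((AlgSp.yon S).map w₀ ≫ p ≫ f'') ≫ i' = (AlgSp.yon S).map w ≫ c := by
        rw [Category.assoc, Category.assoc, hf'']
        exact sqW.w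
      obtain ⟨l, hl⟩ := (AlgSp.yon S).map_surjective (sqV'.lift _ _ hw)
      have hlv : l ≫ v' = w := by
        apply (AlgSp.yon S).map_injective
        rw [Functor.map_comp, hl, sqV'.lift_snd]
      have : w.left = l.left ≫ v'.left := (congrArg (fun x => x.left) hlv).symm
      rw [this]
      exact Scheme.Hom.le_ker_comp _ _
    have hJI : v'.left.ker ≤ iC.left.ker := by
      rw [hkerC, hI]
      exact le_sSup ⟨hJ1, hJ2⟩
    let l : C ⟶ V' := Over.homMk (IsClosedImmersion.lift v'.left iC.left hJI) (by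
      rw [← Over.w v', ← Category.assoc, IsClosedImmersion.lift_fac, Over.w iC])
    have hl : l ≫ v' = iC := by
      ext
      exact IsClosedImmersion.lift_fac _ _ _
    haveI : Mono i' := Groth.Agent.S9928.mono_of_repWith @IsClosedImmersion
      (fun X Y g hg => by haveI : IsClosedImmersion g := hg; infer_instance) _ hi'
    have hae : AlgSp.RepWith @Etale a' :=
      MorphismProperty.of_isPullback (P := AlgSp.RepWith @Etale) sqC.flip hce
    have has : AlgSp.RepWith @Surjective a' :=
      MorphismProperty.of_isPullback (P := AlgSp.RepWith @Surjective) sqC.flip hcs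
    haveI : Epi a' := Groth.Agent.S9927.epi_of_repWith a' hae has
    exact ClosedSub.exists_factor_of_epi a' i' (ClosedSub.incl c iC) ((AlgSp.yon S).map l ≫ pr')
      (by rw [Category.assoc, sqV'.w, ← Category.assoc, ← Functor.map_comp, hl, sqC.w])

end Groth.Agent.S9964
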