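import Groth.Statements.S9965
import Mathlib
import Groth.Agent.Lib.Helper1SchImageBC
import Groth.Agent.S10265
import Groth.Agent.S10509

set_option autoImplicit false
universe u
open CategoryTheory CategoryTheory.Limits AlgebraicGeometry
open AlgSp

namespace Groth.Agent.S9965

open Groth.Agent.Lib.Helper1

/-- For a quasi-compact morphism of algebraic spaces, forming the scheme theoretic image commutes with
etale base change, and the image of the morphism is dense in the scheme theoretic image. -/
theorem result {S : Scheme.{u}} {X Y Z : AlgSp.Space S} (f : X ⟶ Y) (i : Z ⟶ Y)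
    (hq : AlgSp.IsQuasiCompactMor f.hom) (hZ : AlgSp.IsSchImage f.hom i.hom) :
    (∀ (V XV ZV : AlgSp.Space S) (b : V ⟶ Y), AlgSp.IsEtaleMor b.hom →
      ∀ (f₁ : XV ⟶ X) (fV : XV ⟶ V) (i₁ : ZV ⟶ Z) (iV : ZV ⟶ V),
        IsPullback f₁.hom fV.hom f.hom b.hom → IsPullback i₁.hom iV.hom i.hom b.hom →
        AlgSp.IsSchImage fV.hom iV.hom) ∧
    Set.range (AlgSp.Points.map i.hom) ⊆ closure (Set.range (AlgSp.Points.map f.hom)) := by
  constructor
  · intro V XV ZV b hb f₁ fV i₁ iV sqX sqZ
    exact SchImage.isSchImage_base_change Y.property V.property X.property b.hom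
      (Groth.Agent.S10265.result b hb).2.2.1 f.hom hq i.hom hZ f₁.hom fV.hom sqX i₁.hom iV.hom sqZ
  · obtain ⟨U, c, W, a, w, C, v, pr, hce, hcs, hae, has, hw, hwqc, sq, hvcl, hker⟩ :=
      SchImage.exists_chart_data Y.property X.property f.hom hq i.hom hZ
    haveI := hwqc
    haveI := hvcl
    have hprs : AlgSp.RepWith @Surjective pr :=
      MorphismProperty.of_isPullback (P := AlgSp.RepWith @Surjective) sq.flip hcs
    rintro _ ⟨z₀, rfl⟩
    obtain ⟨t, rfl⟩ := Groth.Agent.S10177.surjective_ofPt pr hprs z₀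
    rw [AlgSp.Points.map_ofPt, sq.w, Groth.Agent.S10509.ofPt_yon_map_comp]
    have h1 : v.left t ∈ closure (Set.range w.left) := by
      rw [← Scheme.Hom.support_ker w.left, ← hker]
      exact v.left.range_subset_ker_support ⟨t, rfl⟩
    have h2 := image_closure_subset_closure_image (AlgSp.Points.continuous_ofPt c)
      (Set.mem_image_of_mem _ h1)
    refine closure_mono ?_ h2
    rintro _ ⟨_, ⟨x, rfl⟩, rfl⟩
    refine ⟨AlgSp.Points.ofPt (a ≫ pullback.fst f.hom c) x, ?_⟩
    rw [AlgSp.Points.map_ofPt, ← Groth.Agent.S10509.ofPt_yon_map_comp, hw, Category.assoc,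
      Category.assoc, pullback.condition]

end Groth.Agent.S9965
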