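import Groth.Statements.S9966
import Mathlib
import Groth.Agent.Lib.Helper1ClosedSub2
import Groth.Agent.S10192
import Groth.Agent.S9922
import Groth.Agent.S9908
import Groth.Agent.S9927
import Groth.Agent.S9928

set_option autoImplicit false
universe u
open CategoryTheory CategoryTheory.Limits AlgebraicGeometry
open AlgSp

namespace Groth.Agent.S9966

open Groth.Agent.Lib.Helper1

/-- a morphism from a reduced sheaf factors through a closed immersion as soon as it does so on
points. -/
theorem exists_factor_of_reduced {S : Scheme.{u}} {X Y Z : AlgSp.Sp S} (f : X ⟶ Y) (i : Z ⟶ Y)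
    (hi : AlgSp.RepWith @IsClosedImmersion i) (hX : AlgSp.IsReducedSp X)
    (hr : Set.range (AlgSp.Points.map f) ⊆ Set.range (AlgSp.Points.map i)) :
    ∃ f' : X ⟶ Z, f' ≫ i = f := by
  obtain ⟨W₀, p, hpe, hps, hred⟩ := hX
  haveI : IsReduced W₀.left := hred
  obtain ⟨C, w, pr, sq⟩ := hi.1 (p ≫ f)
  haveI : IsClosedImmersion w.left := hi.2 _ _ _ sq
  have h1 := Groth.Agent.S9908.preimage_ofPt_map_image sq Set.univ
  rw [Set.image_univ, Set.preimage_univ, Set.image_univ] at h1
  haveI : Surjective w.left := by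
    constructor
    rw [← Set.range_eq_univ, ← h1, Set.eq_univ_iff_forall]
    intro t
    rw [Set.mem_preimage, ← AlgSp.Points.map_ofPt]
    exact hr ⟨_, rfl⟩
  haveI : IsIso w.left := isIso_of_isClosedImmersion_of_surjective w.left
  haveI : IsIso ((Over.forget S).map w) := ‹IsIso w.left›
  haveI : IsIso w := isIso_of_reflects_iso w (Over.forget S)
  haveI : IsIso ((AlgSp.yon S).map w) := inferInstance
  haveI : Epi p := Groth.Agent.S9927.epi_of_repWith p hpe hps
  haveI : Mono i := Groth.Agent.S9928.mono_of_repWith @IsClosedImmersion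
    (fun _ _ g hg => by haveI : IsClosedImmersion g := hg; infer_instance) i hi
  refine ClosedSub.exists_factor_of_epi p i f (inv ((AlgSp.yon S).map w) ≫ pr) ?_
  rw [Category.assoc, sq.w, IsIso.inv_hom_id_assoc]

/-- The scheme theoretic image of a morphism from a reduced algebraic space is the reduced induced
structure on the closure of its image. -/
theorem result {S : Scheme.{u}} {X Y Z : AlgSp.Space S} (f : X ⟶ Y) (i : Z ⟶ Y)
    (hX : AlgSp.IsReducedSp X.obj) (hZ : AlgSp.IsSchImage f.hom i.hom) :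
    AlgSp.IsRedInduced (closure (Set.range (AlgSp.Points.map f.hom))) i.hom := by
  obtain ⟨hi, ⟨f', hf'⟩, hmin⟩ := hZ
  obtain ⟨Z₀, i₀, hi₀, hr₀, hred₀⟩ := Groth.Agent.S10192.result Y
    (closure (Set.range (AlgSp.Points.map f.hom))) isClosed_closure
  have hmono : ∀ {A : AlgSp.Sp S} (j : A ⟶ Y.obj), AlgSp.RepWith @IsClosedImmersion j → Mono j := by
    intro A j hj
    exact Groth.Agent.S9928.mono_of_repWith @IsClosedImmersion
      (fun _ _ g hg => by haveI : IsClosedImmersion g := hg; infer_instance) j hj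
  haveI := hmono i.hom hi
  haveI := hmono i₀.hom hi₀
  -- `f` factors through `Z₀`
  obtain ⟨f₀, hf₀⟩ := exists_factor_of_reduced f.hom i₀.hom hi₀ hX (by
    rw [hr₀]
    exact subset_closure)
  obtain ⟨k, hk⟩ := hmin i₀.hom Z₀.property hi₀ ⟨f₀, hf₀⟩
  -- the range of `i`
  have hcl : IsClosed (Set.range (AlgSp.Points.map i.hom)) := by
    have huc : AlgSp.RepWith @UniversallyClosed i.hom := by
      refine ⟨hi.1, fun T W g pr w sq => ?_⟩
      haveI : IsClosedImmersion w.left := hi.2 g pr w sq
      change UniversallyClosed w.left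
      infer_instance
    exact (Groth.Agent.S9922.isClosedMap_map_of_repWith i.hom huc).isClosed_range
  have hrange : Set.range (AlgSp.Points.map i.hom) =
      closure (Set.range (AlgSp.Points.map f.hom)) := by
    apply le_antisymm
    · rw [← hr₀, ← hk]
      rintro _ ⟨x, rfl⟩
      rw [AlgSp.Points.map_comp]
      exact ⟨_, rfl⟩
    · apply closure_minimal _ hcl
      rw [← hf']
      rintro _ ⟨x, rfl⟩
      rw [AlgSp.Points.map_comp]
      exact ⟨_, rfl⟩
  refine ⟨hi, hrange, ?_⟩
  -- `Z₀` factors through `Z`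
  obtain ⟨k', hk'⟩ := exists_factor_of_reduced i₀.hom i.hom hi hred₀ (by rw [hr₀, hrange])
  have h1 : k ≫ k' = 𝟙 _ := by
    rw [← cancel_mono i.hom, Category.assoc, hk', hk, Category.id_comp]
  have h2 : k' ≫ k = 𝟙 _ := by
    rw [← cancel_mono i₀.hom, Category.assoc, hk, hk', Category.id_comp]
  haveI : IsIso k' := ⟨k, h2, h1⟩
  obtain ⟨C, a, hae, has, hC⟩ := hred₀
  refine ⟨C, a ≫ k', ?_, ?_, hC⟩
  · exact (MorphismProperty.cancel_right_of_respectsIso (AlgSp.RepWith @Etale) a k').mpr hae
  · exact (MorphismProperty.cancel_right_of_respectsIso (AlgSp.RepWith @Surjective) a k').mpr has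

end Groth.Agent.S9966
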