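import Groth.Statements.S9969
import Mathlib
import Groth.Agent.Lib.Helper1SchImageBC
import Groth.Agent.Lib.Helper1SchDense
import Groth.Agent.S9912

set_option autoImplicit false
universe u
open CategoryTheory CategoryTheory.Limits AlgebraicGeometry
open AlgSp

namespace Groth.Agent.S9969

open Groth.Agent.Lib.Helper1

variable {S : Scheme.{u}}

/-- a scheme theoretically dense open subspace has scheme theoretic closure everything. -/
theorem isSchImage_id_of_isSchDense {U X : AlgSp.Sp S} (j : U ⟶ X) (hD : AlgSp.IsSchDense j) :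
    AlgSp.IsSchImage j (𝟙 X) := by
  obtain ⟨hj, V, φ, W, fst, hφe, hφs, sqW, hdense⟩ := hD
  have hfe : AlgSp.RepWith @Etale fst :=
    MorphismProperty.of_isPullback (P := AlgSp.RepWith @Etale) sqW.flip hφe
  have hfs : AlgSp.RepWith @Surjective fst :=
    MorphismProperty.of_isPullback (P := AlgSp.RepWith @Surjective) sqW.flip hφs
  haveI : Epi fst := Groth.Agent.S9927.epi_of_repWith fst hfe hfs
  have hid : AlgSp.RepWith @IsClosedImmersion (𝟙 X) :=
    MorphismProperty.id_mem (AlgSp.RepWith @IsClosedImmersion) X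
  have sq : IsPullback φ ((AlgSp.yon S).map (𝟙 V)) (𝟙 X) φ := by
    rw [(AlgSp.yon S).map_id]
    exact IsPullback.of_id_snd
  refine SchImage.isSchImage_of_ker_eq φ hφe hφs j (𝟙 X) hid fst
    (Over.homMk W.ι rfl : Over.mk (W.ι ≫ V.hom) ⟶ V) sqW.w.symm (𝟙 V) φ sq ?_
  have h1 : (𝟙 V : V ⟶ V).left.ker = ⊥ := by
    change (𝟙 V.left : V.left ⟶ V.left).ker = ⊥
    exact Scheme.Hom.ker_eq_bot_of_isIso _
  rw [h1]
  exact (SchDense.ker_ι_eq_bot_of_dense W hdense).symm

/-- a quasi-compact open subspace with scheme theoretic closure everything is scheme theoretically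
dense. -/
theorem isSchDense_of_isSchImage_id {U X : AlgSp.Sp S} (hX : AlgSp.IsAlgSpace X)
    (hU : AlgSp.IsAlgSpace U) (j : U ⟶ X) (hj : AlgSp.RepWith @IsOpenImmersion j)
    (hq : AlgSp.IsQuasiCompactMor j) (hI : AlgSp.IsSchImage j (𝟙 X)) : AlgSp.IsSchDense j := by
  obtain ⟨U₁, c, W₁, a, w, C, v, pr, hce, hcs, hae, has, hw, hwqc, sq, hvcl, hker⟩ :=
    SchImage.exists_chart_data hX hU j hq (𝟙 X) hI
  haveI : IsIso ((AlgSp.yon S).map v) := sq.isIso_snd_of_isIso
  haveI : IsIso v := isIso_of_fully_faithful (AlgSp.yon S) v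
  haveI : IsIso v.left := inferInstanceAs (IsIso ((Over.forget S).map v))
  have hv : v.left.ker = ⊥ := Scheme.Hom.ker_eq_bot_of_isIso _
  obtain ⟨Wo, fstW, sqWo⟩ := SchDense.exists_opens_pullback j hj c
  let e := (IsPullback.of_hasPullback j c).isoIsPullback _ _ sqWo
  obtain ⟨a₀, ha₀⟩ := (AlgSp.yon S).map_surjective (a ≫ e.hom)
  have ha₀e : AlgSp.RepWith @Etale ((AlgSp.yon S).map a₀) := by
    rw [ha₀]
    exact (MorphismProperty.cancel_right_of_respectsIso (AlgSp.RepWith @Etale) a e.hom).2 hae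
  have ha₀s : AlgSp.RepWith @Surjective ((AlgSp.yon S).map a₀) := by
    rw [ha₀]
    exact (MorphismProperty.cancel_right_of_respectsIso (AlgSp.RepWith @Surjective) a e.hom).2 has
  haveI : Etale a₀.left := (AlgSp.repWith_yon_map_iff _ _).1 ha₀e
  haveI : Surjective a₀.left := (AlgSp.repWith_yon_map_iff _ _).1 ha₀s
  have hfac : a₀ ≫ (Over.homMk Wo.ι rfl : Over.mk (Wo.ι ≫ U₁.hom) ⟶ U₁) = w := by
    apply (AlgSp.yon S).map_injective
    rw [Functor.map_comp, ha₀, Category.assoc, hw]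
    congr 1
    exact (IsPullback.of_hasPullback j c).isoIsPullback_hom_snd _ _ sqWo
  have hfac' : a₀.left ≫ Wo.ι = w.left := congrArg (fun m => m.left) hfac
  have hWo : Wo.ι.ker = ⊥ := by
    rw [← KerFlat.ker_comp a₀.left Wo.ι, hfac', ← hker, hv]
  have hjq : AlgSp.RepWith @QuasiCompact j :=
    Groth.Agent.S9912.repWith_quasiCompact_of_isQuasiCompactMor j hj.1 hq
  haveI : QuasiCompact Wo.ι := hjq.2 c fstW _ sqWo
  exact ⟨hj, U₁, c, Wo, fstW, hce, hcs, sqWo, SchDense.dense_of_ker_ι_eq_bot Wo hWo⟩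

/-- For a quasi-compact open subspace, scheme theoretic density is equivalent to the scheme theoretic
closure being everything. -/
theorem result {S : Scheme.{u}} {U X : AlgSp.Space S} (j : U ⟶ X)
    (hj : AlgSp.RepWith @IsOpenImmersion j.hom) (hq : AlgSp.IsQuasiCompactMor j.hom) :
    AlgSp.IsSchDense j.hom ↔ AlgSp.IsSchImage j.hom (𝟙 X.obj) :=
  ⟨isSchImage_id_of_isSchDense j.hom,
    isSchDense_of_isSchImage_id X.property U.property j.hom hj hq⟩

end Groth.Agent.S9969
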