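import Groth.Statements.S9971
import Mathlib
import Groth.Agent.Lib.Helper1ImmImage
import Groth.Agent.Lib.Helper1SchImageBC
import Groth.Agent.Lib.Helper1SchDense
import Groth.Agent.Lib.Helper1KerFlat
import Groth.Agent.S9969
import Groth.Agent.S9966
import Groth.Agent.S9965
import Groth.Agent.S9932
import Groth.Agent.S9919
import Groth.Agent.S9912
import Groth.Agent.S10191

set_option autoImplicit false
universe u
open CategoryTheory CategoryTheory.Limits AlgebraicGeometry
open AlgSp

namespace Groth.Agent.S9971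

open Groth.Agent.Lib.Helper1

variable {S : Scheme.{u}}

/-- the chart criterion: `h'` is an open immersion as soon as its pullback to a chart of the
scheme theoretic image is. -/
lemma repWith_isOpenImmersion_of_chart {Z X Zbar : AlgSp.Space S} (h : Z ⟶ X) (c : Zbar ⟶ X)
    (h' : Z ⟶ Zbar) (fac : h'.hom ≫ c.hom = h.hom) {U : Over S}
    (cU : (AlgSp.yon S).obj U ⟶ X.obj) (hce : AlgSp.RepWith @Etale cU)
    (hcs : AlgSp.RepWith @Surjective cU) {V C : Over S} (vV : V ⟶ U) (v : C ⟶ U)
    (prV : (AlgSp.yon S).obj V ⟶ Z.obj) (pr : (AlgSp.yon S).obj C ⟶ Zbar.obj)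
    (sqV : IsPullback prV ((AlgSp.yon S).map vV) h.hom cU)
    (sqC : IsPullback pr ((AlgSp.yon S).map v) c.hom cU) :
    ∃ o : V ⟶ C, o ≫ v = vV ∧ IsPullback prV ((AlgSp.yon S).map o) h'.hom pr ∧
      AlgSp.RepWith @Etale pr ∧ AlgSp.RepWith @Surjective pr ∧
      (IsOpenImmersion o.left → AlgSp.RepWith @IsOpenImmersion h'.hom) := by
  obtain ⟨o, ho⟩ := (AlgSp.yon S).map_surjective (sqC.lift (prV ≫ h'.hom) ((AlgSp.yon S).map vV)
    (by rw [Category.assoc, fac, sqV.w]))
  have ho1 : (AlgSp.yon S).map o ≫ pr = prV ≫ h'.hom := by rw [ho, sqC.lift_fst]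
  have ho2 : o ≫ v = vV := by
    apply (AlgSp.yon S).map_injective
    rw [Functor.map_comp, ho, sqC.lift_snd]
  have big : IsPullback ((AlgSp.yon S).map o ≫ (AlgSp.yon S).map v) prV cU (h'.hom ≫ c.hom) := by
    rw [← Functor.map_comp, ho2, fac]
    exact sqV.flip
  have hleft : IsPullback ((AlgSp.yon S).map o) prV pr h'.hom :=
    IsPullback.of_right big ho1 sqC.flip
  have hpre : AlgSp.RepWith @Etale pr :=
    MorphismProperty.of_isPullback (P := AlgSp.RepWith @Etale) sqC.flip hce
  have hprs : AlgSp.RepWith @Surjective pr :=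
    MorphismProperty.of_isPullback (P := AlgSp.RepWith @Surjective) sqC.flip hcs
  refine ⟨o, ho2, hleft.flip, hpre, hprs, fun hopen => ?_⟩
  exact Groth.Agent.S9932.result @IsOpenImmersion (Or.inr (Or.inl rfl)) h' C pr hpre hprs prV
    ((AlgSp.yon S).map o) hleft.flip ((AlgSp.repWith_yon_map_iff @IsOpenImmersion o).2 hopen)

/-- the identity of the scheme theoretic image is the scheme theoretic image of `h'`. -/
lemma isSchImage_id {Z X Zbar : AlgSp.Space S} (h : Z ⟶ X) (c : Zbar ⟶ X)
    (hc : AlgSp.IsSchImage h.hom c.hom) (h' : Z ⟶ Zbar) (fac : h'.hom ≫ c.hom = h.hom) :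
    AlgSp.IsSchImage h'.hom (𝟙 Zbar.obj) := by
  haveI : Mono c.hom := SchImage.mono_of_closed _ hc.1
  refine ⟨MorphismProperty.id_mem (AlgSp.RepWith @IsClosedImmersion) _, ⟨h'.hom, Category.comp_id _⟩, ?_⟩
  intro Z' i' hZ' hi' ⟨f'', hf''⟩
  have hic : AlgSp.RepWith @IsClosedImmersion (i' ≫ c.hom) :=
    MorphismProperty.comp_mem _ _ _ hi' hc.1
  obtain ⟨k, hk⟩ := hc.2.2 (i' ≫ c.hom) hZ' hic ⟨f'', by rw [← Category.assoc, hf'', fac]⟩
  refine ⟨k, ?_⟩
  rw [← cancel_mono c.hom, Category.assoc, hk, Category.id_comp]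

/-- the quasi-compact case. -/
lemma result_qc {Z X Zbar : AlgSp.Space S} (h : Z ⟶ X)
    (hh : AlgSp.RepWith @IsImmersion h.hom) (hq : AlgSp.IsQuasiCompactMor h.hom)
    (c : Zbar ⟶ X) (hc : AlgSp.IsSchImage h.hom c.hom) (h' : Z ⟶ Zbar)
    (fac : h'.hom ≫ c.hom = h.hom) :
    AlgSp.RepWith @IsOpenImmersion h'.hom ∧ AlgSp.IsSchDense h'.hom ∧
      Dense (Set.range (AlgSp.Points.map h'.hom)) := by
  obtain ⟨U, cU, W, a, w, C, v, pr, hce, hcs, hae, has, hw, hwqc, sqC, hvcl, hker⟩ :=
    SchImage.exists_chart_data X.property Z.property h.hom hq c.hom hc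
  haveI := hwqc
  haveI := hvcl
  obtain ⟨V, vV, prV, sqV⟩ := hh.1 cU
  haveI : IsImmersion vV.left := hh.2 cU prV vV sqV
  have hqc : AlgSp.RepWith @QuasiCompact h.hom := (Groth.Agent.S9912.result h hh.1).2 hq
  haveI : QuasiCompact vV.left := hqc.2 cU prV vV sqV
  obtain ⟨o, ho2, sqO, hpre, hprs, hcrit⟩ :=
    repWith_isOpenImmersion_of_chart h c h' fac cU hce hcs vV v prV pr sqV sqC
  -- the comparison `W ⟶ V`
  obtain ⟨a', ha'⟩ := (AlgSp.yon S).map_surjective (sqV.lift (a ≫ pullback.fst h.hom cU)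
    ((AlgSp.yon S).map w) (by rw [Category.assoc, pullback.condition, ← Category.assoc, ← hw]))
  have ha'1 : (AlgSp.yon S).map a' ≫ prV = a ≫ pullback.fst h.hom cU := by
    rw [ha', sqV.lift_fst]
  have ha'2 : a' ≫ vV = w := by
    apply (AlgSp.yon S).map_injective
    rw [Functor.map_comp, ha', sqV.lift_snd]
  have ha'3 : (AlgSp.yon S).map a' = a ≫ sqV.isoPullback.inv := by
    rw [Iso.eq_comp_inv]
    apply pullback.hom_ext
    · rw [Category.assoc, IsPullback.isoPullback_hom_fst, ha'1]
    · rw [Category.assoc, IsPullback.isoPullback_hom_snd, ← Functor.map_comp, ha'2, hw]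
  haveI : Etale a'.left := (AlgSp.repWith_yon_map_iff @Etale a').1 (by
    rw [ha'3]
    exact MorphismProperty.comp_mem _ _ _ hae (MorphismProperty.of_isIso _ _))
  haveI : Surjective a'.left := (AlgSp.repWith_yon_map_iff @Surjective a').1 (by
    rw [ha'3]
    exact MorphismProperty.comp_mem _ _ _ has (MorphismProperty.of_isIso _ _))
  have hker2 : w.left.ker = vV.left.ker := by
    have e : w.left = a'.left ≫ vV.left := (congrArg (fun m => m.left) ha'2).symm
    rw [e]
    exact KerFlat.ker_comp a'.left vV.left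
  have hkv : v.left.ker = vV.left.ker := hker.trans hker2
  -- `o` is an open immersion
  have hopen : IsOpenImmersion o.left := by
    have h1 : v.left.ker ≤ vV.left.imageι.ker := by
      rw [Scheme.IdealSheafData.ker_subschemeι, hkv]
    have h2 : vV.left.imageι.ker ≤ v.left.ker := by
      rw [Scheme.IdealSheafData.ker_subschemeι, hkv]
    have e1 : IsClosedImmersion.lift v.left vV.left.imageι h1 ≫ v.left = vV.left.imageι :=
      IsClosedImmersion.lift_fac _ _ _
    have e2 : IsClosedImmersion.lift vV.left.imageι v.left h2 ≫ vV.left.imageι = v.left :=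
      IsClosedImmersion.lift_fac _ _ _
    haveI : IsIso (IsClosedImmersion.lift v.left vV.left.imageι h1) :=
      ⟨IsClosedImmersion.lift vV.left.imageι v.left h2,
        by rw [← cancel_mono vV.left.imageι, Category.assoc, e2, e1, Category.id_comp],
        by rw [← cancel_mono v.left, Category.assoc, e1, e2, Category.id_comp]⟩
    have e3 : o.left = vV.left.toImage ≫ IsClosedImmersion.lift v.left vV.left.imageι h1 := by
      rw [← cancel_mono v.left, Category.assoc, e1, Scheme.Hom.toImage_imageι]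
      exact congrArg (fun m => m.left) ho2
    rw [e3]
    infer_instance
  have hh'o := hcrit hopen
  haveI : Mono c.hom := SchImage.mono_of_closed _ hc.1
  have hcqs : AlgSp.IsQuasiSeparatedMor c.hom := by
    haveI : IsIso (pullback.diagonal c.hom) := (pullback.isIso_diagonal_iff c.hom).2 inferInstance
    exact MorphismProperty.of_isIso (AlgSp.RepWith @QuasiCompact) (pullback.diagonal c.hom)
  have hfac' : h' ≫ c = h := ObjectProperty.hom_ext _ fac
  have hq' : AlgSp.IsQuasiCompactMor h'.hom :=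
    Groth.Agent.S9919.result h' c (by rw [hfac']; exact hq) hcqs
  have hI := isSchImage_id h c hc h' fac
  refine ⟨hh'o, Groth.Agent.S9969.isSchDense_of_isSchImage_id Zbar.property Z.property h'.hom hh'o
    hq' hI, ?_⟩
  have hd := (Groth.Agent.S9965.result h' (𝟙 Zbar) hq' hI).2
  rw [dense_iff_closure_eq]
  apply Set.eq_univ_of_univ_subset
  intro z _
  exact hd ⟨z, AlgSp.Points.map_id z⟩

/-- the reduced case. -/
lemma result_red {Z X Zbar : AlgSp.Space S} (h : Z ⟶ X)
    (hh : AlgSp.RepWith @IsImmersion h.hom) (hred : AlgSp.IsReducedSp Z.obj)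
    (c : Zbar ⟶ X) (hc : AlgSp.IsSchImage h.hom c.hom) (h' : Z ⟶ Zbar)
    (fac : h'.hom ≫ c.hom = h.hom) :
    AlgSp.RepWith @IsOpenImmersion h'.hom ∧ AlgSp.IsSchDense h'.hom ∧
      Dense (Set.range (AlgSp.Points.map h'.hom)) := by
  obtain ⟨hcl, hrange, hZbred⟩ := Groth.Agent.S9966.result h c hred hc
  obtain ⟨U, cU, hce, hcs⟩ := X.property.atlas
  obtain ⟨V, vV, prV, sqV⟩ := hh.1 cU
  haveI : IsImmersion vV.left := hh.2 cU prV vV sqV
  obtain ⟨C, v, pr, sqC⟩ := hcl.1 cU
  haveI : IsClosedImmersion v.left := hcl.2 cU pr v sqC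
  obtain ⟨o, ho2, sqO, hpre, hprs, hcrit⟩ :=
    repWith_isOpenImmersion_of_chart h c h' fac cU hce hcs vV v prV pr sqV sqC
  haveI : IsReduced C.left := ImmImage.isReduced_of_etale_chart hZbred pr hpre
  -- ranges
  have hrv : Set.range v.left = closure (Set.range vV.left) := by
    rw [ImmImage.range_left_of_isPullback sqC, ImmImage.range_left_of_isPullback sqV, hrange,
      (Groth.Agent.S10176.isOpenMap_ofPt cU hce).preimage_closure_eq_closure_preimage
        (AlgSp.Points.continuous_ofPt cU)]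
  have hoL : o.left ≫ v.left = vV.left := congrArg (fun m => m.left) ho2
  haveI : IsImmersion (o.left ≫ v.left) := by
    rw [hoL]
    infer_instance
  haveI : IsImmersion o.left := IsImmersion.of_comp o.left v.left
  have hro : Set.range o.left = v.left ⁻¹' (Set.range vV.left) := by
    ext x
    constructor
    · rintro ⟨y, rfl⟩
      exact ⟨y, by rw [← hoL]; rfl⟩
    · rintro ⟨y, hy⟩
      refine ⟨y, v.left.injective ?_⟩
      rw [← hy, ← hoL]
      rfl
  have hopenr : IsOpen (Set.range o.left) := by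
    rw [hro]
    have hlc : IsLocallyClosed (Set.range vV.left) := vV.left.isLocallyClosed_range
    obtain ⟨O, hO, hOe⟩ := isOpen_induced_iff.mp hlc.isOpen_preimage_val_closure
    have e : v.left ⁻¹' Set.range vV.left = v.left ⁻¹' O := by
      ext x
      have hx : v.left x ∈ closure (Set.range vV.left) := by
        rw [← hrv]
        exact ⟨x, rfl⟩
      have h3 := Set.ext_iff.mp hOe ⟨v.left x, hx⟩
      simp only [Set.mem_preimage] at h3
      exact h3.symm
    rw [e]
    exact hO.preimage v.left.continuous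
  have hopen := ImmImage.isOpenImmersion_of_isOpen_range o.left hopenr
  have hh'o := hcrit hopen
  -- density on points
  have himm : AlgSp.RepWith @IsImmersion c.hom :=
    Groth.Agent.Lib.Helper12.OpenSub.repWith_mono
      (fun _ _ g hg => by haveI : IsClosedImmersion g := hg; infer_instance) hcl
  have hemb := (Groth.Agent.S10191.result c himm).1
  have hdense : Dense (Set.range (AlgSp.Points.map h'.hom)) := by
    rw [dense_iff_closure_eq, hemb.isInducing.closure_eq_preimage_closure_image, ← Set.range_comp]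
    have e : AlgSp.Points.map c.hom ∘ AlgSp.Points.map h'.hom = AlgSp.Points.map h.hom := by
      funext x
      rw [Function.comp, ← AlgSp.Points.map_comp, fac]
    rw [e, ← hrange, Set.preimage_range]
  refine ⟨hh'o, ⟨hh'o, ?_⟩, hdense⟩
  obtain ⟨W₀, fst₀, sq₀⟩ := SchDense.exists_opens_pullback h'.hom hh'o pr
  refine ⟨C, pr, W₀, fst₀, hpre, hprs, sq₀, ?_⟩
  apply ImmImage.isSchematicallyDense_of_dense
  have hW : (W₀ : Set C.left) = AlgSp.Points.ofPt pr ⁻¹' Set.range (AlgSp.Points.map h'.hom) := by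
    rw [← ImmImage.range_left_of_isPullback sq₀]
    exact (Scheme.Opens.range_ι W₀).symm
  rw [hW]
  exact hdense.preimage (Groth.Agent.S10176.isOpenMap_ofPt pr hpre)

/-- A quasi-compact (or reduced-source) immersion is a scheme theoretically dense, topologically dense
open immersion into its scheme theoretic image. -/
theorem result {S : Scheme.{u}} {Z X Zbar : AlgSp.Space S} (h : Z ⟶ X)
    (hh : AlgSp.RepWith @IsImmersion h.hom) (hq : AlgSp.IsQuasiCompactMor h.hom ∨ AlgSp.IsReducedSp Z.obj)
    (c : Zbar ⟶ X) (hc : AlgSp.IsSchImage h.hom c.hom) (h' : Z ⟶ Zbar) (fac : h' ≫ c = h) :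
    AlgSp.RepWith @IsOpenImmersion h'.hom ∧ AlgSp.IsSchDense h'.hom ∧
      Dense (Set.range (AlgSp.Points.map h'.hom)) := by
  have fac' : h'.hom ≫ c.hom = h.hom := congrArg (fun m => m.hom) fac
  rcases hq with hq | hred
  · exact result_qc h hh hq c hc h' fac'
  · exact result_red h hh hred c hc h' fac'

end Groth.Agent.S9971
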