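import Groth.Statements.S10284
import Mathlib
import Groth.Agent.Lib.Helper1ValLift2
import Groth.Agent.S9964
import Groth.Agent.S9966
import Groth.Agent.S9965
import Groth.Agent.S9971
import Groth.Agent.S9912
import Groth.Agent.S10265

set_option autoImplicit false
universe u
open CategoryTheory CategoryTheory.Limits AlgebraicGeometry
open AlgSp

namespace Groth.Agent.S10284

open Groth.Agent.Lib.Helper1 Groth.Agent.Lib.Helper12.Proper Groth.Agent.Lib.Helper12

/-- For a separated morphism of algebraic spaces, a valuative square that has a lift after a dominating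
extension of the valuation ring already has a lift. -/
theorem result {S : Scheme.{u}} {X Y : AlgSp.Space S} (f : X ⟶ Y)
    (hf : AlgSp.IsSeparatedMor f.hom) (sq : AlgSp.ValSq f.hom) (e : sq.DomExt) (he : e.HasLift) :
    sq.HasLift := by
  let genE : e.ptK' ⟶ e.ptA' := Over.homMk (Spec.map (CommRingCat.ofHom (algebraMap e.A' e.K'))) rfl
  let mψ : e.ptK' ⟶ sq.ptK := Over.homMk (Spec.map (CommRingCat.ofHom e.ψ)) (by
    change Spec.map _ ≫ Spec.map _ ≫ _ = Spec.map _ ≫ Spec.map _ ≫ _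
    rw [← Spec.map_comp_assoc, ← Spec.map_comp_assoc, ← CommRingCat.ofHom_comp,
      ← CommRingCat.ofHom_comp, e.comm])
  let mφ : e.ptA' ⟶ sq.ptA := Over.homMk (Spec.map (CommRingCat.ofHom e.φ)) rfl
  obtain ⟨l', hl'1, hl'2⟩ := he
  change (AlgSp.yon S).map genE ≫ l' = (AlgSp.yon S).map mψ ≫ sq.top at hl'1
  change l' ≫ f.hom = (AlgSp.yon S).map mφ ≫ sq.bot at hl'2
  have hcommO : mψ ≫ sq.j = genE ≫ mφ := by
    ext
    change Spec.map _ ≫ Spec.map _ = Spec.map _ ≫ Spec.map _
    rw [← Spec.map_comp, ← Spec.map_comp, ← CommRingCat.ofHom_comp, ← CommRingCat.ofHom_comp,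
      e.comm]
  -- the base change to `Spec A`
  have hA : AlgSp.IsAlgSpace ((AlgSp.yon S).obj sq.ptA) := AlgSp.IsAlgSpace.yon_obj _
  have hK : AlgSp.IsAlgSpace ((AlgSp.yon S).obj sq.ptK) := AlgSp.IsAlgSpace.yon_obj _
  have hXA : AlgSp.IsAlgSpace (pullback f.hom sq.bot) :=
    Groth.Agent.S9874.isAlgSpace_of_isPullback Y.property.diag X.property hA
      (IsPullback.of_hasPullback _ _)
  let XA : AlgSp.Space S := ⟨pullback f.hom sq.bot, hXA⟩
  let SA : AlgSp.Space S := ⟨(AlgSp.yon S).obj sq.ptA, hA⟩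
  let SK : AlgSp.Space S := ⟨(AlgSp.yon S).obj sq.ptK, hK⟩
  let π₂ : XA ⟶ SA := ObjectProperty.homMk (pullback.snd f.hom sq.bot)
  let xK : SK ⟶ XA := ObjectProperty.homMk (pullback.lift sq.top ((AlgSp.yon S).map sq.j) sq.comm)
  have hxK1 : xK.hom ≫ pullback.fst f.hom sq.bot = sq.top := pullback.lift_fst _ _ _
  have hxK2 : xK.hom ≫ pullback.snd f.hom sq.bot = (AlgSp.yon S).map sq.j := pullback.lift_snd _ _ _
  let l'A : (AlgSp.yon S).obj e.ptA' ⟶ XA.obj := pullback.lift l' ((AlgSp.yon S).map mφ) hl'2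
  have hl'A1 : l'A ≫ pullback.fst f.hom sq.bot = l' := pullback.lift_fst _ _ _
  have hl'A2 : l'A ≫ pullback.snd f.hom sq.bot = (AlgSp.yon S).map mφ := pullback.lift_snd _ _ _
  have hπ₂sep : AlgSp.IsSeparatedMor π₂.hom :=
    isSeparatedMor_baseChange (IsPullback.of_hasPullback f.hom sq.bot) hf
  have hπ₂qs : AlgSp.IsQuasiSeparatedMor π₂.hom :=
    Groth.Agent.Lib.Helper12.OpenSub.repWith_mono
      (fun _ _ g hg => by haveI : IsClosedImmersion g := hg; infer_instance) hπ₂sep
  let jS : SK ⟶ SA := ObjectProperty.homMk ((AlgSp.yon S).map sq.j)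
  have hjqc : AlgSp.IsQuasiCompactMor jS.hom :=
    (Groth.Agent.S9912.result jS (AlgSp.representable_yon_map sq.j)).1
      ((AlgSp.repWith_yon_map_iff @QuasiCompact sq.j).2 (by
        change QuasiCompact (Spec.map _)
        infer_instance))
  have hxKπ : xK ≫ π₂ = jS := ObjectProperty.hom_ext _ hxK2
  have hxKqc : AlgSp.IsQuasiCompactMor xK.hom :=
    Groth.Agent.S9919.result xK π₂ (by rw [hxKπ]; exact hjqc) hπ₂qs
  -- the scheme theoretic image of the generic point
  obtain ⟨Z, iZ, hZ⟩ := Groth.Agent.S9964.result xK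
  obtain ⟨x', hx'⟩ := hZ.2.1
  haveI hiZm : Mono iZ.hom := SchImage.mono_of_closed _ hZ.1
  -- the lift factors through it
  have hk₀ : ((AlgSp.yon S).map mψ ≫ x') ≫ iZ.hom = (AlgSp.yon S).map genE ≫ l'A := by
    rw [Category.assoc, hx']
    apply pullback.hom_ext
    · rw [Category.assoc, hxK1, Category.assoc, hl'A1, hl'1]
    · rw [Category.assoc, hxK2, Category.assoc, hl'A2, ← Functor.map_comp, ← Functor.map_comp,
        hcommO]
  obtain ⟨σ, hσ⟩ := ValLift.exists_section_of_closed e.ptA'.hom e.ptK'.hom genE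
    (CommRingCat.ofHom (algebraMap e.A' e.K')) (IsFractionRing.injective e.A' e.K') rfl
    (pullback.snd iZ.hom l'A)
    (MorphismProperty.of_isPullback (P := AlgSp.RepWith @IsClosedImmersion)
      (IsPullback.of_hasPullback iZ.hom l'A) hZ.1)
    (pullback.lift _ _ hk₀) (pullback.lift_snd _ _ _)
  let mZ : (AlgSp.yon S).obj e.ptA' ⟶ Z.obj := σ ≫ pullback.fst iZ.hom l'A
  have hmZ : mZ ≫ iZ.hom = l'A := by
    rw [Category.assoc, pullback.condition, ← Category.assoc, hσ]
    exact Category.id_comp _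
  have hmZx : (AlgSp.yon S).map mψ ≫ x' = (AlgSp.yon S).map genE ≫ mZ := by
    rw [← cancel_mono iZ.hom, hk₀, Category.assoc, hmZ]
  -- a quasi-compact open neighbourhood of the image
  haveI : CompactSpace ↥e.ptA'.left :=
    inferInstanceAs (CompactSpace ↥(Spec (CommRingCat.of e.A')))
  have hC₀ : IsCompact (Set.range (AlgSp.Points.ofPt mZ)) :=
    isCompact_range (AlgSp.Points.continuous_ofPt mZ)
  obtain ⟨O, hO, hCO, hOqc⟩ := ValLift.exists_qc_open Z.property _ hC₀
  have hZo : AlgSp.IsAlgSpace (OpenSub.obj Z.obj O) := OpenSub.isAlgSpace_obj Z.property hO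
  let Zo : AlgSp.Space S := ⟨OpenSub.obj Z.obj O, hZo⟩
  let ι : Zo ⟶ Z := ObjectProperty.homMk (OpenSub.incl Z.obj O)
  obtain ⟨mo, hmo⟩ := (OpenSub.factor_iff O mZ).2 (fun t => hCO ⟨t, rfl⟩)
  have hx'O : ∀ t : ↥sq.ptK.left, AlgSp.Points.ofPt x' t ∈ O := by
    intro t
    obtain ⟨t', ht'⟩ : ∃ t' : ↥e.ptK'.left, mψ.left t' = t :=
      ⟨IsLocalRing.closedPoint e.K', Subsingleton.elim (α := PrimeSpectrum sq.K) _ _⟩
    rw [← ht', ← Groth.Agent.S10509.ofPt_yon_map_comp, hmZx,
      Groth.Agent.S10509.ofPt_yon_map_comp]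
    exact hCO ⟨_, rfl⟩
  obtain ⟨xo, hxo⟩ := (OpenSub.factor_iff O x').2 hx'O
  -- scheme theoretic density of the generic point in `Z` and in `Zo`
  let x'S : SK ⟶ Z := ObjectProperty.homMk x'
  have hx'S : x'S ≫ iZ = xK := ObjectProperty.hom_ext _ hx'
  have hIZ : AlgSp.IsSchImage x' (𝟙 Z.obj) :=
    Groth.Agent.S9971.isSchImage_id xK iZ hZ x'S hx'
  have hιo : AlgSp.RepWith @IsOpenImmersion ι.hom := OpenSub.repWith_incl hO
  have hιe : AlgSp.IsEtaleMor ι.hom := fun U φ hφ =>
    MorphismProperty.comp_mem _ _ _ hφ (OpenSub.repWith_mono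
      (fun _ _ g hg => by haveI : IsOpenImmersion g := hg; infer_instance) hιo)
  have hιf : AlgSp.LocP @Flat ι.hom := (Groth.Agent.S10265.result ι hιe).2.2.1
  have hiZqs : AlgSp.IsQuasiSeparatedMor iZ.hom :=
    OpenSub.repWith_mono (fun _ _ g hg => by haveI : IsClosedImmersion g := hg; infer_instance)
      (isSeparatedMor_of_mono iZ.hom)
  have hx'qc : AlgSp.IsQuasiCompactMor x' :=
    Groth.Agent.S9919.result x'S iZ (by rw [hx'S]; exact hxKqc) hiZqs
  haveI : Mono (OpenSub.incl Z.obj O) := inferInstance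
  have sqV : IsPullback (𝟙 ((AlgSp.yon S).obj sq.ptK)) xo x' (OpenSub.incl Z.obj O) := by
    have := ValLift.isPullback_id_of_mono (OpenSub.incl Z.obj O) xo
    rwa [hxo] at this
  have hIZo : AlgSp.IsSchImage xo (𝟙 Zo.obj) :=
    SchImage.isSchImage_base_change Z.property hZo hK (OpenSub.incl Z.obj O) hιf x' hx'qc
      (𝟙 _) hIZ (𝟙 _) xo sqV (OpenSub.incl Z.obj O) (𝟙 _) IsPullback.of_id_snd
  -- reducedness
  have hredK : AlgSp.IsReducedSp SK.obj :=
    ⟨sq.ptK, 𝟙 _, AlgSp.repWith_id _ _, AlgSp.repWith_id _ _,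
      (inferInstance : IsReduced (Spec (CommRingCat.of sq.K)))⟩
  obtain ⟨-, hrange, hZred⟩ := Groth.Agent.S9966.result xK iZ hredK hZ
  have hZored : AlgSp.IsReducedSp Zo.obj :=
    Groth.Agent.Lib.Helper12.Reduced.isReducedSp_of_smooth hZo ι.hom
      (Groth.Agent.S10265.result ι hιe).2.1 hZred
  -- density on points
  have himm : AlgSp.RepWith @IsImmersion iZ.hom :=
    OpenSub.repWith_mono (fun _ _ g hg => by haveI : IsClosedImmersion g := hg; infer_instance)
      hZ.1
  have hemb := (Groth.Agent.S10191.result iZ himm).1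
  have hdense : Dense (Set.range (AlgSp.Points.map x')) := by
    rw [dense_iff_closure_eq, hemb.isInducing.closure_eq_preimage_closure_image, ← Set.range_comp]
    have e : AlgSp.Points.map iZ.hom ∘ AlgSp.Points.map x' = AlgSp.Points.map xK.hom := by
      funext x
      rw [Function.comp, ← AlgSp.Points.map_comp, hx']
    rw [e, ← hrange, Set.preimage_range]
  have hdenseo : Dense (AlgSp.Points.map ι.hom ⁻¹' Set.range (AlgSp.Points.map x')) :=
    hdense.preimage (OpenSub.isOpenMap_map_of_open ι.hom hιo)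
  -- the morphism to `Spec A`
  let go : Zo.obj ⟶ (AlgSp.yon S).obj sq.ptA :=
    OpenSub.incl Z.obj O ≫ iZ.hom ≫ pullback.snd f.hom sq.bot
  have hxogo : xo ≫ go = (AlgSp.yon S).map sq.j := by
    change xo ≫ OpenSub.incl Z.obj O ≫ iZ.hom ≫ pullback.snd f.hom sq.bot = _
    rw [← Category.assoc, hxo, ← Category.assoc, hx', hxK2]
  have hgen : ∀ t : ↥sq.ptK.left, ((sq.j.left t : PrimeSpectrum sq.A)).asIdeal = ⊥ := by
    intro t
    have ht : (t : PrimeSpectrum sq.K).asIdeal = ⊥ :=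
      Ideal.eq_bot_of_prime _
    change Ideal.comap (algebraMap sq.A sq.K) (t : PrimeSpectrum sq.K).asIdeal = ⊥
    rw [ht]
    exact (RingHom.injective_iff_ker_eq_bot _).1 (IsFractionRing.injective sq.A sq.K)
  have hgoflat : AlgSp.LocP @Flat go := by
    refine ValLift.locP_flat_of_dense sq.str go hZored _ hdenseo ?_
    rintro z ⟨k, hk⟩
    have h1 : AlgSp.Points.map go z = AlgSp.Points.map ((AlgSp.yon S).map sq.j) k := by
      change AlgSp.Points.map (OpenSub.incl Z.obj O ≫ iZ.hom ≫ pullback.snd f.hom sq.bot) z = _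
      rw [AlgSp.Points.map_comp]
      change AlgSp.Points.map (iZ.hom ≫ pullback.snd f.hom sq.bot) (AlgSp.Points.map ι.hom z) = _
      rw [← hk, ← AlgSp.Points.map_comp, ← Category.assoc, hx', hxK2]
    obtain ⟨t, rfl⟩ : ∃ t, AlgSp.Points.ofScheme sq.ptK t = k :=
      ⟨AlgSp.Points.toScheme _ k, AlgSp.Points.ofScheme_toScheme _ k⟩
    rw [h1, AlgSp.Points.map_ofPt, Category.id_comp, AlgSp.Points.toScheme_ofPt]
    exact hgen t
  -- the generic point of `Spec A`
  haveI hjpre : IsPreimmersion (Spec.map (CommRingCat.ofHom (algebraMap sq.A sq.K))) :=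
    IsPreimmersion.of_isLocalization (nonZeroDivisors sq.A)
  haveI hjm₀ : Mono sq.j := Over.mono_of_mono_left (k := sq.j)
    (hk := (inferInstance : Mono (Spec.map (CommRingCat.ofHom (algebraMap sq.A sq.K)))))
  haveI : (AlgSp.yon S).PreservesMonomorphisms :=
    preservesMonomorphisms_of_preservesLimitsOfShape _
  haveI hjmono : Mono ((AlgSp.yon S).map sq.j) := (AlgSp.yon S).map_mono _
  have hjfl₀ : Flat sq.j.left := by
    change Flat (Spec.map (CommRingCat.ofHom (algebraMap sq.A sq.K)))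
    rw [HasRingHomProperty.Spec_iff (P := @Flat)]
    change (algebraMap sq.A sq.K).Flat
    rw [RingHom.flat_algebraMap_iff]
    exact IsLocalization.flat sq.K (nonZeroDivisors sq.A)
  have hjflat : AlgSp.LocP @Flat ((AlgSp.yon S).map sq.j) :=
    Groth.Agent.S9947.result @Flat (Or.inr (Or.inr (Or.inl rfl))) jS (𝟙 _) (𝟙 _) sq.j
      (AlgSp.repWith_id _ _) (AlgSp.repWith_id _ _) (AlgSp.repWith_id _ _)
      (by rw [Category.id_comp, Category.comp_id]; rfl) hjfl₀
  have hjI : AlgSp.IsSchImage ((AlgSp.yon S).map sq.j) (𝟙 ((AlgSp.yon S).obj sq.ptA)) :=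
    ValLift.isSchImage_id_of_injective sq.ptA.hom sq.ptK.hom sq.j
      (CommRingCat.ofHom (algebraMap sq.A sq.K)) (IsFractionRing.injective sq.A sq.K) rfl
  -- separatedness
  have hgosep : AlgSp.IsSeparatedMor go :=
    isSeparatedMor_comp _ _ (isSeparatedMor_of_mono _)
      (isSeparatedMor_comp _ _ (isSeparatedMor_of_mono _) hπ₂sep)
  -- surjectivity
  have hmogo : mo ≫ go = (AlgSp.yon S).map mφ := by
    change mo ≫ OpenSub.incl Z.obj O ≫ iZ.hom ≫ pullback.snd f.hom sq.bot = _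
    rw [← Category.assoc, hmo, ← Category.assoc, hmZ, hl'A2]
  have hφinj : Function.Injective e.φ := by
    intro a b hab
    apply IsFractionRing.injective sq.A sq.K
    apply e.ψ.injective
    have h1 := RingHom.congr_fun e.comm a
    have h2 := RingHom.congr_fun e.comm b
    simp only [RingHom.comp_apply] at h1 h2
    rw [← h1, ← h2, hab]
  haveI := e.isLocalHom
  have hφsurj : Function.Surjective (PrimeSpectrum.comap e.φ) :=
    ValLift.comap_surjective_of_local e.φ hφinj
  have hgosurj : AlgSp.IsSurjectiveMor go := by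
    intro y
    obtain ⟨t, rfl⟩ : ∃ t, AlgSp.Points.ofScheme sq.ptA t = y :=
      ⟨AlgSp.Points.toScheme _ y, AlgSp.Points.ofScheme_toScheme _ y⟩
    obtain ⟨t', ht'⟩ : ∃ t' : ↥e.ptA'.left, mφ.left t' = t := hφsurj t
    refine ⟨AlgSp.Points.ofPt mo t', ?_⟩
    rw [AlgSp.Points.map_ofPt, hmogo, ← ht']
    have := Groth.Agent.S10509.ofPt_yon_map_comp mφ (𝟙 _) t'
    rwa [Category.comp_id] at this
  haveI : IsAffine sq.ptA.left := inferInstanceAs (IsAffine (Spec (CommRingCat.of sq.A)))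
  haveI hgoiso : IsIso go :=
    ValLift.isIso_of_dense_section sq.j go xo hxogo hjflat hjqc hjI hgosep hOqc hgoflat hgosurj hIZo
  refine ⟨inv go ≫ OpenSub.incl Z.obj O ≫ iZ.hom ≫ pullback.fst f.hom sq.bot, ?_, ?_⟩
  · rw [← hxogo, Category.assoc, IsIso.hom_inv_id_assoc, ← Category.assoc, hxo, ← Category.assoc,
      hx', hxK1]
  · rw [Category.assoc, Category.assoc, Category.assoc, pullback.condition]
    change inv go ≫ (go ≫ sq.bot) = sq.bot
    rw [IsIso.inv_hom_id_assoc]

end Groth.Agent.S10284
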