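import Groth.Statements.S9979
import Mathlib
import Groth.Agent.Lib.Helper1SchImageBC
import Groth.Agent.Lib.Helper1ValImage
import Groth.Agent.S10509
import Groth.Agent.S10177

set_option autoImplicit false
universe u
open CategoryTheory CategoryTheory.Limits AlgebraicGeometry
open AlgSp

namespace Groth.Agent.S9979

open Groth.Agent.Lib.Helper1

/-- Every point of the scheme theoretic image of a quasi-compact morphism is reached by a valuation ring
whose generic point lifts to the source. -/
theorem result {S : Scheme.{u}} {X Y Z : AlgSp.Space S} (f : X ⟶ Y) (i : Z ⟶ Y)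
    (hq : AlgSp.IsQuasiCompactMor f.hom) (hZ : AlgSp.IsSchImage f.hom i.hom) (z : AlgSp.Points Z.obj) :
    ∃ (A : Type u) (_ : CommRing A) (_ : IsDomain A) (_ : ValuationRing A) (str : Spec (CommRingCat.of A) ⟶ S)
      (a : (AlgSp.yon S).obj (Over.mk str) ⟶ Z.obj)
      (x : (AlgSp.yon S).obj (Over.mk (Spec.map (CommRingCat.ofHom (algebraMap A (FractionRing A))) ≫ str)) ⟶ X.obj),
      AlgSp.Points.ofPt a (IsLocalRing.closedPoint A) = z ∧
      x ≫ f.hom = (AlgSp.yon S).map (Over.homMk (Spec.map (CommRingCat.ofHom (algebraMap A (FractionRing A)))) rfl) ≫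
        a ≫ i.hom := by
  obtain ⟨U, c, W, a₀, w, C, v, pr, hce, hcs, hae, has, hw, hwqc, sq, hvcl, hker⟩ :=
    SchImage.exists_chart_data Y.property X.property f.hom hq i.hom hZ
  haveI := hwqc
  haveI := hvcl
  have hprs : AlgSp.RepWith @Surjective pr :=
    MorphismProperty.of_isPullback (P := AlgSp.RepWith @Surjective) sq.flip hcs
  obtain ⟨t, rfl⟩ := Groth.Agent.S10177.surjective_ofPt pr hprs z
  obtain ⟨w', hw'⟩ := SchImage.exists_lift_of_ker_le w v (le_of_eq hker)
  have h1 : v.left t ∈ w.left.ker.support := by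
    rw [← hker]
    exact v.left.range_subset_ker_support ⟨t, rfl⟩
  obtain ⟨x', hx'⟩ := ValImage.exists_specializes_of_mem_support_ker w.left (v.left t) h1
  have hx'' : w'.left x' ⤳ t := by
    have e : w.left x' = v.left (w'.left x') := by
      rw [← hw']
      rfl
    rw [e] at hx'
    exact (v.left.isEmbedding.isInducing.specializes_iff).mp hx'
  obtain ⟨A, l, hl, hcomm⟩ := ValImage.exists_valuationSubring_of_specializes w'.left x' t hx''
  let e : FractionRing A ≃ₐ[A] W.left.residueField x' :=
    FractionRing.algEquiv A (W.left.residueField x')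
  let ξ : Spec (CommRingCat.of (FractionRing A)) ⟶ W.left :=
    Spec.map (CommRingCat.ofHom (e.symm : W.left.residueField x' →+* FractionRing A)) ≫
      W.left.fromSpecResidueField x'
  have hξ : ξ ≫ w'.left =
      Spec.map (CommRingCat.ofHom (algebraMap A (FractionRing A))) ≫ l := by
    have e1 : CommRingCat.ofHom (algebraMap A (W.left.residueField x')) ≫
        CommRingCat.ofHom (e.symm : W.left.residueField x' →+* FractionRing A) =
        CommRingCat.ofHom (algebraMap A (FractionRing A)) := by
      ext r
      exact e.symm.commutes r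
    rw [Category.assoc, hcomm, ← Category.assoc, ← Spec.map_comp, e1]
  let lO : Over.mk (l ≫ C.hom) ⟶ C := Over.homMk l rfl
  have hξO : ξ ≫ W.hom =
      Spec.map (CommRingCat.ofHom (algebraMap A (FractionRing A))) ≫ l ≫ C.hom := by
    rw [← Over.w w', ← Category.assoc, hξ, Category.assoc]
  let ξO : Over.mk (Spec.map (CommRingCat.ofHom (algebraMap A (FractionRing A))) ≫ l ≫ C.hom) ⟶ W :=
    Over.homMk ξ hξO
  refine ⟨A, inferInstance, inferInstance, inferInstance, l ≫ C.hom, (AlgSp.yon S).map lO ≫ pr,
    (AlgSp.yon S).map ξO ≫ a₀ ≫ pullback.fst f.hom c, ?_, ?_⟩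
  · rw [Groth.Agent.S10509.ofPt_yon_map_comp]
    exact congrArg _ hl
  · have hO : ξO ≫ w' = (Over.homMk (Spec.map (CommRingCat.ofHom (algebraMap A (FractionRing A))))
        rfl : Over.mk (Spec.map (CommRingCat.ofHom (algebraMap A (FractionRing A))) ≫ l ≫ C.hom) ⟶
          Over.mk (l ≫ C.hom)) ≫ lO := by
      ext
      exact hξ
    rw [Category.assoc, Category.assoc, pullback.condition, ← Category.assoc a₀, ← hw, ← hw',
      Functor.map_comp, Category.assoc, Category.assoc, ← sq.w]
    have h2 := congrArg (fun m => (AlgSp.yon S).map m ≫ pr ≫ i.hom) hO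
    simp only [Functor.map_comp, Category.assoc] at h2
    exact h2
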