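import Groth.Statements.S10289
import Mathlib
import Groth.Agent.S9979
import Groth.Agent.S9964
import Groth.Agent.S9919
import Groth.Agent.S9912
import Groth.Agent.S9874
import Groth.Agent.Lib.Helper12Proper

set_option autoImplicit false
universe u
open CategoryTheory CategoryTheory.Limits AlgebraicGeometry
open AlgSp

namespace Groth.Agent.S10289

open Groth.Agent.Lib.Helper12.Proper

variable {S : Scheme.{u}}

/-- a closed set of points of the spectrum of a local ring over `S` that is nonempty contains the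
closed point. -/
lemma closedPoint_mem_of_isClosed {A : Type u} [CommRing A] [IsLocalRing A]
    (str : Spec (CommRingCat.of A) ⟶ S) (T : Set (AlgSp.Points ((AlgSp.yon S).obj (Over.mk str))))
    (hT : IsClosed T) (hne : T.Nonempty) :
    AlgSp.Points.ofScheme (Over.mk str) (IsLocalRing.closedPoint A) ∈ T := by
  obtain ⟨p, hp⟩ := hne
  obtain ⟨t, rfl⟩ := (AlgSp.Points.schemeEquiv (Over.mk str)).surjective p
  have hcl : IsClosed (AlgSp.Points.ofScheme (Over.mk str) ⁻¹' T) :=
    hT.preimage (AlgSp.Points.continuous_ofPt _)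
  have hs : (t : PrimeSpectrum A) ⤳ IsLocalRing.closedPoint A :=
    IsLocalRing.specializes_closedPoint _
  exact hs.mem_closed hcl hp

/-- A quasi-separated universally closed morphism of algebraic spaces meets the existence half of the
valuative criterion. -/
theorem result {S : Scheme.{u}} {X Y : AlgSp.Space S} (f : X ⟶ Y)
    (hqs : AlgSp.IsQuasiSeparatedMor f.hom) (hc : AlgSp.IsUnivClosedMor f.hom) : AlgSp.ExistVC f.hom := by
  intro sq
  -- the base change to `Spec A`
  have hA : AlgSp.IsAlgSpace ((AlgSp.yon S).obj sq.ptA) := AlgSp.IsAlgSpace.yon_obj _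
  have hK : AlgSp.IsAlgSpace ((AlgSp.yon S).obj sq.ptK) := AlgSp.IsAlgSpace.yon_obj _
  have hXA : AlgSp.IsAlgSpace (pullback f.hom sq.bot) :=
    Groth.Agent.S9874.isAlgSpace_of_isPullback Y.property.diag X.property hA
      (IsPullback.of_hasPullback _ _)
  let XA : AlgSp.Space S := ⟨pullback f.hom sq.bot, hXA⟩
  let SA : AlgSp.Space S := ⟨(AlgSp.yon S).obj sq.ptA, hA⟩
  let SK : AlgSp.Space S := ⟨(AlgSp.yon S).obj sq.ptK, hK⟩
  let π₂ : XA ⟶ SA := ObjectProperty.homMk (pullback.snd f.hom sq.bot)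
  let xK : SK ⟶ XA := ObjectProperty.homMk (pullback.lift sq.top ((AlgSp.yon S).map sq.j) sq.comm)
  have hxK1 : xK.hom ≫ pullback.fst f.hom sq.bot = sq.top := pullback.lift_fst _ _ _
  have hxK2 : xK.hom ≫ pullback.snd f.hom sq.bot = (AlgSp.yon S).map sq.j := pullback.lift_snd _ _ _
  have hπ₂qs : AlgSp.IsQuasiSeparatedMor π₂.hom :=
    (AlgSp.RepWith @QuasiCompact).diagonal.of_isPullback (IsPullback.of_hasPullback f.hom sq.bot) hqs
  have hπ₂cl : IsClosedMap (AlgSp.Points.map (pullback.snd f.hom sq.bot)) :=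
    hc hA sq.bot _ _ (IsPullback.of_hasPullback f.hom sq.bot)
  -- `xK` is quasi-compact
  let jS : SK ⟶ SA := ObjectProperty.homMk ((AlgSp.yon S).map sq.j)
  have hjqc : AlgSp.IsQuasiCompactMor jS.hom :=
    (Groth.Agent.S9912.result jS (AlgSp.representable_yon_map sq.j)).1
      ((AlgSp.repWith_yon_map_iff @QuasiCompact sq.j).2 (by
        change QuasiCompact (Spec.map _)
        infer_instance))
  have hxKπ : xK ≫ π₂ = jS := ObjectProperty.hom_ext _ hxK2
  have hxKqc : AlgSp.IsQuasiCompactMor xK.hom :=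
    Groth.Agent.S9919.result xK π₂ (by rw [hxKπ]; exact hjqc) hπ₂qs
  -- the scheme theoretic image
  obtain ⟨Z, iZ, hZ⟩ := Groth.Agent.S9964.result xK
  obtain ⟨x', hx'⟩ := hZ.2.1
  have hiZcl : IsClosedMap (AlgSp.Points.map iZ.hom) :=
    isClosedMap_of_repWith_isClosedImmersion iZ.hom hZ.1
  have hcl : IsClosed (Set.range (AlgSp.Points.map (iZ.hom ≫ pullback.snd f.hom sq.bot))) := by
    have e : AlgSp.Points.map (iZ.hom ≫ pullback.snd f.hom sq.bot) =
        AlgSp.Points.map (pullback.snd f.hom sq.bot) ∘ AlgSp.Points.map iZ.hom := by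
      funext t
      exact AlgSp.Points.map_comp _ _ _
    rw [e]
    exact (hπ₂cl.comp hiZcl).isClosed_range
  obtain ⟨z, hz⟩ := closedPoint_mem_of_isClosed sq.str _ hcl
    ⟨_, ⟨AlgSp.Points.ofPt x' (IsLocalRing.closedPoint sq.K), rfl⟩⟩
  -- the valuation ring
  obtain ⟨A', iCR, iDom, iVal, str', a, x, hza, hxa⟩ := Groth.Agent.S9979.result xK iZ hxKqc hZ z
  obtain ⟨mA, hmA⟩ := (AlgSp.yon S).map_surjective (a ≫ iZ.hom ≫ pullback.snd f.hom sq.bot)
  obtain ⟨mK, hmK⟩ := (AlgSp.yon S).map_surjective x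
  let φ : sq.A →+* A' := (Spec.preimage mA.left).hom
  have hφ : Spec.map (CommRingCat.ofHom φ) = mA.left := by
    rw [CommRingCat.ofHom_hom, Spec.map_preimage]
  let ψ : sq.K →+* FractionRing A' := (Spec.preimage mK.left).hom
  have hψ : Spec.map (CommRingCat.ofHom ψ) = mK.left := by
    rw [CommRingCat.ofHom_hom, Spec.map_preimage]
  -- compatibility
  have hcommO : mK ≫ sq.j = (Over.homMk (Spec.map (CommRingCat.ofHom (algebraMap A' (FractionRing A')))) rfl :
      Over.mk (Spec.map (CommRingCat.ofHom (algebraMap A' (FractionRing A'))) ≫ str') ⟶ Over.mk str') ≫ mA := by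
    apply (AlgSp.yon S).map_injective
    rw [Functor.map_comp, Functor.map_comp, hmK, hmA, ← hxK2, ← Category.assoc, hxa]
    simp only [Category.assoc]
  have hcommL : mK.left ≫ Spec.map (CommRingCat.ofHom (algebraMap sq.A sq.K)) =
      Spec.map (CommRingCat.ofHom (algebraMap A' (FractionRing A'))) ≫ mA.left :=
    congrArg (fun m => m.left) hcommO
  have hcomm : (algebraMap A' (FractionRing A')).comp φ = ψ.comp (algebraMap sq.A sq.K) := by
    rw [← hφ, ← hψ, ← Spec.map_comp, ← Spec.map_comp, Spec.map_inj] at hcommL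
    exact (congrArg (fun m => m.hom) hcommL).symm
  -- locality
  have hcp : mA.left (IsLocalRing.closedPoint A') = IsLocalRing.closedPoint sq.A := by
    have h1 := congrArg (AlgSp.Points.toScheme sq.ptA) hz
    rw [AlgSp.Points.toScheme_ofScheme, ← hza, AlgSp.Points.map_ofPt, ← hmA,
      AlgSp.Points.toScheme_ofPt] at h1
    exact h1
  have hloc : IsLocalHom φ := by
    rw [IsLocalRing.isLocalHom_iff_comap_closedPoint]
    rw [← hφ] at hcp
    exact hcp
  let e : sq.DomExt :=
    { A' := A', K' := FractionRing A', φ := φ, ψ := ψ, comm := hcomm, isLocalHom := hloc }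
  refine ⟨e, ?_⟩
  have hstr : Spec.map (CommRingCat.ofHom φ) ≫ sq.str = str' := by
    rw [hφ]
    exact Over.w mA
  let ιA : e.ptA' ⟶ Over.mk str' := Over.homMk (𝟙 _) (by
    change 𝟙 _ ≫ str' = Spec.map (CommRingCat.ofHom φ) ≫ sq.str
    rw [Category.id_comp, hstr])
  let ιK : e.ptK' ⟶ Over.mk (Spec.map (CommRingCat.ofHom (algebraMap A' (FractionRing A'))) ≫ str') :=
    Over.homMk (𝟙 _) (by
      change 𝟙 _ ≫ Spec.map _ ≫ str' = Spec.map _ ≫ Spec.map (CommRingCat.ofHom φ) ≫ sq.str
      rw [Category.id_comp, hstr])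
  refine ⟨(AlgSp.yon S).map ιA ≫ a ≫ iZ.hom ≫ pullback.fst f.hom sq.bot, ?_, ?_⟩
  · have e1 : (Over.homMk (Spec.map (CommRingCat.ofHom (algebraMap e.A' e.K'))) rfl : e.ptK' ⟶ e.ptA') ≫ ιA =
        ιK ≫ (Over.homMk (Spec.map (CommRingCat.ofHom (algebraMap A' (FractionRing A')))) rfl :
          Over.mk (Spec.map (CommRingCat.ofHom (algebraMap A' (FractionRing A'))) ≫ str') ⟶ Over.mk str') := by
      ext
      change Spec.map _ ≫ 𝟙 _ = 𝟙 _ ≫ Spec.map _
      rw [Category.comp_id, Category.id_comp]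
    have e2 : ιK ≫ mK = (Over.homMk (Spec.map (CommRingCat.ofHom e.ψ)) (by
          change Spec.map _ ≫ Spec.map _ ≫ _ = Spec.map _ ≫ Spec.map _ ≫ _
          rw [← Spec.map_comp_assoc, ← Spec.map_comp_assoc, ← CommRingCat.ofHom_comp,
            ← CommRingCat.ofHom_comp, e.comm]) : e.ptK' ⟶ sq.ptK) := by
      ext
      change 𝟙 _ ≫ mK.left = Spec.map (CommRingCat.ofHom ψ)
      rw [Category.id_comp, hψ]
    have k1 := congrArg (fun m => (AlgSp.yon S).map m ≫ a ≫ iZ.hom ≫ pullback.fst f.hom sq.bot) e1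
    simp only [Functor.map_comp, Category.assoc] at k1
    have k2 := congrArg (fun m => (AlgSp.yon S).map ιK ≫ m ≫ pullback.fst f.hom sq.bot) hxa
    simp only [Category.assoc] at k2
    rw [k1, ← k2, hxK1, ← hmK, ← Functor.map_comp_assoc, e2]
  · have e3 : ιA ≫ mA = (Over.homMk (Spec.map (CommRingCat.ofHom e.φ)) rfl : e.ptA' ⟶ sq.ptA) := by
      ext
      change 𝟙 _ ≫ mA.left = Spec.map (CommRingCat.ofHom φ)
      rw [Category.id_comp, hφ]
    have k3 := congrArg (fun m => (AlgSp.yon S).map m ≫ sq.bot) e3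
    simp only [Functor.map_comp, Category.assoc, hmA] at k3
    simp only [Category.assoc]
    rw [pullback.condition]
    exact k3

end Groth.Agent.S10289
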