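import Groth.Statements.S10072
import Mathlib
import Groth.Agent.Lib.T2H1UCSep
import Groth.Agent.Lib.Helper15PtsTop
import Groth.Agent.Lib.Helper15LocEss
import Groth.Agent.S9947
import Groth.Agent.S10180

set_option autoImplicit false
universe u
open CategoryTheory CategoryTheory.Limits AlgebraicGeometry
open AlgSp

namespace Groth.Agent.S10072

/-- Let `f : X ⟶ Y` be quasi-compact, `g : Z ⟶ Y` a morphism of algebraic spaces over `S`, `P = X ×_Y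
Z`, `z ∈ |Z|` and `T ⊂ |P|` closed with `z` not in the image of `T`. Then there are an affine etale
neighbourhood `(V, v) ⟶ (Z, z)`, an affine scheme `Z'` with `b : Z' ⟶ Y` locally of finite
presentation and `a : V ⟶ Z'` over `Y`, and for every fibre product `P' = X ×_Y Z'` a closed `T' ⊂
|P'|` whose image in `|Z'|` misses `a(v)` and which contains the image of the inverse image of `T`
in `|X ×_Y V|`. (The variant with `V` an open neighbourhood when `Z` is a scheme is not included.) -/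
theorem result (S : Scheme.{u}) {X Y Z : AlgSp.Space S} (f : X ⟶ Y) (g : Z ⟶ Y)
    (hf : AlgSp.IsQuasiCompactMor f.hom)
    (P : AlgSp.Sp S) (p₁ : P ⟶ X.obj) (p₂ : P ⟶ Z.obj) (hP : IsPullback p₁ p₂ f.hom g.hom)
    (z : AlgSp.Points Z.obj) (T : Set (AlgSp.Points P)) (hT : IsClosed T) (hz : z ∉ AlgSp.Points.map p₂ '' T) :
    ∃ (V : Over S) (_ : IsAffine V.left) (e : (AlgSp.yon S).obj V ⟶ Z.obj) (_ : AlgSp.RepWith @Etale e) (v : ↥V.left)
      (_ : AlgSp.Points.map e (AlgSp.Points.schemeEquiv V v) = z)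
      (Z' : Over S) (_ : IsAffine Z'.left) (b : (AlgSp.yon S).obj Z' ⟶ Y.obj) (_ : AlgSp.LocP @LocallyOfFinitePresentation b)
      (a : V ⟶ Z') (_ : (AlgSp.yon S).map a ≫ b = e ≫ g.hom),
      ∀ (P' : AlgSp.Sp S) (q₁ : P' ⟶ X.obj) (q₂ : P' ⟶ (AlgSp.yon S).obj Z'), IsPullback q₁ q₂ f.hom b →
        ∃ T' : Set (AlgSp.Points P'), IsClosed T' ∧
          AlgSp.Points.schemeEquiv Z' (a.left v) ∉ AlgSp.Points.map q₂ '' T' ∧
          ∀ (PV : AlgSp.Sp S) (r₁ : PV ⟶ X.obj) (r₂ : PV ⟶ (AlgSp.yon S).obj V), IsPullback r₁ r₂ f.hom (e ≫ g.hom) →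
            ∀ (κ₁ : PV ⟶ P) (κ₂ : PV ⟶ P'), κ₁ ≫ p₁ = r₁ → κ₁ ≫ p₂ = r₂ ≫ e → κ₂ ≫ q₁ = r₁ → κ₂ ≫ q₂ = r₂ ≫ (AlgSp.yon S).map a →
              ∀ w : AlgSp.Points PV, AlgSp.Points.map κ₁ w ∈ T → AlgSp.Points.map κ₂ w ∈ T' := by
  obtain ⟨V₀, p, hpe, hps⟩ := Y.property.atlas
  obtain ⟨W₀, q, hqe, hqs⟩ := Z.property.atlas
  obtain ⟨w₀, rfl⟩ := Groth.Agent.S10177.surjective_ofPt q hqs z
  obtain ⟨W, d, V', h, hW, hV', hde, ⟨v, hv⟩, hcomm⟩ :=
    Groth.Agent.Lib.T2H1.UCSep.exists_refinement_atlas_etale (q ≫ g.hom) p hpe hps w₀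
  haveI : IsAffine W.left := hW
  let V'o : Over S := Over.mk (V'.ι ≫ V₀.hom)
  let ι : V'o ⟶ V₀ := Over.homMk V'.ι rfl
  haveI : IsAffine V'o.left := hV'
  haveI : IsOpenImmersion ι.left := (inferInstance : IsOpenImmersion V'.ι)
  obtain ⟨e, he⟩ : ∃ e : (AlgSp.yon S).obj W ⟶ Z.obj, e = (AlgSp.yon S).map d ≫ q := ⟨_, rfl⟩
  have hee : AlgSp.RepWith @Etale e := by
    rw [he]
    exact MorphismProperty.comp_mem _ _ _ ((AlgSp.repWith_yon_map_iff _ _).2 hde) hqe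
  have hev : AlgSp.Points.map e (AlgSp.Points.schemeEquiv W v) = AlgSp.Points.ofPt q w₀ := by
    change AlgSp.Points.map e (AlgSp.Points.ofScheme W v) = _
    rw [← AlgSp.Points.ofPt_eq_map_ofScheme, he, Groth.Agent.S10176.ofPt_map_comp, hv]
  have heg : e ≫ g.hom = (AlgSp.yon S).map h ≫ (AlgSp.yon S).map ι ≫ p := by
    rw [he, Category.assoc]; exact hcomm
  -- the base change of `f` to `V'`
  have sqX := IsPullback.of_hasPullback f.hom ((AlgSp.yon S).map ι ≫ p)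
  have hX'qc : AlgSp.IsQuasiCompactSp (pullback f.hom ((AlgSp.yon S).map ι ≫ p)) :=
    hf (AlgSp.IsAlgSpace.yon_obj V'o)
      ⟨V'o, 𝟙 _, AlgSp.repWith_id _ V'o, AlgSp.repWith_id _ V'o, inferInstance⟩ _ _ _ sqX
  obtain ⟨U, π, hU, hπe, hπs⟩ := Groth.Agent.S10180.exists_affine_chart hX'qc
  haveI : IsAffine U.left := hU
  -- the base change of `f` to `W`
  have sqV := IsPullback.of_hasPullback f.hom (e ≫ g.hom)
  have hκw : pullback.fst f.hom (e ≫ g.hom) ≫ f.hom =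
      (pullback.snd f.hom (e ≫ g.hom) ≫ e) ≫ g.hom := by
    rw [pullback.condition, Category.assoc]
  have hκ₁ : hP.lift _ _ hκw ≫ p₁ = pullback.fst f.hom (e ≫ g.hom) := hP.lift_fst _ _ _
  have hκ₂ : hP.lift _ _ hκw ≫ p₂ = pullback.snd f.hom (e ≫ g.hom) ≫ e := hP.lift_snd _ _ _
  have haWw : pullback.fst f.hom (e ≫ g.hom) ≫ f.hom =
      (pullback.snd f.hom (e ≫ g.hom) ≫ (AlgSp.yon S).map h) ≫ (AlgSp.yon S).map ι ≫ p := by
    rw [pullback.condition, Category.assoc]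
    exact congrArg (fun m => pullback.snd f.hom (e ≫ g.hom) ≫ m) heg
  have haW₁ : sqX.lift _ _ haWw ≫ pullback.fst f.hom ((AlgSp.yon S).map ι ≫ p) =
      pullback.fst f.hom (e ≫ g.hom) := sqX.lift_fst _ _ _
  have haW₂ : sqX.lift _ _ haWw ≫ pullback.snd f.hom ((AlgSp.yon S).map ι ≫ p) =
      pullback.snd f.hom (e ≫ g.hom) ≫ (AlgSp.yon S).map h := sqX.lift_snd _ _ _
  have sqa : IsPullback (sqX.lift _ _ haWw) (pullback.snd f.hom (e ≫ g.hom))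
      (pullback.snd f.hom ((AlgSp.yon S).map ι ≫ p)) ((AlgSp.yon S).map h) := by
    refine IsPullback.of_right ?_ haW₂ sqX
    rw [haW₁, ← heg]
    exact sqV
  have hCcl : IsClosed (AlgSp.Points.map (hP.lift _ _ hκw) ⁻¹' T) :=
    hT.preimage (AlgSp.Points.continuous_map _)
  have hvC : AlgSp.Points.schemeHomeo W v ∉
      AlgSp.Points.map (pullback.snd f.hom (e ≫ g.hom)) ''
        (AlgSp.Points.map (hP.lift _ _ hκw) ⁻¹' T) := by
    rintro ⟨c, hc, hcv⟩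
    refine hz ⟨AlgSp.Points.map (hP.lift _ _ hκw) c, hc, ?_⟩
    rw [← AlgSp.Points.map_comp, hκ₂, AlgSp.Points.map_comp, hcv]
    exact hev
  obtain ⟨n, s, hs, Hsep⟩ := Groth.Agent.Lib.T2H1.UCSep.exists_separation
    (pullback.snd f.hom ((AlgSp.yon S).map ι ≫ p)) π hπe hπs h _ _ sqa _ hCcl v hvC
  let Z' : Over S := Over.mk ((𝔸(ULift.{u} (Fin n); V'o.left) ↘ V'o.left) ≫ V'o.hom)
  let τ : Z' ⟶ V'o := Over.homMk (𝔸(ULift.{u} (Fin n); V'o.left) ↘ V'o.left) rfl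
  haveI : IsAffine Z'.left := (inferInstance : IsAffine 𝔸(ULift.{u} (Fin n); V'o.left))
  have hb : AlgSp.LocP @LocallyOfFinitePresentation
      ((AlgSp.yon S).map (τ ≫ ι) ≫ p) := by
    refine Groth.Agent.Lib.Helper15PtsTop.locP_lfp_comp (AlgSp.IsAlgSpace.yon_obj V₀) Y.property
      _ p (Groth.Agent.Lib.Helper15LocEss.locP_yon_map_of_lfp (τ ≫ ι) ?_)
      (Groth.Agent.S9947.locP_of_repWith_etale @LocallyOfFinitePresentation
        (fun g hg => by haveI := hg; infer_instance) p hpe)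
    rw [Over.comp_left]
    exact (inferInstance : LocallyOfFinitePresentation
      ((𝔸(ULift.{u} (Fin n); V'o.left) ↘ V'o.left) ≫ V'.ι))
  have hab : (AlgSp.yon S).map s ≫ (AlgSp.yon S).map (τ ≫ ι) ≫ p = e ≫ g.hom := by
    rw [heg, ← hs, Functor.map_comp, Functor.map_comp, Category.assoc, Category.assoc]
  refine ⟨W, hW, e, hee, v, hev, Z', inferInstance, (AlgSp.yon S).map (τ ≫ ι) ≫ p, hb, s, hab, ?_⟩
  intro P' q₁ q₂ hP'
  have ha₁w : q₁ ≫ f.hom = (q₂ ≫ (AlgSp.yon S).map τ) ≫ (AlgSp.yon S).map ι ≫ p := by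
    rw [hP'.w, Functor.map_comp, Category.assoc, Category.assoc]
  have ha₁₁ : sqX.lift _ _ ha₁w ≫ pullback.fst f.hom ((AlgSp.yon S).map ι ≫ p) = q₁ :=
    sqX.lift_fst _ _ _
  have ha₁₂ : sqX.lift _ _ ha₁w ≫ pullback.snd f.hom ((AlgSp.yon S).map ι ≫ p) =
      q₂ ≫ (AlgSp.yon S).map τ := sqX.lift_snd _ _ _
  have sq₁ : IsPullback (sqX.lift _ _ ha₁w) q₂
      (pullback.snd f.hom ((AlgSp.yon S).map ι ≫ p)) ((AlgSp.yon S).map τ) := by
    refine IsPullback.of_right ?_ ha₁₂ sqX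
    rw [ha₁₁, ← Category.assoc, ← Functor.map_comp]
    exact hP'
  obtain ⟨T', hT'c, hT'v, hT'C⟩ := Hsep P' _ q₂ sq₁
  refine ⟨T', hT'c, hT'v, ?_⟩
  intro PV r₁ r₂ sqPV κ₁ κ₂ h1 h2 h3 h4 w hw
  -- the comparison with the chosen fibre product
  have hθ₁ : sqV.lift r₁ r₂ sqPV.w ≫ pullback.fst f.hom (e ≫ g.hom) = r₁ := sqV.lift_fst _ _ _
  have hθ₂ : sqV.lift r₁ r₂ sqPV.w ≫ pullback.snd f.hom (e ≫ g.hom) = r₂ := sqV.lift_snd _ _ _
  have haPw : pullback.fst f.hom (e ≫ g.hom) ≫ f.hom =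
      (pullback.snd f.hom (e ≫ g.hom) ≫ (AlgSp.yon S).map s) ≫ (AlgSp.yon S).map (τ ≫ ι) ≫ p := by
    rw [pullback.condition, Category.assoc, hab]
  have haP₁ : hP'.lift _ _ haPw ≫ q₁ = pullback.fst f.hom (e ≫ g.hom) := hP'.lift_fst _ _ _
  have haP₂ : hP'.lift _ _ haPw ≫ q₂ = pullback.snd f.hom (e ≫ g.hom) ≫ (AlgSp.yon S).map s :=
    hP'.lift_snd _ _ _
  have e1 : κ₁ = sqV.lift r₁ r₂ sqPV.w ≫ hP.lift _ _ hκw := by
    apply hP.hom_ext
    · rw [h1, Category.assoc, hκ₁, hθ₁]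
    · rw [h2, Category.assoc, hκ₂, ← Category.assoc, hθ₂]
  have e2 : κ₂ = sqV.lift r₁ r₂ sqPV.w ≫ hP'.lift _ _ haPw := by
    apply hP'.hom_ext
    · rw [h3, Category.assoc, haP₁, hθ₁]
    · rw [h4, Category.assoc, haP₂, ← Category.assoc, hθ₂]
  rw [e2, AlgSp.Points.map_comp]
  refine hT'C (hP'.lift _ _ haPw) ?_ haP₂ _ ?_
  · apply sqX.hom_ext
    · rw [Category.assoc, ha₁₁, haP₁, haW₁]
    · rw [Category.assoc, ha₁₂, ← Category.assoc, haP₂, Category.assoc, ← Functor.map_comp, hs, haW₂]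
  · rw [Set.mem_preimage, ← AlgSp.Points.map_comp, ← e1]
    exact hw

end Groth.Agent.S10072
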