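import Groth.Statements.S10107
import Groth.Agent.Lib.T2H1QuotKP
import Groth.Agent.Lib.Helper12LocPCases
import Groth.Agent.Lib.Helper12QuotSh
import Groth.Agent.S9884
import Groth.Agent.S9874
import Groth.Agent.S9947
import Groth.Agent.S10177
import Groth.Agent.S10509
import Groth.Agent.S10505
import Groth.Agent.S10530
import Groth.Agent.S10527

set_option autoImplicit false
universe u
open CategoryTheory CategoryTheory.Limits AlgebraicGeometry
open AlgSp

namespace Groth.Agent.S10107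


open Groth.Agent.Lib.Helper12.LocPCases in
/-- the common part: chart data and the fpqc-local argument. -/
theorem main (S : Scheme.{u}) (R U : AlgSp.Sp S)
    (hR : AlgSp.IsAlgSpace R) (hU : AlgSp.IsAlgSpace U) (s t : R ⟶ U) (hj : AlgSp.IsEqvRelSp s t)
    (ht : AlgSp.LocP @Flat t ∧ AlgSp.LocP @LocallyOfFinitePresentation t)
    (hF : AlgSp.IsAlgSpace (AlgSp.quotSp s t)) :
    AlgSp.IsSurjectiveMor (AlgSp.quotSpπ s t) ∧
    ∀ (P : MorphismProperty Scheme.{u}), Good P →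
      AlgSp.IsLocalOnBase (AlgSp.IsFpqcCover (S := S)) (AlgSp.LocP P) →
      AlgSp.LocP P t → AlgSp.LocP P (AlgSp.quotSpπ s t) := by
  classical
  have hkp := Groth.Agent.Lib.T2H1.QuotKP.isPullback_quotSpπ s t hj
  obtain ⟨V, b₀, hbe, hbs⟩ := hF.atlas
  haveI : Epi (AlgSp.quotSpπ s t) := Groth.Agent.Lib.Helper9.SpQuot.epi_quotSpπ s t
  haveI : Sheaf.IsLocallySurjective (AlgSp.quotSpπ s t) :=
    (Sheaf.isLocallySurjective_iff_epi _).mpr inferInstance
  obtain ⟨Rc, hRc, hlift⟩ := Groth.Agent.S9884.exists_fppf_lift (AlgSp.quotSpπ s t) b₀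
  obtain ⟨I, Z, φ, rfl⟩ := Presieve.exists_eq_ofArrows Rc
  let 𝒰 : Scheme.Cover Scheme.fppfPrecoverage V.left := ⟨⟨I, Z, φ⟩, hRc⟩
  have hpt : ∀ v : ↥V.left, ∃ j : I, v ∈ Set.range (φ j) := fun v => by
    obtain ⟨j, y, hy⟩ := 𝒰.exists_eq v
    exact ⟨j, y, hy⟩
  choose jv hjv using hpt
  have hd : ∀ v : ↥V.left, ∃ d : (AlgSp.yon S).obj (Over.mk (φ (jv v) ≫ V.hom)) ⟶ U,
      d ≫ AlgSp.quotSpπ s t =
        (AlgSp.yon S).map (Over.homMk (φ (jv v)) : Over.mk (φ (jv v) ≫ V.hom) ⟶ V) ≫ b₀ :=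
    fun v => hlift (φ (jv v)) ⟨jv v⟩
  choose d hd using hd
  have hφP : ∀ v : ↥V.left, Flat (φ (jv v)) ∧ LocallyOfFinitePresentation (φ (jv v)) :=
    fun v => hRc.2 ⟨jv v⟩
  -- joint surjectivity
  have hsurj : ∀ x : AlgSp.Points (AlgSp.quotSp s t),
      ∃ v : ↥V.left, x ∈ Set.range (AlgSp.Points.map (d v ≫ AlgSp.quotSpπ s t)) := by
    intro x
    obtain ⟨v, rfl⟩ := Groth.Agent.S10177.surjective_ofPt b₀ hbs x
    obtain ⟨y, hy⟩ := hjv v
    refine ⟨v, AlgSp.Points.ofPt (𝟙 _) y, ?_⟩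
    rw [AlgSp.Points.map_ofPt, Category.id_comp, hd v, Groth.Agent.S10509.ofPt_yon_map_comp]
    show AlgSp.Points.ofPt b₀ (φ (jv v) y) = _
    rw [hy]
  refine ⟨?_, ?_⟩
  · intro x
    obtain ⟨v, z, hz⟩ := hsurj x
    refine ⟨AlgSp.Points.map (d v) z, ?_⟩
    rw [← hz, AlgSp.Points.map_comp]
  · intro P hP hloc htP
    haveI := hP.comp
    -- the covering family
    let Xi : ↥V.left → AlgSp.Space S := fun v =>
      ⟨(AlgSp.yon S).obj (Over.mk (φ (jv v) ≫ V.hom)), AlgSp.IsAlgSpace.yon_obj _⟩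
    let X0 : AlgSp.Space S := ⟨AlgSp.quotSp s t, hF⟩
    let gi : ∀ v, Xi v ⟶ X0 := fun v => ⟨d v ≫ AlgSp.quotSpπ s t⟩
    have hfppf : AlgSp.IsFppfCover (fun v => (Xi v).obj) (fun v => (gi v).hom) := by
      refine ⟨fun v => ?_, hsurj⟩
      show AlgSp.LocP @Flat (d v ≫ AlgSp.quotSpπ s t) ∧
        AlgSp.LocP @LocallyOfFinitePresentation (d v ≫ AlgSp.quotSpπ s t)
      rw [hd v]
      refine ⟨?_, ?_⟩
      · exact good_flat.locP_comp (AlgSp.IsAlgSpace.yon_obj V) hF _ _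
          (Groth.Agent.Lib.Helper12.LocPGen.locP_yon_map_of _ good_flat.hEt good_flat.hcancel _
            (hφP v).1)
          (Groth.Agent.S9947.locP_of_repWith_etale _ good_flat.hEt b₀ hbe)
      · exact good_lfp.locP_comp (AlgSp.IsAlgSpace.yon_obj V) hF _ _
          (Groth.Agent.Lib.Helper12.LocPGen.locP_yon_map_of _ good_lfp.hEt good_lfp.hcancel _
            (hφP v).2)
          (Groth.Agent.S9947.locP_of_repWith_etale _ good_lfp.hEt b₀ hbe)
    have hfpqc := Groth.Agent.S10505.result X0 Xi gi hfppf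
    have hXi : ∀ v, AlgSp.IsAlgSpace (pullback t (d v)) := fun v =>
      Groth.Agent.S9874.isAlgSpace_of_isPullback hU.diag hR (AlgSp.IsAlgSpace.yon_obj _)
        (IsPullback.of_hasPullback t (d v))
    refine (hloc (fun v => (Xi v).obj) (fun v => (gi v).hom) hF (fun v => (Xi v).property) hfpqc
      (AlgSp.quotSpπ s t) hU (fun v => pullback t (d v)) (fun v => pullback.snd t (d v))
      (fun v => pullback.fst t (d v) ≫ s) hXi
      (fun v => (IsPullback.of_hasPullback t (d v)).paste_horiz hkp)).2 (fun v => ?_)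
    exact hP.locP_baseChange hR hU (AlgSp.IsAlgSpace.yon_obj _)
      (IsPullback.of_hasPullback t (d v)) htP

/-- Let `F = U/R` be an algebraic space which is the fppf quotient of a groupoid in algebraic spaces
`(U, R, s, t, c)` over `S` with `s, t` flat and locally of finite presentation and `j = (t, s)` an
equivalence relation (equivalently, the composition being determined by it, of an equivalence
relation `s, t : R ⟶ U` of algebraic spaces with these properties). Then `U ⟶ F` is surjective, flat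
and locally of finite presentation. -/
theorem result (S : Scheme.{u}) (R U : AlgSp.Sp S)
    (hR : AlgSp.IsAlgSpace R) (hU : AlgSp.IsAlgSpace U) (s t : R ⟶ U) (hj : AlgSp.IsEqvRelSp s t)
    (hs : AlgSp.LocP @Flat s ∧ AlgSp.LocP @LocallyOfFinitePresentation s)
    (ht : AlgSp.LocP @Flat t ∧ AlgSp.LocP @LocallyOfFinitePresentation t)
    (hF : AlgSp.IsAlgSpace (AlgSp.quotSp s t)) :
    AlgSp.IsSurjectiveMor (AlgSp.quotSpπ s t) ∧ AlgSp.LocP @Flat (AlgSp.quotSpπ s t) ∧
      AlgSp.LocP @LocallyOfFinitePresentation (AlgSp.quotSpπ s t) := by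
  obtain ⟨h1, h2⟩ := main S R U hR hU s t hj ht hF
  exact ⟨h1, h2 _ Groth.Agent.Lib.Helper12.LocPCases.good_flat (Groth.Agent.S10530.result S) ht.1,
    h2 _ Groth.Agent.Lib.Helper12.LocPCases.good_lfp (Groth.Agent.S10527.result S) ht.2⟩

end Groth.Agent.S10107
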