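import Groth.Statements.S10310
import Mathlib
import Groth.Agent.Lib.T2H1HasAt
import Groth.Agent.Lib.Helper3GrpHomQF
import Groth.Agent.Lib.Helper7TopDim

set_option autoImplicit false
universe u
open CategoryTheory CategoryTheory.Limits AlgebraicGeometry
open AlgSp

namespace Groth.Agent.S10310

/-- A morphism locally of finite type is locally quasi-finite if and only if it has relative dimension 0
at every point. -/
theorem result {S : Scheme.{u}} {X Y : AlgSp.Space S} (f : X ⟶ Y)
    (hf : AlgSp.LocP @LocallyOfFiniteType f.hom) :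
    AlgSp.LocP (@LocallyQuasiFinite ⊓ @LocallyOfFiniteType) f.hom ↔
      ∀ x : AlgSp.Points X.obj, AlgSp.HasAtMor (fun _ _ h u => FlatMor.fibreDimAt h u = 0) f.hom x := by
  constructor
  · intro H x
    obtain ⟨U, V, a, b, h, u, ha, hb, hc, hu⟩ :=
      Groth.Agent.Lib.Helper12.LocPNbhd.exists_chart X.property Y.property f.hom x
    have hh := H a b h ha hb hc
    haveI : LocallyOfFiniteType h.left := hh.2
    haveI : LocallyQuasiFinite h.left := hh.1
    refine ⟨U, V, a, b, h, u, ha, hb, hc, hu, le_antisymm ?_ ?_⟩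
    · exact (Groth.Agent.Lib.Helper3.GrpHomQF.locallyQuasiFinite_iff_forall_fibreDimAt_le_zero
        h.left).1 inferInstance u
    · exact Groth.Agent.Lib.Helper7.TopDim.localDim_nonneg _
  · intro H U V a b h ha hb hc
    haveI : LocallyOfFiniteType h.left := hf a b h ha hb hc
    refine ⟨?_, inferInstance⟩
    rw [Groth.Agent.Lib.Helper3.GrpHomQF.locallyQuasiFinite_iff_forall_fibreDimAt_le_zero]
    intro u
    have := Groth.Agent.Lib.T2H1.HasAt.of_hasAtMor
      (Groth.Agent.Lib.T2H1.HasAt.etInv_fibreDim (fun d => d = 0)) f.hom _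
      (H (AlgSp.Points.ofPt a u)) a b h ha hb hc u rfl
    exact le_of_eq this

end Groth.Agent.S10310
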