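import Groth.Statements.S10312
import Groth.Agent.Lib.T2H1ChartBC
import Groth.Agent.Lib.Helper12LocPNbhd
import Groth.Agent.Lib.T2H3EtaleAt
import Groth.Agent.Lib.Helper20FiberSq

set_option autoImplicit false
universe u
open CategoryTheory CategoryTheory.Limits AlgebraicGeometry
open AlgSp

namespace Groth.Agent.S10312


/-- if a composite is locally of finite type (etale locally) then so is its first factor. -/
lemma locP_lft_of_comp {S : Scheme.{u}} {X Y Z : AlgSp.Space S} (f : X ⟶ Y) (g : Y ⟶ Z)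
    (h : AlgSp.LocP @LocallyOfFiniteType (f ≫ g).hom) :
    AlgSp.LocP @LocallyOfFiniteType f.hom := by
  intro U V a b hh ha hb hcomm
  obtain ⟨W, c, hc, hcs⟩ := Z.property.atlas
  obtain ⟨V', π, k', sqV'⟩ := hc.1 (b ≫ g.hom)
  obtain ⟨k, rfl⟩ := (AlgSp.yon S).map_surjective k'
  haveI : Etale π.left := hc.2 _ _ π sqV'
  haveI : Surjective π.left := hcs.2 _ _ π sqV'
  have hsq : IsPullback (pullback.fst hh π).left (pullback.snd hh π).left hh.left π.left :=
    (IsPullback.of_hasPullback hh π).map (Over.forget S)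
  haveI : Etale (pullback.fst hh π).left :=
    MorphismProperty.of_isPullback (P := @Etale) hsq.flip inferInstance
  have hchart : ((AlgSp.yon S).map (pullback.fst hh π) ≫ a) ≫ (f ≫ g).hom =
      (AlgSp.yon S).map (pullback.snd hh π ≫ k) ≫ c := by
    have e1 : (f ≫ g).hom = f.hom ≫ g.hom := rfl
    have e2 : (AlgSp.yon S).map (pullback.fst hh π) ≫ (AlgSp.yon S).map hh =
        (AlgSp.yon S).map (pullback.snd hh π) ≫ (AlgSp.yon S).map π := by
      rw [← Functor.map_comp, ← Functor.map_comp, pullback.condition]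
    rw [e1, Functor.map_comp]
    simp only [Category.assoc]
    rw [reassoc_of% hcomm, reassoc_of% e2, sqV'.w]
  have hP := h ((AlgSp.yon S).map (pullback.fst hh π) ≫ a) c (pullback.snd hh π ≫ k)
    ((AlgSp.RepWith @Etale).comp_mem _ _ ((AlgSp.repWith_yon_map_iff _ _).2 inferInstance) ha)
    hc hchart
  rw [Over.comp_left] at hP
  haveI : LocallyOfFiniteType ((pullback.snd hh π).left ≫ k.left) := hP
  have h1 : LocallyOfFiniteType (pullback.snd hh π).left :=
    locallyOfFiniteType_of_comp (pullback.snd hh π).left k.left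
  have hπQ : (@Surjective ⊓ @Flat ⊓ @LocallyOfFinitePresentation : MorphismProperty Scheme.{u})
      π.left := ⟨⟨inferInstance, inferInstance⟩, inferInstance⟩
  exact MorphismProperty.of_isPullback_of_descendsAlong (P := @LocallyOfFiniteType)
      (Q := @Surjective ⊓ @Flat ⊓ @LocallyOfFinitePresentation) hsq.flip hπQ h1

/-- the unramified locus of a morphism is open. -/
lemma isOpen_unramLocus {S : Scheme.{u}} {X Y : AlgSp.Space S} (f : X ⟶ Y) :
    IsOpen {x : AlgSp.Points X.obj | AlgSp.HasAtMor (fun U _ h u => ∃ W : U.Opens, u ∈ W ∧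
      LocallyOfFiniteType (W.ι ≫ h) ∧ FormallyUnramified (W.ι ≫ h)) f.hom x} := by
  rw [isOpen_iff_forall_mem_open]
  rintro x ⟨U, V, a, b, h, u, ha, hb, hc, hu, W, huW, hW⟩
  refine ⟨AlgSp.Points.ofPt a '' (W : Set ↥U.left), ?_,
    Groth.Agent.S10176.isOpenMap_ofPt a ha _ W.isOpen, ⟨u, huW, hu⟩⟩
  rintro _ ⟨w, hw, rfl⟩
  exact ⟨U, V, a, b, h, w, ha, hb, hc, rfl, W, hw, hW⟩

/-- base change of "unramified near a point" along a pullback square of schemes. -/
lemma unram_near_of_isPullback {U V V' W : Scheme.{u}} {pr : W ⟶ U} {hW : W ⟶ V'} {h : U ⟶ V}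
    {c : V' ⟶ V} (sq : IsPullback pr hW h c) (W₀ : U.Opens)
    (h1 : LocallyOfFiniteType (W₀.ι ≫ h)) (h2 : FormallyUnramified (W₀.ι ≫ h)) :
    LocallyOfFiniteType ((pr ⁻¹ᵁ W₀).ι ≫ hW) ∧ FormallyUnramified ((pr ⁻¹ᵁ W₀).ι ≫ hW) := by
  have sq1 : IsPullback (pr ∣_ W₀) (pr ⁻¹ᵁ W₀).ι W₀.ι pr := isPullback_morphismRestrict pr W₀
  have sq2 : IsPullback (pr ∣_ W₀) ((pr ⁻¹ᵁ W₀).ι ≫ hW) (W₀.ι ≫ h) c := sq1.paste_vert sq
  exact ⟨MorphismProperty.of_isPullback (P := @LocallyOfFiniteType) sq2 h1,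
    MorphismProperty.of_isPullback (P := @FormallyUnramified) sq2 h2⟩

/-- For X -> Y over Z with X -> Z locally of finite type, the locus where X -> Y is unramified is an
open subset of |X| whose formation commutes with base change along any Z' -> Z. -/
theorem result {S : Scheme.{u}} {X Y Z Z' Y' X' : AlgSp.Space S} (f : X ⟶ Y)
    (p : X ⟶ Z) (q : Y ⟶ Z) (comm : f ≫ q = p) (hp : AlgSp.LocP @LocallyOfFiniteType p.hom) (g : Z' ⟶ Z)
    (a : Y' ⟶ Y) (q' : Y' ⟶ Z') (sq1 : IsPullback a.hom q'.hom q.hom g.hom)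
    (b : X' ⟶ X) (f' : X' ⟶ Y') (sq2 : IsPullback b.hom f'.hom f.hom a.hom) :
    IsOpen {x : AlgSp.Points X.obj | AlgSp.HasAtMor (fun U _ h u => ∃ W : U.Opens, u ∈ W ∧ LocallyOfFiniteType (W.ι ≫ h) ∧ FormallyUnramified (W.ι ≫ h)) f.hom x} ∧
    {x' : AlgSp.Points X'.obj | AlgSp.HasAtMor (fun U _ h u => ∃ W : U.Opens, u ∈ W ∧ LocallyOfFiniteType (W.ι ≫ h) ∧ FormallyUnramified (W.ι ≫ h)) f'.hom x'} =
      AlgSp.Points.map b.hom ⁻¹' {x : AlgSp.Points X.obj | AlgSp.HasAtMor (fun U _ h u => ∃ W : U.Opens, u ∈ W ∧ LocallyOfFiniteType (W.ι ≫ h) ∧ FormallyUnramified (W.ι ≫ h)) f.hom x} := by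
  have hf : AlgSp.LocP @LocallyOfFiniteType f.hom := by
    subst comm
    exact locP_lft_of_comp f q hp
  refine ⟨isOpen_unramLocus f, ?_⟩
  ext x'
  simp only [Set.mem_ofPred_eq, Set.mem_preimage]
  constructor
  · rintro ⟨U1, V1, a1, b1, h1, u1, ha1, hb1, hc1, hu1, W1, hu1W1, hW1l, hW1u⟩
    obtain ⟨U, V, a0, b0, h, u, ha, hb, hc, hu⟩ :=
      Groth.Agent.Lib.Helper12.LocPNbhd.exists_chart X.property Y.property f.hom
        (AlgSp.Points.map b.hom x')
    obtain ⟨W, V', pr, c, hW, aW, b', w, haW, hb', hcW, -, -, sqS, hw, hpr⟩ :=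
      Groth.Agent.Lib.T2H1.ChartBC.exists_chart_baseChange Y.property Y'.property sq2
        a0 b0 h ha hb hc u x' hu
    obtain ⟨W', hwW', hW'⟩ := Groth.Agent.Lib.Helper12.LocPNbhd.exists_open_of_chart
      Groth.Agent.Lib.Helper12.LocPCases.good_unram f'.hom aW b' hW haW hb' hcW w
      a1 b1 h1 ha1 hb1 hc1 u1 (hw.trans hu1.symm) W1 hu1W1 ⟨hW1l, hW1u⟩
    haveI : FormallyUnramified (W'.ι ≫ hW.left) := hW'.2
    haveI : LocallyOfFiniteType h.left := hf a0 b0 h ha hb hc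
    have H1 : (hW.left.stalkMap (W'.ι ⟨w, hwW'⟩)).hom.FormallyUnramified :=
      Groth.Agent.Lib.T2H3.GenEtale.stalkMap_formallyUnramified_of_comp W'.ι hW.left ⟨w, hwW'⟩
    have H2 : (h.left.stalkMap (pr.left w)).hom.FormallyUnramified :=
      Groth.Agent.Lib.Helper20.FlatDesc.formallyUnramified_stalkMap_of_isPullback sqS w H1
    rw [hpr] at H2
    obtain ⟨U₀, huU₀, hU₀⟩ :=
      Groth.Agent.Lib.T2H3.EtaleAt.exists_open_formallyUnramified_of_stalkMap h.left u H2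
    exact ⟨U, V, a0, b0, h, u, ha, hb, hc, hu, U₀, huU₀, inferInstance, hU₀⟩
  · rintro ⟨U, V, a0, b0, h, u, ha, hb, hc, hu, W₀, huW₀, hW₀l, hW₀u⟩
    obtain ⟨W, V', pr, c, hW, aW, b', w, haW, hb', hcW, -, -, sqS, hw, hpr⟩ :=
      Groth.Agent.Lib.T2H1.ChartBC.exists_chart_baseChange Y.property Y'.property sq2
        a0 b0 h ha hb hc u x' hu
    obtain ⟨k1, k2⟩ := unram_near_of_isPullback sqS W₀ hW₀l hW₀u
    refine ⟨W, V', aW, b', hW, w, haW, hb', hcW, hw, pr.left ⁻¹ᵁ W₀, ?_, k1, k2⟩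
    show pr.left w ∈ W₀
    rw [hpr]
    exact huW₀

end Groth.Agent.S10312
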