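import Groth.Statements.S10118
import Mathlib
import Groth.Agent.S10312
import Groth.Agent.S10310
import Groth.Agent.Lib.T2H1ChartBC
import Groth.Agent.Lib.Helper12LocPCases
import Groth.Agent.Lib.Helper12LocPNbhd
import Groth.Agent.S9874

set_option autoImplicit false
universe u
open CategoryTheory CategoryTheory.Limits AlgebraicGeometry MonoidalCategory MonObj
open AlgSp AlgSp.GAction

namespace Groth.Agent.S10118


open Groth.Agent.Lib.Helper12.LocPCases CartesianMonoidalCategory

/-- `LocP` is invariant under precomposition with an isomorphism. -/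
lemma locP_iso_comp {S : Scheme.{u}} (P : MorphismProperty Scheme.{u}) {X X' Y : AlgSp.Sp S}
    (e : X' ⟶ X) [IsIso e] (f : X ⟶ Y) (hf : AlgSp.LocP P f) : AlgSp.LocP P (e ≫ f) := by
  intro U V a b h ha hb hc
  exact hf (a ≫ e) b h (MorphismProperty.RespectsIso.postcomp _ e a ha) hb
    (by rw [Category.assoc]; exact hc)

/-- Let `X` be a pseudo-torsor under a group algebraic space `G` over an algebraic space `B`, where both
`G` and `X` are locally of finite type over `B`. Whenever `G ⟶ B` is unramified, `X ⟶ B` is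
unramified too; likewise, local quasi-finiteness passes from `G ⟶ B` to `X ⟶ B`. -/
theorem result (S : Scheme.{u}) (B : AlgSp.Sp S) (hB : AlgSp.IsAlgSpace B)
    (G X : Over B) [GrpObj G] (hG : AlgSp.IsAlgSpace G.left) (hX : AlgSp.IsAlgSpace X.left)
    (a : AlgSp.GAction G X) (ha : a.IsPseudoTorsor)
    (hGt : AlgSp.LocP @LocallyOfFiniteType G.hom) (hXt : AlgSp.LocP @LocallyOfFiniteType X.hom) :
    (AlgSp.LocP (@LocallyOfFiniteType ⊓ @FormallyUnramified) G.hom →
        AlgSp.LocP (@LocallyOfFiniteType ⊓ @FormallyUnramified) X.hom) ∧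
      (AlgSp.LocP (@LocallyQuasiFinite ⊓ @LocallyOfFiniteType) G.hom →
        AlgSp.LocP (@LocallyQuasiFinite ⊓ @LocallyOfFiniteType) X.hom) := by
  have sqG : IsPullback (fst G X).left (snd G X).left G.hom X.hom :=
    IsPullback.of_hasPullback G.hom X.hom
  have sqX : IsPullback (fst X X).left (snd X X).left X.hom X.hom :=
    IsPullback.of_hasPullback X.hom X.hom
  haveI : IsIso (lift a.act (snd G X)) := ha
  have he : (snd X X).left = (inv (lift a.act (snd G X))).left ≫ (snd G X).left := by
    rw [← Over.comp_left]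
    congr 1
    rw [IsIso.eq_inv_comp, lift_snd]
  haveI : IsIso (inv (lift a.act (snd G X))).left :=
    (inferInstance : IsIso ((Over.forget B).map (inv (lift a.act (snd G X)))))
  have hXX : AlgSp.IsAlgSpace (X ⊗ X).left :=
    Groth.Agent.S9874.isAlgSpace_of_isPullback hB.diag hX hX sqX
  -- the second projection of `X ×_B X` inherits the property of `G ⟶ B`
  have key : ∀ (P : MorphismProperty Scheme.{u}), Good P → AlgSp.LocP P G.hom →
      AlgSp.LocP P (snd X X).left := by
    intro P hP hGP
    have h1 : AlgSp.LocP P (snd G X).left := hP.locP_baseChange hG hB hX sqG hGP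
    rw [he]
    exact locP_iso_comp P _ _ h1
  -- the first projection is surjective on points
  let Δ : X.left ⟶ (X ⊗ X).left := pullback.lift (𝟙 _) (𝟙 _) rfl
  have hΔ : Δ ≫ (fst X X).left = 𝟙 _ := pullback.lift_fst _ _ _
  have hpt : ∀ x : AlgSp.Points X.left,
      AlgSp.Points.map (fst X X).left (AlgSp.Points.map Δ x) = x := by
    intro x
    rw [← AlgSp.Points.map_comp, hΔ, AlgSp.Points.map_id]
  constructor
  · intro hGu
    have h2 := key _ good_unram hGu
    rw [Groth.Agent.Lib.Helper12.LocPNbhd.locP_iff_forall_hasAtMor good_unram hX hB]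
    intro x
    have h3 := (Groth.Agent.Lib.Helper12.LocPNbhd.locP_iff_forall_hasAtMor good_unram hXX hX
      (snd X X).left).1 h2 (AlgSp.Points.map Δ x)
    have h4 := (Groth.Agent.S10312.result (X := ⟨X.left, hX⟩) (Y := ⟨B, hB⟩) (Z := ⟨B, hB⟩)
      (Z' := ⟨X.left, hX⟩) (Y' := ⟨X.left, hX⟩) (X' := ⟨(X ⊗ X).left, hXX⟩)
      (ObjectProperty.homMk X.hom) (ObjectProperty.homMk X.hom) (𝟙 _) (Category.comp_id _) hXt
      (ObjectProperty.homMk X.hom) (ObjectProperty.homMk X.hom) (𝟙 _)
      (IsPullback.of_vert_isIso ⟨by simp⟩)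
      (ObjectProperty.homMk (fst X X).left) (ObjectProperty.homMk (snd X X).left) sqX).2
    have h6 := (Set.ext_iff.1 h4 (AlgSp.Points.map Δ x)).1 h3
    have h7 : AlgSp.HasAtMor (fun U _ h u => ∃ W : U.Opens, u ∈ W ∧
        (@LocallyOfFiniteType ⊓ @FormallyUnramified : MorphismProperty Scheme.{u}) (W.ι ≫ h)) X.hom
        (AlgSp.Points.map (fst X X).left (AlgSp.Points.map Δ x)) := h6
    rw [hpt x] at h7
    exact h7
  · intro hGq
    have h2 := key _ good_lqf hGq
    have hlft2 : AlgSp.LocP @LocallyOfFiniteType (snd X X).left :=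
      fun U V a b h ha hb hc => (h2 a b h ha hb hc).2
    have h3 := (Groth.Agent.S10310.result (X := ⟨(X ⊗ X).left, hXX⟩) (Y := ⟨X.left, hX⟩)
      (ObjectProperty.homMk (snd X X).left) hlft2).1 h2
    refine (Groth.Agent.S10310.result (X := ⟨X.left, hX⟩) (Y := ⟨B, hB⟩)
      (ObjectProperty.homMk X.hom) hXt).2 ?_
    intro x
    have h4 := (Groth.Agent.Lib.T2H1.ChartBC.hasAtMor_fibreDim_baseChange_iff (fun t => t = 0)
      hX hB hX sqX hXt (AlgSp.Points.map Δ x)).1 (h3 (AlgSp.Points.map Δ x))
    rw [hpt x] at h4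
    exact h4

end Groth.Agent.S10118
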