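import Groth.Statements.S10127
import Groth.Agent.Lib.T2H1RatPtClosed
import Groth.Agent.Lib.T2H1ConnComp
import Groth.Agent.S10116

set_option autoImplicit false
universe u
open CategoryTheory CategoryTheory.Limits AlgebraicGeometry MonoidalCategory MonObj
open AlgSp

namespace Groth.Agent.S10127


/-- over the terminal sheaf, separatedness of the structure morphism is separatedness. -/
theorem isSeparatedSp_of_isSeparatedMor {S : Scheme.{u}} {F : AlgSp.Sp S}
    (f : F ⟶ (AlgSp.yon S).obj (Over.mk (𝟙 S))) (h : AlgSp.IsSeparatedMor f) :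
    AlgSp.IsSeparatedSp F := by
  have sqP : IsPullback (prod.fst : F ⨯ F ⟶ F) prod.snd f f := by
    have h0 := Groth.Agent.Lib.T2H1.ConnComp.isPullback_prod F F
    rwa [(Groth.Agent.Lib.T2H1.ConnComp.isTerminal_yon_mkId S).hom_ext
      ((Groth.Agent.Lib.T2H1.ConnComp.isTerminal_yon_mkId S).from F) f] at h0
  have hd : pullback.diagonal f = Limits.diag F ≫ sqP.isoPullback.hom := by
    apply pullback.hom_ext
    · rw [pullback.diagonal_fst, Category.assoc, sqP.isoPullback_hom_fst, Limits.diag,
        prod.lift_fst]
    · rw [pullback.diagonal_snd, Category.assoc, sqP.isoPullback_hom_snd, Limits.diag,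
        prod.lift_snd]
  have h' : AlgSp.RepWith @IsClosedImmersion (pullback.diagonal f) := h
  rw [hd] at h'
  exact (MorphismProperty.cancel_right_of_respectsIso (AlgSp.RepWith @IsClosedImmersion) _ _).1 h'

/-- A group algebraic space over a field `k` which is a decent algebraic space is separated. (The
published situation allows any base scheme `S` with `k` a field over `S`; this row takes `S = Spec
k`.) -/
theorem result (k : Type u) [Field k]
    (G : Over ((AlgSp.yon (Spec (CommRingCat.of k))).obj (Over.mk (𝟙 _)))) [GrpObj G]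
    (hG : AlgSp.IsAlgSpace G.left) (hd : AlgSp.IsDecent G.left) : AlgSp.IsSeparatedSp G.left := by
  have hB : AlgSp.IsAlgSpace ((AlgSp.yon (Spec (CommRingCat.of k))).obj (Over.mk (𝟙 _))) :=
    AlgSp.IsAlgSpace.yon_obj _
  have h1 : AlgSp.RepWith @IsClosedImmersion (η[G]).left :=
    Groth.Agent.Lib.T2H1.RatPtClosed.repWith_isClosedImmersion_of_section hG hd k (𝟙 _) G.hom
      (η[G]).left (Over.w η[G])
  have h2 : AlgSp.IsSeparatedMor G.hom :=
    ((Groth.Agent.S10116.result _ _ hB G hG).1).2 h1
  exact isSeparatedSp_of_isSeparatedMor G.hom h2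

end Groth.Agent.S10127
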