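import Groth.Statements.S10128
import Groth.Agent.Lib.T2H1RatPtClosed
import Groth.Agent.Lib.T2H1ConnComp
import Groth.Agent.Lib.T2H1QOpenSchC
import Groth.Agent.Lib.Helper12Proper
import Groth.Agent.S10122
import Groth.Agent.S10127

set_option autoImplicit false
universe u
open CategoryTheory CategoryTheory.Limits AlgebraicGeometry
open AlgSp AlgSp.GroupoidSp

namespace Groth.Agent.S10128

/-- Let `(U, R, s, t, c)` be a groupoid in algebraic spaces over `B` whose object space is `U = Spec k`,
with `k` a field, and assume `R` is a decent algebraic space. Then `R` is separated over the base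
scheme `S`. (The published statement concludes that `R` is separated in the absolute sense; this row
concludes that `R` is separated over `S`, which the absolute notion implies.) -/
theorem result (S : Scheme.{u}) (B : AlgSp.Sp S) (hB : AlgSp.IsAlgSpace B)
    (G : AlgSp.GroupoidSp B) (hR : AlgSp.IsAlgSpace G.R) (k : Type u) [Field k]
    (σ : Spec (CommRingCat.of k) ⟶ S) (eU : G.U ≅ (AlgSp.yon S).obj (Over.mk σ)) (hd : AlgSp.IsDecent G.R) :
    AlgSp.IsSeparatedSp G.R := by
  have hU : AlgSp.IsAlgSpace G.U := (AlgSp.IsAlgSpace.yon_obj (Over.mk σ)).of_iso eU.symm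
  -- the identity is a closed immersion
  have he' : AlgSp.RepWith @IsClosedImmersion (eU.inv ≫ G.e) :=
    Groth.Agent.Lib.T2H1.RatPtClosed.repWith_isClosedImmersion_of_section hR hd k σ
      (G.s ≫ eU.hom) (eU.inv ≫ G.e) (by
        rw [Category.assoc, ← Category.assoc G.e, G.e_s, Category.id_comp, eU.inv_hom_id])
  have he : AlgSp.RepWith @IsClosedImmersion G.e :=
    (MorphismProperty.cancel_left_of_respectsIso (AlgSp.RepWith @IsClosedImmersion) eU.inv G.e).1 he'
  -- the identity as a section of the stabilizer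
  have hw : G.e ≫ G.j = G.diag := by
    apply pullback.hom_ext
    · rw [Category.assoc, G.j_fst, G.e_t]
      exact (pullback.lift_fst _ _ _).symm
    · rw [Category.assoc, G.j_snd, G.e_s]
      exact (pullback.lift_snd _ _ _).symm
  let eG : G.U ⟶ G.stabilizer := pullback.lift G.e (𝟙 G.U) (by rw [hw, Category.id_comp])
  have heG : eG ≫ G.stabilizerι = G.e := pullback.lift_fst _ _ _
  haveI : Mono G.diag := mono_of_mono_fac (pullback.lift_fst (𝟙 G.U) (𝟙 G.U) rfl)
  haveI : Mono G.stabilizerι := (inferInstance : Mono (pullback.fst G.j G.diag))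
  have heG' : AlgSp.RepWith @IsClosedImmersion eG :=
    Groth.Agent.Lib.T2H1.QOpenSch.repWith_of_comp_mono @IsClosedImmersion eG G.stabilizerι
      (by rw [heG]; exact he)
  have hj : AlgSp.IsSeparatedMor G.j :=
    ((Groth.Agent.S10122.result S B hB G hU hR eG heG).1.2).2 heG'
  -- `U` is separated over `S`
  haveI : IsSeparated σ := by
    haveI : IsSeparated (σ ≫ terminal.from S) := inferInstance
    exact IsSeparated.of_comp σ (terminal.from S)
  have hUT : AlgSp.IsSeparatedMor ((Groth.Agent.Lib.T2H1.ConnComp.isTerminal_yon_mkId S).from G.U) := by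
    have h1 : (Groth.Agent.Lib.T2H1.ConnComp.isTerminal_yon_mkId S).from G.U = eU.hom ≫ (AlgSp.yon S).map (Over.mkIdTerminal.from (Over.mk σ)) :=
      (Groth.Agent.Lib.T2H1.ConnComp.isTerminal_yon_mkId S).hom_ext _ _
    rw [h1]
    refine Groth.Agent.Lib.Helper12.Proper.isSeparatedMor_comp _ _
      (Groth.Agent.Lib.Helper12.Proper.isSeparatedMor_of_mono _) ?_
    rw [AlgSp.isSeparatedMor_yon_map_iff]
    have h2 : (Over.mkIdTerminal.from (Over.mk σ)).left = σ := by
      have := Over.w (Over.mkIdTerminal.from (Over.mk σ))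
      simpa using this
    rw [h2]
    infer_instance
  -- `U × U` and `U ×_B U` are separated over `S`
  have hUU : AlgSp.IsSeparatedMor ((Groth.Agent.Lib.T2H1.ConnComp.isTerminal_yon_mkId S).from (G.U ⨯ G.U)) := by
    have h1 : (Groth.Agent.Lib.T2H1.ConnComp.isTerminal_yon_mkId S).from (G.U ⨯ G.U) = prod.fst ≫ (Groth.Agent.Lib.T2H1.ConnComp.isTerminal_yon_mkId S).from G.U := (Groth.Agent.Lib.T2H1.ConnComp.isTerminal_yon_mkId S).hom_ext _ _
    rw [h1]
    exact Groth.Agent.Lib.Helper12.Proper.isSeparatedMor_comp _ _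
      (Groth.Agent.Lib.Helper12.Proper.isSeparatedMor_baseChange
        (Groth.Agent.Lib.T2H1.ConnComp.isPullback_prod G.U G.U).flip hUT) hUT
  haveI : Mono (prod.lift (pullback.fst G.pU G.pU) (pullback.snd G.pU G.pU)) := by
    refine ⟨fun a b hab => ?_⟩
    apply pullback.hom_ext
    · have := congrArg (fun m => m ≫ prod.fst) hab
      simp only [Category.assoc, prod.lift_fst] at this
      exact this
    · have := congrArg (fun m => m ≫ prod.snd) hab
      simp only [Category.assoc, prod.lift_snd] at this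
      exact this
  have hW : AlgSp.IsSeparatedMor ((Groth.Agent.Lib.T2H1.ConnComp.isTerminal_yon_mkId S).from (pullback G.pU G.pU)) := by
    have h1 : (Groth.Agent.Lib.T2H1.ConnComp.isTerminal_yon_mkId S).from (pullback G.pU G.pU) =
        prod.lift (pullback.fst G.pU G.pU) (pullback.snd G.pU G.pU) ≫ (Groth.Agent.Lib.T2H1.ConnComp.isTerminal_yon_mkId S).from (G.U ⨯ G.U) :=
      (Groth.Agent.Lib.T2H1.ConnComp.isTerminal_yon_mkId S).hom_ext _ _
    rw [h1]
    exact Groth.Agent.Lib.Helper12.Proper.isSeparatedMor_comp _ _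
      (Groth.Agent.Lib.Helper12.Proper.isSeparatedMor_of_mono _) hUU
  have hRT : AlgSp.IsSeparatedMor ((Groth.Agent.Lib.T2H1.ConnComp.isTerminal_yon_mkId S).from G.R) := by
    have h1 : (Groth.Agent.Lib.T2H1.ConnComp.isTerminal_yon_mkId S).from G.R = G.j ≫ (Groth.Agent.Lib.T2H1.ConnComp.isTerminal_yon_mkId S).from (pullback G.pU G.pU) := (Groth.Agent.Lib.T2H1.ConnComp.isTerminal_yon_mkId S).hom_ext _ _
    rw [h1]
    exact Groth.Agent.Lib.Helper12.Proper.isSeparatedMor_comp _ _ hj hW
  exact Groth.Agent.S10127.isSeparatedSp_of_isSeparatedMor _ hRT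

end Groth.Agent.S10128
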