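import Groth.Statements.S9973
import Mathlib
import Groth.Agent.S9969

set_option autoImplicit false
universe u
open CategoryTheory CategoryTheory.Limits AlgebraicGeometry
open AlgSp

namespace Groth.Agent.S9973

open Groth.Agent.Lib.Helper1

/-- quasi-compact morphisms are stable under base change. -/
lemma isQuasiCompactMor_of_isPullback {S : Scheme.{u}} {F G F' G' : AlgSp.Sp S} {f : F ⟶ G}
    {g : G' ⟶ G} {fst : F' ⟶ F} {f' : F' ⟶ G'} (sq : IsPullback fst f' f g)
    (hf : AlgSp.IsQuasiCompactMor f) : AlgSp.IsQuasiCompactMor f' := by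
  intro Z Z' hZ hZq h p₁ p₂ sq'
  exact hf hZ hZq (h ≫ g) (p₁ ≫ fst) p₂ (sq'.paste_horiz sq)

/-- The inverse image of a quasi-compact scheme theoretically dense open under a flat morphism of
algebraic spaces is scheme theoretically dense. -/
theorem result {S : Scheme.{u}} {X Y V V' : AlgSp.Space S} (f : X ⟶ Y)
    (hf : AlgSp.LocP @Flat f.hom) (j : V ⟶ Y) (hj : AlgSp.IsSchDense j.hom) (hjq : AlgSp.IsQuasiCompactMor j.hom)
    (fst : V' ⟶ V) (jX : V' ⟶ X) (sq : IsPullback fst.hom jX.hom j.hom f.hom) : AlgSp.IsSchDense jX.hom := by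
  have hI := Groth.Agent.S9969.isSchImage_id_of_isSchDense j.hom hj
  have hIX : AlgSp.IsSchImage jX.hom (𝟙 X.obj) :=
    SchImage.isSchImage_base_change Y.property X.property V.property f.hom hf j.hom hjq (𝟙 _) hI
      fst.hom jX.hom sq f.hom (𝟙 _) IsPullback.of_id_snd
  have hjX : AlgSp.RepWith @IsOpenImmersion jX.hom :=
    MorphismProperty.of_isPullback (P := AlgSp.RepWith @IsOpenImmersion) sq hj.1
  have hjXq : AlgSp.IsQuasiCompactMor jX.hom := isQuasiCompactMor_of_isPullback sq hjq
  exact Groth.Agent.S9969.isSchDense_of_isSchImage_id X.property V'.property jX.hom hjX hjXq hIX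

end Groth.Agent.S9973
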