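import Groth.Statements.S10129
import Mathlib
import Groth.Agent.S9973
import Groth.Agent.S9972
import Groth.Agent.S9927
import Groth.Agent.S9906
import Groth.Agent.S9876
import Groth.Agent.Lib.Helper12OpenSub2
import Groth.Agent.Lib.Helper12LocPCases
import Groth.Agent.Lib.Helper9ShfGrp

set_option autoImplicit false
universe u
open CategoryTheory CategoryTheory.Limits AlgebraicGeometry
open AlgSp

namespace Groth.Agent.S10129

open Groth.Agent.Lib.Helper9

/-- the source of a representable morphism to an algebraic space is an algebraic space. -/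
lemma isAlgSpace_of_representable {S : Scheme.{u}} {V X : AlgSp.Sp S} (hX : AlgSp.IsAlgSpace X)
    (v : V ⟶ X) (hv : AlgSp.Representable v) : AlgSp.IsAlgSpace V := by
  rw [← AlgSp.isAlgSpaceP_obj_iff]
  refine Groth.Agent.S9876.result S ⟨X, hX⟩ V.obj v.hom ?_
  intro U ξ
  obtain ⟨b, snd, fst, sq⟩ := hv (ObjectProperty.homMk ξ : (AlgSp.yon S).obj U ⟶ X)
  exact ⟨b, snd, fst.hom, sq.map (sheafToPresheaf _ _)⟩

/-- a surjective, flat, locally finitely presented morphism of algebraic spaces is an epimorphism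
of fppf sheaves. -/
lemma epi_of_fppf {S : Scheme.{u}} {X Z : AlgSp.Sp S} (hX : AlgSp.IsAlgSpace X)
    (hZ : AlgSp.IsAlgSpace Z) (g : X ⟶ Z) (hgs : AlgSp.IsSurjectiveMor g)
    (hgf : AlgSp.LocP @Flat g) (hgp : AlgSp.LocP @LocallyOfFinitePresentation g) : Epi g := by
  obtain ⟨U, c, hce, hcs⟩ := hZ.atlas
  have hP : AlgSp.IsAlgSpace (pullback g c) :=
    Groth.Agent.S9874.isAlgSpace_of_isPullback hZ.diag hX (AlgSp.IsAlgSpace.yon_obj U)
      (IsPullback.of_hasPullback g c)
  obtain ⟨W, a, hae, has⟩ := hP.atlas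
  obtain ⟨w, hw⟩ := (AlgSp.yon S).map_surjective (a ≫ pullback.snd g c)
  have hfe : AlgSp.RepWith @Etale (pullback.fst g c) :=
    (AlgSp.RepWith @Etale).of_isPullback (IsPullback.of_hasPullback g c).flip hce
  have hafe : AlgSp.RepWith @Etale (a ≫ pullback.fst g c) :=
    MorphismProperty.comp_mem _ _ _ hae hfe
  have hcomm : (a ≫ pullback.fst g c) ≫ g = (AlgSp.yon S).map w ≫ c := by
    rw [hw, Category.assoc, Category.assoc, pullback.condition]
  have hwf : Flat w.left := hgf _ _ w hafe hce hcomm
  have hwp : LocallyOfFinitePresentation w.left := hgp _ _ w hafe hce hcomm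
  have hws : AlgSp.RepWith @Surjective ((AlgSp.yon S).map w) := by
    apply Groth.Agent.S9906.repWith_surjective_of_surjective_map _ (AlgSp.representable_yon_map w)
    rw [hw]
    intro y
    have hy : y ∈ Set.range (AlgSp.Points.map (pullback.snd g c)) := by
      rw [Groth.Agent.Lib.Helper12.OpenSub.range_map_fst_of_isPullback
        (IsPullback.of_hasPullback g c).flip]
      exact hgs _
    obtain ⟨p, rfl⟩ := hy
    obtain ⟨t, rfl⟩ := Groth.Agent.S9906.surjective_map_of_repWith a has p
    exact ⟨t, AlgSp.Points.map_comp _ _ _⟩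
  haveI := S9885.isLocallySurjective_of_repWith ((AlgSp.yon S).map w)
    ((AlgSp.repWith_yon_map_iff _ _).2 hwf) ((AlgSp.repWith_yon_map_iff _ _).2 hwp) hws
  haveI : Epi ((AlgSp.yon S).map w) := (Sheaf.isLocallySurjective_iff_epi _).1 inferInstance
  haveI : Epi c := Groth.Agent.S9927.epi_of_repWith c hce hcs
  haveI : Epi ((a ≫ pullback.fst g c) ≫ g) := by
    rw [hcomm]
    exact epi_comp _ _
  exact epi_of_epi (a ≫ pullback.fst g c) g

/-- Consider morphisms `g : X ⟶ Z` and `f : X ⟶ Y` of algebraic spaces over `B`, with `Y ⟶ B` separated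
and `g` surjective, flat and locally of finite presentation, and let `V ⊂ Z` be a scheme
theoretically dense open subspace with `V ⟶ Z` quasi-compact such that `f` restricted to `g⁻¹(V)`
factors through `g⁻¹(V) ⟶ V`. Then `f` factors through `g`. (The published statement does not ask
the open immersion `V ⟶ Z` to be quasi-compact; the published proof pulls the scheme theoretic
density of `V` back along a flat morphism by a lemma that requires it, so this row assumes it.) -/
theorem result (S : Scheme.{u}) (B : AlgSp.Sp S) (hB : AlgSp.IsAlgSpace B)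
    (X Y Z : AlgSp.Space S) (pX : X.obj ⟶ B) (pY : Y.obj ⟶ B) (pZ : Z.obj ⟶ B)
    (f : X.obj ⟶ Y.obj) (g : X.obj ⟶ Z.obj) (hf : f ≫ pY = pX) (hg : g ≫ pZ = pX)
    (hY : AlgSp.IsSeparatedMor pY)
    (hgs : AlgSp.IsSurjectiveMor g) (hgf : AlgSp.LocP @Flat g) (hgp : AlgSp.LocP @LocallyOfFinitePresentation g)
    (V : AlgSp.Sp S) (v : V ⟶ Z.obj) (hv : AlgSp.IsSchDense v) (hvq : AlgSp.IsQuasiCompactMor v)
    (hfac : ∃ φ : V ⟶ Y.obj, pullback.fst g v ≫ f = pullback.snd g v ≫ φ) :
    ∃ h : Z.obj ⟶ Y.obj, g ≫ h = f := by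
  obtain ⟨φ, hφ⟩ := hfac
  haveI : Epi g := epi_of_fppf X.property Z.property g hgs hgf hgp
  have hV : AlgSp.IsAlgSpace V := isAlgSpace_of_representable Z.property v hv.1.1
  -- the kernel pair
  have hK : AlgSp.IsAlgSpace (pullback g g) :=
    Groth.Agent.S9874.isAlgSpace_of_isPullback Z.property.diag X.property X.property
      (IsPullback.of_hasPullback g g)
  have hpr₂ : AlgSp.LocP @Flat (pullback.snd g g) :=
    Groth.Agent.Lib.Helper12.LocPCases.good_flat.locP_baseChange X.property Z.property X.property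
      (IsPullback.of_hasPullback g g) hgf
  have hq : AlgSp.LocP @Flat (pullback.snd g g ≫ g) :=
    Groth.Agent.Lib.Helper12.LocPCases.good_flat.locP_comp X.property Z.property _ _ hpr₂ hgf
  have hKV : AlgSp.IsAlgSpace (pullback v (pullback.snd g g ≫ g)) :=
    Groth.Agent.S9874.isAlgSpace_of_isPullback Z.property.diag hV hK
      (IsPullback.of_hasPullback _ _)
  let KS : AlgSp.Space S := ⟨pullback g g, hK⟩
  let VS : AlgSp.Space S := ⟨V, hV⟩
  let BS : AlgSp.Space S := ⟨B, hB⟩
  let KVS : AlgSp.Space S := ⟨pullback v (pullback.snd g g ≫ g), hKV⟩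
  let qS : KS ⟶ Z := ObjectProperty.homMk (pullback.snd g g ≫ g)
  let vS : VS ⟶ Z := ObjectProperty.homMk v
  let kV : KVS ⟶ VS := ObjectProperty.homMk (pullback.fst v (pullback.snd g g ≫ g))
  let jK : KVS ⟶ KS := ObjectProperty.homMk (pullback.snd v (pullback.snd g g ≫ g))
  have sqK : IsPullback kV.hom jK.hom vS.hom qS.hom := IsPullback.of_hasPullback _ _
  have hdense : AlgSp.IsSchDense jK.hom :=
    Groth.Agent.S9973.result qS hq vS hv hvq kV jK sqK
  have hI : AlgSp.IsSchImage jK.hom (𝟙 KS.obj) :=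
    Groth.Agent.S9969.isSchImage_id_of_isSchDense jK.hom hdense
  -- the two composites agree
  let f₁ : KS ⟶ Y := ObjectProperty.homMk (pullback.fst g g ≫ f)
  let f₂ : KS ⟶ Y := ObjectProperty.homMk (pullback.snd g g ≫ f)
  let pYS : Y ⟶ BS := ObjectProperty.homMk pY
  have h12 : f₁ = f₂ := by
    refine Groth.Agent.S9972.result pYS hY f₁ f₂ ?_ jK hdense.1 hI ?_
    · apply ObjectProperty.hom_ext
      change (pullback.fst g g ≫ f) ≫ pY = (pullback.snd g g ≫ f) ≫ pY
      rw [Category.assoc, Category.assoc, hf, ← hg, pullback.condition_assoc]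
    · apply ObjectProperty.hom_ext
      change pullback.snd v (pullback.snd g g ≫ g) ≫ pullback.fst g g ≫ f =
        pullback.snd v (pullback.snd g g ≫ g) ≫ pullback.snd g g ≫ f
      have hc := pullback.condition (f := v) (g := pullback.snd g g ≫ g)
      have e₁ : (pullback.snd v (pullback.snd g g ≫ g) ≫ pullback.fst g g) ≫ g =
          pullback.fst v (pullback.snd g g ≫ g) ≫ v := by
        rw [hc, Category.assoc, pullback.condition]
      have e₂ : (pullback.snd v (pullback.snd g g ≫ g) ≫ pullback.snd g g) ≫ g =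
          pullback.fst v (pullback.snd g g ≫ g) ≫ v := by
        rw [hc, Category.assoc]
      have h₁ : pullback.snd v (pullback.snd g g ≫ g) ≫ pullback.fst g g ≫ f =
          pullback.fst v (pullback.snd g g ≫ g) ≫ φ := by
        rw [← Category.assoc, ← pullback.lift_fst _ _ e₁, Category.assoc, hφ,
          pullback.lift_snd_assoc]
      have h₂ : pullback.snd v (pullback.snd g g ≫ g) ≫ pullback.snd g g ≫ f =
          pullback.fst v (pullback.snd g g ≫ g) ≫ φ := by
        rw [← Category.assoc, ← pullback.lift_fst _ _ e₂, Category.assoc, hφ,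
          pullback.lift_snd_assoc]
      rw [h₁, h₂]
  have h12' : pullback.fst g g ≫ f = pullback.snd g g ≫ f := congrArg (fun m => m.hom) h12
  refine ToposLike.exists_desc_of_epi g inferInstance f ?_
  intro W a₁ a₂ ha
  rw [← pullback.lift_fst a₁ a₂ ha, Category.assoc, h12', pullback.lift_snd_assoc]

end Groth.Agent.S10129
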