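import Groth.Statements.S10136
import Mathlib
import Groth.Agent.Lib.T2H1GrpLocus
import Groth.Agent.Lib.T2H1ChartBC
import Groth.Agent.Lib.T2H1HasAt
import Groth.Agent.Lib.Helper7TopDim
import Groth.Agent.S5341
import Groth.Agent.S10177

set_option autoImplicit false
universe u
open CategoryTheory CategoryTheory.Limits AlgebraicGeometry MonoidalCategory MonObj
open AlgSp

namespace Groth.Agent.S10136

/-- For a group algebraic space `G` locally of finite type over a field `k`, `dim_g(G) = dim(G)` for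
every point `g` of `G`. (The published situation allows any base scheme `S` with `k` a field over
`S`; this row takes `S = Spec k`.) -/
theorem result (k : Type u) [Field k]
    (G : Over ((AlgSp.yon (Spec (CommRingCat.of k))).obj (Over.mk (𝟙 _)))) [GrpObj G] (hG : AlgSp.IsAlgSpace G.left)
    (hlft : AlgSp.LocP @LocallyOfFiniteType G.hom) (g : AlgSp.Points G.left) :
    AlgSp.HasAt (fun V v => FlatMor.localDim ↥V v = AlgSp.dim G.left) G.left g := by
  have hB : AlgSp.IsAlgSpace ((AlgSp.yon (Spec (CommRingCat.of k))).obj (Over.mk (𝟙 _))) :=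
    AlgSp.IsAlgSpace.yon_obj _
  haveI hsub0 : Subsingleton ↥(Spec (CommRingCat.of k)) :=
    inferInstanceAs (Subsingleton (PrimeSpectrum k))
  haveI hsub1 : Subsingleton ↥(Over.mk (𝟙 (Spec (CommRingCat.of k)))).left := hsub0
  haveI : Subsingleton
      (AlgSp.Points ((AlgSp.yon (Spec (CommRingCat.of k))).obj (Over.mk (𝟙 _)))) :=
    (AlgSp.Points.schemeHomeo (Over.mk (𝟙 (Spec (CommRingCat.of k))))).symm.injective.subsingleton
  -- homogeneity of the relative dimension
  have key : ∀ (d : WithBot ℕ∞) (g g' : AlgSp.Points G.left),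
      AlgSp.HasAtMor (fun _ _ h u => FlatMor.fibreDimAt h u = d) G.hom g →
      AlgSp.HasAtMor (fun _ _ h u => FlatMor.fibreDimAt h u = d) G.hom g' := by
    intro d g g' hg
    have hBC : Groth.Agent.Lib.T2H1.GrpLocus.BC G (fun _ _ h u => FlatMor.fibreDimAt h u = d) :=
      fun hY'' _ g b f'' sq x'' =>
        Groth.Agent.Lib.T2H1.ChartBC.hasAtMor_fibreDim_baseChange_iff (fun t => t = d)
          hG hB hY'' sq hlft x''
    rw [Groth.Agent.Lib.T2H1.GrpLocus.homogeneous G hB hG hBC] at hg ⊢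
    rwa [Subsingleton.elim (AlgSp.Points.map G.hom g') (AlgSp.Points.map G.hom g)]
  -- charts over the identity of `Spec k`
  have chart : ∀ {U : Over (Spec (CommRingCat.of k))}
      (a : (AlgSp.yon (Spec (CommRingCat.of k))).obj U ⟶ G.left) (u : ↥U.left),
      ∃ h : U ⟶ Over.mk (𝟙 _), a ≫ G.hom = (AlgSp.yon _).map h ≫ 𝟙 _ ∧
        FlatMor.fibreDimAt h.left u = FlatMor.localDim ↥U.left u := by
    intro U a u
    obtain ⟨h, hh⟩ := (AlgSp.yon (Spec (CommRingCat.of k))).map_surjective (a ≫ G.hom)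
    refine ⟨h, by rw [hh, Category.comp_id], ?_⟩
    exact Groth.Agent.S5341.fibreDimAt_eq_localDim_of_subsingleton h.left u
  obtain ⟨U₀, a₀, ha₀, hs₀⟩ := hG.atlas
  obtain ⟨u₀, hu₀⟩ := Groth.Agent.S10177.surjective_ofPt a₀ hs₀ g
  obtain ⟨h₀, hc₀, hd₀⟩ := chart a₀ u₀
  have hid : AlgSp.RepWith @Etale
      (𝟙 ((AlgSp.yon (Spec (CommRingCat.of k))).obj (Over.mk (𝟙 _)))) := AlgSp.repWith_id _ _
  have hall : ∀ (U : Over (Spec (CommRingCat.of k)))
      (a : (AlgSp.yon (Spec (CommRingCat.of k))).obj U ⟶ G.left) (_ : AlgSp.RepWith @Etale a)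
      (u : ↥U.left), FlatMor.localDim ↥U.left u = FlatMor.localDim ↥U₀.left u₀ := by
    intro U a ha u
    obtain ⟨h, hc, hd⟩ := chart a u
    have h1 : AlgSp.HasAtMor (fun _ _ h u => FlatMor.fibreDimAt h u = FlatMor.localDim ↥U₀.left u₀)
        G.hom (AlgSp.Points.ofPt a₀ u₀) :=
      ⟨U₀, _, a₀, 𝟙 _, h₀, u₀, ha₀, hid, hc₀, rfl, hd₀⟩
    have h2 := key _ _ (AlgSp.Points.ofPt a u) h1
    have h3 := Groth.Agent.Lib.T2H1.HasAt.of_hasAtMor
      (Groth.Agent.Lib.T2H1.HasAt.etInv_fibreDim (fun t => t = FlatMor.localDim ↥U₀.left u₀))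
      G.hom _ h2 a (𝟙 _) h ha hid hc u rfl
    rw [← hd]
    exact h3
  have hdim : AlgSp.dim G.left = FlatMor.localDim ↥U₀.left u₀ := by
    unfold AlgSp.dim
    apply le_antisymm
    · refine iSup_le fun U => iSup_le fun a => iSup_le fun ha => ?_
      rw [Groth.Agent.Lib.Helper7.TopDim.topologicalKrullDim_eq_iSup_localDim]
      exact iSup_le fun u => (hall U a ha u).le
    · refine le_iSup_of_le U₀ (le_iSup_of_le a₀ (le_iSup_of_le ha₀ ?_))
      rw [Groth.Agent.Lib.Helper7.TopDim.topologicalKrullDim_eq_iSup_localDim]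
      exact le_iSup (fun u : ↥U₀.left => FlatMor.localDim ↥U₀.left u) u₀
  exact ⟨U₀, a₀, u₀, ha₀, hu₀, hdim.symm⟩

end Groth.Agent.S10136
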