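import Groth.Statements.S10140
import Groth.Agent.S4085
import Groth.Agent.S4086
import Groth.Agent.S9726
import Groth.Agent.Lib.Helper12QuotSh
import Groth.Agent.Lib.T2H7SubGrpdG

set_option autoImplicit false
universe u
open CategoryTheory CategoryTheory.Limits AlgebraicGeometry
open Grpd

namespace Groth.Agent.S10140

/-- Let `(U, R, s, t, c)` be a groupoid scheme over `S` with `U` affine and `j : R ⟶ U ×_S U` separated
and locally quasi-finite, and let `P ⟶ R` be a monomorphism such that `(U, P, s|_P, t|_P, c|_P)` is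
a groupoid scheme, `s|_P, t|_P` are finite locally free and `j|_P` is a monomorphism. Then `U/P` is
represented by an affine scheme `Ū`, the quotient map `U ⟶ Ū` is finite locally free with `P = U ×_Ū
U`, and `R` is the restriction along `U ⟶ Ū` of a groupoid scheme `(Ū, R̄, s̄, t̄, c̄)`. -/
theorem result (S : Scheme.{u}) (G : Grpd.GroupoidScheme S) [IsAffine G.U]
    [IsSeparated G.j] [LocallyQuasiFinite G.j] [LocallyOfFiniteType G.j]
    (P : Scheme.{u}) (ιP : P ⟶ G.R) [Mono ιP]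
    (he : ∃ eP : G.U ⟶ P, eP ≫ ιP = G.e) (hi : ∃ iP : P ⟶ P, iP ≫ ιP = ιP ≫ G.i)
    (hc : ∃ cP : pullback (ιP ≫ G.s) (ιP ≫ G.t) ⟶ P,
      cP ≫ ιP = pullback.map (ιP ≫ G.s) (ιP ≫ G.t) G.s G.t ιP ιP (𝟙 G.U) (Category.comp_id _) (Category.comp_id _) ≫ G.c)
    [IsFinite (ιP ≫ G.s)] [Flat (ιP ≫ G.s)] [LocallyOfFinitePresentation (ιP ≫ G.s)]
    [IsFinite (ιP ≫ G.t)] [Flat (ιP ≫ G.t)] [LocallyOfFinitePresentation (ιP ≫ G.t)] [Mono (ιP ≫ G.j)] :
    ∃ (H : Grpd.GroupoidScheme S) (φ : Grpd.GroupoidScheme.Hom G H),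
      IsAffine H.U ∧
      QuotSh.IsQuotient Scheme.fppfPrecoverage
        (Over.homMk (ιP ≫ G.s) ((Category.assoc _ _ _).trans (congrArg (ιP ≫ ·) G.s_over)) :
          (Over.mk (ιP ≫ G.pR) : Over S) ⟶ Over.mk G.pU)
        (Over.homMk (ιP ≫ G.t) ((Category.assoc _ _ _).trans (congrArg (ιP ≫ ·) G.t_over)) :
          (Over.mk (ιP ≫ G.pR) : Over S) ⟶ Over.mk G.pU)
        (Over.homMk φ.fU φ.fU_over : Over.mk G.pU ⟶ Over.mk H.pU) ∧
      IsFinite φ.fU ∧ Flat φ.fU ∧ LocallyOfFinitePresentation φ.fU ∧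
      IsPullback (ιP ≫ G.t) (ιP ≫ G.s) φ.fU φ.fU ∧
      IsPullback φ.fR G.j H.j
        (pullback.map G.pU G.pU H.pU H.pU φ.fU φ.fU (𝟙 S)
          ((Category.comp_id _).trans φ.fU_over.symm) ((Category.comp_id _).trans φ.fU_over.symm)) := by
  obtain ⟨eP, he⟩ := he
  obtain ⟨iP, hi⟩ := hi
  obtain ⟨cP, hc⟩ := hc
  -- the subgroupoid scheme
  let GP : Grpd.GroupoidScheme S := Groth.Agent.Lib.T2H7.SubGrpd.subGrpd G ιP eP he iP hi cP hc
  have ha : Mor2.IsFinLocFree GP.s :=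
    ⟨(inferInstance : IsFinite (ιP ≫ G.s)), (inferInstance : Flat (ιP ≫ G.s)),
      (inferInstance : LocallyOfFinitePresentation (ιP ≫ G.s))⟩
  have hb : ∀ x : GP.U, ∃ V : GP.U.Opens, IsAffineOpen V ∧
      GP.t.base '' (GP.s.base ⁻¹' {x}) ⊆ (V : Set GP.U) :=
    fun x => ⟨⊤, isAffineOpen_top G.U, fun _ _ => trivial⟩
  have : Mono GP.j := by
    have e : GP.j = ιP ≫ G.j := Groth.Agent.Lib.T2H7.SubGrpd.subGrpd_j G ιP eP he iP hi cP hc
    have m : Mono (ιP ≫ G.j) := inferInstance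
    rw [e]; exact m
  obtain ⟨Y, p0, w, ⟨hcol⟩, -, hsurj0, -, -, -, haff⟩ := Groth.Agent.S4085.result S GP ha hb
  obtain ⟨hpb0, hfin0, hflat0, hlfp0⟩ := Groth.Agent.S4086.result S GP ha hb Y p0 w hcol
  obtain ⟨p, hp⟩ : ∃ p : G.U ⟶ Y, p = p0 := ⟨p0, rfl⟩
  subst hp
  have hpb : IsPullback (ιP ≫ G.t) (ιP ≫ G.s) p p := hpb0
  have hsurj : Surjective p := hsurj0
  have hfin : IsFinite p := hfin0
  have hflat : Flat p := hflat0
  have hlfp : LocallyOfFinitePresentation p := hlfp0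
  -- the structure morphism of the quotient
  have hw : GP.t ≫ G.pU = GP.s ≫ G.pU := by
    show (ιP ≫ G.t) ≫ G.pU = (ιP ≫ G.s) ≫ G.pU
    rw [Category.assoc, Category.assoc, G.t_over, G.s_over]
  let pY : Y ⟶ S := hcol.desc (Cofork.ofπ G.pU hw)
  have hpY : p ≫ pY = G.pU := hcol.fac (Cofork.ofπ G.pU hw) WalkingParallelPair.one
  -- descent of the scheme of arrows
  have := Groth.Agent.Lib.T2H7.SubGrpd.flat_pp (G := G) hpY
  have := Groth.Agent.Lib.T2H7.SubGrpd.surjective_pp (G := G) hpY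
  have := Groth.Agent.Lib.T2H7.SubGrpd.lfp_pp (G := G) hpY
  let D := Groth.Agent.Lib.T2H7.SubGrpd.dd eP he cP hc hpb hpY
  have : IsSeparated D.obj.hom := (inferInstance : IsSeparated G.j)
  have : LocallyQuasiFinite D.obj.hom := (inferInstance : LocallyQuasiFinite G.j)
  have : LocallyOfFiniteType D.obj.hom := (inferInstance : LocallyOfFiniteType G.j)
  obtain ⟨Rb, ⟨Θ⟩⟩ := Groth.Agent.S9726.result (Groth.Agent.Lib.T2H7.SubGrpd.pp (G := G) hpY) D
  refine ⟨Groth.Agent.Lib.T2H7.SubGrpd.quotGrpd eP he iP hi cP hc hpb hpY Rb Θ,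
    Groth.Agent.Lib.T2H7.SubGrpd.quotHom eP he iP hi cP hc hpb hpY Rb Θ, ?_, ?_, hfin, hflat, hlfp,
    hpb, Groth.Agent.Lib.T2H7.SubGrpd.isPullback_quotHom eP he iP hi cP hc hpb hpY Rb Θ⟩
  · exact haff (inferInstance : IsAffine G.U)
  · refine Groth.Agent.Lib.Helper12.QuotShLib.isQuotient_of_isKernelPair _ _ _ _ ?_ ?_
    · exact IsPullback.of_map (Over.forget S) (Over.OverMorphism.ext hpb.flip.w) hpb.flip
    · exact Scheme.Hom.singleton_mem_fppfPrecoverage p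

end Groth.Agent.S10140
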