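import Groth.Statements.S10141
import Groth.Agent.Lib.T2H1QuotOpen
import Groth.Agent.Lib.Helper18Grpd1

set_option autoImplicit false
universe u
open CategoryTheory CategoryTheory.Limits AlgebraicGeometry
open AlgSp

namespace Groth.Agent.S10141


open Groth.Agent.Lib.T2H1.QuotOpen Groth.Agent.Lib.T2H1.RepIso Groth.Agent.S9870

variable {S : Scheme.{u}}

/-- a groupoid scheme gives a pre-equivalence relation on `T`-points. -/
lemma isPreEqv_grpd (G : Grpd.GroupoidScheme S) :
    IsPreEqv (Over.homMk G.s G.s_over : Over.mk G.pR ⟶ Over.mk G.pU)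
      (Over.homMk G.t G.t_over : Over.mk G.pR ⟶ Over.mk G.pU) := by
  intro T
  refine ⟨fun a => ?_, fun {a b} hab => ?_, fun {a b c} hab hbc => ?_⟩
  · have hw : (a.left ≫ G.e) ≫ G.pR = T.hom := by
      rw [← G.t_over, Category.assoc, ← Category.assoc G.e, G.e_t, Category.id_comp]
      exact Over.w a
    refine ⟨Over.homMk (a.left ≫ G.e) hw, ?_, ?_⟩
    · ext1
      simp only [Over.comp_left, Over.homMk_left, Category.assoc, G.e_t]
      exact Category.comp_id _
    · ext1
      simp only [Over.comp_left, Over.homMk_left, Category.assoc, G.e_s]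
      exact Category.comp_id _
  · obtain ⟨ρ, rfl, rfl⟩ := hab
    have hi : G.i ≫ G.pR = G.pR := by
      rw [← G.s_over, ← Category.assoc, G.i_s, G.t_over, G.s_over]
    have hw : (ρ.left ≫ G.i) ≫ G.pR = T.hom := by
      rw [Category.assoc, hi]
      exact Over.w ρ
    refine ⟨Over.homMk (ρ.left ≫ G.i) hw, ?_, ?_⟩
    · ext1
      simp only [Over.comp_left, Over.homMk_left, Category.assoc, G.i_t]
    · ext1
      simp only [Over.comp_left, Over.homMk_left, Category.assoc, G.i_s]
  · obtain ⟨ρ1, rfl, rfl⟩ := hab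
    obtain ⟨ρ2, h2, rfl⟩ := hbc
    have h : ρ1.left ≫ G.s = ρ2.left ≫ G.t := by
      have := congrArg (fun m => m.left) h2
      simp only [Over.comp_left, Over.homMk_left] at this
      exact this.symm
    have hw : Groth.Agent.Helper18Grpd.cmp G ρ1.left ρ2.left h ≫ G.pR = T.hom := by
      have h3 : Groth.Agent.Helper18Grpd.cmp G ρ1.left ρ2.left h ≫ G.t ≫ G.pU =
          ρ1.left ≫ G.t ≫ G.pU := by
        rw [← Category.assoc, Groth.Agent.Helper18Grpd.cmp_t, Category.assoc]
      rw [G.t_over] at h3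
      rw [h3]
      exact Over.w ρ1
    refine ⟨Over.homMk (Groth.Agent.Helper18Grpd.cmp G ρ1.left ρ2.left h) hw, ?_, ?_⟩
    · ext1
      simp only [Over.comp_left, Over.homMk_left]
      exact Groth.Agent.Helper18Grpd.cmp_t _ _ _
    · ext1
      simp only [Over.comp_left, Over.homMk_left]
      exact Groth.Agent.Helper18Grpd.cmp_s _ _ _

/-- Let `(U, R, s, t, c)` be a groupoid scheme over `S` and `g : U' ⟶ U` a morphism such that the
composite `h : U' ×_{g, U, t} R ⟶ R ⟶ U` of the projection with `s` has open image `W ⊂ U` and `h :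
U' ×_{g, U, t} R ⟶ W` is a surjection of fppf sheaves. Then for the restriction `R' = R|_{U'}` the
map of fppf quotient sheaves `U'/R' ⟶ U/R` is representable and an open immersion. -/
theorem result (S : Scheme.{u}) (G : Grpd.GroupoidScheme S)
    (U' : Scheme.{u}) (g : U' ⟶ G.U) (W : G.U.Opens)
    (hW : (W : Set ↥G.U) = Set.range ⇑(pullback.snd g G.t ≫ G.s))
    (hlift : pullback g G.t ⟶ ↑W) (hh : hlift ≫ W.ι = pullback.snd g G.t ≫ G.s)
    (hsurj : Sheaf.IsLocallySurjective ((AlgSp.yon S).map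
      (Over.homMk hlift ((Category.assoc _ _ _).symm.trans (congrArg (· ≫ G.pU) hh)) :
        Over.mk ((pullback.snd g G.t ≫ G.s) ≫ G.pU) ⟶ Over.mk (W.ι ≫ G.pU))))
    (R' : Over S) (s' t' : R' ⟶ Over.mk (g ≫ G.pU)) (r : R' ⟶ Over.mk G.pR)
    (hsq : IsPullback (prod.lift t' s') r
      (prod.map (Over.homMk g rfl : Over.mk (g ≫ G.pU) ⟶ Over.mk G.pU) (Over.homMk g rfl : Over.mk (g ≫ G.pU) ⟶ Over.mk G.pU))
      (prod.lift (Over.homMk G.t G.t_over : Over.mk G.pR ⟶ Over.mk G.pU) (Over.homMk G.s G.s_over : Over.mk G.pR ⟶ Over.mk G.pU)))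
    (ψ : QuotSh.quot Scheme.fppfPrecoverage s' t' ⟶
      QuotSh.quot Scheme.fppfPrecoverage (Over.homMk G.s G.s_over : Over.mk G.pR ⟶ Over.mk G.pU) (Over.homMk G.t G.t_over : Over.mk G.pR ⟶ Over.mk G.pU))
    (hψ : QuotSh.quotπ Scheme.fppfPrecoverage s' t' ≫ ψ =
      QuotSh.repMap Scheme.fppfPrecoverage (Over.homMk g rfl : Over.mk (g ≫ G.pU) ⟶ Over.mk G.pU) ≫ QuotSh.quotπ Scheme.fppfPrecoverage _ _) :
    AlgSp.RepWith @IsOpenImmersion ψ := by
  have hψ' : qmap s' t' ≫ ψ = (AlgSp.yon S).map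
      (Over.homMk g rfl : Over.mk (g ≫ G.pU) ⟶ Over.mk G.pU) ≫ qmap _ _ := by
    rw [qmap_eq, qmap_eq, Category.assoc, hψ, ← Category.assoc, repIso_inv_naturality,
      Category.assoc]
  refine repWith_isOpenImmersion _ _ _ s' t' r hsq (isPreEqv_grpd G) ψ hψ' W ?_ ?_
  · intro T1 ρ a' hρ
    rintro _ ⟨y, rfl⟩
    have h1 : g (a'.left y) = G.t (ρ.left y) := by
      have := congrArg (fun m => m.left y) hρ
      simp only [Over.comp_left, Over.homMk_left, Scheme.Hom.comp_apply] at this
      exact this.symm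
    obtain ⟨q, hq1, hq2⟩ := Scheme.Pullback.exists_preimage_pullback (f := g) (g := G.t)
      (a'.left y) (ρ.left y) h1
    change _ ∈ (W : Set G.U)
    rw [hW]
    refine ⟨q, ?_⟩
    simp only [Over.comp_left, Over.homMk_left, Scheme.Hom.comp_apply]
    rw [hq2]
  · intro T a ha
    have hrange : Set.range a.left ⊆ Set.range W.ι := by
      rw [Scheme.Opens.range_ι]
      exact ha
    let a0l : T.left ⟶ (W : Scheme.{u}) := IsOpenImmersion.lift W.ι a.left hrange
    have ha0l : a0l ≫ W.ι = a.left := IsOpenImmersion.lift_fac _ _ _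
    let a0 : T ⟶ Over.mk (W.ι ≫ G.pU) := Over.homMk a0l (by
      simp only [Over.mk_hom]
      rw [← Category.assoc, ha0l]
      exact Over.w a)
    haveI := hsurj
    obtain ⟨Rc, hRc, hl⟩ := Groth.Agent.S9884.exists_fppf_lift
      ((AlgSp.yon S).map (Over.homMk hlift ((Category.assoc _ _ _).symm.trans
        (congrArg (· ≫ G.pU) hh)) :
        Over.mk ((pullback.snd g G.t ≫ G.s) ≫ G.pU) ⟶ Over.mk (W.ι ≫ G.pU)))
      ((AlgSp.yon S).map a0)
    refine ⟨Rc, hRc, fun V g1 hg1 => ?_⟩
    obtain ⟨d, hd⟩ := hl g1 hg1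
    obtain ⟨d0, rfl⟩ := (AlgSp.yon S).map_surjective d
    rw [← Functor.map_comp, ← Functor.map_comp] at hd
    have hd' := (AlgSp.yon S).map_injective hd
    have hdl : d0.left ≫ hlift = g1 ≫ a0l := by
      have := congrArg (fun m => m.left) hd'
      exact this
    have hd0w : d0.left ≫ (pullback.snd g G.t ≫ G.s) ≫ G.pU = g1 ≫ T.hom := Over.w d0
    refine ⟨Over.homMk (d0.left ≫ pullback.snd g G.t) ?_,
      Over.homMk (d0.left ≫ pullback.fst g G.t) ?_, ?_, ?_⟩
    · simp only [Over.mk_hom]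
      refine Eq.trans ?_ hd0w
      rw [← G.s_over]
      simp only [Category.assoc]
    · simp only [Over.mk_hom]
      refine Eq.trans ?_ hd0w
      simp only [Category.assoc]
      rw [pullback.condition_assoc, G.t_over, G.s_over]
    · ext1
      simp only [Over.comp_left, Over.homMk_left, Category.assoc]
      rw [pullback.condition]
    · ext1
      simp only [Over.comp_left, Over.homMk_left, Category.assoc]
      calc d0.left ≫ pullback.snd g G.t ≫ G.s = d0.left ≫ hlift ≫ W.ι := by rw [hh]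
        _ = (g1 ≫ a0l) ≫ W.ι := by rw [← Category.assoc, hdl]
        _ = g1 ≫ a.left := by rw [Category.assoc, ha0l]

end Groth.Agent.S10141
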