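import Groth.Statements.S10143
import Mathlib
import Groth.Agent.Lib.T2H1GrpLocus
import Groth.Agent.S10312

set_option autoImplicit false
universe u
open CategoryTheory CategoryTheory.Limits AlgebraicGeometry MonoidalCategory MonObj
open AlgSp

namespace Groth.Agent.S10143

/-- Let `G` be a group algebraic space over an algebraic space `B` with `G ⟶ B` locally of finite type.
Then there is a largest open subspace `W ⊂ B` such that `G_W ⟶ W` is unramified, and its formation
commutes with base change along any morphism of algebraic spaces `B' ⟶ B`. -/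
theorem result (S : Scheme.{u}) (B : AlgSp.Sp S) (hB : AlgSp.IsAlgSpace B)
    (G : Over B) [GrpObj G] (hG : AlgSp.IsAlgSpace G.left) (hlft : AlgSp.LocP @LocallyOfFiniteType G.hom) :
    ∃ (W : AlgSp.Sp S) (w : W ⟶ B), AlgSp.RepWith @IsOpenImmersion w ∧
      (∀ (W' : AlgSp.Sp S) (w' : W' ⟶ B), AlgSp.RepWith @IsOpenImmersion w' →
        (AlgSp.LocP (@LocallyOfFiniteType ⊓ @FormallyUnramified) (pullback.snd G.hom w') ↔ ∃ k : W' ⟶ W, k ≫ w = w')) ∧
      (∀ (B' : AlgSp.Sp S), AlgSp.IsAlgSpace B' → ∀ (f : B' ⟶ B) (W'' : AlgSp.Sp S) (w'' : W'' ⟶ B'),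
        AlgSp.RepWith @IsOpenImmersion w'' →
        (AlgSp.LocP (@LocallyOfFiniteType ⊓ @FormallyUnramified) (pullback.snd (pullback.snd G.hom f) w'') ↔
          ∃ k : W'' ⟶ pullback w f, k ≫ pullback.snd w f = w'')) := by
  have hBC : Groth.Agent.Lib.T2H1.GrpLocus.BC G (Groth.Agent.Lib.T2H1.GrpLocus.near
      (@LocallyOfFiniteType ⊓ @FormallyUnramified : MorphismProperty Scheme.{u})) := by
    intro Y'' X'' hY'' hX'' g b f'' sq x''
    have h4 := (Groth.Agent.S10312.result (X := ⟨G.left, hG⟩) (Y := ⟨B, hB⟩) (Z := ⟨B, hB⟩)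
      (Z' := ⟨Y'', hY''⟩) (Y' := ⟨Y'', hY''⟩) (X' := ⟨X'', hX''⟩)
      (ObjectProperty.homMk G.hom) (ObjectProperty.homMk G.hom) (𝟙 _) (Category.comp_id _) hlft
      (ObjectProperty.homMk g) (ObjectProperty.homMk g) (𝟙 _)
      (IsPullback.of_vert_isIso ⟨by simp⟩)
      (ObjectProperty.homMk b) (ObjectProperty.homMk f'') sq).2
    exact Set.ext_iff.1 h4 x''
  exact Groth.Agent.Lib.T2H1.GrpLocus.main G _
    Groth.Agent.Lib.Helper12.LocPCases.good_unram hB hG hBC

end Groth.Agent.S10143
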