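import Groth.Statements.S10313
import Mathlib
import Groth.Agent.Lib.T2H1ChartBC
import Groth.Agent.Lib.Helper3GrpHomQF
import Groth.Agent.Lib.Helper3FlatFibDim
import Groth.Agent.Lib.Helper7TopDim
import Groth.Agent.Lib.Helper12OpenSub
import Groth.Agent.Lib.Helper12OpenSub2
import Groth.Agent.S0402
import Groth.Agent.S10308

set_option autoImplicit false
universe u
open CategoryTheory CategoryTheory.Limits AlgebraicGeometry
open AlgSp

namespace Groth.Agent.S10313

open Groth.Agent.Lib.Helper12 Groth.Agent.Lib.Helper12.LocPCases in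
/-- the quasi-finite locus as a set of points. -/
lemma aux_not_le_zero (d : WithBot ℕ∞) (h : ¬ d ≤ 0) : 1 ≤ d := by
  induction d using WithBot.recBotCoe with
  | bot => exact absurd bot_le h
  | coe e =>
    have h' : ¬ e ≤ 0 := fun he => h (by exact_mod_cast he)
    have : 1 ≤ e := Order.one_le_iff_pos.2 (lt_of_not_ge h')
    exact_mod_cast this

/-- For f locally of finite type there is an open subspace of X on which f is locally quasi-finite,
outside of which the relative dimension is at least 1, and whose formation commutes with base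
change. -/
theorem result {S : Scheme.{u}} {X Y : AlgSp.Space S} (f : X ⟶ Y)
    (hf : AlgSp.LocP @LocallyOfFiniteType f.hom) :
    ∃ (X' : AlgSp.Space S) (j : X' ⟶ X), AlgSp.RepWith @IsOpenImmersion j.hom ∧
      AlgSp.LocP (@LocallyQuasiFinite ⊓ @LocallyOfFiniteType) (j ≫ f).hom ∧
      (∀ x : AlgSp.Points X.obj, x ∉ Set.range (AlgSp.Points.map j.hom) →
        AlgSp.HasAtMor (fun _ _ h u => 1 ≤ FlatMor.fibreDimAt h u) f.hom x) ∧
      ∀ (Y'' X'' : AlgSp.Space S) (g : Y'' ⟶ Y) (b : X'' ⟶ X) (f'' : X'' ⟶ Y''),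
        IsPullback b.hom f''.hom f.hom g.hom → ∀ x'' : AlgSp.Points X''.obj,
          AlgSp.Points.map b.hom x'' ∈ Set.range (AlgSp.Points.map j.hom) ↔ AlgSp.HasAtMor (fun U _ h u => ∃ W : U.Opens, u ∈ W ∧ LocallyQuasiFinite (W.ι ≫ h) ∧ LocallyOfFiniteType (W.ι ≫ h)) f''.hom x'' := by
  classical
  have hopen : IsOpen {x : AlgSp.Points X.obj |
      AlgSp.HasAtMor (fun _ _ h u => FlatMor.fibreDimAt h u ≤ ((0 : ℕ) : WithBot ℕ∞)) f.hom x} :=
    Groth.Agent.S10308.result f hf 0
  set Wset : Set (AlgSp.Points X.obj) := {x : AlgSp.Points X.obj |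
      AlgSp.HasAtMor (fun _ _ h u => FlatMor.fibreDimAt h u ≤ ((0 : ℕ) : WithBot ℕ∞)) f.hom x}
    with hWset
  have hetinv := Groth.Agent.Lib.T2H1.HasAt.etInv_fibreDim.{u}
    (fun d => d ≤ ((0 : ℕ) : WithBot ℕ∞))
  have hXW : AlgSp.IsAlgSpace (Groth.Agent.Lib.Helper12.OpenSub.obj X.obj Wset) :=
    Groth.Agent.Lib.Helper12.OpenSub.isAlgSpace_obj X.property hopen
  have hincl : AlgSp.RepWith @IsOpenImmersion (Groth.Agent.Lib.Helper12.OpenSub.incl X.obj Wset) :=
    Groth.Agent.Lib.Helper12.OpenSub.repWith_incl hopen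
  have hrange := Groth.Agent.Lib.Helper12.OpenSub.range_map_incl (X := X.obj) Wset
  have hinclE : AlgSp.RepWith @Etale (Groth.Agent.Lib.Helper12.OpenSub.incl X.obj Wset) :=
    Groth.Agent.Lib.Helper12.OpenSub.repWith_mono (P := @IsOpenImmersion) (P' := @Etale)
      (fun _ _ g hg => by haveI : IsOpenImmersion g := hg; infer_instance) hincl
  refine ⟨⟨_, hXW⟩, ObjectProperty.homMk (Groth.Agent.Lib.Helper12.OpenSub.incl X.obj Wset),
    hincl, ?_, ?_, ?_⟩
  · -- locally quasi-finite on the open subspace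
    intro U V a b h ha hb hc
    have ha' : AlgSp.RepWith @Etale (a ≫ Groth.Agent.Lib.Helper12.OpenSub.incl X.obj Wset) :=
      (AlgSp.RepWith @Etale).comp_mem _ _ ha hinclE
    have hc' : (a ≫ Groth.Agent.Lib.Helper12.OpenSub.incl X.obj Wset) ≫ f.hom =
        (AlgSp.yon S).map h ≫ b := by
      rw [Category.assoc]; exact hc
    haveI : LocallyOfFiniteType h.left := hf _ b h ha' hb hc'
    refine ⟨?_, inferInstance⟩
    rw [Groth.Agent.Lib.Helper3.GrpHomQF.locallyQuasiFinite_iff_forall_fibreDimAt_le_zero]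
    intro u
    have hmem : AlgSp.Points.ofPt (a ≫ Groth.Agent.Lib.Helper12.OpenSub.incl X.obj Wset) u ∈
        Wset := by
      have h0 : AlgSp.Points.ofPt (a ≫ Groth.Agent.Lib.Helper12.OpenSub.incl X.obj Wset) u ∈
          Set.range (AlgSp.Points.map (Groth.Agent.Lib.Helper12.OpenSub.incl X.obj Wset)) := by
        rw [← AlgSp.Points.map_ofPt]
        exact ⟨_, rfl⟩
      rw [hrange] at h0
      exact h0
    have := Groth.Agent.Lib.T2H1.HasAt.of_hasAtMor hetinv f.hom _ hmem _ b h ha' hb hc' u rfl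
    simpa using this
  · -- outside: fibre dimension at least one
    intro x hx
    obtain ⟨U, V, a, b, h, u, ha, hb, hc, hu⟩ :=
      Groth.Agent.Lib.Helper12.LocPNbhd.exists_chart X.property Y.property f.hom x
    refine ⟨U, V, a, b, h, u, ha, hb, hc, hu, aux_not_le_zero _ ?_⟩
    intro hle
    apply hx
    change x ∈ Set.range (AlgSp.Points.map (Groth.Agent.Lib.Helper12.OpenSub.incl X.obj Wset))
    rw [hrange]
    exact ⟨U, V, a, b, h, u, ha, hb, hc, hu, by simpa using hle⟩
  · -- base change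
    intro Y'' X'' g b f'' sq x''
    change AlgSp.Points.map b.hom x'' ∈
      Set.range (AlgSp.Points.map (Groth.Agent.Lib.Helper12.OpenSub.incl X.obj Wset)) ↔ _
    rw [hrange]
    have hbc := Groth.Agent.Lib.T2H1.ChartBC.hasAtMor_fibreDim_baseChange_iff
      (fun d => d ≤ ((0 : ℕ) : WithBot ℕ∞)) X.property Y.property Y''.property sq hf x''
    have hf'' : AlgSp.LocP @LocallyOfFiniteType f''.hom :=
      Groth.Agent.Lib.Helper12.LocPCases.good_lft.locP_baseChange X.property Y.property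
        Y''.property sq hf
    change AlgSp.HasAtMor (fun _ _ h u => FlatMor.fibreDimAt h u ≤ ((0 : ℕ) : WithBot ℕ∞)) f.hom
      (AlgSp.Points.map b.hom x'') ↔ _
    rw [← hbc]
    constructor
    · rintro ⟨U, V, a, b', h, u, ha, hb', hc, hu, hQ⟩
      haveI : LocallyOfFiniteType h.left := hf'' a b' h ha hb' hc
      let W : U.left.Opens := ⟨{u' : ↥U.left | FlatMor.fibreDimAt h.left u' ≤ ((0 : ℕ) : WithBot ℕ∞)},
        Groth.Agent.S0402.result h.left 0⟩
      refine ⟨U, V, a, b', h, u, ha, hb', hc, hu, W, hQ, ?_, inferInstance⟩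
      rw [Groth.Agent.Lib.Helper3.GrpHomQF.locallyQuasiFinite_iff_forall_fibreDimAt_le_zero]
      intro w
      rw [Groth.Agent.Lib.Helper3.FlatFibDim.fibreDimAt_comp_of_isOpenImmersion]
      have h2 : FlatMor.fibreDimAt h.left w.1 ≤ ((0 : ℕ) : WithBot ℕ∞) := w.2
      simpa using h2
    · rintro ⟨U, V, a, b', h, u, ha, hb', hc, hu, W, huW, hlqf, hlft⟩
      refine ⟨U, V, a, b', h, u, ha, hb', hc, hu, ?_⟩
      haveI := hlqf
      haveI := hlft
      have h1 := (Groth.Agent.Lib.Helper3.GrpHomQF.locallyQuasiFinite_iff_forall_fibreDimAt_le_zero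
        (W.ι ≫ h.left)).1 inferInstance ⟨u, huW⟩
      rw [Groth.Agent.Lib.Helper3.FlatFibDim.fibreDimAt_comp_of_isOpenImmersion] at h1
      simpa using h1

end Groth.Agent.S10313
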