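import Groth.Statements.S1015
import Groth.Agent.Lib.T2H2QcRpushC
import Groth.Agent.Lib.T2H1MVTri

set_option autoImplicit false
universe u
open CategoryTheory CategoryTheory.Limits AlgebraicGeometry
attribute [local instance] HasDerivedCategory.standard
open Perf

namespace Groth.Agent.S1015

attribute [local instance] Groth.Agent.Lib.T2H1.RpushSupport.hasRpush

open CategoryTheory CategoryTheory.Limits AlgebraicGeometry in
/-- the relative Mayer–Vietoris triangle, in the form used by `T2H2.QcRpush`. -/
theorem relMV : Groth.Agent.Lib.T2H2.QcRpush.RelMV.{u} :=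
  fun f U V hUV E => Groth.Agent.Lib.T2H1.MVTri.exists_relative_mv_triangle U V hUV f E

/-- Let U ⊆ X be an open subscheme whose inclusion is quasi-compact. Every object F of D(O_U) with
quasi-coherent cohomology sheaves is the restriction of such an object on X: there is a complex G of
O_X-modules with quasi-coherent cohomology sheaves whose termwise restriction to U is isomorphic to
F in D(O_U). -/
theorem result (X : Scheme.{u}) (U : X.Opens) [QuasiCompact U.ι]
    (F : DCoh.D (U : Scheme.{u})) (hF : DCoh.IsQCohD F) :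
    ∃ G : CochainComplex X.Modules ℤ, DCoh.IsQCohD (DCoh.toD X G) ∧
      Nonempty (DerivedCategory.Q.obj ((DCoh.restrictCx U).obj G) ≅ F) := by
  obtain ⟨I, hI, -, ⟨e⟩⟩ := Groth.Agent.Lib.T2H1.MVTri.exists_rep F
  obtain ⟨β, hβ⟩ := Groth.Agent.Lib.T2H1.MVTri.exists_unit_Rpush U.ι
  haveI := hI
  refine ⟨((Scheme.Modules.pushforward U.ι).mapHomologicalComplex (ComplexShape.up ℤ)).obj I,
    ?_, ⟨?_⟩⟩
  · refine Groth.Agent.Lib.T2H2.LpullQCoh.isQCohD_of_iso
      (Groth.Agent.Lib.T2H1.SESTriangle.objIso₀.{u} (Scheme.Modules.pushforward U.ι)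
        (DCoh.Rpush U.ι) β I e) ?_
    exact Groth.Agent.Lib.T2H2.QcRpush.isQCohD_Rpush_of_qcqs relMV U.ι F hF
  · exact DerivedCategory.Q.mapIso
      ((NatIso.mapHomologicalComplex (Scheme.Modules.restrictFunctorAdjCounitIso U.ι)
        (ComplexShape.up ℤ)).app I ≪≫
        (Functor.mapHomologicalComplexIdIso _ (ComplexShape.up ℤ)).app I) ≪≫ e.symm

end Groth.Agent.S1015
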