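import Groth.Statements.S10198
import Groth.Agent.Lib.T2H1ZarCharts
import Groth.Agent.S10182
import Groth.Agent.S9920
import Groth.Agent.S10509

set_option autoImplicit false
universe u
open CategoryTheory CategoryTheory.Limits AlgebraicGeometry Topology TopologicalSpace
open AlgSp

namespace Groth.Agent.S10198

open Groth.Agent.Lib.T2H1.ZarCharts

variable {S : Scheme.{u}}

/-- affine opens of `V` lying over affine opens of `S` cover `V`. -/
lemma exists_affine_over_affine (V : Over S) (v : ↥V.left) :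
    ∃ W : V.left.Opens, IsAffineOpen W ∧ v ∈ W ∧
      ∃ O : S.Opens, IsAffineOpen O ∧ W ≤ V.hom ⁻¹ᵁ O := by
  obtain ⟨_, ⟨O, hO, rfl⟩, hvO, -⟩ :=
    (S.isBasis_affineOpens).exists_subset_of_mem_open (Set.mem_univ (V.hom v)) isOpen_univ
  have hv : v ∈ (V.hom ⁻¹ᵁ O : V.left.Opens) := hvO
  obtain ⟨_, ⟨W, hW, rfl⟩, hvW, hWO⟩ :=
    (V.left.isBasis_affineOpens).exists_subset_of_mem_open hv (V.hom ⁻¹ᵁ O).isOpen
  exact ⟨W, hW, hvW, O, hO, hWO⟩

/-- the self-product over `S` of an affine scheme lying over an affine open of `S` is compact. -/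
lemma compactSpace_prod_self (U : Over S) [IsAffine U.left] (O : S.Opens) (hO : IsAffineOpen O)
    (h : Set.range U.hom ⊆ (O : Set ↥S)) : CompactSpace ↥(U ⨯ U).left := by
  haveI : IsAffine (O : Scheme.{u}) := hO
  let g : U.left ⟶ (O : Scheme.{u}) := IsOpenImmersion.lift O.ι U.hom (by
    rw [Scheme.Opens.range_ι]; exact h)
  have hg : g ≫ O.ι = U.hom := IsOpenImmersion.lift_fac _ _ _
  have sq : IsPullback (pullback.fst g g) (pullback.snd g g) U.hom U.hom := by
    have := (isPullback_comp_mono_iff (pullback.fst g g) (pullback.snd g g) g g O.ι).2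
      (IsPullback.of_hasPullback g g)
    rwa [hg] at this
  haveI : CompactSpace ↥(pullback g g) := inferInstance
  haveI : CompactSpace ↥(pullback U.hom U.hom) :=
    QuasiCompact.compactSpace_of_compactSpace sq.isoPullback.inv
  exact QuasiCompact.compactSpace_of_compactSpace (Over.prodLeftIsoPullback U U).hom

/-- (1) if and only if (3): for an algebraic space X over a scheme S, X is Zariski locally
quasi-separated over S (it has a Zariski covering by open subspaces whose diagonals over S are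
quasi-compact) if and only if X has a Zariski covering by open subspaces each of which admits a
quasi-compact, etale, surjective map from an affine scheme. Since the second condition does not
mention S, being Zariski locally quasi-separated does not depend on the base. -/
theorem result {S : Scheme.{u}} (X : AlgSp.Space S) :
    (∃ (ι : Type u) (Xi : ι → AlgSp.Space S) (j : ∀ i, Xi i ⟶ X),
        AlgSp.IsZarCover (fun i => (Xi i).obj) (fun i => (j i).hom) ∧ ∀ i, AlgSp.IsQuasiSeparatedSp (Xi i).obj) ↔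
      (∃ (ι : Type u) (Xi : ι → AlgSp.Space S) (j : ∀ i, Xi i ⟶ X),
        AlgSp.IsZarCover (fun i => (Xi i).obj) (fun i => (j i).hom) ∧
          ∀ i, ∃ (U : Over S) (p : (AlgSp.yon S).obj U ⟶ (Xi i).obj), IsAffine U.left ∧
            AlgSp.RepWith @QuasiCompact p ∧ AlgSp.RepWith @Etale p ∧ AlgSp.RepWith @Surjective p) := by
  constructor
  · rintro ⟨ι, Xi, j, ⟨hjo, hjs⟩, hqs⟩
    classical
    -- atlases of the members
    have hatl : ∀ i, ∃ (V : Over S) (q : (AlgSp.yon S).obj V ⟶ (Xi i).obj),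
        AlgSp.RepWith @Etale q ∧ AlgSp.RepWith @Surjective q := fun i => (Xi i).property.atlas
    choose V q hqe hqs' using hatl
    let ι' : Type u := Σ i : ι, {W : (V i).left.Opens //
      IsAffineOpen W ∧ ∃ O : S.Opens, IsAffineOpen O ∧ W ≤ (V i).hom ⁻¹ᵁ O}
    let U : ι' → Over S := fun k => Over.mk (k.2.1.ι ≫ (V k.1).hom)
    let m : ∀ k : ι', U k ⟶ V k.1 := fun k => Over.homMk k.2.1.ι rfl
    let φ : ∀ k : ι', (AlgSp.yon S).obj (U k) ⟶ X.obj := fun k =>
      ((AlgSp.yon S).map (m k) ≫ q k.1) ≫ (j k.1).hom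
    have hUaff : ∀ k : ι', IsAffine (U k).left := fun k => k.2.2.1
    have hma : ∀ k : ι', AlgSp.RepWith @Etale ((AlgSp.yon S).map (m k) ≫ q k.1) := fun k =>
      (AlgSp.RepWith @Etale).comp_mem _ _
        ((AlgSp.repWith_yon_map_iff _ _).2 (by
          show Etale k.2.1.ι
          infer_instance)) (hqe k.1)
    have hφ : ∀ k, AlgSp.RepWith @Etale (φ k) := fun k =>
      (AlgSp.RepWith @Etale).comp_mem _ _ (hma k)
        (Groth.Agent.Lib.Helper12.OpenSub.repWith_mono
          (fun _ _ g hg => by haveI : IsOpenImmersion g := hg; infer_instance) (hjo k.1))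
    have hsurj : ∀ x : AlgSp.Points X.obj, ∃ (k : ι') (v : ↥(U k).left),
        AlgSp.Points.ofPt (φ k) v = x := by
      intro x
      obtain ⟨i, x', rfl⟩ := hjs x
      obtain ⟨v, rfl⟩ := Groth.Agent.S10177.surjective_ofPt (q i) (hqs' i) x'
      obtain ⟨W, hW, hvW, hO⟩ := exists_affine_over_affine (V i) v
      refine ⟨⟨i, ⟨W, hW, hO⟩⟩, ⟨v, hvW⟩, ?_⟩
      show AlgSp.Points.ofPt (((AlgSp.yon S).map (m ⟨i, ⟨W, hW, hO⟩⟩) ≫ q i) ≫ (j i).hom) _ = _
      rw [← AlgSp.Points.map_ofPt, Groth.Agent.S10509.ofPt_yon_map_comp]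
      rfl
    have hqc : ∀ (k : ι') (R : Over S) (s t : R ⟶ U k),
        IsPullback ((AlgSp.yon S).map t) ((AlgSp.yon S).map s) (φ k) (φ k) →
          QuasiCompact s.left ∧ QuasiCompact t.left := by
      intro k R s t sq
      haveI : Mono (j k.1).hom := Groth.Agent.Lib.Helper12.LargestOpen.mono_of_open _ (hjo k.1)
      have sq' := (isPullback_comp_mono_iff _ _ ((AlgSp.yon S).map (m k) ≫ q k.1)
        ((AlgSp.yon S).map (m k) ≫ q k.1) (j k.1).hom).1 sq
      have hqcl : QuasiCompact (prod.lift t s).left :=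
        Groth.Agent.S9920.property_of_repWith_diag (hqs k.1) sq'
      haveI := hUaff k
      obtain ⟨O, hO, hWO⟩ := k.2.2.2
      haveI : CompactSpace ↥(U k ⨯ U k).left := by
        refine compactSpace_prod_self (U k) O hO ?_
        rintro _ ⟨w, rfl⟩
        exact hWO w.2
      haveI : CompactSpace ↥R.left :=
        QuasiCompact.compactSpace_of_compactSpace (prod.lift t s).left
      exact ⟨inferInstance, inferInstance⟩
    obtain ⟨Xi', j', a, hcov, ha⟩ := exists_zarCover_of_charts X U φ hφ hsurj hqc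
    exact ⟨ι', Xi', j', hcov, fun k => ⟨U k, a k, hUaff k, (ha k).2.2.2, (ha k).2.1, (ha k).2.2.1⟩⟩
  · rintro ⟨ι, Xi, j, hcov, hch⟩
    refine ⟨ι, Xi, j, hcov, fun i => ?_⟩
    obtain ⟨U, p, hU, hpq, hpe, hps⟩ := hch i
    obtain ⟨R, w, pr', sq⟩ := hpe.1 p
    obtain ⟨t, rfl⟩ := (AlgSp.yon S).map_surjective pr'
    haveI : QuasiCompact w.left := hpq.2 _ _ _ sq
    haveI := hU
    exact Groth.Agent.S10182.result (Xi i) p hpe hps t w sq.flip

end Groth.Agent.S10198
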