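import Groth.Statements.S10350
import Groth.Agent.Lib.T2H1FieldQuotE
import Groth.Agent.S10177

set_option autoImplicit false
universe u
open CategoryTheory CategoryTheory.Limits AlgebraicGeometry Topology TopologicalSpace
open AlgSp

namespace Groth.Agent.S10350

open Groth.Agent.Lib.T2H1.FieldQuot in
/-- a quasi-separated algebraic space is decent. -/
theorem isDecent_of_isQuasiSeparatedSp {S : Scheme.{u}} {X : AlgSp.Sp S} (hXa : AlgSp.IsAlgSpace X)
    (hX : AlgSp.IsQuasiSeparatedSp X) : AlgSp.IsDecent X := by
  intro x
  obtain ⟨U, a, hae, has⟩ := hXa.atlas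
  obtain ⟨u, rfl⟩ := Groth.Agent.S10177.surjective_ofPt a has x
  let q : AlgSp.FieldPt X := AlgSp.FieldPt.ofPt a u
  let ι : q.pt ⟶ U := Over.homMk (U.left.fromSpecResidueField u) rfl
  have hq : q.toHom = (AlgSp.yon S).map ι ≫ a := AlgSp.FieldPt.toHom_ofPt a u
  obtain ⟨R, t, pr, sq⟩ := hXa.representable_from_yon q.toHom q.toHom
  obtain ⟨s, rfl⟩ := (AlgSp.yon S).map_surjective pr
  haveI : Mono ι.left := (inferInstance : Mono (U.left.fromSpecResidueField u))
  haveI : Etale t.left := by
    have sq' := sq.flip
    rw [hq] at sq'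
    exact etale_of_mono_factor a hae q.K q.str ι t s sq'
  haveI : CompactSpace ↥q.pt.left := (inferInstance : CompactSpace ↥(Spec (CommRingCat.of q.K)))
  haveI : QuasiCompact q.pt.hom := quasiCompact_of_field q.K q.str
  haveI : CompactSpace ↥R.left := compactSpace_of_isQuasiSeparatedSp hX q.toHom s t sq
  obtain ⟨C, hC, str', c₀, p, h1, h2, -⟩ := exists_mono_of_etale_compact q.K q.str q.toHom s t sq
  refine ⟨fieldPtOfHom C str' p, ?_, ?_, ?_⟩
  · rw [mk_fieldPtOfHom_eq q.K C q.str str' c₀ q.toHom p h1, fieldPtOfHom_toHom_self]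
    rfl
  · rw [fieldPtOfHom_toHom]
    exact h2
  · rw [fieldPtOfHom_toHom]
    haveI : QuasiCompact (Over.mk str').hom := quasiCompact_of_field C str'
    exact repWith_quasiCompact_of_isQuasiSeparatedSp hXa hX p

/-- For a scheme S, every algebraic space X over S whose diagonal X ⟶ X ×_S X is representable
quasi-compact (X quasi-separated over S) is decent: each point of |X| is the class of some
monomorphism Spec k ⟶ X which is representable quasi-compact. (The published statement assumes X
quasi-separated in the absolute sense, a condition which implies quasi-separatedness over S; this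
row assumes only quasi-separatedness over S.) -/
theorem result {S : Scheme.{u}} (X : AlgSp.Space S)
    (hX : AlgSp.IsQuasiSeparatedSp X.obj) : AlgSp.IsDecent X.obj := by
  exact isDecent_of_isQuasiSeparatedSp X.property hX

end Groth.Agent.S10350
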