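import Groth.Statements.S10199
import Mathlib
import Groth.Agent.Lib.T2H7SoberQs
import Groth.Agent.S10198
import Groth.Agent.S10338
import Groth.Agent.S10350
import Groth.Agent.S10364

set_option autoImplicit false
universe u
open CategoryTheory CategoryTheory.Limits AlgebraicGeometry Topology TopologicalSpace
open AlgSp

namespace Groth.Agent.S10199

/-- Let X be an algebraic space over a scheme S that is Zariski locally quasi-separated over S (X has a
Zariski covering by open subspaces whose diagonals over S are quasi-compact; for instance X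
quasi-separated over S). Then |X| is a sober topological space. (Being Zariski locally
quasi-separated over S is the same as the absolute notion, so no hypothesis on S is needed.) -/
theorem result {S : Scheme.{u}} (X : AlgSp.Space S)
    (hX : ∃ (ι : Type u) (Xi : ι → AlgSp.Space S) (j : ∀ i, Xi i ⟶ X),
        AlgSp.IsZarCover (fun i => (Xi i).obj) (fun i => (j i).hom) ∧ ∀ i, AlgSp.IsQuasiSeparatedSp (Xi i).obj) :
    QuasiSober (AlgSp.Points X.obj) ∧ T0Space (AlgSp.Points X.obj) := by
  refine ⟨?_, ?_⟩
  · obtain ⟨ι, Xi, j, hcov, hchart⟩ := (Groth.Agent.S10198.result X).1 hX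
    choose Ui pi hUaff hpqc hpet hpsurj using hchart
    have hloc : ∀ i, QuasiSober (AlgSp.Points (Xi i).obj) := fun i => by
      have := hUaff i
      exact Groth.Agent.Lib.T2H7.SoberQs.quasiSober_of_affine_chart (Xi i) (pi i)
        (hpqc i) (hpet i) (hpsurj i)
    have hOE : ∀ i, IsOpenEmbedding (AlgSp.Points.map (j i).hom) := fun i =>
      IsOpenEmbedding.of_continuous_injective_isOpenMap (AlgSp.Points.continuous_map (j i).hom)
        (Groth.Agent.Lib.Helper12.LargestOpen.injective_map_of_open (j i).hom (hcov.1 i))
        (Groth.Agent.Lib.Helper12.OpenSub.isOpenMap_map_of_open (j i).hom (hcov.1 i))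
    let V : ι → Opens (AlgSp.Points X.obj) := fun i =>
      ⟨Set.range (AlgSp.Points.map (j i).hom), (hOE i).isOpen_range⟩
    have hVcov : TopologicalSpace.IsOpenCover V := by
      rw [TopologicalSpace.IsOpenCover, eq_top_iff]
      intro x _
      obtain ⟨i, hi⟩ := hcov.2 x
      exact Opens.mem_iSup.2 ⟨i, hi⟩
    have hVs : ∀ i, QuasiSober ↥(V i) := fun i => by
      have := hloc i
      exact ((hOE i).isEmbedding.toHomeomorph).symm.isOpenEmbedding.quasiSober
    exact hVcov.quasiSober
  · obtain ⟨ι, Xi, j, hcov, hqs⟩ := hX
    exact Groth.Agent.S10338.result X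
      (Groth.Agent.S10364.result X Xi j hcov (fun i => Groth.Agent.S10350.result (Xi i) (hqs i)))

end Groth.Agent.S10199
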