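import Groth.Statements.S10200
import Mathlib
import Groth.Agent.Lib.T2H7FinLocus
import Groth.Agent.Lib.Helper12OpenSub2
import Groth.Agent.S10197
import Groth.Agent.S10198

set_option autoImplicit false
universe u
open CategoryTheory CategoryTheory.Limits AlgebraicGeometry Topology TopologicalSpace
open AlgSp

namespace Groth.Agent.S10200

/-- Let X be an algebraic space over a scheme S that is Zariski locally quasi-separated over S (for
example quasi-separated over S). Then there is a dense open subspace of X which is a scheme; more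
precisely there is an open subspace X' ⟶ X with representable underlying sheaf such that |X'| is
dense in |X| and contains every codimension 0 point of X (every point under which some etale chart
has a zero-dimensional local ring). -/
theorem result {S : Scheme.{u}} (X : AlgSp.Space S)
    (hX : ∃ (ι : Type u) (Xi : ι → AlgSp.Space S) (j : ∀ i, Xi i ⟶ X),
        AlgSp.IsZarCover (fun i => (Xi i).obj) (fun i => (j i).hom) ∧ ∀ i, AlgSp.IsQuasiSeparatedSp (Xi i).obj) :
    ∃ (X' : AlgSp.Space S) (j : X' ⟶ X), AlgSp.RepWith @IsOpenImmersion j.hom ∧ X'.obj.obj.IsRepresentable ∧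
      Dense (Set.range (AlgSp.Points.map j.hom)) ∧
      ∀ x : AlgSp.Points X.obj, AlgSp.HasAt (fun U u => ringKrullDim ↥(U.presheaf.stalk u) = 0) X.obj x →
        x ∈ Set.range (AlgSp.Points.map j.hom) := by
  classical
  obtain ⟨ι, Xi, j, hcov, hchart⟩ := (Groth.Agent.S10198.result X).1 hX
  choose Ui pi hUaff hpqc hpet hpsurj using hchart
  have hloc : ∀ i, ∃ N : Set (AlgSp.Points (Xi i).obj), IsOpen N ∧ Dense N ∧
      (Groth.Agent.Lib.Helper12.OpenSub.obj (Xi i).obj N).obj.IsRepresentable ∧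
      ∀ x, AlgSp.HasAt (fun U u => ringKrullDim ↥(U.presheaf.stalk u) = 0) (Xi i).obj x →
        x ∈ N := fun i => by
    have := hUaff i
    exact Groth.Agent.Lib.T2H7.FinLocus.exists_open_subscheme_of_affine_chart (Xi i) (pi i)
      (hpqc i) (hpet i) (hpsurj i)
  choose N hNopen hNdense hNrep hNcodim using hloc
  obtain ⟨W, hWrep, hWmax⟩ := Groth.Agent.S10197.aux X
  have hjopen : ∀ i, IsOpenMap (AlgSp.Points.map (j i).hom) := fun i =>
    Groth.Agent.Lib.Helper12.OpenSub.isOpenMap_map_of_open (j i).hom (hcov.1 i)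
  have hjcont : ∀ i, Continuous (AlgSp.Points.map (j i).hom) := fun i =>
    AlgSp.Points.continuous_map (j i).hom
  -- the image of each `N i` lies in the schematic locus
  have hsub : ∀ i, AlgSp.Points.map (j i).hom '' N i ⊆ (W : Set (AlgSp.Points X.obj)) := by
    intro i
    have hMopen : IsOpen (AlgSp.Points.map (j i).hom '' N i) := hjopen i _ (hNopen i)
    let k : Groth.Agent.Lib.Helper12.OpenSub.obj (Xi i).obj (N i) ⟶ X.obj :=
      Groth.Agent.Lib.Helper12.OpenSub.incl (Xi i).obj (N i) ≫ (j i).hom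
    have hk : AlgSp.RepWith @IsOpenImmersion k :=
      (AlgSp.RepWith @IsOpenImmersion).comp_mem _ _
        (Groth.Agent.Lib.Helper12.OpenSub.repWith_incl (hNopen i)) (hcov.1 i)
    have hrk : Set.range (AlgSp.Points.map k) = AlgSp.Points.map (j i).hom '' N i := by
      have hfun : AlgSp.Points.map k = AlgSp.Points.map (j i).hom ∘
          AlgSp.Points.map (Groth.Agent.Lib.Helper12.OpenSub.incl (Xi i).obj (N i)) := by
        funext z
        exact AlgSp.Points.map_comp _ _ z
      rw [hfun, Set.range_comp, Groth.Agent.Lib.Helper12.OpenSub.range_map_incl]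
    obtain ⟨e, -⟩ := Groth.Agent.Lib.Helper12.OpenSub.iso_of_range_eq
      (Groth.Agent.Lib.Helper12.OpenSub.incl X.obj (AlgSp.Points.map (j i).hom '' N i))
      (Groth.Agent.Lib.Helper12.OpenSub.repWith_incl hMopen) k hk
      ((Groth.Agent.Lib.Helper12.OpenSub.range_map_incl _).trans hrk.symm)
    have hV : (Groth.Agent.Lib.Helper12.OpenSub.obj X.obj
        (AlgSp.Points.map (j i).hom '' N i)).obj.IsRepresentable := by
      obtain ⟨Xs, ⟨r⟩⟩ := (hNrep i).has_representation
      exact ⟨Xs, ⟨AlgSp.representableByOfIso (AlgSp.isoOfRepresentableBy r ≪≫ e.symm)⟩⟩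
    exact hWmax ⟨_, hMopen⟩ hV
  refine ⟨⟨Groth.Agent.Lib.Helper12.OpenSub.obj X.obj (W : Set (AlgSp.Points X.obj)),
      Groth.Agent.Lib.Helper12.OpenSub.isAlgSpace_obj X.property W.2⟩,
    ObjectProperty.homMk (Groth.Agent.Lib.Helper12.OpenSub.incl X.obj _),
    Groth.Agent.Lib.Helper12.OpenSub.repWith_incl W.2, hWrep, ?_, ?_⟩
  · change Dense (Set.range (AlgSp.Points.map
      (Groth.Agent.Lib.Helper12.OpenSub.incl X.obj (W : Set (AlgSp.Points X.obj)))))
    rw [Groth.Agent.Lib.Helper12.OpenSub.range_map_incl, dense_iff_inter_open]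
    rintro O hO ⟨x, hxO⟩
    obtain ⟨i, xi, rfl⟩ := hcov.2 x
    have hO' : IsOpen (AlgSp.Points.map (j i).hom ⁻¹' O) := hO.preimage (hjcont i)
    obtain ⟨z, hzO, hzN⟩ := (hNdense i).inter_open_nonempty _ hO' ⟨xi, hxO⟩
    exact ⟨AlgSp.Points.map (j i).hom z, hzO, hsub i ⟨z, hzN, rfl⟩⟩
  · intro x hx
    change x ∈ Set.range (AlgSp.Points.map
      (Groth.Agent.Lib.Helper12.OpenSub.incl X.obj (W : Set (AlgSp.Points X.obj))))
    rw [Groth.Agent.Lib.Helper12.OpenSub.range_map_incl]
    obtain ⟨i, xi, rfl⟩ := hcov.2 x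
    refine hsub i ⟨xi, hNcodim i xi ?_, rfl⟩
    -- codimension 0 transfers to the open subspace
    obtain ⟨U₀, p₀, hp₀e, hp₀s⟩ := (Xi i).property.atlas
    obtain ⟨u, hu⟩ := Groth.Agent.S10177.surjective_ofPt p₀ hp₀s xi
    have hcomp : AlgSp.RepWith @Etale (p₀ ≫ (j i).hom) :=
      (AlgSp.RepWith @Etale).comp_mem _ _ hp₀e
        (Groth.Agent.Lib.Helper12.OpenSub.repWith_mono
          (fun _ _ g hg => by have : IsOpenImmersion g := hg; infer_instance) (hcov.1 i))
    have hdim : ringKrullDim ↥(U₀.left.presheaf.stalk u) = 0 :=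
      Groth.Agent.Lib.T2H1.HasAt.of_hasAt
        (Groth.Agent.Lib.T2H1.HasAt.etInv1_stalkDim (fun s => s = 0)) _ hx (p₀ ≫ (j i).hom)
        hcomp u (by rw [← AlgSp.Points.map_ofPt, hu])
    exact ⟨U₀, p₀, u, hp₀e, hu, hdim⟩

end Groth.Agent.S10200
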