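import Groth.Statements.S10201
import Mathlib
import Groth.Agent.S10199
import Groth.Agent.S10174
import Groth.Agent.S10185
import Groth.Agent.S10176
import Groth.Agent.S10177

set_option autoImplicit false
universe u
open CategoryTheory CategoryTheory.Limits AlgebraicGeometry Topology TopologicalSpace
open AlgSp

namespace Groth.Agent.S10201

/-- Let S be a quasi-separated scheme and X a quasi-compact algebraic space over S whose diagonal over S
is quasi-compact. Then |X| is a spectral space. (The published statement assumes X quasi-separated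
in the absolute sense; over a quasi-separated base that is the same as quasi-separated over S, while
for S quasi-compact and not quasi-separated the space h_S is quasi-compact with quasi-compact
diagonal over S and |h_S| = |S| is not spectral.) -/
theorem result {S : Scheme.{u}} [QuasiSeparatedSpace ↥S]
    (X : AlgSp.Space S) (hqc : AlgSp.IsQuasiCompactSp X.obj) (hqs : AlgSp.IsQuasiSeparatedSp X.obj) :
    SpectralSpace (AlgSp.Points X.obj) := by
  have hsob := Groth.Agent.S10199.result X
    ⟨PUnit.{u + 1}, fun _ => X, fun _ => 𝟙 X,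
      ⟨fun _ => (AlgSp.RepWith @IsOpenImmersion).id_mem X.obj,
        fun y => ⟨PUnit.unit, y, by
          change AlgSp.Points.map (𝟙 X.obj) y = y
          exact AlgSp.Points.map_id y⟩⟩,
      fun _ => hqs⟩
  have hcpt : CompactSpace (AlgSp.Points X.obj) := (Groth.Agent.S10174.result X).1 hqc
  obtain ⟨U, p, hpe, hps⟩ := X.property.atlas
  have hπsurj : Function.Surjective (AlgSp.Points.ofPt p) :=
    Groth.Agent.S10177.surjective_ofPt p hps
  have hπcont : Continuous (AlgSp.Points.ofPt p) := AlgSp.Points.continuous_ofPt p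
  have hπopen : IsOpenMap (AlgSp.Points.ofPt p) := Groth.Agent.S10176.isOpenMap_ofPt p hpe
  let b : U.left.affineOpens → Set (AlgSp.Points X.obj) := fun W =>
    AlgSp.Points.ofPt p '' ((W.1 : U.left.Opens) : Set ↥U.left)
  have hbasis : IsTopologicalBasis (Set.range b) := by
    apply isTopologicalBasis_of_isOpen_of_nhds
    · rintro _ ⟨W, rfl⟩
      exact hπopen _ W.1.2
    · intro x O hxO hO
      obtain ⟨u, rfl⟩ := hπsurj x
      obtain ⟨_, ⟨W, hW, rfl⟩, huW, hWO⟩ :=
        U.left.isBasis_affineOpens.exists_subset_of_mem_open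
          (show u ∈ AlgSp.Points.ofPt p ⁻¹' O from hxO) (hO.preimage hπcont)
      refine ⟨_, ⟨⟨W, hW⟩, rfl⟩, ⟨u, huW, rfl⟩, ?_⟩
      rintro _ ⟨v, hv, rfl⟩
      exact hWO hv
  have hbcpt : ∀ W, IsCompact (b W) := fun W => W.2.isCompact.image hπcont
  have hinter : ∀ W W' : U.left.affineOpens, IsCompact (b W ∩ b W') := by
    intro W W'
    let WO : Over S := Over.mk (W.1.ι ≫ U.hom)
    let ιW : WO ⟶ U := Over.homMk W.1.ι rfl
    let WO' : Over S := Over.mk (W'.1.ι ≫ U.hom)
    let ιW' : WO' ⟶ U := Over.homMk W'.1.ι rfl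
    let a : (AlgSp.yon S).obj WO ⟶ X.obj := (AlgSp.yon S).map ιW ≫ p
    let a' : (AlgSp.yon S).obj WO' ⟶ X.obj := (AlgSp.yon S).map ιW' ≫ p
    have hae : AlgSp.RepWith @Etale a :=
      (AlgSp.RepWith @Etale).comp_mem _ _
        ((AlgSp.repWith_yon_map_iff @Etale ιW).2 (inferInstanceAs (Etale W.1.ι))) hpe
    obtain ⟨P, snd, fst', sqP⟩ := hae.1 a'
    obtain ⟨fst, rfl⟩ := (AlgSp.yon S).map_surjective fst'
    have hWaff : IsAffine WO.left := W.2
    have hW'aff : IsAffine WO'.left := W'.2
    have hPc : CompactSpace ↥P.left :=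
      Groth.Agent.S10185.result X hqs WO WO' P a a' fst snd sqP
    have hbW : b W = Set.range (AlgSp.Points.ofPt a) := by
      ext x
      constructor
      · rintro ⟨u, hu, rfl⟩
        exact ⟨⟨u, hu⟩, Groth.Agent.S10176.ofPt_map_comp ιW p _⟩
      · rintro ⟨w, rfl⟩
        exact ⟨W.1.ι w, w.2, (Groth.Agent.S10176.ofPt_map_comp ιW p w).symm⟩
    have hbW' : b W' = Set.range (AlgSp.Points.ofPt a') := by
      ext x
      constructor
      · rintro ⟨u, hu, rfl⟩
        exact ⟨⟨u, hu⟩, Groth.Agent.S10176.ofPt_map_comp ιW' p _⟩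
      · rintro ⟨w, rfl⟩
        exact ⟨W'.1.ι w, w.2, (Groth.Agent.S10176.ofPt_map_comp ιW' p w).symm⟩
    have heq : b W ∩ b W' = Set.range (AlgSp.Points.ofPt ((AlgSp.yon S).map fst ≫ a)) := by
      rw [hbW, hbW']
      ext x
      constructor
      · rintro ⟨⟨w, rfl⟩, ⟨w', hw'⟩⟩
        obtain ⟨y, hy1, -⟩ := Groth.Agent.S10176.exists_point_of_isPullback_yon sqP w w' hw'.symm
        exact ⟨y, by rw [Groth.Agent.S10176.ofPt_map_comp, hy1]⟩
      · rintro ⟨y, rfl⟩
        refine ⟨⟨fst.left y, (Groth.Agent.S10176.ofPt_map_comp fst a y).symm⟩, ?_⟩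
        rw [sqP.w]
        exact ⟨snd.left y, (Groth.Agent.S10176.ofPt_map_comp snd a' y).symm⟩
    rw [heq]
    exact isCompact_range (AlgSp.Points.continuous_ofPt _)
  have hqsep : QuasiSeparatedSpace (AlgSp.Points X.obj) :=
    QuasiSeparatedSpace.of_isTopologicalBasis hbasis hinter
  have hpre : PrespectralSpace (AlgSp.Points X.obj) :=
    PrespectralSpace.of_isTopologicalBasis hbasis (by
      rintro _ ⟨W, rfl⟩
      exact hbcpt W)
  exact { toT0Space := hsob.2, toCompactSpace := hcpt, toQuasiSober := hsob.1,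
          toQuasiSeparatedSpace := hqsep, toPrespectralSpace := hpre }

end Groth.Agent.S10201
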