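import Groth.Statements.S10204
import Mathlib
import Groth.Agent.Lib.T2H7KerPairGrpd
import Groth.Agent.Lib.T2H7SpOpenBC
import Groth.Agent.Lib.Helper20SymProd
import Groth.Agent.Lib.T2H1IrrFlat2
import Groth.Agent.Lib.T2H1HasAt1
import Groth.Agent.Lib.T2H1StalkDim
import Groth.Agent.S7385
import Groth.Agent.S10177
import Groth.Agent.S10190

set_option autoImplicit false
universe u
open CategoryTheory CategoryTheory.Limits AlgebraicGeometry Topology TopologicalSpace
open AlgSp

namespace Groth.Agent.S10204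

/-- Let X be an algebraic space over a scheme S that admits a map h_U ⟶ X from a quasi-separated scheme
U which is representable finite, etale and surjective. Then X contains an open subspace X' ⟶ X that
is a scheme (its underlying sheaf is representable), whose points form a dense subset of |X| that
includes every codimension 0 point of X (every point x of |X| such that some etale chart h_V ⟶ X and
some point v of V over x have a zero-dimensional local ring O_{V,v}). -/
theorem result {S : Scheme.{u}} (X : AlgSp.Space S) {U : Over S}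
    (a : (AlgSp.yon S).obj U ⟶ X.obj) (hf : AlgSp.RepWith @IsFinite a) (he : AlgSp.RepWith @Etale a)
    (hs : AlgSp.RepWith @Surjective a) [QuasiSeparatedSpace ↥U.left] :
    ∃ (X' : AlgSp.Space S) (j : X' ⟶ X), AlgSp.RepWith @IsOpenImmersion j.hom ∧ X'.obj.obj.IsRepresentable ∧
      Dense (Set.range (AlgSp.Points.map j.hom)) ∧
      ∀ x : AlgSp.Points X.obj, AlgSp.HasAt (fun U u => ringKrullDim ↥(U.presheaf.stalk u) = 0) X.obj x →
        x ∈ Set.range (AlgSp.Points.map j.hom) := by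
  classical
  have hπcl : IsClosedMap (AlgSp.Points.ofPt a) :=
    Groth.Agent.Lib.T2H7.SpOpenBC.isClosedMap_ofPt a hf
  have hπfin : ∀ x, (AlgSp.Points.ofPt a ⁻¹' {x}).Finite :=
    Groth.Agent.Lib.T2H7.SpOpenBC.finite_fibre_ofPt a hf
  have hπsurj : Function.Surjective (AlgSp.Points.ofPt a) :=
    Groth.Agent.S10177.surjective_ofPt a hs
  have hπcont : Continuous (AlgSp.Points.ofPt a) := AlgSp.Points.continuous_ofPt a
  let W' : Set (AlgSp.Points X.obj) := {x | ∃ V : U.left.Opens, IsAffineOpen V ∧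
    AlgSp.Points.ofPt a ⁻¹' {x} ⊆ (V : Set ↥U.left)}
  have hW'open : IsOpen W' := by
    rw [isOpen_iff_forall_mem_open]
    rintro x ⟨V, hV, hsub⟩
    refine ⟨(AlgSp.Points.ofPt a '' ((V : Set ↥U.left)ᶜ))ᶜ, ?_,
      (hπcl _ V.2.isClosed_compl).isOpen_compl, ?_⟩
    · intro y hy
      refine ⟨V, hV, fun u hu => ?_⟩
      by_contra hne
      exact hy ⟨u, hne, hu⟩
    · rintro ⟨u, hu, hux⟩
      exact hu (hsub hux)
  -- codimension 0 points lie in W'
  have hcodim : ∀ x : AlgSp.Points X.obj,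
      AlgSp.HasAt (fun U u => ringKrullDim ↥(U.presheaf.stalk u) = 0) X.obj x → x ∈ W' := by
    intro x hx
    have hgen : ∀ u ∈ AlgSp.Points.ofPt a ⁻¹' {x},
        closure ({u} : Set ↥U.left) ∈ irreducibleComponents ↥U.left := by
      intro u hu
      have hdim : ringKrullDim ↥(U.left.presheaf.stalk u) = 0 :=
        Groth.Agent.Lib.T2H1.HasAt.of_hasAt
          (Groth.Agent.Lib.T2H1.HasAt.etInv1_stalkDim (fun s => s = 0)) x hx a he u hu
      exact (Groth.Agent.Lib.T2H1.IrrFlat.ringKrullDim_stalk_eq_zero_iff u).1 hdim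
    obtain ⟨n, η, hηrange⟩ := (hπfin x).fin_embedding
    obtain ⟨Us, hUs1, -, hUs3⟩ := Groth.Agent.S7385.result U.left η
      (fun i => hgen _ (hηrange ▸ ⟨i, rfl⟩)) η.injective
    refine ⟨⨆ i, Us i, hUs3, ?_⟩
    intro u hu
    rw [← hηrange] at hu
    obtain ⟨i, rfl⟩ := hu
    exact TopologicalSpace.Opens.mem_iSup.2 ⟨i, (hUs1 i).2⟩
  have hdense : Dense W' := by
    rw [dense_iff_inter_open]
    rintro O hO ⟨x, hxO⟩
    obtain ⟨u, rfl⟩ := hπsurj x
    obtain ⟨η, hη, hdim⟩ := Groth.Agent.S10190.exists_generalization_dim_zero U.left u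
    have hηO : AlgSp.Points.ofPt a η ∈ O := (hη.map hπcont).mem_open hO hxO
    exact ⟨AlgSp.Points.ofPt a η, hηO, hcodim _ ⟨U, a, η, he, rfl, hdim⟩⟩
  -- the chart of the open subspace
  let V : U.left.Opens := ⟨AlgSp.Points.ofPt a ⁻¹' W', hW'open.preimage hπcont⟩
  obtain ⟨aW, sqW⟩ := Groth.Agent.Lib.T2H7.SpOpenBC.exists_isPullback_incl W' a V rfl
  have hfW : AlgSp.RepWith @IsFinite aW := MorphismProperty.of_isPullback sqW.flip hf
  have heW : AlgSp.RepWith @Etale aW := MorphismProperty.of_isPullback sqW.flip he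
  have hsW : AlgSp.RepWith @Surjective aW := MorphismProperty.of_isPullback sqW.flip hs
  have hbW : ∀ w : ↥(Over.mk (V.ι ≫ U.hom)).left,
      ∃ D : (Over.mk (V.ι ≫ U.hom)).left.Opens, IsAffineOpen D ∧
        {w' : ↥(Over.mk (V.ι ≫ U.hom)).left |
          AlgSp.Points.ofPt aW w' = AlgSp.Points.ofPt aW w} ⊆
          (D : Set ↥(Over.mk (V.ι ≫ U.hom)).left) := by
    intro w
    have hmem : V.ι w ∈ V := by
      have h := V.range_ι
      have h2 : V.ι w ∈ Set.range V.ι := ⟨w, rfl⟩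
      rw [h] at h2; exact h2
    have hw : AlgSp.Points.ofPt a (V.ι w) ∈ W' := hmem
    obtain ⟨V₀, hV₀, hsub⟩ := hw
    let F := (hπfin (AlgSp.Points.ofPt a (V.ι w))).toFinset
    have hFV : ∀ t ∈ F, t ∈ V₀ ∧ t ∈ V := by
      intro t ht
      rw [Set.Finite.mem_toFinset] at ht
      refine ⟨hsub ht, ?_⟩
      change AlgSp.Points.ofPt a t ∈ W'
      have ht' : AlgSp.Points.ofPt a t = AlgSp.Points.ofPt a (V.ι w) := ht
      rw [ht']
      exact hmem
    obtain ⟨D₀, hD₀, -, hD₀V, hFD₀⟩ :=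
      Groth.Agent.Lib.Helper20.exists_affine_finite hV₀ V F hFV
    refine ⟨V.ι ⁻¹ᵁ D₀, hD₀.preimage_of_isOpenImmersion V.ι
      (by rw [Scheme.Opens.opensRange_ι]; exact hD₀V), ?_⟩
    intro w' hw'
    have h1 : AlgSp.Points.ofPt a (V.ι w') = AlgSp.Points.ofPt a (V.ι w) := by
      have h := congrArg (AlgSp.Points.map (Groth.Agent.Lib.Helper12.OpenSub.incl X.obj W')) hw'
      rw [AlgSp.Points.map_ofPt, AlgSp.Points.map_ofPt, sqW.w,
        Groth.Agent.S10176.ofPt_map_comp, Groth.Agent.S10176.ofPt_map_comp] at h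
      exact h
    exact hFD₀ _ ((Set.Finite.mem_toFinset _).2 h1)
  obtain ⟨Y, ⟨e⟩⟩ := Groth.Agent.Lib.T2H7.KerPairGrpd.exists_iso_yon_of_finite_etale aW hfW heW
    hsW hbW
  refine ⟨⟨Groth.Agent.Lib.Helper12.OpenSub.obj X.obj W',
      Groth.Agent.Lib.Helper12.OpenSub.isAlgSpace_obj X.property hW'open⟩,
    ObjectProperty.homMk (Groth.Agent.Lib.Helper12.OpenSub.incl X.obj W'),
    Groth.Agent.Lib.Helper12.OpenSub.repWith_incl hW'open,
    ⟨Y, ⟨AlgSp.representableByOfIso e⟩⟩, ?_, ?_⟩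
  · change Dense (Set.range (AlgSp.Points.map (Groth.Agent.Lib.Helper12.OpenSub.incl X.obj W')))
    rw [Groth.Agent.Lib.Helper12.OpenSub.range_map_incl]
    exact hdense
  · intro x hx
    change x ∈ Set.range (AlgSp.Points.map (Groth.Agent.Lib.Helper12.OpenSub.incl X.obj W'))
    rw [Groth.Agent.Lib.Helper12.OpenSub.range_map_incl]
    exact hcodim x hx

end Groth.Agent.S10204
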