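import Groth.Statements.S10205
import Groth.Agent.Lib.T2H1FieldQuotD
import Groth.Agent.S9927

set_option autoImplicit false
universe u
open CategoryTheory CategoryTheory.Limits AlgebraicGeometry Topology TopologicalSpace
open AlgSp

namespace Groth.Agent.S10205

/-- Let X be an algebraic space over a scheme S, k a field with a structure morphism Spec k ⟶ S, and p :
h_{Spec k} ⟶ X a surjective etale map. If the diagonal of X over S is quasi-compact, then X ≅
h_{Spec k'} for a field k' over S, where p corresponds to a finite etale morphism Spec k ⟶ Spec k'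
over S (that is, k is a finite separable extension of k'). (The published statement assumes X
quasi-separated in the absolute sense; the argument only uses that Spec k ×_X Spec k is
quasi-compact, which already follows from quasi-compactness of the diagonal over S since Spec k ×_S
Spec k is affine.) -/
theorem result {S : Scheme.{u}} (X : AlgSp.Space S)
    (hX : AlgSp.IsQuasiSeparatedSp X.obj) (k : Type u) [Field k] (str : Spec (CommRingCat.of k) ⟶ S)
    (p : (AlgSp.yon S).obj (Over.mk str) ⟶ X.obj) (hp : AlgSp.RepWith @Etale p) (hs : AlgSp.RepWith @Surjective p) :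
    ∃ (k' : Type u) (_ : Field k') (str' : Spec (CommRingCat.of k') ⟶ S)
      (e : (AlgSp.yon S).obj (Over.mk str') ≅ X.obj) (c : Over.mk str ⟶ Over.mk str'),
      (AlgSp.yon S).map c ≫ e.hom = p ∧ IsFinite c.left ∧ Etale c.left := by
  obtain ⟨R, t, pr, sq⟩ := hp.1 p
  obtain ⟨s, rfl⟩ := (AlgSp.yon S).map_surjective pr
  haveI : Etale t.left := hp.2 p _ t sq
  haveI : CompactSpace ↥(Over.mk str).left :=
    (inferInstance : CompactSpace ↥(Spec (CommRingCat.of k)))
  haveI : QuasiCompact (Over.mk str).hom :=
    Groth.Agent.Lib.T2H1.FieldQuot.quasiCompact_of_field k str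
  haveI : CompactSpace ↥R.left :=
    Groth.Agent.Lib.T2H1.FieldQuot.compactSpace_of_isQuasiSeparatedSp hX p s t sq
  obtain ⟨C, hC, str', c₀, p', h1, h2, h3, h4, h5, h6⟩ :=
    Groth.Agent.Lib.T2H1.FieldQuot.exists_mono_of_etale_compact k str p s t sq
  haveI := h2
  haveI : Epi p := Groth.Agent.S9927.epi_of_repWith p hp hs
  haveI : Epi p' := by
    haveI : Epi ((AlgSp.yon S).map c₀ ≫ p') := h1 ▸ ‹Epi p›
    exact epi_of_epi ((AlgSp.yon S).map c₀) p'
  haveI : IsIso p' := isIso_of_mono_of_epi p'
  exact ⟨C, hC, str', asIso p', c₀, h1, h3, h6⟩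

end Groth.Agent.S10205
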