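import Groth.Statements.S10206
import Groth.Agent.Lib.T2H1EtField
import Groth.Agent.S10259

set_option autoImplicit false
universe u
open CategoryTheory CategoryTheory.Limits AlgebraicGeometry Topology TopologicalSpace
open AlgSp

namespace Groth.Agent.S10206

/-- Let X be an algebraic space over a scheme S and X ⟶ h_{Spec k} an etale morphism of algebraic spaces
over S, where k is a field and Spec k is given a structure morphism to S. Then X is a scheme (its
underlying sheaf is representable by a scheme over S). -/
theorem result {S : Scheme.{u}} (X : AlgSp.Space S)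
    (k : Type u) [Field k] (str : Spec (CommRingCat.of k) ⟶ S)
    (f : X.obj ⟶ (AlgSp.yon S).obj (Over.mk str)) (hf : AlgSp.IsEtaleMor f) :
    X.obj.obj.IsRepresentable := by
  have hsep := Groth.Agent.Lib.T2H1.EtField.isSeparatedMor_of_isEtaleMor_field X.property k str f hf
  have hqf : AlgSp.LocP (@LocallyQuasiFinite ⊓ @LocallyOfFiniteType) f :=
    Groth.Agent.Lib.Helper12.LargestOpen.locP_mono (fun _ _ g hg => by
      haveI : Etale g := hg
      exact ⟨Groth.Agent.S10555.lqf_of_etale g, inferInstance⟩)
      (Groth.Agent.Lib.Helper12.SrcLocal.locP_etale_of_isEtaleMor f hf)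
  exact Groth.Agent.S10259.result (Over.mk str) X (ObjectProperty.homMk f) hqf hsep

end Groth.Agent.S10206
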