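import Groth.Statements.S10216
import Groth.Agent.Lib.T2H1GeomLift
import Groth.Agent.S10177

set_option autoImplicit false
universe u
open CategoryTheory CategoryTheory.Limits AlgebraicGeometry Topology TopologicalSpace
open AlgSp

namespace Groth.Agent.S10216

/-- Let φ : U ⟶ X be an etale morphism of algebraic spaces over a scheme S, take a geometric point x̄ :
Spec k ⟶ X of X whose image in |X| is x, and let u ∈ |U| with φ(u) = x. Then there is a geometric
point ū : Spec k ⟶ U (with the same field k) lying over u and with φ ∘ ū = x̄. -/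
theorem result {S : Scheme.{u}} {U X : AlgSp.Space S} (φ : U ⟶ X)
    (hφ : AlgSp.IsEtaleMor φ.hom) (xbar : AlgSp.FieldPt X.obj) (hx : xbar.IsGeometric)
    (u : AlgSp.Points U.obj) (hu : AlgSp.Points.map φ.hom u = AlgSp.Points.mk xbar) :
    ∃ ubar : (AlgSp.yon S).obj xbar.pt ⟶ U.obj,
      ubar ≫ φ.hom = xbar.toHom ∧ AlgSp.Points.ofPt ubar (IsLocalRing.closedPoint xbar.K) = u := by
  obtain ⟨V, a, hae, has⟩ := U.property.atlas
  obtain ⟨v, hv⟩ := Groth.Agent.S10177.surjective_ofPt a has u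
  have hbe : AlgSp.RepWith @Etale (a ≫ φ.hom) := hφ a hae
  have hbv : AlgSp.Points.ofPt (a ≫ φ.hom) v = AlgSp.Points.mk xbar := by
    rw [← AlgSp.Points.map_ofPt, hv, hu]
  obtain ⟨l, hl, hlv⟩ :=
    Groth.Agent.Lib.T2H1.GeomLift.exists_lift_through xbar hx (a ≫ φ.hom) hbe v hbv
  refine ⟨(AlgSp.yon S).map l ≫ a, ?_, ?_⟩
  · rw [Category.assoc]; exact hl
  · rw [Groth.Agent.Lib.Helper9.SpPoint.ofPt_yon_map_comp, ← hv]
    congr 1
    rw [← hlv]
    congr 1
    exact Subsingleton.elim (α := Spec (CommRingCat.of xbar.K)) _ _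

end Groth.Agent.S10216
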