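import Groth.Statements.S10222
import Groth.Agent.Lib.T2H1HasAt1
import Groth.Agent.Lib.Helper12GeomRed
import Groth.Agent.S10177

set_option autoImplicit false
universe u
open CategoryTheory CategoryTheory.Limits AlgebraicGeometry Topology TopologicalSpace
open AlgSp

namespace Groth.Agent.S10222

/-- reducedness of the local ring is invariant under etale morphisms. -/
lemma etInv1_isReduced :
    Groth.Agent.Lib.T2H1.HasAt.EtInv1
      (fun (U : Scheme.{u}) (u : ↥U) => _root_.IsReduced ↥(U.presheaf.stalk u)) := by
  intro U U' a ha u'
  haveI := ha
  exact ⟨Groth.Agent.Lib.Helper12.GeomRed.isReduced_stalk_of_smooth a u',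
    Groth.Agent.Lib.Helper12.GeomRed.isReduced_stalk_of_flat a u'⟩

/-- (1) if and only if (2): an algebraic space X over a scheme S is reduced if and only if at each x ∈
|X| the local ring of X is reduced, the latter meaning that for some scheme U, some representable
etale h_U ⟶ X and some point u of U mapping to x, the local ring of U at u is reduced. (The
assertions about global sections in the published statement are not part of this row.) -/
theorem result {S : Scheme.{u}} (X : AlgSp.Space S) :
    AlgSp.IsReducedSp X.obj ↔
      ∀ x : AlgSp.Points X.obj, AlgSp.HasAt (fun U u => _root_.IsReduced ↥(U.presheaf.stalk u)) X.obj x := by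
  constructor
  · rintro ⟨U, p, hpe, hps, hU⟩ x
    haveI : IsReduced U.left := hU
    obtain ⟨u, hu⟩ := Groth.Agent.S10177.surjective_ofPt p hps x
    exact ⟨U, p, u, hpe, hu, inferInstance⟩
  · intro H
    obtain ⟨U, a, hae, has⟩ := X.property.atlas
    refine ⟨U, a, hae, has, ?_⟩
    haveI : ∀ u : ↥U.left, _root_.IsReduced ↥(U.left.presheaf.stalk u) := fun u =>
      Groth.Agent.Lib.T2H1.HasAt.of_hasAt etInv1_isReduced _ (H (AlgSp.Points.ofPt a u)) a hae u rfl
    exact isReduced_of_isReduced_stalk _

end Groth.Agent.S10222
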