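import Groth.Statements.S10223
import Groth.Agent.Lib.T2H1OEtShE
import Groth.Agent.Lib.Helper2Hensel
import Groth.Agent.S10448

set_option autoImplicit false
universe u
open CategoryTheory CategoryTheory.Limits AlgebraicGeometry Topology TopologicalSpace
open AlgSp

namespace Groth.Agent.S10223

/-- Let X be an algebraic space over a scheme S and x̄ a geometric point of X. Then the etale local ring
of X at x̄ (the stalk at x̄ of the structure sheaf of the small etale site) is a strictly henselian
local ring. (The published statement identifies this ring with the strict henselisation of the local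
ring of any etale neighbourhood (U, ū) at the image point of ū; this row records the resulting
property of the ring, not the identification.) -/
theorem result {S : Scheme.{u}} (X : AlgSp.Space S) (p : AlgSp.FieldPt X.obj)
    (hp : p.IsGeometric) :
    IsLocalRing ↥(AlgSp.OEtStalk p) ∧ EtCoh.IsStrictlyHenselianLocalRing ↥(AlgSp.OEtStalk p) := by
  obtain ⟨U, a, u, ha, -, hu⟩ :=
    Groth.Agent.S10448.exists_affine_etale_nbhd X (AlgSp.Points.mk p)
  obtain ⟨A, _, _, Ω, _, _, _, _, _, -, ⟨e⟩⟩ :=
    Groth.Agent.Lib.T2H1.OEtShE.exists_ringEquiv_Rsh X p hp U a ha u hu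
  have hH : HenselianLocalRing ↥(AlgSp.OEtStalk p) :=
    Groth.Agent.Lib.Helper2.henselianLocalRing_of_sq_zero
      (T := ↥(AlgSp.OEtStalk p)) (S := Groth.Agent.Lib.Helper3.Sh.Rsh A Ω) e.toRingHom
      e.surjective (fun x y hx _ => by
        have hx0 : x = 0 := e.injective (by rw [map_zero]; exact hx)
        rw [hx0, zero_mul])
  haveI : IsLocalRing ↥(AlgSp.OEtStalk p) := hH.toIsLocalRing
  refine ⟨inferInstance, hH, ?_⟩
  haveI : IsSepClosed (IsLocalRing.ResidueField (Groth.Agent.Lib.Helper3.Sh.Rsh A Ω)) :=
    IsSepClosure.sep_closed (IsLocalRing.ResidueField A)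
  exact Groth.Agent.Lib.Helper3.Sh.isSepClosed_of_ringEquiv (IsLocalRing.ResidueField.mapEquiv e)

end Groth.Agent.S10223
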