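import Groth.Statements.S10224
import Groth.Agent.Lib.T2H1OEtShE
import Groth.Agent.Lib.Helper3HzDim
import Groth.Agent.S10448

set_option autoImplicit false
universe u
open CategoryTheory CategoryTheory.Limits AlgebraicGeometry Topology TopologicalSpace
open AlgSp

namespace Groth.Agent.S10224

/-- the dimension of the etale local ring is the dimension of the local ring of any chart. -/
lemma dim_eq {S : Scheme.{u}} (X : AlgSp.Space S) (p : AlgSp.FieldPt X.obj)
    (hp : p.IsGeometric) (U : Over S) (a : (AlgSp.yon S).obj U ⟶ X.obj)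
    (ha : AlgSp.RepWith @Etale a) (u : ↥U.left)
    (hu : AlgSp.Points.ofPt a u = AlgSp.Points.mk p) :
    ringKrullDim ↥(AlgSp.OEtStalk p) = ringKrullDim ↥(U.left.presheaf.stalk u) := by
  obtain ⟨A, _, _, Ω, _, _, _, _, _, ⟨e₁⟩, ⟨e⟩⟩ :=
    Groth.Agent.Lib.T2H1.OEtShE.exists_ringEquiv_Rsh X p hp U a ha u hu
  rw [ringKrullDim_eq_of_ringEquiv e, Groth.Agent.Lib.Helper3.Sh.ringKrullDim_eq,
    ringKrullDim_eq_of_ringEquiv e₁]

/-- Let X be an algebraic space over a scheme S, x̄ a geometric point of X lying over x ∈ |X|, and d ∈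
{0, 1, 2, …, ∞}. Then the local ring of X at x has dimension d (that is, for some etale chart h_U ⟶
X and some point u of U over x the local ring of U at u has dimension d) if and only if the etale
local ring of X at x̄ has dimension d. In particular the latter does not depend on the geometric
point over x. -/
theorem result {S : Scheme.{u}} (X : AlgSp.Space S) (p : AlgSp.FieldPt X.obj)
    (hp : p.IsGeometric) (d : ℕ∞) :
    AlgSp.HasAt (fun U u => ringKrullDim ↥(U.presheaf.stalk u) = (d : WithBot ℕ∞)) X.obj (AlgSp.Points.mk p) ↔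
      ringKrullDim ↥(AlgSp.OEtStalk p) = (d : WithBot ℕ∞) := by
  constructor
  · rintro ⟨U, a, u, ha, hu, hd⟩
    rw [dim_eq X p hp U a ha u hu]
    exact hd
  · intro hd
    obtain ⟨U, a, u, ha, -, hu⟩ :=
      Groth.Agent.S10448.exists_affine_etale_nbhd X (AlgSp.Points.mk p)
    refine ⟨U, a, u, ha, hu, ?_⟩
    change ringKrullDim ↥(U.left.presheaf.stalk u) = _
    rw [← dim_eq X p hp U a ha u hu, hd]

end Groth.Agent.S10224
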