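import Groth.Statements.S10225
import Groth.Agent.Lib.T2H1OEtStalk
import Groth.Agent.Lib.T2H1GeomLift
import Groth.Agent.Lib.T2H1HasAt1
import Groth.Agent.Lib.Helper12GeomRed
import Groth.Agent.S10448

set_option autoImplicit false
universe u
open CategoryTheory CategoryTheory.Limits AlgebraicGeometry Topology TopologicalSpace
open AlgSp

namespace Groth.Agent.S10225

open Groth.Agent.Lib.T2H1.OEtStalk in
/-- reducedness of the local ring is invariant under etale morphisms. -/
lemma etInv1_isReduced :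
    Groth.Agent.Lib.T2H1.HasAt.EtInv1
      (fun (U : Scheme.{u}) (u : ↥U) => _root_.IsReduced ↥(U.presheaf.stalk u)) := by
  intro U U' a ha u'
  haveI := ha
  exact ⟨Groth.Agent.Lib.Helper12.GeomRed.isReduced_stalk_of_smooth a u',
    Groth.Agent.Lib.Helper12.GeomRed.isReduced_stalk_of_flat a u'⟩

/-- Let X be an algebraic space over a scheme S and x̄ a geometric point of X lying over x ∈ |X|. Then
the local ring of X at x is reduced (for some etale chart h_U ⟶ X and some point u of U over x, the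
local ring of U at u is reduced) if and only if the etale local ring of X at x̄ is reduced; in
particular the latter does not depend on the choice of x̄ over x. -/
theorem result {S : Scheme.{u}} (X : AlgSp.Space S) (p : AlgSp.FieldPt X.obj) (hp : p.IsGeometric) :
    AlgSp.HasAt (fun U u => _root_.IsReduced ↥(U.presheaf.stalk u)) X.obj (AlgSp.Points.mk p) ↔
      _root_.IsReduced ↥(AlgSp.OEtStalk p) := by
  constructor
  · -- reduced chart ⇒ reduced etale local ring
    intro H
    constructor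
    intro a ha
    obtain ⟨n, hn⟩ := ha
    obtain ⟨U, l, σ, rfl⟩ := Groth.Agent.Lib.T2H1.OEtStalk.germ_surjective X p hp a
    rw [← map_pow] at hn
    have hn' : (AlgSp.stalkEtι p (AlgSp.OEt X.obj) ⟨U, l⟩).hom (σ ^ n) =
        (AlgSp.stalkEtι p (AlgSp.OEt X.obj) ⟨U, l⟩).hom 0 := by rw [hn, map_zero]
    obtain ⟨V, φ, y, hy, hφ⟩ := (Groth.Agent.Lib.T2H1.OEtStalk.germ_eq_iff X p hp U l _ _).1 hn'
    rw [map_zero, map_pow] at hφ
    -- the section `τ` over `V`
    set τ := ((AlgSp.OEt X.obj).obj.map φ.op).hom σ with hτ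
    have hgerm : (AlgSp.stalkEtι p (AlgSp.OEt X.obj) ⟨V, y⟩).hom τ =
        (AlgSp.stalkEtι p (AlgSp.OEt X.obj) ⟨U, l⟩).hom σ := by
      rw [hτ, Groth.Agent.Lib.T2H1.OEtStalk.germ_map X p hp φ y σ, hy]
    rw [← hgerm]
    have hnil : IsNilpotent τ.down := ⟨n, by
      have := congrArg ULift.down hφ
      exact this⟩
    have hred : _root_.IsReduced ↥(V.obj.left.left.presheaf.stalk
        (y.1.left (default : Spec (CommRingCat.of p.K)))) :=
      Groth.Agent.Lib.T2H1.HasAt.of_hasAt etInv1_isReduced _ H V.obj.hom V.property _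
        (Groth.Agent.Lib.Helper9.SpPoint.ofPt_lift p V y _)
    obtain ⟨W, hvW, hW⟩ :=
      Groth.Agent.Lib.T2H1.OEtStalk.exists_open_appTop_eq_zero _ hred τ.down hnil
    obtain ⟨y', hy'⟩ := Groth.Agent.Lib.T2H1.OEtStalk.exists_lift_restrictOpen V W p y hvW
    rw [← hy', ← Groth.Agent.Lib.T2H1.OEtStalk.germ_map X p hp
      (Groth.Agent.Lib.T2H1.OEtStalk.restrictOpenι V W) y' τ]
    have h0 : ((AlgSp.OEt X.obj).obj.map (Groth.Agent.Lib.T2H1.OEtStalk.restrictOpenι V W).op).hom τ
        = 0 := by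
      change ULift.up (W.ι.appTop.hom τ.down) = 0
      rw [hW]
      rfl
    rw [h0, map_zero]
  · -- reduced etale local ring ⇒ reduced chart
    intro H
    obtain ⟨U, a, u, hae, hUaff, hu⟩ :=
      Groth.Agent.S10448.exists_affine_etale_nbhd X (AlgSp.Points.mk p)
    obtain ⟨l, hl, hlu⟩ := Groth.Agent.Lib.T2H1.GeomLift.exists_lift_through p hp a hae u hu
    refine ⟨U, a, u, hae, hu, ?_⟩
    haveI : IsAffine U.left := hUaff
    apply Groth.Agent.Lib.T2H1.OEtStalk.isReduced_stalk_of_affine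
    intro r hr
    let E : AlgSp.EtOver X.obj := AlgSp.EtOver.mk a hae
    let lE : (AlgSp.FieldPt.liftsTo p).obj E := ⟨l, hl⟩
    let σ : ↥((AlgSp.OEt X.obj).obj.obj (Opposite.op E)) := ULift.up r
    have hσ : IsNilpotent σ := by
      obtain ⟨n, hn⟩ := hr
      exact ⟨n, by
        apply ULift.ext
        exact hn⟩
    have h0 : (AlgSp.stalkEtι p (AlgSp.OEt X.obj) ⟨E, lE⟩).hom σ = 0 :=
      (hσ.map (AlgSp.stalkEtι p (AlgSp.OEt X.obj) ⟨E, lE⟩).hom).eq_zero
    have h0' : (AlgSp.stalkEtι p (AlgSp.OEt X.obj) ⟨E, lE⟩).hom σ =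
        (AlgSp.stalkEtι p (AlgSp.OEt X.obj) ⟨E, lE⟩).hom 0 := by rw [h0, map_zero]
    obtain ⟨V, φ, y, hy, hφ⟩ := (Groth.Agent.Lib.T2H1.OEtStalk.germ_eq_iff X p hp E lE _ _).1 h0'
    rw [map_zero] at hφ
    have hφ' : φ.hom.left.left.appTop.hom r = 0 := congrArg ULift.down hφ
    haveI : Etale φ.hom.left.left := AlgSp.EtOver.etale_left φ
    have h1 := Groth.Agent.Lib.T2H1.OEtStalk.germ_eq_zero_of_appTop_eq_zero φ.hom.left.left
      (y.1.left (default : Spec (CommRingCat.of p.K))) r hφ'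
    refine Groth.Agent.Lib.T2H1.OEtStalk.germ_eq_zero_of_eq ?_ r h1
    rw [← hlu]
    have h2 : y.1 ≫ φ.hom.left = l := congrArg Subtype.val hy
    rw [← h2]
    rfl

end Groth.Agent.S10225
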