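import Groth.Statements.S10239
import Groth.Agent.Lib.T2H1OEtShG

set_option autoImplicit false
universe u
open CategoryTheory CategoryTheory.Limits AlgebraicGeometry Topology TopologicalSpace
open AlgSp

namespace Groth.Agent.S10239

/-- (1) ⇔ (4) ⇔ (5): let X be an algebraic space over a scheme S, x ∈ |X| and n ≥ 1 an integer. The
following are equivalent: (1) for every scheme U, etale h_U ⟶ X and u ∈ U over x the local ring of U
at u has at most n minimal primes, and for some such (U, u) exactly n; (4) for every such (U, u) the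
number of geometric branches of U at u is n; (5) for every geometric point x̄ over x the etale local
ring of X at x̄ has exactly n minimal primes. -/
theorem result {S : Scheme.{u}} (X : AlgSp.Space S) (x : AlgSp.Points X.obj)
    (n : ℕ) (hn : 1 ≤ n) :
    (((∀ (U : Over S) (a : (AlgSp.yon S).obj U ⟶ X.obj) (u : ↥U.left),
        AlgSp.RepWith @Etale a → AlgSp.Points.ofPt a u = x → (minimalPrimes ↥(U.left.presheaf.stalk u)).encard ≤ n) ∧
        AlgSp.HasAt (fun U u => (minimalPrimes ↥(U.presheaf.stalk u)).encard = n) X.obj x) ↔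
      (∀ (U : Over S) (a : (AlgSp.yon S).obj U ⟶ X.obj) (u : ↥U.left),
        AlgSp.RepWith @Etale a → AlgSp.Points.ofPt a u = x → Brnch.numGeomBranchesAt U.left u = n)) ∧
    ((∀ (U : Over S) (a : (AlgSp.yon S).obj U ⟶ X.obj) (u : ↥U.left),
        AlgSp.RepWith @Etale a → AlgSp.Points.ofPt a u = x → Brnch.numGeomBranchesAt U.left u = n) ↔
      ∀ p : AlgSp.FieldPt X.obj, p.IsGeometric → AlgSp.Points.mk p = x →
        (minimalPrimes ↥(AlgSp.OEtStalk p)).encard = n) := by
  refine ⟨⟨?_, ?_⟩, ⟨?_, ?_⟩⟩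
  · rintro ⟨hle, U₁, a₁, u₁, ha₁, hu₁, hn₁⟩ U a u ha hu
    have hn₁' : (minimalPrimes ↥(U₁.left.presheaf.stalk u₁)).encard = n := hn₁
    apply le_antisymm
    · by_contra hcon
      have hlt : (n : ℕ∞) < Brnch.numGeomBranchesAt U.left u := lt_of_not_ge hcon
      have hk : ((n + 1 : ℕ) : ℕ∞) ≤ Brnch.numGeomBranchesAt U.left u := by
        rw [Nat.cast_add, Nat.cast_one]
        exact Order.add_one_le_of_lt hlt
      obtain ⟨U', a', u', ha', hu', hle'⟩ :=
        Groth.Agent.Lib.T2H1.OEtShG.exists_chart_le_encard a ha u hu (n + 1) hk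
      have := hle'.trans (hle U' a' u' ha' hu')
      rw [Nat.cast_le] at this
      omega
    · rw [Groth.Agent.Lib.T2H1.OEtShG.numGeomBranchesAt_eq X x a ha u hu a₁ ha₁ u₁ hu₁, ← hn₁']
      exact Groth.Agent.Lib.T2H1.OEtShG.encard_minimalPrimes_le _ _
  · intro h
    refine ⟨fun U a u ha hu => ?_, ?_⟩
    · rw [← h U a u ha hu]
      exact Groth.Agent.Lib.T2H1.OEtShG.encard_minimalPrimes_le _ _
    · obtain ⟨U, a, u, ha, -, hu⟩ := Groth.Agent.S10448.exists_affine_etale_nbhd X x
      obtain ⟨U', a', u', ha', hu', hle'⟩ :=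
        Groth.Agent.Lib.T2H1.OEtShG.exists_chart_le_encard a ha u hu n (h U a u ha hu).ge
      refine ⟨U', a', u', ha', hu', ?_⟩
      apply le_antisymm _ hle'
      rw [← h U' a' u' ha' hu']
      exact Groth.Agent.Lib.T2H1.OEtShG.encard_minimalPrimes_le _ _
  · intro h p hp hpx
    obtain ⟨U, a, u, ha, -, hu⟩ := Groth.Agent.S10448.exists_affine_etale_nbhd X x
    rw [Groth.Agent.Lib.T2H1.OEtShF.encard_minimalPrimes_OEtStalk X p hp U a ha u
      (hu.trans hpx.symm)]
    exact h U a u ha hu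
  · intro h U a u ha hu
    obtain ⟨p, hp, hpx⟩ := Groth.Agent.Lib.Helper9.SpPoint.exists_geometric_over x
    rw [← Groth.Agent.Lib.T2H1.OEtShF.encard_minimalPrimes_OEtStalk X p hp U a ha u
      (hu.trans hpx.symm)]
    exact h p hp hpx

end Groth.Agent.S10239
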