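import Groth.Statements.S10441
import Groth.Agent.Lib.T2H1DecentBranch

set_option autoImplicit false
universe u
open CategoryTheory CategoryTheory.Limits AlgebraicGeometry Topology TopologicalSpace
open AlgSp

namespace Groth.Agent.S10441

lemma hasUnique_iff (A : Type u) [CommRing A] :
    CAlgX.HasUniqueMinimalPrime A ↔ (minimalPrimes A).encard = 1 := by
  unfold CAlgX.HasUniqueMinimalPrime
  rw [Set.encard_eq_one]
  constructor
  · rintro ⟨p, hp, huniq⟩
    exact ⟨p, Set.eq_singleton_iff_unique_mem.2 ⟨hp, huniq⟩⟩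
  · rintro ⟨p, hp⟩
    refine ⟨p, by rw [hp]; rfl, fun q hq => ?_⟩
    rw [hp] at hq
    exact hq

/-- For a decent algebraic space X over a scheme S and x ∈ |X|, fix an elementary etale neighbourhood
(U₀, u₀) of (X, x) and a henselization R of O_{U₀, u₀} (a model of the henselian local ring at x).
The following are equivalent: (1) O_{U, u} has exactly one minimal prime whenever (U, u) is an
elementary etale neighbourhood of (X, x); (2) a unique irreducible component of U passes through u
for all such (U, u); (3) O_{U, u} is unibranch for all such (U, u); (4) R has exactly one minimal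
prime. -/
theorem result {S : Scheme.{u}} (X : AlgSp.Space S)
    (hX : AlgSp.IsDecent X.obj) (x : AlgSp.Points X.obj) {U₀ : Over S}
    (a₀ : (AlgSp.yon S).obj U₀ ⟶ X.obj) (u₀ : ↥U₀.left) (h₀ : AlgSp.IsElemEtaleNbhd a₀ u₀ x)
    (R : Type u) [CommRing R] [IsLocalRing R] [Algebra ↥(U₀.left.presheaf.stalk u₀) R]
    [IsLocalHom (algebraMap ↥(U₀.left.presheaf.stalk u₀) R)] [Hensel.IsHenselization ↥(U₀.left.presheaf.stalk u₀) R] :
    ((∀ (U : Over S) (a : (AlgSp.yon S).obj U ⟶ X.obj) (u : ↥U.left), AlgSp.IsElemEtaleNbhd a u x →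
        CAlgX.HasUniqueMinimalPrime ↥(U.left.presheaf.stalk u)) ↔
      (∀ (U : Over S) (a : (AlgSp.yon S).obj U ⟶ X.obj) (u : ↥U.left), AlgSp.IsElemEtaleNbhd a u x →
        {Z : Set ↥U.left | Z ∈ irreducibleComponents ↥U.left ∧ u ∈ Z}.encard = 1)) ∧
    ((∀ (U : Over S) (a : (AlgSp.yon S).obj U ⟶ X.obj) (u : ↥U.left), AlgSp.IsElemEtaleNbhd a u x →
        {Z : Set ↥U.left | Z ∈ irreducibleComponents ↥U.left ∧ u ∈ Z}.encard = 1) ↔
      (∀ (U : Over S) (a : (AlgSp.yon S).obj U ⟶ X.obj) (u : ↥U.left), AlgSp.IsElemEtaleNbhd a u x →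
        CAlg2.IsUnibranch ↥(U.left.presheaf.stalk u))) ∧
    ((∀ (U : Over S) (a : (AlgSp.yon S).obj U ⟶ X.obj) (u : ↥U.left), AlgSp.IsElemEtaleNbhd a u x →
        CAlg2.IsUnibranch ↥(U.left.presheaf.stalk u)) ↔ CAlgX.HasUniqueMinimalPrime R) := by
  obtain ⟨F1, F2, F3⟩ := Groth.Agent.Lib.T2H1.DecentBranch.package X hX x a₀ u₀ h₀ R
  have key1 : (∀ (U : Over S) (a : (AlgSp.yon S).obj U ⟶ X.obj) (u : ↥U.left),
        AlgSp.IsElemEtaleNbhd a u x → (minimalPrimes ↥(U.left.presheaf.stalk u)).encard = 1) ↔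
      (minimalPrimes R).encard = 1 := by
    constructor
    · intro hall
      apply le_antisymm
      · by_contra hlt
        rw [not_le] at hlt
        have h1 : ((2 : ℕ) : ℕ∞) ≤ (minimalPrimes R).encard := by
          have := Order.add_one_le_of_lt hlt
          exact_mod_cast this
        obtain ⟨U', a', u', hn'', hle⟩ := F3 2 h1
        rw [hall U' a' u' hn''] at hle
        have h3 : 2 ≤ 1 := by exact_mod_cast hle
        omega
      · rw [← hall U₀ a₀ u₀ h₀]
        exact F2 U₀ a₀ u₀ h₀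
    · intro hN U a u hn'
      apply le_antisymm
      · exact hN ▸ F2 U a u hn'
      · rw [Set.one_le_encard_iff_nonempty]
        exact Set.nonempty_coe_sort.1 (Ideal.nonempty_minimalPrimes
          (bot_ne_top : (⊥ : Ideal ↥(U.left.presheaf.stalk u)) ≠ ⊤))
  have key3 : (∀ (U : Over S) (a : (AlgSp.yon S).obj U ⟶ X.obj) (u : ↥U.left),
        AlgSp.IsElemEtaleNbhd a u x → CAlg2.IsUnibranch ↥(U.left.presheaf.stalk u)) ↔
      (minimalPrimes R).encard = 1 := by
    constructor
    · intro hall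
      rw [← F1 U₀ a₀ u₀ h₀]
      exact (Groth.Agent.S9235.result _).2 (hall U₀ a₀ u₀ h₀)
    · intro hN U a u hn'
      apply (Groth.Agent.S9235.result _).1
      rw [F1 U a u hn', hN]
  refine ⟨?_, ?_, ?_⟩
  · simp only [Groth.Agent.Lib.T2H1.BranchCount.encard_irreducibleComponents_mem, hasUnique_iff]
  · simp only [Groth.Agent.Lib.T2H1.BranchCount.encard_irreducibleComponents_mem]
    exact key1.trans key3.symm
  · rw [hasUnique_iff]
    exact key3

end Groth.Agent.S10441
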