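import Groth.Statements.S10227
import Groth.Agent.Lib.T2H1OEtShG
import Groth.Agent.S10239
import Groth.Agent.S10441

set_option autoImplicit false
universe u
open CategoryTheory CategoryTheory.Limits AlgebraicGeometry Topology TopologicalSpace
open AlgSp

namespace Groth.Agent.S10227

lemma one_le_encard_minimalPrimes (A : Type u) [CommRing A] [Nontrivial A] :
    1 ≤ (minimalPrimes A).encard := by
  rw [Set.one_le_encard_iff_nonempty]
  obtain ⟨⟨p, hp⟩⟩ := Ideal.nonempty_minimalPrimes (I := (⊥ : Ideal A)) bot_ne_top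
  exact ⟨p, hp⟩

/-- (1) ⇔ (4) ⇔ (5): let X be an algebraic space over a scheme S and x ∈ |X|. The following are
equivalent: for every scheme U, every etale h_U ⟶ X and every point u of U over x, the local ring of
U at u has a unique minimal prime; for every such (U, u), the local ring of U at u is geometrically
unibranch; for every geometric point x̄ over x, the etale local ring of X at x̄ has a unique minimal
prime. -/
theorem result {S : Scheme.{u}} (X : AlgSp.Space S) (x : AlgSp.Points X.obj) :
    ((∀ (U : Over S) (a : (AlgSp.yon S).obj U ⟶ X.obj) (u : ↥U.left),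
        AlgSp.RepWith @Etale a → AlgSp.Points.ofPt a u = x → CAlgX.HasUniqueMinimalPrime ↥(U.left.presheaf.stalk u)) ↔
      (∀ (U : Over S) (a : (AlgSp.yon S).obj U ⟶ X.obj) (u : ↥U.left),
        AlgSp.RepWith @Etale a → AlgSp.Points.ofPt a u = x → CAlg2.IsGeomUnibranch ↥(U.left.presheaf.stalk u))) ∧
    ((∀ (U : Over S) (a : (AlgSp.yon S).obj U ⟶ X.obj) (u : ↥U.left),
        AlgSp.RepWith @Etale a → AlgSp.Points.ofPt a u = x → CAlgX.HasUniqueMinimalPrime ↥(U.left.presheaf.stalk u)) ↔
      ∀ p : AlgSp.FieldPt X.obj, p.IsGeometric → AlgSp.Points.mk p = x →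
        CAlgX.HasUniqueMinimalPrime ↥(AlgSp.OEtStalk p)) := by
  obtain ⟨h1, h2⟩ := Groth.Agent.S10239.result X x 1 le_rfl
  simp only [Nat.cast_one] at h1 h2
  have hA : (∀ (U : Over S) (a : (AlgSp.yon S).obj U ⟶ X.obj) (u : ↥U.left),
        AlgSp.RepWith @Etale a → AlgSp.Points.ofPt a u = x →
          CAlgX.HasUniqueMinimalPrime ↥(U.left.presheaf.stalk u)) ↔
      (∀ (U : Over S) (a : (AlgSp.yon S).obj U ⟶ X.obj) (u : ↥U.left),
        AlgSp.RepWith @Etale a → AlgSp.Points.ofPt a u = x →
          Brnch.numGeomBranchesAt U.left u = 1) := by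
    rw [← h1]
    constructor
    · intro h
      refine ⟨fun U a u ha hu =>
        ((Groth.Agent.S10441.hasUnique_iff _).1 (h U a u ha hu)).le, ?_⟩
      obtain ⟨U, a, u, ha, -, hu⟩ := Groth.Agent.S10448.exists_affine_etale_nbhd X x
      exact ⟨U, a, u, ha, hu, (Groth.Agent.S10441.hasUnique_iff _).1 (h U a u ha hu)⟩
    · rintro ⟨h, -⟩ U a u ha hu
      rw [Groth.Agent.S10441.hasUnique_iff]
      exact le_antisymm (h U a u ha hu) (one_le_encard_minimalPrimes _)
  refine ⟨?_, ?_⟩
  · rw [hA]
    constructor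
    · intro h U a u ha hu
      exact (Groth.Agent.S9236.result _).1 (h U a u ha hu)
    · intro h U a u ha hu
      exact (Groth.Agent.S9236.result _).2 (h U a u ha hu)
  · rw [hA, h2]
    constructor
    · intro h p hp hpx
      exact (Groth.Agent.S10441.hasUnique_iff _).2 (h p hp hpx)
    · intro h p hp hpx
      exact (Groth.Agent.S10441.hasUnique_iff _).1 (h p hp hpx)

end Groth.Agent.S10227
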