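import Groth.Statements.S10233
import Mathlib
import Groth.Agent.Lib.Helper1ClosedSub

set_option autoImplicit false
universe u
open CategoryTheory CategoryTheory.Limits AlgebraicGeometry
open AlgSp

namespace Groth.Agent.S10233

open Groth.Agent.Lib.Helper1

/-- Let X be an algebraic space over a scheme S with a presentation (U, R, s, t, p), and let i' : Z' ⟶ U
be an immersion of schemes that is R-invariant, meaning that one locally closed subscheme R' of R is
at the same time the inverse image of Z' under s and under t. Then Z' descends to a locally closed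
subspace of X: there is a morphism of algebraic spaces i : Z ⟶ X representable by immersions
together with a map h_{Z'} ⟶ Z making h_{Z'} the fibre product Z ×_X h_U; moreover i is a closed
(resp. open) immersion when i' is. -/
theorem result {S : Scheme.{u}} (X : AlgSp.Space S) {R U : Over S} (s t : R ⟶ U)
    (p : (AlgSp.yon S).obj U ⟶ X.obj) (hp : AlgSp.IsPresentation s t p)
    {Z' R' : Scheme.{u}} (i' : Z' ⟶ U.left) [IsImmersion i'] (k : R' ⟶ R.left) (s' t' : R' ⟶ Z')
    (hs : IsPullback k s' s.left i') (ht : IsPullback k t' t.left i') :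
    ∃ (Z : AlgSp.Space S) (i : Z ⟶ X) (q : (AlgSp.yon S).obj (Over.mk (i' ≫ U.hom)) ⟶ Z.obj),
      AlgSp.RepWith @IsImmersion i.hom ∧
      IsPullback q ((AlgSp.yon S).map (Over.homMk i' rfl : Over.mk (i' ≫ U.hom) ⟶ U)) i.hom p ∧
      (IsClosedImmersion i' → AlgSp.RepWith @IsClosedImmersion i.hom) ∧
      (IsOpenImmersion i' → AlgSp.RepWith @IsOpenImmersion i.hom) := by
  obtain ⟨C, hC⟩ : ∃ C : Over S, C = Over.mk (i' ≫ U.hom) := ⟨_, rfl⟩
  obtain ⟨iC, hiC⟩ : ∃ iC : Over.mk (i' ≫ U.hom) ⟶ U, iC = Over.homMk i' rfl := ⟨_, rfl⟩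
  rw [← hiC]
  have hleft : iC.left = i' := by rw [hiC]; rfl
  haveI : Mono iC.left := by rw [hleft]; infer_instance
  haveI : Mono iC := (Over.forget S).mono_of_mono_map ‹_›
  have hinv : ClosedSub.Invariant p iC := by
    rintro T a b hab ⟨l, hl⟩
    -- the point of `R`
    obtain ⟨r, hr⟩ := (AlgSp.yon S).map_surjective (hp.isPullback.lift _ _ hab.symm)
    have hr1 : r ≫ t = b := by
      apply (AlgSp.yon S).map_injective
      rw [Functor.map_comp, hr, hp.isPullback.lift_fst]
    have hr2 : r ≫ s = a := by
      apply (AlgSp.yon S).map_injective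
      rw [Functor.map_comp, hr, hp.isPullback.lift_snd]
    have hw : r.left ≫ s.left = l.left ≫ i' := by
      have h1 : l.left ≫ iC.left = a.left := congrArg (fun x => x.left) hl
      have h2 : r.left ≫ s.left = a.left := congrArg (fun x => x.left) hr2
      rw [hleft] at h1
      rw [h1, h2]
    have h1 : hs.lift r.left l.left hw ≫ k = r.left := hs.lift_fst _ _ _
    have hb : (hs.lift r.left l.left hw ≫ t') ≫ i' = b.left := by
      have h2 : r.left ≫ t.left = b.left := congrArg (fun x => x.left) hr1
      rw [Category.assoc, ← ht.w, ← Category.assoc, h1, h2]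
    refine ⟨Over.homMk (hs.lift r.left l.left hw ≫ t') ?_, ?_⟩
    · show (hs.lift r.left l.left hw ≫ t') ≫ i' ≫ U.hom = T.hom
      rw [← Category.assoc, hb, Over.w b]
    · ext
      show (hs.lift r.left l.left hw ≫ t') ≫ iC.left = b.left
      rw [hleft]
      exact hb
  have hZ := ClosedSub.isAlgSpace_obj p iC X.property hp.etale hp.surjective hinv
  obtain ⟨q, sq⟩ := ClosedSub.exists_chart p iC hinv
  have key : ∀ (P : MorphismProperty Scheme.{u}),
      (P = @IsClosedImmersion ∨ P = @IsOpenImmersion ∨ P = @IsImmersion) →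
      [P.IsStableUnderBaseChange] → P i' → AlgSp.RepWith P (ClosedSub.incl p iC) := by
    intro P hP _ hPi
    exact Groth.Agent.S9932.result (X := ⟨ClosedSub.obj p iC, hZ⟩) (Y := X) P hP
      (ObjectProperty.homMk (ClosedSub.incl p iC)) U p hp.etale hp.surjective q
      ((AlgSp.yon S).map iC) sq ((AlgSp.repWith_yon_map_iff P iC).2 (by rw [hleft]; exact hPi))
  refine ⟨⟨ClosedSub.obj p iC, hZ⟩, ObjectProperty.homMk (ClosedSub.incl p iC), q, ?_, sq, ?_, ?_⟩
  · exact key @IsImmersion (Or.inr (Or.inr rfl)) inferInstance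
  · intro h
    exact key @IsClosedImmersion (Or.inl rfl) h
  · intro h
    exact key @IsOpenImmersion (Or.inr (Or.inl rfl)) h

end Groth.Agent.S10233
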