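import Groth.Statements.S10246
import Mathlib
import Groth.Agent.S9872
import Groth.Agent.S9927

set_option autoImplicit false
universe u
open CategoryTheory CategoryTheory.Limits AlgebraicGeometry Topology TopologicalSpace
open AlgSp

namespace Groth.Agent.S10246

open Opposite

/-- a morphism to an affine scheme with prescribed map on global sections. -/
lemma exists_hom_appTop {A B : Scheme.{u}} [IsAffine B] (ψ : Γ(B, ⊤) ⟶ Γ(A, ⊤)) :
    ∃ g : A ⟶ B, g.appTop = ψ := by
  obtain ⟨g, hg⟩ : ∃ g : A ⟶ B, g = A.toSpecΓ ≫ Spec.map ψ ≫ inv B.toSpecΓ := ⟨_, rfl⟩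
  refine ⟨g, ?_⟩
  have e : A.toSpecΓ ≫ Spec.map g.appTop = A.toSpecΓ ≫ Spec.map ψ := by
    rw [← Scheme.toSpecΓ_naturality, hg, Category.assoc, Category.assoc, IsIso.inv_hom_id,
      Category.comp_id]
  have h := congrArg Scheme.Hom.appTop e
  rw [Scheme.Hom.comp_appTop, Scheme.Hom.comp_appTop, Scheme.toSpecΓ_appTop,
    Scheme.ΓSpecIso_naturality, Scheme.ΓSpecIso_naturality] at h
  exact (cancel_epi _).1 h

variable {S : Scheme.{u}}

/-- the component at `E` of a ring map to the global sections. -/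
noncomputable def comp (X : AlgSp.Sp S) (T : Over S)
    (φ : Γ(T.left, ⊤) →+* ↥(AlgSp.gsectEt (AlgSp.OEt X))) (E : AlgSp.EtOver X) :
    Γ(T.left, ⊤) →+* Γ(E.obj.left.left, ⊤) :=
  (ULift.ringEquiv.toRingHom).comp ((limit.π (AlgSp.OEt X).obj (op E)).hom.comp φ)

lemma comp_apply (X : AlgSp.Sp S) (T : Over S)
    (φ : Γ(T.left, ⊤) →+* ↥(AlgSp.gsectEt (AlgSp.OEt X))) (E : AlgSp.EtOver X) (r : Γ(T.left, ⊤)) :
    comp X T φ E r = ((limit.π (AlgSp.OEt X).obj (op E)) (φ r)).down := rfl

lemma comp_map (X : AlgSp.Sp S) (T : Over S)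
    (φ : Γ(T.left, ⊤) →+* ↥(AlgSp.gsectEt (AlgSp.OEt X))) {E E' : AlgSp.EtOver X} (h : E ⟶ E') :
    (h.hom.left.left.appTop.hom).comp (comp X T φ E') = comp X T φ E := by
  ext r
  rw [RingHom.comp_apply, comp_apply, comp_apply]
  have hw := limit.w (AlgSp.OEt X).obj h.op
  have h2 := congrArg (fun m => (m (φ r)).down) hw
  simp only [CommRingCat.comp_apply] at h2
  rw [← h2]
  rfl

/-- Let X be an algebraic space over a terminal base scheme (so that morphisms over the base are all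
morphisms) and T an affine scheme. Then f ↦ f♯ is a bijection from morphisms X ⟶ T to ring maps Γ(T,
O_T) ⟶ Γ(X, O_X), where Γ(X, O_X) is the ring of global sections of the structure sheaf on the small
etale site and f♯ is characterised by: for every scheme U etale over X, following f♯ by the
restriction Γ(X, O_X) ⟶ Γ(U, O_U) gives the map on global sections of the induced morphism U ⟶ T. -/
theorem result {S : Scheme.{u}} (hS : IsTerminal S) (X : AlgSp.Space S)
    (T : Over S) [IsAffine T.left] (φ : Γ(T.left, ⊤) →+* ↥(AlgSp.gsectEt (AlgSp.OEt X.obj))) :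
    ∃! f : X.obj ⟶ (AlgSp.yon S).obj T,
      ∀ (E : AlgSp.EtOver X.obj) (r : Γ(T.left, ⊤)),
        ((limit.π (AlgSp.OEt X.obj).obj (Opposite.op E)) (φ r)).down =
          ((AlgSp.yon S).preimage (E.obj.hom ≫ f)).left.appTop r := by
  classical
  -- the morphisms `g_E : E ⟶ T`
  have hg : ∀ E : AlgSp.EtOver X.obj, ∃ g : E.obj.left ⟶ T,
      g.left.appTop = CommRingCat.ofHom (comp X.obj T φ E) := by
    intro E
    obtain ⟨g, hg⟩ := exists_hom_appTop (A := E.obj.left.left) (B := T.left)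
      (CommRingCat.ofHom (comp X.obj T φ E))
    exact ⟨Over.homMk g (hS.hom_ext _ _), hg⟩
  choose g hgapp using hg
  have hgmap : ∀ {E E' : AlgSp.EtOver X.obj} (h : E ⟶ E'), h.hom.left ≫ g E' = g E := by
    intro E E' h
    ext
    apply ext_of_isAffine
    rw [Over.comp_left, Scheme.Hom.comp_appTop, hgapp, hgapp]
    ext r
    have := congrArg (fun m => m r) (comp_map X.obj T φ h)
    exact this
  -- the atlas
  obtain ⟨U, p, hpe, hps⟩ := X.property.atlas
  haveI hpepi : Epi p := Groth.Agent.S9927.epi_of_repWith p hpe hps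
  obtain ⟨R, s, fst, sq⟩ := hpe.1 p
  obtain ⟨t, rfl⟩ := (AlgSp.yon S).map_surjective fst
  obtain ⟨-, ⟨hcolim⟩⟩ := Groth.Agent.S9872.result S X.obj X.property p hpe hps s t sq
  let EU : AlgSp.EtOver X.obj := AlgSp.EtOver.mk p hpe
  have hte : AlgSp.RepWith @Etale ((AlgSp.yon S).map t) :=
    MorphismProperty.of_isPullback (P := AlgSp.RepWith @Etale) sq.flip hpe
  let ER : AlgSp.EtOver X.obj := AlgSp.EtOver.mk ((AlgSp.yon S).map t ≫ p)
    ((AlgSp.RepWith @Etale).comp_mem _ _ hte hpe)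
  let t' : ER ⟶ EU := AlgSp.EtOver.homMk t rfl
  let s' : ER ⟶ EU := AlgSp.EtOver.homMk s sq.w.symm
  have hts : t ≫ g EU = s ≫ g EU := (hgmap t').trans (hgmap s').symm
  let f : X.obj ⟶ (AlgSp.yon S).obj T :=
    hcolim.desc (Cofork.ofπ ((AlgSp.yon S).map (g EU))
      (by rw [← Functor.map_comp, ← Functor.map_comp, hts]))
  have hpf : p ≫ f = (AlgSp.yon S).map (g EU) := hcolim.fac _ WalkingParallelPair.one
  -- the characterising property for `f`
  have hf : ∀ E : AlgSp.EtOver X.obj, E.obj.hom ≫ f = (AlgSp.yon S).map (g E) := by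
    intro E
    obtain ⟨W, w1, fstW, sqW⟩ := hpe.1 E.obj.hom
    obtain ⟨w2, rfl⟩ := (AlgSp.yon S).map_surjective fstW
    haveI : Etale w1.left := hpe.2 _ _ _ sqW
    haveI : Surjective w1.left := hps.2 _ _ _ sqW
    have hw1e : AlgSp.RepWith @Etale ((AlgSp.yon S).map w1) :=
      (AlgSp.repWith_yon_map_iff _ _).2 (inferInstance : Etale w1.left)
    have hw1s : AlgSp.RepWith @Surjective ((AlgSp.yon S).map w1) :=
      (AlgSp.repWith_yon_map_iff _ _).2 (inferInstance : Surjective w1.left)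
    haveI : Epi ((AlgSp.yon S).map w1) := Groth.Agent.S9927.epi_of_repWith _ hw1e hw1s
    let EW : AlgSp.EtOver X.obj := AlgSp.EtOver.mk ((AlgSp.yon S).map w1 ≫ E.obj.hom)
      ((AlgSp.RepWith @Etale).comp_mem _ _ hw1e E.property)
    let w1' : EW ⟶ E := AlgSp.EtOver.homMk w1 rfl
    let w2' : EW ⟶ EU := AlgSp.EtOver.homMk w2 sqW.w
    have h12 : w1 ≫ g E = w2 ≫ g EU := (hgmap w1').trans (hgmap w2').symm
    rw [← cancel_epi ((AlgSp.yon S).map w1), ← Category.assoc, ← sqW.w, Category.assoc, hpf,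
      ← Functor.map_comp, ← Functor.map_comp, h12]
  refine ⟨f, ?_, ?_⟩
  · intro E r
    rw [hf E, Functor.preimage_map, hgapp]
    rfl
  · intro f' hf'
    rw [← cancel_epi p, hpf]
    have h1 : (AlgSp.yon S).preimage (p ≫ f') = g EU := by
      ext
      apply ext_of_isAffine
      rw [hgapp]
      ext r
      exact (hf' EU r).symm
    rw [← h1, Functor.map_preimage]

end Groth.Agent.S10246
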