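import Groth.Statements.S10249
import Mathlib
import Groth.Agent.Lib.T2H1StalkDim

set_option autoImplicit false
universe u
open CategoryTheory CategoryTheory.Limits AlgebraicGeometry Topology TopologicalSpace
open AlgSp

namespace Groth.Agent.S10249

/-- pointwise predicates invariant under etale morphisms pass along etale morphisms. -/
lemma hasAt_iff_of_isEtaleMor {S : Scheme.{u}} {Q : ∀ U : Scheme.{u}, ↥U → Prop}
    (hQ : Groth.Agent.Lib.T2H1.HasAt.EtInv1 Q) {X Y : AlgSp.Space S} (f : X ⟶ Y)
    (hf : AlgSp.IsEtaleMor f.hom) (x : AlgSp.Points X.obj) :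
    AlgSp.HasAt Q X.obj x ↔ AlgSp.HasAt Q Y.obj (AlgSp.Points.map f.hom x) := by
  constructor
  · rintro ⟨U, a, u, ha, hu, hq⟩
    exact ⟨U, a ≫ f.hom, u, hf a ha, by rw [← AlgSp.Points.map_ofPt, hu], hq⟩
  · intro H
    obtain ⟨U, a, hae, has⟩ := X.property.atlas
    obtain ⟨u, hu⟩ := Groth.Agent.S10177.surjective_ofPt a has x
    refine ⟨U, a, u, hae, hu, ?_⟩
    exact Groth.Agent.Lib.T2H1.HasAt.of_hasAt hQ _ H (a ≫ f.hom) (hf a hae) u
      (by rw [← AlgSp.Points.map_ofPt, hu])

/-- Let X and Y be algebraic spaces over a scheme S, f : X ⟶ Y an etale morphism and x ∈ |X| with image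
y ∈ |Y|. Then (1) X at x and Y at y have the same dimension: for every d, some etale chart h_U ⟶ X
from a scheme U and some point u of U over x have local dimension d (of the topological space U at
u) if and only if the same holds for Y at y; and (2) the local rings of X at x and of Y at y have
the same Krull dimension, in the same some-chart sense with the Krull dimension of the local ring of
U at u. -/
theorem result {S : Scheme.{u}} {X Y : AlgSp.Space S} (f : X ⟶ Y)
    (hf : AlgSp.IsEtaleMor f.hom) (x : AlgSp.Points X.obj) :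
    (∀ d : WithBot ℕ∞,
        AlgSp.HasAt (fun U u => FlatMor.localDim ↥U u = d) X.obj x ↔
          AlgSp.HasAt (fun U u => FlatMor.localDim ↥U u = d) Y.obj (AlgSp.Points.map f.hom x)) ∧
    (∀ d : WithBot ℕ∞,
        AlgSp.HasAt (fun U u => ringKrullDim ↥(U.presheaf.stalk u) = d) X.obj x ↔
          AlgSp.HasAt (fun U u => ringKrullDim ↥(U.presheaf.stalk u) = d) Y.obj (AlgSp.Points.map f.hom x)) := by
  exact ⟨fun d => hasAt_iff_of_isEtaleMor
      (Groth.Agent.Lib.T2H1.HasAt.etInv1_localDim (fun e => e = d)) f hf x,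
    fun d => hasAt_iff_of_isEtaleMor
      (Groth.Agent.Lib.T2H1.HasAt.etInv1_stalkDim (fun e => e = d)) f hf x⟩

end Groth.Agent.S10249
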