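import Groth.Statements.S10348
import Mathlib
import Groth.Agent.Lib.T2H1StalkDim

set_option autoImplicit false
universe u
open CategoryTheory CategoryTheory.Limits AlgebraicGeometry Topology TopologicalSpace
open AlgSp

namespace Groth.Agent.S10348

/-- an algebra with incomparable fibres has at most the dimension of the base. -/
lemma ringKrullDim_le_of_incomparable {R S : Type*} [CommRing R] [CommRing S] [Algebra R S]
    (hinc : ∀ (P Q : Ideal S) [P.IsPrime] [Q.IsPrime], P ≤ Q → P.under R = Q.under R → P = Q) :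
    ringKrullDim S ≤ ringKrullDim R := by
  apply Order.krullDim_le_of_strictMono (PrimeSpectrum.comap (algebraMap R S))
  intro P Q hPQ
  have hle : PrimeSpectrum.comap (algebraMap R S) P ≤ PrimeSpectrum.comap (algebraMap R S) Q :=
    Ideal.comap_mono hPQ.le
  refine lt_of_le_of_ne hle (fun heq => ?_)
  have h1 : P.asIdeal.under R = Q.asIdeal.under R := congrArg PrimeSpectrum.asIdeal heq
  have h2 : P.asIdeal = Q.asIdeal := hinc P.asIdeal Q.asIdeal hPQ.le h1
  exact hPQ.ne (PrimeSpectrum.ext h2)

/-- a locally quasi-finite morphism of schemes does not raise the dimension of local rings. -/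
lemma ringKrullDim_stalk_le_of_lqf {U V : Scheme.{u}} (h : U ⟶ V) [LocallyQuasiFinite h] (x : U) :
    ringKrullDim (U.presheaf.stalk x) ≤ ringKrullDim (V.presheaf.stalk (h x)) := by
  have hqf : (h.stalkMap x).hom.QuasiFinite := h.quasiFiniteAt x
  algebraize [(h.stalkMap x).hom]
  exact ringKrullDim_le_of_incomparable
    (fun P Q _ _ hPQ hh => Algebra.QuasiFinite.eq_of_le_of_under_eq
      (R := V.presheaf.stalk (h x)) P Q hPQ hh)

/-- Let S be a scheme, X and Y algebraic spaces over S, and f : X ⟶ Y a morphism which is locally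
quasi-finite; let x ∈ |X| have image y ∈ |Y|. Then the local ring of X at x has dimension at most
that of the local ring of Y at the point y (both dimensions read on etale charts through the
points). -/
theorem result {S : Scheme.{u}} {X Y : AlgSp.Space S} (f : X ⟶ Y)
    (hf : AlgSp.LocP (@LocallyQuasiFinite ⊓ @LocallyOfFiniteType) f.hom) (x : AlgSp.Points X.obj)
    (d e : WithBot ℕ∞)
    (hx : AlgSp.HasAt (fun U u => ringKrullDim ↥(U.presheaf.stalk u) = d) X.obj x)
    (hy : AlgSp.HasAt (fun V v => ringKrullDim ↥(V.presheaf.stalk v) = e) Y.obj (AlgSp.Points.map f.hom x)) :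
    d ≤ e := by
  obtain ⟨U, V, a, b, h, u, ha, hb, hc, hu⟩ :=
    Groth.Agent.Lib.Helper12.LocPNbhd.exists_chart X.property Y.property f.hom x
  haveI : LocallyQuasiFinite h.left := (hf a b h ha hb hc).1
  have e1 : ringKrullDim ↥(U.left.presheaf.stalk u) = d :=
    Groth.Agent.Lib.T2H1.HasAt.of_hasAt
      (Groth.Agent.Lib.T2H1.HasAt.etInv1_stalkDim (fun t => t = d)) x hx a ha u hu
  have hv : AlgSp.Points.ofPt b (h.left u) = AlgSp.Points.map f.hom x := by
    rw [← hu, AlgSp.Points.map_ofPt, hc, Groth.Agent.S10176.ofPt_map_comp]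
  have e2 : ringKrullDim ↥(V.left.presheaf.stalk (h.left u)) = e :=
    Groth.Agent.Lib.T2H1.HasAt.of_hasAt
      (Groth.Agent.Lib.T2H1.HasAt.etInv1_stalkDim (fun t => t = e)) _ hy b hb (h.left u) hv
  rw [← e1, ← e2]
  exact ringKrullDim_stalk_le_of_lqf h.left u

end Groth.Agent.S10348
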