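import Groth.Statements.S10347
import Groth.Agent.S10348
import Groth.Agent.Lib.Helper4FibDimL

set_option autoImplicit false
universe u
open CategoryTheory CategoryTheory.Limits AlgebraicGeometry Topology TopologicalSpace
open AlgSp

namespace Groth.Agent.S10347


/-- a surjective etale morphism preserves the dimension. -/
lemma topologicalKrullDim_eq_of_etale_surjective {U V : Scheme.{u}} (p : U ⟶ V) [Etale p]
    [Surjective p] : topologicalKrullDim U = topologicalKrullDim V := by
  rw [Groth.Agent.Lib.Helper4.FibDim.topologicalKrullDim_eq_iSup_ringKrullDim_stalk,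
    Groth.Agent.Lib.Helper4.FibDim.topologicalKrullDim_eq_iSup_ringKrullDim_stalk]
  apply le_antisymm
  · refine iSup_le fun x => ?_
    rw [Groth.Agent.Lib.T2H1.HasAt.ringKrullDim_stalk_eq_of_etale p x]
    exact le_iSup (fun v : V => ringKrullDim (V.presheaf.stalk v)) (p x)
  · refine iSup_le fun v => ?_
    obtain ⟨x, rfl⟩ := p.surjective v
    rw [← Groth.Agent.Lib.T2H1.HasAt.ringKrullDim_stalk_eq_of_etale p x]
    exact le_iSup (fun x : U => ringKrullDim (U.presheaf.stalk x)) x

/-- a locally quasi-finite morphism does not raise the dimension. -/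
lemma topologicalKrullDim_le_of_lqf {U V : Scheme.{u}} (h : U ⟶ V) [LocallyQuasiFinite h] :
    topologicalKrullDim U ≤ topologicalKrullDim V := by
  rw [Groth.Agent.Lib.Helper4.FibDim.topologicalKrullDim_eq_iSup_ringKrullDim_stalk,
    Groth.Agent.Lib.Helper4.FibDim.topologicalKrullDim_eq_iSup_ringKrullDim_stalk]
  refine iSup_le fun x => ?_
  exact (Groth.Agent.S10348.ringKrullDim_stalk_le_of_lqf h x).trans
    (le_iSup (fun v : V => ringKrullDim (V.presheaf.stalk v)) (h x))

/-- For a locally quasi-finite morphism f : X ⟶ Y of algebraic spaces over a scheme S (locally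
quasi-finite and locally of finite type, etale locally on source and target), dim X ≤ dim Y. -/
theorem result {S : Scheme.{u}} {X Y : AlgSp.Space S} (f : X ⟶ Y)
    (hf : AlgSp.LocP (@LocallyQuasiFinite ⊓ @LocallyOfFiniteType) f.hom) :
    AlgSp.dim X.obj ≤ AlgSp.dim Y.obj := by
  unfold AlgSp.dim
  refine iSup_le fun U => iSup_le fun a => iSup_le fun ha => ?_
  obtain ⟨V, b, hb, hbs⟩ := Y.property.atlas
  have hrep : AlgSp.Representable b := hb.1
  obtain ⟨q, hq⟩ := (AlgSp.yon S).map_surjective (hrep.fst (a ≫ f.hom))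
  have sq : IsPullback ((AlgSp.yon S).map q) ((AlgSp.yon S).map (hrep.snd (a ≫ f.hom))) b
      (a ≫ f.hom) := by
    rw [hq]
    exact hrep.isPullback (a ≫ f.hom)
  haveI hpe : Etale (hrep.snd (a ≫ f.hom)).left := hb.2 _ _ _ sq
  haveI hps : Surjective (hrep.snd (a ≫ f.hom)).left := hbs.2 _ _ _ sq
  have ha' : AlgSp.RepWith @Etale ((AlgSp.yon S).map (hrep.snd (a ≫ f.hom)) ≫ a) :=
    (AlgSp.RepWith @Etale).comp_mem _ _ ((AlgSp.repWith_yon_map_iff _ _).2 hpe) ha
  have hc : ((AlgSp.yon S).map (hrep.snd (a ≫ f.hom)) ≫ a) ≫ f.hom =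
      (AlgSp.yon S).map q ≫ b := by
    rw [Category.assoc]
    exact sq.w.symm
  haveI : LocallyQuasiFinite q.left := (hf _ b q ha' hb hc).1
  rw [← topologicalKrullDim_eq_of_etale_surjective (hrep.snd (a ≫ f.hom)).left]
  refine (topologicalKrullDim_le_of_lqf q.left).trans ?_
  exact le_iSup_of_le V (le_iSup_of_le b (le_iSup_of_le hb le_rfl))

end Groth.Agent.S10347
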