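import Groth.Statements.S10250
import Groth.Agent.S10347
import Groth.Agent.S9906

set_option autoImplicit false
universe u
open CategoryTheory CategoryTheory.Limits AlgebraicGeometry Topology TopologicalSpace
open AlgSp

namespace Groth.Agent.S10250

/-- Let f : X ⟶ Y be an etale and surjective morphism of algebraic spaces over a scheme S. Then X and Y
have the same dimension (the dimension of an algebraic space being the supremum of the Krull
dimensions of the schemes etale over it). -/
theorem result {S : Scheme.{u}} {X Y : AlgSp.Space S} (f : X ⟶ Y)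
    (hf : AlgSp.IsEtaleMor f.hom) (hs : AlgSp.IsSurjectiveMor f.hom) :
    AlgSp.dim X.obj = AlgSp.dim Y.obj := by
  unfold AlgSp.dim
  apply le_antisymm
  · refine iSup_le fun U => iSup_le fun a => iSup_le fun ha => ?_
    exact le_iSup_of_le U (le_iSup_of_le (a ≫ f.hom) (le_iSup_of_le (hf a ha) le_rfl))
  · refine iSup_le fun V => iSup_le fun b => iSup_le fun hb => ?_
    obtain ⟨U, a, ha, has⟩ := X.property.atlas
    have hg : AlgSp.RepWith @Etale (a ≫ f.hom) := hf a ha
    have hgs : AlgSp.RepWith @Surjective (a ≫ f.hom) := by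
      refine Groth.Agent.S9906.repWith_surjective_of_surjective_map _ hg.1 ?_
      intro y
      obtain ⟨x, rfl⟩ := hs y
      obtain ⟨t, rfl⟩ := Groth.Agent.S9906.surjective_map_of_repWith a has x
      exact ⟨t, AlgSp.Points.map_comp _ _ _⟩
    have hrep : AlgSp.Representable (a ≫ f.hom) := hg.1
    obtain ⟨q, hq⟩ := (AlgSp.yon S).map_surjective (hrep.fst b)
    have sq : IsPullback ((AlgSp.yon S).map q) ((AlgSp.yon S).map (hrep.snd b)) (a ≫ f.hom) b := by
      rw [hq]
      exact hrep.isPullback b
    haveI hpe : Etale (hrep.snd b).left := hg.2 _ _ _ sq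
    haveI hps : Surjective (hrep.snd b).left := hgs.2 _ _ _ sq
    -- `q` is etale as the base change of `b`
    have hq' : AlgSp.RepWith @Etale ((AlgSp.yon S).map q) :=
      MorphismProperty.of_isPullback (P := AlgSp.RepWith @Etale) sq.flip hb
    have ha' : AlgSp.RepWith @Etale ((AlgSp.yon S).map q ≫ a) :=
      (AlgSp.RepWith @Etale).comp_mem _ _ hq' ha
    rw [← Groth.Agent.S10347.topologicalKrullDim_eq_of_etale_surjective (hrep.snd b).left]
    exact le_iSup_of_le _ (le_iSup_of_le _ (le_iSup_of_le ha' le_rfl))

end Groth.Agent.S10250
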