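import Groth.Statements.S10281
import Mathlib
import Groth.Agent.Lib.Helper12Proper
import Groth.Agent.Lib.Helper12OpenSub2
import Groth.Agent.S10278
import Groth.Agent.S10279
import Groth.Agent.S9925
import Groth.Agent.S9919
import Groth.Agent.S9965
import Groth.Agent.S10191

set_option autoImplicit false
universe u
open CategoryTheory CategoryTheory.Limits AlgebraicGeometry
open AlgSp

namespace Groth.Agent.S10281

open Groth.Agent.Lib.Helper12.Proper

/-- The scheme theoretic image of a space proper over B in a space separated and locally of finite type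
over B is proper over B, and the source surjects onto it. -/
theorem result {S : Scheme.{u}} {X Y Z B : AlgSp.Space S} (h : X ⟶ Y) (f : X ⟶ B)
    (g : Y ⟶ B) (comm : h ≫ g = f) (hf : AlgSp.IsProperMor f.hom) (hg : AlgSp.IsSeparatedMor g.hom)
    (hg' : AlgSp.LocP @LocallyOfFiniteType g.hom) (i : Z ⟶ Y) (hZ : AlgSp.IsSchImage h.hom i.hom)
    (h' : X ⟶ Z) (fac : h' ≫ i = h) :
    AlgSp.IsProperMor (i ≫ g).hom ∧ AlgSp.IsSurjectiveMor h'.hom := by
  have hi : AlgSp.RepWith @IsClosedImmersion i.hom := hZ.1
  have hfac : h'.hom ≫ i.hom = h.hom := congrArg (fun m => m.hom) fac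
  haveI : Mono i.hom := Groth.Agent.S9928.mono_of_repWith @IsClosedImmersion
    (fun _ _ f hf => by haveI : IsClosedImmersion f := hf; infer_instance) i.hom hi
  have hp_sep : AlgSp.IsSeparatedMor (i ≫ g).hom :=
    isSeparatedMor_comp i.hom g.hom (isSeparatedMor_of_mono i.hom) hg
  have hcomm' : h' ≫ (i ≫ g) = f := by rw [← Category.assoc, fac, comm]
  obtain ⟨huc, hcl⟩ := (Groth.Agent.S10278.result h' f (i ≫ g) hcomm' hp_sep).1 hf.2.2
  -- h is quasi-compact
  have hgqs : AlgSp.IsQuasiSeparatedMor g.hom :=
    Groth.Agent.Lib.Helper12.OpenSub.repWith_mono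
      (fun _ _ g hg => by haveI : IsClosedImmersion g := hg; infer_instance) hg
  have hhq : AlgSp.IsQuasiCompactMor h.hom :=
    Groth.Agent.S9919.result h g (by rw [comm]; exact hf.2.1.2) hgqs
  have hdense := (Groth.Agent.S9965.result h i hhq hZ).2
  -- surjectivity
  have himm : AlgSp.RepWith @IsImmersion i.hom :=
    Groth.Agent.Lib.Helper12.OpenSub.repWith_mono
      (fun _ _ g hg => by haveI : IsClosedImmersion g := hg; infer_instance) hi
  have hinj : Function.Injective (AlgSp.Points.map i.hom) :=
    (Groth.Agent.S10191.result i himm).1.injective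
  have hicl : IsClosedMap (AlgSp.Points.map i.hom) :=
    isClosedMap_of_repWith_isClosedImmersion i.hom hi
  have hsurj : AlgSp.IsSurjectiveMor h'.hom := by
    intro z
    have hz : AlgSp.Points.map i.hom z ∈ closure (Set.range (AlgSp.Points.map h.hom)) :=
      hdense ⟨z, rfl⟩
    have hr : Set.range (AlgSp.Points.map h.hom) =
        AlgSp.Points.map i.hom '' Set.range (AlgSp.Points.map h'.hom) := by
      rw [← Set.range_comp]
      congr 1
      funext x
      rw [← hfac]
      exact AlgSp.Points.map_comp _ _ _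
    rw [hr, (hicl _ hcl).closure_eq] at hz
    obtain ⟨z', hz', e⟩ := hz
    rw [← hinj e]
    exact hz'
  have huc' : AlgSp.IsUnivClosedMor (i ≫ g).hom :=
    Groth.Agent.S10279.result h' f (i ≫ g) hcomm' hf.2.2 hsurj
  exact ⟨⟨hp_sep, ⟨locP_lft_comp Y.property B.property i.hom g.hom
    (locP_lft_of_isClosedImmersion Y.property i.hom hi) hg',
    Groth.Agent.S9925.result (i ≫ g) huc'⟩, huc'⟩, hsurj⟩

end Groth.Agent.S10281
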