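import Groth.Statements.S10282
import Mathlib
import Groth.Agent.Lib.T2H7ValLiftA

set_option autoImplicit false
universe u
open CategoryTheory CategoryTheory.Limits AlgebraicGeometry
open AlgSp

namespace Groth.Agent.S10282

/-- For a representable morphism of algebraic spaces the existence part of the valuative criterion with
extensions allowed is equivalent to the one without extensions. -/
theorem result {S : Scheme.{u}} {X Y : AlgSp.Space S} (f : X ⟶ Y)
    (hf : AlgSp.Representable f.hom) : AlgSp.ExistVC f.hom ↔ AlgSp.ExistVCStrict f.hom := by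
  constructor
  · intro h sq
    obtain ⟨e, l', hl'1, hl'2⟩ := h sq
    let genE : e.ptK' ⟶ e.ptA' := Over.homMk (Spec.map (CommRingCat.ofHom (algebraMap e.A' e.K'))) rfl
    let mψ : e.ptK' ⟶ sq.ptK := Over.homMk (Spec.map (CommRingCat.ofHom e.ψ)) (by
      change Spec.map _ ≫ Spec.map _ ≫ _ = Spec.map _ ≫ Spec.map _ ≫ _
      rw [← Spec.map_comp_assoc, ← Spec.map_comp_assoc, ← CommRingCat.ofHom_comp,
        ← CommRingCat.ofHom_comp, e.comm])
    let mφ : e.ptA' ⟶ sq.ptA := Over.homMk (Spec.map (CommRingCat.ofHom e.φ)) rfl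
    change (AlgSp.yon S).map genE ≫ l' = (AlgSp.yon S).map mψ ≫ sq.top at hl'1
    change l' ≫ f.hom = (AlgSp.yon S).map mφ ≫ sq.bot at hl'2
    have hcommO : mψ ≫ sq.j = genE ≫ mφ := by
      ext
      change Spec.map _ ≫ Spec.map _ = Spec.map _ ≫ Spec.map _
      rw [← Spec.map_comp, ← Spec.map_comp, ← CommRingCat.ofHom_comp, ← CommRingCat.ofHom_comp,
        e.comm]
    have hφinj : Function.Injective e.φ := by
      intro a b hab
      apply IsFractionRing.injective sq.A sq.K
      apply e.ψ.injective
      have h1 := RingHom.congr_fun e.comm a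
      have h2 := RingHom.congr_fun e.comm b
      simp only [RingHom.comp_apply] at h1 h2
      rw [← h1, ← h2, hab]
    -- the represented base change
    have sqP := hf.isPullback sq.bot
    set π := hf.snd sq.bot with hπ
    obtain ⟨xK₀, hxK₀⟩ := (AlgSp.yon S).map_surjective
      (sqP.lift sq.top ((AlgSp.yon S).map sq.j) sq.comm)
    obtain ⟨l'₀, hl'₀⟩ := (AlgSp.yon S).map_surjective (sqP.lift l' ((AlgSp.yon S).map mφ) hl'2)
    have hxK₀π : xK₀ ≫ π = sq.j := (AlgSp.yon S).map_injective (by
      rw [Functor.map_comp, hxK₀, sqP.lift_snd])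
    have hl'₀π : l'₀ ≫ π = mφ := (AlgSp.yon S).map_injective (by
      rw [Functor.map_comp, hl'₀, sqP.lift_snd])
    have hcompat : genE ≫ l'₀ = mψ ≫ xK₀ := (AlgSp.yon S).map_injective (by
      rw [Functor.map_comp, Functor.map_comp, hl'₀, hxK₀]
      apply sqP.hom_ext
      · rw [Category.assoc, Category.assoc, sqP.lift_fst, sqP.lift_fst, hl'1]
      · rw [Category.assoc, Category.assoc, sqP.lift_snd, sqP.lift_snd, ← Functor.map_comp,
          ← Functor.map_comp, hcommO])
    have := e.isLocalHom
    have hpre : ∀ x : sq.K, e.ψ x ∈ (algebraMap e.A' e.K').range →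
        x ∈ (algebraMap sq.A sq.K).range := by
      intro x hx
      rcases ValuationRing.isInteger_or_isInteger sq.A x with ⟨a, ha⟩ | ⟨a, ha⟩
      · exact ⟨a, ha⟩
      · by_cases hx0 : x = 0
        · exact ⟨0, by rw [map_zero, hx0]⟩
        obtain ⟨b, hb⟩ := hx
        have h1 : algebraMap e.A' e.K' (e.φ a * b) = 1 := by
          rw [map_mul, hb]
          have h2 := RingHom.congr_fun e.comm a
          simp only [RingHom.comp_apply] at h2
          rw [h2, ha, ← map_mul, inv_mul_cancel₀ hx0, map_one]
        have h3 : e.φ a * b = 1 := by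
          apply IsFractionRing.injective e.A' e.K'
          rw [h1, map_one]
        have h4 : IsUnit a := IsUnit.of_map e.φ a (IsUnit.of_mul_eq_one _ h3)
        obtain ⟨c, hc⟩ := h4.exists_right_inv
        refine ⟨c, ?_⟩
        have h5 : algebraMap sq.A sq.K a * algebraMap sq.A sq.K c = 1 := by
          rw [← map_mul, hc, map_one]
        rw [ha] at h5
        have h6 : algebraMap sq.A sq.K c = x * (x⁻¹ * algebraMap sq.A sq.K c) := by
          rw [← mul_assoc, mul_inv_cancel₀ hx0, one_mul]
        rw [h6, h5, mul_one]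
    obtain ⟨g, hg1, hg2⟩ := Groth.Agent.Lib.T2H7.ValLift.exists_lift_of_dominating
      (P := (hf.pullback sq.bot).left) (IsFractionRing.injective sq.A sq.K)
      (IsFractionRing.injective e.A' e.K') e.φ e.ψ e.comm hpre xK₀.left l'₀.left
      (by
        have := congrArg CommaMorphism.left hcompat
        exact this.symm)
    -- the lift lies over `Spec A`
    have hgπ : g ≫ π.left = 𝟙 _ := by
      obtain ⟨θ, hθ⟩ := Spec.map_surjective (g ≫ π.left)
      have h1 : Spec.map (CommRingCat.ofHom e.φ) ≫ (g ≫ π.left) =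
          Spec.map (CommRingCat.ofHom e.φ) := by
        rw [← Category.assoc, hg2]
        exact congrArg CommaMorphism.left hl'₀π
      rw [← hθ, ← Spec.map_comp] at h1
      have h2 := Spec.map_injective h1
      have h3 : θ = 𝟙 _ := by
        ext a
        apply hφinj
        have := congrArg (fun k => k.hom a) h2
        simpa using this
      rw [← hθ, h3, Spec.map_id]
    let gO : sq.ptA ⟶ hf.pullback sq.bot := Over.homMk g (by
      have h1 : π.left ≫ sq.ptA.hom = (hf.pullback sq.bot).hom := Over.w π
      rw [← h1, ← Category.assoc, hgπ]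
      exact Category.id_comp _)
    have hgOπ : gO ≫ π = 𝟙 _ := by
      ext
      exact hgπ
    have hjg : sq.j ≫ gO = xK₀ := by
      ext
      exact hg1
    refine ⟨(AlgSp.yon S).map gO ≫ hf.fst sq.bot, ?_, ?_⟩
    · rw [← Category.assoc, ← Functor.map_comp, hjg, hxK₀, sqP.lift_fst]
    · rw [Category.assoc, sqP.w, ← Category.assoc, ← Functor.map_comp, hgOπ,
        CategoryTheory.Functor.map_id, Category.id_comp]
  · intro h sq
    obtain ⟨l, hl1, hl2⟩ := h sq
    let e : sq.DomExt :=
      { A' := sq.A
        K' := sq.K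
        φ := RingHom.id _
        ψ := RingHom.id _
        comm := rfl
        isLocalHom := ⟨fun _ ha => ha⟩ }
    refine ⟨e, ?_⟩
    let mφ : e.ptA' ⟶ sq.ptA := Over.homMk (Spec.map (CommRingCat.ofHom e.φ)) rfl
    refine ⟨(AlgSp.yon S).map mφ ≫ l, ?_, ?_⟩
    · rw [← hl1, ← Category.assoc, ← Category.assoc, ← Functor.map_comp, ← Functor.map_comp]
      congr 2
      ext
      change Spec.map _ ≫ Spec.map _ = Spec.map _ ≫ Spec.map _
      rw [← Spec.map_comp, ← Spec.map_comp, ← CommRingCat.ofHom_comp, ← CommRingCat.ofHom_comp,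
        e.comm]
    · rw [Category.assoc, hl2]

end Groth.Agent.S10282
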