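import Groth.Statements.S10545
import Groth.Agent.S10540
import Groth.Agent.S10530
import Groth.Agent.S10527
import Groth.Agent.S10294

set_option autoImplicit false
universe u
open CategoryTheory CategoryTheory.Limits AlgebraicGeometry
open AlgSp

namespace Groth.Agent.S10545

/-- The property of morphisms of algebraic spaces over S given by f is finite locally free
(representable by finite, flat, locally finitely presented morphisms of schemes) is fpqc local on
the base: for an fpqc covering of an algebraic space Y by algebraic spaces Y_i, a morphism f : X ⟶ Y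
of algebraic spaces and cartesian squares X_i = Y_i ×_Y X, f has the property if and only if every
X_i ⟶ Y_i has it. -/
theorem result (S : Scheme.{u}) :
    AlgSp.IsLocalOnBase (AlgSp.IsFpqcCover (S := S)) AlgSp.IsFinLocFreeMor := by
  intro ι Y Yi g hY hYi hcov X f hX Xi p q hXi sq
  have h1 := Groth.Agent.S10540.result S Yi g hY hYi hcov f hX Xi p q hXi sq
  have h2 := Groth.Agent.S10530.result S Yi g hY hYi hcov f hX Xi p q hXi sq
  have h3 := Groth.Agent.S10527.result S Yi g hY hYi hcov f hX Xi p q hXi sq
  have e0 := (Groth.Agent.S10294.result (X := ⟨X, hX⟩) (Y := ⟨Y, hY⟩) (ObjectProperty.homMk f)).1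
  have ei : ∀ i, _ := fun i => (Groth.Agent.S10294.result (X := ⟨Xi i, hXi i⟩) (Y := ⟨Yi i, hYi i⟩)
    (ObjectProperty.homMk (p i))).1
  constructor
  · intro hf i
    obtain ⟨a, b, c⟩ := e0.1 hf
    exact (ei i).2 ⟨h1.1 a i, h2.1 b i, h3.1 c i⟩
  · intro H
    exact e0.2 ⟨h1.2 (fun i => ((ei i).1 (H i)).1), h2.2 (fun i => ((ei i).1 (H i)).2.1),
      h3.2 (fun i => ((ei i).1 (H i)).2.2)⟩

end Groth.Agent.S10545
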