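import Groth.Statements.S10296
import Mathlib
import Groth.Agent.S10267
import Groth.Agent.S10272
import Groth.Agent.S9905
import Groth.Agent.Lib.Helper12OpenSub2

set_option autoImplicit false
universe u
open CategoryTheory CategoryTheory.Limits AlgebraicGeometry
open AlgSp

namespace Groth.Agent.S10296

/-- The induced morphism from the normalization of X in Y to any integral Z -> X through which Y -> X
factors is the normalization of Z in Y. -/
theorem result {S : Scheme.{u}} {Y X X' Z : AlgSp.Space S} (f : Y ⟶ X)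
    (hqc : AlgSp.IsQuasiCompactMor f.hom) (hqs : AlgSp.IsQuasiSeparatedMor f.hom) (ν : X' ⟶ X) (f' : Y ⟶ X')
    (hn : AlgSp.IsRelNormalization f.hom ν.hom f'.hom) (π : Z ⟶ X) (hπ : AlgSp.IsIntegralMor π.hom) (g : Y ⟶ Z)
    (hg : g ≫ π = f) (h : X' ⟶ Z) (h1 : f' ≫ h = g) (h2 : h ≫ π = ν) :
    AlgSp.IsRelNormalization g.hom h.hom f'.hom := by
  obtain ⟨hfac, hν, huniv⟩ := hn
  have h1' : f'.hom ≫ h.hom = g.hom := congrArg (fun m => m.hom) h1
  have h2' : h.hom ≫ π.hom = ν.hom := congrArg (fun m => m.hom) h2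
  have hg' : g.hom ≫ π.hom = f.hom := congrArg (fun m => m.hom) hg
  -- `π` is separated
  have hπR : AlgSp.RepWith @IsIntegralHom π.hom := (Groth.Agent.S10267.result π).1.1 hπ
  have hπsep : AlgSp.IsSeparatedMor π.hom :=
    (Groth.Agent.S9905.result π hπR.1).1.2
      (Groth.Agent.Lib.Helper12.OpenSub.repWith_mono
        (fun _ _ k hk => by haveI : IsIntegralHom k := hk; infer_instance) hπR)
  -- `h` is integral
  have hh : AlgSp.IsIntegralMor h.hom :=
    (Groth.Agent.S10272.result h π hπsep).2 (by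
      change AlgSp.IsIntegralMor (h.hom ≫ π.hom)
      rw [h2']
      exact hν)
  refine ⟨h1', hh, ?_⟩
  intro Z' hZ' π' g' hπ' hgg
  let Z'S : AlgSp.Space S := ⟨Z', hZ'⟩
  let π'S : Z'S ⟶ Z := ObjectProperty.homMk π'
  -- the composite `Z' ⟶ X` is integral
  have hπ'R : AlgSp.RepWith @IsIntegralHom π' := (Groth.Agent.S10267.result π'S).1.1 hπ'
  have hcomp : AlgSp.IsIntegralMor (π' ≫ π.hom) :=
    (Groth.Agent.S10267.result (π'S ≫ π)).1.2
      (MorphismProperty.comp_mem _ _ _ hπ'R hπR)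
  obtain ⟨h', ⟨hh'1, hh'2⟩, hh'u⟩ := huniv hZ' (π' ≫ π.hom) g' hcomp
    (by rw [← Category.assoc, hgg, hg'])
  -- `h' ≫ π' = h` by uniqueness over `Z`
  obtain ⟨h₀, -, hh₀u⟩ := huniv Z.property π.hom g.hom hπ hg'
  have e1 : h' ≫ π' = h₀ := hh₀u _ ⟨by rw [← Category.assoc, hh'1, hgg], by
    rw [Category.assoc]; exact hh'2⟩
  have e2 : h.hom = h₀ := hh₀u _ ⟨h1', h2'⟩
  refine ⟨h', ⟨hh'1, e1.trans e2.symm⟩, ?_⟩
  intro h'' ⟨hh''1, hh''2⟩
  exact hh'u h'' ⟨hh''1, by rw [← Category.assoc, hh''2, h2']⟩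

end Groth.Agent.S10296
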