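import Groth.Statements.S10298
import Mathlib
import Groth.Agent.S10267

set_option autoImplicit false
universe u
open CategoryTheory CategoryTheory.Limits AlgebraicGeometry
open AlgSp

namespace Groth.Agent.S10298

/-- For a quasi-compact quasi-separated morphism of schemes, the relative normalization of schemes is
the normalization in the sense of algebraic spaces. -/
theorem result {S : Scheme.{u}} {V U N : Over S} (g : V ⟶ U)
    [QuasiCompact g.left] [QuasiSeparated g.left] (f' : V ⟶ N) (ν : N ⟶ U)
    (e : N.left ≅ g.left.normalization) (he1 : f'.left ≫ e.hom = g.left.toNormalization)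
    (he2 : e.hom ≫ g.left.fromNormalization = ν.left) :
    AlgSp.IsRelNormalization ((AlgSp.yon S).map g) ((AlgSp.yon S).map ν) ((AlgSp.yon S).map f') := by
  have hfac : f' ≫ ν = g := by
    apply Over.OverMorphism.ext
    rw [Over.comp_left, ← he2, ← Category.assoc, he1, Scheme.Hom.toNormalization_fromNormalization]
  have hνint : IsIntegralHom ν.left := by rw [← he2]; infer_instance
  refine ⟨by rw [← Functor.map_comp, hfac], ?_, ?_⟩
  · have h1 : AlgSp.RepWith @IsIntegralHom ((AlgSp.yon S).map ν) :=
      (AlgSp.repWith_yon_map_iff _ ν).2 hνint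
    exact (Groth.Agent.S10267.result ((AlgSp.ofScheme S).map ν)).1.2 h1
  · intro Z hZ π γ hπ hγ
    let ZS : AlgSp.Space S := ⟨Z, hZ⟩
    let πS : ZS ⟶ (AlgSp.ofScheme S).obj U := ObjectProperty.homMk π
    have hπR : AlgSp.RepWith @IsIntegralHom π := (Groth.Agent.S10267.result πS).1.1 hπ
    obtain ⟨hrep, hP⟩ := (AlgSp.repWith_iff _ π).1 hπR
    -- the scheme `Z'` representing `Z`
    obtain ⟨Z', i, fst, sq⟩ := hrep (𝟙 ((AlgSp.yon S).obj U))
    have hi : IsIntegralHom i.left := hP _ _ _ sq
    have hfst : IsIso fst := sq.flip.isIso_snd_of_isIso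
    have hfstπ : fst ≫ π = (AlgSp.yon S).map i := by rw [sq.w, Category.comp_id]
    -- the morphism `V ⟶ Z'`
    obtain ⟨γ₀, hγ₀⟩ := (AlgSp.yon S).map_surjective (γ ≫ inv fst)
    have hγ₀i : γ₀ ≫ i = g := by
      apply (AlgSp.yon S).map_injective
      rw [Functor.map_comp, hγ₀, Category.assoc, ← hfstπ, IsIso.inv_hom_id_assoc, hγ]
    have H : g.left = γ₀.left ≫ i.left := by rw [← Over.comp_left, hγ₀i]
    -- the induced morphism from the normalization
    let d : g.left.normalization ⟶ Z'.left := g.left.normalizationDesc γ₀.left i.left H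
    have hd1 : g.left.toNormalization ≫ d = γ₀.left :=
      Scheme.Hom.toNormalization_normalizationDesc _ _ _ H
    have hd2 : d ≫ i.left = g.left.fromNormalization := Scheme.Hom.normalizationDesc_comp _ _ _ H
    have hw : (e.hom ≫ d) ≫ Z'.hom = N.hom := by
      rw [← Over.w i, Category.assoc, reassoc_of% hd2, reassoc_of% he2, Over.w ν]
    let h₀ : N ⟶ Z' := Over.homMk (e.hom ≫ d) hw
    have hh₀1 : f' ≫ h₀ = γ₀ := by
      apply Over.OverMorphism.ext
      change f'.left ≫ e.hom ≫ d = γ₀.left
      rw [reassoc_of% he1, hd1]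
    have hh₀2 : h₀ ≫ i = ν := by
      apply Over.OverMorphism.ext
      change (e.hom ≫ d) ≫ i.left = ν.left
      rw [Category.assoc, hd2, he2]
    refine ⟨(AlgSp.yon S).map h₀ ≫ fst, ⟨?_, ?_⟩, ?_⟩
    · rw [← Functor.map_comp_assoc, hh₀1, hγ₀, Category.assoc, IsIso.inv_hom_id, Category.comp_id]
    · rw [Category.assoc, hfstπ, ← Functor.map_comp, hh₀2]
    · rintro h' ⟨hh'1, hh'2⟩
      obtain ⟨h'₀, hh'₀⟩ := (AlgSp.yon S).map_surjective (h' ≫ inv fst)
      have e1 : f' ≫ h'₀ = γ₀ := by
        apply (AlgSp.yon S).map_injective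
        rw [Functor.map_comp, hh'₀, ← Category.assoc, hh'1, hγ₀]
      have e2 : h'₀ ≫ i = ν := by
        apply (AlgSp.yon S).map_injective
        rw [Functor.map_comp, hh'₀, Category.assoc, ← hfstπ, IsIso.inv_hom_id_assoc, hh'2]
      have key : e.inv ≫ h'₀.left = d := by
        have : IsAffineHom i.left := inferInstance
        refine Scheme.Hom.normalization.hom_ext g.left _ _ i.left ?_ ?_ hd2
        · rw [hd1, ← he1, Category.assoc, e.hom_inv_id_assoc, ← Over.comp_left, e1]
        · rw [Category.assoc, ← Over.comp_left, e2, ← he2, e.inv_hom_id_assoc]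
      have : h'₀ = h₀ := by
        apply Over.OverMorphism.ext
        change h'₀.left = e.hom ≫ d
        rw [← key, e.hom_inv_id_assoc]
      rw [← this, hh'₀, Category.assoc, IsIso.inv_hom_id, Category.comp_id]

end Groth.Agent.S10298
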