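import Groth.Statements.S10302
import Mathlib
import Groth.Agent.Lib.T2H1StalkDim

set_option autoImplicit false
universe u
open CategoryTheory CategoryTheory.Limits AlgebraicGeometry
open AlgSp

namespace Groth.Agent.S10302

/-- a faithfully flat algebra has at least the dimension of the base. -/
lemma ringKrullDim_le_of_faithfullyFlat {R S : Type*} [CommRing R] [CommRing S] [Algebra R S]
    [Module.FaithfullyFlat R S] : ringKrullDim R ≤ ringKrullDim S := by
  rw [ringKrullDim, Order.krullDim]
  apply iSup_le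
  intro l
  obtain ⟨P, hP⟩ := PrimeSpectrum.comap_surjective_of_faithfullyFlat (A := R) (B := S) l.last
  haveI : P.asIdeal.LiesOver l.last.asIdeal := ⟨by rw [← hP]; rfl⟩
  obtain ⟨L, hlen, -, -⟩ := Ideal.exists_ltSeries_of_hasGoingDown l P.asIdeal
  rw [← hlen]
  exact Order.LTSeries.length_le_krullDim L

/-- a flat morphism of schemes does not raise the dimension of local rings downstairs. -/
lemma ringKrullDim_stalk_le_of_flat {U V : Scheme.{u}} (h : U ⟶ V) [Flat h] (x : U) :
    ringKrullDim (V.presheaf.stalk (h x)) ≤ ringKrullDim (U.presheaf.stalk x) := by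
  have hflat : (h.stalkMap x).hom.Flat := Flat.stalkMap h x
  have hloc : IsLocalHom (h.stalkMap x).hom := inferInstance
  algebraize [(h.stalkMap x).hom]
  haveI : IsLocalHom (algebraMap (V.presheaf.stalk (h x)) (U.presheaf.stalk x)) := hloc
  haveI : Module.FaithfullyFlat (V.presheaf.stalk (h x)) (U.presheaf.stalk x) :=
    Module.FaithfullyFlat.of_flat_of_isLocalHom
  exact ringKrullDim_le_of_faithfullyFlat

/-- A flat morphism of algebraic spaces maps points of codimension 0 to points of codimension 0. -/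
theorem result {S : Scheme.{u}} {X Y : AlgSp.Space S} (f : X ⟶ Y) (hf : AlgSp.LocP @Flat f.hom)
    (x : AlgSp.Points X.obj) (hx : AlgSp.HasAt (fun U u => ringKrullDim ↥(U.presheaf.stalk u) = 0) X.obj x) :
    AlgSp.HasAt (fun U u => ringKrullDim ↥(U.presheaf.stalk u) = 0) Y.obj (AlgSp.Points.map f.hom x) := by
  obtain ⟨U, V, a, b, h, u, ha, hb, hc, hu⟩ :=
    Groth.Agent.Lib.Helper12.LocPNbhd.exists_chart X.property Y.property f.hom x
  haveI : Flat h.left := hf a b h ha hb hc
  have e1 : ringKrullDim ↥(U.left.presheaf.stalk u) = 0 :=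
    Groth.Agent.Lib.T2H1.HasAt.of_hasAt
      (Groth.Agent.Lib.T2H1.HasAt.etInv1_stalkDim (fun e => e = 0)) x hx a ha u hu
  have hv : AlgSp.Points.ofPt b (h.left u) = AlgSp.Points.map f.hom x := by
    rw [← hu, AlgSp.Points.map_ofPt, hc, Groth.Agent.S10176.ofPt_map_comp]
  refine ⟨V, b, h.left u, hb, hv, le_antisymm ?_ ringKrullDim_nonneg_of_nontrivial⟩
  rw [← e1]
  exact ringKrullDim_stalk_le_of_flat h.left u

end Groth.Agent.S10302
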