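import Groth.Statements.S10303
import Mathlib
import Groth.Agent.Lib.T2H1IrrFlat
import Groth.Agent.S9874

set_option autoImplicit false
universe u
open CategoryTheory CategoryTheory.Limits AlgebraicGeometry
open AlgSp

namespace Groth.Agent.S10303

/-- If Y has an etale surjective chart whose quasi-compact opens have finitely many irreducible
components and f : X -> Y is flat and locally of finite type, then X has such a chart too. -/
theorem result {S : Scheme.{u}} {X Y : AlgSp.Space S} (f : X ⟶ Y)
    (hf : AlgSp.LocP @Flat f.hom) (hf' : AlgSp.LocP @LocallyOfFiniteType f.hom)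
    (hY : AlgSp.EtaleLocally (fun U => ∀ W : U.Opens, IsCompact (W : Set ↥U) → (irreducibleComponents ↥W).Finite) Y.obj) :
    AlgSp.EtaleLocally (fun U => ∀ W : U.Opens, IsCompact (W : Set ↥U) → (irreducibleComponents ↥W).Finite) X.obj := by
  obtain ⟨V, b, hbe, hbs, hQV⟩ := hY
  have sq := IsPullback.of_hasPullback f.hom b
  have hP : AlgSp.IsAlgSpace (pullback f.hom b) :=
    Groth.Agent.S9874.isAlgSpace_of_isPullback Y.property.diag X.property
      (AlgSp.IsAlgSpace.yon_obj _) sq
  obtain ⟨U, a0, ha0e, ha0s⟩ := hP.atlas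
  have hfe : AlgSp.RepWith @Etale (pullback.fst f.hom b) :=
    MorphismProperty.of_isPullback (P := AlgSp.RepWith @Etale) sq.flip hbe
  have hfs : AlgSp.RepWith @Surjective (pullback.fst f.hom b) :=
    MorphismProperty.of_isPullback (P := AlgSp.RepWith @Surjective) sq.flip hbs
  obtain ⟨h, hh⟩ := (AlgSp.yon S).map_surjective (a0 ≫ pullback.snd f.hom b)
  have hae : AlgSp.RepWith @Etale (a0 ≫ pullback.fst f.hom b) :=
    (AlgSp.RepWith @Etale).comp_mem _ _ ha0e hfe
  have has : AlgSp.RepWith @Surjective (a0 ≫ pullback.fst f.hom b) :=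
    (AlgSp.RepWith @Surjective).comp_mem _ _ ha0s hfs
  have hcomm : (a0 ≫ pullback.fst f.hom b) ≫ f.hom = (AlgSp.yon S).map h ≫ b := by
    rw [Category.assoc, pullback.condition, ← Category.assoc, hh]
  haveI : Flat h.left := hf _ b h hae hbe hcomm
  haveI : LocallyOfFiniteType h.left := hf' _ b h hae hbe hcomm
  exact ⟨U, _, hae, has, Groth.Agent.Lib.T2H1.IrrFlat.locFinIrr_of_flat_lft h.left hQV⟩

end Groth.Agent.S10303
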