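import Groth.Statements.S10304
import Mathlib
import Groth.Agent.Lib.T2H1IrrFlat2

set_option autoImplicit false
universe u
open CategoryTheory CategoryTheory.Limits AlgebraicGeometry
open AlgSp

namespace Groth.Agent.S10304

/-- Equivalent forms of the condition that the schemes etale over X have locally finitely many
irreducible components: one etale surjective chart, every etale chart, finiteness of codimension-0
points of quasi-compact spaces etale over X, finiteness of irreducible components of such spaces. -/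
theorem result {S : Scheme.{u}} (X : AlgSp.Space S) :
    (AlgSp.EtaleLocally (fun U => ∀ W : U.Opens, IsCompact (W : Set ↥U) → (irreducibleComponents ↥W).Finite) X.obj ↔
      ∀ (U : Over S) (a : (AlgSp.yon S).obj U ⟶ X.obj), AlgSp.RepWith @Etale a →
        ∀ W : U.left.Opens, IsCompact (W : Set ↥U.left) → (irreducibleComponents ↥W).Finite) ∧
    (AlgSp.EtaleLocally (fun U => ∀ W : U.Opens, IsCompact (W : Set ↥U) → (irreducibleComponents ↥W).Finite) X.obj ↔
      ∀ (Y : AlgSp.Space S) (g : Y ⟶ X), AlgSp.IsEtaleMor g.hom → AlgSp.IsQuasiCompactSp Y.obj →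
        {y : AlgSp.Points Y.obj |
          AlgSp.HasAt (fun U u => ringKrullDim ↥(U.presheaf.stalk u) = 0) Y.obj y}.Finite) ∧
    (AlgSp.EtaleLocally (fun U => ∀ W : U.Opens, IsCompact (W : Set ↥U) → (irreducibleComponents ↥W).Finite) X.obj ↔
      ∀ (Y : AlgSp.Space S) (g : Y ⟶ X), AlgSp.IsEtaleMor g.hom → AlgSp.IsQuasiCompactSp Y.obj →
        (irreducibleComponents (AlgSp.Points Y.obj)).Finite) := by
  refine ⟨⟨fun hX U a ha => ?_, fun H => ?_⟩, ⟨fun hX Y g hg hY => ?_, fun H => ?_⟩,
    ⟨fun hX Y g hg hY => ?_, fun H => ?_⟩⟩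
  · exact Groth.Agent.Lib.T2H1.IrrFlat.locFinIrr_chart hX U a ha
  · obtain ⟨U, a, hae, has⟩ := X.property.atlas
    exact ⟨U, a, hae, has, H U a hae⟩
  · exact Groth.Agent.Lib.T2H1.IrrFlat.finite_codimZero_points hX g.hom hg hY
  · exact Groth.Agent.Lib.T2H1.IrrFlat.locFinIrr_of_forall_codimZero X.property
      (fun Y hY g hg hqc => H ⟨Y, hY⟩ (ObjectProperty.homMk g) hg hqc)
  · exact Groth.Agent.Lib.T2H1.IrrFlat.finite_irreducibleComponents_points hX g.hom hg hY
  · exact Groth.Agent.Lib.T2H1.IrrFlat.locFinIrr_of_forall_irreducibleComponents X.property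
      (fun Y hY g hg hqc => H ⟨Y, hY⟩ (ObjectProperty.homMk g) hg hqc)

end Groth.Agent.S10304
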