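import Groth.Statements.S10309
import Groth.Agent.Lib.T2H1HasAt
import Groth.Agent.S9355

set_option autoImplicit false
universe u
open CategoryTheory CategoryTheory.Limits AlgebraicGeometry
open AlgSp

namespace Groth.Agent.S10309


/-- an affine chart diagram through a point, with image inside a given open neighbourhood. -/
lemma exists_affine_chart {S : Scheme.{u}} {X Y : AlgSp.Space S} (f : X ⟶ Y)
    (V : Set (AlgSp.Points X.obj)) (hV : IsOpen V) (x : AlgSp.Points X.obj) (hx : x ∈ V) :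
    ∃ (U W : Over S) (a : (AlgSp.yon S).obj U ⟶ X.obj) (b : (AlgSp.yon S).obj W ⟶ Y.obj)
      (h : U ⟶ W), AlgSp.RepWith @Etale a ∧ AlgSp.RepWith @Etale b ∧
        a ≫ f.hom = (AlgSp.yon S).map h ≫ b ∧ IsAffine U.left ∧
        x ∈ Set.range (AlgSp.Points.ofPt a) ∧ Set.range (AlgSp.Points.ofPt a) ⊆ V := by
  obtain ⟨U, W, a, b, h, u, ha, hb, hc, hu⟩ :=
    Groth.Agent.Lib.Helper12.LocPNbhd.exists_chart X.property Y.property f.hom x
  have hpre : IsOpen (AlgSp.Points.ofPt a ⁻¹' V) := hV.preimage (AlgSp.Points.continuous_ofPt a)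
  have hu' : u ∈ AlgSp.Points.ofPt a ⁻¹' V := by
    show AlgSp.Points.ofPt a u ∈ V
    rw [hu]; exact hx
  obtain ⟨U₀', hU₀aff, huU₀, hU₀sub⟩ :=
    TopologicalSpace.Opens.isBasis_iff_nbhd.mp U.left.isBasis_affineOpens
      (show u ∈ (⟨_, hpre⟩ : U.left.Opens) from hu')
  obtain ⟨U₀, rfl⟩ : ∃ U₀ : U.left.Opens, U₀ = U₀' := ⟨U₀', rfl⟩
  let Wo : Over S := Over.mk (U₀.ι ≫ U.hom)
  let ι : Wo ⟶ U := Over.homMk U₀.ι rfl
  have hι : AlgSp.RepWith @Etale ((AlgSp.yon S).map ι) :=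
    (AlgSp.repWith_yon_map_iff _ _).2 (inferInstance : Etale U₀.ι)
  have ha' : AlgSp.RepWith @Etale ((AlgSp.yon S).map ι ≫ a) :=
    (AlgSp.RepWith @Etale).comp_mem _ _ hι ha
  refine ⟨Wo, W, (AlgSp.yon S).map ι ≫ a, b, ι ≫ h, ha', hb, ?_, hU₀aff, ?_, ?_⟩
  · rw [Category.assoc, hc, Functor.map_comp, Category.assoc]
  · refine ⟨(⟨u, huU₀⟩ : ↥U₀), ?_⟩
    rw [Groth.Agent.S10176.ofPt_map_comp]
    exact hu
  · rintro _ ⟨w, rfl⟩
    rw [Groth.Agent.S10176.ofPt_map_comp]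
    exact hU₀sub w.2

/-- For f locally of finite presentation, the locus where the relative dimension is at most n is
retrocompact in |X|. -/
theorem result {S : Scheme.{u}} {X Y : AlgSp.Space S} (f : X ⟶ Y)
    (hf : AlgSp.LocP @LocallyOfFinitePresentation f.hom) (n : ℕ) (V : Set (AlgSp.Points X.obj))
    (hV : IsOpen V) (hVc : IsCompact V) :
    IsCompact (V ∩ {x : AlgSp.Points X.obj |
      AlgSp.HasAtMor (fun _ _ h u => FlatMor.fibreDimAt h u ≤ (n : WithBot ℕ∞)) f.hom x}) := by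
  classical
  choose U W a b h ha hb hc hUaff hxa haV using
    fun (x : V) => exists_affine_chart f V hV x.1 x.2
  have hopen : ∀ x : V, IsOpen (Set.range (AlgSp.Points.ofPt (a x))) :=
    fun x => (Groth.Agent.S10176.isOpenMap_ofPt (a x) (ha x)).isOpen_range
  obtain ⟨t, ht⟩ := hVc.elim_finite_subcover (fun x : V => Set.range (AlgSp.Points.ofPt (a x)))
    hopen (fun y hy => Set.mem_iUnion.2 ⟨⟨y, hy⟩, hxa ⟨y, hy⟩⟩)
  have hEq : V ∩ {x : AlgSp.Points X.obj |
      AlgSp.HasAtMor (fun _ _ h u => FlatMor.fibreDimAt h u ≤ (n : WithBot ℕ∞)) f.hom x} =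
      ⋃ x ∈ t, AlgSp.Points.ofPt (a x) ''
        {u : ↥(U x).left | FlatMor.fibreDimAt (h x).left u ≤ (n : WithBot ℕ∞)} := by
    ext y
    simp only [Set.mem_inter_iff, Set.mem_ofPred_eq, Set.mem_iUnion, Set.mem_image, exists_prop]
    constructor
    · rintro ⟨hyV, hyL⟩
      obtain ⟨x, hxt, u, rfl⟩ : ∃ x ∈ t, y ∈ Set.range (AlgSp.Points.ofPt (a x)) := by
        simpa using ht hyV
      refine ⟨x, hxt, u, ?_, rfl⟩
      exact Groth.Agent.Lib.T2H1.HasAt.of_hasAtMor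
        (Groth.Agent.Lib.T2H1.HasAt.etInv_fibreDim (fun t => t ≤ (n : WithBot ℕ∞))) f.hom _ hyL
        (a x) (b x) (h x) (ha x) (hb x) (hc x) u rfl
    · rintro ⟨x, -, u, hu, rfl⟩
      exact ⟨haV x ⟨u, rfl⟩, U x, W x, a x, b x, h x, u, ha x, hb x, hc x, rfl, hu⟩
  rw [hEq]
  refine t.finite_toSet.isCompact_biUnion fun x _ => ?_
  haveI : IsAffine (U x).left := hUaff x
  haveI : LocallyOfFinitePresentation (h x).left := hf (a x) (b x) (h x) (ha x) (hb x) (hc x)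
  exact ((Groth.Agent.S9355.result (h x).left n).isCompact).image
    (AlgSp.Points.continuous_ofPt (a x))

end Groth.Agent.S10309
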