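import Groth.Statements.S10311
import Mathlib
import Groth.Agent.Lib.T2H1ChartBC

set_option autoImplicit false
universe u
open CategoryTheory CategoryTheory.Limits AlgebraicGeometry
open AlgSp

namespace Groth.Agent.S10311

/-- The relative dimension at a point of a morphism locally of finite type is preserved by base change. -/
theorem result {S : Scheme.{u}} {X Y Y' X' : AlgSp.Space S} (f : X ⟶ Y) (g : Y' ⟶ Y)
    (g' : X' ⟶ X) (f' : X' ⟶ Y') (sq : IsPullback g'.hom f'.hom f.hom g.hom)
    (hf : AlgSp.LocP @LocallyOfFiniteType f.hom) (x' : AlgSp.Points X'.obj) (d : WithBot ℕ∞)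
    (hd : AlgSp.HasAtMor (fun _ _ h u => FlatMor.fibreDimAt h u = d) f.hom (AlgSp.Points.map g'.hom x')) :
    AlgSp.HasAtMor (fun _ _ h u => FlatMor.fibreDimAt h u = d) f'.hom x' := by
  obtain ⟨U, V, a, b, h, u, ha, hb, hc, hu, hQ⟩ := hd
  obtain ⟨W, V', pr, c, hW, aW, b', w, haW, hb', hcW, -, -, sqS, hw, hpr⟩ :=
    Groth.Agent.Lib.T2H1.ChartBC.exists_chart_baseChange Y.property Y'.property sq a b h ha hb hc u
      x' hu
  haveI : LocallyOfFiniteType h.left := hf a b h ha hb hc
  refine ⟨W, V', aW, b', hW, w, haW, hb', hcW, hw, ?_⟩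
  show FlatMor.fibreDimAt hW.left w = d
  rw [Groth.Agent.Lib.Helper3.LocDimBC.fibreDimAt_eq_of_isPullback h.left c.left pr.left hW.left
    sqS w, hpr]
  exact hQ

end Groth.Agent.S10311
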