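import Groth.Statements.S10314
import Mathlib
import Groth.Agent.Lib.T2H1HasAt1
import Groth.Agent.Lib.Helper3RelDimFlat
import Groth.Agent.Lib.Helper12FibreSpec

set_option autoImplicit false
universe u
open CategoryTheory CategoryTheory.Limits AlgebraicGeometry
open AlgSp

namespace Groth.Agent.S10314

/-- For a flat morphism locally of finite type of relative dimension d between locally Noetherian
algebraic spaces, the dimension of X at a point equals the dimension of Y at the image point plus d. -/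
theorem result {S : Scheme.{u}} {X Y : AlgSp.Space S} (f : X ⟶ Y)
    (hX : AlgSp.IsLocNoethSp X.obj) (hY : AlgSp.IsLocNoethSp Y.obj) (hf : AlgSp.LocP @Flat f.hom)
    (hf' : AlgSp.LocP @LocallyOfFiniteType f.hom) (d : ℕ)
    (hd : ∀ x : AlgSp.Points X.obj, AlgSp.HasAtMor (fun _ _ h u => FlatMor.fibreDimAt h u = (d : WithBot ℕ∞)) f.hom x)
    (x : AlgSp.Points X.obj) (dX dY : WithBot ℕ∞) (hx : AlgSp.HasAt (fun U u => FlatMor.localDim ↥U u = dX) X.obj x)
    (hy : AlgSp.HasAt (fun U u => FlatMor.localDim ↥U u = dY) Y.obj (AlgSp.Points.map f.hom x)) :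
    dX = dY + (d : WithBot ℕ∞) := by
  obtain ⟨U, V, a, b, h, u, ha, hb, hc, hu⟩ :=
    Groth.Agent.Lib.Helper12.LocPNbhd.exists_chart X.property Y.property f.hom x
  haveI : IsLocallyNoetherian U.left :=
    Groth.Agent.Lib.Helper12.FibreSpec.isLocallyNoetherian_of_chart hX a ha
  haveI : IsLocallyNoetherian V.left :=
    Groth.Agent.Lib.Helper12.FibreSpec.isLocallyNoetherian_of_chart hY b hb
  haveI : Flat h.left := hf a b h ha hb hc
  haveI : LocallyOfFiniteType h.left := hf' a b h ha hb hc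
  have hdim : ∀ z : ↥U.left, FlatMor.fibreDimAt h.left z = (d : WithBot ℕ∞) := fun z =>
    Groth.Agent.Lib.T2H1.HasAt.of_hasAtMor
      (Groth.Agent.Lib.T2H1.HasAt.etInv_fibreDim (fun e => e = (d : WithBot ℕ∞))) f.hom _
      (hd (AlgSp.Points.ofPt a z)) a b h ha hb hc z rfl
  have key := Groth.Agent.Lib.Helper3.RelDimFlat.localDim_eq_add h.left d
    ((Groth.Agent.Lib.Helper3.RelDim.hasRelDim_iff_forall_fibreDimAt_eq h.left d).2 hdim) u
  have e1 : FlatMor.localDim ↥U.left u = dX :=
    Groth.Agent.Lib.T2H1.HasAt.of_hasAt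
      (Groth.Agent.Lib.T2H1.HasAt.etInv1_localDim (fun e => e = dX)) x hx a ha u hu
  have hv : AlgSp.Points.ofPt b (h.left u) = AlgSp.Points.map f.hom x := by
    rw [← hu, AlgSp.Points.map_ofPt, hc, Groth.Agent.S10176.ofPt_map_comp]
  have e2 : FlatMor.localDim ↥V.left (h.left u) = dY :=
    Groth.Agent.Lib.T2H1.HasAt.of_hasAt
      (Groth.Agent.Lib.T2H1.HasAt.etInv1_localDim (fun e => e = dY)) _ hy b hb (h.left u) hv
  rw [← e1, ← e2]
  exact key

end Groth.Agent.S10314
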