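import Groth.Statements.S10315
import Mathlib
import Groth.Agent.Lib.T2H1HasAt1
import Groth.Agent.Lib.Helper3RelDimFlat
import Groth.Agent.Lib.Helper3SmDim
import Groth.Agent.Lib.Helper3FlatFibDim
import Groth.Agent.Lib.Helper12FibreSpec

set_option autoImplicit false
universe u
open CategoryTheory CategoryTheory.Limits AlgebraicGeometry
open AlgSp

namespace Groth.Agent.S10315

/-- For a smooth morphism of locally Noetherian algebraic spaces, the dimension of X at x is the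
dimension of Y at the image of x plus the relative dimension of f at x. -/
theorem result {S : Scheme.{u}} {X Y : AlgSp.Space S} (f : X ⟶ Y)
    (hX : AlgSp.IsLocNoethSp X.obj) (hY : AlgSp.IsLocNoethSp Y.obj) (hf : AlgSp.LocP @Smooth f.hom)
    (x : AlgSp.Points X.obj) (d dX dY : WithBot ℕ∞)
    (hd : AlgSp.HasAtMor (fun _ _ h u => FlatMor.fibreDimAt h u = d) f.hom x)
    (hx : AlgSp.HasAt (fun U u => FlatMor.localDim ↥U u = dX) X.obj x)
    (hy : AlgSp.HasAt (fun U u => FlatMor.localDim ↥U u = dY) Y.obj (AlgSp.Points.map f.hom x)) :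
    dX = dY + d := by
  obtain ⟨U, V, a, b, h, u, ha, hb, hc, hu⟩ :=
    Groth.Agent.Lib.Helper12.LocPNbhd.exists_chart X.property Y.property f.hom x
  haveI : IsLocallyNoetherian U.left :=
    Groth.Agent.Lib.Helper12.FibreSpec.isLocallyNoetherian_of_chart hX a ha
  haveI : IsLocallyNoetherian V.left :=
    Groth.Agent.Lib.Helper12.FibreSpec.isLocallyNoetherian_of_chart hY b hb
  haveI : Smooth h.left := hf a b h ha hb hc
  obtain ⟨U₂, hU₂, V₁, hV₁, hxV₁, e₁, hstd⟩ := Smooth.exists_isStandardSmooth h.left u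
  obtain ⟨n, hn⟩ := Groth.Agent.Lib.Helper3.SmDim.exists_relDim_of_isStandardSmooth _ hstd
  have hdimU : ∀ z : ↥U.left, z ∈ V₁ → FlatMor.fibreDimAt h.left z = (n : WithBot ℕ∞) := fun z hz =>
    Groth.Agent.Lib.Helper3.SmDim.fibreDimAt_eq_of_chart h.left n z hU₂ hV₁ hz e₁ hn
  have hdn : d = (n : WithBot ℕ∞) := by
    have := Groth.Agent.Lib.T2H1.HasAt.of_hasAtMor
      (Groth.Agent.Lib.T2H1.HasAt.etInv_fibreDim (fun e => e = d)) f.hom _ hd a b h ha hb hc u hu
    rw [← this]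
    exact hdimU u hxV₁
  haveI : IsLocallyNoetherian (V₁ : Scheme.{u}) :=
    LocallyOfFiniteType.isLocallyNoetherian V₁.ι
  have hdim : ∀ z : ↥(V₁ : Scheme.{u}), FlatMor.fibreDimAt (V₁.ι ≫ h.left) z = (n : WithBot ℕ∞) := by
    intro z
    rw [Groth.Agent.Lib.Helper3.FlatFibDim.fibreDimAt_comp_of_isOpenImmersion]
    exact hdimU _ z.2
  have key := Groth.Agent.Lib.Helper3.RelDimFlat.localDim_eq_add (V₁.ι ≫ h.left) n
    ((Groth.Agent.Lib.Helper3.RelDim.hasRelDim_iff_forall_fibreDimAt_eq (V₁.ι ≫ h.left) n).2 hdim)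
    ⟨u, hxV₁⟩
  have e0 : FlatMor.localDim ↥(V₁ : Scheme.{u}) ⟨u, hxV₁⟩ = FlatMor.localDim ↥U.left u :=
    Groth.Agent.Lib.Helper6.EtDim.localDim_eq_of_etale V₁.ι ⟨u, hxV₁⟩
  have e1 : FlatMor.localDim ↥U.left u = dX :=
    Groth.Agent.Lib.T2H1.HasAt.of_hasAt
      (Groth.Agent.Lib.T2H1.HasAt.etInv1_localDim (fun e => e = dX)) x hx a ha u hu
  have hv : AlgSp.Points.ofPt b (h.left u) = AlgSp.Points.map f.hom x := by
    rw [← hu, AlgSp.Points.map_ofPt, hc, Groth.Agent.S10176.ofPt_map_comp]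
  have e2 : FlatMor.localDim ↥V.left (h.left u) = dY :=
    Groth.Agent.Lib.T2H1.HasAt.of_hasAt
      (Groth.Agent.Lib.T2H1.HasAt.etInv1_localDim (fun e => e = dY)) _ hy b hb (h.left u) hv
  rw [hdn, ← e1, ← e2, ← e0]
  exact key

end Groth.Agent.S10315
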