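import Groth.Statements.S10316
import Groth.Agent.Lib.T2H1ResTrdeg

set_option autoImplicit false
universe u
open CategoryTheory CategoryTheory.Limits AlgebraicGeometry
open AlgSp

namespace Groth.Agent.S10316

/-- For X -> Y locally quasi-finite and Y -> Z locally of finite type, the transcendence degree of x
over Z equals that of its image y over Z. -/
theorem result {S : Scheme.{u}} {X Y Z : AlgSp.Space S} (f : X ⟶ Y) (g : Y ⟶ Z)
    (hf : AlgSp.LocP (@LocallyQuasiFinite ⊓ @LocallyOfFiniteType) f.hom) (hg : AlgSp.LocP @LocallyOfFiniteType g.hom)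
    (x : AlgSp.Points X.obj) (r : Cardinal.{u}) :
    AlgSp.HasAtMor (fun _ _ h u => Dual3.resTrdeg h u = r) (f ≫ g).hom x ↔
      AlgSp.HasAtMor (fun _ _ h u => Dual3.resTrdeg h u = r) g.hom (AlgSp.Points.map f.hom x) := by
  obtain ⟨U, V, W, a, b, c, h, k, u, ha, hb, hc, hab, hbc, hu, -⟩ :=
    Groth.Agent.Lib.T2H1.Tower.exists_tower X.property Y.property Z.property f.hom g.hom x
  have hQ := Groth.Agent.Lib.T2H1.ResTrdeg.etInv_resTrdeg (fun s => s = r)
  have hu2 : AlgSp.Points.ofPt b (h.left u) = AlgSp.Points.map f.hom x := by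
    rw [← hu, AlgSp.Points.map_ofPt, hab, Groth.Agent.S10176.ofPt_map_comp]
  have hac : a ≫ (f ≫ g).hom = (AlgSp.yon S).map (h ≫ k) ≫ c := by
    show a ≫ f.hom ≫ g.hom = _
    rw [← Category.assoc, hab, Category.assoc, hbc, Functor.map_comp, Category.assoc]
  have hlqf : LocallyQuasiFinite h.left := (hf a b h ha hb hab).1
  have key : Dual3.resTrdeg (h ≫ k).left u = Dual3.resTrdeg k.left (h.left u) := by
    rw [Over.comp_left, Groth.Agent.Lib.T2H1.ResTrdeg.resTrdeg_comp,
      Groth.Agent.Lib.T2H1.ResTrdeg.resTrdeg_eq_zero_of_lqf h.left u, add_zero]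
  constructor
  · intro H
    have e := Groth.Agent.Lib.T2H1.HasAt.of_hasAtMor hQ (f ≫ g).hom x H a c (h ≫ k) ha hc hac u hu
    exact ⟨V, W, b, c, k, h.left u, hb, hc, hbc, hu2, key.symm.trans e⟩
  · intro H
    have e := Groth.Agent.Lib.T2H1.HasAt.of_hasAtMor hQ g.hom _ H b c k hb hc hbc (h.left u) hu2
    exact ⟨U, W, a, c, h ≫ k, u, ha, hc, hac, hu, key.trans e⟩

end Groth.Agent.S10316
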