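import Groth.Statements.S10318
import Groth.Agent.Lib.T2H1ResTrdeg
import Groth.Agent.Lib.Helper4DimFormulaAL

set_option autoImplicit false
universe u
open CategoryTheory CategoryTheory.Limits AlgebraicGeometry
open AlgSp

namespace Groth.Agent.S10318

/-- a point in the fibre of a locally quasi-finite morphism over a closed point is closed. -/
lemma isClosed_singleton_of_lqf {X Y : Scheme.{u}} (g : X ⟶ Y) [LocallyQuasiFinite g] (x : X)
    (hx : IsClosed ({g x} : Set Y)) : IsClosed ({x} : Set X) := by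
  have hs : IsClosed (g ⁻¹' {g x}) := hx.preimage g.continuous
  haveI : DiscreteTopology ↥(g ⁻¹' {g x}) := (g.isDiscrete_preimage_singleton (g x)).to_subtype
  have h1 : IsClosed ({⟨x, rfl⟩} : Set ↥(g ⁻¹' {g x})) := isClosed_discrete _
  have h2 := hs.isClosedEmbedding_subtypeVal.isClosedMap _ h1
  rwa [Set.image_singleton] at h2

/-- Over a Jacobson algebraic space, a finite type point of a space locally of finite type over it has
transcendence degree 0 over its image. -/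
theorem result {S : Scheme.{u}} {X Y : AlgSp.Space S} (f : X ⟶ Y)
    (hf : AlgSp.LocP @LocallyOfFiniteType f.hom) (hY : AlgSp.EtaleLocally (fun U => JacobsonSpace ↥U) Y.obj)
    (x : AlgSp.Points X.obj) (hx : AlgSp.HasAt (fun U u => IsClosed ({u} : Set ↥U)) X.obj x) :
    AlgSp.HasAtMor (fun _ _ h u => Dual3.resTrdeg h u = 0) f.hom x := by
  obtain ⟨V₀, p, hpe, hps, -⟩ := hY
  obtain ⟨U₀, a₀, u₀, ha₀, hu₀, hcl⟩ := hx
  obtain ⟨U₁, snd, fst, sq⟩ := hpe.1 (a₀ ≫ f.hom)
  obtain ⟨h, rfl⟩ := (AlgSp.yon S).map_surjective fst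
  haveI : Etale snd.left := hpe.2 _ _ snd sq
  haveI : Surjective snd.left := hps.2 _ _ snd sq
  haveI : LocallyQuasiFinite snd.left := Groth.Agent.S10555.lqf_of_etale snd.left
  obtain ⟨u₁, hu₁⟩ := snd.left.surjective u₀
  have ha : AlgSp.RepWith @Etale ((AlgSp.yon S).map snd ≫ a₀) :=
    (AlgSp.RepWith @Etale).comp_mem _ _ ((AlgSp.repWith_yon_map_iff _ _).2 inferInstance) ha₀
  have hab : ((AlgSp.yon S).map snd ≫ a₀) ≫ f.hom = (AlgSp.yon S).map h ≫ p := by
    rw [Category.assoc, sq.w]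
  have hcl₁ : IsClosed ({u₁} : Set ↥U₁.left) :=
    isClosed_singleton_of_lqf snd.left u₁ (by rw [hu₁]; exact hcl)
  haveI : LocallyOfFiniteType h.left := hf _ p h ha hpe hab
  refine ⟨U₁, V₀, (AlgSp.yon S).map snd ≫ a₀, p, h, u₁, ha, hpe, hab, ?_, ?_⟩
  · rw [Groth.Agent.S10176.ofPt_map_comp, hu₁, hu₀]
  · show Dual3.resTrdeg h.left u₁ = 0
    rw [Groth.Agent.Lib.T2H1.ResTrdeg.resTrdeg_eq_ptTrdeg,
      Groth.Agent.Lib.Helper4.DimFormula.ptTrdeg_eq_zero_of_isClosed h.left u₁ hcl₁]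
    simp

end Groth.Agent.S10318
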