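import Groth.Statements.S10319
import Groth.Agent.Lib.T2H1ResTrdeg

set_option autoImplicit false
universe u
open CategoryTheory CategoryTheory.Limits AlgebraicGeometry
open AlgSp

namespace Groth.Agent.S10319

/-- Transcendence degrees at a point add up along a composition of morphisms locally of finite type. -/
theorem result {S : Scheme.{u}} {X Y Z : AlgSp.Space S} (f : X ⟶ Y) (g : Y ⟶ Z)
    (hf : AlgSp.LocP @LocallyOfFiniteType f.hom) (hg : AlgSp.LocP @LocallyOfFiniteType g.hom)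
    (x : AlgSp.Points X.obj) (r₁ r₂ : Cardinal.{u})
    (h1 : AlgSp.HasAtMor (fun _ _ h u => Dual3.resTrdeg h u = r₁) f.hom x)
    (h2 : AlgSp.HasAtMor (fun _ _ h u => Dual3.resTrdeg h u = r₂) g.hom (AlgSp.Points.map f.hom x)) :
    AlgSp.HasAtMor (fun _ _ h u => Dual3.resTrdeg h u = r₁ + r₂) (f ≫ g).hom x := by
  obtain ⟨U, V, W, a, b, c, h, k, u, ha, hb, hc, hab, hbc, hu, -⟩ :=
    Groth.Agent.Lib.T2H1.Tower.exists_tower X.property Y.property Z.property f.hom g.hom x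
  have hQ1 := Groth.Agent.Lib.T2H1.ResTrdeg.etInv_resTrdeg (fun s => s = r₁)
  have hQ2 := Groth.Agent.Lib.T2H1.ResTrdeg.etInv_resTrdeg (fun s => s = r₂)
  have e1 : Dual3.resTrdeg h.left u = r₁ :=
    Groth.Agent.Lib.T2H1.HasAt.of_hasAtMor hQ1 f.hom x h1 a b h ha hb hab u hu
  have hu2 : AlgSp.Points.ofPt b (h.left u) = AlgSp.Points.map f.hom x := by
    rw [← hu, AlgSp.Points.map_ofPt, hab, Groth.Agent.S10176.ofPt_map_comp]
  have e2 : Dual3.resTrdeg k.left (h.left u) = r₂ :=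
    Groth.Agent.Lib.T2H1.HasAt.of_hasAtMor hQ2 g.hom _ h2 b c k hb hc hbc (h.left u) hu2
  refine ⟨U, W, a, c, h ≫ k, u, ha, hc, ?_, hu, ?_⟩
  · show a ≫ f.hom ≫ g.hom = _
    rw [← Category.assoc, hab, Category.assoc, hbc, Functor.map_comp, Category.assoc]
  · show Dual3.resTrdeg (h ≫ k).left u = r₁ + r₂
    rw [Over.comp_left, Groth.Agent.Lib.T2H1.ResTrdeg.resTrdeg_comp, e1, e2, add_comm]

end Groth.Agent.S10319
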