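import Groth.Statements.S10320
import Groth.Agent.Lib.T2H1ResTrdeg
import Groth.Agent.Lib.Helper4DimFormulaAD

set_option autoImplicit false
universe u
open CategoryTheory CategoryTheory.Limits AlgebraicGeometry
open AlgSp

namespace Groth.Agent.S10320

/-- For f locally of finite type, the relative dimension of f at x equals the dimension of the local
ring of the fibre at x plus the transcendence degree of x over its image. -/
theorem result {S : Scheme.{u}} {X Y : AlgSp.Space S} (f : X ⟶ Y)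
    (hf : AlgSp.LocP @LocallyOfFiniteType f.hom) (x : AlgSp.Points X.obj) (d e : WithBot ℕ∞) (r : Cardinal.{u})
    (hd : AlgSp.HasAtMor (fun _ _ h u => FlatMor.fibreDimAt h u = d) f.hom x)
    (he : AlgSp.HasAtMor (fun _ _ h u => ringKrullDim ↥((h.fiber (h u)).presheaf.stalk (h.asFiber u)) = e) f.hom x)
    (hr : AlgSp.HasAtMor (fun _ _ h u => Dual3.resTrdeg h u = r) f.hom x) :
    d = e + ((Cardinal.toENat r : ℕ∞) : WithBot ℕ∞) := by
  obtain ⟨U, V, a, b, h, u, ha, hb, hab, hu, hev⟩ := he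
  have hQ1 := Groth.Agent.Lib.T2H1.HasAt.etInv_fibreDim (fun s => s = d)
  have hQ2 := Groth.Agent.Lib.T2H1.ResTrdeg.etInv_resTrdeg (fun s => s = r)
  have e1 : FlatMor.fibreDimAt h.left u = d :=
    Groth.Agent.Lib.T2H1.HasAt.of_hasAtMor hQ1 f.hom x hd a b h ha hb hab u hu
  have e2 : Dual3.resTrdeg h.left u = r :=
    Groth.Agent.Lib.T2H1.HasAt.of_hasAtMor hQ2 f.hom x hr a b h ha hb hab u hu
  haveI : LocallyOfFiniteType h.left := hf a b h ha hb hab
  have e3 := Groth.Agent.Lib.Helper4.DimFormula.fibreDimAt_eq_stalk_add_ptTrdeg h.left u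
  have e4 := Groth.Agent.Lib.T2H1.ResTrdeg.resTrdeg_eq_ptTrdeg h.left u
  rw [← e1, ← e2, e4, e3]
  have hev' : ringKrullDim ↥((h.left.fiber (h.left u)).presheaf.stalk (h.left.asFiber u)) = e := hev
  rw [← hev']
  simp

end Groth.Agent.S10320
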