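import Groth.Statements.S10323
import Groth.Agent.Lib.T2H1ResTrdeg
import Groth.Agent.Lib.T2H1StalkDim
import Groth.Agent.Lib.Helper4DimFormulaAD
import Groth.Agent.Lib.Helper4DimFormulaAE
import Groth.Agent.S9297
import Groth.Agent.S10177

set_option autoImplicit false
universe u
open CategoryTheory CategoryTheory.Limits AlgebraicGeometry
open AlgSp

namespace Groth.Agent.S10323

open Groth.Agent.Lib.Helper4.DimFormula in
/-- scheme-level dimension formula (inequality), in the form used below. -/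
lemma scheme_ineq {X Y : Scheme.{u}} [IsLocallyNoetherian Y] (f : X ⟶ Y) [LocallyOfFiniteType f]
    (x : X) :
    ∃ ξ : X, ξ ⤳ x ∧ ringKrullDim (X.presheaf.stalk ξ) = 0 ∧
      ringKrullDim (X.presheaf.stalk x) + (ptTrdeg f x : WithBot ℕ∞) ≤
        ringKrullDim (Y.presheaf.stalk (f x)) + (ptTrdeg f ξ : WithBot ℕ∞) := by
  haveI : IsLocallyNoetherian X := LocallyOfFiniteType.isLocallyNoetherian f
  obtain ⟨𝔭, h𝔭min, h𝔭dim⟩ :=
    Groth.Agent.S9297.exists_minimalPrimes_ringKrullDim_quotient_eq (X.presheaf.stalk x)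
  haveI h𝔭 : 𝔭.IsPrime := h𝔭min.1.1
  refine ⟨X.fromSpecStalk x ⟨𝔭, h𝔭⟩, fromSpecStalk_specializes x _, ?_, ?_⟩
  · rw [← height_eq_ringKrullDim_stalk_fromSpecStalk x 𝔭, Ideal.height_eq_zero_iff.mpr h𝔭min]
    rfl
  · have h1 := ringKrullDim_quotient_add_ptTrdeg_le f x 𝔭
    rw [h𝔭dim] at h1
    refine h1.trans (add_le_add_left ?_ _)
    exact ringKrullDim_quotient_le _

/-- For Y locally Noetherian and f locally of finite type, the dimension of the local ring of X at x is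
at most the dimension of the local ring of Y at the image point plus E minus the transcendence
degree of x over its image, where E bounds the transcendence degrees of the codimension-0 points
specializing to x. -/
theorem result {S : Scheme.{u}} {X Y : AlgSp.Space S} (f : X ⟶ Y)
    (hY : AlgSp.IsLocNoethSp Y.obj) (hf : AlgSp.LocP @LocallyOfFiniteType f.hom) (x : AlgSp.Points X.obj)
    (E : Cardinal.{u})
    (hE : ∀ ξ : AlgSp.Points X.obj, ξ ⤳ x → AlgSp.HasAt (fun U u => ringKrullDim ↥(U.presheaf.stalk u) = 0) X.obj ξ →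
      ∀ s : Cardinal.{u}, AlgSp.HasAtMor (fun _ _ h u => Dual3.resTrdeg h u = s) f.hom ξ → s ≤ E)
    (a b : WithBot ℕ∞) (r : Cardinal.{u})
    (ha : AlgSp.HasAt (fun U u => ringKrullDim ↥(U.presheaf.stalk u) = a) X.obj x)
    (hb : AlgSp.HasAt (fun U u => ringKrullDim ↥(U.presheaf.stalk u) = b) Y.obj (AlgSp.Points.map f.hom x))
    (hr : AlgSp.HasAtMor (fun _ _ h u => Dual3.resTrdeg h u = r) f.hom x) :
    a + ((Cardinal.toENat r : ℕ∞) : WithBot ℕ∞) ≤ b + ((Cardinal.toENat E : ℕ∞) : WithBot ℕ∞) := by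
  obtain ⟨V₀, p, hpe, hps, hV₀⟩ := hY
  haveI : IsLocallyNoetherian V₀.left := hV₀
  obtain ⟨v, hv⟩ := Groth.Agent.S10177.surjective_ofPt p hps (AlgSp.Points.map f.hom x)
  obtain ⟨U, a₀, h, u, ha₀, hab, hu, huv⟩ :=
    Groth.Agent.Lib.T2H1.Tower.exists_chart_over X.property Y.property f.hom x p hpe v hv
  haveI : LocallyOfFiniteType h.left := hf a₀ p h ha₀ hpe hab
  have e1 : ringKrullDim ↥(U.left.presheaf.stalk u) = a :=
    Groth.Agent.Lib.T2H1.HasAt.of_hasAt
      (Groth.Agent.Lib.T2H1.HasAt.etInv1_stalkDim (fun s => s = a)) x ha a₀ ha₀ u hu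
  have e2 : ringKrullDim ↥(V₀.left.presheaf.stalk (h.left u)) = b :=
    Groth.Agent.Lib.T2H1.HasAt.of_hasAt
      (Groth.Agent.Lib.T2H1.HasAt.etInv1_stalkDim (fun s => s = b)) _ hb p hpe (h.left u)
      (by rw [huv]; exact hv)
  have e3 : Dual3.resTrdeg h.left u = r :=
    Groth.Agent.Lib.T2H1.HasAt.of_hasAtMor
      (Groth.Agent.Lib.T2H1.ResTrdeg.etInv_resTrdeg (fun s => s = r)) f.hom x hr a₀ p h ha₀ hpe hab
      u hu
  obtain ⟨ξ, hξu, hξ0, hineq⟩ := scheme_ineq h.left u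
  have hspec : AlgSp.Points.ofPt a₀ ξ ⤳ x := by
    rw [← hu]
    exact hξu.map (AlgSp.Points.continuous_ofPt a₀)
  have hE' := hE (AlgSp.Points.ofPt a₀ ξ) hspec ⟨U, a₀, ξ, ha₀, rfl, hξ0⟩ (Dual3.resTrdeg h.left ξ)
    ⟨U, V₀, a₀, p, h, ξ, ha₀, hpe, hab, rfl, rfl⟩
  rw [Groth.Agent.Lib.T2H1.ResTrdeg.resTrdeg_eq_ptTrdeg] at hE' e3
  have hE'' : ((Groth.Agent.Lib.Helper4.DimFormula.ptTrdeg h.left ξ : ℕ) : ℕ∞) ≤ Cardinal.toENat E := by
    have := Cardinal.toENat.monotone' hE'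
    simpa using this
  rw [← e1, ← e2, ← e3]
  simp only [Cardinal.toENat_nat]
  refine hineq.trans (add_le_add le_rfl ?_)
  exact_mod_cast hE''

end Groth.Agent.S10323
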