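import Groth.Statements.S10324
import Groth.Agent.S10323
import Groth.Agent.Lib.Helper4FibDimL
import Groth.Agent.Lib.Helper12LocPNbhd

set_option autoImplicit false
universe u
open CategoryTheory CategoryTheory.Limits AlgebraicGeometry
open AlgSp

namespace Groth.Agent.S10324

/-- For Y locally Noetherian and f : X -> Y locally of finite type, dim X ≤ dim Y + E where E bounds the
transcendence degrees over Y of the codimension-0 points of X. -/
theorem result {S : Scheme.{u}} {X Y : AlgSp.Space S} (f : X ⟶ Y)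
    (hY : AlgSp.IsLocNoethSp Y.obj) (hf : AlgSp.LocP @LocallyOfFiniteType f.hom) (E : Cardinal.{u})
    (hE : ∀ ξ : AlgSp.Points X.obj, AlgSp.HasAt (fun U u => ringKrullDim ↥(U.presheaf.stalk u) = 0) X.obj ξ → ∀ s : Cardinal.{u}, AlgSp.HasAtMor (fun _ _ h u => Dual3.resTrdeg h u = s) f.hom ξ → s ≤ E) :
    AlgSp.dim X.obj ≤ AlgSp.dim Y.obj + ((Cardinal.toENat E : ℕ∞) : WithBot ℕ∞) := by
  unfold AlgSp.dim
  refine iSup_le fun U => iSup_le fun a => iSup_le fun ha => ?_
  rw [Groth.Agent.Lib.Helper4.FibDim.topologicalKrullDim_eq_iSup_ringKrullDim_stalk]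
  refine iSup_le fun u => ?_
  obtain ⟨U', V', a', b', h', u', ha', hb', hab', hu'⟩ :=
    Groth.Agent.Lib.Helper12.LocPNbhd.exists_chart X.property Y.property f.hom
      (AlgSp.Points.ofPt a u)
  have hu2 : AlgSp.Points.ofPt b' (h'.left u') =
      AlgSp.Points.map f.hom (AlgSp.Points.ofPt a u) := by
    rw [← hu', AlgSp.Points.map_ofPt, hab', Groth.Agent.S10176.ofPt_map_comp]
  have key := Groth.Agent.S10323.result f hY hf (AlgSp.Points.ofPt a u) E
    (fun ξ _ hξ s hs => hE ξ hξ s hs)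
    (ringKrullDim ↥(U.left.presheaf.stalk u))
    (ringKrullDim ↥(V'.left.presheaf.stalk (h'.left u')))
    (Dual3.resTrdeg h'.left u')
    ⟨U, a, u, ha, rfl, rfl⟩ ⟨V', b', h'.left u', hb', hu2, rfl⟩
    ⟨U', V', a', b', h', u', ha', hb', hab', hu', rfl⟩
  have h1 : ringKrullDim ↥(U.left.presheaf.stalk u) ≤
      ringKrullDim ↥(U.left.presheaf.stalk u) +
        ((Cardinal.toENat (Dual3.resTrdeg h'.left u') : ℕ∞) : WithBot ℕ∞) :=
    le_add_of_nonneg_right (by exact_mod_cast bot_le (a := Cardinal.toENat (Dual3.resTrdeg h'.left u')))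
  refine h1.trans (key.trans (add_le_add ?_ le_rfl))
  have h2 : ringKrullDim ↥(V'.left.presheaf.stalk (h'.left u')) ≤ topologicalKrullDim ↥V'.left := by
    rw [Groth.Agent.Lib.Helper4.FibDim.topologicalKrullDim_eq_iSup_ringKrullDim_stalk]
    exact le_iSup (fun v : ↥V'.left => ringKrullDim ↥(V'.left.presheaf.stalk v)) (h'.left u')
  exact h2.trans (le_iSup_of_le V' (le_iSup_of_le b' (le_iSup_of_le hb' le_rfl)))

end Groth.Agent.S10324
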