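import Groth.Statements.S10328
import Mathlib
import Groth.Agent.Lib.T2H1Tower
import Groth.Agent.Lib.Helper3CompDim

set_option autoImplicit false
universe u
open CategoryTheory CategoryTheory.Limits AlgebraicGeometry
open AlgSp

namespace Groth.Agent.S10328

/-- The relative dimension of a composite at a point is at most the sum of the relative dimensions, with
equality when the first morphism is flat at the point. (The published part (2) allows more generally
flatness of a fibre of X -> Y over a field point of Z; only the case f flat at x is stated.) -/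
theorem result {S : Scheme.{u}} {X Y Z : AlgSp.Space S} (f : X ⟶ Y) (g : Y ⟶ Z)
    (hf : AlgSp.LocP @LocallyOfFiniteType f.hom) (hg : AlgSp.LocP @LocallyOfFiniteType g.hom)
    (x : AlgSp.Points X.obj) (a b : WithBot ℕ∞)
    (ha : AlgSp.HasAtMor (fun _ _ h u => FlatMor.fibreDimAt h u = a) f.hom x)
    (hb : AlgSp.HasAtMor (fun _ _ h u => FlatMor.fibreDimAt h u = b) g.hom (AlgSp.Points.map f.hom x)) :
    AlgSp.HasAtMor (fun _ _ h u => FlatMor.fibreDimAt h u ≤ a + b) (f ≫ g).hom x ∧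
    (AlgSp.IsFlatAtMor f.hom x → AlgSp.HasAtMor (fun _ _ h u => FlatMor.fibreDimAt h u = a + b) (f ≫ g).hom x) := by
  obtain ⟨U, V, W, a₀, b₀, c₀, h, k, u, ha₀, hb₀, hc₀, hab, hbc, hu, -⟩ :=
    Groth.Agent.Lib.T2H1.Tower.exists_tower X.property Y.property Z.property f.hom g.hom x
  haveI : LocallyOfFiniteType h.left := hf a₀ b₀ h ha₀ hb₀ hab
  haveI : LocallyOfFiniteType k.left := hg b₀ c₀ k hb₀ hc₀ hbc
  have e1 : FlatMor.fibreDimAt h.left u = a :=
    Groth.Agent.Lib.T2H1.HasAt.of_hasAtMor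
      (Groth.Agent.Lib.T2H1.HasAt.etInv_fibreDim (fun d => d = a)) f.hom x ha a₀ b₀ h ha₀ hb₀ hab u hu
  have hv : AlgSp.Points.ofPt b₀ (h.left u) = AlgSp.Points.map f.hom x := by
    rw [← hu, AlgSp.Points.map_ofPt, hab, Groth.Agent.S10176.ofPt_map_comp]
  have e2 : FlatMor.fibreDimAt k.left (h.left u) = b :=
    Groth.Agent.Lib.T2H1.HasAt.of_hasAtMor
      (Groth.Agent.Lib.T2H1.HasAt.etInv_fibreDim (fun d => d = b)) g.hom _ hb b₀ c₀ k hb₀ hc₀ hbc
      (h.left u) hv
  have hcomp : a₀ ≫ (f ≫ g).hom = (AlgSp.yon S).map (h ≫ k) ≫ c₀ := by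
    change a₀ ≫ f.hom ≫ g.hom = _
    rw [← Category.assoc, hab, Category.assoc, hbc, Functor.map_comp, Category.assoc]
  have key := Groth.Agent.Lib.Helper3.CompDim.fibreDimAt_comp h.left k.left u
  rw [e1, e2] at key
  refine ⟨⟨U, W, a₀, c₀, h ≫ k, u, ha₀, hc₀, hcomp, hu, key.1⟩, fun hflat => ?_⟩
  exact ⟨U, W, a₀, c₀, h ≫ k, u, ha₀, hc₀, hcomp, hu, key.2 (hflat a₀ b₀ h u ha₀ hb₀ hab hu)⟩

end Groth.Agent.S10328
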