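import Groth.Statements.S10329
import Mathlib
import Groth.Agent.Lib.T2H1ChartBC
import Groth.Agent.S10313
import Groth.Agent.S5341

set_option autoImplicit false
universe u
open CategoryTheory CategoryTheory.Limits AlgebraicGeometry
open AlgSp

namespace Groth.Agent.S10329

/-- If the fibre of a morphism locally of finite type has dimension 0 at a point, then the morphism is
locally quasi-finite on some open subspace containing the image of that point. -/
theorem result {S : Scheme.{u}} {X Y F : AlgSp.Space S} (f : X ⟶ Y)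
    (hf : AlgSp.LocP @LocallyOfFiniteType f.hom) (k : Type u) [Field k] (str : Spec (.of k) ⟶ S)
    (y : (AlgSp.yon S).obj (Over.mk str) ⟶ Y.obj) (p : F ⟶ X) (q : F.obj ⟶ (AlgSp.yon S).obj (Over.mk str))
    (sq : IsPullback p.hom q f.hom y) (z : AlgSp.Points F.obj)
    (hz : AlgSp.HasAt (fun U u => FlatMor.localDim ↥U u = 0) F.obj z) :
    ∃ (X' : AlgSp.Space S) (j : X' ⟶ X), AlgSp.RepWith @IsOpenImmersion j.hom ∧
      AlgSp.Points.map p.hom z ∈ Set.range (AlgSp.Points.map j.hom) ∧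
      AlgSp.LocP (@LocallyQuasiFinite ⊓ @LocallyOfFiniteType) (j ≫ f).hom := by
  obtain ⟨X', j, hj, hlqf, hout, -⟩ := Groth.Agent.S10313.result f hf
  refine ⟨X', j, hj, ?_, hlqf⟩
  by_contra hnot
  have h1 := hout _ hnot
  -- the fibre dimension of `q` at `z` is zero
  obtain ⟨U, a, u, ha, hu, hdim⟩ := hz
  obtain ⟨h, hh⟩ := (AlgSp.yon S).map_surjective (a ≫ q)
  haveI : Subsingleton ↥(Over.mk str).left := by
    change Subsingleton ↥(Spec (CommRingCat.of k))
    infer_instance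
  have hq : AlgSp.HasAtMor (fun _ _ h u => FlatMor.fibreDimAt h u ≤ 0) q z := by
    refine ⟨U, Over.mk str, a, 𝟙 _, h, u, ha, AlgSp.repWith_id _ _, ?_, hu, ?_⟩
    · rw [Category.comp_id, hh]
    · show FlatMor.fibreDimAt h.left u ≤ 0
      rw [Groth.Agent.S5341.fibreDimAt_eq_localDim_of_subsingleton h.left u, hdim]
  have h2 := (Groth.Agent.Lib.T2H1.ChartBC.hasAtMor_fibreDim_baseChange_iff (fun d => d ≤ 0)
    X.property Y.property (AlgSp.IsAlgSpace.yon_obj _) sq hf z).1 hq
  obtain ⟨U1, V1, a1, b1, h1', u1, ha1, hb1, hc1, hu1, hQ1⟩ := h1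
  have h3 := Groth.Agent.Lib.T2H1.HasAt.of_hasAtMor
    (Groth.Agent.Lib.T2H1.HasAt.etInv_fibreDim (fun d => d ≤ 0)) f.hom _ h2 a1 b1 h1' ha1 hb1 hc1
    u1 hu1
  have h4 : (1 : WithBot ℕ∞) ≤ 0 := le_trans hQ1 h3
  exact absurd h4 (by decide)

end Groth.Agent.S10329
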