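import Groth.Statements.S10331
import Mathlib
import Groth.Agent.Lib.T2H1IntGsect
import Groth.Agent.S10180

set_option autoImplicit false
universe u
open CategoryTheory CategoryTheory.Limits AlgebraicGeometry Opposite
open AlgSp

namespace Groth.Agent.S10331

/-- Let f : X -> h_V be a quasi-compact, quasi-separated and universally closed morphism from an
algebraic space over S to an affine scheme V over S. Then every global section of O_X (a compatible
family of functions on the schemes etale over X) satisfies a monic polynomial with coefficients in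
Γ(V, O_V). (The published statement has an arbitrary algebraic space as target and says that f_*O_X
is integral over O_Y, which is this assertion for the base change of f to every affine scheme etale
over the target; the reformulation through the relative spectrum of f_*O_X is not included.) -/
theorem result {S : Scheme.{u}} (V : Over S) [IsAffine V.left] (X : AlgSp.Space S)
    (f : X ⟶ (AlgSp.ofScheme S).obj V) (hqc : AlgSp.IsQuasiCompactMor f.hom)
    (hqs : AlgSp.IsQuasiSeparatedMor f.hom) (huc : AlgSp.IsUnivClosedMor f.hom)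
    (s : ↥(AlgSp.gsectEt (AlgSp.OEt X.obj) : CommRingCat.{u + 1})) :
    ∃ p : Polynomial Γ(V.left, ⊤), p.Monic ∧
      ∀ E : AlgSp.EtOver X.obj,
        Polynomial.eval₂ ((AlgSp.yon S).preimage (E.obj.hom ≫ f.hom)).left.appTop.hom
          ((limit.π (AlgSp.OEt X.obj).obj (op E)) s).down p = 0 := by
  -- `X` is quasi-compact
  have hVqc : AlgSp.IsQuasiCompactSp ((AlgSp.yon S).obj V) :=
    ⟨V, 𝟙 _, AlgSp.repWith_id _ V, AlgSp.repWith_id _ V, (inferInstance : CompactSpace ↥V.left)⟩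
  let f' : X.obj ⟶ (AlgSp.yon S).obj V := f.hom
  have hqc' : AlgSp.IsQuasiCompactMor f' := hqc
  have huc' : AlgSp.IsUnivClosedMor f' := huc
  have hXqc : AlgSp.IsQuasiCompactSp X.obj :=
    hqc' (AlgSp.IsAlgSpace.yon_obj V) hVqc (𝟙 ((AlgSp.yon S).obj V)) (𝟙 X.obj) f'
      (IsPullback.of_horiz_isIso ⟨by rw [Category.id_comp, Category.comp_id]⟩)
  obtain ⟨U, π, hU, hπe, hπs⟩ := Groth.Agent.S10180.exists_affine_chart hXqc
  haveI : IsAffine U.left := hU
  obtain ⟨hUV, hh⟩ : ∃ hUV : U ⟶ V, π ≫ f' = (AlgSp.yon S).map hUV :=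
    ⟨(AlgSp.yon S).preimage (π ≫ f'), ((AlgSp.yon S).map_preimage _).symm⟩
  -- the sections of `s`
  obtain ⟨sE, hsEdef⟩ : ∃ sE : ∀ E : AlgSp.EtOver X.obj, Γ(E.obj.left.left, ⊤),
      ∀ E, sE E = ((limit.π (AlgSp.OEt X.obj).obj (op E)) s).down := ⟨_, fun _ => rfl⟩
  have hsE : ∀ {E E' : AlgSp.EtOver X.obj} (g : E ⟶ E'),
      g.hom.left.left.appTop (sE E') = sE E := by
    intro E E' g
    have h1 := ConcreteCategory.congr_hom (limit.w (AlgSp.OEt X.obj).obj g.op) s
    rw [ConcreteCategory.comp_apply] at h1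
    have h2 := congrArg ULift.down h1
    rw [hsEdef, hsEdef, ← h2]
    rfl
  let EU : AlgSp.EtOver X.obj := AlgSp.EtOver.mk π hπe
  -- compatibility on `U ×_X U`
  have hcompat : ∀ (Rr : Over S) (r₁ r₂ : Rr ⟶ U),
      (AlgSp.yon S).map r₁ ≫ π = (AlgSp.yon S).map r₂ ≫ π →
        r₁.left.appTop (sE EU) = r₂.left.appTop (sE EU) := by
    intro Rr r₁ r₂ hr
    obtain ⟨R₀, p₂, pr, sqR⟩ := hπe.1 π
    obtain ⟨p₁, rfl⟩ := (AlgSp.yon S).map_surjective pr
    have hp₁ : Etale p₁.left := hπe.2 π _ p₁ sqR.flip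
    let ER : AlgSp.EtOver X.obj := AlgSp.EtOver.mk ((AlgSp.yon S).map p₁ ≫ π)
      (MorphismProperty.comp_mem _ _ _ ((AlgSp.repWith_yon_map_iff _ _).2 hp₁) hπe)
    let g₁ : ER ⟶ EU := AlgSp.EtOver.homMk p₁ rfl
    let g₂ : ER ⟶ EU := AlgSp.EtOver.homMk p₂ sqR.w.symm
    have e1 : p₁.left.appTop (sE EU) = sE ER := hsE g₁
    have e2 : p₂.left.appTop (sE EU) = sE ER := hsE g₂
    obtain ⟨ρ, hρ⟩ := (AlgSp.yon S).map_surjective (sqR.lift _ _ hr)
    have hρ₁ : ρ ≫ p₁ = r₁ := by
      apply (AlgSp.yon S).map_injective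
      rw [Functor.map_comp, hρ, sqR.lift_fst]
    have hρ₂ : ρ ≫ p₂ = r₂ := by
      apply (AlgSp.yon S).map_injective
      rw [Functor.map_comp, hρ, sqR.lift_snd]
    rw [← hρ₁, ← hρ₂, Over.comp_left, Over.comp_left, Scheme.Hom.comp_appTop,
      Scheme.Hom.comp_appTop, CommRingCat.comp_apply, CommRingCat.comp_apply, e1, e2]
  obtain ⟨q, hq, hq0⟩ := Groth.Agent.Lib.T2H1.IntGsect.exists_monic_of_univClosed f' huc' π hπe
    hπs hUV hh (sE EU) hcompat
  refine ⟨q, hq, fun E => ?_⟩
  rw [← hsEdef]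
  change Polynomial.eval₂ ((AlgSp.yon S).preimage (E.obj.hom ≫ f')).left.appTop.hom (sE E) q = 0
  obtain ⟨W', w', pr', sqE⟩ := hπe.1 E.obj.hom
  obtain ⟨u', rfl⟩ := (AlgSp.yon S).map_surjective pr'
  haveI : Etale w'.left := hπe.2 E.obj.hom _ w' sqE
  haveI : Surjective w'.left := hπs.2 E.obj.hom _ w' sqE
  let EW : AlgSp.EtOver X.obj := AlgSp.EtOver.mk ((AlgSp.yon S).map w' ≫ E.obj.hom)
    (MorphismProperty.comp_mem _ _ _ ((AlgSp.repWith_yon_map_iff _ _).2
      (inferInstance : Etale w'.left)) E.property)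
  let g₁ : EW ⟶ E := AlgSp.EtOver.homMk w' rfl
  let g₂ : EW ⟶ EU := AlgSp.EtOver.homMk u' sqE.w
  have e1 : w'.left.appTop (sE E) = sE EW := hsE g₁
  have e2 : u'.left.appTop (sE EU) = sE EW := hsE g₂
  have hVeq : u' ≫ hUV = w' ≫ (AlgSp.yon S).preimage (E.obj.hom ≫ f') := by
    apply (AlgSp.yon S).map_injective
    rw [Functor.map_comp, Functor.map_comp, Functor.map_preimage, ← hh, ← Category.assoc, sqE.w,
      Category.assoc]
  have hring : (u'.left.appTop.hom).comp hUV.left.appTop.hom =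
      (w'.left.appTop.hom).comp ((AlgSp.yon S).preimage (E.obj.hom ≫ f')).left.appTop.hom := by
    have := congrArg (fun φ : W' ⟶ V => φ.left.appTop.hom) hVeq
    simp only [Over.comp_left, Scheme.Hom.comp_appTop, CommRingCat.hom_comp] at this
    exact this
  apply Groth.Agent.Lib.T2H1.IntGsect.appTop_injective_of_flat_surjective w'.left
  rw [map_zero]
  have k1 : w'.left.appTop (Polynomial.eval₂
      ((AlgSp.yon S).preimage (E.obj.hom ≫ f')).left.appTop.hom (sE E) q) =
      Polynomial.eval₂ ((w'.left.appTop.hom).comp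
        ((AlgSp.yon S).preimage (E.obj.hom ≫ f')).left.appTop.hom) (sE EW) q := by
    rw [← e1]
    exact Polynomial.hom_eval₂ q _ w'.left.appTop.hom (sE E)
  have k2 : u'.left.appTop (Polynomial.eval₂ hUV.left.appTop.hom (sE EU) q) =
      Polynomial.eval₂ ((u'.left.appTop.hom).comp hUV.left.appTop.hom) (sE EW) q := by
    rw [← e2]
    exact Polynomial.hom_eval₂ q _ u'.left.appTop.hom (sE EU)
  rw [k1, ← hring, ← k2, hq0, map_zero]

end Groth.Agent.S10331
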