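import Groth.Statements.S10333
import Mathlib
import Groth.Agent.S10267
import Groth.Agent.S10192
import Groth.Agent.S9966
import Groth.Agent.S9928
import Groth.Agent.Lib.Helper12OpenSub2

set_option autoImplicit false
universe u
open CategoryTheory CategoryTheory.Limits AlgebraicGeometry
open AlgSp

namespace Groth.Agent.S10333

/-- Let f : Y -> X be a morphism of algebraic spaces over S that is quasi-compact and quasi-separated,
and X' -> X the normalization of X in Y (an integral morphism through which f factors, initial among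
such factorizations). If Y is reduced then X' is reduced. -/
theorem result {S : Scheme.{u}} {Y X X' : AlgSp.Space S} (f : Y ⟶ X)
    (hqc : AlgSp.IsQuasiCompactMor f.hom) (hqs : AlgSp.IsQuasiSeparatedMor f.hom) (ν : X' ⟶ X) (f' : Y ⟶ X')
    (hn : AlgSp.IsRelNormalization f.hom ν.hom f'.hom) (hY : AlgSp.IsReducedSp Y.obj) :
    AlgSp.IsReducedSp X'.obj := by
  obtain ⟨hfac, hν, huniv⟩ := hn
  obtain ⟨R, i, hi, hr, hred⟩ := Groth.Agent.S10192.result X' Set.univ isClosed_univ
  haveI : Mono i.hom := Groth.Agent.S9928.mono_of_repWith @IsClosedImmersion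
    (fun _ _ g hg => by haveI : IsClosedImmersion g := hg; infer_instance) i.hom hi
  obtain ⟨g, hg⟩ := Groth.Agent.S9966.exists_factor_of_reduced f'.hom i.hom hi hY (by
    rw [hr]
    exact Set.subset_univ _)
  -- `R ⟶ X` is integral
  have hiR : AlgSp.RepWith @IsIntegralHom i.hom :=
    Groth.Agent.Lib.Helper12.OpenSub.repWith_mono
      (fun _ _ k hk => by haveI : IsClosedImmersion k := hk; infer_instance) hi
  have hνR : AlgSp.RepWith @IsIntegralHom ν.hom := (Groth.Agent.S10267.result ν).1.1 hν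
  have hπ : AlgSp.IsIntegralMor (i.hom ≫ ν.hom) :=
    (Groth.Agent.S10267.result (i ≫ ν)).1.2 (MorphismProperty.comp_mem _ _ _ hiR hνR)
  obtain ⟨h, ⟨hh1, hh2⟩, -⟩ := huniv R.property (i.hom ≫ ν.hom) g hπ (by
    rw [← Category.assoc, hg, hfac])
  -- `h ≫ i = 𝟙`
  obtain ⟨h₀, -, hu⟩ := huniv X'.property ν.hom f'.hom hν hfac
  have e1 : h ≫ i.hom = h₀ := hu _ ⟨by rw [← Category.assoc, hh1, hg], by
    rw [Category.assoc]; exact hh2⟩
  have e2 : 𝟙 X'.obj = h₀ := hu _ ⟨Category.comp_id _, Category.id_comp _⟩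
  have hhi : h ≫ i.hom = 𝟙 _ := e1.trans e2.symm
  have hih : i.hom ≫ h = 𝟙 _ := by
    rw [← cancel_mono i.hom, Category.assoc, hhi, Category.comp_id, Category.id_comp]
  haveI : IsIso i.hom := ⟨h, hih, hhi⟩
  obtain ⟨C, a, hae, has, hC⟩ := hred
  refine ⟨C, a ≫ i.hom, ?_, ?_, hC⟩
  · exact (MorphismProperty.cancel_right_of_respectsIso (AlgSp.RepWith @Etale) a i.hom).mpr hae
  · exact (MorphismProperty.cancel_right_of_respectsIso (AlgSp.RepWith @Surjective) a i.hom).mpr has

end Groth.Agent.S10333
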