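import Groth.Statements.S10345
import Mathlib
import Groth.Agent.Lib.T2H7DecentDim
import Groth.Agent.S10177

set_option autoImplicit false
universe u
open CategoryTheory CategoryTheory.Limits AlgebraicGeometry Topology TopologicalSpace
open AlgSp

namespace Groth.Agent.S10345

/-- For a decent algebraic space X over a scheme S the Krull dimension of the topological space |X|
equals the dimension of X (the supremum of the Krull dimensions of the schemes etale over X). -/
theorem result {S : Scheme.{u}} (X : AlgSp.Space S)
    (hX : AlgSp.IsDecent X.obj) :
    topologicalKrullDim (AlgSp.Points X.obj) = AlgSp.dim X.obj := by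
  unfold AlgSp.dim
  apply le_antisymm
  · obtain ⟨U, p, hpe, hps⟩ := X.property.atlas
    rw [← Groth.Agent.Lib.T2H7.DecentDim.topologicalKrullDim_chart_eq X hX p hpe
      (Groth.Agent.S10177.surjective_ofPt p hps)]
    exact le_iSup_of_le U (le_iSup_of_le p (le_iSup_of_le hpe le_rfl))
  · exact iSup_le fun U => iSup_le fun a => iSup_le fun ha =>
      Groth.Agent.Lib.T2H7.DecentDim.topologicalKrullDim_chart_le X hX a ha

end Groth.Agent.S10345
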