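import Groth.Statements.S10352
import Groth.Agent.S10351
import Groth.Agent.S10206
import Groth.Agent.S9874
import Groth.Agent.Lib.Helper12EtSmST
import Groth.Agent.Lib.T2H6QuotMod

set_option autoImplicit false
universe u
open CategoryTheory CategoryTheory.Limits AlgebraicGeometry Topology TopologicalSpace
open AlgSp

namespace Groth.Agent.S10352


open CategoryTheory.Limits Opposite MorphismProperty Groth.Agent.S13210

/-- decency passes to the source of a morphism whose base change to the decent point is a scheme,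
pointwise. -/
lemma exists_decent_fieldPt_of_isPullback {S : Scheme.{u}} {X Y : AlgSp.Sp S} (f : X ⟶ Y)
    (x : AlgSp.Points X) (q : AlgSp.FieldPt Y)
    (hq : AlgSp.Points.mk q = AlgSp.Points.map f x) (hqm : Mono q.toHom)
    (hqc : AlgSp.RepWith @QuasiCompact q.toHom) {W : Over S} (ww : W ⟶ q.pt)
    (pr : (AlgSp.yon S).obj W ⟶ X) (sq : IsPullback pr ((AlgSp.yon S).map ww) f q.toHom) :
    ∃ p : AlgSp.FieldPt X, AlgSp.Points.mk p = x ∧ Mono p.toHom ∧
      AlgSp.RepWith @QuasiCompact p.toHom := by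
  have hx : AlgSp.Points.map f x =
      AlgSp.Points.map q.toHom (AlgSp.Points.ofScheme q.pt (IsLocalRing.closedPoint q.K)) := by
    rw [← AlgSp.Points.ofPt_eq_map_ofScheme, AlgSp.Points.ofPt_toHom, hq]
  obtain ⟨p₀, hp1, -⟩ := Groth.Agent.S10175.exists_point_of_isPullback sq x _ hx
  obtain ⟨w₀, rfl⟩ := (AlgSp.Points.schemeHomeo W).surjective p₀
  have hprqc : AlgSp.RepWith @QuasiCompact pr :=
    MorphismProperty.of_isPullback (P := AlgSp.RepWith @QuasiCompact) sq.flip hqc
  refine ⟨AlgSp.FieldPt.ofPt pr w₀, ?_, ?_, ?_⟩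
  · rw [← hp1]
    exact AlgSp.Points.ofPt_eq_map_ofScheme pr w₀
  · rw [AlgSp.FieldPt.toHom_ofPt]
    haveI : Mono pr := PullbackCone.mono_fst_of_is_pullback_of_mono sq.isLimit
    have hm : ∀ {A : Over S} (m : A ⟶ W), Mono m → Mono ((AlgSp.yon S).map m ≫ pr) := by
      intro A m hm
      haveI := hm
      haveI : Mono ((AlgSp.yon S).map m) := (AlgSp.yon S).map_mono m
      exact mono_comp _ _
    apply hm
    have hmono : Mono (W.left.fromSpecResidueField w₀) := inferInstance
    exact @Over.mono_of_mono_left _ _ _ _ _ _ hmono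
  · rw [AlgSp.FieldPt.toHom_ofPt]
    refine MorphismProperty.comp_mem _ _ _ ((AlgSp.repWith_yon_map_iff _ _).2 ?_) hprqc
    change QuasiCompact (W.left.fromSpecResidueField w₀)
    haveI : Finite ↥(Spec (W.left.residueField w₀)) := inferInstance
    exact Groth.Agent.S10351.quasiCompact_of_finite _

/-- Let S be a scheme, X and Y algebraic spaces over S, and f : X ⟶ Y an etale morphism. If Y is decent
then X is decent. -/
theorem result {S : Scheme.{u}} {X Y : AlgSp.Space S} (f : X ⟶ Y)
    (hf : AlgSp.IsEtaleMor f.hom) (hY : AlgSp.IsDecent Y.obj) : AlgSp.IsDecent X.obj := by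
  intro x
  obtain ⟨q, hq, hqm, hqc⟩ := hY (AlgSp.Points.map f.hom x)
  have sqE := IsPullback.of_hasPullback f.hom q.toHom
  have hE : AlgSp.IsAlgSpace (pullback f.hom q.toHom) :=
    Groth.Agent.S9874.isAlgSpace_of_isPullback Y.property.diag X.property
      (AlgSp.IsAlgSpace.yon_obj _) sqE
  have het : AlgSp.IsEtaleMor (pullback.snd f.hom q.toHom) :=
    Groth.Agent.Lib.Helper12.EtSmST.isEtaleMor_baseChange X.property Y.property
      (AlgSp.IsAlgSpace.yon_obj _) sqE hf
  have hrep := Groth.Agent.S10206.result ⟨_, hE⟩ q.K q.str (pullback.snd f.hom q.toHom) het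
  obtain ⟨W, ⟨e⟩⟩ := Groth.Agent.Lib.T2H6.QuotMod.exists_iso_yon_of_isRepresentable _ hrep
  obtain ⟨ww, hww⟩ := (AlgSp.yon S).map_surjective (e.hom ≫ pullback.snd f.hom q.toHom)
  have sq : IsPullback (e.hom ≫ pullback.fst f.hom q.toHom) ((AlgSp.yon S).map ww) f.hom
      q.toHom := by
    rw [hww]
    exact IsPullback.of_iso sqE e.symm (Iso.refl _) (Iso.refl _) (Iso.refl _) (by simp) (by simp)
      (by simp) (by simp)
  exact exists_decent_fieldPt_of_isPullback f.hom x q hq hqm hqc ww _ sq

end Groth.Agent.S10352
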