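import Groth.Statements.S10353
import Mathlib
import Groth.Agent.Lib.T2H7KerPairGrpd
import Groth.Agent.Lib.T2H7SpOpenBC
import Groth.Agent.Lib.T2H7DenseAffFam
import Groth.Agent.Lib.T2H2NowhereDenseSch
import Groth.Agent.Lib.Helper20SymProd
import Groth.Agent.S10177

set_option autoImplicit false
universe u
open CategoryTheory CategoryTheory.Limits AlgebraicGeometry Topology TopologicalSpace
open AlgSp

namespace Groth.Agent.S10353

/-- Let X be an algebraic space over a scheme S and suppose there is a finite, etale, surjective map h_U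
⟶ X from a scheme U. Then some dense open subspace of X is a scheme: an open subspace X' ⟶ X with
representable underlying sheaf and |X'| dense in |X|. -/
theorem result {S : Scheme.{u}} (X : AlgSp.Space S)
    {U : Over S} (a : (AlgSp.yon S).obj U ⟶ X.obj) (hf : AlgSp.RepWith @IsFinite a) (he : AlgSp.RepWith @Etale a)
    (hs : AlgSp.RepWith @Surjective a) :
    ∃ (X' : AlgSp.Space S) (j : X' ⟶ X), AlgSp.RepWith @IsOpenImmersion j.hom ∧ X'.obj.obj.IsRepresentable ∧
      Dense (Set.range (AlgSp.Points.map j.hom)) := by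
  classical
  have hπcl : IsClosedMap (AlgSp.Points.ofPt a) :=
    Groth.Agent.Lib.T2H7.SpOpenBC.isClosedMap_ofPt a hf
  have hπfin : ∀ x, (AlgSp.Points.ofPt a ⁻¹' {x}).Finite :=
    Groth.Agent.Lib.T2H7.SpOpenBC.finite_fibre_ofPt a hf
  have hπsurj : Function.Surjective (AlgSp.Points.ofPt a) :=
    Groth.Agent.S10177.surjective_ofPt a hs
  have hπcont : Continuous (AlgSp.Points.ofPt a) := AlgSp.Points.continuous_ofPt a
  let W' : Set (AlgSp.Points X.obj) := {x | ∃ V : U.left.Opens, IsAffineOpen V ∧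
    AlgSp.Points.ofPt a ⁻¹' {x} ⊆ (V : Set ↥U.left)}
  have hW'open : IsOpen W' := by
    rw [isOpen_iff_forall_mem_open]
    rintro x ⟨V, hV, hsub⟩
    refine ⟨(AlgSp.Points.ofPt a '' ((V : Set ↥U.left)ᶜ))ᶜ, ?_,
      (hπcl _ V.2.isClosed_compl).isOpen_compl, ?_⟩
    · intro y hy
      refine ⟨V, hV, fun u hu => ?_⟩
      by_contra hne
      exact hy ⟨u, hne, hu⟩
    · rintro ⟨u, hu, hux⟩
      exact hu (hsub hux)
  -- density
  have hdense : Dense W' := by
    obtain ⟨F, hFaff, hFdisj, hFdense⟩ :=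
      Groth.Agent.Lib.T2H7.DenseAffFam.exists_disjoint_affine_family U.left
    obtain ⟨R, s, t', sq⟩ := hf.1 a
    obtain ⟨t, rfl⟩ := (AlgSp.yon S).map_surjective t'
    have hsfin : IsFinite s.left := hf.2 a _ s sq
    have hset : Etale s.left := he.2 a _ s sq
    have htfin : IsFinite t.left := hf.2 a _ t sq.flip
    let C : Set ↥U.left := (((sSup F : U.left.Opens) : Set ↥U.left))ᶜ
    have hCcl : IsClosed C := (sSup F : U.left.Opens).2.isClosed_compl
    have hCnd : IsNowhereDense C := by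
      rw [hCcl.isNowhereDense_iff, interior_eq_empty_iff_dense_compl, compl_compl]
      exact hFdense
    have hs1cl : IsClosed (s.left ⁻¹' C) := hCcl.preimage s.left.continuous
    have hs1nd : IsNowhereDense (s.left ⁻¹' C) := by
      rw [hs1cl.isNowhereDense_iff,
        ← s.left.isOpenMap.preimage_interior_eq_interior_preimage s.left.continuous,
        (hCcl.isNowhereDense_iff).1 hCnd, Set.preimage_empty]
    have hsatnd : IsNowhereDense (t.left '' (s.left ⁻¹' C)) :=
      Groth.Agent.Lib.T2H2.NowhereDenseSch.isNowhereDense_image_of_isFinite t.left _ hs1cl hs1nd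
    have hsatcl : IsClosed (t.left '' (s.left ⁻¹' C)) := t.left.isClosedMap _ hs1cl
    have hW₀dense : Dense ((t.left '' (s.left ⁻¹' C))ᶜ) := by
      rw [← interior_eq_empty_iff_dense_compl]
      exact (hsatcl.isNowhereDense_iff).1 hsatnd
    have hsat : AlgSp.Points.ofPt a ⁻¹' (AlgSp.Points.ofPt a '' C) = t.left '' (s.left ⁻¹' C) :=
      Groth.Agent.S10176.preimage_ofPt_image sq.flip C
    have himg : AlgSp.Points.ofPt a '' ((t.left '' (s.left ⁻¹' C))ᶜ) ⊆ W' := by
      rintro _ ⟨u, hu, rfl⟩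
      -- the fibre through `u` avoids `C`
      have hfib : ∀ u' ∈ AlgSp.Points.ofPt a ⁻¹' {AlgSp.Points.ofPt a u},
          u' ∈ ((sSup F : U.left.Opens) : Set ↥U.left) := by
        intro u' hu'
        by_contra hC
        apply hu
        rw [← hsat]
        exact ⟨u', hC, hu'⟩
      have hch : ∀ u' : ↥U.left, ∃ V : U.left.Opens,
          u' ∈ AlgSp.Points.ofPt a ⁻¹' {AlgSp.Points.ofPt a u} → V ∈ F ∧ u' ∈ V := by
        intro u'
        by_cases h : u' ∈ AlgSp.Points.ofPt a ⁻¹' {AlgSp.Points.ofPt a u}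
        · have h1 := hfib u' h
          rw [TopologicalSpace.Opens.coe_sSup] at h1
          obtain ⟨V, hV, hu'V⟩ := Set.mem_iUnion₂.1 h1
          exact ⟨V, fun _ => ⟨hV, hu'V⟩⟩
        · exact ⟨⊥, fun h' => absurd h' h⟩
      choose Vof hVof using hch
      let G : Set U.left.Opens := Vof '' (AlgSp.Points.ofPt a ⁻¹' {AlgSp.Points.ofPt a u})
      have hGfin : G.Finite := (hπfin _).image _
      have hGF : G ⊆ F := by
        rintro _ ⟨u', hu', rfl⟩
        exact (hVof u' hu').1
      have haff : IsAffineOpen (⨆ V ∈ G, (id V : U.left.Opens)) :=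
        IsAffineOpen.biSup_of_disjoint hGfin (fun V hV => hFaff V (hGF hV))
          (fun V hV V' hV' hne => hFdisj (hGF hV) (hGF hV') hne)
      refine ⟨⨆ V ∈ G, (id V : U.left.Opens), haff, ?_⟩
      intro u' hu'
      have h1 := (hVof u' hu').2
      rw [SetLike.mem_coe, TopologicalSpace.Opens.mem_iSup]
      refine ⟨Vof u', ?_⟩
      rw [TopologicalSpace.Opens.mem_iSup]
      exact ⟨⟨u', hu', rfl⟩, h1⟩
    exact (hπsurj.denseRange.dense_image hπcont hW₀dense).mono himg
  -- the chart of the open subspace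
  let V : U.left.Opens := ⟨AlgSp.Points.ofPt a ⁻¹' W', hW'open.preimage hπcont⟩
  obtain ⟨aW, sqW⟩ := Groth.Agent.Lib.T2H7.SpOpenBC.exists_isPullback_incl W' a V rfl
  have hfW : AlgSp.RepWith @IsFinite aW := MorphismProperty.of_isPullback sqW.flip hf
  have heW : AlgSp.RepWith @Etale aW := MorphismProperty.of_isPullback sqW.flip he
  have hsW : AlgSp.RepWith @Surjective aW := MorphismProperty.of_isPullback sqW.flip hs
  have hbW : ∀ w : ↥(Over.mk (V.ι ≫ U.hom)).left,
      ∃ D : (Over.mk (V.ι ≫ U.hom)).left.Opens, IsAffineOpen D ∧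
        {w' : ↥(Over.mk (V.ι ≫ U.hom)).left |
          AlgSp.Points.ofPt aW w' = AlgSp.Points.ofPt aW w} ⊆
          (D : Set ↥(Over.mk (V.ι ≫ U.hom)).left) := by
    intro w
    have hmem : V.ι w ∈ V := by
      have h := V.range_ι
      have h2 : V.ι w ∈ Set.range V.ι := ⟨w, rfl⟩
      rw [h] at h2; exact h2
    have hw : AlgSp.Points.ofPt a (V.ι w) ∈ W' := hmem
    obtain ⟨V₀, hV₀, hsub⟩ := hw
    let F := (hπfin (AlgSp.Points.ofPt a (V.ι w))).toFinset
    have hFV : ∀ t ∈ F, t ∈ V₀ ∧ t ∈ V := by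
      intro t ht
      rw [Set.Finite.mem_toFinset] at ht
      refine ⟨hsub ht, ?_⟩
      change AlgSp.Points.ofPt a t ∈ W'
      have ht' : AlgSp.Points.ofPt a t = AlgSp.Points.ofPt a (V.ι w) := ht
      rw [ht']
      exact hmem
    obtain ⟨D₀, hD₀, -, hD₀V, hFD₀⟩ :=
      Groth.Agent.Lib.Helper20.exists_affine_finite hV₀ V F hFV
    refine ⟨V.ι ⁻¹ᵁ D₀, hD₀.preimage_of_isOpenImmersion V.ι
      (by rw [Scheme.Opens.opensRange_ι]; exact hD₀V), ?_⟩
    intro w' hw'
    have h1 : AlgSp.Points.ofPt a (V.ι w') = AlgSp.Points.ofPt a (V.ι w) := by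
      have h := congrArg (AlgSp.Points.map (Groth.Agent.Lib.Helper12.OpenSub.incl X.obj W')) hw'
      rw [AlgSp.Points.map_ofPt, AlgSp.Points.map_ofPt, sqW.w,
        Groth.Agent.S10176.ofPt_map_comp, Groth.Agent.S10176.ofPt_map_comp] at h
      exact h
    exact hFD₀ _ ((Set.Finite.mem_toFinset _).2 h1)
  obtain ⟨Y, ⟨e⟩⟩ := Groth.Agent.Lib.T2H7.KerPairGrpd.exists_iso_yon_of_finite_etale aW hfW heW
    hsW hbW
  refine ⟨⟨Groth.Agent.Lib.Helper12.OpenSub.obj X.obj W',
      Groth.Agent.Lib.Helper12.OpenSub.isAlgSpace_obj X.property hW'open⟩,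
    ObjectProperty.homMk (Groth.Agent.Lib.Helper12.OpenSub.incl X.obj W'),
    Groth.Agent.Lib.Helper12.OpenSub.repWith_incl hW'open,
    ⟨Y, ⟨AlgSp.representableByOfIso e⟩⟩, ?_⟩
  change Dense (Set.range (AlgSp.Points.map (Groth.Agent.Lib.Helper12.OpenSub.incl X.obj W')))
  rw [Groth.Agent.Lib.Helper12.OpenSub.range_map_incl]
  exact hdense

end Groth.Agent.S10353
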