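import Groth.Statements.S10355
import Mathlib
import Groth.Agent.S10337
import Groth.Agent.Lib.Helper12OpenSub2

set_option autoImplicit false
universe u
open CategoryTheory CategoryTheory.Limits AlgebraicGeometry Topology TopologicalSpace
open AlgSp

namespace Groth.Agent.S10355

/-- A decent algebraic space X over a scheme S whose space of points is a single point is a scheme (the
underlying sheaf of X is representable). -/
theorem result {S : Scheme.{u}} (X : AlgSp.Space S)
    (hX : AlgSp.IsDecent X.obj) [Nonempty (AlgSp.Points X.obj)] [Subsingleton (AlgSp.Points X.obj)] :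
    X.obj.obj.IsRepresentable := by
  obtain ⟨X', j, hj, hrep, hdense⟩ := Groth.Agent.S10337.result X hX
  have hrange : Set.range (AlgSp.Points.map j.hom) = Set.range (AlgSp.Points.map (𝟙 X.obj)) := by
    obtain ⟨z, hz⟩ := hdense.nonempty
    ext w
    constructor
    · intro _
      exact ⟨w, AlgSp.Points.map_id w⟩
    · intro _
      rw [Subsingleton.elim w z]
      exact hz
  obtain ⟨e, -⟩ := Groth.Agent.Lib.Helper12.OpenSub.iso_of_range_eq j.hom hj (𝟙 X.obj)
    ((AlgSp.RepWith @IsOpenImmersion).id_mem X.obj) hrange
  obtain ⟨Xs, ⟨r⟩⟩ := hrep.has_representation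
  exact ⟨Xs, ⟨AlgSp.representableByOfIso (AlgSp.isoOfRepresentableBy r ≪≫ e)⟩⟩

end Groth.Agent.S10355
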