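import Groth.Statements.S10357
import Groth.Agent.S10338
import Groth.Agent.S10176
import Groth.Agent.S10177
import Groth.Agent.S10555

set_option autoImplicit false
universe u
open CategoryTheory CategoryTheory.Limits AlgebraicGeometry Topology TopologicalSpace
open AlgSp

namespace Groth.Agent.S10357

/-- the residue field extension at a point of a locally quasi-finite morphism gives an integral
morphism of spectra. -/
lemma isIntegralHom_SpecMap_residueFieldMap {X Y : Scheme.{u}} (f : X ⟶ Y) [LocallyQuasiFinite f]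
    (x : X) : IsIntegralHom (Spec.map (f.residueFieldMap x)) := by
  have h1 : LocallyQuasiFinite (Spec.map (f.residueFieldMap x) ≫ Y.fromSpecResidueField (f x)) := by
    rw [Scheme.Hom.SpecMap_residueFieldMap_fromSpecResidueField]
    infer_instance
  have h2 : LocallyQuasiFinite (Spec.map (f.residueFieldMap x)) :=
    LocallyQuasiFinite.of_comp _ (Y.fromSpecResidueField (f x))
  have h3 : (f.residueFieldMap x).hom.QuasiFinite :=
    (HasRingHomProperty.Spec_iff (P := @LocallyQuasiFinite)).mp h2
  rw [IsIntegralHom.SpecMap_iff]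
  letI := (f.residueFieldMap x).hom.toAlgebra
  have h4 : Algebra.QuasiFinite (Y.residueField (f x)) (X.residueField x) := h3
  haveI : Module.Finite (Y.residueField (f x)) (X.residueField x) := Module.Finite.of_quasiFinite
  have h5 : Algebra.IsIntegral (Y.residueField (f x)) (X.residueField x) := inferInstance
  exact algebraMap_isIntegral_iff.mpr h5

/-- a point of an affine etale chart lying over a point of `X` that is algebraic over a closed point
of the base is closed. -/
lemma isClosed_singleton_chart {S : Scheme.{u}} (X : AlgSp.Space S) (s : ↥S)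
    (hs : IsClosed ({s} : Set ↥S)) (k : Type u) [Field k]
    (φ : S.residueField s ⟶ CommRingCat.of k) (hφ : φ.hom.IsIntegral)
    (p : (AlgSp.yon S).obj (Over.mk (Spec.map φ ≫ S.fromSpecResidueField s)) ⟶ X.obj)
    (t : ↥(Spec (CommRingCat.of k))) {U : Over S} [IsAffine U.left]
    (a : (AlgSp.yon S).obj U ⟶ X.obj) (ha : AlgSp.RepWith @Etale a) (u : ↥U.left)
    (e : AlgSp.Points.ofPt a u = AlgSp.Points.ofPt p t) : IsClosed ({u} : Set ↥U.left) := by
  obtain ⟨P, snd, fst, sq⟩ := ha.1 p
  obtain ⟨pr, rfl⟩ := (AlgSp.yon S).map_surjective fst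
  haveI : Etale snd.left := ha.2 _ _ snd sq
  haveI : LocallyQuasiFinite snd.left := Groth.Agent.S10555.lqf_of_etale snd.left
  obtain ⟨y, hy1, hy2⟩ := Groth.Agent.S10176.exists_point_of_isPullback_yon sq u t e
  have hP1 : pr.left ≫ U.hom = P.hom := Over.w pr
  have hP2 : snd.left ≫ (Spec.map φ ≫ S.fromSpecResidueField s) = P.hom := Over.w snd
  haveI : IsIntegralHom (Spec.map (snd.left.residueFieldMap y)) :=
    isIntegralHom_SpecMap_residueFieldMap snd.left y
  haveI : IsClosedImmersion ((Spec (CommRingCat.of k)).fromSpecResidueField (snd.left y)) :=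
    isClosed_singleton_iff_isClosedImmersion.mp isClosed_singleton
  haveI : IsIntegralHom (Spec.map φ) := IsIntegralHom.SpecMap_iff.mpr hφ
  haveI : IsClosedImmersion (S.fromSpecResidueField s) :=
    isClosed_singleton_iff_isClosedImmersion.mp hs
  have hcomp : (P.left.fromSpecResidueField y ≫ pr.left) ≫ U.hom =
      Spec.map (snd.left.residueFieldMap y) ≫
        (Spec (CommRingCat.of k)).fromSpecResidueField (snd.left y) ≫
          Spec.map φ ≫ S.fromSpecResidueField s := by
    rw [Category.assoc, hP1, ← hP2, ← Category.assoc,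
      ← Scheme.Hom.SpecMap_residueFieldMap_fromSpecResidueField, Category.assoc]
    rfl
  haveI : UniversallyClosed ((P.left.fromSpecResidueField y ≫ pr.left) ≫ U.hom) := by
    rw [hcomp]; infer_instance
  haveI : UniversallyClosed (P.left.fromSpecResidueField y ≫ pr.left) :=
    UniversallyClosed.of_comp_of_isSeparated _ U.hom
  have hrange : Set.range (P.left.fromSpecResidueField y ≫ pr.left) = {u} := by
    rw [Scheme.Hom.comp_base, TopCat.coe_comp, Set.range_comp, Scheme.range_fromSpecResidueField,
      Set.image_singleton, hy1]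
  rw [← hrange]
  exact (P.left.fromSpecResidueField y ≫ pr.left).isClosedMap.isClosed_range

/-- Let S be a scheme, X a decent algebraic space over S, and Spec k ⟶ X a morphism over S from the
spectrum of a field whose image in S is a closed point s with k algebraic over κ(s). Then the image
point of |X| is closed. Here Spec k ⟶ S is written as Spec k ⟶ Spec κ(s) ⟶ S for a ring map φ : κ(s)
→ k, integral since k is algebraic over κ(s). -/
theorem result {S : Scheme.{u}} (X : AlgSp.Space S)
    (hX : AlgSp.IsDecent X.obj) (s : ↥S) (hs : IsClosed ({s} : Set ↥S)) (k : Type u) [Field k]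
    (φ : S.residueField s ⟶ CommRingCat.of k) (hφ : φ.hom.IsIntegral)
    (p : (AlgSp.yon S).obj (Over.mk (Spec.map φ ≫ S.fromSpecResidueField s)) ⟶ X.obj)
    (t : ↥(Spec (CommRingCat.of k))) :
    IsClosed ({AlgSp.Points.ofPt p t} : Set (AlgSp.Points X.obj)) := by
  obtain ⟨U₀, a₀, ha₀e, ha₀s⟩ := X.property.atlas
  -- closedness can be tested on the atlas
  have hq : IsClosed (AlgSp.Points.ofPt a₀ ⁻¹' {AlgSp.Points.ofPt p t}) →
      IsClosed ({AlgSp.Points.ofPt p t} : Set (AlgSp.Points X.obj)) := by
    intro hc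
    rw [← isOpen_compl_iff]
    have ho := Groth.Agent.S10176.isOpenMap_ofPt a₀ ha₀e _ hc.isOpen_compl
    convert ho using 1
    ext z
    constructor
    · intro hz
      obtain ⟨w, rfl⟩ := Groth.Agent.S10177.surjective_ofPt a₀ ha₀s z
      exact ⟨w, hz, rfl⟩
    · rintro ⟨w, hw, rfl⟩
      exact hw
  apply hq
  have hcov : TopologicalSpace.IsOpenCover (fun V : U₀.left.affineOpens => (V : U₀.left.Opens)) :=
    iSup_affineOpens_eq_top U₀.left
  rw [hcov.isClosed_iff_coe_preimage]
  intro V
  haveI : IsAffine (V.1 : Scheme.{u}) := V.2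
  let Vo : Over S := Over.mk (V.1.ι ≫ U₀.hom)
  let ι : Vo ⟶ U₀ := Over.homMk V.1.ι rfl
  haveI : IsAffine Vo.left := V.2
  have hι : AlgSp.RepWith @Etale ((AlgSp.yon S).map ι) :=
    (AlgSp.repWith_yon_map_iff _ _).2 (inferInstance : Etale V.1.ι)
  have ha : AlgSp.RepWith @Etale ((AlgSp.yon S).map ι ≫ a₀) :=
    (AlgSp.RepWith @Etale).comp_mem _ _ hι ha₀e
  have hset : (AlgSp.Points.ofPt ((AlgSp.yon S).map ι ≫ a₀) ⁻¹' {AlgSp.Points.ofPt p t} :
      Set ↥Vo.left) = (fun v : ↥Vo.left => (ι.left v : ↥U₀.left)) ⁻¹'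
        (AlgSp.Points.ofPt a₀ ⁻¹' {AlgSp.Points.ofPt p t}) := by
    ext v
    simp only [Set.mem_preimage, Set.mem_singleton_iff]
    rw [Groth.Agent.S10176.ofPt_map_comp]
  have hfin : (AlgSp.Points.ofPt ((AlgSp.yon S).map ι ≫ a₀) ⁻¹' {AlgSp.Points.ofPt p t}).Finite :=
    Groth.Agent.S10338.finite_fibre_of_isDecent hX _ Vo _ V.2 ha
  have hcl : ∀ v ∈ AlgSp.Points.ofPt ((AlgSp.yon S).map ι ≫ a₀) ⁻¹' {AlgSp.Points.ofPt p t},
      IsClosed ({v} : Set ↥Vo.left) := fun v hv =>
    isClosed_singleton_chart X s hs k φ hφ p t _ ha v hv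
  have := hfin.isClosed_biUnion hcl
  rw [Set.biUnion_of_singleton, hset] at this
  exact this

end Groth.Agent.S10357
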