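import Groth.Statements.S10359
import Mathlib
import Groth.Agent.S10192
import Groth.Agent.S10191
import Groth.Agent.S10351
import Groth.Agent.S10356
import Groth.Agent.S10177

set_option autoImplicit false
universe u
open CategoryTheory CategoryTheory.Limits AlgebraicGeometry
open AlgSp

namespace Groth.Agent.S10359

open Groth.Agent.S13210

/-- On a decent algebraic space X over a scheme S every closed point x of |X| is represented by a closed
immersion Spec k ⟶ X, where k is a field. -/
theorem result {S : Scheme.{u}} (X : AlgSp.Space S)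
    (hX : AlgSp.IsDecent X.obj) (x : AlgSp.Points X.obj) (hx : IsClosed ({x} : Set (AlgSp.Points X.obj))) :
    ∃ p : AlgSp.FieldPt X.obj, AlgSp.Points.mk p = x ∧ AlgSp.RepWith @IsClosedImmersion p.toHom := by
  obtain ⟨Z, i, hi, hr, hred⟩ := Groth.Agent.S10192.result X {x} hx
  have hZd : AlgSp.IsDecent Z.obj := Groth.Agent.S10351.result i hi.1 hX
  have himm : AlgSp.RepWith @IsImmersion i.hom :=
    ⟨hi.1, fun U V g fst snd sq => by
      haveI : IsClosedImmersion snd.left := hi.2 g fst snd sq
      change IsImmersion snd.left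
      infer_instance⟩
  have hinj : Function.Injective (AlgSp.Points.map i.hom) :=
    (Groth.Agent.S10191.result i himm).1.injective
  haveI : Nonempty (AlgSp.Points Z.obj) := by
    have : x ∈ Set.range (AlgSp.Points.map i.hom) := by rw [hr]; rfl
    obtain ⟨z, -⟩ := this
    exact ⟨z⟩
  haveI : Subsingleton (AlgSp.Points Z.obj) := by
    refine ⟨fun a b => hinj ?_⟩
    have ha : AlgSp.Points.map i.hom a ∈ ({x} : Set _) := hr ▸ ⟨a, rfl⟩
    have hb : AlgSp.Points.map i.hom b ∈ ({x} : Set _) := hr ▸ ⟨b, rfl⟩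
    rw [Set.mem_singleton_iff] at ha hb
    rw [ha, hb]
  obtain ⟨k, _, str, ⟨e⟩⟩ := Groth.Agent.S10356.result Z hZd hred
  let p : AlgSp.FieldPt X.obj := ⟨k, str, yEquiv (Over.mk str) X.obj (e.hom ≫ i.hom)⟩
  have hp : p.toHom = e.hom ≫ i.hom := Equiv.symm_apply_apply _ _
  refine ⟨p, ?_, ?_⟩
  · have h1 := Groth.Agent.S10177.ofPt_closedPoint p
    have h2 : (yEquiv p.pt X.obj).symm p.val = e.hom ≫ i.hom := hp
    rw [h2] at h1
    have h3 : AlgSp.Points.mk p ∈ Set.range (AlgSp.Points.map i.hom) := by
      rw [← h1, ← AlgSp.Points.map_ofPt]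
      exact ⟨_, rfl⟩
    rw [hr] at h3
    exact h3
  · rw [hp]
    haveI : (AlgSp.RepWith (S := S) @IsClosedImmersion).RespectsIso :=
      @MorphismProperty.IsStableUnderBaseChange.respectsIso _ _ _
        (AlgSp.repWith_isStableUnderBaseChange (S := S) @IsClosedImmersion)
    exact (MorphismProperty.cancel_left_of_respectsIso (AlgSp.RepWith @IsClosedImmersion) e.hom
      i.hom).2 hi

end Groth.Agent.S10359
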