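import Groth.Statements.S10358
import Groth.Agent.S10357
import Groth.Agent.S10359
import Groth.Agent.S9928
import Groth.Agent.Lib.Helper12ResidualFactor
import Groth.Agent.Lib.Helper15OpenSub

set_option autoImplicit false
universe u
open CategoryTheory CategoryTheory.Limits AlgebraicGeometry Topology TopologicalSpace
open AlgSp

namespace Groth.Agent.S10358

/-- Let S be a scheme, X a decent algebraic space over S, and Spec k ⟶ X a morphism over S from the
spectrum of a field whose image in S is a closed point s with k finite over κ(s) (Spec k ⟶ S written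
through a ring map φ : κ(s) → k). Then Spec k ⟶ X is finite; if moreover φ is bijective (k = κ(s))
it is a closed immersion. -/
theorem result {S : Scheme.{u}} (X : AlgSp.Space S)
    (hX : AlgSp.IsDecent X.obj) (s : ↥S) (hs : IsClosed ({s} : Set ↥S)) (k : Type u) [Field k]
    (φ : S.residueField s ⟶ CommRingCat.of k) (hφ : φ.hom.Finite)
    (p : (AlgSp.yon S).obj (Over.mk (Spec.map φ ≫ S.fromSpecResidueField s)) ⟶ X.obj) :
    AlgSp.RepWith @IsFinite p ∧
      (Function.Bijective φ.hom → AlgSp.RepWith @IsClosedImmersion p) := by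
  let t : ↥(Over.mk (Spec.map φ ≫ S.fromSpecResidueField s)).left := (⊥ : PrimeSpectrum k)
  have hφi : φ.hom.IsIntegral := hφ.to_isIntegral
  have hcl := Groth.Agent.S10357.result X hX s hs k φ hφi p t
  obtain ⟨p', hp'x, hp'c⟩ := Groth.Agent.S10359.result X hX _ hcl
  haveI : Mono p'.toHom := Groth.Agent.S9928.mono_of_repWith @IsClosedImmersion
    (fun _ _ g hg => by haveI : IsClosedImmersion g := hg; infer_instance) _ hp'c
  -- factor `p` through the closed immersion
  let Z : AlgSp.Space S := (AlgSp.ofScheme S).obj p'.pt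
  let i : Z ⟶ X := ObjectProperty.homMk p'.toHom
  haveI : Mono i.hom := (inferInstance : Mono p'.toHom)
  have hx : AlgSp.Points.ofPt p t ∈ Set.range (AlgSp.Points.map i.hom) := by
    refine ⟨AlgSp.Points.ofScheme p'.pt (((⊥ : PrimeSpectrum p'.K) : ↥p'.pt.left)), ?_⟩
    rw [← hp'x]
    show AlgSp.Points.map p'.toHom _ = _
    rw [← AlgSp.Points.ofPt_eq_map_ofScheme]
    exact AlgSp.Points.ofPt_toHom p' _
  obtain ⟨d, hd⟩ := Groth.Agent.Lib.Helper12.ResidualFactor.exists_factor_fieldPoint i k
    (Spec.map φ ≫ S.fromSpecResidueField s) p hx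
  obtain ⟨d₀, rfl⟩ := (AlgSp.yon S).map_surjective d
  have hd' : (AlgSp.yon S).map d₀ ≫ p'.toHom = p := hd
  have hw : d₀.left ≫ p'.str = Spec.map φ ≫ S.fromSpecResidueField s := Over.w d₀
  haveI : IsClosedImmersion (S.fromSpecResidueField s) :=
    isClosed_singleton_iff_isClosedImmersion.mp hs
  haveI : IsSeparated p'.str := by
    haveI : (Spec (CommRingCat.of p'.K)).IsSeparated := inferInstance
    infer_instance
  constructor
  · haveI : IsFinite (Spec.map φ) := (IsFinite.SpecMap_iff φ).2 hφ
    haveI : IsFinite (d₀.left ≫ p'.str) := by rw [hw]; infer_instance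
    haveI : IsFinite d₀.left := IsFinite.of_comp d₀.left p'.str
    have h1 : AlgSp.RepWith @IsFinite ((AlgSp.yon S).map d₀) :=
      (AlgSp.repWith_yon_map_iff _ _).2 (inferInstance : IsFinite d₀.left)
    have h2 : AlgSp.RepWith @IsFinite p'.toHom :=
      Groth.Agent.Lib.Helper15OpenSub.repWith_mono
        (fun _ _ g hg => by haveI : IsClosedImmersion g := hg; infer_instance) hp'c
    rw [← hd']
    exact (AlgSp.RepWith @IsFinite).comp_mem _ _ h1 h2
  · intro hbij
    haveI : IsIso φ := by
      rw [ConcreteCategory.isIso_iff_bijective]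
      exact hbij
    haveI : IsClosedImmersion (d₀.left ≫ p'.str) := by rw [hw]; infer_instance
    haveI : IsClosedImmersion d₀.left := IsClosedImmersion.of_comp d₀.left p'.str
    have h1 : AlgSp.RepWith @IsClosedImmersion ((AlgSp.yon S).map d₀) :=
      (AlgSp.repWith_yon_map_iff _ _).2 (inferInstance : IsClosedImmersion d₀.left)
    rw [← hd']
    exact (AlgSp.RepWith @IsClosedImmersion).comp_mem _ _ h1 hp'c

end Groth.Agent.S10358
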