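import Groth.Statements.S10370
import Groth.Agent.Lib.T2H1ResidualSp
import Groth.Agent.S9948
import Groth.Agent.Lib.Helper15OpenSub

set_option autoImplicit false
universe u
open CategoryTheory CategoryTheory.Limits AlgebraicGeometry Topology TopologicalSpace
open AlgSp

namespace Groth.Agent.S10370

/-- For an algebraic space X over a scheme S and x ∈ |X| there is a monomorphism Z ⟶ X of algebraic
spaces with image {x} in |X| such that Z admits a locally finitely presented, flat, surjective
morphism from the spectrum of a field (so Z is a reduced, locally Noetherian, one-point space). -/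
theorem result {S : Scheme.{u}} (X : AlgSp.Space S) (x : AlgSp.Points X.obj) :
    ∃ (Z : AlgSp.Space S) (i : Z ⟶ X), Mono i.hom ∧ Set.range (AlgSp.Points.map i.hom) = {x} ∧
      ∃ (k : Type u) (_ : Field k) (str : Spec (CommRingCat.of k) ⟶ S) (p : (AlgSp.yon S).obj (Over.mk str) ⟶ Z.obj),
        AlgSp.LocP @LocallyOfFinitePresentation p ∧ AlgSp.LocP @Flat p ∧ AlgSp.IsSurjectiveMor p := by
  obtain ⟨q, hq, hZ, he, hs, hr⟩ :=
    Groth.Agent.Lib.T2H1.ResidualSp.exists_residualSpace X.property x
  let Z : AlgSp.Space S := ⟨Sheaf.image q.toHom, hZ⟩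
  let i : Z ⟶ X := ObjectProperty.homMk (Sheaf.imageι q.toHom)
  let Y : AlgSp.Space S := ⟨(AlgSp.yon S).obj q.pt, AlgSp.IsAlgSpace.yon_obj q.pt⟩
  let e : Y ⟶ Z := ObjectProperty.homMk (Sheaf.toImage q.toHom)
  have hrep : AlgSp.Representable e.hom := he.1
  refine ⟨Z, i, (inferInstance : Mono (Sheaf.imageι q.toHom)), hr, q.K, q.field, q.str,
    Sheaf.toImage q.toHom, ?_, ?_, ?_⟩
  · refine (Groth.Agent.S9948.result @LocallyOfFinitePresentation (Or.inr (Or.inl rfl)) e hrep).2 ?_
    exact Groth.Agent.Lib.Helper15OpenSub.repWith_mono (P := @Etale)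
      (Q := @LocallyOfFinitePresentation)
      (fun A B g hg => by haveI : Etale g := hg; infer_instance) he
  · refine (Groth.Agent.S9948.result @Flat (Or.inr (Or.inr (Or.inl rfl))) e hrep).2 ?_
    exact Groth.Agent.Lib.Helper15OpenSub.repWith_mono (P := @Etale) (Q := @Flat)
      (fun A B g hg => by haveI : Etale g := hg; infer_instance) he
  · intro z
    obtain ⟨v, rfl⟩ := Groth.Agent.S10177.surjective_ofPt _ hs z
    exact ⟨AlgSp.Points.ofScheme _ v, (AlgSp.Points.ofPt_eq_map_ofScheme _ v).symm⟩

end Groth.Agent.S10370
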