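import Groth.Statements.S10388
import Mathlib
import Groth.Agent.S10289
import Groth.Agent.S10343
import Groth.Agent.S10176
import Groth.Agent.S10177
import Groth.Agent.Lib.Helper1ValImage

set_option autoImplicit false
universe u
open CategoryTheory CategoryTheory.Limits AlgebraicGeometry Topology TopologicalSpace
open AlgSp

namespace Groth.Agent.S10388

/-- Let S be a scheme, X and Y algebraic spaces over S, and f : X ⟶ Y a quasi-compact decent morphism.
If f is universally closed, then the valuative criterion's existence part holds for f. (The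
published statement is the equivalence of the two conditions; the converse implication holds for
every quasi-compact f and is not part of this row.) -/
theorem result {S : Scheme.{u}} {X Y : AlgSp.Space S} (f : X ⟶ Y)
    (hq : AlgSp.IsQuasiCompactMor f.hom) (hd : AlgSp.IsDecentMor f.hom) (hc : AlgSp.IsUnivClosedMor f.hom) :
    AlgSp.ExistVC f.hom := by
  intro sq
  -- the base change to `Spec A`
  have hA : AlgSp.IsAlgSpace ((AlgSp.yon S).obj sq.ptA) := AlgSp.IsAlgSpace.yon_obj _
  have hXA : AlgSp.IsAlgSpace (pullback f.hom sq.bot) :=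
    Groth.Agent.S9874.isAlgSpace_of_isPullback Y.property.diag X.property hA
      (IsPullback.of_hasPullback _ _)
  let XA : AlgSp.Space S := ⟨pullback f.hom sq.bot, hXA⟩
  have hXAd : AlgSp.IsDecent XA.obj := hd sq.bot _ _ (IsPullback.of_hasPullback f.hom sq.bot)
  let xK : (AlgSp.yon S).obj sq.ptK ⟶ XA.obj :=
    pullback.lift sq.top ((AlgSp.yon S).map sq.j) sq.comm
  have hxK1 : xK ≫ pullback.fst f.hom sq.bot = sq.top := pullback.lift_fst _ _ _
  have hxK2 : xK ≫ pullback.snd f.hom sq.bot = (AlgSp.yon S).map sq.j := pullback.lift_snd _ _ _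
  have hπ₂cl : IsClosedMap (AlgSp.Points.map (pullback.snd f.hom sq.bot)) :=
    hc hA sq.bot _ _ (IsPullback.of_hasPullback f.hom sq.bot)
  -- a specialization over the closed point
  let x : AlgSp.Points XA.obj := AlgSp.Points.ofPt xK (IsLocalRing.closedPoint sq.K)
  have hcl : IsClosed (AlgSp.Points.map (pullback.snd f.hom sq.bot) '' closure {x}) :=
    hπ₂cl _ isClosed_closure
  obtain ⟨x₀, hx₀cl, hx₀⟩ := Groth.Agent.S10289.closedPoint_mem_of_isClosed sq.str _ hcl
    ⟨_, ⟨x, subset_closure rfl, rfl⟩⟩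
  have hspec : x ⤳ x₀ := specializes_iff_mem_closure.2 hx₀cl
  -- lift the specialization to an etale chart
  obtain ⟨U, a, hae, has⟩ := hXA.atlas
  obtain ⟨u₀, hu₀⟩ := Groth.Agent.S10177.surjective_ofPt a has x₀
  obtain ⟨u, huu₀, hu⟩ := Groth.Agent.S10343.result XA x₀ x hspec (hXAd x) a hae u₀ hu₀
  obtain ⟨E, w, pr, sqE⟩ := hae.1 xK
  obtain ⟨β, rfl⟩ := (AlgSp.yon S).map_surjective pr
  obtain ⟨e₀, he₀1, he₀2⟩ := Groth.Agent.S10176.exists_point_of_isPullback_yon sqE u
    (IsLocalRing.closedPoint sq.K) hu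
  -- the valuation ring
  obtain ⟨A', l, hl1, hl2⟩ := Groth.Agent.Lib.Helper1.ValImage.exists_valuationSubring_of_specializes
    β.left e₀ u₀ (by rw [he₀1]; exact huu₀)
  obtain ⟨mU, hmU⟩ := (AlgSp.yon S).map_surjective (a ≫ pullback.snd f.hom sq.bot)
  let TA' : Over S := Over.mk (l ≫ U.hom)
  let lO : TA' ⟶ U := Over.homMk l rfl
  let TK' : Over S := Over.mk (E.left.fromSpecResidueField e₀ ≫ E.hom)
  let kO : TK' ⟶ E := Over.homMk (E.left.fromSpecResidueField e₀) rfl
  let gen : TK' ⟶ TA' := Over.homMk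
    (Spec.map (CommRingCat.ofHom (algebraMap A' (E.left.residueField e₀)))) (by
      have h := congrArg (fun m => m ≫ U.hom) hl2
      simp only [Category.assoc, Over.w] at h
      exact h.symm)
  have hgen : kO ≫ β = gen ≫ lO := by
    ext
    exact hl2
  let mA : TA' ⟶ sq.ptA := lO ≫ mU
  let mK : TK' ⟶ sq.ptK := kO ≫ w
  let φ : sq.A →+* A' := (Spec.preimage mA.left).hom
  have hφ : Spec.map (CommRingCat.ofHom φ) = mA.left := by
    rw [CommRingCat.ofHom_hom, Spec.map_preimage]
  let ψ : sq.K →+* E.left.residueField e₀ := (Spec.preimage mK.left).hom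
  have hψ : Spec.map (CommRingCat.ofHom ψ) = mK.left := by
    rw [CommRingCat.ofHom_hom, Spec.map_preimage]
  -- compatibility
  have hwj : (AlgSp.yon S).map w ≫ (AlgSp.yon S).map sq.j =
      (AlgSp.yon S).map β ≫ (AlgSp.yon S).map mU := by
    rw [hmU, ← hxK2, ← Category.assoc, ← sqE.w, Category.assoc]
  have hcommO : mK ≫ sq.j = gen ≫ mA := by
    apply (AlgSp.yon S).map_injective
    change (AlgSp.yon S).map ((kO ≫ w) ≫ sq.j) = (AlgSp.yon S).map (gen ≫ lO ≫ mU)
    rw [← Category.assoc gen, ← hgen]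
    simp only [Functor.map_comp, Category.assoc]
    rw [hwj]
  have hcommL : mK.left ≫ Spec.map (CommRingCat.ofHom (algebraMap sq.A sq.K)) =
      Spec.map (CommRingCat.ofHom (algebraMap A' (E.left.residueField e₀))) ≫ mA.left :=
    congrArg (fun m => m.left) hcommO
  have hcomm : (algebraMap A' (E.left.residueField e₀)).comp φ = ψ.comp (algebraMap sq.A sq.K) := by
    rw [← hφ, ← hψ, ← Spec.map_comp, ← Spec.map_comp, Spec.map_inj] at hcommL
    exact (congrArg (fun m => m.hom) hcommL).symm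
  -- locality
  have hcp : mA.left (IsLocalRing.closedPoint A') = IsLocalRing.closedPoint sq.A := by
    have h1 := congrArg (AlgSp.Points.toScheme sq.ptA) hx₀
    rw [AlgSp.Points.toScheme_ofScheme, ← hu₀, AlgSp.Points.map_ofPt, ← hmU,
      AlgSp.Points.toScheme_ofPt] at h1
    change mU.left (l (IsLocalRing.closedPoint A')) = _
    rw [hl1]
    exact h1
  have hloc : IsLocalHom φ := by
    rw [IsLocalRing.isLocalHom_iff_comap_closedPoint]
    rw [← hφ] at hcp
    exact hcp
  let e : sq.DomExt :=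
    { A' := A', K' := E.left.residueField e₀, φ := φ, ψ := ψ, comm := hcomm, isLocalHom := hloc }
  refine ⟨e, ?_⟩
  have hstr : Spec.map (CommRingCat.ofHom φ) ≫ sq.str = l ≫ U.hom := by
    rw [hφ]
    exact Over.w mA
  let ιA : e.ptA' ⟶ TA' := Over.homMk (𝟙 _) (by
    change 𝟙 _ ≫ l ≫ U.hom = Spec.map (CommRingCat.ofHom φ) ≫ sq.str
    rw [Category.id_comp, hstr])
  let ιK : e.ptK' ⟶ TK' := Over.homMk (𝟙 _) (by
    change 𝟙 _ ≫ E.left.fromSpecResidueField e₀ ≫ E.hom =
      Spec.map _ ≫ Spec.map (CommRingCat.ofHom φ) ≫ sq.str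
    rw [Category.id_comp, hstr]
    exact (Over.w gen).symm)
  refine ⟨(AlgSp.yon S).map ιA ≫ (AlgSp.yon S).map lO ≫ a ≫ pullback.fst f.hom sq.bot, ?_, ?_⟩
  · have e1 : (Over.homMk (Spec.map (CommRingCat.ofHom (algebraMap e.A' e.K'))) rfl : e.ptK' ⟶ e.ptA') ≫ ιA =
        ιK ≫ gen := by
      ext
      change Spec.map _ ≫ 𝟙 _ = 𝟙 _ ≫ Spec.map _
      rw [Category.comp_id, Category.id_comp]
      rfl
    have e2 : ιK ≫ mK = (Over.homMk (Spec.map (CommRingCat.ofHom e.ψ)) (by
          change Spec.map _ ≫ Spec.map _ ≫ _ = Spec.map _ ≫ Spec.map _ ≫ _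
          rw [← Spec.map_comp_assoc, ← Spec.map_comp_assoc, ← CommRingCat.ofHom_comp,
            ← CommRingCat.ofHom_comp, e.comm]) : e.ptK' ⟶ sq.ptK) := by
      ext
      change 𝟙 _ ≫ mK.left = Spec.map (CommRingCat.ofHom ψ)
      rw [Category.id_comp, hψ]
    rw [← e2]
    change (AlgSp.yon S).map _ ≫ (AlgSp.yon S).map ιA ≫ (AlgSp.yon S).map lO ≫ a ≫
      pullback.fst f.hom sq.bot = (AlgSp.yon S).map (ιK ≫ kO ≫ w) ≫ sq.top
    have key : (AlgSp.yon S).map gen ≫ (AlgSp.yon S).map lO =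
        (AlgSp.yon S).map kO ≫ (AlgSp.yon S).map β := by
      rw [← Functor.map_comp, ← Functor.map_comp, hgen]
    rw [← Functor.map_comp_assoc, e1, Functor.map_comp, Category.assoc,
      ← Category.assoc ((AlgSp.yon S).map gen), key]
    simp only [Functor.map_comp, Category.assoc]
    rw [← hxK1, ← Category.assoc ((AlgSp.yon S).map w), ← sqE.w, Category.assoc]
  · have e3 : ιA ≫ mA = (Over.homMk (Spec.map (CommRingCat.ofHom e.φ)) rfl : e.ptA' ⟶ sq.ptA) := by
      ext
      change 𝟙 _ ≫ mA.left = Spec.map (CommRingCat.ofHom φ)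
      rw [Category.id_comp, hφ]
    rw [← e3]
    change _ = (AlgSp.yon S).map (ιA ≫ lO ≫ mU) ≫ sq.bot
    simp only [Functor.map_comp, Category.assoc]
    rw [pullback.condition, hmU]
    simp only [Category.assoc]

end Groth.Agent.S10388
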