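import Groth.Statements.S10385
import Groth.Agent.Lib.T2H1FieldQuotF
import Groth.Agent.S10206
import Groth.Agent.S9874
import Groth.Agent.S9913
import Groth.Agent.S9917
import Groth.Agent.Lib.Helper12EtSmST
import Groth.Agent.Lib.T2H6QuotMod

set_option autoImplicit false
universe u
open CategoryTheory CategoryTheory.Limits AlgebraicGeometry Topology TopologicalSpace
open AlgSp

namespace Groth.Agent.S10385


open Groth.Agent.Lib.T2H1.FieldQuot

/-- the self fibre product of `Spec K ⟶ X ⟶ Y`, with `Spec K ⟶ X` a monomorphism and `X ⟶ Y`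
étale and quasi-compact, is étale and quasi-compact over `Spec K`. -/
theorem etale_compact_of_mono_comp {S : Scheme.{u}} {X Y : AlgSp.Sp S} (hXa : AlgSp.IsAlgSpace X)
    (hYa : AlgSp.IsAlgSpace Y) (f : X ⟶ Y) (hq : AlgSp.IsQuasiCompactMor f)
    (he : AlgSp.IsEtaleMor f) (K : Type u) [Field K] (str : Spec (CommRingCat.of K) ⟶ S)
    (p : (AlgSp.yon S).obj (Over.mk str) ⟶ X) [Mono p] {R : Over S} (s t : R ⟶ Over.mk str)
    (sq : IsPullback ((AlgSp.yon S).map s) ((AlgSp.yon S).map t) (p ≫ f) (p ≫ f)) :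
    Etale t.left ∧ CompactSpace ↥R.left := by
  have sqE := IsPullback.of_hasPullback f (p ≫ f)
  have hE : AlgSp.IsAlgSpace (pullback f (p ≫ f)) :=
    Groth.Agent.S9874.isAlgSpace_of_isPullback hYa.diag hXa (AlgSp.IsAlgSpace.yon_obj _) sqE
  have het : AlgSp.IsEtaleMor (pullback.snd f (p ≫ f)) :=
    Groth.Agent.Lib.Helper12.EtSmST.isEtaleMor_baseChange hXa hYa
      (AlgSp.IsAlgSpace.yon_obj _) sqE he
  have hrep := Groth.Agent.S10206.result ⟨_, hE⟩ K str (pullback.snd f (p ≫ f)) het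
  obtain ⟨W, ⟨e⟩⟩ := Groth.Agent.Lib.T2H6.QuotMod.exists_iso_yon_of_isRepresentable _ hrep
  obtain ⟨w₂, hw₂⟩ := (AlgSp.yon S).map_surjective (e.hom ≫ pullback.snd f (p ≫ f))
  have sqW : IsPullback (e.hom ≫ pullback.fst f (p ≫ f)) ((AlgSp.yon S).map w₂) f (p ≫ f) := by
    rw [hw₂]
    exact IsPullback.of_iso sqE e.symm (Iso.refl _) (Iso.refl _) (Iso.refl _) (by simp) (by simp)
      (by simp) (by simp)
  haveI hw₂e : Etale w₂.left := (AlgSp.isEtaleMor_yon_map_iff w₂).1
    (Groth.Agent.Lib.Helper12.EtSmST.isEtaleMor_baseChange hXa hYa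
      (AlgSp.IsAlgSpace.yon_obj _) sqW he)
  haveI : CompactSpace ↥(Over.mk str).left :=
    (inferInstance : CompactSpace ↥(Spec (CommRingCat.of K)))
  have hWq : AlgSp.IsQuasiCompactSp ((AlgSp.yon S).obj W) :=
    hq (AlgSp.IsAlgSpace.yon_obj _) (Groth.Agent.S9913.isQuasiCompactSp_yon_of_compact _) (p ≫ f) _ _
      sqW
  haveI : CompactSpace (AlgSp.Points ((AlgSp.yon S).obj W)) :=
    Groth.Agent.S9917.compactSpace_points_of_isQuasiCompactSp hWq
  haveI : CompactSpace ↥W.left := (AlgSp.Points.schemeHomeo W).symm.compactSpace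
  haveI : LocallyQuasiFinite w₂.left := Groth.Agent.S10555.lqf_of_etale w₂.left
  haveI : DiscreteTopology ↥W.left :=
    Groth.Agent.Lib.T2H1.EtField.discreteTopology_of_lqf_field K w₂.left
  haveI : Finite ↥W.left := finite_of_compact_of_discrete
  -- the comparison morphism
  have hw : ((AlgSp.yon S).map s ≫ p) ≫ f = (AlgSp.yon S).map t ≫ p ≫ f := by
    rw [Category.assoc, sq.w]
  obtain ⟨m, hm⟩ := (AlgSp.yon S).map_surjective (sqW.lift _ _ hw)
  have hm1 : (AlgSp.yon S).map m ≫ e.hom ≫ pullback.fst f (p ≫ f) = (AlgSp.yon S).map s ≫ p := by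
    rw [hm, sqW.lift_fst]
  have hm2 : m ≫ w₂ = t := by
    apply (AlgSp.yon S).map_injective
    rw [Functor.map_comp, hm, sqW.lift_snd]
  haveI : Mono m := by
    refine ⟨fun {Z} l₁ l₂ h => ?_⟩
    have h2 : l₁ ≫ t = l₂ ≫ t := by rw [← hm2, ← Category.assoc, h, Category.assoc]
    have h1 : (AlgSp.yon S).map (l₁ ≫ s) = (AlgSp.yon S).map (l₂ ≫ s) := by
      rw [← cancel_mono p, Functor.map_comp, Functor.map_comp, Category.assoc, Category.assoc,
        ← hm1]
      simp only [← Category.assoc, ← Functor.map_comp, h]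
    apply (AlgSp.yon S).map_injective
    apply sq.hom_ext
    · rw [← Functor.map_comp, ← Functor.map_comp, h1]
    · rw [← Functor.map_comp, ← Functor.map_comp, h2]
  haveI : Mono m.left := inferInstance
  haveI : IsOpenImmersion m.left := isOpenImmersion_of_mono_of_etale_field w₂.left m.left
  refine ⟨?_, ?_⟩
  · have : t.left = m.left ≫ w₂.left := by rw [← Over.comp_left, hm2]
    rw [this]
    infer_instance
  · haveI : Finite ↥R.left := Finite.of_injective _ m.left.isOpenEmbedding.injective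
    infer_instance

/-- Let S be a scheme, X and Y algebraic spaces over S, and f : X ⟶ Y a quasi-compact, etale and
surjective morphism. If each point of X can be represented by a monomorphism whose source is the
spectrum of a field, then so can each point of Y. -/
theorem result {S : Scheme.{u}} {X Y : AlgSp.Space S} (f : X ⟶ Y)
    (hq : AlgSp.IsQuasiCompactMor f.hom) (he : AlgSp.IsEtaleMor f.hom) (hs : AlgSp.IsSurjectiveMor f.hom)
    (hX : ∀ x : AlgSp.Points X.obj, ∃ p : AlgSp.FieldPt X.obj, AlgSp.Points.mk p = x ∧ Mono p.toHom)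
    (y : AlgSp.Points Y.obj) : ∃ q : AlgSp.FieldPt Y.obj, AlgSp.Points.mk q = y ∧ Mono q.toHom := by
  obtain ⟨x, rfl⟩ := hs y
  obtain ⟨p, rfl, hpm⟩ := hX x
  haveI := hpm
  obtain ⟨R, t, pr, sq⟩ := Y.property.representable_from_yon (p.toHom ≫ f.hom) (p.toHom ≫ f.hom)
  obtain ⟨s, rfl⟩ := (AlgSp.yon S).map_surjective pr
  obtain ⟨hte, hRc⟩ := etale_compact_of_mono_comp X.property Y.property f.hom hq he p.K p.str
    p.toHom s t sq
  haveI := hte
  haveI := hRc
  obtain ⟨C, hC, str', c₀, p', h1, h2, -⟩ :=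
    exists_mono_of_etale_compact p.K p.str (p.toHom ≫ f.hom) s t sq
  refine ⟨fieldPtOfHom C str' p', ?_, ?_⟩
  · rw [mk_fieldPtOfHom_eq p.K C p.str str' c₀ (p.toHom ≫ f.hom) p' h1, AlgSp.Points.map_mk]
    congr 1
    have := fieldPtOfHom_toHom_self (p.map f.hom)
    rw [AlgSp.FieldPt.toHom_map] at this
    exact this
  · rw [fieldPtOfHom_toHom]
    exact h2

end Groth.Agent.S10385
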