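import Groth.Statements.S10384
import Groth.Agent.Lib.T2H1FieldQuotG
import Groth.Agent.S10385

set_option autoImplicit false
universe u
open CategoryTheory CategoryTheory.Limits AlgebraicGeometry Topology TopologicalSpace
open AlgSp

namespace Groth.Agent.S10384


open Groth.Agent.Lib.T2H1.FieldQuot

/-- Let f : X ⟶ Y be a quasi-compact, etale and surjective morphism of algebraic spaces over a scheme S.
If X is decent then Y is decent. -/
theorem result {S : Scheme.{u}} {X Y : AlgSp.Space S} (f : X ⟶ Y)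
    (hq : AlgSp.IsQuasiCompactMor f.hom) (he : AlgSp.IsEtaleMor f.hom) (hs : AlgSp.IsSurjectiveMor f.hom)
    (hX : AlgSp.IsDecent X.obj) : AlgSp.IsDecent Y.obj := by
  intro y
  obtain ⟨x, rfl⟩ := hs y
  obtain ⟨p, rfl, hpm, hpqc⟩ := hX x
  haveI := hpm
  obtain ⟨R, t, pr, sq⟩ := Y.property.representable_from_yon (p.toHom ≫ f.hom) (p.toHom ≫ f.hom)
  obtain ⟨s, rfl⟩ := (AlgSp.yon S).map_surjective pr
  obtain ⟨hte, hRc⟩ := Groth.Agent.S10385.etale_compact_of_mono_comp X.property Y.property f.hom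
    hq he p.K p.str p.toHom s t sq
  haveI := hte
  haveI := hRc
  obtain ⟨C, hC, str', c₀, p', h1, h2, -, -, h5, -⟩ :=
    exists_mono_of_etale_compact p.K p.str (p.toHom ≫ f.hom) s t sq
  refine ⟨fieldPtOfHom C str' p', ?_, ?_, ?_⟩
  · rw [mk_fieldPtOfHom_eq p.K C p.str str' c₀ (p.toHom ≫ f.hom) p' h1, AlgSp.Points.map_mk]
    congr 1
    have := fieldPtOfHom_toHom_self (p.map f.hom)
    rw [AlgSp.FieldPt.toHom_map] at this
    exact this
  · rw [fieldPtOfHom_toHom]
    exact h2
  · rw [fieldPtOfHom_toHom]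
    haveI := h5
    exact repWith_quasiCompact_of_comp X.property Y.property f.hom hq c₀ p.toHom hpqc p' h1

end Groth.Agent.S10384
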