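import Groth.Statements.S10386
import Groth.Agent.Lib.T2H1FieldQuotL

set_option autoImplicit false
universe u
open CategoryTheory CategoryTheory.Limits AlgebraicGeometry Topology TopologicalSpace
open AlgSp

namespace Groth.Agent.S10386


open Groth.Agent.Lib.T2H1.FieldQuot

/-- (3) ⇒ (1): let S be a scheme, X and Y algebraic spaces over S, and f : X ⟶ Y a morphism such that Z
×_Y X is decent for every affine scheme Z and every Z ⟶ Y. Then f is decent, i.e. T ×_Y X is decent
for every scheme T over Y. -/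
theorem result {S : Scheme.{u}} {X Y : AlgSp.Space S} (f : X ⟶ Y)
    (h : ∀ (Z : Over S) (g : (AlgSp.yon S).obj Z ⟶ Y.obj) (P : AlgSp.Sp S) (fst : P ⟶ X.obj)
      (snd : P ⟶ (AlgSp.yon S).obj Z), IsAffine Z.left → IsPullback fst snd f.hom g → AlgSp.IsDecent P) :
    AlgSp.IsDecentMor f.hom := by
  intro T F' g fst snd sq
  have hF : AlgSp.IsAlgSpace F' :=
    Groth.Agent.S9874.isAlgSpace_of_isPullback Y.property.diag X.property
      (AlgSp.IsAlgSpace.yon_obj T) sq
  refine isDecent_of_local hF snd (fun t => ?_)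
  have hch : ∃ To : T.left.Opens, IsAffineOpen To ∧ t ∈ To := by
    obtain ⟨_, ⟨To, hTo, rfl⟩, hmem, -⟩ := T.left.isBasis_affineOpens.exists_subset_of_mem_open
      (Set.mem_univ t) isOpen_univ
    exact ⟨To, hTo, hmem⟩
  obtain ⟨To, hTo, ht⟩ := hch
  refine ⟨To, ht, ?_⟩
  have sq' := (IsPullback.of_hasPullback snd
    ((AlgSp.yon S).map (Over.homMk To.ι rfl : Over.mk (To.ι ≫ T.hom) ⟶ T))).paste_horiz sq
  exact h (Over.mk (To.ι ≫ T.hom)) _ _ _ _ hTo sq'

end Groth.Agent.S10386
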