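import Groth.Statements.S10387
import Groth.Agent.Lib.T2H1FieldQuotL
import Groth.Agent.Lib.Helper15ImmQc
import Groth.Agent.S10384

set_option autoImplicit false
universe u
open CategoryTheory CategoryTheory.Limits AlgebraicGeometry Topology TopologicalSpace
open AlgSp

namespace Groth.Agent.S10387


open Groth.Agent.Lib.T2H1.FieldQuot

/-- (5) ⇒ (1): let S be a scheme, X and Y algebraic spaces over S, f : X ⟶ Y a morphism, and V ⟶ Y a
surjective etale morphism from a scheme. If the base change V ×_Y X ⟶ V is a decent morphism, then f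
is decent. -/
theorem result {S : Scheme.{u}} {X Y : AlgSp.Space S} (f : X ⟶ Y) {V : Over S}
    (p : (AlgSp.yon S).obj V ⟶ Y.obj) (hp : AlgSp.RepWith @Etale p) (hps : AlgSp.RepWith @Surjective p)
    (X' : AlgSp.Sp S) (fst : X' ⟶ X.obj) (snd : X' ⟶ (AlgSp.yon S).obj V) (hsq : IsPullback fst snd f.hom p)
    (h : AlgSp.IsDecentMor snd) : AlgSp.IsDecentMor f.hom := by
  intro T F' g fst' snd' sqC
  have hF : AlgSp.IsAlgSpace F' :=
    Groth.Agent.S9874.isAlgSpace_of_isPullback Y.property.diag X.property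
      (AlgSp.IsAlgSpace.yon_obj T) sqC
  refine isDecent_of_local hF snd' (fun t₀ => ?_)
  -- the étale cover `W = T ×_Y V` of `T`
  obtain ⟨W, w₁, pr, sqW⟩ := hp.1 g
  obtain ⟨w₂, rfl⟩ := (AlgSp.yon S).map_surjective pr
  haveI : Etale w₁.left := hp.2 g _ w₁ sqW
  haveI : Surjective w₁.left := hps.2 g _ w₁ sqW
  obtain ⟨w₀, hw₀⟩ := w₁.left.surjective t₀
  -- affine opens
  have hch : ∃ (T' : T.left.Opens) (W'' : W.left.Opens), IsAffineOpen T' ∧ IsAffineOpen W'' ∧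
      w₀ ∈ W'' ∧ W'' ≤ w₁.left ⁻¹ᵁ T' := by
    obtain ⟨_, ⟨T', hT', rfl⟩, hmem, -⟩ := T.left.isBasis_affineOpens.exists_subset_of_mem_open
      (Set.mem_univ (w₁.left w₀)) isOpen_univ
    obtain ⟨_, ⟨W'', hW'', rfl⟩, hmemW, hWle⟩ :=
      W.left.isBasis_affineOpens.exists_subset_of_mem_open
        (show w₀ ∈ ((w₁.left ⁻¹ᵁ T' : W.left.Opens) : Set ↥W.left) from hmem) (w₁.left ⁻¹ᵁ T').2
    exact ⟨T', W'', hT', hW'', hmemW, hWle⟩
  obtain ⟨T', W'', hT', hW'', hmemW, hWle⟩ := hch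
  let To : T.left.Opens := ⟨w₁.left '' (W'' : Set ↥W.left), w₁.left.isOpenMap _ W''.2⟩
  have hToT' : (To : Set ↥T.left) ⊆ T' := by
    rintro _ ⟨w, hw, rfl⟩
    exact hWle hw
  have hle : W'' ≤ w₁.left ⁻¹ᵁ To := fun w hw => ⟨w, hw, rfl⟩
  refine ⟨To, ⟨w₀, hmemW, hw₀⟩, ?_⟩
  let Wj : Over S := Over.mk (W''.ι ≫ W.hom)
  let ιW : Wj ⟶ W := Over.homMk W''.ι rfl
  let ιT : Over.mk (To.ι ≫ T.hom) ⟶ T := Over.homMk To.ι rfl
  let d : Wj ⟶ Over.mk (To.ι ≫ T.hom) := Over.homMk (w₁.left.resLE To W'' hle) (by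
    show w₁.left.resLE To W'' hle ≫ To.ι ≫ T.hom = W''.ι ≫ W.hom
    rw [← Category.assoc, Scheme.Hom.resLE_comp_ι, Category.assoc, Over.w w₁])
  have hdd : d ≫ ιT = ιW ≫ w₁ := by
    ext
    exact Scheme.Hom.resLE_comp_ι _ _
  haveI : IsAffine Wj.left := hW''
  haveI : CompactSpace ↥Wj.left := inferInstance
  haveI : QuasiSeparatedSpace ↥(Over.mk (To.ι ≫ T.hom)).left :=
    (isQuasiSeparated_iff_quasiSeparatedSpace _ To.2).mp (hT'.isQuasiSeparated.of_subset hToT')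
  haveI : QuasiCompact d.left := inferInstance
  haveI : Etale d.left := by
    show Etale (w₁.left.resLE To W'' hle)
    delta Scheme.Hom.resLE
    infer_instance
  have hdsurj : Function.Surjective d.left := by
    rintro ⟨y, w, hw, rfl⟩
    refine ⟨(⟨w, hw⟩ : ↥W''), ?_⟩
    apply Subtype.ext
    have := congrArg (fun m => m.left (⟨w, hw⟩ : ↥W'')) hdd
    exact this
  -- the restrictions
  have sqB := IsPullback.of_hasPullback snd' ((AlgSp.yon S).map ιT)
  have hPalg : AlgSp.IsAlgSpace (pullback snd' ((AlgSp.yon S).map ιT)) :=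
    Groth.Agent.S9874.isAlgSpace_of_isPullback (AlgSp.IsAlgSpace.yon_obj T).diag hF
      (AlgSp.IsAlgSpace.yon_obj _) sqB
  have sqA := IsPullback.of_hasPullback (pullback.snd snd' ((AlgSp.yon S).map ιT))
    ((AlgSp.yon S).map d)
  have hP'alg : AlgSp.IsAlgSpace (pullback (pullback.snd snd' ((AlgSp.yon S).map ιT))
      ((AlgSp.yon S).map d)) :=
    Groth.Agent.S9874.isAlgSpace_of_isPullback (AlgSp.IsAlgSpace.yon_obj _).diag hPalg
      (AlgSp.IsAlgSpace.yon_obj _) sqA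
  -- `P'` is decent
  have hcompat : (AlgSp.yon S).map d ≫ (AlgSp.yon S).map ιT ≫ g =
      (AlgSp.yon S).map (ιW ≫ w₂) ≫ p := by
    rw [← Category.assoc, ← Functor.map_comp, hdd, Functor.map_comp, Functor.map_comp,
      Category.assoc, Category.assoc, sqW.w]
  have big := (sqA.paste_horiz sqB).paste_horiz sqC
  simp only [Category.assoc] at big
  rw [hcompat] at big
  obtain ⟨k, hk1, hk2⟩ : ∃ k, k ≫ fst = pullback.fst (pullback.snd snd' ((AlgSp.yon S).map ιT))
      ((AlgSp.yon S).map d) ≫ pullback.fst snd' ((AlgSp.yon S).map ιT) ≫ fst' ∧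
      k ≫ snd = pullback.snd (pullback.snd snd' ((AlgSp.yon S).map ιT))
      ((AlgSp.yon S).map d) ≫ (AlgSp.yon S).map (ιW ≫ w₂) :=
    ⟨hsq.lift _ _ big.w, hsq.lift_fst _ _ _, hsq.lift_snd _ _ _⟩
  have sqK : IsPullback k (pullback.snd (pullback.snd snd' ((AlgSp.yon S).map ιT))
      ((AlgSp.yon S).map d)) snd ((AlgSp.yon S).map (ιW ≫ w₂)) := by
    refine IsPullback.of_right ?_ hk2 hsq
    rw [hk1]
    exact big
  have hP'd : AlgSp.IsDecent (pullback (pullback.snd snd' ((AlgSp.yon S).map ιT))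
      ((AlgSp.yon S).map d)) := h _ _ _ sqK
  -- descend along `P' ⟶ P`
  have hq : AlgSp.IsQuasiCompactMor (pullback.fst (pullback.snd snd' ((AlgSp.yon S).map ιT))
      ((AlgSp.yon S).map d)) :=
    Groth.Agent.Lib.Helper15ImmQc.isQuasiCompactMor_of_isPullback sqA.flip
      (Groth.Agent.Lib.Helper15ImmQc.isQuasiCompactMor_yon_map d inferInstance)
  have he : AlgSp.IsEtaleMor (pullback.fst (pullback.snd snd' ((AlgSp.yon S).map ιT))
      ((AlgSp.yon S).map d)) :=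
    Groth.Agent.Lib.Helper12.EtSmST.isEtaleMor_baseChange (AlgSp.IsAlgSpace.yon_obj _)
      (AlgSp.IsAlgSpace.yon_obj _) hPalg sqA.flip ((AlgSp.isEtaleMor_yon_map_iff d).2 inferInstance)
  have hs : AlgSp.IsSurjectiveMor (pullback.fst (pullback.snd snd' ((AlgSp.yon S).map ιT))
      ((AlgSp.yon S).map d)) := by
    intro y
    obtain ⟨y₀, hy₀⟩ := (AlgSp.Points.schemeHomeo _).surjective
      (AlgSp.Points.map (pullback.snd snd' ((AlgSp.yon S).map ιT)) y)
    obtain ⟨w, hw⟩ := hdsurj y₀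
    have e : AlgSp.Points.map (pullback.snd snd' ((AlgSp.yon S).map ιT)) y =
        AlgSp.Points.map ((AlgSp.yon S).map d) (AlgSp.Points.schemeHomeo Wj w) := by
      rw [AlgSp.Points.map_yon_map_apply, hw, hy₀]
    obtain ⟨z, hz, -⟩ := Groth.Agent.S10175.exists_point_of_isPullback sqA y _ e
    exact ⟨z, hz⟩
  exact Groth.Agent.S10384.result
    (X := ⟨_, hP'alg⟩) (Y := ⟨_, hPalg⟩) (ObjectProperty.homMk (pullback.fst _ _)) hq he hs hP'd

end Groth.Agent.S10387
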