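import Groth.Statements.S10393
import Mathlib
import Groth.Agent.Lib.T2H7FinLocus
import Groth.Agent.Lib.T2H7FinLocusB
import Groth.Agent.Lib.T2H7KerPairGrpd
import Groth.Agent.Lib.T2H1IrrFlat2
import Groth.Agent.Lib.T2H1FieldSp
import Groth.Agent.Lib.Helper4GenFinite3
import Groth.Agent.Lib.Helper12OpenSub
import Groth.Agent.Lib.Helper12OpenSub2
import Groth.Agent.S2080
import Groth.Agent.S10175
import Groth.Agent.S10176
import Groth.Agent.S10177
import Groth.Agent.S10197
import Groth.Agent.S10265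
import Groth.Agent.S10509

set_option autoImplicit false
universe u
open CategoryTheory CategoryTheory.Limits AlgebraicGeometry Topology TopologicalSpace
open AlgSp

namespace Groth.Agent.S10393

/-- Let S be a scheme, Y a scheme over S whose underlying topological space is discrete (equivalently, Y
is a disjoint union of spectra of local rings of dimension zero), and X an algebraic space over S
with a monomorphism X ⟶ Y over S. Then X is a scheme. -/
theorem result {S : Scheme.{u}} (Y : Over S) [DiscreteTopology ↥Y.left]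
    (X : AlgSp.Space S) (f : X ⟶ (AlgSp.ofScheme S).obj Y) [Mono f.hom] : X.obj.obj.IsRepresentable := by
  classical
  let φ : X.obj ⟶ (AlgSp.yon S).obj Y := f.hom
  have hφmono : Mono φ := inferInstanceAs (Mono f.hom)
  -- injectivity on points
  have hinj : Function.Injective (AlgSp.Points.map φ) := by
    intro x₁ x₂ h
    have sqm : IsPullback (𝟙 X.obj) (𝟙 X.obj) φ φ := IsKernelPair.id_of_mono φ
    obtain ⟨p, hp1, hp2⟩ := Groth.Agent.S10175.exists_point_of_isPullback sqm x₁ x₂ h
    rw [AlgSp.Points.map_id] at hp1 hp2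
    exact hp1.symm.trans hp2
  obtain ⟨W, hWrep, hWmax⟩ := Groth.Agent.S10197.aux X
  have hall : ∀ x : AlgSp.Points X.obj, x ∈ (W : Set (AlgSp.Points X.obj)) := by
    intro x
    obtain ⟨W₀, a₀, he₀, hs₀⟩ := X.property.atlas
    obtain ⟨w₀, hw₀⟩ := Groth.Agent.S10177.surjective_ofPt a₀ hs₀ x
    obtain ⟨ψ₀, hψ₀⟩ := (AlgSp.yon S).map_surjective (a₀ ≫ φ)
    have hyo : IsOpen ({ψ₀.left w₀} : Set ↥Y.left) := isOpen_discrete _
    obtain ⟨_, ⟨A₀, hA, rfl⟩, hw₀A, hAsub⟩ :=
      W₀.left.isBasis_affineOpens.exists_subset_of_mem_open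
        (show w₀ ∈ ψ₀.left ⁻¹' {ψ₀.left w₀} from rfl) (hyo.preimage ψ₀.left.continuous)
    let A : W₀.left.Opens := A₀
    let U : Over S := Over.mk (A.ι ≫ W₀.hom)
    let ιA : U ⟶ W₀ := Over.homMk A.ι rfl
    have hUaff : IsAffine U.left := hA
    let p : (AlgSp.yon S).obj U ⟶ X.obj := (AlgSp.yon S).map ιA ≫ a₀
    have het : AlgSp.RepWith @Etale p :=
      (AlgSp.RepWith @Etale).comp_mem _ _
        ((AlgSp.repWith_yon_map_iff @Etale ιA).2 (inferInstanceAs (Etale A.ι))) he₀
    let ψ : U ⟶ Y := ιA ≫ ψ₀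
    have hψ : (AlgSp.yon S).map ψ = p ≫ φ := by
      rw [Functor.map_comp, hψ₀, Category.assoc]
    have hψconst : ∀ u : ↥U.left, ψ.left u = ψ₀.left w₀ := by
      intro u
      have h1 : A.ι u ∈ (A : Set ↥W₀.left) := u.2
      exact hAsub h1
    -- the kernel pair
    obtain ⟨R, s, t', sq⟩ := het.1 p
    obtain ⟨t, rfl⟩ := (AlgSp.yon S).map_surjective t'
    have hset : Etale s.left := het.2 p _ s sq
    have sq' : IsPullback ((AlgSp.yon S).map t) ((AlgSp.yon S).map s) ((AlgSp.yon S).map ψ)
        ((AlgSp.yon S).map ψ) := by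
      rw [hψ]
      refine ⟨⟨by rw [← Category.assoc, sq.w, Category.assoc]⟩,
        ⟨PullbackCone.IsLimit.mk _
          (fun c => sq.lift c.fst c.snd (by
            rw [← cancel_mono φ]
            have h0 := c.condition
            simp only [Category.assoc] at h0 ⊢
            exact h0))
          (fun c => sq.lift_fst _ _ _) (fun c => sq.lift_snd _ _ _)
          (fun c m h1 h2 => sq.hom_ext (by rw [h1, sq.lift_fst]) (by rw [h2, sq.lift_snd]))⟩⟩
    have : QuasiCompact ψ.left := quasiCompact_of_compactSpace _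
    have hsqc : QuasiCompact s.left :=
      ((AlgSp.repWith_yon_map_iff @QuasiCompact ψ).2 inferInstance).2 ((AlgSp.yon S).map ψ) _ s sq'
    have : LocallyQuasiFinite s.left := Groth.Agent.S10265.locallyQuasiFinite_of_unramified _
    have : IsSeparated s.left := by
      have hc : t.left ≫ U.hom = s.left ≫ U.hom := (Over.w t).trans (Over.w s).symm
      let m : R.left ⟶ pullback U.hom U.hom := pullback.lift t.left s.left hc
      have hm1 : m ≫ pullback.fst U.hom U.hom = t.left := pullback.lift_fst _ _ _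
      have hm2 : m ≫ pullback.snd U.hom U.hom = s.left := pullback.lift_snd _ _ _
      have : Mono m := ⟨fun α β h =>
        Groth.Agent.Lib.T2H7.KerPairGrpd.hom_ext_left sq α β
          (by rw [← hm1, ← Category.assoc, h, Category.assoc])
          (by rw [← hm2, ← Category.assoc, h, Category.assoc])⟩
      rw [← hm2]
      infer_instance
    -- all local rings of the chart have dimension zero
    have hdim : ∀ u : ↥U.left, ringKrullDim ↥(U.left.presheaf.stalk u) = 0 := by
      intro u
      obtain ⟨η, hη, -⟩ := Groth.Agent.Lib.T2H7.FinLocus.exists_generic_specializes u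
      have h0 := (Groth.Agent.Lib.T2H1.IrrFlat.ringKrullDim_stalk_eq_zero_iff η).2 hη
      have hpt : AlgSp.Points.ofPt p u = AlgSp.Points.ofPt p η := by
        apply hinj
        rw [AlgSp.Points.map_ofPt, AlgSp.Points.map_ofPt, ← hψ,
          ← Category.comp_id ((AlgSp.yon S).map ψ), Groth.Agent.S10509.ofPt_yon_map_comp,
          Groth.Agent.S10509.ofPt_yon_map_comp, hψconst, hψconst]
      rw [Groth.Agent.Lib.T2H1.FieldSp.dim_stalk_eq_of_ofPt_eq X p het u η hpt]
      exact h0
    -- the finite locus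
    let 𝒱 := {V : U.left.Opens // IsFinite (s.left ∣_ V)}
    let Wf : U.left.Opens := ⨆ V : 𝒱, V.1
    have hWfin : IsFinite (s.left ∣_ Wf) :=
      Groth.Agent.Lib.Helper4.GenFinite.isFinite_morphismRestrict_iSup s.left
        (fun V : 𝒱 => V.1) (fun V => V.2)
    have hgenW : ∀ η : ↥U.left, η ∈ Wf := by
      intro η
      have hη : closure ({η} : Set ↥U.left) ∈ irreducibleComponents ↥U.left :=
        (Groth.Agent.Lib.T2H1.IrrFlat.ringKrullDim_stalk_eq_zero_iff η).1 (hdim η)
      obtain ⟨V, -, hηV, hVfin⟩ := (Groth.Agent.S2080.result s.left η hη).1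
        (Scheme.Hom.finite_preimage_singleton s.left η)
      exact TopologicalSpace.Opens.mem_iSup.2 ⟨⟨V, hVfin⟩, hηV⟩
    have hrep := Groth.Agent.Lib.T2H7.FinLocusB.isRepresentable_image_of_finite p het sq Wf hWfin
    have hNopen : IsOpen (AlgSp.Points.ofPt p '' (Wf : Set ↥U.left)) :=
      Groth.Agent.S10176.isOpenMap_ofPt p het _ Wf.2
    have hle := hWmax ⟨_, hNopen⟩ hrep
    apply hle
    refine ⟨⟨w₀, hw₀A⟩, hgenW _, ?_⟩
    exact (Groth.Agent.S10509.ofPt_yon_map_comp ιA a₀ _).trans hw₀
  have hid : AlgSp.RepWith @IsOpenImmersion (𝟙 X.obj) := (AlgSp.RepWith @IsOpenImmersion).id_mem _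
  have hrange : Set.range (AlgSp.Points.map
      (Groth.Agent.Lib.Helper12.OpenSub.incl X.obj (W : Set (AlgSp.Points X.obj)))) =
      Set.range (AlgSp.Points.map (𝟙 X.obj)) := by
    rw [Groth.Agent.Lib.Helper12.OpenSub.range_map_incl]
    ext x
    constructor
    · intro _
      exact ⟨x, AlgSp.Points.map_id x⟩
    · intro _
      exact hall x
  obtain ⟨e, -⟩ := Groth.Agent.Lib.Helper12.OpenSub.iso_of_range_eq
    (Groth.Agent.Lib.Helper12.OpenSub.incl X.obj (W : Set (AlgSp.Points X.obj)))
    (Groth.Agent.Lib.Helper12.OpenSub.repWith_incl W.2) (𝟙 X.obj) hid hrange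
  obtain ⟨U, ⟨r⟩⟩ := hWrep
  exact ⟨U, ⟨AlgSp.representableByOfIso (AlgSp.isoOfRepresentableBy r ≪≫ e)⟩⟩

end Groth.Agent.S10393
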