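import Groth.Statements.S10395
import Mathlib
import Groth.Agent.S10394
import Groth.Agent.S10352
import Groth.Agent.S10177
import Groth.Agent.Lib.T2H1HasAt1
import Groth.Agent.Lib.T2H1StalkDim

set_option autoImplicit false
universe u
open CategoryTheory CategoryTheory.Limits AlgebraicGeometry Topology TopologicalSpace
open AlgSp

namespace Groth.Agent.S10395

/-- (1) ⇔ (2) ⇔ (3): let S be a scheme, X a decent algebraic space over S, and (Y, y) ⟶ (X, x) an etale
morphism of pointed algebraic spaces. Then the point y is a generic point of some irreducible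
component of |Y| if and only if the point x is a generic point of some irreducible component of |X|. -/
theorem result {S : Scheme.{u}} {X Y : AlgSp.Space S}
    (hX : AlgSp.IsDecent X.obj) (f : Y ⟶ X) (hf : AlgSp.IsEtaleMor f.hom) (y : AlgSp.Points Y.obj) :
    (∃ T ∈ irreducibleComponents (AlgSp.Points Y.obj), IsGenericPoint y T) ↔
      (∃ T ∈ irreducibleComponents (AlgSp.Points X.obj), IsGenericPoint (AlgSp.Points.map f.hom y) T) := by
  have hY : AlgSp.IsDecent Y.obj := Groth.Agent.S10352.result f hf hX
  rw [Groth.Agent.S10394.result Y hY y, Groth.Agent.S10394.result X hX (AlgSp.Points.map f.hom y)]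
  constructor
  · rintro ⟨V, a, v, hae, hav, hdim⟩
    exact ⟨V, a ≫ f.hom, v, hf a hae, by rw [← AlgSp.Points.map_ofPt, hav], hdim⟩
  · intro hx
    obtain ⟨V, a, hae, has⟩ := Y.property.atlas
    obtain ⟨v, hv⟩ := Groth.Agent.S10177.surjective_ofPt a has y
    refine ⟨V, a, v, hae, hv, ?_⟩
    exact Groth.Agent.Lib.T2H1.HasAt.of_hasAt
      (Groth.Agent.Lib.T2H1.HasAt.etInv1_stalkDim (fun s => s = 0)) _ hx (a ≫ f.hom) (hf a hae) v
      (by rw [← AlgSp.Points.map_ofPt, hv])

end Groth.Agent.S10395
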