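import Groth.Statements.S10397
import Mathlib
import Groth.Agent.Lib.T2H7DecentFinComp
import Groth.Agent.S10337
import Groth.Agent.S10362

set_option autoImplicit false
universe u
open CategoryTheory CategoryTheory.Limits AlgebraicGeometry Topology TopologicalSpace
open AlgSp

namespace Groth.Agent.S10397

/-- (1) ⇔ (3): an algebraic space X over a scheme S is decent with |X| having finitely many irreducible
components if and only if X has a dense open subscheme X' with finitely many irreducible components
whose generic points x'_j give quasi-compact morphisms Spec κ(x'_j) ⟶ X. -/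
theorem result {S : Scheme.{u}} (X : AlgSp.Space S) :
    (AlgSp.IsDecent X.obj ∧ (irreducibleComponents (AlgSp.Points X.obj)).Finite) ↔
      ∃ (X' : Over S) (j : (AlgSp.yon S).obj X' ⟶ X.obj), AlgSp.RepWith @IsOpenImmersion j ∧
        Dense (Set.range (AlgSp.Points.ofPt j)) ∧ (irreducibleComponents ↥X'.left).Finite ∧
        ∀ x' : ↥X'.left, (∃ T ∈ irreducibleComponents ↥X'.left, IsGenericPoint x' T) →
          AlgSp.RepWith @QuasiCompact (AlgSp.FieldPt.ofPt j x').toHom := by
  constructor
  · rintro ⟨hX, hfinX⟩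
    obtain ⟨X'₀, j₀, hj₀, hrep, hdense⟩ := Groth.Agent.S10337.result X hX
    obtain ⟨Y, ⟨r⟩⟩ := hrep.has_representation
    let e : (AlgSp.yon S).obj Y ≅ X'₀.obj := AlgSp.isoOfRepresentableBy r
    let k : (AlgSp.yon S).obj Y ⟶ X.obj := e.hom ≫ j₀.hom
    have hk : AlgSp.RepWith @IsOpenImmersion k :=
      (MorphismProperty.cancel_left_of_respectsIso (AlgSp.RepWith @IsOpenImmersion) e.hom _).2 hj₀
    have hkOE : IsOpenEmbedding (AlgSp.Points.map k) :=
      IsOpenEmbedding.of_continuous_injective_isOpenMap (AlgSp.Points.continuous_map k)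
        (Groth.Agent.Lib.Helper12.LargestOpen.injective_map_of_open k hk)
        (Groth.Agent.Lib.Helper12.OpenSub.isOpenMap_map_of_open k hk)
    have hkrange : Set.range (AlgSp.Points.map k) = Set.range (AlgSp.Points.map j₀.hom) := by
      apply le_antisymm
      · rintro _ ⟨y, rfl⟩
        exact ⟨AlgSp.Points.map e.hom y, (AlgSp.Points.map_comp _ _ y).symm⟩
      · rintro _ ⟨y, rfl⟩
        refine ⟨AlgSp.Points.map e.inv y, ?_⟩
        rw [← AlgSp.Points.map_comp]
        change AlgSp.Points.map (e.inv ≫ e.hom ≫ j₀.hom) y = _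
        rw [Iso.inv_hom_id_assoc]
    have hfun : AlgSp.Points.ofPt k = AlgSp.Points.map k ∘ AlgSp.Points.schemeHomeo Y := by
      funext y
      exact AlgSp.Points.ofPt_eq_map_ofScheme k y
    have hOE : IsOpenEmbedding (AlgSp.Points.ofPt k) := by
      rw [hfun]
      exact hkOE.comp (AlgSp.Points.schemeHomeo Y).isOpenEmbedding
    refine ⟨Y, k, hk, ?_, ?_, ?_⟩
    · rw [hfun, Set.range_comp, (AlgSp.Points.schemeHomeo Y).surjective.range_eq, Set.image_univ,
        hkrange]
      exact hdense
    · exact Groth.Agent.Lib.T2H7.IrrCompFin.finite_of_isOpenEmbedding hOE hfinX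
    · intro x' _
      obtain ⟨p, hp, hm, hq⟩ := hX (AlgSp.Points.ofPt k x')
      exact Groth.Agent.S10362.result X p (AlgSp.FieldPt.ofPt k x') hm hq hp.symm
  · rintro ⟨X', j, hj, hdense, hfin, hqc⟩
    exact ⟨Groth.Agent.Lib.T2H7.DecentFinComp.isDecent X j hj hdense hfin hqc,
      Groth.Agent.Lib.T2H7.DecentFinComp.finite_irreducibleComponents X j hdense hfin⟩

end Groth.Agent.S10397
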