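import Groth.Statements.S10482
import Groth.Agent.S10347
import Groth.Agent.Lib.Helper3GrpHomQF

set_option autoImplicit false
universe u
open CategoryTheory CategoryTheory.Limits AlgebraicGeometry Topology TopologicalSpace
open AlgSp

namespace Groth.Agent.S10482


lemma localDim_le_topologicalKrullDim (T : Type*) [TopologicalSpace T] (x : T) :
    FlatMor.localDim T x ≤ topologicalKrullDim T := by
  unfold FlatMor.localDim
  exact (iInf_le _ ⟨⊤, trivial⟩).trans (topologicalKrullDim_subspace_le T _)

lemma fibreDimAt_le_topologicalKrullDim {U V : Scheme.{u}} (h : U ⟶ V) (x : U) :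
    FlatMor.fibreDimAt h x ≤ topologicalKrullDim U := by
  unfold FlatMor.fibreDimAt
  exact (localDim_le_topologicalKrullDim _ _).trans
    (h.fiberι (h.base x)).isEmbedding.isInducing.topologicalKrullDim_le

lemma topologicalKrullDim_spec_field (k : Type u) [Field k] :
    topologicalKrullDim ↥(Spec (CommRingCat.of k)) = 0 := by
  show topologicalKrullDim (PrimeSpectrum k) = 0
  rw [PrimeSpectrum.topologicalKrullDim_eq_ringKrullDim, ringKrullDim_eq_zero_of_field]

/-- (1) ⇔ (2): let k be a field and X an algebraic space over k. Then X is locally quasi-finite over k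
if and only if X is locally of finite type over k of dimension at most 0. (The published statement
says dimension 0; dimension at most 0 is used so that the empty space, whose dimension is the bottom
element, is covered by both sides.) -/
theorem result (k : Type u) [Field k] (X : AlgSp.Space (Spec (CommRingCat.of k))) (p : X.obj ⟶ (AlgSp.yon (Spec (CommRingCat.of k))).obj (Over.mk (𝟙 _))) :
    AlgSp.LocP (@LocallyQuasiFinite ⊓ @LocallyOfFiniteType : MorphismProperty Scheme.{u}) p ↔ AlgSp.LocP @LocallyOfFiniteType p ∧ AlgSp.dim X.obj ≤ 0 := by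
  constructor
  · intro hp
    refine ⟨fun U V a b h ha hb hc => (hp a b h ha hb hc).2, ?_⟩
    unfold AlgSp.dim
    refine iSup_le fun U => iSup_le fun a => iSup_le fun ha => ?_
    obtain ⟨h, hh⟩ := (AlgSp.yon (Spec (CommRingCat.of k))).map_surjective (a ≫ p)
    haveI : LocallyQuasiFinite h.left :=
      (hp a (𝟙 _) h ha (AlgSp.repWith_id _ _) (by rw [hh, Category.comp_id])).1
    refine (Groth.Agent.S10347.topologicalKrullDim_le_of_lqf h.left).trans ?_
    exact (topologicalKrullDim_spec_field k).le
  · rintro ⟨hlft, hdim⟩ U V a b h ha hb hc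
    haveI : LocallyOfFiniteType h.left := hlft a b h ha hb hc
    refine ⟨?_, inferInstance⟩
    have hU : topologicalKrullDim ↥U.left ≤ 0 := by
      refine le_trans ?_ hdim
      unfold AlgSp.dim
      exact le_iSup_of_le U (le_iSup_of_le a (le_iSup_of_le ha le_rfl))
    rw [Groth.Agent.Lib.Helper3.GrpHomQF.locallyQuasiFinite_iff_forall_fibreDimAt_le_zero]
    intro u
    exact (fibreDimAt_le_topologicalKrullDim h.left u).trans hU

end Groth.Agent.S10482
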