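import Groth.Statements.S10399
import Groth.Agent.S10455
import Groth.Agent.S10482
import Groth.Agent.Lib.T2H1IntegralSp
import Groth.Agent.Lib.Helper4DimFormulaAJ
import Groth.Agent.Lib.Helper4DimFormulaY
import Groth.Agent.Lib.Helper4DimFormulaAA
import Groth.Agent.Lib.Helper4FibDimL
import Groth.Agent.Lib.Helper6EquiSubC
import Groth.Agent.Lib.Helper12LocPNbhd

set_option autoImplicit false
universe u
open CategoryTheory CategoryTheory.Limits AlgebraicGeometry Topology TopologicalSpace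
open AlgSp

namespace Groth.Agent.S10399

open Groth.Agent.Lib.Helper4.DimFormula in
/-- if all points of the fibre through `u` have zero-dimensional local rings on the source, the
fibre has dimension zero at `u`. -/
lemma fibreDimAt_le_zero_of_fibre_codimZero {U V : Scheme.{u}} (k : U ⟶ V) (u : U)
    (H : ∀ u' : U, k u' = k u → ringKrullDim ↥(U.presheaf.stalk u') = 0) :
    FlatMor.fibreDimAt k u ≤ 0 := by
  unfold FlatMor.fibreDimAt
  refine (Groth.Agent.S10482.localDim_le_topologicalKrullDim _ _).trans ?_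
  rw [Groth.Agent.Lib.Helper4.FibDim.topologicalKrullDim_eq_iSup_ringKrullDim_stalk]
  refine iSup_le fun z => ?_
  rw [ringKrullDim_stalk_fiber_eq_fibStalkDim]
  refine (fibStalkDim_le k _).trans (le_of_eq (H _ ?_))
  have : k.fiberι (k u) z ∈ Set.range (k.fiberι (k u)) := ⟨z, rfl⟩
  rw [k.range_fiberι] at this
  exact this

open Groth.Agent.Lib.Helper4.DimFormula in
/-- a point where the fibre has dimension zero, over a codimension `0` point, has codimension `0`. -/
lemma dim_zero_of_fibreDimAt_le_zero {U V : Scheme.{u}} (k : U ⟶ V) [LocallyOfFiniteType k] (u : U)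
    (hv : ringKrullDim ↥(V.presheaf.stalk (k u)) = 0) (hfd : FlatMor.fibreDimAt k u ≤ 0) :
    ringKrullDim ↥(U.presheaf.stalk u) = 0 := by
  refine Groth.Agent.S10455.dim_zero_of_maximal U u (fun u' hu' => ?_)
  by_contra hne
  have hk : k u' = k u :=
    Groth.Agent.Lib.T2H1.IntegralSp.eq_of_specializes_of_dim_zero V (k u) (k u') hv
      (hu'.map k.continuous)
  have h1 := Groth.Agent.Lib.Helper6.EquiSub.ptTrdeg_lt_of_specializes k u' u hk hu' hne
  have h2 : FlatMor.fibreDimAt k u' ≤ 0 := (fibreDimAt_le_of_specializes k u' u hu').trans hfd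
  have h3 : ((ptTrdeg k u' : ℕ) : WithBot ℕ∞) ≤ ((0 : ℕ) : WithBot ℕ∞) :=
    (ptTrdeg_le_fibreDimAt k u').trans h2
  have h4 : ptTrdeg k u' ≤ 0 := by exact_mod_cast h3
  omega

open Groth.Agent.Lib.Helper4.DimFormula in
/-- if the fibre has dimension zero at the codimension `0` points of the source lying over a
codimension `0` point `v`, then all points over `v` have codimension `0`. -/
lemma dim_zero_of_forall_codimZero {U V : Scheme.{u}} (k : U ⟶ V) [LocallyOfFiniteType k] (u : U)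
    (hv : ringKrullDim ↥(V.presheaf.stalk (k u)) = 0)
    (H : ∀ η : U, k η = k u → ringKrullDim ↥(U.presheaf.stalk η) = 0 → FlatMor.fibreDimAt k η ≤ 0) :
    ringKrullDim ↥(U.presheaf.stalk u) = 0 := by
  obtain ⟨η, hηu, hηmax⟩ := exists_maximal_specializes U u
  have hk : k η = k u :=
    Groth.Agent.Lib.T2H1.IntegralSp.eq_of_specializes_of_dim_zero V (k u) (k η) hv
      (hηu.map k.continuous)
  have hη0 := Groth.Agent.S10455.dim_zero_of_maximal U η hηmax
  have h2 := H η hk hη0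
  have h3 : ((ptTrdeg k η : ℕ) : WithBot ℕ∞) ≤ ((0 : ℕ) : WithBot ℕ∞) :=
    (ptTrdeg_le_fibreDimAt k η).trans h2
  have h4 : ptTrdeg k η ≤ 0 := by exact_mod_cast h3
  by_cases hne : η = u
  · rw [← hne]; exact hη0
  · exfalso
    have h1 := Groth.Agent.Lib.Helper6.EquiSub.ptTrdeg_lt_of_specializes k η u hk hηu hne
    omega

/-- reading "quasi-finite at a point" on a given chart diagram. -/
lemma fibreDimAt_le_zero_of_hasAtMor {S : Scheme.{u}} {X Y : AlgSp.Space S} (f : X ⟶ Y)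
    (hf : AlgSp.LocP @LocallyOfFiniteType f.hom) (x : AlgSp.Points X.obj)
    (H : AlgSp.HasAtMor (fun U _ h u => ∃ W : U.Opens, u ∈ W ∧ LocallyQuasiFinite (W.ι ≫ h) ∧
      LocallyOfFiniteType (W.ι ≫ h)) f.hom x)
    {U V : Over S} (a : (AlgSp.yon S).obj U ⟶ X.obj) (b : (AlgSp.yon S).obj V ⟶ Y.obj) (k : U ⟶ V)
    (ha : AlgSp.RepWith @Etale a) (hb : AlgSp.RepWith @Etale b)
    (hab : a ≫ f.hom = (AlgSp.yon S).map k ≫ b) (u : ↥U.left) (hu : AlgSp.Points.ofPt a u = x) :
    FlatMor.fibreDimAt k.left u ≤ 0 := by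
  obtain ⟨U₁, V₁, a₁, b₁, h₁, u₁, ha₁, hb₁, hab₁, hu₁, hQ₁⟩ := H
  haveI : LocallyOfFiniteType h₁.left := hf a₁ b₁ h₁ ha₁ hb₁ hab₁
  have h0 : FlatMor.fibreDimAt h₁.left u₁ ≤ 0 := (Groth.Agent.S10455.qf_pred_iff h₁.left u₁).1 hQ₁
  exact Groth.Agent.Lib.T2H1.HasAt.of_hasAtMor
    (Groth.Agent.Lib.T2H1.HasAt.etInv_fibreDim (fun s => s ≤ 0)) f.hom _
    ⟨U₁, V₁, a₁, b₁, h₁, u₁, ha₁, hb₁, hab₁, hu₁, h0⟩ a b k ha hb hab u hu

/-- Let f : X ⟶ Y be a morphism locally of finite type of algebraic spaces over a scheme S and y a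
codimension 0 point of Y. The following are equivalent: (1) every point of |X| over y has
codimension 0 on X; (2) f is quasi-finite at all points over y; (3) f is quasi-finite at all
codimension 0 points of X over y. Stated as (1) ⇔ (2) together with (3) ⇒ (1). -/
theorem result {S : Scheme.{u}} {X Y : AlgSp.Space S} (f : X ⟶ Y)
    (hf : AlgSp.LocP @LocallyOfFiniteType f.hom) (y : AlgSp.Points Y.obj) (hy : AlgSp.HasAt (fun U u => ringKrullDim ↥(U.presheaf.stalk u) = 0) Y.obj y) :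
    ((∀ x : AlgSp.Points X.obj, AlgSp.Points.map f.hom x = y → AlgSp.HasAt (fun U u => ringKrullDim ↥(U.presheaf.stalk u) = 0) X.obj x) ↔
        (∀ x : AlgSp.Points X.obj, AlgSp.Points.map f.hom x = y → AlgSp.HasAtMor (fun U _ h u => ∃ W : U.Opens, u ∈ W ∧ LocallyQuasiFinite (W.ι ≫ h) ∧ LocallyOfFiniteType (W.ι ≫ h)) f.hom x)) ∧
      ((∀ x : AlgSp.Points X.obj, AlgSp.Points.map f.hom x = y → AlgSp.HasAt (fun U u => ringKrullDim ↥(U.presheaf.stalk u) = 0) X.obj x → AlgSp.HasAtMor (fun U _ h u => ∃ W : U.Opens, u ∈ W ∧ LocallyQuasiFinite (W.ι ≫ h) ∧ LocallyOfFiniteType (W.ι ≫ h)) f.hom x) →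
        ∀ x : AlgSp.Points X.obj, AlgSp.Points.map f.hom x = y → AlgSp.HasAt (fun U u => ringKrullDim ↥(U.presheaf.stalk u) = 0) X.obj x) := by
  have hstalk := Groth.Agent.Lib.T2H1.HasAt.etInv1_stalkDim (fun s => s = 0)
  -- a chart diagram through a point over `y`, with the facts common to all three implications
  have chart : ∀ x : AlgSp.Points X.obj, AlgSp.Points.map f.hom x = y →
      ∃ (U V : Over S) (a : (AlgSp.yon S).obj U ⟶ X.obj) (b : (AlgSp.yon S).obj V ⟶ Y.obj)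
        (k : U ⟶ V) (u : ↥U.left), AlgSp.RepWith @Etale a ∧ AlgSp.RepWith @Etale b ∧
        a ≫ f.hom = (AlgSp.yon S).map k ≫ b ∧ AlgSp.Points.ofPt a u = x ∧
        LocallyOfFiniteType k.left ∧ ringKrullDim ↥(V.left.presheaf.stalk (k.left u)) = 0 ∧
        ∀ u' : ↥U.left, k.left u' = k.left u →
          AlgSp.Points.map f.hom (AlgSp.Points.ofPt a u') = y := by
    intro x hx
    obtain ⟨U, V, a, b, k, u, ha, hb, hab, hu⟩ :=
      Groth.Agent.Lib.Helper12.LocPNbhd.exists_chart X.property Y.property f.hom x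
    have hbu : AlgSp.Points.ofPt b (k.left u) = y := by
      rw [← hx, ← hu, AlgSp.Points.map_ofPt, hab, Groth.Agent.S10176.ofPt_map_comp]
    refine ⟨U, V, a, b, k, u, ha, hb, hab, hu, hf a b k ha hb hab, ?_, fun u' hu' => ?_⟩
    · exact Groth.Agent.Lib.T2H1.HasAt.of_hasAt hstalk y hy b hb (k.left u) hbu
    · rw [AlgSp.Points.map_ofPt, hab, Groth.Agent.S10176.ofPt_map_comp, hu', hbu]
  refine ⟨⟨fun H1 x hx => ?_, fun H2 x hx => ?_⟩, fun H3 x hx => ?_⟩
  · obtain ⟨U, V, a, b, k, u, ha, hb, hab, hu, hk, hv, hfib⟩ := chart x hx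
    haveI := hk
    refine ⟨U, V, a, b, k, u, ha, hb, hab, hu, ?_⟩
    refine (Groth.Agent.S10455.qf_pred_iff k.left u).2
      (fibreDimAt_le_zero_of_fibre_codimZero k.left u (fun u' hu' => ?_))
    exact Groth.Agent.Lib.T2H1.HasAt.of_hasAt hstalk _ (H1 _ (hfib u' hu')) a ha u' rfl
  · obtain ⟨U, V, a, b, k, u, ha, hb, hab, hu, hk, hv, hfib⟩ := chart x hx
    haveI := hk
    have h0 := fibreDimAt_le_zero_of_hasAtMor f hf x (H2 x hx) a b k ha hb hab u hu
    exact ⟨U, a, u, ha, hu, dim_zero_of_fibreDimAt_le_zero k.left u hv h0⟩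
  · obtain ⟨U, V, a, b, k, u, ha, hb, hab, hu, hk, hv, hfib⟩ := chart x hx
    haveI := hk
    refine ⟨U, a, u, ha, hu, dim_zero_of_forall_codimZero k.left u hv (fun η hη hη0 => ?_)⟩
    exact fibreDimAt_le_zero_of_hasAtMor f hf _
      (H3 _ (hfib η hη) ⟨U, a, η, ha, rfl, hη0⟩) a b k ha hb hab η rfl

end Groth.Agent.S10399
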