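import Groth.Statements.S10400
import Mathlib
import Groth.Agent.Lib.T2H7GenFinH
import Groth.Agent.Lib.T2H7GenFinI
import Groth.Agent.Lib.T2H7GenFinJ
import Groth.Agent.Lib.T2H1HasAt
import Groth.Agent.Lib.T2H1HasAt1
import Groth.Agent.Lib.T2H1StalkDim
import Groth.Agent.Lib.Helper12OpenSub
import Groth.Agent.Lib.Helper12OpenSub2
import Groth.Agent.Lib.Helper12LargestOpen
import Groth.Agent.Lib.Helper12Proper
import Groth.Agent.S9874
import Groth.Agent.S10176
import Groth.Agent.S10336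
import Groth.Agent.S10509

set_option autoImplicit false
universe u
open CategoryTheory CategoryTheory.Limits AlgebraicGeometry Topology TopologicalSpace
open AlgSp

namespace Groth.Agent.S10400

/-- Let f : X ⟶ Y be a morphism locally of finite type of algebraic spaces over a scheme S with Y
decent. Assume the codimension 0 points of X and of Y form finite sets, that a point of X has
codimension 0 exactly when its image does, and that f is quasi-compact or separated. Then there is a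
dense open subspace V ⊆ Y with f⁻¹(V) ⟶ V finite. -/
theorem result {S : Scheme.{u}} {X Y : AlgSp.Space S} (f : X ⟶ Y)
    (hf : AlgSp.LocP @LocallyOfFiniteType f.hom) (hY : AlgSp.IsDecent Y.obj)
    (hX0 : {x : AlgSp.Points X.obj | AlgSp.HasAt (fun U u => ringKrullDim ↥(U.presheaf.stalk u) = 0) X.obj x}.Finite)
    (hY0 : {y : AlgSp.Points Y.obj | AlgSp.HasAt (fun U u => ringKrullDim ↥(U.presheaf.stalk u) = 0) Y.obj y}.Finite)
    (hpre : ∀ x : AlgSp.Points X.obj, AlgSp.HasAt (fun U u => ringKrullDim ↥(U.presheaf.stalk u) = 0) X.obj x ↔ AlgSp.HasAt (fun U u => ringKrullDim ↥(U.presheaf.stalk u) = 0) Y.obj (AlgSp.Points.map f.hom x))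
    (hqs : AlgSp.IsQuasiCompactMor f.hom ∨ AlgSp.IsSeparatedMor f.hom) :
    ∃ (V X' : AlgSp.Space S) (j : V ⟶ Y) (fst : X' ⟶ V) (snd : X' ⟶ X), AlgSp.RepWith @IsOpenImmersion j.hom ∧
      Dense (Set.range (AlgSp.Points.map j.hom)) ∧ IsPullback fst.hom snd.hom j.hom f.hom ∧
      AlgSp.IsFiniteMor fst.hom := by
  classical
  -- the local statement around a point of codimension `0`
  have key : ∀ y : AlgSp.Points Y.obj,
      AlgSp.HasAt (fun U u => ringKrullDim ↥(U.presheaf.stalk u) = 0) Y.obj y →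
      ∃ N : Set (AlgSp.Points Y.obj), IsOpen N ∧ y ∈ N ∧
        AlgSp.IsFiniteMor (pullback.snd f.hom (Groth.Agent.Lib.Helper12.OpenSub.incl Y.obj N)) := by
    intro y hy
    obtain ⟨V, b, v, hVaff, hb, hbv, hbuniq⟩ :=
      Groth.Agent.Lib.T2H7.GenFinJ.exists_affine_open_chart_unique hY hY0 y hy
    have : IsAffine V.left := hVaff
    have hbe : AlgSp.RepWith @Etale b :=
      Groth.Agent.Lib.Helper12.OpenSub.repWith_mono
        (fun _ _ g hg => by have : IsOpenImmersion g := hg; infer_instance) hb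
    have hv0 : ringKrullDim ↥(V.left.presheaf.stalk v) = 0 :=
      Groth.Agent.Lib.T2H1.HasAt.of_hasAt
        (Groth.Agent.Lib.T2H1.HasAt.etInv1_stalkDim (fun s => s = 0)) y hy b hbe v hbv
    have huniq : ∀ v' : ↥V.left, ringKrullDim ↥(V.left.presheaf.stalk v') = 0 → v' = v :=
      fun v' hv' => hbuniq v' ⟨V, b, v', hbe, rfl, hv'⟩
    -- the base change to the chart
    let X₁ : AlgSp.Sp S := pullback f.hom b
    let p₁ : X₁ ⟶ X.obj := pullback.fst f.hom b
    let g : X₁ ⟶ (AlgSp.yon S).obj V := pullback.snd f.hom b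
    have sq₁ : IsPullback p₁ g f.hom b := IsPullback.of_hasPullback _ _
    have hX₁ : AlgSp.IsAlgSpace X₁ :=
      Groth.Agent.S9874.isAlgSpace_of_isPullback Y.property.diag X.property
        (AlgSp.IsAlgSpace.yon_obj V) sq₁
    have hglft : AlgSp.LocP @LocallyOfFiniteType g :=
      Groth.Agent.Lib.Helper12.Proper.locP_lft_baseChange X.property Y.property
        (AlgSp.IsAlgSpace.yon_obj V) sq₁ hf
    have hp₁ : AlgSp.RepWith @IsOpenImmersion p₁ := MorphismProperty.of_isPullback sq₁.flip hb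
    have hp₁e : AlgSp.RepWith @Etale p₁ := MorphismProperty.of_isPullback sq₁.flip hbe
    have H : ∀ {W : Over S} (c : (AlgSp.yon S).obj W ⟶ X₁) (h : W ⟶ V), AlgSp.RepWith @Etale c →
        c ≫ g = (AlgSp.yon S).map h → ∀ w : ↥W.left,
          (ringKrullDim ↥(W.left.presheaf.stalk w) = 0 ↔ h.left w = v) := by
      intro W c h hce hcg w
      have hcomm : (c ≫ p₁) ≫ f.hom = (AlgSp.yon S).map h ≫ b := by
        rw [Category.assoc, sq₁.w, ← Category.assoc, hcg]
      have hcpe : AlgSp.RepWith @Etale (c ≫ p₁) := (AlgSp.RepWith @Etale).comp_mem _ _ hce hp₁e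
      have hfx : AlgSp.Points.map f.hom (AlgSp.Points.ofPt (c ≫ p₁) w) =
          AlgSp.Points.ofPt b (h.left w) := by
        rw [AlgSp.Points.map_ofPt, hcomm, Groth.Agent.S10509.ofPt_yon_map_comp]
      constructor
      · intro hd
        have hx : AlgSp.HasAt (fun U u => ringKrullDim ↥(U.presheaf.stalk u) = 0) X.obj
            (AlgSp.Points.ofPt (c ≫ p₁) w) := ⟨W, c ≫ p₁, w, hcpe, rfl, hd⟩
        have h1 := (hpre _).1 hx
        rw [hfx] at h1
        exact hbuniq _ h1
      · intro hw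
        have hx : AlgSp.HasAt (fun U u => ringKrullDim ↥(U.presheaf.stalk u) = 0) X.obj
            (AlgSp.Points.ofPt (c ≫ p₁) w) := (hpre _).2 (by rw [hfx, hw, hbv]; exact hy)
        exact Groth.Agent.Lib.T2H1.HasAt.of_hasAt
          (Groth.Agent.Lib.T2H1.HasAt.etInv1_stalkDim (fun s => s = 0)) _ hx (c ≫ p₁) hcpe w rfl
    have hV' : ∃ V' : V.left.Opens, IsAffineOpen V' ∧ v ∈ V' ∧
        ∀ (P' : AlgSp.Sp S) (q₁ : P' ⟶ X₁)
          (q₂ : P' ⟶ (AlgSp.yon S).obj (Over.mk (V'.ι ≫ V.hom))),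
          IsPullback q₁ q₂ g
            ((AlgSp.yon S).map (Over.homMk V'.ι rfl : Over.mk (V'.ι ≫ V.hom) ⟶ V)) →
          AlgSp.IsFiniteMor q₂ := by
      rcases hqs with hqc | hsep
      · have hX₁qc : AlgSp.IsQuasiCompactSp X₁ :=
          hqc (AlgSp.IsAlgSpace.yon_obj V)
            ⟨V, 𝟙 _, AlgSp.repWith_id _ V, AlgSp.repWith_id _ V, inferInstance⟩ b p₁ g sq₁
        exact Groth.Agent.Lib.T2H7.GenFinH.exists_open_isFiniteMor_of_generic hX₁ g hglft hX₁qc v
          hv0 huniq H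
      · have hgsep : AlgSp.IsSeparatedMor g :=
          Groth.Agent.Lib.Helper12.Proper.isSeparatedMor_baseChange sq₁ hsep
        have hfib : (AlgSp.Points.map g ⁻¹'
            {AlgSp.Points.ofPt (𝟙 ((AlgSp.yon S).obj V)) v}).Finite := by
          have hinj : Function.Injective (AlgSp.Points.map p₁) :=
            Groth.Agent.Lib.Helper12.LargestOpen.injective_map_of_open p₁ hp₁
          refine Set.Finite.of_finite_image (f := AlgSp.Points.map p₁) ?_ hinj.injOn
          refine hX0.subset ?_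
          rintro _ ⟨x₁, hx₁, rfl⟩
          have hx₁' : AlgSp.Points.map g x₁ = AlgSp.Points.ofPt (𝟙 ((AlgSp.yon S).obj V)) v := hx₁
          have e1 : AlgSp.Points.map f.hom (AlgSp.Points.map p₁ x₁) = y := by
            rw [← AlgSp.Points.map_comp, sq₁.w, AlgSp.Points.map_comp, hx₁',
              AlgSp.Points.map_ofPt, Category.id_comp, hbv]
          exact (hpre _).2 (by rw [e1]; exact hy)
        exact Groth.Agent.Lib.T2H7.GenFinI.exists_open_isFiniteMor_of_generic_sep hX₁ g hglft hgsep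
          v hv0 huniq H hfib
    obtain ⟨V', hV'aff, hvV', hfin⟩ := hV'
    let VO : Over S := Over.mk (V'.ι ≫ V.hom)
    let ιV : VO ⟶ V := Over.homMk V'.ι rfl
    let b' : (AlgSp.yon S).obj VO ⟶ Y.obj := (AlgSp.yon S).map ιV ≫ b
    have hb'e : AlgSp.RepWith @Etale b' :=
      (AlgSp.RepWith @Etale).comp_mem _ _
        ((AlgSp.repWith_yon_map_iff @Etale ιV).2 (inferInstanceAs (Etale V'.ι))) hbe
    let X₂ : AlgSp.Sp S := pullback g ((AlgSp.yon S).map ιV)
    let p₁' : X₂ ⟶ X₁ := pullback.fst g ((AlgSp.yon S).map ιV)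
    let p₂ : X₂ ⟶ (AlgSp.yon S).obj VO := pullback.snd g ((AlgSp.yon S).map ιV)
    have sq₂ : IsPullback p₁' p₂ g ((AlgSp.yon S).map ιV) := IsPullback.of_hasPullback _ _
    have hp₂fin : AlgSp.IsFiniteMor p₂ := hfin X₂ p₁' p₂ sq₂
    have big : IsPullback (p₁' ≫ p₁) p₂ f.hom b' := sq₂.paste_horiz sq₁
    refine ⟨Set.range (AlgSp.Points.ofPt b'),
      (Groth.Agent.S10176.isOpenMap_ofPt b' hb'e).isOpen_range, ?_,
      Groth.Agent.Lib.T2H7.GenFinI.isFiniteMor_snd_incl_of_chart f b' hb'e (p₁' ≫ p₁) p₂ big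
        hp₂fin⟩
    refine ⟨⟨v, hvV'⟩, ?_⟩
    have e := Groth.Agent.S10509.ofPt_yon_map_comp ιV b (⟨v, hvV'⟩ : ↥VO.left)
    exact e.trans hbv
  choose! Nf hNo hyN hNfin using key
  obtain ⟨n, e, he⟩ := hY0.fin_embedding
  have hemem : ∀ k : Fin n,
      AlgSp.HasAt (fun U u => ringKrullDim ↥(U.presheaf.stalk u) = 0) Y.obj (e k) := by
    intro k
    have h1 : e k ∈ Set.range e := ⟨k, rfl⟩
    rw [he] at h1
    exact h1
  let Ni : ULift.{u} (Fin n) → Set (AlgSp.Points Y.obj) := fun i => Nf (e i.down)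
  have hNio : ∀ i, IsOpen (Ni i) := fun i => hNo _ (hemem i.down)
  let N : Set (AlgSp.Points Y.obj) := ⋃ i, Ni i
  have hNopen : IsOpen N := isOpen_iUnion hNio
  let j₀ : Groth.Agent.Lib.Helper12.OpenSub.obj Y.obj N ⟶ Y.obj :=
    Groth.Agent.Lib.Helper12.OpenSub.incl Y.obj N
  have hj₀ : AlgSp.RepWith @IsOpenImmersion j₀ :=
    Groth.Agent.Lib.Helper12.OpenSub.repWith_incl hNopen
  have hV : AlgSp.IsAlgSpace (Groth.Agent.Lib.Helper12.OpenSub.obj Y.obj N) :=
    Groth.Agent.Lib.Helper12.OpenSub.isAlgSpace_obj Y.property hNopen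
  have sqX' : IsPullback (pullback.fst f.hom j₀) (pullback.snd f.hom j₀) f.hom j₀ :=
    IsPullback.of_hasPullback _ _
  have hX' : AlgSp.IsAlgSpace (pullback f.hom j₀) :=
    Groth.Agent.S9874.isAlgSpace_of_isPullback Y.property.diag X.property hV sqX'
  let V : AlgSp.Space S := ⟨Groth.Agent.Lib.Helper12.OpenSub.obj Y.obj N, hV⟩
  let X' : AlgSp.Space S := ⟨pullback f.hom j₀, hX'⟩
  let j : V ⟶ Y := ObjectProperty.homMk j₀
  let fst : X' ⟶ V := ObjectProperty.homMk (pullback.snd f.hom j₀)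
  let snd : X' ⟶ X := ObjectProperty.homMk (pullback.fst f.hom j₀)
  refine ⟨V, X', j, fst, snd, hj₀, ?_, sqX'.flip, ?_⟩
  · change Dense (Set.range (AlgSp.Points.map j₀))
    rw [Groth.Agent.Lib.Helper12.OpenSub.range_map_incl]
    refine (Groth.Agent.Lib.T2H7.GenFinJ.dense_codimZero Y.property).mono ?_
    intro y hy
    have h1 : y ∈ Set.range e := by rw [he]; exact hy
    obtain ⟨k, rfl⟩ := h1
    exact Set.mem_iUnion.2 ⟨⟨k⟩, hyN _ (hemem k)⟩
  · have hinjj₀ : Function.Injective (AlgSp.Points.map j₀) :=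
      Groth.Agent.Lib.Helper12.LargestOpen.injective_map_of_open j₀ hj₀
    let Yi : ULift.{u} (Fin n) → AlgSp.Space S := fun i =>
      ⟨Groth.Agent.Lib.Helper12.OpenSub.obj Y.obj (Ni i),
        Groth.Agent.Lib.Helper12.OpenSub.isAlgSpace_obj Y.property (hNio i)⟩
    have hfac : ∀ i, ∃ k' : Groth.Agent.Lib.Helper12.OpenSub.obj Y.obj (Ni i) ⟶
        Groth.Agent.Lib.Helper12.OpenSub.obj Y.obj N,
        k' ≫ j₀ = Groth.Agent.Lib.Helper12.OpenSub.incl Y.obj (Ni i) ∧
          AlgSp.RepWith @IsOpenImmersion k' := fun i =>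
      Groth.Agent.Lib.Helper12.LargestOpen.factor_open j₀ hj₀
        (Groth.Agent.Lib.Helper12.OpenSub.incl Y.obj (Ni i))
        (Groth.Agent.Lib.Helper12.OpenSub.repWith_incl (hNio i)) (by
          rw [Groth.Agent.Lib.Helper12.OpenSub.range_map_incl,
            Groth.Agent.Lib.Helper12.OpenSub.range_map_incl]
          exact Set.subset_iUnion Ni i)
    choose ji hji hjiOI using hfac
    let jS : ∀ i, Yi i ⟶ V := fun i => ObjectProperty.homMk (ji i)
    have hcov : AlgSp.IsZarCover (fun i => (Yi i).obj) (fun i => (jS i).hom) := by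
      refine ⟨fun i => hjiOI i, fun x => ?_⟩
      have hx : AlgSp.Points.map j₀ x ∈ N := by
        have h1 : AlgSp.Points.map j₀ x ∈ Set.range (AlgSp.Points.map j₀) := ⟨x, rfl⟩
        rwa [Groth.Agent.Lib.Helper12.OpenSub.range_map_incl] at h1
      obtain ⟨i, hi⟩ := Set.mem_iUnion.1 hx
      have h2 : AlgSp.Points.map j₀ x ∈ Set.range
          (AlgSp.Points.map (Groth.Agent.Lib.Helper12.OpenSub.incl Y.obj (Ni i))) := by
        rw [Groth.Agent.Lib.Helper12.OpenSub.range_map_incl]; exact hi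
      obtain ⟨xi, hxi⟩ := h2
      refine ⟨i, xi, ?_⟩
      apply hinjj₀
      show AlgSp.Points.map j₀ (AlgSp.Points.map (ji i) xi) = _
      rw [← AlgSp.Points.map_comp, hji i]
      exact hxi
    let Xi : ULift.{u} (Fin n) → AlgSp.Sp S := fun i =>
      pullback f.hom (Groth.Agent.Lib.Helper12.OpenSub.incl Y.obj (Ni i))
    let q : ∀ i, Xi i ⟶ (Yi i).obj := fun i =>
      pullback.snd f.hom (Groth.Agent.Lib.Helper12.OpenSub.incl Y.obj (Ni i))
    let p : ∀ i, Xi i ⟶ X'.obj := fun i =>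
      pullback.lift (pullback.fst f.hom (Groth.Agent.Lib.Helper12.OpenSub.incl Y.obj (Ni i)))
        (q i ≫ ji i) (by rw [pullback.condition, Category.assoc, hji i])
    have sq : ∀ i, IsPullback (p i) (q i) fst.hom (jS i).hom := by
      intro i
      have hp1 : p i ≫ pullback.fst f.hom j₀ =
          pullback.fst f.hom (Groth.Agent.Lib.Helper12.OpenSub.incl Y.obj (Ni i)) :=
        pullback.lift_fst _ _ _
      have hp2 : p i ≫ pullback.snd f.hom j₀ = q i ≫ ji i := pullback.lift_snd _ _ _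
      show IsPullback (p i) (q i) (pullback.snd f.hom j₀) (ji i)
      refine IsPullback.of_right ?_ hp2 sqX'
      rw [hp1, hji i]
      exact IsPullback.of_hasPullback _ _
    exact (Groth.Agent.S10336.result fst Yi jS hcov Xi p q sq).2.1
      (fun i => hNfin _ (hemem i.down))

end Groth.Agent.S10400
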