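import Groth.Statements.S10402
import Groth.Agent.Lib.T2H1JacobsonDesc

set_option autoImplicit false
universe u
open CategoryTheory CategoryTheory.Limits AlgebraicGeometry Topology TopologicalSpace
open AlgSp

namespace Groth.Agent.S10402

/-- Let S be a scheme and X a Jacobson algebraic space over S. Fix a finite type point x of |X|, and let
g : W ⟶ X be locally of finite type, where W is a scheme. If x lies in the image of |W| → |X|, then
some closed point of W is mapped to x. -/
theorem result {S : Scheme.{u}} (X : AlgSp.Space S) (hX : AlgSp.EtaleLocally (fun U => JacobsonSpace ↥U) X.obj)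
    (x : AlgSp.Points X.obj) (hx : AlgSp.HasAt (fun U u => IsClosed ({u} : Set ↥U)) X.obj x) {W : Over S} (g : (AlgSp.yon S).obj W ⟶ X.obj)
    (hg : AlgSp.LocP @LocallyOfFiniteType g) (hxW : x ∈ Set.range (AlgSp.Points.ofPt g)) :
    ∃ w : ↥W.left, IsClosed ({w} : Set ↥W.left) ∧ AlgSp.Points.ofPt g w = x := by
  obtain ⟨U, a, u, hae, hau, huc⟩ := hx
  obtain ⟨w₀, hw₀⟩ := hxW
  obtain ⟨P, q, pr, sq⟩ := X.property.representable_from_yon a g
  obtain ⟨h, rfl⟩ := (AlgSp.yon S).map_surjective pr
  haveI : Etale q.left := hae.2 g _ q sq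
  haveI : LocallyOfFiniteType h.left :=
    hg ((AlgSp.yon S).map q) a h ((AlgSp.repWith_yon_map_iff @Etale q).2 inferInstance) hae
      sq.w.symm
  haveI : JacobsonSpace ↥W.left :=
    Groth.Agent.Lib.T2H1.JacobsonDesc.jacobsonSpace_of_locP_lft X.property hX g hg
  obtain ⟨p₀, hp₀u, -⟩ := Groth.Agent.S10176.exists_point_of_isPullback_yon sq u w₀
    (hau.trans hw₀.symm)
  -- a closed point of the fibre over `u`
  have hmem : p₀ ∈ Set.range (h.left.fiberι u) := by
    rw [Scheme.Hom.range_fiberι]
    exact hp₀u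
  obtain ⟨a₀, -⟩ := hmem
  obtain ⟨a₁, -, ha₁⟩ := (jacobsonSpace_iff_locallyClosed.mp
    (inferInstance : JacobsonSpace ↥(h.left.fiber u))) Set.univ ⟨a₀, trivial⟩
    isClosed_univ.isLocallyClosed
  have ha₁c : IsClosed ({a₁} : Set ↥(h.left.fiber u)) := ha₁
  have hrange : IsClosed (Set.range (h.left.fiberι u)) := by
    rw [Scheme.Hom.range_fiberι]
    exact huc.preimage h.left.continuous
  have hce : Topology.IsClosedEmbedding (h.left.fiberι u) :=
    ⟨(h.left.fiberι u).isEmbedding, hrange⟩
  have hp₁c : IsClosed ({(h.left.fiberι u) a₁} : Set ↥P.left) := by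
    have := hce.isClosedMap _ ha₁c
    rwa [Set.image_singleton] at this
  have hp₁u : h.left ((h.left.fiberι u) a₁) = u := by
    have : (h.left.fiberι u) a₁ ∈ Set.range (h.left.fiberι u) := ⟨a₁, rfl⟩
    rw [Scheme.Hom.range_fiberι] at this
    exact this
  refine ⟨q.left ((h.left.fiberι u) a₁), ?_, ?_⟩
  · exact q.left.closePoints_subset_preimage_closedPoints hp₁c
  · rw [← Groth.Agent.S10176.ofPt_map_comp, ← sq.w, Groth.Agent.S10176.ofPt_map_comp, hp₁u]
    exact hau

end Groth.Agent.S10402
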