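import Groth.Statements.S10403
import Groth.Agent.Lib.T2H1JacobsonDesc
import Groth.Agent.Lib.Helper12FTPoint2
import Groth.Agent.Lib.T2H1FieldQuotC
import Groth.Agent.Lib.T2H1FieldQuotJ
import Groth.Agent.Lib.T2H1FieldQuotL

set_option autoImplicit false
universe u
open CategoryTheory CategoryTheory.Limits AlgebraicGeometry Topology TopologicalSpace
open AlgSp

namespace Groth.Agent.S10403

/-- For a decent Jacobson algebraic space X over a scheme S, the finite type points of |X| are exactly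
the closed points. -/
theorem result {S : Scheme.{u}} (X : AlgSp.Space S) (hd : AlgSp.IsDecent X.obj)
    (hX : AlgSp.EtaleLocally (fun U => JacobsonSpace ↥U) X.obj) (x : AlgSp.Points X.obj) :
    AlgSp.HasAt (fun U u => IsClosed ({u} : Set ↥U)) X.obj x ↔ IsClosed ({x} : Set (AlgSp.Points X.obj)) := by
  constructor
  · rintro ⟨U, a, u, hae, hau, huc⟩
    -- `x` is a finite type point
    obtain ⟨k, _, str, ξ, hξ, hξx⟩ :=
      Groth.Agent.Lib.Helper12.FTPoint.isFT_of_isClosed X.property a hae u huc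
    rw [hau] at hξx
    obtain ⟨U₀, p₀, hp₀e, hp₀s, hJ⟩ := hX
    haveI : JacobsonSpace ↥U₀.left := hJ
    rw [← (Groth.Agent.S10177.isQuotientMap_ofPt p₀ hp₀e hp₀s).isClosed_preimage]
    -- the fibre product `Spec k ×_X U₀`
    let p : AlgSp.FieldPt X.obj := Groth.Agent.Lib.T2H1.FieldQuot.fieldPtOfHom k str ξ
    have hp : p.toHom = ξ := Groth.Agent.Lib.T2H1.FieldQuot.fieldPtOfHom_toHom k str ξ
    have hpx : AlgSp.Points.mk p = x := by
      rw [← AlgSp.Points.ofPt_toHom p (IsLocalRing.closedPoint k), hp]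
      exact hξx
    obtain ⟨E, τ, pr, sqE⟩ := X.property.representable_from_yon p.toHom p₀
    obtain ⟨c, rfl⟩ := (AlgSp.yon S).map_surjective pr
    have hfib : AlgSp.Points.ofPt p₀ ⁻¹' {x} = Set.range τ.left := by
      rw [← hpx]
      exact Groth.Agent.Lib.T2H1.FieldQuot.fibre_eq_range p p₀ c τ sqE
    haveI : Etale c.left := hp₀e.2 _ _ c sqE.flip
    haveI : LocallyQuasiFinite c.left := Groth.Agent.S10555.lqf_of_etale c.left
    haveI : IsLocallyArtinian p.pt.left :=
      Scheme.isLocallyArtinianScheme_Spec.mpr (inferInstance : IsArtinianRing p.K)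
    haveI : IsLocallyArtinian E.left := IsLocallyArtinian.of_locallyQuasiFinite c.left
    haveI : LocallyOfFiniteType τ.left :=
      hξ ((AlgSp.yon S).map c) p₀ τ ((AlgSp.repWith_yon_map_iff @Etale c).2 inferInstance) hp₀e
        (by rw [← hp]; exact sqE.w)
    have hpt : ∀ u' ∈ AlgSp.Points.ofPt p₀ ⁻¹' {x}, IsClosed ({u'} : Set ↥U₀.left) := by
      intro u' hu'
      rw [hfib] at hu'
      obtain ⟨e, rfl⟩ := hu'
      exact τ.left.closePoints_subset_preimage_closedPoints
        (show IsClosed ({e} : Set ↥E.left) from isClosed_discrete _)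
    -- closedness is local on `U₀`
    have hcov : TopologicalSpace.IsOpenCover
        (fun V : U₀.left.affineOpens => (V : U₀.left.Opens)) := iSup_affineOpens_eq_top _
    rw [hcov.isClosed_iff_coe_preimage]
    intro V
    let Vo : Over S := Over.mk (V.1.ι ≫ U₀.hom)
    let ιV : Vo ⟶ U₀ := Over.homMk V.1.ι rfl
    haveI : IsAffine Vo.left := V.2
    have hfin : (AlgSp.Points.ofPt ((AlgSp.yon S).map ιV ≫ p₀) ⁻¹' {x}).Finite :=
      Groth.Agent.Lib.T2H1.FieldQuot.finite_fibre_of_decent X.property hd _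
        ((AlgSp.RepWith @Etale).comp_mem _ _
          ((AlgSp.repWith_yon_map_iff @Etale ιV).2 (inferInstance : Etale V.1.ι)) hp₀e) x
    show IsClosed (V.1.ι ⁻¹' (AlgSp.Points.ofPt p₀ ⁻¹' {x}) : Set ↥Vo.left)
    have heq : (V.1.ι ⁻¹' (AlgSp.Points.ofPt p₀ ⁻¹' {x}) : Set ↥Vo.left) =
        AlgSp.Points.ofPt ((AlgSp.yon S).map ιV ≫ p₀) ⁻¹' {x} := by
      ext v
      simp only [Set.mem_preimage, Set.mem_singleton_iff]
      rw [Groth.Agent.S10176.ofPt_map_comp]
      rfl
    rw [heq]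
    have hun : AlgSp.Points.ofPt ((AlgSp.yon S).map ιV ≫ p₀) ⁻¹' {x} =
        ⋃ v ∈ AlgSp.Points.ofPt ((AlgSp.yon S).map ιV ≫ p₀) ⁻¹' {x}, ({v} : Set ↥Vo.left) :=
      (Set.biUnion_of_singleton _).symm
    rw [hun]
    refine hfin.isClosed_biUnion (fun v hv => ?_)
    have hv' : V.1.ι v ∈ AlgSp.Points.ofPt p₀ ⁻¹' {x} := by
      have : v ∈ (V.1.ι ⁻¹' (AlgSp.Points.ofPt p₀ ⁻¹' {x}) : Set ↥Vo.left) := by
        rw [heq]; exact hv
      exact this
    have hc := (hpt _ hv').preimage V.1.ι.continuous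
    have hs : (V.1.ι ⁻¹' {V.1.ι v} : Set ↥Vo.left) = {v} := by
      ext v'
      simp only [Set.mem_preimage, Set.mem_singleton_iff]
      exact V.1.ι.isOpenEmbedding.injective.eq_iff
    rwa [hs] at hc
  · intro hc
    obtain ⟨x', hx', hft⟩ := Groth.Agent.Lib.Helper12.FTPoint.exists_isFT_mem X.property {x}
      hc.isLocallyClosed ⟨x, rfl⟩
    rw [Set.mem_singleton_iff] at hx'
    subst hx'
    obtain ⟨U, φ, u, hφ, hu, hux⟩ :=
      Groth.Agent.Lib.Helper12.FTPoint.exists_isClosed_of_isFT X.property _ hft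
    exact ⟨U, φ, u, hφ, hux, hu⟩

end Groth.Agent.S10403
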