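import Groth.Statements.S10404
import Groth.Agent.Lib.T2H1DecentSpec
import Groth.Agent.S10403

set_option autoImplicit false
universe u
open CategoryTheory CategoryTheory.Limits AlgebraicGeometry Topology TopologicalSpace
open AlgSp

namespace Groth.Agent.S10404

/-- A decent algebraic space X over a scheme S is Jacobson if and only if the topological space |X| is
Jacobson. -/
theorem result {S : Scheme.{u}} (X : AlgSp.Space S) (hd : AlgSp.IsDecent X.obj) :
    AlgSp.EtaleLocally (fun U => JacobsonSpace ↥U) X.obj ↔ JacobsonSpace (AlgSp.Points X.obj) := by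
  constructor
  · intro hX
    obtain ⟨U₀, p₀, hp₀e, hp₀s, hJ⟩ := id hX
    haveI : JacobsonSpace ↥U₀.left := hJ
    rw [jacobsonSpace_iff_locallyClosed]
    intro Z hZne hZ
    have hc : Continuous (AlgSp.Points.ofPt p₀) := AlgSp.Points.continuous_ofPt p₀
    obtain ⟨z, hz⟩ := hZne
    obtain ⟨u₀, rfl⟩ := Groth.Agent.S10177.surjective_ofPt p₀ hp₀s z
    obtain ⟨u, huZ, huc⟩ := nonempty_inter_closedPoints
      (⟨u₀, hz⟩ : (AlgSp.Points.ofPt p₀ ⁻¹' Z).Nonempty) (hZ.preimage hc)
    refine ⟨AlgSp.Points.ofPt p₀ u, huZ, ?_⟩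
    exact (Groth.Agent.S10403.result X hd hX _).1 ⟨U₀, p₀, u, hp₀e, rfl, huc⟩
  · intro hJ
    obtain ⟨U, p, hpe, hps⟩ := X.property.atlas
    refine ⟨U, p, hpe, hps, ?_⟩
    have hcov : TopologicalSpace.IsOpenCover
        (fun V : U.left.affineOpens => (V : U.left.Opens)) := iSup_affineOpens_eq_top _
    show JacobsonSpace ↥U.left
    rw [hcov.jacobsonSpace_iff]
    intro V
    let Vo : Over S := Over.mk (V.1.ι ≫ U.hom)
    let ιV : Vo ⟶ U := Over.homMk V.1.ι rfl
    haveI : IsAffine Vo.left := V.2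
    exact Groth.Agent.Lib.T2H1.DecentSpec.jacobsonSpace_chart X.property hd hJ
      ((AlgSp.yon S).map ιV ≫ p)
      ((AlgSp.RepWith @Etale).comp_mem _ _
        ((AlgSp.repWith_yon_map_iff @Etale ιV).2 (inferInstance : Etale V.1.ι)) hpe)

end Groth.Agent.S10404
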