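import Groth.Statements.S10409
import Groth.Agent.Lib.T2H1FieldQuotC
import Groth.Agent.S9937

set_option autoImplicit false
universe u
open CategoryTheory CategoryTheory.Limits AlgebraicGeometry Topology TopologicalSpace
open AlgSp

namespace Groth.Agent.S10409

/-- (3) ⇔ (4): for an algebraic space X over a scheme S and x ∈ |X|, there is a monomorphism Spec k ⟶ X
representing x if and only if there is a morphism Spec k' ⟶ X representing x whose
self-fibre-product has etale and quasi-compact projections to Spec k'. -/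
theorem result {S : Scheme.{u}} (X : AlgSp.Space S)
    (x : AlgSp.Points X.obj) :
    (∃ p : AlgSp.FieldPt X.obj, AlgSp.Points.mk p = x ∧ Mono p.toHom) ↔
      ∃ q : AlgSp.FieldPt X.obj, AlgSp.Points.mk q = x ∧
        ∀ (P : AlgSp.Sp S) (fst snd : P ⟶ (AlgSp.yon S).obj q.pt), IsPullback fst snd q.toHom q.toHom →
          AlgSp.RepWith @Etale fst ∧ AlgSp.RepWith @QuasiCompact fst := by
  constructor
  · rintro ⟨p, hp, hm⟩
    refine ⟨p, hp, fun P fst snd hsq => ?_⟩
    haveI := hm
    haveI : IsIso fst := IsKernelPair.isIso_of_mono hsq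
    exact ⟨Groth.Agent.S9937.repWith_of_isIso _ fst, Groth.Agent.S9937.repWith_of_isIso _ fst⟩
  · rintro ⟨q, hq, H⟩
    obtain ⟨he, hqc⟩ := H _ _ _ (IsPullback.of_hasPullback q.toHom q.toHom)
    obtain ⟨C, hC, str', c₀, p, h1, h2, -⟩ :=
      Groth.Agent.Lib.T2H1.FieldQuot.exists_mono_of_etale_quasiCompact q _ _
        (IsPullback.of_hasPullback q.toHom q.toHom) he hqc
    refine ⟨Groth.Agent.Lib.T2H1.FieldQuot.fieldPtOfHom C str' p, ?_, ?_⟩
    · rw [Groth.Agent.Lib.T2H1.FieldQuot.mk_fieldPtOfHom_eq q.K C q.str str' c₀ q.toHom p h1,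
        Groth.Agent.Lib.T2H1.FieldQuot.fieldPtOfHom_toHom_self, hq]
    · rw [Groth.Agent.Lib.T2H1.FieldQuot.fieldPtOfHom_toHom]
      exact h2

end Groth.Agent.S10409
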