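import Groth.Statements.S10410
import Groth.Agent.Lib.T2H1FieldQuotJ

set_option autoImplicit false
universe u
open CategoryTheory CategoryTheory.Limits AlgebraicGeometry Topology TopologicalSpace
open AlgSp

namespace Groth.Agent.S10410


open Groth.Agent.Lib.T2H1.FieldQuot

/-- Let X be an algebraic space over a scheme S, x ∈ |X|, and φ : U ⟶ X etale with U a scheme. Then x
lies in the image of |U| and the fibres of |U| → |X| and |U ×_X U| → |X| over x are finite, if and
only if x is represented by a monomorphism Spec k ⟶ X such that Spec k ×_X U is a nonempty scheme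
finite over k. -/
theorem result {S : Scheme.{u}} (X : AlgSp.Space S) (x : AlgSp.Points X.obj)
    {U : Over S} (φ : (AlgSp.yon S).obj U ⟶ X.obj) (hφ : AlgSp.RepWith @Etale φ) :
    (x ∈ Set.range (AlgSp.Points.ofPt φ) ∧ (AlgSp.Points.ofPt φ ⁻¹' {x}).Finite ∧
        ∀ (R : Over S) (s t : R ⟶ U), IsPullback ((AlgSp.yon S).map t) ((AlgSp.yon S).map s) φ φ →
          (AlgSp.Points.ofPt ((AlgSp.yon S).map t ≫ φ) ⁻¹' {x}).Finite) ↔
      ∃ p : AlgSp.FieldPt X.obj, AlgSp.Points.mk p = x ∧ Mono p.toHom ∧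
        ∀ (T : Over S) (c : T ⟶ p.pt) (snd : (AlgSp.yon S).obj T ⟶ (AlgSp.yon S).obj U),
          IsPullback ((AlgSp.yon S).map c) snd p.toHom φ → Nonempty ↥T.left ∧ IsFinite c.left := by
  constructor
  · rintro ⟨⟨u, hu⟩, hfinU, hfinR⟩
    obtain ⟨R, s, pr, sq⟩ := X.property.representable_from_yon φ φ
    obtain ⟨t, rfl⟩ := (AlgSp.yon S).map_surjective pr
    have hfin : {r : ↥R.left | s.left r = u ∧ t.left r = u}.Finite := by
      refine (hfinR R s t sq).subset ?_
      rintro r ⟨-, hr⟩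
      show AlgSp.Points.ofPt ((AlgSp.yon S).map t ≫ φ) r = x
      rw [Groth.Agent.S10176.ofPt_map_comp, hr, hu]
    obtain ⟨p, hp, hpm⟩ := exists_mono_of_finite_fibre X.property φ hφ u u rfl s t sq hfin
    haveI := hpm
    have hpx : AlgSp.Points.mk p = x := hp.trans hu
    refine ⟨p, hpx, hpm, fun T c snd hsq => ?_⟩
    obtain ⟨τ, rfl⟩ := (AlgSp.yon S).map_surjective snd
    subst hpx
    constructor
    · have hmem : u ∈ AlgSp.Points.ofPt φ ⁻¹' {AlgSp.Points.mk p} := hu
      rw [fibre_eq_range p φ c τ hsq] at hmem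
      obtain ⟨y, -⟩ := hmem
      exact ⟨y⟩
    · exact isFinite_of_finite_fibre p φ hφ c τ hsq hfinU
  · rintro ⟨p, rfl, hpm, h⟩
    obtain ⟨T, τ, pr, sq⟩ := X.property.representable_from_yon p.toHom φ
    obtain ⟨c, rfl⟩ := (AlgSp.yon S).map_surjective pr
    obtain ⟨hne, hfin⟩ := h T c _ sq
    haveI := hfin
    haveI : Subsingleton ↥p.pt.left := inferInstanceAs (Subsingleton (PrimeSpectrum p.K))
    haveI : Finite ↥T.left := finite_of_isFinite_of_subsingleton c.left
    refine ⟨?_, ?_, fun R s t hR => ?_⟩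
    · obtain ⟨y⟩ := hne
      have hmem : τ.left y ∈ AlgSp.Points.ofPt φ ⁻¹' {AlgSp.Points.mk p} := by
        rw [fibre_eq_range p φ c τ sq]
        exact ⟨y, rfl⟩
      exact ⟨τ.left y, hmem⟩
    · rw [fibre_eq_range p φ c τ sq]
      exact Set.finite_range _
    · exact finite_fibre_R X.property p φ c τ sq s t hR

end Groth.Agent.S10410
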