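import Groth.Statements.S10411
import Mathlib
import Groth.Agent.Lib.T2H7KerPairGrpdB
import Groth.Agent.Lib.T2H7SpOpenBC
import Groth.Agent.Lib.Helper20SymProd
import Groth.Agent.Lib.Helper12OpenSub2
import Groth.Agent.S10194
import Groth.Agent.S10175
import Groth.Agent.S10176
import Groth.Agent.S9922

set_option autoImplicit false
universe u
open CategoryTheory CategoryTheory.Limits AlgebraicGeometry Topology TopologicalSpace
open AlgSp

namespace Groth.Agent.S10411

/-- Let S be a scheme, X and Y algebraic spaces over S, X ⟶ Y a surjective finite locally free morphism,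
and y ∈ |Y|. Then y lies in the schematic locus of Y (some open subspace of Y containing y is a
scheme) if and only if there is an affine open subscheme U ⊆ X containing the preimage of y. -/
theorem result {S : Scheme.{u}} {X Y : AlgSp.Space S} (f : X ⟶ Y)
    (hf : AlgSp.IsFinLocFreeMor f.hom) (hs : AlgSp.RepWith @Surjective f.hom) (y : AlgSp.Points Y.obj) :
    (∃ (Y' : AlgSp.Space S) (j : Y' ⟶ Y), AlgSp.RepWith @IsOpenImmersion j.hom ∧ Y'.obj.obj.IsRepresentable ∧
        y ∈ Set.range (AlgSp.Points.map j.hom)) ↔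
      ∃ (U : Over S) (a : (AlgSp.yon S).obj U ⟶ X.obj), IsAffine U.left ∧ AlgSp.RepWith @IsOpenImmersion a ∧
        AlgSp.Points.map f.hom ⁻¹' {y} ⊆ Set.range (AlgSp.Points.ofPt a) := by
  classical
  have hfin : AlgSp.RepWith @IsFinite f.hom :=
    ⟨hf.1, fun _ _ g fst snd sq => (hf.2 g fst snd sq).1⟩
  have hflat : AlgSp.RepWith @Flat f.hom :=
    ⟨hf.1, fun _ _ g fst snd sq => (hf.2 g fst snd sq).2.1⟩
  have hlfp : AlgSp.RepWith @LocallyOfFinitePresentation f.hom :=
    ⟨hf.1, fun _ _ g fst snd sq => (hf.2 g fst snd sq).2.2⟩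
  constructor
  · -- a scheme neighbourhood gives an affine open containing the fibre
    rintro ⟨Y', j, hj, hrep, y', rfl⟩
    obtain ⟨T, ⟨r⟩⟩ := hrep.has_representation
    let e : (AlgSp.yon S).obj T ≅ Y'.obj := AlgSp.isoOfRepresentableBy r
    let t₀ : ↥T.left := AlgSp.Points.toScheme T (AlgSp.Points.map e.inv y')
    have ht₀ : AlgSp.Points.map e.hom (AlgSp.Points.ofScheme T t₀) = y' := by
      change AlgSp.Points.map e.hom (AlgSp.Points.ofScheme T (AlgSp.Points.toScheme T _)) = y'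
      rw [AlgSp.Points.ofScheme_toScheme, ← AlgSp.Points.map_comp, e.inv_hom_id,
        AlgSp.Points.map_id]
    obtain ⟨T₀, hT₀, ht₀T₀, -⟩ :=
      exists_isAffineOpen_mem_and_subset (x := t₀) (U := (⊤ : T.left.Opens)) trivial
    let T₀' : Over S := Over.mk (T₀.ι ≫ T.hom)
    let ι₀ : T₀' ⟶ T := Over.homMk T₀.ι rfl
    obtain ⟨t₀', ht₀'⟩ : ∃ t₀' : ↥T₀'.left, T₀.ι t₀' = t₀ := by
      have h2 : t₀ ∈ Set.range T₀.ι := by rw [T₀.range_ι]; exact ht₀T₀
      exact h2
    let b : (AlgSp.yon S).obj T₀' ⟶ Y.obj := (AlgSp.yon S).map ι₀ ≫ e.hom ≫ j.hom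
    have hb : AlgSp.RepWith @IsOpenImmersion b :=
      (AlgSp.RepWith @IsOpenImmersion).comp_mem _ _
        ((AlgSp.repWith_yon_map_iff @IsOpenImmersion ι₀).2 (inferInstance : IsOpenImmersion T₀.ι))
        ((MorphismProperty.cancel_left_of_respectsIso (AlgSp.RepWith @IsOpenImmersion)
          e.hom j.hom).2 hj)
    obtain ⟨V, snd, fst, sq⟩ := hf.1 b
    have hsnd : IsFinite snd.left := (hf.2 b fst snd sq).1
    have : IsAffine T₀'.left := hT₀
    have hVaff : IsAffine V.left := isAffine_of_isAffineHom snd.left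
    have hfst : AlgSp.RepWith @IsOpenImmersion fst :=
      MorphismProperty.of_isPullback (P := AlgSp.RepWith @IsOpenImmersion) sq.flip hb
    refine ⟨V, fst, hVaff, hfst, ?_⟩
    intro x hx
    have hx' : AlgSp.Points.map f.hom x = AlgSp.Points.map j.hom y' := hx
    have hbt : AlgSp.Points.map b (AlgSp.Points.ofScheme T₀' t₀') = AlgSp.Points.map j.hom y' := by
      rw [← AlgSp.Points.ofPt_eq_map_ofScheme, Groth.Agent.S10176.ofPt_map_comp,
        AlgSp.Points.ofPt_eq_map_ofScheme, AlgSp.Points.map_comp]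
      change AlgSp.Points.map j.hom (AlgSp.Points.map e.hom (AlgSp.Points.ofScheme T (T₀.ι t₀'))) = _
      rw [ht₀', ht₀]
    obtain ⟨p, hp1, -⟩ := Groth.Agent.S10175.exists_point_of_isPullback sq x
      (AlgSp.Points.ofScheme T₀' t₀') (hx'.trans hbt.symm)
    obtain ⟨v, rfl⟩ := (AlgSp.Points.schemeHomeo V).surjective p
    refine ⟨v, ?_⟩
    rw [AlgSp.Points.ofPt_eq_map_ofScheme]
    exact hp1
  · -- an affine open containing the fibre gives a scheme neighbourhood
    rintro ⟨U, a, hU, ha, hfib⟩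
    have huc : AlgSp.RepWith @UniversallyClosed f.hom :=
      ⟨hf.1, fun _ _ g fst snd sq => by
        have : IsFinite snd.left := (hf.2 g fst snd sq).1
        exact (inferInstance : UniversallyClosed snd.left)⟩
    have hcl : IsClosedMap (AlgSp.Points.map f.hom) :=
      Groth.Agent.S9922.isClosedMap_map_of_repWith f.hom huc
    have he : AlgSp.RepWith @Etale a :=
      ⟨ha.1, fun _ _ g fst snd sq => by
        have : IsOpenImmersion snd.left := ha.2 g fst snd sq
        exact (inferInstance : Etale snd.left)⟩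
    have hAopen : IsOpen (Set.range (AlgSp.Points.ofPt a)) :=
      (Groth.Agent.S10176.isOpenMap_ofPt a he).isOpen_range
    let W' : Set (AlgSp.Points Y.obj) :=
      (AlgSp.Points.map f.hom '' (Set.range (AlgSp.Points.ofPt a))ᶜ)ᶜ
    have hW'open : IsOpen W' := (hcl _ hAopen.isClosed_compl).isOpen_compl
    have hyW' : y ∈ W' := by
      rintro ⟨x, hxA, hxy⟩
      exact hxA (hfib hxy)
    have hpre : AlgSp.Points.map f.hom ⁻¹' W' ⊆ Set.range (AlgSp.Points.ofPt a) := by
      intro x hx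
      by_contra hxA
      exact hx ⟨x, hxA, rfl⟩
    have sqP := IsPullback.of_hasPullback (Groth.Agent.Lib.Helper12.OpenSub.incl Y.obj W') f.hom
    have hp₂ : AlgSp.RepWith @IsOpenImmersion
        (pullback.snd (Groth.Agent.Lib.Helper12.OpenSub.incl Y.obj W') f.hom) :=
      MorphismProperty.of_isPullback (P := AlgSp.RepWith @IsOpenImmersion) sqP
        (Groth.Agent.Lib.Helper12.OpenSub.repWith_incl hW'open)
    have hrangep₂ : Set.range (AlgSp.Points.map
        (pullback.snd (Groth.Agent.Lib.Helper12.OpenSub.incl Y.obj W') f.hom)) =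
        AlgSp.Points.map f.hom ⁻¹' W' := by
      rw [Groth.Agent.Lib.Helper12.OpenSub.range_map_fst_of_isPullback sqP.flip,
        Groth.Agent.Lib.Helper12.OpenSub.range_map_incl]
    let U₁ : U.left.Opens := ⟨AlgSp.Points.ofPt (a ≫ f.hom) ⁻¹' W',
      hW'open.preimage (AlgSp.Points.continuous_ofPt _)⟩
    let UW : Over S := Over.mk (U₁.ι ≫ U.hom)
    let ι : UW ⟶ U := Over.homMk U₁.ι rfl
    let k : (AlgSp.yon S).obj UW ⟶ X.obj := (AlgSp.yon S).map ι ≫ a
    have hk : AlgSp.RepWith @IsOpenImmersion k :=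
      (AlgSp.RepWith @IsOpenImmersion).comp_mem _ _
        ((AlgSp.repWith_yon_map_iff @IsOpenImmersion ι).2 (inferInstance : IsOpenImmersion U₁.ι))
        ha
    have hιmem : ∀ u₁ : ↥UW.left, U₁.ι u₁ ∈ U₁ := by
      intro u₁
      have h := U₁.range_ι
      have h2 : U₁.ι u₁ ∈ Set.range U₁.ι := ⟨u₁, rfl⟩
      rw [h] at h2; exact h2
    have hrangek : Set.range (AlgSp.Points.map k) = AlgSp.Points.map f.hom ⁻¹' W' := by
      ext x
      constructor
      · rintro ⟨p, rfl⟩
        obtain ⟨u₁, rfl⟩ := (AlgSp.Points.schemeHomeo UW).surjective p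
        change AlgSp.Points.map f.hom (AlgSp.Points.map k (AlgSp.Points.ofScheme UW u₁)) ∈ W'
        rw [← AlgSp.Points.ofPt_eq_map_ofScheme, Groth.Agent.S10176.ofPt_map_comp,
          AlgSp.Points.map_ofPt]
        exact hιmem u₁
      · intro hx
        obtain ⟨u, rfl⟩ := hpre hx
        have hu : u ∈ U₁ := by
          change AlgSp.Points.ofPt (a ≫ f.hom) u ∈ W'
          rw [← AlgSp.Points.map_ofPt]
          exact hx
        obtain ⟨u₁, rfl⟩ : ∃ u₁ : ↥UW.left, U₁.ι u₁ = u := by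
          have h2 : u ∈ Set.range U₁.ι := by rw [U₁.range_ι]; exact hu
          exact h2
        refine ⟨AlgSp.Points.ofScheme UW u₁, ?_⟩
        rw [← AlgSp.Points.ofPt_eq_map_ofScheme, Groth.Agent.S10176.ofPt_map_comp]
        rfl
    obtain ⟨e, he'⟩ := Groth.Agent.Lib.Helper12.OpenSub.iso_of_range_eq k hk _ hp₂
      (hrangek.trans hrangep₂.symm)
    let g₁ : (AlgSp.yon S).obj UW ⟶ Groth.Agent.Lib.Helper12.OpenSub.obj Y.obj W' :=
      e.hom ≫ pullback.fst (Groth.Agent.Lib.Helper12.OpenSub.incl Y.obj W') f.hom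
    have hg₁ : ∀ (Q : MorphismProperty Scheme.{u}), AlgSp.RepWith Q f.hom → AlgSp.RepWith Q g₁ := by
      intro Q hQ
      exact (MorphismProperty.cancel_left_of_respectsIso (AlgSp.RepWith Q) e.hom _).2
        (MorphismProperty.of_isPullback (P := AlgSp.RepWith Q) sqP.flip hQ)
    have hfin₁ := hg₁ _ hfin
    have hbW : ∀ w : ↥UW.left, ∃ D : UW.left.Opens, IsAffineOpen D ∧
        {w' : ↥UW.left | AlgSp.Points.ofPt g₁ w' = AlgSp.Points.ofPt g₁ w} ⊆
          (D : Set ↥UW.left) := by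
      intro w
      let F : Finset ↥U.left :=
        ((Groth.Agent.Lib.T2H7.SpOpenBC.finite_fibre_ofPt g₁ hfin₁
          (AlgSp.Points.ofPt g₁ w)).toFinset).image U₁.ι
      have hFV : ∀ t ∈ F, t ∈ (⊤ : U.left.Opens) ∧ t ∈ U₁ := by
        intro t ht
        obtain ⟨w', -, rfl⟩ := Finset.mem_image.1 ht
        exact ⟨trivial, hιmem w'⟩
      obtain ⟨D₀, hD₀, -, hD₀V, hFD₀⟩ :=
        Groth.Agent.Lib.Helper20.exists_affine_finite (isAffineOpen_top U.left) U₁ F hFV
      refine ⟨U₁.ι ⁻¹ᵁ D₀, hD₀.preimage_of_isOpenImmersion U₁.ι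
        (by rw [Scheme.Opens.opensRange_ι]; exact hD₀V), ?_⟩
      intro w' hw'
      exact hFD₀ _ (Finset.mem_image.2 ⟨w', (Set.Finite.mem_toFinset _).2 hw', rfl⟩)
    obtain ⟨Y₀, ⟨e₀⟩⟩ := Groth.Agent.Lib.T2H7.KerPairGrpd.exists_iso_yon_of_finLocFree g₁ hfin₁
      (hg₁ _ hflat) (hg₁ _ hlfp) (hg₁ _ hs) hbW
    refine ⟨⟨Groth.Agent.Lib.Helper12.OpenSub.obj Y.obj W',
        Groth.Agent.Lib.Helper12.OpenSub.isAlgSpace_obj Y.property hW'open⟩,
      ObjectProperty.homMk (Groth.Agent.Lib.Helper12.OpenSub.incl Y.obj W'),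
      Groth.Agent.Lib.Helper12.OpenSub.repWith_incl hW'open,
      ⟨Y₀, ⟨AlgSp.representableByOfIso e₀⟩⟩, ?_⟩
    change y ∈ Set.range (AlgSp.Points.map (Groth.Agent.Lib.Helper12.OpenSub.incl Y.obj W'))
    rw [Groth.Agent.Lib.Helper12.OpenSub.range_map_incl]
    exact hyW'

end Groth.Agent.S10411
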