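import Groth.Statements.S10412
import Groth.Agent.Lib.T2H1RepIso
import Groth.Agent.Lib.Helper12LargestOpen
import Groth.Agent.Lib.Helper12OpenSub2
import Groth.Agent.Lib.Helper12Descent
import Groth.Agent.S9884
import Groth.Agent.S9906
import Groth.Agent.S9927
import Groth.Agent.S10176
import Groth.Agent.S10177

set_option autoImplicit false
universe u
open CategoryTheory CategoryTheory.Limits AlgebraicGeometry Topology TopologicalSpace
open AlgSp

namespace Groth.Agent.S10412

open Groth.Agent.Lib.Helper12 in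
/-- a pullback over `a ≫ j, b ≫ j` with `j` mono is a pullback over `a, b`, and conversely. -/
lemma isPullback_comp_mono_iff {C : Type*} [Category C] {P A B X Y : C} (f : P ⟶ A) (g : P ⟶ B)
    (a : A ⟶ X) (b : B ⟶ X) (j : X ⟶ Y) [Mono j] :
    IsPullback f g (a ≫ j) (b ≫ j) ↔ IsPullback f g a b := by
  constructor
  · intro sq
    have w : f ≫ a = g ≫ b := by
      rw [← cancel_mono j, Category.assoc, Category.assoc, sq.w]
    refine IsPullback.of_isLimit' ⟨w⟩ (PullbackCone.IsLimit.mk _
      (fun s => sq.lift s.fst s.snd (by rw [← Category.assoc, s.condition, Category.assoc]))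
      (fun s => sq.lift_fst _ _ _) (fun s => sq.lift_snd _ _ _) ?_)
    intro s m h1 h2
    apply sq.hom_ext
    · rw [h1, sq.lift_fst]
    · rw [h2, sq.lift_snd]
  · intro sq
    have w : f ≫ a ≫ j = g ≫ b ≫ j := by
      rw [← Category.assoc, sq.w, Category.assoc]
    refine IsPullback.of_isLimit' ⟨w⟩ (PullbackCone.IsLimit.mk _
      (fun s => sq.lift s.fst s.snd (by
        rw [← cancel_mono j, Category.assoc, Category.assoc, s.condition]))
      (fun s => sq.lift_fst _ _ _) (fun s => sq.lift_snd _ _ _) ?_)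
    intro s m h1 h2
    apply sq.hom_ext
    · rw [h1, sq.lift_fst]
    · rw [h2, sq.lift_snd]

/-- For an algebraic space X over a scheme S the following are equivalent: (1) X has a Zariski covering
by open subspaces X_i, each X_i admitting a surjective, etale and quasi-compact morphism U_i ⟶ X_i
with U_i a scheme; (2) there are etale morphisms U_i ⟶ X from schemes, jointly surjective, such that
for each i both projection morphisms from U_i ×_X U_i to U_i are quasi-compact. -/
theorem result {S : Scheme.{u}} (X : AlgSp.Space S) :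
    (∃ (ι : Type u) (Xi : ι → AlgSp.Space S) (j : ∀ i, Xi i ⟶ X) (U : ι → Over S)
        (a : ∀ i, (AlgSp.yon S).obj (U i) ⟶ (Xi i).obj),
        AlgSp.IsZarCover (fun i => (Xi i).obj) (fun i => (j i).hom) ∧
          ∀ i, AlgSp.RepWith @Etale (a i) ∧ AlgSp.RepWith @Surjective (a i) ∧ AlgSp.RepWith @QuasiCompact (a i)) ↔
      ∃ (ι : Type u) (U : ι → Over S) (φ : ∀ i, (AlgSp.yon S).obj (U i) ⟶ X.obj),
        (∀ i, AlgSp.RepWith @Etale (φ i)) ∧
          (∀ x : AlgSp.Points X.obj, ∃ (i : ι) (v : ↥(U i).left), AlgSp.Points.ofPt (φ i) v = x) ∧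
          ∀ (i : ι) (R : Over S) (s t : R ⟶ U i), IsPullback ((AlgSp.yon S).map t) ((AlgSp.yon S).map s) (φ i) (φ i) →
            QuasiCompact s.left ∧ QuasiCompact t.left := by
  constructor
  · rintro ⟨ι, Xi, j, U, a, ⟨hjo, hjs⟩, ha⟩
    refine ⟨ι, U, fun i => a i ≫ (j i).hom, fun i => ?_, fun x => ?_, fun i R s t sq => ?_⟩
    · exact (AlgSp.RepWith @Etale).comp_mem _ _ (ha i).1
        (Groth.Agent.Lib.Helper12.OpenSub.repWith_mono
          (fun _ _ g hg => by haveI : IsOpenImmersion g := hg; infer_instance) (hjo i))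
    · obtain ⟨i, x', rfl⟩ := hjs x
      obtain ⟨v, rfl⟩ := Groth.Agent.S10177.surjective_ofPt (a i) (ha i).2.1 x'
      exact ⟨i, v, by rw [AlgSp.Points.map_ofPt]⟩
    · haveI : Mono (j i).hom := Groth.Agent.Lib.Helper12.LargestOpen.mono_of_open _ (hjo i)
      have sq' := (isPullback_comp_mono_iff _ _ (a i) (a i) (j i).hom).1 sq
      exact ⟨(ha i).2.2.2 _ _ _ sq', (ha i).2.2.2 _ _ _ sq'.flip⟩
  · rintro ⟨ι, U, φ, hφ, hsurj, hqc⟩
    have hW : ∀ i, IsOpen (Set.range (AlgSp.Points.ofPt (φ i))) := fun i =>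
      (Groth.Agent.S10176.isOpenMap_ofPt (φ i) (hφ i)).isOpen_range
    have hfac : ∀ i, ∃ a' : (AlgSp.yon S).obj (U i) ⟶
        Groth.Agent.Lib.Helper12.OpenSub.obj X.obj (Set.range (AlgSp.Points.ofPt (φ i))),
        a' ≫ Groth.Agent.Lib.Helper12.OpenSub.incl X.obj _ = φ i := fun i =>
      (Groth.Agent.Lib.Helper12.OpenSub.factor_iff _ (φ i)).2 (fun t => ⟨t, rfl⟩)
    choose a ha using hfac
    have hinclo : ∀ i, AlgSp.RepWith @IsOpenImmersion
        (Groth.Agent.Lib.Helper12.OpenSub.incl X.obj (Set.range (AlgSp.Points.ofPt (φ i)))) :=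
      fun i => Groth.Agent.Lib.Helper12.OpenSub.repWith_incl (hW i)
    refine ⟨ι, fun i => ⟨Groth.Agent.Lib.Helper12.OpenSub.obj X.obj
        (Set.range (AlgSp.Points.ofPt (φ i))),
        Groth.Agent.Lib.Helper12.OpenSub.isAlgSpace_obj X.property (hW i)⟩,
      fun i => ⟨Groth.Agent.Lib.Helper12.OpenSub.incl X.obj _⟩, U, a, ⟨hinclo, fun x => ?_⟩,
      fun i => ?_⟩
    · obtain ⟨i, v, rfl⟩ := hsurj x
      refine ⟨i, ?_⟩
      show _ ∈ Set.range (AlgSp.Points.map (Groth.Agent.Lib.Helper12.OpenSub.incl X.obj _))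
      rw [Groth.Agent.Lib.Helper12.OpenSub.range_map_incl]
      exact ⟨v, rfl⟩
    · have hsqa : IsPullback (𝟙 _) (a i) (φ i)
          (Groth.Agent.Lib.Helper12.OpenSub.incl X.obj (Set.range (AlgSp.Points.ofPt (φ i)))) := by
        have := Groth.Agent.Lib.Helper12.LargestOpen.isPullback_id_of_mono (a i)
          (Groth.Agent.Lib.Helper12.OpenSub.incl X.obj (Set.range (AlgSp.Points.ofPt (φ i))))
        rwa [ha i] at this
      have hae : AlgSp.RepWith @Etale (a i) :=
        MorphismProperty.of_isPullback (P := AlgSp.RepWith @Etale) hsqa (hφ i)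
      have hinj := Groth.Agent.Lib.Helper12.LargestOpen.injective_map_of_open _ (hinclo i)
      have has : AlgSp.RepWith @Surjective (a i) := by
        rw [Groth.Agent.S9906.repWith_surjective_iff (a i) hae.1]
        intro y
        have hy : AlgSp.Points.map (Groth.Agent.Lib.Helper12.OpenSub.incl X.obj
            (Set.range (AlgSp.Points.ofPt (φ i)))) y ∈ Set.range (AlgSp.Points.ofPt (φ i)) :=
          (Groth.Agent.Lib.Helper12.OpenSub.range_map_incl
            (Set.range (AlgSp.Points.ofPt (φ i)))).subset ⟨y, rfl⟩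
        obtain ⟨v, hv⟩ := hy
        refine ⟨AlgSp.Points.ofPt (𝟙 _) v, ?_⟩
        apply hinj
        rw [AlgSp.Points.map_ofPt, Category.id_comp, AlgSp.Points.map_ofPt, ha i, hv]
      refine ⟨hae, has, ?_⟩
      -- quasi-compactness descends along `a i` itself
      obtain ⟨R, w, pr', sq⟩ := hae.1 (a i)
      obtain ⟨t, rfl⟩ := (AlgSp.yon S).map_surjective pr'
      have sqφ : IsPullback ((AlgSp.yon S).map t) ((AlgSp.yon S).map w) (φ i) (φ i) := by
        have := (isPullback_comp_mono_iff _ _ (a i) (a i)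
          (Groth.Agent.Lib.Helper12.OpenSub.incl X.obj (Set.range (AlgSp.Points.ofPt (φ i))))).2 sq
        rwa [ha i] at this
      have hw : QuasiCompact w.left := (hqc i R w t sqφ).1
      haveI : Epi (a i) := Groth.Agent.S9927.epi_of_repWith (a i) hae has
      haveI : Sheaf.IsLocallySurjective (a i) :=
        (Sheaf.isLocallySurjective_iff_epi _).mpr inferInstance
      haveI : MorphismProperty.IsLocalAtTarget (@QuasiCompact : MorphismProperty Scheme.{u})
          Scheme.fppfPrecoverage :=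
        Groth.Agent.Lib.T2H1.RepIso.isLocalAtTarget_fppf _
          Groth.Agent.Lib.Helper12.descendsAlong_quasiCompact
      exact Groth.Agent.S9884.result S _ _ _ (a i) hae.1 (a i) _ _ _ sq @QuasiCompact
        ((AlgSp.repWith_yon_map_iff _ _).2 hw)

end Groth.Agent.S10412
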