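import Groth.Statements.S10416
import Groth.Agent.Lib.T2H1ClosedPtRes
import Groth.Agent.Lib.Helper12Proper
import Groth.Agent.S9932

set_option autoImplicit false
universe u
open CategoryTheory CategoryTheory.Limits AlgebraicGeometry Topology TopologicalSpace
open AlgSp

namespace Groth.Agent.S10416

/-- Let S be a scheme, X a locally Noetherian algebraic space over S, x ∈ |X|, and i : Z_x ⟶ X the
residual space at x. Then x is closed in |X| if and only if i is a closed immersion. -/
theorem result {S : Scheme.{u}} {X Z : AlgSp.Space S}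
    (hX : AlgSp.IsLocNoethSp X.obj) (x : AlgSp.Points X.obj) (i : Z ⟶ X) [Mono i.hom]
    (hi : Set.range (AlgSp.Points.map i.hom) = {x}) (hZ : ∃ (k : Type u) (_ : Field k) (str : Spec (CommRingCat.of k) ⟶ S) (p : (AlgSp.yon S).obj (Over.mk str) ⟶ Z.obj),
        AlgSp.LocP @LocallyOfFinitePresentation p ∧ AlgSp.LocP @Flat p ∧ AlgSp.IsSurjectiveMor p) :
    IsClosed ({x} : Set (AlgSp.Points X.obj)) ↔ AlgSp.RepWith @IsClosedImmersion i.hom := by
  have hxi : x ∈ Set.range (AlgSp.Points.map i.hom) := by rw [hi]; rfl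
  constructor
  · intro hcl
    obtain ⟨k, _, str, q, hq1, hq2, hq3⟩ := hZ
    haveI : Epi q := Groth.Agent.Lib.T2H1.ClosedPtRes.epi_of_fppf Z.property q hq1 hq2 hq3
    haveI : IsReduced (Over.mk str).left :=
      (inferInstance : IsReduced (Spec (CommRingCat.of k)))
    have hfin : ∀ (V : Over S) (b : (AlgSp.yon S).obj V ⟶ X.obj), IsAffine V.left →
        AlgSp.RepWith @Etale b → (AlgSp.Points.ofPt b ⁻¹' {x}).Finite := by
      intro V b hV hb
      haveI := hV
      exact Groth.Agent.Lib.T2H1.ClosedPtRes.finite_fibre_of_isClosed hX x hcl b hb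
    obtain ⟨U₀, p₀, hpe, hps, hU₀⟩ := hX
    -- the reduced closed subscheme on the fibre
    obtain ⟨Tc, hTc⟩ : ∃ Tc : TopologicalSpace.Closeds ↥U₀.left,
        (Tc : Set ↥U₀.left) = AlgSp.Points.ofPt p₀ ⁻¹' {x} :=
      ⟨⟨_, hcl.preimage (AlgSp.Points.continuous_ofPt p₀)⟩, rfl⟩
    let T₀ : Over S := Over.mk ((Scheme.IdealSheafData.vanishingIdeal Tc).subschemeι ≫ U₀.hom)
    let j : T₀ ⟶ U₀ := Over.homMk (Scheme.IdealSheafData.vanishingIdeal Tc).subschemeι rfl
    haveI : IsClosedImmersion j.left :=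
      (inferInstance : IsClosedImmersion (Scheme.IdealSheafData.vanishingIdeal Tc).subschemeι)
    haveI : Mono j.left := inferInstance
    haveI : Mono j := Over.mono_of_mono_left j
    haveI : IsReduced T₀.left :=
      Groth.Agent.Lib.Helper11RedCl.isReduced_subscheme_vanishingIdeal Tc
    have hjT : ∀ t : ↥T₀.left, AlgSp.Points.ofPt p₀ (j.left t) = x := by
      intro t
      have h1 : j.left t ∈ Set.range (Scheme.IdealSheafData.vanishingIdeal Tc).subschemeι :=
        ⟨t, rfl⟩
      rw [Groth.Agent.Lib.Helper11RedCl.range_subschemeι_vanishingIdeal, hTc] at h1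
      exact h1
    let Y : AlgSp.Space S := ⟨(AlgSp.yon S).obj T₀, AlgSp.IsAlgSpace.yon_obj T₀⟩
    let f : Y ⟶ X := ObjectProperty.homMk ((AlgSp.yon S).map j ≫ p₀)
    obtain ⟨kk, hkk⟩ := Groth.Agent.Lib.Helper12.ResidualFactor.exists_factor_of_finite_fibres i f x
      (fun y => by
        obtain ⟨t, rfl⟩ := (AlgSp.Points.schemeEquiv T₀).surjective y
        show AlgSp.Points.map ((AlgSp.yon S).map j ≫ p₀) (AlgSp.Points.ofScheme T₀ t) = x
        rw [← AlgSp.Points.ofPt_eq_map_ofScheme, Groth.Agent.S10176.ofPt_map_comp]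
        exact hjT t) hxi
      ⟨T₀, 𝟙 _, AlgSp.repWith_id _ T₀, AlgSp.repWith_id _ T₀, inferInstance⟩ hfin
    have hk : kk.hom ≫ i.hom = (AlgSp.yon S).map j ≫ p₀ := congrArg (fun m => m.hom) hkk
    have sq : IsPullback kk.hom ((AlgSp.yon S).map j) i.hom p₀ := by
      refine Groth.Agent.Lib.T2H1.ClosedPtRes.isPullback_of_reduced_closed X.property i.hom q p₀
        hpe j kk.hom hk (fun F g hF hg => ?_)
      haveI := hF
      obtain ⟨l, hl⟩ := Groth.Agent.Lib.Helper11RedCl.exists_lift_of_range_subset g.left Tc (by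
        rintro _ ⟨t, rfl⟩
        rw [hTc]
        have := hg t
        rw [hi] at this
        exact this)
      refine ⟨Over.homMk l ?_, ?_⟩
      · show l ≫ (Scheme.IdealSheafData.vanishingIdeal Tc).subschemeι ≫ U₀.hom = F.hom
        rw [← Category.assoc, hl, Over.w g]
      · ext
        exact hl
    exact Groth.Agent.S9932.result @IsClosedImmersion (Or.inl rfl) i U₀ p₀ hpe hps kk.hom
      ((AlgSp.yon S).map j) sq
      ((AlgSp.repWith_yon_map_iff _ _).2 (inferInstance : IsClosedImmersion j.left))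
  · intro hci
    have := Groth.Agent.Lib.Helper12.Proper.isClosedMap_of_repWith_isClosedImmersion i.hom hci
    rw [← hi]
    exact this.isClosed_range

end Groth.Agent.S10416
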