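import Groth.Statements.S9995
import Groth.Agent.Lib.T2H1FibreQF

set_option autoImplicit false
universe u
open CategoryTheory CategoryTheory.Limits AlgebraicGeometry
open AlgSp

namespace Groth.Agent.S9995


open Groth.Agent.Lib.T2H1.FibreQF Groth.Agent.Lib.T2H1.FieldSp

/-- the spectrum of a field is a quasi-compact space. -/
lemma isQuasiCompactSp_fieldPt {S : Scheme.{u}} {Y : AlgSp.Sp S} (r : AlgSp.FieldPt Y) :
    AlgSp.IsQuasiCompactSp ((AlgSp.yon S).obj r.pt) :=
  ⟨r.pt, 𝟙 _, AlgSp.repWith_id _ _, AlgSp.repWith_id _ _,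
    inferInstanceAs (CompactSpace ↥(Spec (CommRingCat.of r.K)))⟩

/-- for `f` of finite type the fibre `X_k` has finitely many isolated points. -/
theorem finite_isolated {S : Scheme.{u}} {X Y : AlgSp.Space S} (f : X ⟶ Y)
    (hf : AlgSp.IsFiniteTypeMor f.hom) (r : AlgSp.FieldPt Y.obj) (Xk : AlgSp.Space S)
    (fst : Xk ⟶ X) (snd : Xk.obj ⟶ (AlgSp.yon S).obj r.pt)
    (hsq : IsPullback fst.hom snd f.hom r.toHom) :
    {xt : AlgSp.Points Xk.obj | IsOpen ({xt} : Set (AlgSp.Points Xk.obj))}.Finite := by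
  have hch := goodCharts_fibre f r Xk fst snd hsq hf.1
  obtain ⟨U₀, a₀, he, hs, hc⟩ :=
    hf.2 (AlgSp.IsAlgSpace.yon_obj r.pt) (isQuasiCompactSp_fieldPt r) r.toHom fst.hom snd hsq
  obtain ⟨hLN, -⟩ := hch U₀ a₀ he
  haveI := hLN
  haveI : CompactSpace ↥U₀.left := hc
  haveI : IsNoetherian U₀.left := ⟨⟩
  have hB : {z : ↥U₀.left | IsOpen ({z} : Set ↥U₀.left)}.Finite := by
    refine (TopologicalSpace.NoetherianSpace.isCompact _).finite ?_
    rw [isDiscrete_iff_forall_mem_exists_isOpen]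
    intro z hz
    refine ⟨{z}, hz, ?_⟩
    rw [Set.inter_eq_left]
    exact Set.singleton_subset_iff.2 hz
  refine (hB.image (AlgSp.Points.ofPt a₀)).subset ?_
  intro xt hxt
  obtain ⟨z, rfl⟩ := Groth.Agent.S10177.surjective_ofPt a₀ hs xt
  exact ⟨z, isOpen_singleton_chart Xk hch _ hxt a₀ he z rfl, rfl⟩

/-- For a morphism f : X ⟶ Y of algebraic spaces of finite type and a point y of |Y|, the set of points
of |X| over y where f is quasi-finite is finite (in the neighbourhood sense, through some chart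
diagram). -/
theorem result {S : Scheme.{u}} {X Y : AlgSp.Space S} (f : X ⟶ Y)
    (hf : AlgSp.IsFiniteTypeMor f.hom) (y : AlgSp.Points Y.obj) :
    {x : AlgSp.Points X.obj | AlgSp.Points.map f.hom x = y ∧
      AlgSp.HasAtMor (fun U _ h u => ∃ W : U.Opens, u ∈ W ∧ LocallyQuasiFinite (W.ι ≫ h) ∧
        LocallyOfFiniteType (W.ι ≫ h)) f.hom x}.Finite := by
  obtain ⟨r, rfl⟩ := AlgSp.Points.mk_surjective y
  have sq := IsPullback.of_hasPullback f.hom r.toHom
  have hP : AlgSp.IsAlgSpace (pullback f.hom r.toHom) :=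
    Groth.Agent.S9874.isAlgSpace_of_isPullback Y.property.diag X.property
      (AlgSp.IsAlgSpace.yon_obj r.pt) sq
  let Xk : AlgSp.Space S := ⟨pullback f.hom r.toHom, hP⟩
  let fst : Xk ⟶ X := ObjectProperty.homMk (pullback.fst f.hom r.toHom)
  have hsq : IsPullback fst.hom (pullback.snd f.hom r.toHom) f.hom r.toHom := sq
  have hfin := finite_isolated f hf r Xk fst _ hsq
  refine (hfin.image (AlgSp.Points.map fst.hom)).subset ?_
  rintro x ⟨hx1, hx2⟩
  obtain ⟨z, rfl⟩ := exists_lift_point f r Xk fst _ hsq x hx1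
  exact ⟨z, (isOpen_iff_qf f r Xk fst _ hsq hf.1 z).2 hx2, rfl⟩

end Groth.Agent.S9995
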