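import Groth.Statements.S10417
import Groth.Agent.S9995

set_option autoImplicit false
universe u
open CategoryTheory CategoryTheory.Limits AlgebraicGeometry Topology TopologicalSpace
open AlgSp

namespace Groth.Agent.S10417


open Groth.Agent.Lib.T2H1.FibreQF Groth.Agent.Lib.T2H1.FieldSp

/-- Let W = X ×_Y Z be a fibre product of algebraic spaces over a scheme S with projections p, q and let
x ∈ |X|, z ∈ |Z| lie over the same point of |Y|. If f : X ⟶ Y is of finite type and quasi-finite at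
x, then the set of points of |W| mapping to x and to z is finite. -/
theorem result {S : Scheme.{u}} {X Y Z W : AlgSp.Space S} (f : X ⟶ Y)
    (g : Z ⟶ Y) (p : W ⟶ X) (q : W ⟶ Z) (hW : IsPullback p.hom q.hom f.hom g.hom) (x : AlgSp.Points X.obj)
    (z : AlgSp.Points Z.obj) (hxz : AlgSp.Points.map f.hom x = AlgSp.Points.map g.hom z)
    (hft : AlgSp.IsFiniteTypeMor f.hom) (hf : AlgSp.HasAtMor (fun U _ h u => ∃ W : U.Opens, u ∈ W ∧ LocallyQuasiFinite (W.ι ≫ h) ∧ LocallyOfFiniteType (W.ι ≫ h)) f.hom x) :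
    {w : AlgSp.Points W.obj | AlgSp.Points.map p.hom w = x ∧ AlgSp.Points.map q.hom w = z}.Finite := by
  obtain ⟨rz, rfl⟩ := AlgSp.Points.mk_surjective z
  -- the field valued point of `Y`
  let r : AlgSp.FieldPt Y.obj := rz.map g.hom
  have hr : r.toHom = rz.toHom ≫ g.hom := AlgSp.FieldPt.toHom_map g.hom rz
  have hxr : AlgSp.Points.map f.hom x = AlgSp.Points.mk r := by
    rw [hxz, AlgSp.Points.map_mk]
  have sq := IsPullback.of_hasPullback f.hom r.toHom
  have hP : AlgSp.IsAlgSpace (pullback f.hom r.toHom) :=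
    Groth.Agent.S9874.isAlgSpace_of_isPullback Y.property.diag X.property
      (AlgSp.IsAlgSpace.yon_obj r.pt) sq
  let Xk : AlgSp.Space S := ⟨pullback f.hom r.toHom, hP⟩
  let fst : Xk ⟶ X := ObjectProperty.homMk (pullback.fst f.hom r.toHom)
  obtain ⟨snd, hsq⟩ : ∃ snd : Xk.obj ⟶ (AlgSp.yon S).obj r.pt,
      IsPullback fst.hom snd f.hom r.toHom := ⟨_, sq⟩
  have hfin := Groth.Agent.S9995.finite_isolated f hft r Xk fst snd hsq
  -- the map `X_k ⟶ W`
  have hsq' : IsPullback fst.hom snd f.hom (rz.toHom ≫ g.hom) := by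
    have := hsq
    rw [hr] at this
    exact this
  obtain ⟨ψ, hψ1, hψ2⟩ := hW.exists_lift fst.hom (snd ≫ rz.toHom)
    (by rw [Category.assoc]; exact hsq'.w)
  have sqψ : IsPullback ψ snd q.hom rz.toHom := by
    refine IsPullback.of_right ?_ hψ2 hW
    rw [hψ1]
    exact hsq'
  refine (hfin.image (AlgSp.Points.map ψ)).subset ?_
  rintro w ⟨hw1, hw2⟩
  let t : AlgSp.Points ((AlgSp.yon S).obj rz.pt) :=
    AlgSp.Points.schemeHomeo rz.pt (((⊥ : PrimeSpectrum rz.K) : ↥rz.pt.left))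
  obtain ⟨xt, hxt1, -⟩ := Groth.Agent.S10175.exists_point_of_isPullback sqψ w t
    (hw2.trans (map_toHom' rz t).symm)
  refine ⟨xt, ?_, hxt1⟩
  have hfx : AlgSp.Points.map fst.hom xt = x := by
    rw [← hψ1, AlgSp.Points.map_comp, hxt1, hw1]
  have := (isOpen_iff_qf f r Xk fst _ hsq hft.1 xt).2 (by rw [hfx]; exact hf)
  exact this

end Groth.Agent.S10417
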