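import Groth.Statements.S10427
import Groth.Agent.Lib.T2H1UnivBdd

set_option autoImplicit false
universe u
open CategoryTheory CategoryTheory.Limits AlgebraicGeometry Topology TopologicalSpace
open AlgSp

namespace Groth.Agent.S10427

/-- Let X be an algebraic space over a scheme S and U ⟶ V ⟶ X with U, V schemes, U ⟶ V surjective and
flat. If U ⟶ X has universally bounded fibres, then so does V ⟶ X. -/
theorem result {S : Scheme.{u}} (X : AlgSp.Space S) {U V : Over S} (f : U ⟶ V)
    [Surjective f.left] [Flat f.left] (h : (AlgSp.yon S).obj V ⟶ X.obj) (hg : W4dec.HasUnivBddFibres ((AlgSp.yon S).map f ≫ h)) :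
    W4dec.HasUnivBddFibres h := by
  obtain ⟨n, hg⟩ := hg
  refine ⟨n, ?_⟩
  intro q T c snd hpb
  obtain ⟨s, rfl⟩ := (AlgSp.yon S).map_surjective snd
  have sqO : IsPullback (pullback.fst s f) (pullback.snd s f) s f := IsPullback.of_hasPullback s f
  have sqL : IsPullback (pullback.fst s f).left (pullback.snd s f).left s.left f.left :=
    sqO.map (Over.forget S)
  haveI : Flat (pullback.fst s f).left :=
    MorphismProperty.of_isPullback (P := @Flat) sqL.flip inferInstance
  haveI : Surjective (pullback.fst s f).left :=
    MorphismProperty.of_isPullback (P := @Surjective) sqL.flip inferInstance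
  have sqY := sqO.map (AlgSp.yon S)
  have hbig := (sqY.flip.paste_vert hpb.flip).flip
  rw [← Functor.map_comp] at hbig
  have h1 := hg q (pullback s f) (pullback.fst s f ≫ c) ((AlgSp.yon S).map (pullback.snd s f)) hbig
  exact Groth.Agent.Lib.T2H1.UnivBdd.finDeg_of_flat_surjective (pullback.fst s f).left c.left h1

end Groth.Agent.S10427
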