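import Groth.Statements.S10429
import Groth.Agent.Lib.T2H1UnivBddLoc

set_option autoImplicit false
universe u
open CategoryTheory CategoryTheory.Limits AlgebraicGeometry Topology TopologicalSpace
open AlgSp

namespace Groth.Agent.S10429

/-- For an algebraic space X over a scheme S, if there are etale morphisms U_i ⟶ X from schemes with ∐
U_i ⟶ X surjective and each U_i ⟶ X with universally bounded fibres, then every etale morphism U ⟶ X
from an affine scheme has universally bounded fibres (the converse implication is immediate). -/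
theorem result {S : Scheme.{u}} (X : AlgSp.Space S) {ι : Type u} (U : ι → Over S)
    (φ : ∀ i, (AlgSp.yon S).obj (U i) ⟶ X.obj) (hφ : ∀ i, AlgSp.RepWith @Etale (φ i))
    (hsurj : ∀ x : AlgSp.Points X.obj, ∃ (i : ι) (v : ↥(U i).left), AlgSp.Points.ofPt (φ i) v = x)
    (hb : ∀ i, W4dec.HasUnivBddFibres (φ i)) {V : Over S} [IsAffine V.left] (ψ : (AlgSp.yon S).obj V ⟶ X.obj)
    (hψ : AlgSp.RepWith @Etale ψ) : W4dec.HasUnivBddFibres ψ := by
  haveI : CompactSpace ↥V.left := inferInstance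
  apply Groth.Agent.Lib.T2H1.UnivBdd.hasUnivBddFibres_of_flat_open_cover
  intro v
  obtain ⟨i, ui, hui⟩ := hsurj (AlgSp.Points.ofPt ψ v)
  obtain ⟨P, p1, p2', sq⟩ := (hφ i).1 ψ
  haveI : Etale p1.left := (hφ i).2 _ _ p1 sq
  obtain ⟨p2, rfl⟩ := (AlgSp.yon S).map_surjective p2'
  haveI : Etale p2.left := hψ.2 _ _ p2 sq.flip
  obtain ⟨pt, -, hpt⟩ := Groth.Agent.S10175.exists_point_of_isPullback sq
    (AlgSp.Points.ofScheme (U i) ui) (AlgSp.Points.ofScheme V v) (by
      rw [← AlgSp.Points.ofPt_eq_map_ofScheme, ← AlgSp.Points.ofPt_eq_map_ofScheme, hui])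
  obtain ⟨p0, rfl⟩ := (AlgSp.Points.schemeEquiv P).surjective pt
  have hp0 : p1.left p0 = v := by
    have h1 : AlgSp.Points.ofPt ((AlgSp.yon S).map p1) p0 = AlgSp.Points.ofScheme V v := by
      rw [AlgSp.Points.ofPt_eq_map_ofScheme]; exact hpt
    rw [Groth.Agent.Lib.T2H1.UnivBdd.ofPt_yon_map] at h1
    exact (AlgSp.Points.schemeEquiv V).injective h1
  have := Groth.Agent.Lib.T2H1.UnivBdd.exists_local_chart X ψ (φ i) (hb i) p1 p2 sq.w p0
  rw [hp0] at this
  exact this

end Groth.Agent.S10429
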