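import Groth.Statements.S10430
import Groth.Agent.Lib.T2H1FieldQuotK

set_option autoImplicit false
universe u
open CategoryTheory CategoryTheory.Limits AlgebraicGeometry Topology TopologicalSpace
open AlgSp

namespace Groth.Agent.S10430


open Groth.Agent.Lib.T2H1.FieldQuot

/-- If every etale morphism U ⟶ X from an affine scheme to the algebraic space X has universally bounded
fibres, then X is decent. -/
theorem result {S : Scheme.{u}} (X : AlgSp.Space S)
    (h : ∀ (U : Over S) (φ : (AlgSp.yon S).obj U ⟶ X.obj), IsAffine U.left → AlgSp.RepWith @Etale φ → W4dec.HasUnivBddFibres φ) :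
    AlgSp.IsDecent X.obj := by
  intro x
  obtain ⟨U₀, a, hae, has⟩ := X.property.atlas
  obtain ⟨u₀, hu₀⟩ := Groth.Agent.S10177.surjective_ofPt a has x
  have hch : ∃ Uo : U₀.left.Opens, IsAffineOpen Uo ∧ u₀ ∈ Uo := by
    obtain ⟨_, ⟨Uo, hUo, rfl⟩, hmem, -⟩ := U₀.left.isBasis_affineOpens.exists_subset_of_mem_open
      (Set.mem_univ u₀) isOpen_univ
    exact ⟨Uo, hUo, hmem⟩
  obtain ⟨Uo, hUo, hmem⟩ := hch
  let Uj : Over S := Over.mk (Uo.ι ≫ U₀.hom)
  let ιU : Uj ⟶ U₀ := Over.homMk Uo.ι rfl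
  haveI : IsAffine Uj.left := hUo
  have hφ : AlgSp.RepWith @Etale ((AlgSp.yon S).map ιU ≫ a) := by
    refine MorphismProperty.comp_mem _ _ _ ((AlgSp.repWith_yon_map_iff _ _).2 ?_) hae
    exact (inferInstance : Etale Uo.ι)
  let u : ↥Uj.left := (⟨u₀, hmem⟩ : ↥Uo)
  have hu : AlgSp.Points.ofPt ((AlgSp.yon S).map ιU ≫ a) u = x := by
    rw [Groth.Agent.S10176.ofPt_map_comp]
    exact hu₀
  obtain ⟨n, hn⟩ := h Uj _ inferInstance hφ
  obtain ⟨R, s, pr, sq⟩ := X.property.representable_from_yon ((AlgSp.yon S).map ιU ≫ a)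
    ((AlgSp.yon S).map ιU ≫ a)
  obtain ⟨t, rfl⟩ := (AlgSp.yon S).map_surjective pr
  -- the fibre product `Spec κ(u) ×_X U`
  let qu : AlgSp.FieldPt X.obj := AlgSp.FieldPt.ofPt ((AlgSp.yon S).map ιU ≫ a) u
  let ι : qu.pt ⟶ Uj := Over.homMk (Uj.left.fromSpecResidueField u) rfl
  have hqu : qu.toHom = (AlgSp.yon S).map ι ≫ (AlgSp.yon S).map ιU ≫ a :=
    AlgSp.FieldPt.toHom_ofPt _ u
  obtain ⟨T, τ, pr, sqT⟩ := X.property.representable_from_yon qu.toHom ((AlgSp.yon S).map ιU ≫ a)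
  obtain ⟨c, rfl⟩ := (AlgSp.yon S).map_surjective pr
  obtain ⟨hfinc, -⟩ := hn qu T c _ sqT
  haveI := hfinc
  haveI : Subsingleton ↥qu.pt.left := inferInstanceAs (Subsingleton (PrimeSpectrum qu.K))
  haveI : Finite ↥T.left := finite_of_isFinite_of_subsingleton c.left
  have sqT' : IsPullback ((AlgSp.yon S).map τ) ((AlgSp.yon S).map c) ((AlgSp.yon S).map ιU ≫ a)
      ((AlgSp.yon S).map ι ≫ (AlgSp.yon S).map ιU ≫ a) := by
    rw [← hqu]
    exact sqT.flip
  obtain ⟨e, -, -, hsqe⟩ := exists_baseChange_snd _ _ ι t s sq τ c sqT'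
  have hfin : {r : ↥R.left | s.left r = u ∧ t.left r = u}.Finite := by
    refine (Set.finite_range e.left).subset ?_
    rintro r ⟨hr, -⟩
    have hr' : s.left r = ι.left (IsLocalRing.closedPoint qu.K) :=
      hr.trans (Scheme.fromSpecResidueField_apply _ _).symm
    obtain ⟨z, hz, -⟩ := exists_point_of_isPullback_yon_map hsqe r _ hr'
    exact ⟨z, hz⟩
  obtain ⟨p, hp, hpm⟩ := exists_mono_of_finite_fibre X.property _ hφ u u rfl s t sq hfin
  haveI := hpm
  have hpx : AlgSp.Points.mk p = x := hp.trans hu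
  subst hpx
  refine ⟨p, rfl, hpm, ?_⟩
  refine repWith_quasiCompact_of_finite_fibres X.property p (fun U' φ' hU' hφ' => ?_)
  obtain ⟨n', hn'⟩ := h U' φ' hU' hφ'
  obtain ⟨T', τ', pr', sq'⟩ := X.property.representable_from_yon p.toHom φ'
  obtain ⟨c', rfl⟩ := (AlgSp.yon S).map_surjective pr'
  obtain ⟨hfinc', -⟩ := hn' p T' c' _ sq'
  haveI := hfinc'
  haveI : Subsingleton ↥p.pt.left := inferInstanceAs (Subsingleton (PrimeSpectrum p.K))
  haveI : Finite ↥T'.left := finite_of_isFinite_of_subsingleton c'.left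
  rw [fibre_eq_range p φ' c' τ' sq']
  exact Set.finite_range _

end Groth.Agent.S10430
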