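import Groth.Statements.S10431
import Groth.Agent.Lib.T2H1UnivBddLoc

set_option autoImplicit false
universe u
open CategoryTheory CategoryTheory.Limits AlgebraicGeometry Topology TopologicalSpace
open AlgSp

namespace Groth.Agent.S10431

/-- Let S be a scheme, X and Y algebraic spaces over S, and X ⟶ Y a representable morphism. If every
etale morphism from an affine scheme to Y has universally bounded fibres, then so does every etale
morphism from an affine scheme to X. -/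
theorem result {S : Scheme.{u}} {X Y : AlgSp.Space S} (f : X ⟶ Y)
    (hf : AlgSp.Representable f.hom)
    (hY : ∀ (V : Over S) (ψ : (AlgSp.yon S).obj V ⟶ Y.obj), IsAffine V.left → AlgSp.RepWith @Etale ψ → W4dec.HasUnivBddFibres ψ)
    (U : Over S) (φ : (AlgSp.yon S).obj U ⟶ X.obj) (hU : IsAffine U.left) (hφ : AlgSp.RepWith @Etale φ) :
    W4dec.HasUnivBddFibres φ := by
  haveI := hU
  haveI : CompactSpace ↥U.left := inferInstance
  apply Groth.Agent.Lib.T2H1.UnivBdd.hasUnivBddFibres_of_flat_open_cover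
  intro u
  obtain ⟨V₀, b, hbe, hbs⟩ := Y.property.atlas
  obtain ⟨v₀, hv₀⟩ := Groth.Agent.S10177.surjective_ofPt b hbs
    (AlgSp.Points.map f.hom (AlgSp.Points.ofPt φ u))
  obtain ⟨_, ⟨V', hV', rfl⟩, hvV, -⟩ := (V₀.left.isBasis_affineOpens).exists_subset_of_mem_open
    (Set.mem_univ v₀) isOpen_univ
  let V₁ : V₀.left.Opens := V'
  let VO : Over S := Over.mk (V₁.ι ≫ V₀.hom)
  let kV : VO ⟶ V₀ := Over.homMk V₁.ι rfl
  have hkVe : AlgSp.RepWith @Etale ((AlgSp.yon S).map kV) :=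
    (AlgSp.repWith_yon_map_iff _ _).2 (inferInstance : Etale V₁.ι)
  have hbV : AlgSp.RepWith @Etale ((AlgSp.yon S).map kV ≫ b) :=
    MorphismProperty.comp_mem _ _ _ hkVe hbe
  obtain ⟨n, hn⟩ := hY VO ((AlgSp.yon S).map kV ≫ b) hV' hbV
  obtain ⟨Z, z2, z1, sqZ⟩ := hf ((AlgSp.yon S).map kV ≫ b)
  have hz1n : W4dec.DegFibresLE n z1 :=
    Groth.Agent.Lib.T2H1.UnivBdd.degFibresLE_baseChange' f.hom sqZ hn
  have hz1e : AlgSp.RepWith @Etale z1 :=
    MorphismProperty.of_isPullback (P := AlgSp.RepWith @Etale) sqZ.flip hbV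
  obtain ⟨P, p1, p2', sqP⟩ := hz1e.1 φ
  haveI : Etale p1.left := hz1e.2 _ _ p1 sqP
  obtain ⟨p2, rfl⟩ := (AlgSp.yon S).map_surjective p2'
  haveI : Etale p2.left := hφ.2 _ _ p2 sqP.flip
  -- a point of `Z` over `u`
  have hv₁ : AlgSp.Points.map ((AlgSp.yon S).map kV ≫ b) (AlgSp.Points.ofScheme VO ⟨v₀, hvV⟩) =
      AlgSp.Points.map f.hom (AlgSp.Points.ofPt φ u) := by
    rw [← AlgSp.Points.ofPt_eq_map_ofScheme, ← AlgSp.Points.map_ofPt,
      Groth.Agent.Lib.T2H1.UnivBdd.ofPt_yon_map, ← AlgSp.Points.ofPt_eq_map_ofScheme, ← hv₀]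
    rfl
  obtain ⟨z, hz, -⟩ := Groth.Agent.S10175.exists_point_of_isPullback sqZ
    (AlgSp.Points.ofPt φ u) (AlgSp.Points.ofScheme VO ⟨v₀, hvV⟩) hv₁.symm
  obtain ⟨pt, -, hpt⟩ := Groth.Agent.S10175.exists_point_of_isPullback sqP z
    (AlgSp.Points.ofScheme U u) (by rw [hz, ← AlgSp.Points.ofPt_eq_map_ofScheme])
  obtain ⟨p0, rfl⟩ := (AlgSp.Points.schemeEquiv P).surjective pt
  have hp0 : p1.left p0 = u := by
    have h1 : AlgSp.Points.ofPt ((AlgSp.yon S).map p1) p0 = AlgSp.Points.ofScheme U u := by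
      rw [AlgSp.Points.ofPt_eq_map_ofScheme]; exact hpt
    rw [Groth.Agent.Lib.T2H1.UnivBdd.ofPt_yon_map] at h1
    exact (AlgSp.Points.schemeEquiv U).injective h1
  have := Groth.Agent.Lib.T2H1.UnivBdd.exists_local_chart X φ z1 ⟨n, hz1n⟩ p1 p2 sqP.w p0
  rw [hp0] at this
  exact this

end Groth.Agent.S10431
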