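import Groth.Statements.S10439
import Mathlib
import Groth.Agent.S10339
import Groth.Agent.Lib.T2H7FinLocus

set_option autoImplicit false
universe u
open CategoryTheory CategoryTheory.Limits AlgebraicGeometry Topology TopologicalSpace
open AlgSp

namespace Groth.Agent.S10439

/-- A birational morphism between decent algebraic spaces over a scheme S, each with only finitely many
irreducible components, is dominant: the image of |X| is dense in |Y|. -/
theorem result {S : Scheme.{u}} {X Y : AlgSp.Space S} (f : X ⟶ Y)
    (hX : AlgSp.IsDecent X.obj) (hY : AlgSp.IsDecent Y.obj)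
    (hXf : (irreducibleComponents (AlgSp.Points X.obj)).Finite)
    (hYf : (irreducibleComponents (AlgSp.Points Y.obj)).Finite)
    (hf : W4stk3decentspacesp2.IsBirational f.hom) : AlgSp.IsDominantMor f.hom := by
  have hsob : QuasiSober (AlgSp.Points Y.obj) := Groth.Agent.S10339.result Y hY
  intro y
  obtain ⟨η, hη, hηy⟩ := Groth.Agent.Lib.T2H7.FinLocus.exists_generic_specializes y
  obtain ⟨ξ, -, hξ⟩ := hf.bijOn.surjOn (show η ∈ genericPoints (AlgSp.Points Y.obj) from hη)
  have h1 : ({η} : Set (AlgSp.Points Y.obj)) ⊆ Set.range (AlgSp.Points.map f.hom) :=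
    Set.singleton_subset_iff.2 ⟨ξ, hξ⟩
  exact closure_mono h1 (specializes_iff_mem_closure.1 hηy)

end Groth.Agent.S10439
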