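import Groth.Statements.S10442
import Groth.Agent.Lib.T2H1DecentBranch

set_option autoImplicit false
universe u
open CategoryTheory CategoryTheory.Limits AlgebraicGeometry Topology TopologicalSpace
open AlgSp

namespace Groth.Agent.S10442

/-- For a decent algebraic space X over a scheme S, x ∈ |X| and n ≥ 1, fix an elementary etale
neighbourhood (U₀, u₀) of (X, x) and a henselization R of O_{U₀, u₀} (a model of the henselian local
ring at x). The following are equivalent: (1) over all elementary etale neighbourhoods (U, u) of (X,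
x), O_{U, u} has at most n minimal primes, with the value n attained; (2) the same for the number of
irreducible components of U through u; (3) the same for the branch number of U at u; (4) R has
exactly n minimal primes. -/
theorem result {S : Scheme.{u}} (X : AlgSp.Space S)
    (hX : AlgSp.IsDecent X.obj) (x : AlgSp.Points X.obj) (n : ℕ) (hn : 1 ≤ n) {U₀ : Over S}
    (a₀ : (AlgSp.yon S).obj U₀ ⟶ X.obj) (u₀ : ↥U₀.left) (h₀ : AlgSp.IsElemEtaleNbhd a₀ u₀ x)
    (R : Type u) [CommRing R] [IsLocalRing R] [Algebra ↥(U₀.left.presheaf.stalk u₀) R]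
    [IsLocalHom (algebraMap ↥(U₀.left.presheaf.stalk u₀) R)] [Hensel.IsHenselization ↥(U₀.left.presheaf.stalk u₀) R] :
    (((∀ (U : Over S) (a : (AlgSp.yon S).obj U ⟶ X.obj) (u : ↥U.left), AlgSp.IsElemEtaleNbhd a u x →
        (minimalPrimes ↥(U.left.presheaf.stalk u)).encard ≤ n) ∧
      (∃ (U : Over S) (a : (AlgSp.yon S).obj U ⟶ X.obj) (u : ↥U.left), AlgSp.IsElemEtaleNbhd a u x ∧
        (minimalPrimes ↥(U.left.presheaf.stalk u)).encard = n)) ↔
     ((∀ (U : Over S) (a : (AlgSp.yon S).obj U ⟶ X.obj) (u : ↥U.left), AlgSp.IsElemEtaleNbhd a u x →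
        {Z : Set ↥U.left | Z ∈ irreducibleComponents ↥U.left ∧ u ∈ Z}.encard ≤ n) ∧
      (∃ (U : Over S) (a : (AlgSp.yon S).obj U ⟶ X.obj) (u : ↥U.left), AlgSp.IsElemEtaleNbhd a u x ∧
        {Z : Set ↥U.left | Z ∈ irreducibleComponents ↥U.left ∧ u ∈ Z}.encard = n))) ∧
    (((∀ (U : Over S) (a : (AlgSp.yon S).obj U ⟶ X.obj) (u : ↥U.left), AlgSp.IsElemEtaleNbhd a u x →
        {Z : Set ↥U.left | Z ∈ irreducibleComponents ↥U.left ∧ u ∈ Z}.encard ≤ n) ∧
      (∃ (U : Over S) (a : (AlgSp.yon S).obj U ⟶ X.obj) (u : ↥U.left), AlgSp.IsElemEtaleNbhd a u x ∧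
        {Z : Set ↥U.left | Z ∈ irreducibleComponents ↥U.left ∧ u ∈ Z}.encard = n)) ↔
     ((∀ (U : Over S) (a : (AlgSp.yon S).obj U ⟶ X.obj) (u : ↥U.left), AlgSp.IsElemEtaleNbhd a u x →
        Brnch.numBranchesAt U.left u ≤ n) ∧
      (∃ (U : Over S) (a : (AlgSp.yon S).obj U ⟶ X.obj) (u : ↥U.left), AlgSp.IsElemEtaleNbhd a u x ∧
        Brnch.numBranchesAt U.left u = n))) ∧
    (((∀ (U : Over S) (a : (AlgSp.yon S).obj U ⟶ X.obj) (u : ↥U.left), AlgSp.IsElemEtaleNbhd a u x →
        Brnch.numBranchesAt U.left u ≤ n) ∧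
      (∃ (U : Over S) (a : (AlgSp.yon S).obj U ⟶ X.obj) (u : ↥U.left), AlgSp.IsElemEtaleNbhd a u x ∧
        Brnch.numBranchesAt U.left u = n)) ↔
     (minimalPrimes R).encard = n) := by
  obtain ⟨F1, F2, F3⟩ := Groth.Agent.Lib.T2H1.DecentBranch.package X hX x a₀ u₀ h₀ R
  have key : ((∀ (U : Over S) (a : (AlgSp.yon S).obj U ⟶ X.obj) (u : ↥U.left),
        AlgSp.IsElemEtaleNbhd a u x → (minimalPrimes ↥(U.left.presheaf.stalk u)).encard ≤ n) ∧
      (∃ (U : Over S) (a : (AlgSp.yon S).obj U ⟶ X.obj) (u : ↥U.left),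
        AlgSp.IsElemEtaleNbhd a u x ∧ (minimalPrimes ↥(U.left.presheaf.stalk u)).encard = n)) ↔
      (minimalPrimes R).encard = n := by
    constructor
    · rintro ⟨hall, U, a, u, hn', hmn⟩
      apply le_antisymm
      · by_contra hlt
        rw [not_le] at hlt
        have h1 : ((n + 1 : ℕ) : ℕ∞) ≤ (minimalPrimes R).encard := by
          have := Order.add_one_le_of_lt hlt
          exact_mod_cast this
        obtain ⟨U', a', u', hn'', hle⟩ := F3 (n + 1) h1
        have h2 := hle.trans (hall U' a' u' hn'')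
        have h3 : n + 1 ≤ n := by exact_mod_cast h2
        exact absurd h3 (Nat.not_succ_le_self n)
      · rw [← hmn]
        exact F2 U a u hn'
    · intro hN
      refine ⟨fun U a u hn' => hN ▸ F2 U a u hn', ?_⟩
      obtain ⟨U, a, u, hn', hle⟩ := F3 n hN.ge
      exact ⟨U, a, u, hn', le_antisymm (hN ▸ F2 U a u hn') hle⟩
  have key3 : ((∀ (U : Over S) (a : (AlgSp.yon S).obj U ⟶ X.obj) (u : ↥U.left),
        AlgSp.IsElemEtaleNbhd a u x → Brnch.numBranchesAt U.left u ≤ n) ∧
      (∃ (U : Over S) (a : (AlgSp.yon S).obj U ⟶ X.obj) (u : ↥U.left),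
        AlgSp.IsElemEtaleNbhd a u x ∧ Brnch.numBranchesAt U.left u = n)) ↔
      (minimalPrimes R).encard = n := by
    constructor
    · rintro ⟨-, U, a, u, hn', hb⟩
      rw [← hb]
      exact (F1 U a u hn').symm
    · intro hN
      refine ⟨fun U a u hn' => ?_, ⟨U₀, a₀, u₀, h₀, (F1 _ _ _ h₀).trans hN⟩⟩
      have := F1 U a u hn'
      unfold Brnch.numBranchesAt
      rw [this, hN]
  refine ⟨?_, ?_, key3⟩
  · simp only [Groth.Agent.Lib.T2H1.BranchCount.encard_irreducibleComponents_mem]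
  · simp only [Groth.Agent.Lib.T2H1.BranchCount.encard_irreducibleComponents_mem]
    exact key.trans key3.symm

end Groth.Agent.S10442
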