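import Groth.Statements.S10444
import Groth.Agent.Lib.T2H1FibreQF

set_option autoImplicit false
universe u
open CategoryTheory CategoryTheory.Limits AlgebraicGeometry Topology TopologicalSpace
open AlgSp

namespace Groth.Agent.S10444


open Groth.Agent.Lib.T2H1.FibreQF Groth.Agent.Lib.T2H1.FieldSp

/-- Take f : X ⟶ Y locally of finite type between algebraic spaces over a scheme S, a field-valued point
Spec k ⟶ Y whose class y ∈ |Y| lies in the image of |f|, the fibre product X_k = Spec k ×_Y X, and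
the fibre F = |f|⁻¹(y) ⊆ |X| with the induced topology. Numbering the conditions (1) F finite, (2) F
discrete, (3) dim F = 0, (4) |X_k| finite, (5) |X_k| discrete, (6) dim |X_k| = 0, (7) dim X_k = 0,
(8) f quasi-finite at all points over y: (5) ⇔ (7) ⇔ (8); (5) ⇒ (6), with the converse when X_k is
decent; (4) ⇒ (5) when X_k is decent; (4) ⇒ (1); (2) ⇒ (3); if Y is decent then (2) ⇔ (5); if X and
Y are decent then (3) ⇒ (2) and (1) ⇒ (2). (The published statement asserts (5) ⇔ (6) for every f
and (2) ⇔ (3) whenever Y is decent, and does not exclude an empty fibre; for the quotient of the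
affine line over a field of characteristic zero by an infinite cyclic group of translations, mapping
to the point, the space of points is infinite and indiscrete, so (3) and (6) hold while (2) and (5)
fail, and for y outside the image (5) holds while (6) and (7) fail; hence the decency hypotheses on
those two converses and the hypothesis that y is in the image. Finiteness of |X_k| for an arbitrary
field k in the class of y is not derived here from (1).) -/
theorem result {S : Scheme.{u}} {X Y : AlgSp.Space S} (f : X ⟶ Y)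
    (hf : AlgSp.LocP @LocallyOfFiniteType f.hom) (r : AlgSp.FieldPt Y.obj)
    (hy : AlgSp.Points.mk r ∈ Set.range (AlgSp.Points.map f.hom)) (Xk : AlgSp.Space S) (fst : Xk ⟶ X)
    (snd : Xk.obj ⟶ (AlgSp.yon S).obj r.pt) (hsq : IsPullback fst.hom snd f.hom r.toHom) :
    (DiscreteTopology (AlgSp.Points Xk.obj) ↔ AlgSp.dim Xk.obj = 0) ∧
    (AlgSp.dim Xk.obj = 0 ↔
      ∀ x : AlgSp.Points X.obj, AlgSp.Points.map f.hom x = AlgSp.Points.mk r → AlgSp.HasAtMor (fun U _ h u => ∃ W : U.Opens, u ∈ W ∧ LocallyQuasiFinite (W.ι ≫ h) ∧ LocallyOfFiniteType (W.ι ≫ h)) f.hom x) ∧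
    (DiscreteTopology (AlgSp.Points Xk.obj) → topologicalKrullDim (AlgSp.Points Xk.obj) = 0) ∧
    (AlgSp.IsDecent Xk.obj → topologicalKrullDim (AlgSp.Points Xk.obj) = 0 →
      DiscreteTopology (AlgSp.Points Xk.obj)) ∧
    (AlgSp.IsDecent Xk.obj → Finite (AlgSp.Points Xk.obj) → DiscreteTopology (AlgSp.Points Xk.obj)) ∧
    (Finite (AlgSp.Points Xk.obj) → (AlgSp.Points.map f.hom ⁻¹' {AlgSp.Points.mk r}).Finite) ∧
    (DiscreteTopology ↥(AlgSp.Points.map f.hom ⁻¹' {AlgSp.Points.mk r}) → topologicalKrullDim ↥(AlgSp.Points.map f.hom ⁻¹' {AlgSp.Points.mk r}) = 0) ∧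
    (AlgSp.IsDecent Y.obj → (DiscreteTopology ↥(AlgSp.Points.map f.hom ⁻¹' {AlgSp.Points.mk r}) ↔ DiscreteTopology (AlgSp.Points Xk.obj))) ∧
    (AlgSp.IsDecent Y.obj → AlgSp.IsDecent X.obj →
      (topologicalKrullDim ↥(AlgSp.Points.map f.hom ⁻¹' {AlgSp.Points.mk r}) = 0 → DiscreteTopology ↥(AlgSp.Points.map f.hom ⁻¹' {AlgSp.Points.mk r})) ∧
        ((AlgSp.Points.map f.hom ⁻¹' {AlgSp.Points.mk r}).Finite → DiscreteTopology ↥(AlgSp.Points.map f.hom ⁻¹' {AlgSp.Points.mk r}))) := by
  have hch := goodCharts_fibre f r Xk fst snd hsq hf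
  obtain ⟨x₀, hx₀⟩ := hy
  obtain ⟨z₀, hz₀⟩ := exists_lift_point f r Xk fst snd hsq x₀ hx₀
  haveI : Nonempty (AlgSp.Points Xk.obj) := ⟨z₀⟩
  have hgl := global Xk hch
  have hdq := discrete_iff_qf f r Xk fst snd hsq hf
  refine ⟨hgl.1, ?_, hgl.2.1, hgl.2.2.1, ?_, ?_, ?_, ?_, ?_⟩
  · rw [← hgl.1]
    exact hdq
  · intro hdec hfin
    exact hgl.1.2 (hgl.2.2.2 hdec hfin)
  · intro hfin
    refine (Set.finite_range (AlgSp.Points.map fst.hom)).subset ?_
    intro x hx
    exact exists_lift_point f r Xk fst snd hsq x hx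
  · intro hdisc
    haveI : Nonempty ↥(AlgSp.Points.map f.hom ⁻¹' {AlgSp.Points.mk r}) := ⟨⟨x₀, hx₀⟩⟩
    exact le_antisymm (topologicalKrullDim_zero_of_discreteTopology _)
      Groth.Agent.Lib.Helper7.TopDim.topologicalKrullDim_nonneg
  · intro hY
    obtain ⟨r', Xk', fst', snd', hsq', hr', φ, hφ⟩ := exists_fibre_homeo f hY r
    have hdq' := discrete_iff_qf f r' Xk' fst' snd' hsq' hf
    rw [hr'] at hdq'
    have h1 : DiscreteTopology ↥(AlgSp.Points.map f.hom ⁻¹' {AlgSp.Points.mk r}) ↔
        DiscreteTopology (AlgSp.Points Xk'.obj) :=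
      ⟨fun h => DiscreteTopology.of_continuous_injective φ.continuous φ.injective,
        fun h => DiscreteTopology.of_continuous_injective φ.symm.continuous φ.symm.injective⟩
    rw [h1, hdq', hdq]
  · intro hY hX
    obtain ⟨r', Xk', fst', snd', hsq', hr', φ, hφ⟩ := exists_fibre_homeo f hY r
    have hdec' : AlgSp.IsDecent Xk'.obj :=
      Groth.Agent.S10380.result f hX r'.toHom fst'.hom snd' hsq'
    have hch' := goodCharts_fibre f r' Xk' fst' snd' hsq' hf
    haveI : Nonempty (AlgSp.Points Xk'.obj) := ⟨φ.symm ⟨x₀, hx₀⟩⟩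
    have hgl' := global Xk' hch'
    constructor
    · intro hdim
      have h2 : topologicalKrullDim (AlgSp.Points Xk'.obj) = 0 := by
        rw [IsHomeomorph.topologicalKrullDim_eq _ φ.isHomeomorph]
        exact hdim
      haveI := hgl'.2.2.1 hdec' h2
      exact DiscreteTopology.of_continuous_injective φ.symm.continuous φ.symm.injective
    · intro hfin
      haveI : Finite ↥(AlgSp.Points.map f.hom ⁻¹' {AlgSp.Points.mk r}) := hfin.to_subtype
      haveI : Finite (AlgSp.Points Xk'.obj) := Finite.of_injective φ φ.injective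
      haveI := hgl'.1.2 (hgl'.2.2.2 hdec' inferInstance)
      exact DiscreteTopology.of_continuous_injective φ.symm.continuous φ.symm.injective

end Groth.Agent.S10444
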