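import Groth.Statements.S10445
import Groth.Agent.Lib.T2H1FibreQF

set_option autoImplicit false
universe u
open CategoryTheory CategoryTheory.Limits AlgebraicGeometry Topology TopologicalSpace
open AlgSp

namespace Groth.Agent.S10445


open Groth.Agent.Lib.T2H1.FibreQF Groth.Agent.Lib.T2H1.FieldSp

/-- transport of "closed without proper generization" along a homeomorphism. -/
lemma closed_nogen_iff {A B : Type*} [TopologicalSpace A] [TopologicalSpace B] (φ : A ≃ₜ B)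
    (a : A) :
    (IsClosed ({φ a} : Set B) ∧ ∀ w : B, w ⤳ φ a → w = φ a) ↔
      (IsClosed ({a} : Set A) ∧ ∀ w : A, w ⤳ a → w = a) := by
  have h1 : IsClosed ({φ a} : Set B) ↔ IsClosed ({a} : Set A) := by
    rw [← φ.isClosed_image, Set.image_singleton]
  rw [h1]
  refine and_congr_right fun _ => ?_
  constructor
  · intro h w hw
    have := h (φ w) (φ.isInducing.specializes_iff.2 hw)
    exact φ.injective this
  · intro h w hw
    obtain ⟨w', rfl⟩ := φ.surjective w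
    rw [h w' (φ.isInducing.specializes_iff.1 hw)]

/-- Take f : X ⟶ Y locally of finite type between algebraic spaces over a scheme S, a field-valued point
Spec k ⟶ Y with class y, the fibre product X_k = Spec k ×_Y X, x ∈ |X| over y, x̃ ∈ |X_k| over x,
and F = |f|⁻¹(y) with the induced topology. Numbering the conditions (1) dim_x F = 0, (2) x isolated
in F, (3) x closed in F with no proper generization in F, (4) dim_{x̃} |X_k| = 0, (5) x̃ isolated in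
|X_k|, (6) x̃ closed in |X_k| with no proper generization, (7) dim_{x̃}(X_k) = 0 (local dimension of
an etale chart), (8) f quasi-finite at x: (5) ⇔ (6) ⇔ (7) ⇔ (8); (4) ⇔ (5) when X_k is decent; (2) ⇔
(5) and (3) ⇔ (6) when Y is decent; (1) ⇔ (2) when X and Y are decent. -/
theorem result {S : Scheme.{u}} {X Y : AlgSp.Space S} (f : X ⟶ Y)
    (hf : AlgSp.LocP @LocallyOfFiniteType f.hom) (r : AlgSp.FieldPt Y.obj) (Xk : AlgSp.Space S) (fst : Xk ⟶ X)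
    (snd : Xk.obj ⟶ (AlgSp.yon S).obj r.pt) (hsq : IsPullback fst.hom snd f.hom r.toHom)
    (x : AlgSp.Points X.obj) (hx : x ∈ (AlgSp.Points.map f.hom ⁻¹' {AlgSp.Points.mk r})) (xt : AlgSp.Points Xk.obj)
    (hxt : AlgSp.Points.map fst.hom xt = x) :
    ((IsOpen ({xt} : Set (AlgSp.Points Xk.obj)) ↔
      IsClosed ({xt} : Set (AlgSp.Points Xk.obj)) ∧ ∀ x' : AlgSp.Points Xk.obj, x' ⤳ xt → x' = xt) ∧
    (IsOpen ({xt} : Set (AlgSp.Points Xk.obj)) ↔ AlgSp.HasAt (fun U u => FlatMor.localDim ↥U u = 0) Xk.obj xt) ∧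
    (AlgSp.HasAt (fun U u => FlatMor.localDim ↥U u = 0) Xk.obj xt ↔ AlgSp.HasAtMor (fun U _ h u => ∃ W : U.Opens, u ∈ W ∧ LocallyQuasiFinite (W.ι ≫ h) ∧ LocallyOfFiniteType (W.ι ≫ h)) f.hom x) ∧
    (AlgSp.IsDecent Xk.obj →
      (FlatMor.localDim (AlgSp.Points Xk.obj) xt = 0 ↔ IsOpen ({xt} : Set (AlgSp.Points Xk.obj)))) ∧
    (AlgSp.IsDecent Y.obj →
      (IsOpen ({(⟨x, hx⟩ : ↥(AlgSp.Points.map f.hom ⁻¹' {AlgSp.Points.mk r}))} : Set ↥(AlgSp.Points.map f.hom ⁻¹' {AlgSp.Points.mk r})) ↔ IsOpen ({xt} : Set (AlgSp.Points Xk.obj))) ∧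
      ((IsClosed ({(⟨x, hx⟩ : ↥(AlgSp.Points.map f.hom ⁻¹' {AlgSp.Points.mk r}))} : Set ↥(AlgSp.Points.map f.hom ⁻¹' {AlgSp.Points.mk r})) ∧ ∀ x' : ↥(AlgSp.Points.map f.hom ⁻¹' {AlgSp.Points.mk r}), x' ⤳ (⟨x, hx⟩ : ↥(AlgSp.Points.map f.hom ⁻¹' {AlgSp.Points.mk r})) → x' = (⟨x, hx⟩ : ↥(AlgSp.Points.map f.hom ⁻¹' {AlgSp.Points.mk r}))) ↔
        IsClosed ({xt} : Set (AlgSp.Points Xk.obj)) ∧ ∀ x' : AlgSp.Points Xk.obj, x' ⤳ xt → x' = xt)) ∧
    (AlgSp.IsDecent Y.obj → AlgSp.IsDecent X.obj →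
      (FlatMor.localDim ↥(AlgSp.Points.map f.hom ⁻¹' {AlgSp.Points.mk r}) (⟨x, hx⟩ : ↥(AlgSp.Points.map f.hom ⁻¹' {AlgSp.Points.mk r})) = 0 ↔ IsOpen ({(⟨x, hx⟩ : ↥(AlgSp.Points.map f.hom ⁻¹' {AlgSp.Points.mk r}))} : Set ↥(AlgSp.Points.map f.hom ⁻¹' {AlgSp.Points.mk r}))))) := by
  have hch := goodCharts_fibre f r Xk fst snd hsq hf
  have hpw := pointwise Xk hch xt
  have hqf := isOpen_iff_qf f r Xk fst snd hsq hf xt
  rw [hxt] at hqf
  -- the situation for decent `Y`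
  have hdecY : AlgSp.IsDecent Y.obj → ∃ (r' : AlgSp.FieldPt Y.obj) (Xk' : AlgSp.Space S)
      (fst' : Xk' ⟶ X) (snd' : Xk'.obj ⟶ (AlgSp.yon S).obj r'.pt)
      (φ : AlgSp.Points Xk'.obj ≃ₜ ↥(AlgSp.Points.map f.hom ⁻¹' {AlgSp.Points.mk r}))
      (x' : AlgSp.Points Xk'.obj),
      IsPullback fst'.hom snd' f.hom r'.toHom ∧ φ x' = ⟨x, hx⟩ ∧
      (IsOpen ({x'} : Set (AlgSp.Points Xk'.obj)) ↔
        IsOpen ({xt} : Set (AlgSp.Points Xk.obj))) := by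
    intro hY
    obtain ⟨r', Xk', fst', snd', hsq', hr', φ, hφ⟩ := exists_fibre_homeo f hY r
    have hφx' : φ (φ.symm ⟨x, hx⟩) = ⟨x, hx⟩ := φ.apply_symm_apply _
    have hfx' : AlgSp.Points.map fst'.hom (φ.symm ⟨x, hx⟩) = x := by
      rw [← hφ, hφx']
    have hqf' := isOpen_iff_qf f r' Xk' fst' snd' hsq' hf (φ.symm ⟨x, hx⟩)
    rw [hfx'] at hqf'
    exact ⟨r', Xk', fst', snd', φ, φ.symm ⟨x, hx⟩, hsq', hφx', hqf'.trans hqf.symm⟩
  refine ⟨hpw.1, hpw.2.1, ?_, hpw.2.2, ?_, ?_⟩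
  · rw [← hpw.2.1]
    exact hqf
  · intro hY
    obtain ⟨r', Xk', fst', snd', φ, x', hsq', hφx', hopen'⟩ := hdecY hY
    have hch' := goodCharts_fibre f r' Xk' fst' snd' hsq' hf
    have hpw' := pointwise Xk' hch' x'
    have hopen : IsOpen ({(⟨x, hx⟩ : ↥(AlgSp.Points.map f.hom ⁻¹' {AlgSp.Points.mk r}))} :
        Set ↥(AlgSp.Points.map f.hom ⁻¹' {AlgSp.Points.mk r})) ↔
        IsOpen ({x'} : Set (AlgSp.Points Xk'.obj)) := by
      rw [← φ.isOpen_image, Set.image_singleton, hφx']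
    refine ⟨hopen.trans hopen', ?_⟩
    rw [← hφx', closed_nogen_iff φ x', ← hpw'.1, ← hpw.1]
    exact hopen'
  · intro hY hX
    obtain ⟨r', Xk', fst', snd', φ, x', hsq', hφx', hopen'⟩ := hdecY hY
    have hch' := goodCharts_fibre f r' Xk' fst' snd' hsq' hf
    have hpw' := pointwise Xk' hch' x'
    have hdec' : AlgSp.IsDecent Xk'.obj :=
      Groth.Agent.S10380.result f hX r'.toHom fst'.hom snd' hsq'
    have hopen : IsOpen ({(⟨x, hx⟩ : ↥(AlgSp.Points.map f.hom ⁻¹' {AlgSp.Points.mk r}))} :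
        Set ↥(AlgSp.Points.map f.hom ⁻¹' {AlgSp.Points.mk r})) ↔
        IsOpen ({x'} : Set (AlgSp.Points Xk'.obj)) := by
      rw [← φ.isOpen_image, Set.image_singleton, hφx']
    rw [hopen, ← hpw'.2.2 hdec', Groth.Agent.Lib.Helper4.FibDim.localDim_eq_of_homeomorph φ x',
      hφx']

end Groth.Agent.S10445
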