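import Groth.Statements.S10446
import Mathlib
import Groth.Agent.Lib.T2H7GenFinD
import Groth.Agent.Lib.T2H7GenFinE
import Groth.Agent.Lib.T2H7GenFinF
import Groth.Agent.Lib.T2H1FieldQuotE
import Groth.Agent.Lib.Helper12OpenSub
import Groth.Agent.Lib.Helper12OpenSub2
import Groth.Agent.Lib.Helper12LargestOpen
import Groth.Agent.S9874
import Groth.Agent.S10175
import Groth.Agent.S10176
import Groth.Agent.S10350
import Groth.Agent.S10406
import Groth.Agent.S10448

set_option autoImplicit false
universe u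
open CategoryTheory CategoryTheory.Limits AlgebraicGeometry Topology TopologicalSpace
open AlgSp

namespace Groth.Agent.S10446

/-- (1) ⇔ (3): let S be a scheme with quasi-separated underlying space, f : X ⟶ Y a quasi-separated
morphism of algebraic spaces over S that is locally of finite type, with Y quasi-separated over S,
and y ∈ |Y| a point of codimension 0. Then |f|⁻¹(y) is finite if and only if f restricts to a finite
morphism X' ⟶ Y' between an open subspace X' of X containing the whole fibre |f|⁻¹(y) and an open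
subspace Y' of Y through y. (The published statement assumes Y quasi-separated in the absolute
sense; this row assumes S has quasi-separated underlying space and Y quasi-separated over S. Its
condition on the finiteness of |Spec k ×_Y X| is not part of this row.) -/
theorem result {S : Scheme.{u}} [QuasiSeparatedSpace ↥S] {X Y : AlgSp.Space S}
    (f : X ⟶ Y) (hqs : AlgSp.IsQuasiSeparatedMor f.hom) (hft : AlgSp.LocP @LocallyOfFiniteType f.hom)
    (hY : AlgSp.IsQuasiSeparatedSp Y.obj) (y : AlgSp.Points Y.obj)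
    (hy : AlgSp.HasAt (fun U u => ringKrullDim ↥(U.presheaf.stalk u) = 0) Y.obj y) :
    (AlgSp.Points.map f.hom ⁻¹' {y}).Finite ↔
      ∃ (X' Y' : AlgSp.Space S) (i : X' ⟶ X) (j : Y' ⟶ Y) (f' : X' ⟶ Y'), AlgSp.RepWith @IsOpenImmersion i.hom ∧
        AlgSp.RepWith @IsOpenImmersion j.hom ∧ f' ≫ j = i ≫ f ∧ y ∈ Set.range (AlgSp.Points.map j.hom) ∧
          AlgSp.Points.map f.hom ⁻¹' {y} ⊆ Set.range (AlgSp.Points.map i.hom) ∧ AlgSp.IsFiniteMor f'.hom := by
  classical
  constructor
  · intro hfin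
    have hYdec : AlgSp.IsDecent Y.obj := Groth.Agent.S10350.result Y hY
    obtain ⟨W, a, hWaff, hae, hFsub⟩ :=
      Groth.Agent.Lib.T2H7.GenFinF.exists_affine_chart_of_finite X.property _ hfin
    have : IsAffine W.left := hWaff
    let N : Set (AlgSp.Points X.obj) := Set.range (AlgSp.Points.ofPt a)
    have hN : IsOpen N := (Groth.Agent.S10176.isOpenMap_ofPt a hae).isOpen_range
    have hqf : ∀ x ∈ N, AlgSp.Points.map f.hom x = y → AlgSp.HasAtMor (fun U _ h u =>
        ∃ W : U.Opens, u ∈ W ∧ LocallyQuasiFinite (W.ι ≫ h) ∧ LocallyOfFiniteType (W.ι ≫ h))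
          f.hom x := fun x _ hx =>
      Groth.Agent.Lib.T2H7.GenFinE.hasAtMor_qf_of_finite_fibre f hqs hft hYdec y hfin x hx
    let ι₀ : Groth.Agent.Lib.Helper12.OpenSub.obj X.obj N ⟶ X.obj :=
      Groth.Agent.Lib.Helper12.OpenSub.incl X.obj N
    have hι₀ : AlgSp.RepWith @IsOpenImmersion ι₀ :=
      Groth.Agent.Lib.Helper12.OpenSub.repWith_incl hN
    have hX'' : AlgSp.IsAlgSpace (Groth.Agent.Lib.Helper12.OpenSub.obj X.obj N) :=
      Groth.Agent.Lib.Helper12.OpenSub.isAlgSpace_obj X.property hN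
    let f₀ : Groth.Agent.Lib.Helper12.OpenSub.obj X.obj N ⟶ Y.obj := ι₀ ≫ f.hom
    -- the chart of the open subspace
    obtain ⟨c'', hc''⟩ := (Groth.Agent.Lib.Helper12.OpenSub.factor_iff N a).2 (fun t => ⟨t, rfl⟩)
    have sqp : IsPullback (𝟙 _) c'' a ι₀ := by
      have h0 := Groth.Agent.Lib.Helper12.LargestOpen.isPullback_id_of_mono c'' ι₀
      rwa [hc''] at h0
    have hc''e : AlgSp.RepWith @Etale c'' := MorphismProperty.of_isPullback sqp hae
    have hinj : Function.Injective (AlgSp.Points.map ι₀) :=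
      Groth.Agent.Lib.Helper12.LargestOpen.injective_map_of_open ι₀ hι₀
    have hc''s : AlgSp.RepWith @Surjective c'' := by
      refine ⟨hc''e.1, fun T Q gT fstQ sndQ sqQ => ⟨fun t => ?_⟩⟩
      have hmem : AlgSp.Points.map ι₀ (AlgSp.Points.ofPt gT t) ∈ N := by
        have h1 : AlgSp.Points.map ι₀ (AlgSp.Points.ofPt gT t) ∈
            Set.range (AlgSp.Points.map ι₀) := ⟨_, rfl⟩
        rwa [Groth.Agent.Lib.Helper12.OpenSub.range_map_incl] at h1
      obtain ⟨w'', hw''⟩ := hmem
      have e1 : AlgSp.Points.ofPt c'' w'' = AlgSp.Points.ofPt gT t := by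
        apply hinj
        rw [AlgSp.Points.map_ofPt, hc'']
        exact hw''
      obtain ⟨fQ, rfl⟩ := (AlgSp.yon S).map_surjective fstQ
      obtain ⟨z, -, hz⟩ := Groth.Agent.S10176.exists_point_of_isPullback_yon sqQ w'' t e1
      exact ⟨z, hz⟩
    have hqcN : ∀ (VA : Over S), IsAffine VA.left → ∀ (b : (AlgSp.yon S).obj VA ⟶ Y.obj),
        AlgSp.RepWith @Etale b → AlgSp.IsQuasiCompactSp (pullback f₀ b) := by
      intro VA hVA b hbe
      have := hVA
      obtain ⟨Q, q₂, q₁', sqQ⟩ := (Y.property.representable_from_yon (c'' ≫ f₀)) b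
      obtain ⟨q₁, rfl⟩ := (AlgSp.yon S).map_surjective q₁'
      have : QuasiCompact W.hom := inferInstance
      have : CompactSpace ↥Q.left :=
        Groth.Agent.Lib.T2H1.FieldQuot.compactSpace_pullback_of_isQuasiSeparatedSp hY (c'' ≫ f₀) b
          q₁ q₂ sqQ
      let d : (AlgSp.yon S).obj Q ⟶ pullback f₀ b :=
        pullback.lift ((AlgSp.yon S).map q₁ ≫ c'') ((AlgSp.yon S).map q₂)
          (by rw [Category.assoc]; exact sqQ.w)
      have hd1 : d ≫ pullback.fst f₀ b = (AlgSp.yon S).map q₁ ≫ c'' := pullback.lift_fst _ _ _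
      have hd2 : d ≫ pullback.snd f₀ b = (AlgSp.yon S).map q₂ := pullback.lift_snd _ _ _
      have sqd : IsPullback d ((AlgSp.yon S).map q₁) (pullback.fst f₀ b) c'' := by
        refine IsPullback.of_right ?_ hd1 (IsPullback.of_hasPullback f₀ b).flip
        rw [hd2]
        exact sqQ.flip
      exact ⟨Q, d, MorphismProperty.of_isPullback sqd.flip hc''e,
        MorphismProperty.of_isPullback sqd.flip hc''s, inferInstance⟩
    obtain ⟨Y', j, hj, hyj, hfin'⟩ :=
      Groth.Agent.Lib.T2H7.GenFinD.exists_open_finite_of_open f hqs hft N hN hqcN y hy hqf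
    have sqX' : IsPullback (pullback.fst f₀ j.hom) (pullback.snd f₀ j.hom) f₀ j.hom :=
      IsPullback.of_hasPullback _ _
    have hX' : AlgSp.IsAlgSpace (pullback f₀ j.hom) :=
      Groth.Agent.S9874.isAlgSpace_of_isPullback Y.property.diag hX'' Y'.property sqX'
    let X' : AlgSp.Space S := ⟨pullback f₀ j.hom, hX'⟩
    let i : X' ⟶ X := ObjectProperty.homMk (pullback.fst f₀ j.hom ≫ ι₀)
    let f' : X' ⟶ Y' := ObjectProperty.homMk (pullback.snd f₀ j.hom)
    refine ⟨X', Y', i, j, f', ?_, hj, ?_, hyj, ?_, hfin'⟩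
    · exact (AlgSp.RepWith @IsOpenImmersion).comp_mem _ _
        (MorphismProperty.of_isPullback sqX'.flip hj) hι₀
    · apply ObjectProperty.hom_ext
      show pullback.snd f₀ j.hom ≫ j.hom = (pullback.fst f₀ j.hom ≫ ι₀) ≫ f.hom
      rw [Category.assoc]
      exact sqX'.w.symm
    · intro x hx
      have hxN : x ∈ N := hFsub hx
      have h1 : x ∈ Set.range (AlgSp.Points.map ι₀) := by
        rw [Groth.Agent.Lib.Helper12.OpenSub.range_map_incl]; exact hxN
      obtain ⟨x'', rfl⟩ := h1
      obtain ⟨y', hy'⟩ := hyj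
      have e : AlgSp.Points.map f₀ x'' = AlgSp.Points.map j.hom y' := by
        rw [hy']
        exact (AlgSp.Points.map_comp ι₀ f.hom x'').trans hx
      obtain ⟨p, hp1, -⟩ := Groth.Agent.S10175.exists_point_of_isPullback sqX' x'' y' e
      refine ⟨p, ?_⟩
      show AlgSp.Points.map (pullback.fst f₀ j.hom ≫ ι₀) p = _
      rw [AlgSp.Points.map_comp, hp1]
  · rintro ⟨X', Y', i, j, f', hi, hj, hcomm, ⟨y', hy'⟩, hsub, hfin'⟩
    have hinj : Function.Injective (AlgSp.Points.map j.hom) :=
      Groth.Agent.Lib.Helper12.LargestOpen.injective_map_of_open j.hom hj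
    have hcomm' : f'.hom ≫ j.hom = i.hom ≫ f.hom := congrArg (fun m => m.hom) hcomm
    -- the fibre of `f'` over `y'` is finite
    have hfib : (AlgSp.Points.map f'.hom ⁻¹' {y'}).Finite := by
      obtain ⟨V, b, v, hbe, hVaff, hbv⟩ := Groth.Agent.S10448.exists_affine_etale_nbhd Y' y'
      obtain ⟨W, i₀, fst, sq, -, hi₀⟩ := hfin' hVaff b
      have := hi₀
      refine ((Scheme.Hom.finite_preimage_singleton i₀.left v).image
        (AlgSp.Points.ofPt fst)).subset ?_
      intro x' hx'
      obtain ⟨z, hz1, hz2⟩ := Groth.Agent.S10406.exists_point_of_sq sq x' v (hx'.trans hbv.symm)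
      exact ⟨z, hz2, hz1⟩
    refine (hfib.image (AlgSp.Points.map i.hom)).subset ?_
    intro x hx
    obtain ⟨x', rfl⟩ := hsub hx
    refine ⟨x', ?_, rfl⟩
    apply hinj
    have h1 : AlgSp.Points.map j.hom (AlgSp.Points.map f'.hom x') =
        AlgSp.Points.map f.hom (AlgSp.Points.map i.hom x') := by
      rw [← AlgSp.Points.map_comp, ← AlgSp.Points.map_comp, hcomm']
    rw [h1, hy']
    exact hx

end Groth.Agent.S10446
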