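import Groth.Statements.S10449
import Groth.Agent.Lib.T2H1StalkDim
import Groth.Agent.Lib.Helper10IntDim
import Groth.Agent.Lib.Helper4FibDimL
import Groth.Agent.S10177
import Groth.Agent.S10176

set_option autoImplicit false
universe u
open CategoryTheory CategoryTheory.Limits AlgebraicGeometry Topology TopologicalSpace
open AlgSp

namespace Groth.Agent.S10449

/-- For an integral surjective morphism f : X ⟶ Y of algebraic spaces over a scheme S, the dimension of
Y is at most the dimension of X (together with the inequality dim X ≤ dim Y, which holds for every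
integral morphism, the two dimensions are equal). -/
theorem result {S : Scheme.{u}} {X Y : AlgSp.Space S} (f : X ⟶ Y)
    (hf : AlgSp.IsIntegralMor f.hom) (hs : AlgSp.IsSurjectiveMor f.hom) :
    AlgSp.dim Y.obj ≤ AlgSp.dim X.obj := by
  unfold AlgSp.dim
  refine iSup_le fun V => iSup_le fun b => iSup_le fun hb => ?_
  rw [Groth.Agent.Lib.Helper4.FibDim.topologicalKrullDim_eq_iSup_ringKrullDim_stalk]
  refine iSup_le fun v => ?_
  obtain ⟨V₁, hV₁aff, hvV₁, -⟩ :=
    exists_isAffineOpen_mem_and_subset (X := V.left) (x := v) (U := ⊤) trivial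
  let Vo : Over S := Over.mk (V₁.ι ≫ V.hom)
  let ι : Vo ⟶ V := Over.homMk V₁.ι rfl
  have hι : AlgSp.RepWith @Etale ((AlgSp.yon S).map ι) :=
    (AlgSp.repWith_yon_map_iff _ _).2 (inferInstance : Etale V₁.ι)
  have hb₁ : AlgSp.RepWith @Etale ((AlgSp.yon S).map ι ≫ b) :=
    (AlgSp.RepWith @Etale).comp_mem _ _ hι hb
  have hVoaff : IsAffine Vo.left := hV₁aff
  obtain ⟨W, i, fst, sq, hWaff, hi⟩ := hf hVoaff ((AlgSp.yon S).map ι ≫ b)
  have hfst : AlgSp.RepWith @Etale fst :=
    MorphismProperty.of_isPullback (P := AlgSp.RepWith @Etale) sq.flip hb₁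
  haveI : IsIntegralHom i.left := hi
  haveI : Surjective i.left := by
    constructor
    intro t
    obtain ⟨x, hx⟩ := hs (AlgSp.Points.ofPt ((AlgSp.yon S).map ι ≫ b) t)
    obtain ⟨p, -, hp2⟩ := Groth.Agent.S10175.exists_point_of_isPullback sq x
      (AlgSp.Points.ofScheme Vo t) (by rw [hx, AlgSp.Points.ofPt_eq_map_ofScheme])
    obtain ⟨w, rfl⟩ := (AlgSp.Points.schemeHomeo W).surjective p
    refine ⟨w, ?_⟩
    apply (AlgSp.Points.schemeHomeo Vo).injective
    rw [← AlgSp.Points.map_yon_map_apply]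
    exact hp2
  have e1 : ringKrullDim ↥(V.left.presheaf.stalk v) =
      ringKrullDim ↥((V₁ : Scheme).presheaf.stalk ⟨v, hvV₁⟩) :=
    (Groth.Agent.Lib.T2H1.HasAt.ringKrullDim_stalk_eq_of_etale V₁.ι ⟨v, hvV₁⟩).symm
  rw [e1]
  have hfin : topologicalKrullDim ↥W.left ≤ ⨆ (U : Over S) (a : (AlgSp.yon S).obj U ⟶ X.obj)
      (_ : AlgSp.RepWith @Etale a), topologicalKrullDim ↥U.left :=
    le_iSup_of_le W (le_iSup_of_le fst (le_iSup_of_le hfst le_rfl))
  refine le_trans ?_ hfin
  rw [(Groth.Agent.Lib.Helper10.IntDim.main9683 i.left).2 inferInstance]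
  show _ ≤ topologicalKrullDim ↥(V₁ : Scheme)
  rw [Groth.Agent.Lib.Helper4.FibDim.topologicalKrullDim_eq_iSup_ringKrullDim_stalk]
  exact le_iSup (fun t : ↥(V₁ : Scheme) => ringKrullDim ↥((V₁ : Scheme).presheaf.stalk t)) ⟨v, hvV₁⟩

end Groth.Agent.S10449
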