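import Groth.Statements.S10450
import Mathlib
import Groth.Agent.Lib.T2H7ZeroDimSch
import Groth.Agent.Lib.T2H7DecentDim
import Groth.Agent.Lib.T2H1IrrFlat2
import Groth.Agent.Lib.Helper14IrrComp
import Groth.Agent.Lib.Helper12OpenSub2
import Groth.Agent.S10177
import Groth.Agent.S10200

set_option autoImplicit false
universe u
open CategoryTheory CategoryTheory.Limits AlgebraicGeometry Topology TopologicalSpace
open AlgSp

namespace Groth.Agent.S10450

/-- Let X be a quasi-separated algebraic space of dimension 0 over a quasi-separated scheme S. Then X is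
a separated scheme and every quasi-compact open of X is affine. (The published statement allows any
base scheme S and takes X quasi-separated in the absolute sense; this row asks S to be
quasi-separated and X quasi-separated over S, which together imply absolute quasi-separatedness.) -/
theorem result {S : Scheme.{u}} [QuasiSeparatedSpace S]
    (X : AlgSp.Space S) (hqs : AlgSp.IsQuasiSeparatedSp X.obj) (hd : AlgSp.dim X.obj = 0) :
    ∃ (U : Over S) (_ : (AlgSp.yon S).obj U ≅ X.obj), U.left.IsSeparated ∧
      ∀ V : U.left.Opens, IsCompact (V : Set ↥U.left) → IsAffineOpen V := by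
  classical
  -- all local rings of all etale charts have dimension zero
  have hstalk : ∀ {W : Over S} (a : (AlgSp.yon S).obj W ⟶ X.obj), AlgSp.RepWith @Etale a →
      ∀ w : ↥W.left, ringKrullDim ↥(W.left.presheaf.stalk w) = 0 := by
    intro W a ha w
    have h1 : topologicalKrullDim ↥W.left ≤ AlgSp.dim X.obj := by
      unfold AlgSp.dim
      exact le_iSup_of_le W (le_iSup_of_le a (le_iSup_of_le ha le_rfl))
    rw [hd] at h1
    have h2 : ringKrullDim ↥(W.left.presheaf.stalk w) ≤ topologicalKrullDim ↥W.left := by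
      rw [Groth.Agent.Lib.T2H7.DecentDim.ringKrullDim_stalk_eq_coheight_pt]
      exact Order.coheight_le_krullDim _
    exact le_antisymm (h2.trans h1) ringKrullDim_nonneg_of_nontrivial
  -- `X` is a scheme
  have hid : AlgSp.RepWith @IsOpenImmersion (𝟙 X.obj) := (AlgSp.RepWith @IsOpenImmersion).id_mem _
  obtain ⟨X', j, hj, hrep, -, hcodim⟩ := Groth.Agent.S10200.result X
    ⟨PUnit.{u + 1}, fun _ => X, fun _ => 𝟙 X, ⟨fun _ => hid, fun x => ⟨PUnit.unit, x, by
      show AlgSp.Points.map (𝟙 X.obj) x = x
      exact AlgSp.Points.map_id x⟩⟩, fun _ => hqs⟩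
  have hall : ∀ x : AlgSp.Points X.obj, x ∈ Set.range (AlgSp.Points.map j.hom) := by
    intro x
    obtain ⟨W, a, hae, has⟩ := X.property.atlas
    obtain ⟨w, hw⟩ := Groth.Agent.S10177.surjective_ofPt a has x
    exact hcodim x ⟨W, a, w, hae, hw, hstalk a hae w⟩
  have hrange : Set.range (AlgSp.Points.map j.hom) = Set.range (AlgSp.Points.map (𝟙 X.obj)) := by
    ext x
    constructor
    · intro _
      exact ⟨x, AlgSp.Points.map_id x⟩
    · intro _
      exact hall x
  obtain ⟨e, -⟩ := Groth.Agent.Lib.Helper12.OpenSub.iso_of_range_eq j.hom hj (𝟙 X.obj) hid hrange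
  obtain ⟨U, ⟨r⟩⟩ := hrep
  let E : (AlgSp.yon S).obj U ≅ X.obj := AlgSp.isoOfRepresentableBy r ≪≫ e
  have hEe : AlgSp.RepWith @Etale E.hom := MorphismProperty.of_isIso _ E.hom
  -- no nontrivial specializations
  have hsp : ∀ z z' : ↥U.left, z ⤳ z' → z = z' := by
    intro z z' hzz'
    have hgen := (Groth.Agent.Lib.T2H1.IrrFlat.ringKrullDim_stalk_eq_zero_iff z').1
      (hstalk E.hom hEe z')
    exact (Groth.Agent.Lib.Helper14.closure_mem_irreducibleComponents_iff z').1 hgen z hzz'
  -- quasi-separatedness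
  have hqsU : AlgSp.IsQuasiSeparatedSp ((AlgSp.yon S).obj U) := by
    show AlgSp.RepWith @QuasiCompact (Limits.diag ((AlgSp.yon S).obj U))
    have hdiag : Limits.diag ((AlgSp.yon S).obj U) =
        E.hom ≫ Limits.diag X.obj ≫ prod.map E.inv E.inv := by ext <;> simp
    rw [hdiag]
    exact MorphismProperty.RespectsIso.precomp _ _ _
      (MorphismProperty.RespectsIso.postcomp _ _ _ hqs)
  have hqsU' : QuasiSeparated U.hom :=
    ⟨(AlgSp.repWith_diag_yon_iff @QuasiCompact U).1 hqsU⟩
  have : QuasiSeparatedSpace ↥U.left := quasiSeparatedSpace_of_quasiSeparated U.hom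
  exact ⟨U, E, Groth.Agent.Lib.T2H7.ZeroDimSch.isSeparated hsp,
    fun V hV => Groth.Agent.Lib.T2H7.ZeroDimSch.isAffineOpen_of_isCompact hsp V hV⟩

end Groth.Agent.S10450
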