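import Groth.Statements.S10452
import Mathlib
import Groth.Agent.S10199
import Groth.Agent.S10340
import Groth.Agent.S10343
import Groth.Agent.S10350
import Groth.Agent.S10177
import Groth.Agent.Lib.Helper14IrrComp
import Groth.Agent.Lib.T2H1IrrFlat2
import Groth.Agent.Lib.T2H1HasAt1
import Groth.Agent.Lib.T2H1StalkDim

set_option autoImplicit false
universe u
open CategoryTheory CategoryTheory.Limits AlgebraicGeometry Topology TopologicalSpace
open AlgSp

namespace Groth.Agent.S10452

/-- (2) ⇔ (3): let X be a quasi-separated algebraic space over a quasi-separated scheme S and x a point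
of X. Then the local ring of X at x is zero-dimensional exactly when x is the generic point of an
irreducible component of |X|. (The published statement allows any base scheme S and takes X
quasi-separated in the absolute sense; this row asks S to be quasi-separated and X quasi-separated
over S, which together imply absolute quasi-separatedness.) -/
theorem result {S : Scheme.{u}} [QuasiSeparatedSpace S]
    (X : AlgSp.Space S) (hqs : AlgSp.IsQuasiSeparatedSp X.obj) (x : AlgSp.Points X.obj) :
    AlgSp.HasAt (fun U u => ringKrullDim ↥(U.presheaf.stalk u) = 0) X.obj x ↔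
      ∃ Z ∈ irreducibleComponents (AlgSp.Points X.obj), IsGenericPoint x Z := by
  have hsob := Groth.Agent.S10199.result X
    ⟨PUnit.{u + 1}, fun _ => X, fun _ => 𝟙 X,
      ⟨fun _ => (AlgSp.RepWith @IsOpenImmersion).id_mem X.obj,
        fun y => ⟨PUnit.unit, y, by
          change AlgSp.Points.map (𝟙 X.obj) y = y
          exact AlgSp.Points.map_id y⟩⟩,
      fun _ => hqs⟩
  have hqsob : QuasiSober (AlgSp.Points X.obj) := hsob.1
  have ht0 : T0Space (AlgSp.Points X.obj) := hsob.2
  have hdec : AlgSp.IsDecent X.obj := Groth.Agent.S10350.result X hqs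
  obtain ⟨U, p, hpe, hps⟩ := X.property.atlas
  obtain ⟨u, hu⟩ := Groth.Agent.S10177.surjective_ofPt p hps x
  have hiff : (∃ Z ∈ irreducibleComponents (AlgSp.Points X.obj), IsGenericPoint x Z) ↔
      closure ({x} : Set (AlgSp.Points X.obj)) ∈ irreducibleComponents (AlgSp.Points X.obj) := by
    constructor
    · rintro ⟨Z, hZ, hxZ⟩
      rw [hxZ.def]
      exact hZ
    · intro h
      exact ⟨_, h, rfl⟩
  rw [hiff, Groth.Agent.Lib.Helper14.closure_mem_irreducibleComponents_iff]
  constructor
  · intro hx x' hx'
    have hdim : ringKrullDim ↥(U.left.presheaf.stalk u) = 0 :=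
      Groth.Agent.Lib.T2H1.HasAt.of_hasAt
        (Groth.Agent.Lib.T2H1.HasAt.etInv1_stalkDim (fun s => s = 0)) x hx p hpe u hu
    have hgen := (Groth.Agent.Lib.T2H1.IrrFlat.ringKrullDim_stalk_eq_zero_iff u).1 hdim
    obtain ⟨u', hu'u, hu'x⟩ := Groth.Agent.S10343.result X x x' hx' (hdec x') p hpe u hu
    have := (Groth.Agent.Lib.Helper14.closure_mem_irreducibleComponents_iff u).1 hgen u' hu'u
    rw [← hu'x, this, hu]
  · intro hx
    refine ⟨U, p, u, hpe, hu, ?_⟩
    change ringKrullDim ↥(U.left.presheaf.stalk u) = 0
    rw [Groth.Agent.Lib.T2H1.IrrFlat.ringKrullDim_stalk_eq_zero_iff]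
    change closure ({u} : Set ↥U.left) ∈ irreducibleComponents ↥U.left
    rw [
      Groth.Agent.Lib.Helper14.closure_mem_irreducibleComponents_iff]
    intro u' hu'
    have h1 : AlgSp.Points.ofPt p u' ⤳ x := by
      rw [← hu]
      exact hu'.map (AlgSp.Points.continuous_ofPt p)
    have h2 := hx _ h1
    exact (Groth.Agent.S10340.result X hdec p hpe u u' (by rw [hu, h2]) hu').symm

end Groth.Agent.S10452
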