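import Groth.Statements.S1046
import Groth.Agent.Lib.T2H2QcRpushC
import Groth.Agent.Lib.T2H1RgammaLoc

set_option autoImplicit false
universe u
open CategoryTheory CategoryTheory.Limits AlgebraicGeometry
attribute [local instance] HasDerivedCategory.standard
open Perf

namespace Groth.Agent.S1046


attribute [local instance] Groth.Agent.Lib.T2H1.RpushSupport.hasRpush

open Scheme.Modules Groth.Agent.Lib.T2H1.MVTri Groth.Agent.Lib.T2H1.RpushSupport
  Groth.Agent.Lib.T2H1.SESTriangle Groth.Agent.Lib.T2H1.MVMod Groth.Agent.Lib.T2H1.RgammaSupp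
  Groth.Agent.Lib.T2H1.RgammaLoc Groth.Agent.Lib.T2H1.RestrictPush CategoryTheory.Pretriangulated

/-- the relative Mayer–Vietoris triangle, in the form used by `T2H2.QcRpush`. -/
theorem relMV : Groth.Agent.Lib.T2H2.QcRpush.RelMV.{u} :=
  fun f U V hUV E => Groth.Agent.Lib.T2H1.MVTri.exists_relative_mv_triangle U V hUV f E

/-- Let U ⊆ X be an open subscheme with quasi-compact inclusion and T = X ∖ U. Assuming O_X-modules have
enough injectives (true, not recorded), for every bounded below E ∈ D(O_X) with quasi-coherent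
cohomology sheaves, the derived sections with support RΓ_T(E) (right derived functor of F ↦ ker(F →
j_*(F|_U))) has quasi-coherent cohomology sheaves, all supported on T. -/
theorem result (X : Scheme.{u}) (U : X.Opens) [QuasiCompact U.ι] [EnoughInjectives X.Modules]
    (E : DerivedCategory.Plus X.Modules) (hE : DCoh.IsQCohD E.obj) :
    DCoh.IsQCohD ((DCoh.RgammaZPlus U.ι).obj E).obj ∧
    ∀ i : ℤ, CohB1.support (DCoh.HD ((DCoh.RgammaZPlus U.ι).obj E).obj i) ⊆ (U : Set X)ᶜ := by
  obtain ⟨a, ha⟩ := E.property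
  haveI : E.IsGE a := (DerivedCategory.Plus.isGE_ι_obj_iff E a).1 ha
  obtain ⟨L, hL, ⟨e⟩⟩ := DerivedCategory.Plus.exists_injective_nonempty_iso E a
  let J : CochainComplex.Plus X.Modules :=
    (InjectiveObject.ι X.Modules).mapCochainComplexPlus.obj L
  let F := DCoh.gammaZ U.ι
  have hu : IsIso (F.rightDerivedFunctorPlusUnit.app
      ((HomotopyCategory.Plus.quotient X.Modules).obj J)) := inferInstance
  let e' : DerivedCategory.Plus.Qh.obj (F.mapHomotopyCategoryPlus.obj
      ((HomotopyCategory.Plus.quotient X.Modules).obj J)) ≅ F.rightDerivedFunctorPlus.obj E :=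
    asIso (F.rightDerivedFunctorPlusUnit.app ((HomotopyCategory.Plus.quotient X.Modules).obj J)) ≪≫
      F.rightDerivedFunctorPlus.mapIso e
  let I : CochainComplex X.Modules ℤ := J.obj
  have e₁ : ((DCoh.RgammaZPlus U.ι).obj E).obj ≅
      DerivedCategory.Q.obj ((F.mapHomologicalComplex (ComplexShape.up ℤ)).obj I) :=
    (DerivedCategory.Plus.ι.mapIso e').symm
  have e₂ : E.obj ≅ DerivedCategory.Q.obj I := (DerivedCategory.Plus.ι.mapIso e).symm
  haveI : I.IsKInjective :=
    inferInstanceAs (CochainComplex.IsKInjective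
      (((InjectiveObject.ι X.Modules).mapHomologicalComplex (.up ℤ)).obj L.obj))
  have hinj : ∀ n, Injective (I.X n) := fun n => (L.obj.X n).property
  obtain ⟨βW, hβW⟩ := exists_unit_Rpush U.ι
  haveI := isKInjective_restrict U I
  obtain ⟨f, g, h, hT⟩ := exists_triangle₃ (DCoh.gammaZ U.ι) (𝟭 X.Modules) (T U)
    (CxOX.gammaZι U.ι) (η U) I
    (fun i => kernel.condition _)
    (fun i => shortExact_loc U (I.X i)
      (Groth.Agent.Lib.T2H4.LocCohQC.isFlasque_of_injective (I.X i) (hinj i)))
    e₁
    (e₂ ≪≫ DerivedCategory.Q.mapIso ((Functor.mapHomologicalComplexIdIso X.Modules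
      (ComplexShape.up ℤ)).app I).symm)
    (objIso.{u} (pushforward U.ι) (DCoh.Rpush U.ι) βW (restrictFunctor U.ι) (T U) (Iso.refl _) I e₂)
  constructor
  · exact Groth.Agent.Lib.T2H2.QcRpush.isQCohD_obj₁ _ hT hE
      (Groth.Agent.Lib.T2H2.QcRpush.isQCohD_Rpush_of_qcqs relMV U.ι _
        (isQCohD_restrictD U.ι E.obj hE))
  · intro i x hx hxU
    have hz : IsZero ((DCoh.restrictD U.ι).obj ((DCoh.RgammaZPlus U.ι).obj E).obj) := by
      have e₃ := (DCoh.restrictD U.ι).mapIso e₁ ≪≫
        (restrictFunctor U.ι).mapDerivedCategoryFactors.app _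
      refine IsZero.of_iso ?_ e₃
      change IsZero (DerivedCategory.Q.obj (((restrictFunctor U.ι).mapHomologicalComplex
        (ComplexShape.up ℤ)).obj (((DCoh.gammaZ U.ι).mapHomologicalComplex
          (ComplexShape.up ℤ)).obj I)))
      refine Functor.map_isZero _ ?_
      rw [IsZero.iff_id_eq_zero]
      refine HomologicalComplex.hom_ext _ _ (fun k => ?_)
      exact (isZero_restrict_gammaZ U.ι (I.X k)).eq_of_src _ _
    refine not_mem_support_of_isZero_restrict _ U ?_ x hxU hx
    exact IsZero.of_iso (Functor.map_isZero _ hz)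
      (Groth.Agent.Lib.Helper17.AdjWay.homologyIso (restrictFunctor U.ι) _ i).symm

end Groth.Agent.S1046
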