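import Groth.Statements.S10466
import Groth.Agent.Lib.T2H1ConnComp
import Groth.Agent.S9911

set_option autoImplicit false
universe u
open CategoryTheory CategoryTheory.Limits AlgebraicGeometry Topology TopologicalSpace
open AlgSp

namespace Groth.Agent.S10466

/-- Let k be a field and X, Y algebraic spaces over k with X geometrically connected over k. Then the
projection X ×_k Y ⟶ Y induces a bijection between connected components of |X ×_k Y| and of |Y|. -/
theorem result (k : Type u) [Field k]
    (X Y : AlgSp.Space (Spec (CommRingCat.of k))) (hX : (∀ (K : Type u) [Field K] [Algebra k K], ConnectedSpace (AlgSp.Points (X.obj ⨯ (AlgSp.yon (Spec (CommRingCat.of k))).obj (Over.mk (Spec.map (CommRingCat.ofHom (algebraMap k K)))))))) :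
    Function.Bijective (Continuous.connectedComponentsMap
      (AlgSp.Points.continuous_map (Limits.prod.snd : X.obj ⨯ Y.obj ⟶ Y.obj))) := by
  have hpt : IsTerminal ((AlgSp.yon (Spec (CommRingCat.of k))).obj (Over.mk (𝟙 _))) :=
    IsTerminal.isTerminalObj (AlgSp.yon _) _ Over.mkIdTerminal
  have hprod : ∀ (A B : AlgSp.Sp (Spec (CommRingCat.of k))),
      IsPullback (prod.fst : A ⨯ B ⟶ A) prod.snd (hpt.from _) (hpt.from _) := fun A B =>
    IsPullback.of_is_product' (prodIsProd _ _) hpt
  apply Groth.Agent.Lib.T2H1.ConnComp.bijective_of_fibres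
  · let p : X ⟶ (AlgSp.ofScheme (Spec (CommRingCat.of k))).obj (Over.mk (𝟙 _)) :=
      ObjectProperty.homMk (hpt.from X.obj)
    have hu := Groth.Agent.S9911.result X (𝟙 (Spec (CommRingCat.of k))) p
    exact hu Y.property (hpt.from Y.obj) prod.fst prod.snd (hprod X.obj Y.obj)
  · intro p
    let φ : CommRingCat.of k ⟶ CommRingCat.of p.K := Spec.preimage p.str
    letI : Algebra k p.K := φ.hom.toAlgebra
    have e : (Over.mk (Spec.map (CommRingCat.ofHom (algebraMap k p.K))) :
        Over (Spec (CommRingCat.of k))) = p.pt := by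
      have : CommRingCat.ofHom (algebraMap k p.K) = φ := rfl
      rw [this, Spec.map_preimage]
    have hK := hX p.K
    rw [e] at hK
    refine ⟨X.obj ⨯ (AlgSp.yon _).obj p.pt, prod.map (𝟙 _) p.toHom, prod.snd, ?_, hK⟩
    refine IsPullback.of_right ?_ (prod.map_snd _ _) (hprod X.obj Y.obj)
    rw [prod.map_fst, Category.comp_id, hpt.hom_ext (p.toHom ≫ hpt.from Y.obj) (hpt.from _)]
    exact hprod _ _

end Groth.Agent.S10466
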