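import Groth.Statements.S10467
import Groth.Agent.Lib.T2H1ConnComp
import Groth.Agent.Lib.Helper6SepCl

set_option autoImplicit false
universe u
open CategoryTheory CategoryTheory.Limits AlgebraicGeometry Topology TopologicalSpace
open AlgSp

namespace Groth.Agent.S10467

/-- Let k be a separably closed field, K an extension field of k and X an algebraic space over k. Then
X_K ⟶ X induces a bijection of connected components. -/
theorem result (k : Type u) [Field k] [IsSepClosed k]
    (X : AlgSp.Space (Spec (CommRingCat.of k))) (K : Type u) [Field K] [Algebra k K] :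
    Function.Bijective (Continuous.connectedComponentsMap
      (AlgSp.Points.continuous_map (Limits.prod.fst : (X.obj ⨯ (AlgSp.yon (Spec (CommRingCat.of k))).obj (Over.mk (Spec.map (CommRingCat.ofHom (algebraMap k K))))) ⟶ X.obj))) := by
  let g : (Over.mk (Spec.map (CommRingCat.ofHom (algebraMap k K))) : Over (Spec (CommRingCat.of k))) ⟶
      Over.mk (𝟙 _) := Over.mkIdTerminal.from _
  have hg : g.left = Spec.map (CommRingCat.ofHom (algebraMap k K)) := by simp [g]
  have h1 : UniversallyOpen (Spec.map (CommRingCat.ofHom (algebraMap k K))) := inferInstance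
  haveI : UniversallyOpen g.left := by rw [hg]; exact h1
  haveI : GeometricallyConnected g.left := by
    rw [hg]
    haveI := Groth.Agent.Lib.Helper6.SepCl.geometricallyIrreducible_specMap_of_isSepClosed k K
    exact Groth.Agent.Lib.Helper6.SepCl.geometricallyConnected_of_geometricallyIrreducible
      (Spec.map (CommRingCat.ofHom (algebraMap k K)))
  have hpt : IsTerminal ((AlgSp.yon (Spec (CommRingCat.of k))).obj (Over.mk (𝟙 _))) :=
    IsTerminal.isTerminalObj (AlgSp.yon _) _ Over.mkIdTerminal
  have hprod : IsPullback (prod.fst : X.obj ⨯ (AlgSp.yon _).obj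
      (Over.mk (Spec.map (CommRingCat.ofHom (algebraMap k K)))) ⟶ X.obj) prod.snd
      (hpt.from _) (hpt.from _) :=
    IsPullback.of_is_product' (prodIsProd _ _) hpt
  have e1 : (AlgSp.yon (Spec (CommRingCat.of k))).map g = hpt.from _ := hpt.hom_ext _ _
  rw [← e1] at hprod
  exact Groth.Agent.Lib.T2H1.ConnComp.bijective_of_isPullback_yon g prod.fst prod.snd (hpt.from _)
    hprod.flip

end Groth.Agent.S10467
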