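import Groth.Statements.S10468
import Groth.Agent.Lib.T2H1ConnComp
import Groth.Agent.Lib.Helper6SepCl

set_option autoImplicit false
universe u
open CategoryTheory CategoryTheory.Limits AlgebraicGeometry Topology TopologicalSpace
open AlgSp

namespace Groth.Agent.S10468

/-- `Spec K` over `Spec k`. -/
noncomputable abbrev ptK (k : Type u) [Field k] (K : Type u) [Field K] [Algebra k K] :
    Over (Spec (CommRingCat.of k)) :=
  Over.mk (Spec.map (CommRingCat.ofHom (algebraMap k K)))

/-- the morphism `Spec L ⟶ Spec K` over `Spec k` of a tower `L / K / k`. -/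
noncomputable def towerHom (k K L : Type u) [Field k] [Field K] [Field L] [Algebra k K] [Algebra k L]
    [Algebra K L] [IsScalarTower k K L] : ptK k L ⟶ ptK k K :=
  Over.homMk (Spec.map (CommRingCat.ofHom (algebraMap K L))) (by
    show Spec.map (CommRingCat.ofHom (algebraMap K L)) ≫
      Spec.map (CommRingCat.ofHom (algebraMap k K)) = Spec.map (CommRingCat.ofHom (algebraMap k L))
    rw [← Spec.map_comp, ← CommRingCat.ofHom_comp, ← IsScalarTower.algebraMap_eq])

lemma towerHom_left (k K L : Type u) [Field k] [Field K] [Field L] [Algebra k K] [Algebra k L]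
    [Algebra K L] [IsScalarTower k K L] :
    (towerHom k K L).left = Spec.map (CommRingCat.ofHom (algebraMap K L)) := rfl

/-- Let k be a field with separable algebraic closure k̄ and X an algebraic space over k. Then X is
geometrically connected if and only if X_{k̄} is connected. -/
theorem result (k : Type u) [Field k] (X : AlgSp.Space (Spec (CommRingCat.of k)))
    (kbar : Type u) [Field kbar] [Algebra k kbar] [IsSepClosure k kbar] :
    (∀ (K : Type u) [Field K] [Algebra k K], ConnectedSpace (AlgSp.Points (X.obj ⨯ (AlgSp.yon (Spec (CommRingCat.of k))).obj (Over.mk (Spec.map (CommRingCat.ofHom (algebraMap k K))))))) ↔ ConnectedSpace (AlgSp.Points (X.obj ⨯ (AlgSp.yon (Spec (CommRingCat.of k))).obj (Over.mk (Spec.map (CommRingCat.ofHom (algebraMap k kbar)))))) := by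
  constructor
  · intro h
    exact h kbar
  · intro hbar K _ _
    obtain ⟨L, _, _, _, _, _, _⟩ := Groth.Agent.Lib.T2H1.ConnComp.exists_common_ext k K kbar
    haveI : IsSepClosed kbar := IsSepClosure.sep_closed k
    -- step 1: `X_L` is connected
    have hL : ConnectedSpace (AlgSp.Points (X.obj ⨯ (AlgSp.yon _).obj (ptK k L))) := by
      let g := towerHom k kbar L
      have h1 : UniversallyOpen (Spec.map (CommRingCat.ofHom (algebraMap kbar L))) := inferInstance
      haveI : UniversallyOpen g.left := h1
      haveI : GeometricallyConnected g.left := by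
        haveI := Groth.Agent.Lib.Helper6.SepCl.geometricallyIrreducible_specMap_of_isSepClosed kbar L
        exact Groth.Agent.Lib.Helper6.SepCl.geometricallyConnected_of_geometricallyIrreducible
          (Spec.map (CommRingCat.ofHom (algebraMap kbar L)))
      have hb := Groth.Agent.Lib.T2H1.ConnComp.bijective_of_isPullback_yon g
        (prod.map (𝟙 X.obj) ((AlgSp.yon _).map g)) prod.snd prod.snd
        (Groth.Agent.Lib.T2H1.ConnComp.isPullback_prod_map X.obj ((AlgSp.yon _).map g)).flip
      exact (Groth.Agent.Lib.T2H1.ConnComp.connectedSpace_iff_of_bijective _ hb).2 hbar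
    -- step 2: `X_L ⟶ X_K` is surjective
    let g' := towerHom k K L
    haveI : Surjective g'.left := by
      have h2 : Surjective (Spec.map (CommRingCat.ofHom (algebraMap K L))) := by
        constructor
        intro x
        exact ⟨default, Subsingleton.elim _ _⟩
      exact h2
    have hs : AlgSp.RepWith @Surjective (prod.map (𝟙 X.obj) ((AlgSp.yon _).map g')) :=
      MorphismProperty.of_isPullback (P := AlgSp.RepWith @Surjective)
        (Groth.Agent.Lib.T2H1.ConnComp.isPullback_prod_map X.obj ((AlgSp.yon _).map g')).flip
        ((AlgSp.repWith_yon_map_iff @Surjective g').2 inferInstance)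
    exact Groth.Agent.Lib.T2H1.ConnComp.connectedSpace_of_repWith_surjective _ hs

end Groth.Agent.S10468
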