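import Groth.Statements.S10483
import Mathlib
import Groth.Agent.Lib.T2H7LqfField
import Groth.Agent.S10265

set_option autoImplicit false
universe u
open CategoryTheory CategoryTheory.Limits AlgebraicGeometry Topology TopologicalSpace
open AlgSp

namespace Groth.Agent.S10483

/-- (1) ⇔ (5): let k be a field and X an algebraic space over k. Then X is locally quasi-finite over k
if and only if X decomposes as a disjoint union of spectra of finite-dimensional Artinian local
k-algebras: X is a scheme every point of which has an affine open neighbourhood with Artinian local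
coordinate ring, finite over k. -/
theorem result (k : Type u) [Field k] (X : AlgSp.Space (Spec (CommRingCat.of k))) (p : X.obj ⟶ (AlgSp.yon (Spec (CommRingCat.of k))).obj (Over.mk (𝟙 _))) :
    AlgSp.LocP (@LocallyQuasiFinite ⊓ @LocallyOfFiniteType : MorphismProperty Scheme.{u}) p ↔
      ∃ (U : Over (Spec (CommRingCat.of k))) (_ : (AlgSp.yon (Spec (CommRingCat.of k))).obj U ≅ X.obj), ∀ u : ↥U.left, ∃ V : U.left.Opens,
        u ∈ V ∧ IsAffineOpen V ∧ IsArtinianRing ↥Γ(U.left, V) ∧ IsLocalRing ↥Γ(U.left, V) ∧
          IsFinite (V.ι ≫ U.hom) := by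
  classical
  constructor
  · intro hp
    obtain ⟨U, E, -, -, h⟩ := Groth.Agent.Lib.T2H7.LqfField.exists_iso_yon_artinian X p hp
    exact ⟨U, E, h⟩
  · rintro ⟨U, E, hU⟩
    choose V huV hVaff hVart hVloc hVfin using hU
    -- `U` is locally quasi-finite and locally of finite type over `k`
    have hcov : ⨆ u, V u = (⊤ : U.left.Opens) := by
      rw [eq_top_iff]
      intro u _
      exact TopologicalSpace.Opens.mem_iSup.2 ⟨u, huV u⟩
    have hUlqf : LocallyQuasiFinite U.hom :=
      (IsZariskiLocalAtSource.iff_of_iSup_eq_top (P := @LocallyQuasiFinite) V hcov).2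
        (fun u => by have := hVfin u; infer_instance)
    have hUlft : LocallyOfFiniteType U.hom :=
      (IsZariskiLocalAtSource.iff_of_iSup_eq_top (P := @LocallyOfFiniteType) V hcov).2
        (fun u => by have := hVfin u; infer_instance)
    intro W V' a b h ha hb hcomm
    obtain ⟨α, hα⟩ := (AlgSp.yon (Spec (CommRingCat.of k))).map_surjective (a ≫ E.inv)
    have hαe : AlgSp.RepWith @Etale ((AlgSp.yon (Spec (CommRingCat.of k))).map α) := by
      rw [hα]
      exact (AlgSp.RepWith @Etale).comp_mem _ _ ha (MorphismProperty.of_isIso _ E.inv)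
    have : Etale α.left := (AlgSp.repWith_yon_map_iff @Etale α).1 hαe
    have : LocallyQuasiFinite α.left := Groth.Agent.S10265.locallyQuasiFinite_of_unramified _
    have hW : W.hom = α.left ≫ U.hom := (Over.w α).symm
    have hWlqf : LocallyQuasiFinite W.hom := by rw [hW]; infer_instance
    have hWlft : LocallyOfFiniteType W.hom := by rw [hW]; infer_instance
    have hW' : W.hom = h.left ≫ V'.hom := (Over.w h).symm
    rw [hW'] at hWlqf hWlft
    exact ⟨LocallyQuasiFinite.of_comp h.left V'.hom, locallyOfFiniteType_of_comp h.left V'.hom⟩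

end Groth.Agent.S10483
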