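import Groth.Statements.S10486
import Groth.Agent.Lib.T2H1ResTrdeg
import Groth.Agent.Lib.T2H1IntegralSp
import Groth.Agent.Lib.Helper3RelDimFlat
import Groth.Agent.Lib.Helper6EquiSubC
import Groth.Agent.Lib.Helper12LocPNbhd

set_option autoImplicit false
universe u
open CategoryTheory CategoryTheory.Limits AlgebraicGeometry Topology TopologicalSpace
open AlgSp

namespace Groth.Agent.S10486

section
open Groth.Agent.Lib.Helper4.VarDim Groth.Agent.Lib.Helper4.FibDim
  Groth.Agent.Lib.Helper4.DimFormula Groth.Agent.Lib.Helper7.TopDim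

attribute [local instance] Curv2.resAlgebra

/-- every fibre of a morphism locally of finite type contains, near any of its points, a point with
algebraic residue field extension (copied from helper3's `exists_ptTrdeg_eq_zero`, which carries
unused Noetherian and flatness binders). -/
theorem exists_ptTrdeg_eq_zero' {X Y : Scheme.{u}} (f : X ⟶ Y) [LocallyOfFiniteType f]
    (U : X.Opens) (z₀ : X) (hz₀ : z₀ ∈ U) :
    ∃ z : X, z ∈ U ∧ f z = f z₀ ∧ ptTrdeg f z = 0 := by
  set y := f z₀ with hy
  letI : (f.fiber y).Over (Spec (CommRingCat.of (Y.residueField y))) :=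
    ⟨f.fiberToSpecResidueField y⟩
  haveI : LocallyOfFiniteType ((f.fiber y) ↘ Spec (CommRingCat.of (Y.residueField y))) :=
    locallyOfFiniteType_fiberToSpecResidueField f _
  have hne : ((f.fiberι y) ⁻¹' (U : Set X)).Nonempty :=
    ⟨f.asFiber z₀, by show f.fiberι _ (f.asFiber z₀) ∈ U; rw [f.fiberι_asFiber]; exact hz₀⟩
  have hop : IsOpen ((f.fiberι y) ⁻¹' (U : Set X)) := U.isOpen.preimage (f.fiberι y).continuous
  obtain ⟨w, hwU, hwc⟩ := nonempty_inter_closedPoints hne hop.isLocallyClosed
  refine ⟨f.fiberι y w, hwU, ?_, ?_⟩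
  · have : f.fiberι y w ∈ Set.range (f.fiberι y) := ⟨w, rfl⟩
    rw [f.range_fiberι] at this
    exact this
  · rw [← trdegNat_eq_ptTrdeg f y w]
    exact trdegNat_eq_of_trdeg_eq _ _ w 0
      (by exact_mod_cast trdeg_eq_zero_of_isClosed (Y.residueField y) (f.fiber y) w hwc)

end

/-- (1) ⇔ (5): let f : X ⟶ Y be a dominant morphism locally of finite type between integral algebraic
spaces over a scheme S, with generic points x and y. Then the transcendence degree of x over y is 0
if and only if x is the only point of X mapping to y. -/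
theorem result {S : Scheme.{u}} {X Y : AlgSp.Space S} (hXi : AlgSp.IsIntegralSp X.obj) (hYi : AlgSp.IsIntegralSp Y.obj)
    (f : X ⟶ Y) (hft : AlgSp.LocP @LocallyOfFiniteType f.hom) (hd : AlgSp.IsDominantMor f.hom)
    (x : AlgSp.Points X.obj) (hx : IsGenericPoint x (Set.univ : Set (AlgSp.Points X.obj)))
    (y : AlgSp.Points Y.obj) (hy : IsGenericPoint y (Set.univ : Set (AlgSp.Points Y.obj))) :
    AlgSp.HasAtMor (fun _ _ h u => Dual3.resTrdeg h u = 0) f.hom x ↔ (∀ x' : AlgSp.Points X.obj, AlgSp.Points.map f.hom x' = y → x' = x) := by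
  have hfx : AlgSp.Points.map f.hom x = y :=
    Groth.Agent.Lib.T2H1.IntegralSp.map_generic f hd hYi.2.1 x hx y hy
  have hQ0 := Groth.Agent.Lib.T2H1.ResTrdeg.etInv_resTrdeg (fun t => t = (0 : Cardinal.{u}))
  constructor
  · intro H x' hx'
    obtain ⟨U, V, a, b, h, u', ha, hb, hab, hu'⟩ :=
      Groth.Agent.Lib.Helper12.LocPNbhd.exists_chart X.property Y.property f.hom x'
    obtain ⟨u, hus, hu⟩ :=
      Groth.Agent.Lib.T2H1.IntegralSp.exists_generization_over_generic X hXi.2.1 x hx a ha u'
    haveI : LocallyOfFiniteType h.left := hft a b h ha hb hab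
    have hb1 : AlgSp.Points.ofPt b (h.left u) = y := by
      rw [← hfx, ← hu, AlgSp.Points.map_ofPt, hab, Groth.Agent.S10176.ofPt_map_comp]
    have hb2 : AlgSp.Points.ofPt b (h.left u') = y := by
      rw [← hx', ← hu', AlgSp.Points.map_ofPt, hab, Groth.Agent.S10176.ofPt_map_comp]
    have hsp : h.left u ⤳ h.left u' := hus.map h.left.continuous
    have heq : h.left u' = h.left u :=
      Groth.Agent.S10340.result Y hYi.2.1 b hb (h.left u') (h.left u) (hb2.trans hb1.symm) hsp
    have e0 : Dual3.resTrdeg h.left u = 0 :=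
      Groth.Agent.Lib.T2H1.HasAt.of_hasAtMor hQ0 f.hom x H a b h ha hb hab u hu
    rw [Groth.Agent.Lib.T2H1.ResTrdeg.resTrdeg_eq_ptTrdeg] at e0
    have e0' : Groth.Agent.Lib.Helper4.DimFormula.ptTrdeg h.left u = 0 := by exact_mod_cast e0
    by_cases hne : u = u'
    · rw [← hu', ← hne, hu]
    · exfalso
      have hlt := Groth.Agent.Lib.Helper6.EquiSub.ptTrdeg_lt_of_specializes h.left u u' heq.symm hus hne
      omega
  · intro H
    obtain ⟨U, V, a, b, h, u, ha, hb, hab, hu⟩ :=
      Groth.Agent.Lib.Helper12.LocPNbhd.exists_chart X.property Y.property f.hom x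
    haveI : LocallyOfFiniteType h.left := hft a b h ha hb hab
    obtain ⟨z, -, hz, hz0⟩ := exists_ptTrdeg_eq_zero' h.left ⊤ u trivial
    have hzy : AlgSp.Points.map f.hom (AlgSp.Points.ofPt a z) = y := by
      rw [AlgSp.Points.map_ofPt, hab, Groth.Agent.S10176.ofPt_map_comp, hz, ← hfx, ← hu,
        AlgSp.Points.map_ofPt, hab, Groth.Agent.S10176.ofPt_map_comp]
    refine ⟨U, V, a, b, h, z, ha, hb, hab, H _ hzy, ?_⟩
    show Dual3.resTrdeg h.left z = 0
    rw [Groth.Agent.Lib.T2H1.ResTrdeg.resTrdeg_eq_ptTrdeg, hz0]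
    simp

end Groth.Agent.S10486
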