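import Groth.Statements.S10485
import Groth.Agent.S10455
import Groth.Agent.S10486

set_option autoImplicit false
universe u
open CategoryTheory CategoryTheory.Limits AlgebraicGeometry Topology TopologicalSpace
open AlgSp

namespace Groth.Agent.S10485

/-- (4) ⇔ (5): let f : X ⟶ Y be a dominant morphism locally of finite type between integral algebraic
spaces over a scheme S, with generic points x and y. Then f is quasi-finite at x if and only if x is
the only point of X mapping to y. -/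
theorem result {S : Scheme.{u}} {X Y : AlgSp.Space S} (hXi : AlgSp.IsIntegralSp X.obj) (hYi : AlgSp.IsIntegralSp Y.obj)
    (f : X ⟶ Y) (hft : AlgSp.LocP @LocallyOfFiniteType f.hom) (hd : AlgSp.IsDominantMor f.hom)
    (x : AlgSp.Points X.obj) (hx : IsGenericPoint x (Set.univ : Set (AlgSp.Points X.obj)))
    (y : AlgSp.Points Y.obj) (hy : IsGenericPoint y (Set.univ : Set (AlgSp.Points Y.obj))) :
    AlgSp.HasAtMor (fun U _ h u => ∃ W : U.Opens, u ∈ W ∧ LocallyQuasiFinite (W.ι ≫ h) ∧ LocallyOfFiniteType (W.ι ≫ h)) f.hom x ↔ (∀ x' : AlgSp.Points X.obj, AlgSp.Points.map f.hom x' = y → x' = x) := by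
  rw [← Groth.Agent.S10486.result hXi hYi f hft hd x hx y hy]
  obtain ⟨U, V, a, b, k, u, ha, hb, hab, hu⟩ :=
    Groth.Agent.Lib.Helper12.LocPNbhd.exists_chart X.property Y.property f.hom x
  haveI : LocallyOfFiniteType k.left := hft a b k ha hb hab
  have hdim0 : ringKrullDim ↥(U.left.presheaf.stalk u) = 0 :=
    Groth.Agent.Lib.T2H1.IntegralSp.dim_zero_of_generic X hXi.2.1 x hx a ha u hu
  have hmax : ∀ τ : ↥U.left, τ ⤳ u → τ = u := fun τ hτ =>
    Groth.Agent.Lib.T2H1.IntegralSp.eq_of_specializes_of_dim_zero U.left u τ hdim0 hτ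
  have hfd := Groth.Agent.Lib.Helper4.DimFormula.fibreDimAt_eq_ptTrdeg_of_maximal k.left u
    (fun y _ hy => hmax y hy)
  have hrt := Groth.Agent.Lib.T2H1.ResTrdeg.resTrdeg_eq_ptTrdeg k.left u
  constructor
  · intro H
    have h0 : FlatMor.fibreDimAt k.left u ≤ 0 := by
      obtain ⟨U₁, V₁, a₁, b₁, h₁, u₁, ha₁, hb₁, hab₁, hu₁, hQ₁⟩ := H
      haveI : LocallyOfFiniteType h₁.left := hft a₁ b₁ h₁ ha₁ hb₁ hab₁
      have h0 : FlatMor.fibreDimAt h₁.left u₁ ≤ 0 := (Groth.Agent.S10455.qf_pred_iff h₁.left u₁).1 hQ₁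
      exact Groth.Agent.Lib.T2H1.HasAt.of_hasAtMor
        (Groth.Agent.Lib.T2H1.HasAt.etInv_fibreDim (fun s => s ≤ 0)) f.hom _
        ⟨U₁, V₁, a₁, b₁, h₁, u₁, ha₁, hb₁, hab₁, hu₁, h0⟩ a b k ha hb hab u hu
    rw [hfd] at h0
    have e0' : Groth.Agent.Lib.Helper4.DimFormula.ptTrdeg k.left u = 0 := by
      have : ((Groth.Agent.Lib.Helper4.DimFormula.ptTrdeg k.left u : ℕ) : WithBot ℕ∞) ≤ ((0 : ℕ) : WithBot ℕ∞) := h0
      have h2 : Groth.Agent.Lib.Helper4.DimFormula.ptTrdeg k.left u ≤ 0 := by exact_mod_cast this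
      omega
    refine ⟨U, V, a, b, k, u, ha, hb, hab, hu, ?_⟩
    show Dual3.resTrdeg k.left u = 0
    rw [hrt, e0']
    simp
  · intro H
    have e0 : Dual3.resTrdeg k.left u = 0 :=
      Groth.Agent.Lib.T2H1.HasAt.of_hasAtMor
        (Groth.Agent.Lib.T2H1.ResTrdeg.etInv_resTrdeg (fun t => t = (0 : Cardinal.{u})))
        f.hom _ H a b k ha hb hab u hu
    rw [hrt] at e0
    have e0' : Groth.Agent.Lib.Helper4.DimFormula.ptTrdeg k.left u = 0 := by exact_mod_cast e0
    refine ⟨U, V, a, b, k, u, ha, hb, hab, hu, ?_⟩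
    exact (Groth.Agent.S10455.qf_pred_iff k.left u).2 (by rw [hfd, e0']; rfl)

end Groth.Agent.S10485
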