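import Groth.Statements.S10487
import Mathlib
import Groth.Agent.S10485
import Groth.Agent.Lib.T2H1IntegralSp
import Groth.Agent.Lib.T2H7GenFinH
import Groth.Agent.Lib.T2H7GenFinJ
import Groth.Agent.Lib.T2H1HasAt
import Groth.Agent.Lib.T2H1HasAt1
import Groth.Agent.Lib.T2H1StalkDim
import Groth.Agent.S10406
import Groth.Agent.S10174
import Groth.Agent.S10175
import Groth.Agent.S10176
import Groth.Agent.S10448
import Groth.Agent.S10509
import Groth.Agent.S9874
import Groth.Agent.Lib.Helper12OpenSub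
import Groth.Agent.Lib.Helper12OpenSub2
import Groth.Agent.Lib.Helper12LargestOpen
import Groth.Agent.Lib.Helper12Proper

set_option autoImplicit false
universe u
open CategoryTheory CategoryTheory.Limits AlgebraicGeometry Topology TopologicalSpace
open AlgSp

namespace Groth.Agent.S10487

/-- (3) ⇔ (5): let f : X ⟶ Y be a dominant morphism locally of finite type between integral algebraic
spaces over a scheme S, with generic points x and y. Then there are nonempty affine opens U ⊂ X and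
V ⊂ Y with f(U) ⊂ V and f|_U : U ⟶ V finite, if and only if x is the only point of X mapping to y. -/
theorem result {S : Scheme.{u}} {X Y : AlgSp.Space S} (hXi : AlgSp.IsIntegralSp X.obj) (hYi : AlgSp.IsIntegralSp Y.obj)
    (f : X ⟶ Y) (hft : AlgSp.LocP @LocallyOfFiniteType f.hom) (hd : AlgSp.IsDominantMor f.hom)
    (x : AlgSp.Points X.obj) (hx : IsGenericPoint x (Set.univ : Set (AlgSp.Points X.obj)))
    (y : AlgSp.Points Y.obj) (hy : IsGenericPoint y (Set.univ : Set (AlgSp.Points Y.obj))) :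
    (∃ (U V : Over S) (a : (AlgSp.yon S).obj U ⟶ X.obj) (b : (AlgSp.yon S).obj V ⟶ Y.obj) (g : U ⟶ V),
      IsAffine U.left ∧ IsAffine V.left ∧ Nonempty ↥U.left ∧
        AlgSp.RepWith @IsOpenImmersion a ∧ AlgSp.RepWith @IsOpenImmersion b ∧
          a ≫ f.hom = (AlgSp.yon S).map g ≫ b ∧ IsFinite g.left) ↔ (∀ x' : AlgSp.Points X.obj, AlgSp.Points.map f.hom x' = y → x' = x) := by
  classical
  have hXd : AlgSp.IsDecent X.obj := hXi.2.1
  have hYd : AlgSp.IsDecent Y.obj := hYi.2.1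
  have hfx : AlgSp.Points.map f.hom x = y :=
    Groth.Agent.Lib.T2H1.IntegralSp.map_generic f hd hYd x hx y hy
  have hmonoE : ∀ {A B : AlgSp.Sp S} (k : A ⟶ B), AlgSp.RepWith @IsOpenImmersion k →
      AlgSp.RepWith @Etale k := fun k hk =>
    Groth.Agent.Lib.Helper12.OpenSub.repWith_mono
      (fun _ _ g hg => by have : IsOpenImmersion g := hg; infer_instance) hk
  constructor
  · rintro ⟨U, V, a, b, g, hUaff, hVaff, ⟨u₀⟩, ha, hb, hcomm, hg⟩
    have hae : AlgSp.RepWith @Etale a := hmonoE a ha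
    have hbe : AlgSp.RepWith @Etale b := hmonoE b hb
    have hopen : IsOpen (Set.range (AlgSp.Points.ofPt a)) :=
      (Groth.Agent.S10176.isOpenMap_ofPt a hae).isOpen_range
    obtain ⟨u, hu⟩ : x ∈ Set.range (AlgSp.Points.ofPt a) :=
      (hx.mem_open_set_iff hopen).2 ⟨_, Set.mem_univ _, ⟨u₀, rfl⟩⟩
    have : IsFinite g.left := hg
    refine (Groth.Agent.S10485.result hXi hYi f hft hd x hx y hy).1
      ⟨U, V, a, b, g, u, hae, hbe, hcomm, hu, ⊤, trivial, ?_, ?_⟩
    · infer_instance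
    · infer_instance
  · intro huniq
    have hy0 : AlgSp.HasAt (fun U u => ringKrullDim ↥(U.presheaf.stalk u) = 0) Y.obj y :=
      Groth.Agent.Lib.T2H1.IntegralSp.hasAt_codimZero_generic Y hYd y hy
    have hY0 : {y : AlgSp.Points Y.obj | AlgSp.HasAt
        (fun U u => ringKrullDim ↥(U.presheaf.stalk u) = 0) Y.obj y}.Finite :=
      (Set.finite_singleton y).subset fun ξ hξ =>
        Groth.Agent.Lib.T2H1.IntegralSp.eq_generic_of_codimZero Y hYd y hy ξ hξ
    obtain ⟨V₁, b₁, v₁, hV₁aff, hb₁, hb₁v, hbuniq⟩ :=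
      Groth.Agent.Lib.T2H7.GenFinJ.exists_affine_open_chart_unique hYd hY0 y hy0
    have : IsAffine V₁.left := hV₁aff
    have hb₁e : AlgSp.RepWith @Etale b₁ := hmonoE b₁ hb₁
    have hv0 : ringKrullDim ↥(V₁.left.presheaf.stalk v₁) = 0 :=
      Groth.Agent.Lib.T2H1.HasAt.of_hasAt
        (Groth.Agent.Lib.T2H1.HasAt.etInv1_stalkDim (fun s => s = 0)) y hy0 b₁ hb₁e v₁ hb₁v
    have huniqV : ∀ v' : ↥V₁.left, ringKrullDim ↥(V₁.left.presheaf.stalk v') = 0 → v' = v₁ :=
      fun v' hv' => hbuniq v' ⟨V₁, b₁, v', hb₁e, rfl, hv'⟩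
    let X₁ : AlgSp.Sp S := pullback f.hom b₁
    let p₁ : X₁ ⟶ X.obj := pullback.fst f.hom b₁
    let g₁ : X₁ ⟶ (AlgSp.yon S).obj V₁ := pullback.snd f.hom b₁
    have sq₁ : IsPullback p₁ g₁ f.hom b₁ := IsPullback.of_hasPullback _ _
    have hX₁ : AlgSp.IsAlgSpace X₁ :=
      Groth.Agent.S9874.isAlgSpace_of_isPullback Y.property.diag X.property
        (AlgSp.IsAlgSpace.yon_obj V₁) sq₁
    have hg₁lft : AlgSp.LocP @LocallyOfFiniteType g₁ :=
      Groth.Agent.Lib.Helper12.Proper.locP_lft_baseChange X.property Y.property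
        (AlgSp.IsAlgSpace.yon_obj V₁) sq₁ hft
    have hp₁ : AlgSp.RepWith @IsOpenImmersion p₁ := MorphismProperty.of_isPullback sq₁.flip hb₁
    have hp₁e : AlgSp.RepWith @Etale p₁ := hmonoE p₁ hp₁
    obtain ⟨x₁, hx₁g, hx₁p⟩ := Groth.Agent.S10175.exists_point_of_isPullback sq₁.flip
      (AlgSp.Points.ofScheme V₁ v₁) x (by rw [← AlgSp.Points.ofPt_eq_map_ofScheme, hb₁v, hfx])
    obtain ⟨W, c, w, hce, hWaff, hcw⟩ :=
      Groth.Agent.S10448.exists_affine_etale_nbhd ⟨X₁, hX₁⟩ x₁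
    have : IsAffine W.left := hWaff
    let N : Set (AlgSp.Points X₁) := Set.range (AlgSp.Points.ofPt c)
    have hN : IsOpen N := (Groth.Agent.S10176.isOpenMap_ofPt c hce).isOpen_range
    let X₁' : AlgSp.Sp S := Groth.Agent.Lib.Helper12.OpenSub.obj X₁ N
    let incl : X₁' ⟶ X₁ := Groth.Agent.Lib.Helper12.OpenSub.incl X₁ N
    have hincl : AlgSp.RepWith @IsOpenImmersion incl :=
      Groth.Agent.Lib.Helper12.OpenSub.repWith_incl hN
    have hincle : AlgSp.RepWith @Etale incl := hmonoE incl hincl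
    have hX₁' : AlgSp.IsAlgSpace X₁' := Groth.Agent.Lib.Helper12.OpenSub.isAlgSpace_obj hX₁ hN
    have hrange : Set.range (AlgSp.Points.map incl) = N :=
      Groth.Agent.Lib.Helper12.OpenSub.range_map_incl N
    have hinj : Function.Injective (AlgSp.Points.map incl) :=
      Groth.Agent.Lib.Helper12.LargestOpen.injective_map_of_open incl hincl
    have hqc : AlgSp.IsQuasiCompactSp X₁' := by
      rw [Groth.Agent.S10174.isQuasiCompactSp_iff hX₁']
      have hemb : Topology.IsOpenEmbedding (AlgSp.Points.map incl) :=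
        Topology.IsOpenEmbedding.of_continuous_injective_isOpenMap
          (AlgSp.Points.continuous_map incl) hinj
          (Groth.Agent.Lib.Helper12.OpenSub.isOpenMap_map_of_open incl hincl)
      have hcomp : IsCompact N := isCompact_range (AlgSp.Points.continuous_ofPt c)
      rw [← isCompact_univ_iff, hemb.isInducing.isCompact_iff, Set.image_univ, hrange]
      exact hcomp
    let g' : X₁' ⟶ (AlgSp.yon S).obj V₁ := incl ≫ g₁
    have hg'lft : AlgSp.LocP @LocallyOfFiniteType g' := fun U V a b h ha hb hcomm =>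
      hg₁lft (a ≫ incl) b h ((AlgSp.RepWith @Etale).comp_mem _ _ ha hincle) hb
        (by rw [Category.assoc]; exact hcomm)
    have H : ∀ {W' : Over S} (c' : (AlgSp.yon S).obj W' ⟶ X₁') (h : W' ⟶ V₁),
        AlgSp.RepWith @Etale c' → c' ≫ g' = (AlgSp.yon S).map h → ∀ w' : ↥W'.left,
          (ringKrullDim ↥(W'.left.presheaf.stalk w') = 0 ↔ h.left w' = v₁) := by
      intro W' c' h hc'e hc'g w'
      have hcomm : (c' ≫ incl ≫ p₁) ≫ f.hom = (AlgSp.yon S).map h ≫ b₁ := by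
        rw [Category.assoc, Category.assoc, sq₁.w, ← Category.assoc incl, ← Category.assoc c',
          hc'g]
      have hcpe : AlgSp.RepWith @Etale (c' ≫ incl ≫ p₁) :=
        (AlgSp.RepWith @Etale).comp_mem _ _ hc'e
          ((AlgSp.RepWith @Etale).comp_mem _ _ hincle hp₁e)
      have hfξ : AlgSp.Points.map f.hom (AlgSp.Points.ofPt (c' ≫ incl ≫ p₁) w') =
          AlgSp.Points.ofPt b₁ (h.left w') := by
        rw [AlgSp.Points.map_ofPt, hcomm, Groth.Agent.S10509.ofPt_yon_map_comp]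
      constructor
      · intro hd0
        have hξ : AlgSp.HasAt (fun U u => ringKrullDim ↥(U.presheaf.stalk u) = 0) X.obj
            (AlgSp.Points.ofPt (c' ≫ incl ≫ p₁) w') := ⟨W', c' ≫ incl ≫ p₁, w', hcpe, rfl, hd0⟩
        have e := Groth.Agent.Lib.T2H1.IntegralSp.eq_generic_of_codimZero X hXd x hx _ hξ
        rw [e, hfx] at hfξ
        exact hbuniq _ (by rw [← hfξ]; exact hy0)
      · intro hw'
        have e : AlgSp.Points.ofPt (c' ≫ incl ≫ p₁) w' = x :=
          huniq _ (by rw [hfξ, hw', hb₁v])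
        have hξ : AlgSp.HasAt (fun U u => ringKrullDim ↥(U.presheaf.stalk u) = 0) X.obj
            (AlgSp.Points.ofPt (c' ≫ incl ≫ p₁) w') := by
          rw [e]
          exact Groth.Agent.Lib.T2H1.IntegralSp.hasAt_codimZero_generic X hXd x hx
        exact Groth.Agent.Lib.T2H1.HasAt.of_hasAt
          (Groth.Agent.Lib.T2H1.HasAt.etInv1_stalkDim (fun s => s = 0)) _ hξ
          (c' ≫ incl ≫ p₁) hcpe w' rfl
    obtain ⟨V', hV'aff, hv₁V', hfin⟩ :=
      Groth.Agent.Lib.T2H7.GenFinH.exists_open_isFiniteMor_of_generic hX₁' g' hg'lft hqc v₁ hv0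
        huniqV H
    let VO : Over S := Over.mk (V'.ι ≫ V₁.hom)
    let ιV : VO ⟶ V₁ := Over.homMk V'.ι rfl
    have hVOaff : IsAffine VO.left := hV'aff
    have hιV : AlgSp.RepWith @IsOpenImmersion ((AlgSp.yon S).map ιV) :=
      (AlgSp.repWith_yon_map_iff @IsOpenImmersion ιV).2 (inferInstanceAs (IsOpenImmersion V'.ι))
    let b : (AlgSp.yon S).obj VO ⟶ Y.obj := (AlgSp.yon S).map ιV ≫ b₁
    have hb : AlgSp.RepWith @IsOpenImmersion b :=
      (AlgSp.RepWith @IsOpenImmersion).comp_mem _ _ hιV hb₁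
    let P' : AlgSp.Sp S := pullback g' ((AlgSp.yon S).map ιV)
    let q₁ : P' ⟶ X₁' := pullback.fst g' ((AlgSp.yon S).map ιV)
    let q₂ : P' ⟶ (AlgSp.yon S).obj VO := pullback.snd g' ((AlgSp.yon S).map ιV)
    have sqP : IsPullback q₁ q₂ g' ((AlgSp.yon S).map ιV) := IsPullback.of_hasPullback _ _
    have hq₂fin : AlgSp.IsFiniteMor q₂ := hfin P' q₁ q₂ sqP
    obtain ⟨T, i, q, sqT, hTaff, hi⟩ := hq₂fin hVOaff (𝟙 _)
    have hq : AlgSp.RepWith @IsOpenImmersion q :=
      MorphismProperty.of_isPullback sqT.flip (AlgSp.repWith_id @IsOpenImmersion VO)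
    have hq₁ : AlgSp.RepWith @IsOpenImmersion q₁ := MorphismProperty.of_isPullback sqP.flip hιV
    let a : (AlgSp.yon S).obj T ⟶ X.obj := q ≫ q₁ ≫ incl ≫ p₁
    have ha : AlgSp.RepWith @IsOpenImmersion a :=
      (AlgSp.RepWith @IsOpenImmersion).comp_mem _ _ hq
        ((AlgSp.RepWith @IsOpenImmersion).comp_mem _ _ hq₁
          ((AlgSp.RepWith @IsOpenImmersion).comp_mem _ _ hincl hp₁))
    have hcomm : a ≫ f.hom = (AlgSp.yon S).map i ≫ b := by
      change (q ≫ q₁ ≫ incl ≫ p₁) ≫ f.hom = (AlgSp.yon S).map i ≫ (AlgSp.yon S).map ιV ≫ b₁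
      have e1 : q ≫ q₂ = (AlgSp.yon S).map i := by
        have := sqT.w
        rw [Category.comp_id] at this
        exact this
      have e2 : q₁ ≫ incl ≫ g₁ = q₂ ≫ (AlgSp.yon S).map ιV := sqP.w
      calc (q ≫ q₁ ≫ incl ≫ p₁) ≫ f.hom = q ≫ (q₁ ≫ incl ≫ g₁) ≫ b₁ := by
            simp only [Category.assoc]; rw [sq₁.w]
        _ = q ≫ (q₂ ≫ (AlgSp.yon S).map ιV) ≫ b₁ := by rw [e2]
        _ = (q ≫ q₂) ≫ (AlgSp.yon S).map ιV ≫ b₁ := by simp only [Category.assoc]
        _ = _ := by rw [e1]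
    -- nonemptiness
    have hx₁N : x₁ ∈ N := ⟨w, hcw⟩
    obtain ⟨x₁', hx₁'⟩ : x₁ ∈ Set.range (AlgSp.Points.map incl) := by rw [hrange]; exact hx₁N
    have hpt : AlgSp.Points.map g' x₁' =
        AlgSp.Points.map ((AlgSp.yon S).map ιV) (AlgSp.Points.ofScheme VO ⟨v₁, hv₁V'⟩) := by
      change AlgSp.Points.map (incl ≫ g₁) x₁' = _
      rw [AlgSp.Points.map_comp, hx₁', hx₁g, ← AlgSp.Points.ofPt_eq_map_ofScheme]
      have e3 := Groth.Agent.S10509.ofPt_yon_map_comp ιV (𝟙 _) (⟨v₁, hv₁V'⟩ : ↥VO.left)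
      rw [Category.comp_id] at e3
      exact e3.symm
    obtain ⟨p', -, hp'2⟩ := Groth.Agent.S10175.exists_point_of_isPullback sqP x₁'
      (AlgSp.Points.ofScheme VO ⟨v₁, hv₁V'⟩) hpt
    obtain ⟨t, -, -⟩ := Groth.Agent.S10406.exists_point_of_sq sqT p' (⟨v₁, hv₁V'⟩ : ↥VO.left) hp'2
    exact ⟨T, VO, a, b, i, hTaff, hVOaff, ⟨t⟩, ha, hb, hcomm, hi⟩

end Groth.Agent.S10487
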