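import Groth.Statements.S10488
import Mathlib
import Groth.Agent.S10400
import Groth.Agent.Lib.T2H1IntegralSp
import Groth.Agent.Lib.T2H7GenFinJ
import Groth.Agent.S10406
import Groth.Agent.S10343
import Groth.Agent.S10340
import Groth.Agent.S10176
import Groth.Agent.S10509
import Groth.Agent.Lib.Helper12OpenSub
import Groth.Agent.Lib.Helper12OpenSub2
import Groth.Agent.Lib.Helper12LargestOpen

set_option autoImplicit false
universe u
open CategoryTheory CategoryTheory.Limits AlgebraicGeometry Topology TopologicalSpace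
open AlgSp

namespace Groth.Agent.S10488

/-- (5) ⇔ (6): let f : X ⟶ Y be a dominant morphism locally of finite type between integral algebraic
spaces over a scheme S, with generic points x and y, and assume f separated or quasi-compact. Then x
is the only point of X mapping to y if and only if there is a nonempty affine open V ⊂ Y such that
f⁻¹(V) ⟶ V is finite. -/
theorem result {S : Scheme.{u}} {X Y : AlgSp.Space S} (hXi : AlgSp.IsIntegralSp X.obj) (hYi : AlgSp.IsIntegralSp Y.obj)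
    (f : X ⟶ Y) (hft : AlgSp.LocP @LocallyOfFiniteType f.hom) (hd : AlgSp.IsDominantMor f.hom)
    (x : AlgSp.Points X.obj) (hx : IsGenericPoint x (Set.univ : Set (AlgSp.Points X.obj)))
    (y : AlgSp.Points Y.obj) (hy : IsGenericPoint y (Set.univ : Set (AlgSp.Points Y.obj)))
    (hsq : AlgSp.IsSeparatedMor f.hom ∨ AlgSp.IsQuasiCompactMor f.hom) :
    (∀ x' : AlgSp.Points X.obj, AlgSp.Points.map f.hom x' = y → x' = x) ↔
      ∃ (V : Over S) (b : (AlgSp.yon S).obj V ⟶ Y.obj) (U : Over S) (g : U ⟶ V) (a : (AlgSp.yon S).obj U ⟶ X.obj),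
        IsAffine V.left ∧ Nonempty ↥V.left ∧ AlgSp.RepWith @IsOpenImmersion b ∧
          IsPullback a ((AlgSp.yon S).map g) f.hom b ∧ IsAffine U.left ∧ IsFinite g.left := by
  classical
  have hXd : AlgSp.IsDecent X.obj := hXi.2.1
  have hYd : AlgSp.IsDecent Y.obj := hYi.2.1
  have hfx : AlgSp.Points.map f.hom x = y :=
    Groth.Agent.Lib.T2H1.IntegralSp.map_generic f hd hYd x hx y hy
  have hy0 : AlgSp.HasAt (fun U u => ringKrullDim ↥(U.presheaf.stalk u) = 0) Y.obj y :=
    Groth.Agent.Lib.T2H1.IntegralSp.hasAt_codimZero_generic Y hYd y hy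
  have hX0 : {x : AlgSp.Points X.obj | AlgSp.HasAt
      (fun U u => ringKrullDim ↥(U.presheaf.stalk u) = 0) X.obj x}.Finite :=
    (Set.finite_singleton x).subset fun ξ hξ =>
      Groth.Agent.Lib.T2H1.IntegralSp.eq_generic_of_codimZero X hXd x hx ξ hξ
  have hY0 : {y : AlgSp.Points Y.obj | AlgSp.HasAt
      (fun U u => ringKrullDim ↥(U.presheaf.stalk u) = 0) Y.obj y}.Finite :=
    (Set.finite_singleton y).subset fun ξ hξ =>
      Groth.Agent.Lib.T2H1.IntegralSp.eq_generic_of_codimZero Y hYd y hy ξ hξ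
  constructor
  · intro huniq
    have hpre : ∀ x' : AlgSp.Points X.obj,
        AlgSp.HasAt (fun U u => ringKrullDim ↥(U.presheaf.stalk u) = 0) X.obj x' ↔
          AlgSp.HasAt (fun U u => ringKrullDim ↥(U.presheaf.stalk u) = 0) Y.obj
            (AlgSp.Points.map f.hom x') := by
      intro x'
      constructor
      · intro h
        have e := Groth.Agent.Lib.T2H1.IntegralSp.eq_generic_of_codimZero X hXd x hx x' h
        rw [e, hfx]
        exact hy0
      · intro h
        have e := Groth.Agent.Lib.T2H1.IntegralSp.eq_generic_of_codimZero Y hYd y hy _ h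
        rw [huniq x' e]
        exact Groth.Agent.Lib.T2H1.IntegralSp.hasAt_codimZero_generic X hXd x hx
    obtain ⟨V₀, X', j, fst, snd, hj, hdense, sq, hfin⟩ :=
      Groth.Agent.S10400.result f hft hYd hX0 hY0 hpre hsq.symm
    obtain ⟨V₁, b₁, v₁, hV₁aff, hb₁, hb₁v, -⟩ :=
      Groth.Agent.Lib.T2H7.GenFinJ.exists_affine_open_chart_unique hYd hY0 y hy0
    have hopen : IsOpen (Set.range (AlgSp.Points.map j.hom)) :=
      Groth.Agent.Lib.Helper12.OpenSub.isOpen_range_of_open j.hom hj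
    have hyr : y ∈ Set.range (AlgSp.Points.map j.hom) := by
      obtain ⟨z, hz⟩ := hdense.nonempty_iff.2 ⟨y⟩
      exact (hy.mem_open_set_iff hopen).2 ⟨z, Set.mem_univ _, hz⟩
    let O : Set ↥V₁.left := AlgSp.Points.ofPt b₁ ⁻¹' Set.range (AlgSp.Points.map j.hom)
    have hO : IsOpen O := hopen.preimage (AlgSp.Points.continuous_ofPt b₁)
    have hv₁O : v₁ ∈ O := by
      change AlgSp.Points.ofPt b₁ v₁ ∈ Set.range (AlgSp.Points.map j.hom)
      rw [hb₁v]; exact hyr
    obtain ⟨V', hV'aff, hv₁V', hV'O⟩ :=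
      Opens.isBasis_iff_nbhd.1 V₁.left.isBasis_affineOpens (U := (⟨O, hO⟩ : V₁.left.Opens)) hv₁O
    let VO : Over S := Over.mk ((Scheme.Opens.ι (X := V₁.left) V') ≫ V₁.hom)
    let ιV : VO ⟶ V₁ := Over.homMk (Scheme.Opens.ι (X := V₁.left) V') rfl
    let b : (AlgSp.yon S).obj VO ⟶ Y.obj := (AlgSp.yon S).map ιV ≫ b₁
    have hb : AlgSp.RepWith @IsOpenImmersion b :=
      (AlgSp.RepWith @IsOpenImmersion).comp_mem _ _
        ((AlgSp.repWith_yon_map_iff @IsOpenImmersion ιV).2
          (inferInstanceAs (IsOpenImmersion (Scheme.Opens.ι (X := V₁.left) V')))) hb₁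
    have hVOaff : IsAffine VO.left := hV'aff
    have hrange : Set.range (AlgSp.Points.map b) ⊆ Set.range (AlgSp.Points.map j.hom) := by
      rintro _ ⟨p, rfl⟩
      obtain ⟨t, rfl⟩ := (AlgSp.Points.schemeHomeo VO).surjective p
      have e1 : AlgSp.Points.map b (AlgSp.Points.schemeHomeo VO t) = AlgSp.Points.ofPt b t :=
        (AlgSp.Points.ofPt_eq_map_ofScheme b t).symm
      rw [e1, Groth.Agent.S10509.ofPt_yon_map_comp ιV b₁ t]
      exact hV'O t.2
    obtain ⟨k, hk, -⟩ := Groth.Agent.Lib.Helper12.LargestOpen.factor_open j.hom hj b hb hrange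
    obtain ⟨W, i, q, sqq, hW, hi⟩ := hfin hVOaff k
    refine ⟨VO, b, W, i, q ≫ snd.hom, hVOaff, ⟨⟨v₁, hv₁V'⟩⟩, hb, ?_, hW, hi⟩
    have := sqq.paste_horiz sq.flip
    rw [hk] at this
    exact this
  · rintro ⟨V, b, U, g, a, hVaff, ⟨v₀⟩, hb, sq, hUaff, hg⟩ x' hx'
    have hbe : AlgSp.RepWith @Etale b :=
      Groth.Agent.Lib.Helper12.OpenSub.repWith_mono
        (fun _ _ g hg => by have : IsOpenImmersion g := hg; infer_instance) hb
    have hae : AlgSp.RepWith @Etale a :=
      MorphismProperty.of_isPullback (P := AlgSp.RepWith @Etale) sq.flip hbe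
    have hopen : IsOpen (Set.range (AlgSp.Points.ofPt b)) :=
      (Groth.Agent.S10176.isOpenMap_ofPt b hbe).isOpen_range
    obtain ⟨v, hv⟩ : y ∈ Set.range (AlgSp.Points.ofPt b) :=
      (hy.mem_open_set_iff hopen).2 ⟨_, Set.mem_univ _, ⟨v₀, rfl⟩⟩
    obtain ⟨u', hu', hgu'⟩ := Groth.Agent.S10406.exists_point_of_sq sq x' v (by rw [hx', hv])
    obtain ⟨u₁, hu₁s, hu₁⟩ := Groth.Agent.S10343.result X x' x
      (hx.specializes (Set.mem_univ _)) (hXd x) a hae u' hu'
    have hbg : AlgSp.Points.ofPt b (g.left u₁) = y := by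
      rw [← Groth.Agent.S10509.ofPt_yon_map_comp g b u₁, ← sq.w, ← AlgSp.Points.map_ofPt, hu₁, hfx]
    have hsp : g.left u₁ ⤳ v := by
      rw [← hgu']; exact hu₁s.map g.left.continuous
    have hgu₁ : v = g.left u₁ :=
      Groth.Agent.S10340.result Y hYd b hbe v (g.left u₁) (by rw [hbg, hv]) hsp
    have : IsFinite g.left := hg
    have : DiscreteTopology ↥(g.left ⁻¹' {v}) :=
      (g.left.isDiscrete_preimage_singleton v).to_subtype
    have hm₁ : u₁ ∈ g.left ⁻¹' {v} := hgu₁.symm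
    have hm₂ : u' ∈ g.left ⁻¹' {v} := hgu'
    have hsub : (⟨u₁, hm₁⟩ : ↥(g.left ⁻¹' {v})) ⤳ ⟨u', hm₂⟩ :=
      Topology.IsInducing.subtypeVal.specializes_iff.1 hu₁s
    have huu : u₁ = u' := congrArg Subtype.val hsub.eq
    rw [← hu', ← huu, hu₁]

end Groth.Agent.S10488
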