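import Groth.Statements.S10491
import Groth.Agent.Lib.T2H1LocFinIrr
import Groth.Agent.S10176
import Groth.Agent.S10177

set_option autoImplicit false
universe u
open CategoryTheory CategoryTheory.Limits AlgebraicGeometry Topology TopologicalSpace
open AlgSp

namespace Groth.Agent.S10491

/-- Let X be an algebraic space over a scheme S which is locally Noetherian, and T ⊂ |X| a closed
subset. Then every point of |X| has a neighbourhood meeting only finitely many irreducible
components of T. -/
theorem result {S : Scheme.{u}} (X : AlgSp.Space S)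
    (hX : AlgSp.IsLocNoethSp X.obj) (T : Set (AlgSp.Points X.obj)) (hT : IsClosed T) :
    LocallyFinite (fun Z : ↥(irreducibleComponents ↥T) => ((↑) : ↥T → AlgSp.Points X.obj) '' (Z : Set ↥T)) := by
  obtain ⟨U, a, hae, has, hU⟩ := hX
  haveI : IsLocallyNoetherian U.left := hU
  intro x
  obtain ⟨u, hu⟩ := Groth.Agent.S10177.surjective_ofPt a has x
  obtain ⟨V, hVaff, huV, -⟩ :=
    exists_isAffineOpen_mem_and_subset (X := U.left) (x := u) (U := ⊤) trivial
  haveI : IsNoetherianRing Γ(U.left, V) :=
    IsLocallyNoetherian.component_noetherian ⟨V, hVaff⟩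
  haveI : NoetherianSpace ↥V := noetherianSpace_of_isAffineOpen V hVaff
  let g : ↥V → AlgSp.Points X.obj := fun v => AlgSp.Points.ofPt a v.1
  have hg : Continuous g := (AlgSp.Points.continuous_ofPt a).comp continuous_subtype_val
  have hgo : IsOpenMap g :=
    (Groth.Agent.S10176.isOpenMap_ofPt a hae).comp V.isOpenEmbedding'.isOpenMap
  refine ⟨Set.range g, hgo.isOpen_range.mem_nhds ⟨⟨u, huV⟩, hu⟩, ?_⟩
  exact Groth.Agent.Lib.T2H1.LocFinIrr.finite_components_meeting_range T g hg hgo

end Groth.Agent.S10491
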