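import Groth.Statements.S10494
import Groth.Agent.S10242
import Groth.Agent.S10176
import Groth.Agent.S10177

set_option autoImplicit false
universe u
open CategoryTheory CategoryTheory.Limits AlgebraicGeometry Topology TopologicalSpace
open AlgSp

namespace Groth.Agent.S10494

variable {S : Scheme.{u}}

/-- the component of a global function on an etale chart. -/
noncomputable def comp (X : AlgSp.Space S) (f : ↥(AlgSp.gsectEt (AlgSp.OEt X.obj)))
    (E : AlgSp.EtOver X.obj) : Γ(E.obj.left.left, ⊤) :=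
  ((limit.π (AlgSp.OEt X.obj).obj (Opposite.op E)) f).down

lemma comp_map (X : AlgSp.Space S) (f : ↥(AlgSp.gsectEt (AlgSp.OEt X.obj)))
    {E' E : AlgSp.EtOver X.obj} (φ : E' ⟶ E) :
    comp X f E' = φ.hom.left.left.appTop.hom (comp X f E) := by
  have h1 := limit.w (AlgSp.OEt X.obj).obj φ.op
  have h2 : (limit.π (AlgSp.OEt X.obj).obj (Opposite.op E')) f =
      ((AlgSp.OEt X.obj).obj.map φ.op) ((limit.π (AlgSp.OEt X.obj).obj (Opposite.op E)) f) := by
    rw [← h1]
    rfl
  unfold comp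
  rw [h2]
  rfl

lemma comp_mul (X : AlgSp.Space S) (f g : ↥(AlgSp.gsectEt (AlgSp.OEt X.obj)))
    (E : AlgSp.EtOver X.obj) : comp X (f * g) E = comp X f E * comp X g E := by
  unfold comp
  rw [map_mul]
  rfl

/-- the non-vanishing locus of a global function, in `|X|`. -/
def nonvanish (X : AlgSp.Space S) (f : ↥(AlgSp.gsectEt (AlgSp.OEt X.obj))) :
    Set (AlgSp.Points X.obj) :=
  ⋃ E : AlgSp.EtOver X.obj, AlgSp.Points.ofPt E.obj.hom ''
    (E.obj.left.left.basicOpen (comp X f E) : Set ↥E.obj.left.left)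

lemma isOpen_nonvanish (X : AlgSp.Space S) (f : ↥(AlgSp.gsectEt (AlgSp.OEt X.obj))) :
    IsOpen (nonvanish X f) :=
  isOpen_iUnion fun E =>
    Groth.Agent.S10176.isOpenMap_ofPt E.obj.hom E.property _
      (E.obj.left.left.basicOpen (comp X f E)).2

lemma nonvanish_inter (X : AlgSp.Space S) (f g : ↥(AlgSp.gsectEt (AlgSp.OEt X.obj))) :
    nonvanish X f ∩ nonvanish X g ⊆ nonvanish X (f * g) := by
  rintro x ⟨hxf, hxg⟩
  obtain ⟨E, e, he, rfl⟩ := Set.mem_iUnion.1 hxf
  obtain ⟨E', e', he', hee'⟩ := Set.mem_iUnion.1 hxg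
  obtain ⟨W, pr1, pr2', sq⟩ := E.property.1 E'.obj.hom
  obtain ⟨pr2, rfl⟩ := (AlgSp.yon S).map_surjective pr2'
  have e1 : Etale pr1.left := E.property.2 _ _ pr1 sq
  obtain ⟨y, hy1, hy2⟩ := Groth.Agent.S10176.exists_point_of_isPullback_yon sq e e' hee'.symm
  let EW : AlgSp.EtOver X.obj := AlgSp.EtOver.mk ((AlgSp.yon S).map pr1 ≫ E'.obj.hom)
    ((AlgSp.RepWith (S := S) @Etale).comp_mem _ _
      ((AlgSp.repWith_yon_map_iff @Etale pr1).2 e1) E'.property)
  let φ' : EW ⟶ E' := AlgSp.EtOver.homMk (E := EW) (E' := E') pr1 rfl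
  let φ : EW ⟶ E := AlgSp.EtOver.homMk (E := EW) (E' := E) pr2 sq.w
  refine Set.mem_iUnion.2 ⟨EW, y, ?_, ?_⟩
  · rw [comp_mul, Scheme.basicOpen_mul, comp_map X f φ, comp_map X g φ']
    constructor
    · have := Scheme.preimage_basicOpen_top φ.hom.left.left (comp X f E)
      have h3 : y ∈ φ.hom.left.left ⁻¹ᵁ E.obj.left.left.basicOpen (comp X f E) := by
        show pr2.left y ∈ E.obj.left.left.basicOpen (comp X f E)
        rw [hy1]; exact he
      rw [this] at h3
      exact h3
    · have := Scheme.preimage_basicOpen_top φ'.hom.left.left (comp X g E')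
      have h3 : y ∈ φ'.hom.left.left ⁻¹ᵁ E'.obj.left.left.basicOpen (comp X g E') := by
        show pr1.left y ∈ E'.obj.left.left.basicOpen (comp X g E')
        rw [hy2]; exact he'
      rw [this] at h3
      exact h3
  · show AlgSp.Points.ofPt ((AlgSp.yon S).map pr1 ≫ E'.obj.hom) y = _
    rw [← sq.w, Groth.Agent.S10176.ofPt_map_comp, hy1]

lemma eq_zero_of_nonvanish_eq_empty (X : AlgSp.Space S) (hX : AlgSp.IsReducedSp X.obj)
    (f : ↥(AlgSp.gsectEt (AlgSp.OEt X.obj))) (h : nonvanish X f = ∅) : f = 0 := by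
  apply (Groth.Agent.S10242.result X hX).2
  intro E
  ext e
  simp only [TopologicalSpace.Opens.coe_bot, Set.mem_empty_iff_false, iff_false]
  intro he
  have : AlgSp.Points.ofPt E.obj.hom e ∈ nonvanish X f :=
    Set.mem_iUnion.2 ⟨E, e, he, rfl⟩
  rw [h] at this
  exact this

/-- Let X be an integral algebraic space over a scheme S. Then Γ(X, O_X) is a domain. -/
theorem result {S : Scheme.{u}} (X : AlgSp.Space S)
    (hX : AlgSp.IsIntegralSp X.obj) : IsDomain ↥(AlgSp.gsectEt (AlgSp.OEt X.obj)) := by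
  obtain ⟨hred, hdec, hirr⟩ := hX
  haveI := hirr
  have hnt : Nontrivial ↥(AlgSp.gsectEt (AlgSp.OEt X.obj)) := by
    obtain ⟨x⟩ := (inferInstance : Nonempty (AlgSp.Points X.obj))
    obtain ⟨U, a, hae, has⟩ := X.property.atlas
    obtain ⟨u, -⟩ := Groth.Agent.S10177.surjective_ofPt a has x
    let E : AlgSp.EtOver X.obj := AlgSp.EtOver.mk a hae
    refine ⟨⟨0, 1, fun h01 => ?_⟩⟩
    have h1 : comp X 0 E = comp X 1 E := by rw [h01]
    have h2 : (0 : Γ(U.left, ⊤)) = 1 := by
      unfold comp at h1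
      rw [map_zero, map_one] at h1
      exact h1
    haveI : Nonempty (⊤ : U.left.Opens) := ⟨⟨u, trivial⟩⟩
    haveI : Nontrivial Γ(U.left, ⊤) := Scheme.component_nontrivial U.left ⊤
    exact zero_ne_one h2
  haveI := hnt
  have hnzd : NoZeroDivisors ↥(AlgSp.gsectEt (AlgSp.OEt X.obj)) := by
    refine ⟨fun {f g} hfg => ?_⟩
    by_contra hcon
    push_neg at hcon
    have hf : (nonvanish X f).Nonempty := by
      rw [Set.nonempty_iff_ne_empty]
      exact fun h => hcon.1 (eq_zero_of_nonvanish_eq_empty X hred f h)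
    have hg : (nonvanish X g).Nonempty := by
      rw [Set.nonempty_iff_ne_empty]
      exact fun h => hcon.2 (eq_zero_of_nonvanish_eq_empty X hred g h)
    obtain ⟨x, hx⟩ := nonempty_preirreducible_inter (isOpen_nonvanish X f) (isOpen_nonvanish X g)
      hf hg
    have h3 := nonvanish_inter X f g hx
    rw [hfg] at h3
    obtain ⟨E, e, he, -⟩ := Set.mem_iUnion.1 h3
    have h0 : comp X 0 E = 0 := by
      unfold comp
      rw [map_zero]
      rfl
    rw [h0, Scheme.basicOpen_zero] at he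
    exact he
  exact NoZeroDivisors.to_isDomain _

end Groth.Agent.S10494
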