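import Groth.Statements.S10496
import Mathlib
import Groth.Agent.S10192
import Groth.Agent.S10191
import Groth.Agent.S10351

set_option autoImplicit false
universe u
open CategoryTheory CategoryTheory.Limits AlgebraicGeometry
open AlgSp

namespace Groth.Agent.S10496

/-- Let X be a decent algebraic space over a scheme S. For every irreducible closed subset T of |X|
there is an integral closed subspace Z of X with |Z| = T. -/
theorem result {S : Scheme.{u}} (X : AlgSp.Space S)
    (hX : AlgSp.IsDecent X.obj) (T : Set (AlgSp.Points X.obj)) (hT : IsClosed T) (hTi : IsIrreducible T) :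
    ∃ (Z : AlgSp.Space S) (i : Z ⟶ X), AlgSp.RepWith @IsClosedImmersion i.hom ∧ AlgSp.IsIntegralSp Z.obj ∧
      Set.range (AlgSp.Points.map i.hom) = T := by
  obtain ⟨Z, i, hi, hr, hred⟩ := Groth.Agent.S10192.result X T hT
  refine ⟨Z, i, hi, ⟨hred, Groth.Agent.S10351.result i hi.1 hX, ?_⟩, hr⟩
  have himm : AlgSp.RepWith @IsImmersion i.hom :=
    ⟨hi.1, fun U V g fst snd sq => by
      haveI : IsClosedImmersion snd.left := hi.2 g fst snd sq
      change IsImmersion snd.left
      infer_instance⟩
  have hemb := (Groth.Agent.S10191.result i himm).1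
  haveI : IrreducibleSpace ↥(Set.range (AlgSp.Points.map i.hom)) := by
    rw [hr]
    exact Subtype.irreducibleSpace hTi
  exact hemb.toHomeomorph.irreducibleSpace_iff.2 inferInstance

end Groth.Agent.S10496
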