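import Groth.Statements.S10497
import Groth.Agent.Lib.T2H1ConnComp
import Groth.Agent.Lib.Helper12GeomRed
import Groth.Agent.Lib.Helper12FieldBC
import Groth.Agent.S10351

set_option autoImplicit false
universe u
open CategoryTheory CategoryTheory.Limits AlgebraicGeometry Topology TopologicalSpace
open AlgSp

namespace Groth.Agent.S10497

/-- Let k be a field and X a decent algebraic space over k. Then all base changes X_K to field
extensions K of k are integral exactly when X is geometrically reduced over k and every |X_K| is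
irreducible. -/
theorem result (k : Type u) [Field k] (X : AlgSp.Space (Spec (CommRingCat.of k))) (hX : AlgSp.IsDecent X.obj) :
    (∀ (K : Type u) [Field K] [Algebra k K], AlgSp.IsIntegralSp (X.obj ⨯ (AlgSp.yon (Spec (CommRingCat.of k))).obj (Over.mk (Spec.map (CommRingCat.ofHom (algebraMap k K)))))) ↔
      (∀ x : AlgSp.Points X.obj, (∃ (U : Over (Spec (CommRingCat.of k))) (a : (AlgSp.yon (Spec (CommRingCat.of k))).obj U ⟶ X.obj) (u : ↥U.left),
      AlgSp.RepWith @Etale a ∧ AlgSp.Points.ofPt a u = x ∧ FBase.IsGeomReducedAt U.hom u)) ∧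
        ∀ (K : Type u) [Field K] [Algebra k K], IrreducibleSpace (AlgSp.Points (X.obj ⨯ (AlgSp.yon (Spec (CommRingCat.of k))).obj (Over.mk (Spec.map (CommRingCat.ofHom (algebraMap k K)))))) := by
  obtain ⟨U, a, hae, has⟩ := X.property.atlas
  constructor
  · intro h
    refine ⟨fun x => ?_, fun K _ _ => (h K).2.2⟩
    obtain ⟨u, hu⟩ := Groth.Agent.S10177.surjective_ofPt a has x
    refine ⟨U, a, u, hae, hu, ?_⟩
    intro K _ _ x' _
    haveI : IsReduced (FBase.bc U.hom K) :=
      Groth.Agent.Lib.Helper12.FieldBC.isReduced_bc_of_isReducedSp K (h K).1 a hae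
    infer_instance
  · rintro ⟨h, hirr⟩ K _ _
    refine ⟨?_, ?_, hirr K⟩
    · refine Groth.Agent.Lib.Helper12.FieldBC.isReducedSp_bc_of_isReduced K a hae has ?_
      haveI : ∀ x' : ↥(FBase.bc U.hom K),
          _root_.IsReduced ((FBase.bc U.hom K).presheaf.stalk x') := by
        intro x'
        obtain ⟨U₁, a₁, u₁, ha₁, hu₁, hg₁⟩ := h (AlgSp.Points.ofPt a ((FBase.bcπ U.hom K) x'))
        have := (Groth.Agent.Lib.Helper12.GeomRed.isGeomReducedAt_iff_of_ofPt_eq a₁ a ha₁ hae u₁
          ((FBase.bcπ U.hom K) x') hu₁).1 hg₁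
        exact this K x' rfl
      exact isReduced_of_isReduced_stalk _
    · intro x
      have hrep : AlgSp.Representable (prod.fst : X.obj ⨯ (AlgSp.yon (Spec (CommRingCat.of k))).obj
          (Over.mk (Spec.map (CommRingCat.ofHom (algebraMap k K)))) ⟶ X.obj) := by
        have h1 : AlgSp.Representable ((Groth.Agent.Lib.T2H1.ConnComp.isTerminal_yon_mkId
            (Spec (CommRingCat.of k))).from ((AlgSp.yon (Spec (CommRingCat.of k))).obj
          (Over.mk (Spec.map (CommRingCat.ofHom (algebraMap k K)))))) :=
          (AlgSp.IsAlgSpace.yon_obj _).representable_from_yon _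
        exact MorphismProperty.of_isPullback (P := AlgSp.Representable)
          (Groth.Agent.Lib.T2H1.ConnComp.isPullback_prod X.obj _).flip h1
      obtain ⟨q, hq, hqm, hqc⟩ := hX (AlgSp.Points.map prod.fst x)
      exact Groth.Agent.S10351.exists_decent_fieldPt_of_representable prod.fst hrep x q hq hqm hqc

end Groth.Agent.S10497
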