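import Groth.Statements.S10498
import Groth.Agent.Lib.T2H2ShRed
-- import your own Groth.Agent.* helpers here

set_option autoImplicit false
universe u
open TensorProduct
open Hensel

namespace Groth.Agent.S10498

/-- (1) ⇔ (2): let k be a field, A a local k-algebra and R a strict henselization of A. Then A is
geometrically reduced over k (K ⊗_k A reduced for every field extension K of k) if and only if R is
geometrically reduced over k. -/
theorem result (k : Type u) [Field k]
    (A : Type u) [CommRing A] [IsLocalRing A] [Algebra k A]
    (R : Type u) [CommRing R] [IsLocalRing R] [Algebra A R] [IsLocalHom (algebraMap A R)]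
    [Hensel.IsStrictHenselization A R] [Algebra k R] [IsScalarTower k A R] :
    (∀ (K : Type u) [Field K] [Algebra k K], IsReduced (TensorProduct k K A)) ↔
      ∀ (K : Type u) [Field K] [Algebra k K], IsReduced (TensorProduct k K R) := by
  constructor
  · intro h K _ _
    haveI : IsReduced (TensorProduct k K A) := h K
    haveI : IsReduced (TensorProduct k A K) :=
      isReduced_of_injective (Algebra.TensorProduct.comm k A K).toRingEquiv
        (Algebra.TensorProduct.comm k A K).injective
    haveI : IsReduced (TensorProduct A (TensorProduct k A K) R) :=
      Groth.Agent.Lib.T2H2.ShRed.isReduced_tensor_of_isStrictHenselization A R (TensorProduct k A K)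
    let e1 : TensorProduct k K R ≃ₐ[k] TensorProduct k R K := Algebra.TensorProduct.comm k K R
    let e2 : TensorProduct A R (TensorProduct k A K) ≃ₐ[A] TensorProduct k R K :=
      Algebra.TensorProduct.cancelBaseChange k A A R K
    let e3 : TensorProduct A R (TensorProduct k A K) ≃ₐ[A] TensorProduct A (TensorProduct k A K) R :=
      Algebra.TensorProduct.comm A R (TensorProduct k A K)
    let f : TensorProduct k K R →+* TensorProduct A (TensorProduct k A K) R :=
      (e3.toRingEquiv.toRingHom.comp e2.symm.toRingEquiv.toRingHom).comp e1.toRingEquiv.toRingHom
    refine isReduced_of_injective f ?_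
    intro a b hab
    simp only [f, RingHom.comp_apply] at hab
    exact e1.injective (e2.symm.injective (e3.injective hab))
  · intro h K _ _
    haveI : IsReduced (TensorProduct k K R) := h K
    haveI := Groth.Agent.Lib.Helper3.HzP.sh_faithfullyFlat A R
    have hinj : Function.Injective (IsScalarTower.toAlgHom k A R).toLinearMap :=
      FaithfulSMul.algebraMap_injective A R
    have h2 := Module.Flat.lTensor_preserves_injective_linearMap (M := K)
      (IsScalarTower.toAlgHom k A R).toLinearMap hinj
    let g : TensorProduct k K A →ₐ[k] TensorProduct k K R :=
      Algebra.TensorProduct.map (AlgHom.id k K) (IsScalarTower.toAlgHom k A R)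
    refine isReduced_of_injective g.toRingHom ?_
    intro a b hab
    apply h2
    have key : ∀ z, (IsScalarTower.toAlgHom k A R).toLinearMap.lTensor K z = g z := by
      intro z
      induction z using TensorProduct.induction_on with
      | zero => simp
      | tmul t x => simp [g]
      | add a b ha hb => simp only [map_add, ha, hb]
    rw [key, key]
    exact hab

end Groth.Agent.S10498
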