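import Groth.Statements.S10500
import Mathlib
import Groth.Agent.S10400
import Groth.Agent.Lib.T2H1IntegralSp
import Groth.Agent.S10406
import Groth.Agent.S10351
import Groth.Agent.S10175
import Groth.Agent.S9874
import Groth.Agent.Lib.Helper12OpenSub2
import Groth.Agent.Lib.Helper12LargestOpen

set_option autoImplicit false
universe u
open CategoryTheory CategoryTheory.Limits AlgebraicGeometry Topology TopologicalSpace
open AlgSp

namespace Groth.Agent.S10500

/-- Let X and Y be integral algebraic spaces over a scheme S with generic points x and y, and f : X ⟶ Y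
a morphism which is proper and dominant. Then f is an alteration (finite over some nonempty open
subspace of Y) if and only if x is the only point of X mapping to y. -/
theorem result {S : Scheme.{u}} {X Y : AlgSp.Space S}
    (hXi : AlgSp.IsIntegralSp X.obj) (hYi : AlgSp.IsIntegralSp Y.obj) (f : X ⟶ Y) (hp : AlgSp.IsProperMor f.hom)
    (hd : AlgSp.IsDominantMor f.hom)
    (x : AlgSp.Points X.obj) (hx : IsGenericPoint x (Set.univ : Set (AlgSp.Points X.obj)))
    (y : AlgSp.Points Y.obj) (hy : IsGenericPoint y (Set.univ : Set (AlgSp.Points Y.obj))) :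
    (∃ (V : AlgSp.Space S) (j : V ⟶ Y), AlgSp.RepWith @IsOpenImmersion j.hom ∧ Nonempty (AlgSp.Points V.obj) ∧
      ∀ (P : AlgSp.Space S) (fst : P ⟶ V) (snd : P ⟶ X), IsPullback fst.hom snd.hom j.hom f.hom →
        AlgSp.IsFiniteMor fst.hom) ↔ (∀ x' : AlgSp.Points X.obj, AlgSp.Points.map f.hom x' = y → x' = x) := by
  classical
  have hXd : AlgSp.IsDecent X.obj := hXi.2.1
  have hYd : AlgSp.IsDecent Y.obj := hYi.2.1
  have hfx : AlgSp.Points.map f.hom x = y :=
    Groth.Agent.Lib.T2H1.IntegralSp.map_generic f hd hYd x hx y hy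
  constructor
  · rintro ⟨V, j, hj, ⟨v₀⟩, hfin⟩ x' hx'
    have hopen : IsOpen (Set.range (AlgSp.Points.map j.hom)) :=
      Groth.Agent.Lib.Helper12.OpenSub.isOpen_range_of_open j.hom hj
    have hyr : y ∈ Set.range (AlgSp.Points.map j.hom) :=
      (hy.mem_open_set_iff hopen).2 ⟨_, Set.mem_univ _, ⟨v₀, rfl⟩⟩
    obtain ⟨v, hv⟩ := hyr
    have sq : IsPullback (pullback.fst j.hom f.hom) (pullback.snd j.hom f.hom) j.hom f.hom :=
      IsPullback.of_hasPullback _ _
    have hP : AlgSp.IsAlgSpace (pullback j.hom f.hom) :=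
      Groth.Agent.S9874.isAlgSpace_of_isPullback Y.property.diag V.property X.property sq
    let P : AlgSp.Space S := ⟨pullback j.hom f.hom, hP⟩
    let fstP : P ⟶ V := ObjectProperty.homMk (pullback.fst j.hom f.hom)
    let sndP : P ⟶ X := ObjectProperty.homMk (pullback.snd j.hom f.hom)
    have hfstfin : AlgSp.IsFiniteMor fstP.hom := hfin P fstP sndP sq
    have hsndOI : AlgSp.RepWith @IsOpenImmersion sndP.hom :=
      MorphismProperty.of_isPullback (P := AlgSp.RepWith @IsOpenImmersion) sq hj
    have hVd : AlgSp.IsDecent V.obj := Groth.Agent.S10351.result j hj.1 hYd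
    have hPd : AlgSp.IsDecent P.obj := Groth.Agent.S10351.result sndP hsndOI.1 hXd
    obtain ⟨p, hp1, hp2⟩ := Groth.Agent.S10175.exists_point_of_isPullback sq v x
      (by rw [hv, hfx])
    obtain ⟨p', hp'1, hp'2⟩ := Groth.Agent.S10175.exists_point_of_isPullback sq v x'
      (by rw [hv, hx'])
    have hinj : Function.Injective (AlgSp.Points.map sndP.hom) :=
      Groth.Agent.Lib.Helper12.LargestOpen.injective_map_of_open sndP.hom hsndOI
    have hemb : Topology.IsOpenEmbedding (AlgSp.Points.map sndP.hom) :=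
      Topology.IsOpenEmbedding.of_continuous_injective_isOpenMap
        (AlgSp.Points.continuous_map sndP.hom) hinj
        (Groth.Agent.Lib.Helper12.OpenSub.isOpenMap_map_of_open sndP.hom hsndOI)
    have hspec : p ⤳ p' := by
      rw [← hemb.isInducing.specializes_iff]
      change AlgSp.Points.map (pullback.snd j.hom f.hom) p ⤳
        AlgSp.Points.map (pullback.snd j.hom f.hom) p'
      rw [hp2, hp'2]
      exact hx.specializes (Set.mem_univ _)
    have hpp : p = p' :=
      Groth.Agent.S10406.eq_of_specializes_of_finite fstP hfstfin hVd hPd p p' hspec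
        (hp1.trans hp'1.symm)
    rw [← hp'2, ← hpp, hp2]
  · intro huniq
    have hX0 : {x : AlgSp.Points X.obj | AlgSp.HasAt
        (fun U u => ringKrullDim ↥(U.presheaf.stalk u) = 0) X.obj x}.Finite :=
      (Set.finite_singleton x).subset fun ξ hξ =>
        Groth.Agent.Lib.T2H1.IntegralSp.eq_generic_of_codimZero X hXd x hx ξ hξ
    have hY0 : {y : AlgSp.Points Y.obj | AlgSp.HasAt
        (fun U u => ringKrullDim ↥(U.presheaf.stalk u) = 0) Y.obj y}.Finite :=
      (Set.finite_singleton y).subset fun ξ hξ =>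
        Groth.Agent.Lib.T2H1.IntegralSp.eq_generic_of_codimZero Y hYd y hy ξ hξ
    have hpre : ∀ x' : AlgSp.Points X.obj,
        AlgSp.HasAt (fun U u => ringKrullDim ↥(U.presheaf.stalk u) = 0) X.obj x' ↔
          AlgSp.HasAt (fun U u => ringKrullDim ↥(U.presheaf.stalk u) = 0) Y.obj
            (AlgSp.Points.map f.hom x') := by
      intro x'
      constructor
      · intro h
        have e := Groth.Agent.Lib.T2H1.IntegralSp.eq_generic_of_codimZero X hXd x hx x' h
        rw [e, hfx]
        exact Groth.Agent.Lib.T2H1.IntegralSp.hasAt_codimZero_generic Y hYd y hy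
      · intro h
        have e := Groth.Agent.Lib.T2H1.IntegralSp.eq_generic_of_codimZero Y hYd y hy _ h
        rw [huniq x' e]
        exact Groth.Agent.Lib.T2H1.IntegralSp.hasAt_codimZero_generic X hXd x hx
    obtain ⟨V, X', j, fst, snd, hj, hdense, sq, hfin⟩ :=
      Groth.Agent.S10400.result f hp.2.1.1 hYd hX0 hY0 hpre (Or.inr hp.1)
    refine ⟨V, j, hj, ?_, ?_⟩
    · obtain ⟨_, ⟨v, rfl⟩⟩ := hdense.nonempty_iff.2 ⟨y⟩
      exact ⟨v⟩
    · intro P fst' snd' sq' Z hZ g
      obtain ⟨W, i, q, sqq, hW, hi⟩ := hfin hZ g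
      let e : X'.obj ≅ P.obj := sq.isoIsPullback _ _ sq'
      have he1 : e.hom ≫ fst'.hom = fst.hom := sq.isoIsPullback_hom_fst _ _ sq'
      have sqe : IsPullback e.hom fst.hom fst'.hom (𝟙 V.obj) :=
        IsPullback.of_horiz_isIso ⟨by rw [he1, Category.comp_id]⟩
      refine ⟨W, i, q ≫ e.hom, ?_, hW, hi⟩
      have := sqq.paste_horiz sqe
      rw [Category.comp_id] at this
      exact this

end Groth.Agent.S10500
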