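import Groth.Statements.S10503
import Groth.Agent.S10455
import Groth.Agent.S10176

set_option autoImplicit false
universe u
open CategoryTheory CategoryTheory.Limits AlgebraicGeometry Topology TopologicalSpace
open AlgSp

namespace Groth.Agent.S10503

/-- Let f : X ⟶ Y be a morphism of algebraic spaces over a scheme S which is locally of finite type,
with Y locally Noetherian, and let y be a point of Y of codimension at most 1. If f is quasi-finite
at every codimension 0 point of X, then every point of X mapping to y is a point where f is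
quasi-finite. -/
theorem result {S : Scheme.{u}} {X Y : AlgSp.Space S} (f : X ⟶ Y)
    (hf : AlgSp.LocP @LocallyOfFiniteType f.hom) (hY : AlgSp.IsLocNoethSp Y.obj) (y : AlgSp.Points Y.obj)
    (hy : AlgSp.HasAt (fun U u => ringKrullDim ↥(U.presheaf.stalk u) ≤ 1) Y.obj y)
    (h : ∀ x : AlgSp.Points X.obj, AlgSp.HasAt (fun U u => ringKrullDim ↥(U.presheaf.stalk u) = 0) X.obj x → AlgSp.HasAtMor (fun U _ h u => ∃ W : U.Opens, u ∈ W ∧ LocallyQuasiFinite (W.ι ≫ h) ∧ LocallyOfFiniteType (W.ι ≫ h)) f.hom x)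
    (x : AlgSp.Points X.obj) (hx : AlgSp.Points.map f.hom x = y) :
    AlgSp.HasAtMor (fun U _ h u => ∃ W : U.Opens, u ∈ W ∧ LocallyQuasiFinite (W.ι ≫ h) ∧ LocallyOfFiniteType (W.ι ≫ h)) f.hom x := by
  obtain ⟨V₀, p, hpe, hps, hV₀⟩ := hY
  haveI : IsLocallyNoetherian V₀.left := hV₀
  obtain ⟨v, hv⟩ := Groth.Agent.S10177.surjective_ofPt p hps (AlgSp.Points.map f.hom x)
  obtain ⟨U, a₀, k, u, ha₀, hab, hu, huv⟩ :=
    Groth.Agent.Lib.T2H1.Tower.exists_chart_over X.property Y.property f.hom x p hpe v hv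
  haveI : LocallyOfFiniteType k.left := hf a₀ p k ha₀ hpe hab
  have hdimv : ringKrullDim ↥(V₀.left.presheaf.stalk (k.left u)) ≤ 1 :=
    Groth.Agent.Lib.T2H1.HasAt.of_hasAt
      (Groth.Agent.Lib.T2H1.HasAt.etInv1_stalkDim (fun s => s ≤ 1)) y hy p hpe (k.left u)
      (by rw [huv, hv, hx])
  have key : FlatMor.fibreDimAt k.left u = ((0 : ℕ) : WithBot ℕ∞) := by
    refine Groth.Agent.Lib.Helper4.DimFormula.fibreDimAt_eq_of_generic_LN k.left u 0 hdimv
      (fun η hηmax hηu => ?_)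
    have hξ0 : AlgSp.HasAt (fun U u => ringKrullDim ↥(U.presheaf.stalk u) = 0) X.obj
        (AlgSp.Points.ofPt a₀ η) :=
      ⟨U, a₀, η, ha₀, rfl, Groth.Agent.S10455.dim_zero_of_maximal _ η hηmax⟩
    have hη0 : FlatMor.fibreDimAt k.left η ≤ 0 := by
      obtain ⟨U₁, V₁, a₁, b₁, h₁, u₁, ha₁, hb₁, hab₁, hu₁, hQ₁⟩ := h _ hξ0
      haveI : LocallyOfFiniteType h₁.left := hf a₁ b₁ h₁ ha₁ hb₁ hab₁
      have h0 : FlatMor.fibreDimAt h₁.left u₁ ≤ 0 := (Groth.Agent.S10455.qf_pred_iff h₁.left u₁).1 hQ₁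
      exact Groth.Agent.Lib.T2H1.HasAt.of_hasAtMor
        (Groth.Agent.Lib.T2H1.HasAt.etInv_fibreDim (fun s => s ≤ 0)) f.hom _
        ⟨U₁, V₁, a₁, b₁, h₁, u₁, ha₁, hb₁, hab₁, hu₁, h0⟩ a₀ p k ha₀ hpe hab η rfl
    rw [Groth.Agent.Lib.Helper4.DimFormula.fibreDimAt_eq_ptTrdeg_of_maximal k.left η
      (fun y _ hy => hηmax y hy)] at hη0 ⊢
    have e0' : Groth.Agent.Lib.Helper4.DimFormula.ptTrdeg k.left η = 0 := by
      have : ((Groth.Agent.Lib.Helper4.DimFormula.ptTrdeg k.left η : ℕ) : WithBot ℕ∞) ≤ ((0 : ℕ) : WithBot ℕ∞) := hη0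
      have h2 : Groth.Agent.Lib.Helper4.DimFormula.ptTrdeg k.left η ≤ 0 := by exact_mod_cast this
      omega
    rw [e0']
  refine ⟨U, V₀, a₀, p, k, u, ha₀, hpe, hab, hu, ?_⟩
  exact (Groth.Agent.S10455.qf_pred_iff k.left u).2 (by rw [key]; rfl)

end Groth.Agent.S10503
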