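import Groth.Statements.S10546
import Mathlib
import Groth.Agent.S10532
import Groth.Agent.S10506
import Groth.Agent.S9874

set_option autoImplicit false
universe u
open CategoryTheory CategoryTheory.Limits AlgebraicGeometry
open AlgSp

namespace Groth.Agent.S10546

variable {S : Scheme.{u}}

/-- The property of morphisms of algebraic spaces over S given by f is a monomorphism (of fppf sheaves,
equivalently of algebraic spaces) is fpqc local on the base: for an fpqc covering of an algebraic
space Y by algebraic spaces Y_i, a morphism f : X ⟶ Y of algebraic spaces and cartesian squares X_i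
= Y_i ×_Y X, f has the property if and only if every X_i ⟶ Y_i has it. -/
theorem result (S : Scheme.{u}) :
    AlgSp.IsLocalOnBase (AlgSp.IsFpqcCover (S := S)) (MorphismProperty.monomorphisms (AlgSp.Sp S)) := by
  intro ι Y Yi g hY hYi hcov X f hX Xi p q hXi sq
  constructor
  · intro hf i
    exact MorphismProperty.of_isPullback (P := MorphismProperty.monomorphisms (AlgSp.Sp S)) (sq i) hf
  · intro H
    have hM : ∀ i, Mono (p i) := H
    -- the kernel pair of `f`
    have hK : AlgSp.IsAlgSpace (pullback f f) :=
      Groth.Agent.S9874.result S Y hY.1 ⟨X, hX⟩ ⟨X, hX⟩ f f _ _ _ (IsPullback.of_hasPullback f f)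
    have hKi : ∀ i, AlgSp.IsAlgSpace (pullback (p i) (p i)) := fun i =>
      Groth.Agent.S9874.result S (Yi i) (hYi i).1 ⟨Xi i, hXi i⟩ ⟨Xi i, hXi i⟩ (p i) (p i) _ _ _
        (IsPullback.of_hasPullback (p i) (p i))
    -- the base change of the cover to `X`
    have hcovX : AlgSp.IsFpqcCover Xi q :=
      Groth.Agent.S10506.result (X := ⟨Y, hY⟩) (X' := ⟨X, hX⟩) (ObjectProperty.homMk f)
        (fun i => ⟨Yi i, hYi i⟩) (fun i => ObjectProperty.homMk (g i))
        (fun i => ⟨Xi i, hXi i⟩) (fun i => ObjectProperty.homMk (q i))
        (fun i => ObjectProperty.homMk (p i)) sq hcov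
    -- the outer squares
    have houter : ∀ i, IsPullback (pullback.snd (p i) (p i) ≫ q i) (pullback.fst (p i) (p i)) f
        (q i ≫ f) := by
      intro i
      have h1 := (IsPullback.of_hasPullback (p i) (p i)).flip.paste_horiz (sq i)
      rw [← (sq i).w] at h1
      exact h1
    let m : ∀ i, pullback (p i) (p i) ⟶ pullback f f := fun i =>
      pullback.lift (pullback.fst (p i) (p i) ≫ q i) (pullback.snd (p i) (p i) ≫ q i)
        (by rw [Category.assoc, Category.assoc]; exact (houter i).w.symm)
    have hleft : ∀ i, IsPullback (m i) (pullback.fst (p i) (p i)) (pullback.fst f f) (q i) := by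
      intro i
      refine IsPullback.of_right ?_ ?_ (IsPullback.of_hasPullback f f).flip
      · have : m i ≫ pullback.snd f f = pullback.snd (p i) (p i) ≫ q i := pullback.lift_snd _ _ _
        rw [this]
        exact houter i
      · exact pullback.lift_fst _ _ _
    have hiso : IsIso (pullback.fst f f) :=
      (Groth.Agent.S10532.result S Xi q hX hXi hcovX (pullback.fst f f) hK
        (fun i => pullback (p i) (p i)) (fun i => pullback.fst (p i) (p i)) m hKi hleft).2
        (fun i => by
          change IsIso (pullback.fst (p i) (p i))
          infer_instance)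
    exact IsKernelPair.mono_of_isIso_fst (f := f) (a := pullback.fst f f) (b := pullback.snd f f)
      (IsPullback.of_hasPullback f f)

end Groth.Agent.S10546
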