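import Groth.Statements.S10560
import Mathlib
import Groth.Agent.S10580
import Groth.Agent.S0115
import Groth.Agent.S4997
import Groth.Agent.S10554

set_option autoImplicit false
universe u
open CategoryTheory CategoryTheory.Limits AlgebraicGeometry
open AlgSp

namespace Groth.Agent.S10560

open Groth.Agent.Lib.Helper12.SrcLocal

/-- if the preimage of a set under an open surjection is discrete, so is the set. -/
theorem isDiscrete_of_preimage {A B : Type*} [TopologicalSpace A] [TopologicalSpace B]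
    (f : A → B) (hf : IsOpenMap f) (hs : Function.Surjective f) (t : Set B)
    (h : IsDiscrete (f ⁻¹' t)) : IsDiscrete t := by
  rw [isDiscrete_iff_forall_mem_exists_isOpen] at h ⊢
  intro y hy
  obtain ⟨a, rfl⟩ := hs y
  obtain ⟨u, hu, hua⟩ := h a hy
  refine ⟨f '' u, hf u hu, ?_⟩
  ext b
  constructor
  · rintro ⟨⟨c, hc, rfl⟩, hb⟩
    have : c ∈ u ∩ f ⁻¹' t := ⟨hc, hb⟩
    rw [hua] at this
    rw [Set.mem_singleton_iff.1 this]
    rfl
  · rintro rfl
    have : a ∈ u ∩ f ⁻¹' t := by rw [hua]; rfl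
    exact ⟨⟨a, this.1, rfl⟩, hy⟩

/-- etaleness descends along an fppf cover of the source. -/
theorem etale_of_fppf_comp {U X T : Scheme.{u}} (f : U ⟶ X) (q : X ⟶ T) [Surjective f] [Flat f]
    [LocallyOfFinitePresentation f] [Etale (f ≫ q)] : Etale q := by
  have hsm : Smooth q := Groth.Agent.S0115.result f q
  rw [Groth.Agent.S4997.result]
  refine ⟨hsm, ?_⟩
  have hqf : LocallyQuasiFinite (f ≫ q) := ((Groth.Agent.S4997.result (f ≫ q)).1 inferInstance).2
  rw [locallyQuasiFinite_iff_isDiscrete_preimage_singleton]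
  intro s
  apply isDiscrete_of_preimage f f.isOpenMap f.surjective
  have := (f ≫ q).isDiscrete_preimage_singleton s
  convert this using 1
  ext x
  simp

theorem of_single (P : MorphismProperty Scheme.{u})
    (hP : ∀ {U X T : Scheme.{u}} (f : U ⟶ X) (q : X ⟶ T) [Surjective f] [Flat f]
      [LocallyOfFinitePresentation f], P (f ≫ q) → P q)
    {X Y U : Scheme.{u}} (f : X ⟶ Y) (g : U ⟶ X) [Flat g]
    [LocallyOfFinitePresentation g] (hgf : P (g ≫ f)) (V : X.Opens)
    (hV : (V : Set X) = Set.range g) :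
    P (V.ι ≫ f) := by
  have hsub : Set.range g ⊆ Set.range V.ι := by
    rw [Scheme.Opens.range_ι, hV]
  let g' : U ⟶ V.toScheme := IsOpenImmersion.lift V.ι g hsub
  have hg' : g' ≫ V.ι = g := IsOpenImmersion.lift_fac _ _ _
  haveI : Flat g' := MorphismProperty.of_postcomp (W := @Flat) (W' := @IsOpenImmersion) g' V.ι
    inferInstance (by rw [hg']; infer_instance)
  haveI : LocallyOfFinitePresentation g' := MorphismProperty.of_postcomp
    (W := @LocallyOfFinitePresentation) (W' := @IsOpenImmersion) g' V.ι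
    inferInstance (by rw [hg']; infer_instance)
  haveI : Surjective g' := by
    refine ⟨fun v => ?_⟩
    obtain ⟨u, hu⟩ : (V.ι v) ∈ Set.range g := by
      rw [← hV]; exact v.2
    refine ⟨u, ?_⟩
    apply V.ι.injective
    rw [← Scheme.Hom.comp_apply, hg', hu]
  have : P (g' ≫ V.ι ≫ f) := by
    rw [← Category.assoc, hg']
    exact hgf
  exact hP g' (V.ι ≫ f) this

/-- a Zariski local property descending along single fppf covers of the source descends along
fppf covering families of the source. -/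
theorem of_forall_comp_fppf (P : MorphismProperty Scheme.{u}) [IsZariskiLocalAtSource P]
    (hP : ∀ {U X T : Scheme.{u}} (f : U ⟶ X) (q : X ⟶ T) [Surjective f] [Flat f]
      [LocallyOfFinitePresentation f], P (f ≫ q) → P q)
    {X Y : Scheme.{u}} (f : X ⟶ Y) (R : Presieve X) (hR : R ∈ Scheme.fppfPrecoverage X)
    (H : ∀ ⦃U : Scheme.{u}⦄ ⦃g : U ⟶ X⦄, R g → P (g ≫ f)) : P f := by
  have hsurj : ∀ x : X, ∃ (U : Scheme.{u}) (g : U ⟶ X), R g ∧ x ∈ Set.range g := by
    intro x
    obtain ⟨T, t, ht, hx⟩ := hR.1 x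
    obtain ⟨hg⟩ := ht
    exact ⟨_, _, hg, hx⟩
  choose U g hgR hgx using hsurj
  have hQ : ∀ x, (@Flat ⊓ @LocallyOfFinitePresentation : MorphismProperty Scheme.{u}) (g x) :=
    fun x => hR.2 (hgR x)
  have hopen : ∀ x, IsOpen (Set.range (g x)) := fun x => by
    haveI : Flat (g x) := (hQ x).1
    haveI : LocallyOfFinitePresentation (g x) := (hQ x).2
    exact (g x).isOpenMap.isOpen_range
  refine IsZariskiLocalAtSource.of_iSup_eq_top (P := P)
    (fun x : X => (⟨Set.range (g x), hopen x⟩ : X.Opens)) ?_ fun x => ?_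
  · rw [eq_top_iff]
    intro x _
    exact TopologicalSpace.Opens.mem_iSup.2 ⟨x, hgx x⟩
  · haveI : Flat (g x) := (hQ x).1
    haveI : LocallyOfFinitePresentation (g x) := (hQ x).2
    exact of_single P hP f (g x) (H (hgR x)) _ rfl

/-- variant of the chart argument using only descent along coverings of the source. -/
lemma locP_of_chartData' {S : Scheme.{u}} (P Qs : MorphismProperty Scheme.{u})
    (K : Precoverage Scheme.{u})
    (hdesc : ∀ {X Y : Scheme.{u}} (f : X ⟶ Y) (R : Presieve X), R ∈ K X →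
      (∀ ⦃U : Scheme.{u}⦄ ⦃g : U ⟶ X⦄, R g → P (g ≫ f)) → P f)
    {ι : Type u} {X Y : AlgSp.Sp S} (Xi : ι → AlgSp.Sp S) (g : ∀ i, Xi i ⟶ X)
    (hg : ∀ i, AlgSp.LocP Qs (g i))
    (hcov : ∀ {U : Over S} (a : (AlgSp.yon S).obj U ⟶ X), AlgSp.RepWith @Etale a →
      ∀ D : ChartData Xi g a, (∀ i, Qs (D.e i).left) →
      Presieve.ofArrows (fun i => (D.W i).left) (fun i => (D.e i).left) ∈ K U.left)
    (hCD : ∀ {U : Over S} (a : (AlgSp.yon S).obj U ⟶ X), Nonempty (ChartData Xi g a))
    (f : X ⟶ Y) (h : ∀ i, AlgSp.LocP P (g i ≫ f)) : AlgSp.LocP P f := by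
  intro U V a b hh ha hb hcomm
  obtain ⟨D⟩ := hCD a
  have hsnd : ∀ i, AlgSp.RepWith @Etale (pullback.snd a (g i)) := fun i =>
    MorphismProperty.of_isPullback (P := AlgSp.RepWith @Etale)
      (IsPullback.of_hasPullback a (g i)) ha
  have hai : ∀ i, AlgSp.RepWith @Etale (D.q i ≫ pullback.snd a (g i)) := fun i =>
    (AlgSp.RepWith @Etale).comp_mem _ _ (D.hqe i) (hsnd i)
  have hci : ∀ i, (D.q i ≫ pullback.snd a (g i)) ≫ g i = (AlgSp.yon S).map (D.e i) ≫ a :=
    fun i => by rw [D.he, Category.assoc, Category.assoc, pullback.condition]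
  have hQe : ∀ i, Qs (D.e i).left := fun i => hg i _ a (D.e i) (hai i) ha (hci i)
  have hPe : ∀ i, P ((D.e i).left ≫ hh.left) := fun i => by
    have := h i (D.q i ≫ pullback.snd a (g i)) b (D.e i ≫ hh) (hai i) hb
      (by rw [← Category.assoc, hci, Functor.map_comp, Category.assoc, Category.assoc, hcomm])
    rwa [Over.comp_left] at this
  exact hdesc hh.left _ (hcov a ha D hQe)
    (fun T t ht => by obtain ⟨i⟩ := ht; exact hPe i)

/-- descent of `LocP P` along a single fppf covering of the source. -/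
theorem locP_of_fppf_comp {S : Scheme.{u}} (P : MorphismProperty Scheme.{u})
    [IsZariskiLocalAtSource P]
    (hP : ∀ {U X T : Scheme.{u}} (f : U ⟶ X) (q : X ⟶ T) [Surjective f] [Flat f]
      [LocallyOfFinitePresentation f], P (f ≫ q) → P q)
    {X Y B : AlgSp.Sp S} (hX : AlgSp.IsAlgSpace X) (hY : AlgSp.IsAlgSpace Y)
    (f : X ⟶ Y) (q : Y ⟶ B)
    (hs : AlgSp.IsSurjectiveMor f) (hfl : AlgSp.LocP @Flat f)
    (hfp : AlgSp.LocP @LocallyOfFinitePresentation f)
    (h : AlgSp.LocP P (f ≫ q)) : AlgSp.LocP P q := by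
  refine locP_of_chartData' P (@Flat ⊓ @LocallyOfFinitePresentation)
    (Scheme.precoverage (@Flat ⊓ @LocallyOfFinitePresentation))
    (fun k R hR H => of_forall_comp_fppf P hP k R hR H)
    (fun _ : PUnit.{u + 1} => X) (fun _ => f)
    (fun _ U V a b h ha hb hc => ⟨hfl a b h ha hb hc, hfp a b h ha hb hc⟩)
    (fun a ha D hQe => (Scheme.ofArrows_mem_precoverage_iff _).mpr
      ⟨D.jointly_surjective (fun x => ⟨PUnit.unit, hs x⟩), hQe⟩)
    (fun a => exists_chartData hY (fun _ : PUnit.{u + 1} => X) (fun _ => hX) (fun _ => f) a)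
    q (fun _ => h)

/-- Let f : X ⟶ Y and q : Y ⟶ B be morphisms of algebraic spaces over S with f surjective, flat and
locally of finite presentation. If f ≫ q is smooth then q is smooth; if f ≫ q is etale then q is
etale. -/
theorem result {S : Scheme.{u}} {X Y B : AlgSp.Space S} (f : X ⟶ Y) (q : Y ⟶ B)
    (hs : AlgSp.IsSurjectiveMor f.hom) (hfl : AlgSp.LocP @Flat f.hom)
    (hfp : AlgSp.LocP @LocallyOfFinitePresentation f.hom) :
    (AlgSp.LocP @Smooth (f ≫ q).hom → AlgSp.LocP @Smooth q.hom) ∧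
    (AlgSp.IsEtaleMor (f ≫ q).hom → AlgSp.IsEtaleMor q.hom) := by
  constructor
  · intro h
    refine locP_of_fppf_comp @Smooth ?_ X.property Y.property f.hom q.hom hs hfl hfp h
    intro U X T f q _ _ _ h
    haveI : Smooth (f ≫ q) := h
    exact Groth.Agent.S0115.result f q
  · intro h
    apply Groth.Agent.S10554.isEtaleMor_of_locP B.property
    refine locP_of_fppf_comp @Etale ?_ X.property Y.property f.hom q.hom hs hfl hfp
      (locP_etale_of_isEtaleMor _ h)
    intro U X T f q _ _ _ h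
    haveI : Etale (f ≫ q) := h
    exact etale_of_fppf_comp f q

end Groth.Agent.S10560
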