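import Groth.Statements.S10571
import Groth.Agent.Lib.T2H1Coprod2
import Groth.Agent.S9874

set_option autoImplicit false
universe u
open CategoryTheory CategoryTheory.Limits AlgebraicGeometry
open AlgSp

namespace Groth.Agent.S10571

/-- Suppose a property P of morphisms between algebraic spaces over S satisfies: (1) if finitely many
morphisms X_i ⟶ Y_i have P then so does the induced morphism ∐ X_i ⟶ ∐ Y_i, (2) f : X ⟶ Y has P
exactly when, for each affine scheme Z and each h_Z ⟶ Y, the base change h_Z ×_Y X ⟶ h_Z has P, and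
(3) for every surjective flat morphism of affine schemes Z' ⟶ Z over S and every f : X ⟶ h_Z, if the
base change h_{Z'} ×_{h_Z} X ⟶ h_{Z'} has P then f has P. Under these hypotheses, P is local on the
base for the fpqc topology. (The published statement asks (1) only for two morphisms; its proof
applies (1) to a disjoint union indexed by a finite set that may be empty, and with (1) for two
morphisms only the property that holds for no morphism satisfies all three hypotheses without being
fpqc local on the base, as the empty covering of the empty algebraic space shows. This row asks (1)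
for all finite families, the empty one included.) -/
theorem result {S : Scheme.{u}} (P : MorphismProperty (AlgSp.Sp S))
    (h1 : ∀ ⦃ι : Type u⦄ [Finite ι] (Xi Yi : ι → AlgSp.Sp S) (fi : ∀ i, Xi i ⟶ Yi i)
      (cX : Cofan Xi) (cY : Cofan Yi) (hcX : IsColimit cX) (hcY : IsColimit cY) (m : cX.pt ⟶ cY.pt),
      (∀ i, AlgSp.IsAlgSpace (Xi i)) → (∀ i, AlgSp.IsAlgSpace (Yi i)) →
      AlgSp.IsAlgSpace cX.pt → AlgSp.IsAlgSpace cY.pt →
      (∀ i, cX.inj i ≫ m = fi i ≫ cY.inj i) → (∀ i, P (fi i)) → P m)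
    (h2 : ∀ ⦃X Y : AlgSp.Sp S⦄, AlgSp.IsAlgSpace X → AlgSp.IsAlgSpace Y → ∀ (f : X ⟶ Y),
      P f ↔ ∀ (Z : Over S), IsAffine Z.left → ∀ (g : (AlgSp.yon S).obj Z ⟶ Y) (W : AlgSp.Sp S)
        (fst : W ⟶ X) (snd : W ⟶ (AlgSp.yon S).obj Z), AlgSp.IsAlgSpace W → IsPullback fst snd f g → P snd)
    (h3 : ∀ ⦃Z Z' : Over S⦄ (c : Z' ⟶ Z), IsAffine Z.left → IsAffine Z'.left → Surjective c.left → Flat c.left →
      ∀ ⦃X X' : AlgSp.Sp S⦄ (f : X ⟶ (AlgSp.yon S).obj Z) (fst : X' ⟶ X) (f' : X' ⟶ (AlgSp.yon S).obj Z'),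
        AlgSp.IsAlgSpace X → AlgSp.IsAlgSpace X' → IsPullback fst f' f ((AlgSp.yon S).map c) → P f' → P f) :
    AlgSp.IsLocalOnBase (AlgSp.IsFpqcCover (S := S)) P := by
  intro ι Y Yi g hY hYi hcov X f hX Xi p q hXi sq
  constructor
  · intro hPf i
    rw [h2 (hXi i) (hYi i)]
    intro Z hZ gz W fst snd hW sqW
    have hbig := sqW.paste_horiz (sq i)
    exact (h2 hX hY f).1 hPf Z hZ (gz ≫ g i) W (fst ≫ q i) snd hW hbig
  · intro hPi
    rw [h2 hX hY]
    intro Z hZ gz W fst snd hW sqW
    obtain ⟨m, Wj, cj, hWaff, hflat, hsurj, hlift⟩ := hcov.2 Z hZ gz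
    choose idx l hl using hlift
    let V : ULift.{u} (Fin m) → Over S := fun j => Wj j.down
    let cc : Groth.Agent.Lib.Helper1.Sig.sig V ⟶ Z :=
      Groth.Agent.Lib.Helper1.Sig.desc V (fun j => cj j.down)
    have hinjcc : ∀ j, Groth.Agent.Lib.Helper1.Sig.inj V j ≫ cc = cj j.down := fun j =>
      Groth.Agent.Lib.Helper1.Sig.inj_desc V _ j
    haveI : ∀ j, IsAffine (V j).left := fun j => hWaff j.down
    have hZ'aff : IsAffine (Groth.Agent.Lib.Helper1.Sig.sig V).left :=
      (inferInstance : IsAffine (∐ fun j => (V j).left))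
    have hcsurj : Surjective cc.left := by
      refine ⟨fun z => ?_⟩
      obtain ⟨j, y, hy⟩ := hsurj z
      refine ⟨(Groth.Agent.Lib.Helper1.Sig.inj V ⟨j⟩).left y, ?_⟩
      rw [← hy, ← Scheme.Hom.comp_apply]
      have := congrArg (fun m => m.left) (hinjcc ⟨j⟩)
      simp only [Over.comp_left] at this
      rw [this]
    have hcflat : Flat cc.left := by
      haveI : ∀ j, Flat (cj j).left := hflat
      exact (inferInstance : Flat (Sigma.desc fun j : ULift.{u} (Fin m) => (cj j.down).left))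
    have hZ'sp := AlgSp.IsAlgSpace.yon_obj (Groth.Agent.Lib.Helper1.Sig.sig V)
    have hX' : AlgSp.IsAlgSpace (pullback snd ((AlgSp.yon S).map cc)) :=
      Groth.Agent.S9874.isAlgSpace_of_isPullback (AlgSp.IsAlgSpace.yon_obj Z).diag hW hZ'sp
        (IsPullback.of_hasPullback _ _)
    refine h3 cc hZ hZ'aff hcsurj hcflat snd (pullback.fst snd ((AlgSp.yon S).map cc))
      (pullback.snd snd ((AlgSp.yon S).map cc)) hW hX' (IsPullback.of_hasPullback _ _) ?_
    set f' := pullback.snd snd ((AlgSp.yon S).map cc) with hf'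
    set fst' := pullback.fst snd ((AlgSp.yon S).map cc) with hfst'
    let Xj : ULift.{u} (Fin m) → AlgSp.Sp S := fun j =>
      pullback f' ((AlgSp.yon S).map (Groth.Agent.Lib.Helper1.Sig.inj V j))
    let fj : ∀ j, Xj j ⟶ (AlgSp.yon S).obj (V j) := fun j => pullback.snd _ _
    let kj : ∀ j, Xj j ⟶ pullback snd ((AlgSp.yon S).map cc) := fun j => pullback.fst _ _
    have sqj : ∀ j, IsPullback (kj j) (fj j) f'
        ((Groth.Agent.Lib.T2H1.Coprod.cofanSig V).inj j) := fun j => IsPullback.of_hasPullback _ _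
    obtain ⟨hcX⟩ := Groth.Agent.Lib.T2H1.Coprod.nonempty_isColimit_of_isPullback
      (Groth.Agent.Lib.T2H1.Coprod.cofanSig V) (Groth.Agent.Lib.T2H1.Coprod.isColimitCofanSig V)
      f' kj fj sqj
    have hXj : ∀ j, AlgSp.IsAlgSpace (Xj j) := fun j =>
      Groth.Agent.S9874.isAlgSpace_of_isPullback hZ'sp.diag hX' (AlgSp.IsAlgSpace.yon_obj _)
        (IsPullback.of_hasPullback _ _)
    refine h1 Xj (fun j => (AlgSp.yon S).obj (V j)) fj (Cofan.mk _ kj)
      (Groth.Agent.Lib.T2H1.Coprod.cofanSig V) hcX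
      (Groth.Agent.Lib.T2H1.Coprod.isColimitCofanSig V) f' hXj
      (fun j => AlgSp.IsAlgSpace.yon_obj _) hX' hZ'sp (fun j => (sqj j).w) (fun j => ?_)
    -- the piece `fj j` is a base change of `p (idx j.down)`
    have e1 : (AlgSp.yon S).map (Groth.Agent.Lib.Helper1.Sig.inj V j) ≫ (AlgSp.yon S).map cc ≫ gz =
        l j.down ≫ g (idx j.down) := by
      rw [← Category.assoc, ← Functor.map_comp, hinjcc, hl]
    have big : IsPullback (kj j ≫ fst' ≫ fst) (fj j) f (l j.down ≫ g (idx j.down)) := by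
      have h4 := ((sqj j).paste_horiz (IsPullback.of_hasPullback snd ((AlgSp.yon S).map cc))).paste_horiz sqW
      rw [← e1]
      simp only [Category.assoc] at h4
      exact h4
    let u : Xj j ⟶ Xi (idx j.down) := (sq (idx j.down)).lift (kj j ≫ fst' ≫ fst) (fj j ≫ l j.down)
      (by rw [big.w, Category.assoc])
    have hu : IsPullback u (fj j) (p (idx j.down)) (l j.down) := by
      refine IsPullback.of_right (h₁₂ := q (idx j.down)) (v₁₃ := f) (h₂₂ := g (idx j.down)) ?_ ?_
        (sq (idx j.down))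
      · have : u ≫ q (idx j.down) = kj j ≫ fst' ≫ fst := (sq (idx j.down)).lift_fst _ _ _
        rw [this]
        exact big
      · exact (sq (idx j.down)).lift_snd _ _ _
    exact (h2 (hXi _) (hYi _) (p (idx j.down))).1 (hPi (idx j.down)) (V j) (hWaff j.down) (l j.down)
      (Xj j) u (fj j) (hXj j) hu

end Groth.Agent.S10571
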