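import Groth.Statements.S10579
import Groth.Agent.Lib.T2H1GeomUni
import Groth.Agent.S9874
import Groth.Agent.S10175
import Groth.Agent.S10177

set_option autoImplicit false
universe u
open CategoryTheory CategoryTheory.Limits AlgebraicGeometry
open AlgSp

namespace Groth.Agent.S10579

/-- Let f : X ⟶ Y be a morphism of algebraic spaces over S and x ∈ |X|. If X is geometrically unibranch
at x and f is flat at x, then Y is geometrically unibranch at the image point f(x). Here an
algebraic space is geometrically unibranch at a point when for every etale chart from a scheme U and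
every point u of U over it the local ring of U at u is geometrically unibranch. -/
theorem result {S : Scheme.{u}} {X Y : AlgSp.Space S} (f : X ⟶ Y) (x : AlgSp.Points X.obj)
    (hf : AlgSp.IsFlatAtMor f.hom x)
    (hX : ∀ (U : Over S) (a : (AlgSp.yon S).obj U ⟶ X.obj) (v : ↥U.left), AlgSp.RepWith @Etale a →
      AlgSp.Points.ofPt a v = x → CAlg2.IsGeomUnibranch ↥(U.left.presheaf.stalk v))
    (V : Over S) (b : (AlgSp.yon S).obj V ⟶ Y.obj) (w : ↥V.left) (hb : AlgSp.RepWith @Etale b)
    (hw : AlgSp.Points.ofPt b w = AlgSp.Points.map f.hom x) :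
    CAlg2.IsGeomUnibranch ↥(V.left.presheaf.stalk w) := by
  have sq := IsPullback.of_hasPullback f.hom b
  have hP : AlgSp.IsAlgSpace (pullback f.hom b) :=
    Groth.Agent.S9874.isAlgSpace_of_isPullback Y.property.diag X.property
      (AlgSp.IsAlgSpace.yon_obj _) sq
  obtain ⟨U, a0, ha0e, ha0s⟩ := hP.atlas
  have hfe : AlgSp.RepWith @Etale (pullback.fst f.hom b) :=
    MorphismProperty.of_isPullback (P := AlgSp.RepWith @Etale) sq.flip hb
  have e : AlgSp.Points.map f.hom x = AlgSp.Points.map b (AlgSp.Points.ofScheme V w) := by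
    rw [← AlgSp.Points.ofPt_eq_map_ofScheme]
    exact hw.symm
  obtain ⟨p, hp1, hp2⟩ := Groth.Agent.S10175.exists_point_of_isPullback sq x
    (AlgSp.Points.ofScheme V w) e
  obtain ⟨u, hu⟩ := Groth.Agent.S10177.surjective_ofPt a0 ha0s p
  obtain ⟨h, hh⟩ := (AlgSp.yon S).map_surjective (a0 ≫ pullback.snd f.hom b)
  have hae : AlgSp.RepWith @Etale (a0 ≫ pullback.fst f.hom b) :=
    (AlgSp.RepWith @Etale).comp_mem _ _ ha0e hfe
  have hcomm : (a0 ≫ pullback.fst f.hom b) ≫ f.hom = (AlgSp.yon S).map h ≫ b := by
    rw [Category.assoc, pullback.condition, ← Category.assoc, hh]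
  have hux : AlgSp.Points.ofPt (a0 ≫ pullback.fst f.hom b) u = x := by
    rw [← AlgSp.Points.map_ofPt, hu, hp1]
  have huw : h.left u = w := by
    have h1 : AlgSp.Points.ofPt ((AlgSp.yon S).map h) u = AlgSp.Points.ofScheme V w := by
      rw [hh, ← AlgSp.Points.map_ofPt, hu, hp2]
    have h2 := congrArg (AlgSp.Points.toScheme V) h1
    rwa [AlgSp.Points.toScheme_ofPt, AlgSp.Points.toScheme_ofScheme] at h2
  have hflat := hf _ b h u hae hb hcomm hux
  have hgu := hX U _ u hae hux
  subst huw
  exact Groth.Agent.Lib.T2H1.GeomUni.isGeomUnibranch_of_flat _ _ (h.left.stalkMap u).hom hflat hgu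

end Groth.Agent.S10579
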