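import Groth.Statements.S10587
import Mathlib
import Groth.Agent.Lib.Helper1Thick

set_option autoImplicit false
universe u
open CategoryTheory CategoryTheory.Limits AlgebraicGeometry
open AlgSp

namespace Groth.Agent.S10587

open Groth.Agent.Lib.Helper1

/-- Consider a morphism (f, f') from the thickening X ⊂ X' to the thickening Y ⊂ Y' of algebraic spaces
over S, meaning: i : X ⟶ X' and j : Y ⟶ Y' are thickenings (representable, every base change to a
scheme a surjective closed immersion) and i ≫ f' = f ≫ j. Then f is surjective, resp. quasi-compact,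
universally closed, universally injective, universally open, if and only if f' is. -/
theorem result {S : Scheme.{u}} {X X' Y Y' : AlgSp.Space S} (i : X ⟶ X') (j : Y ⟶ Y')
    (f : X ⟶ Y) (f' : X' ⟶ Y')
    (hi : AlgSp.IsThickMor i.hom)
    (hj : AlgSp.IsThickMor j.hom) (w : i ≫ f' = f ≫ j) :
    (AlgSp.IsSurjectiveMor f.hom ↔ AlgSp.IsSurjectiveMor f'.hom) ∧
    (AlgSp.IsQuasiCompactMor f.hom ↔ AlgSp.IsQuasiCompactMor f'.hom) ∧
    (AlgSp.IsUnivClosedMor f.hom ↔ AlgSp.IsUnivClosedMor f'.hom) ∧
    (AlgSp.IsUnivInjectiveMor f.hom ↔ AlgSp.IsUnivInjectiveMor f'.hom) ∧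
    (AlgSp.IsUnivOpenMor f.hom ↔ AlgSp.IsUnivOpenMor f'.hom) := by
  have w' : i.hom ≫ f'.hom = f.hom ≫ j.hom := congrArg (fun m => m.hom) w
  have hpts : ∀ a, AlgSp.Points.map f'.hom (Thick.homeo i.hom hi a) =
      Thick.homeo j.hom hj (AlgSp.Points.map f.hom a) := by
    intro a
    rw [Thick.homeo_apply, Thick.homeo_apply, ← AlgSp.Points.map_comp, ← AlgSp.Points.map_comp, w']
  refine ⟨(Thick.top_transfer (Thick.homeo i.hom hi) (Thick.homeo j.hom hj) _ _ hpts).2.2.2, ?_, ?_,
    ?_, ?_⟩
  · -- quasi-compactness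
    constructor
    · intro h Z' P' hZ' hqZ' g' fst' snd' sq'
      obtain ⟨Z, P, z₁, g, p₁, p₂, k, sqZ, hz₁, sqP, hk, hkw⟩ :=
        Thick.exists_up i.hom j.hom f.hom f'.hom hi hj w' g' fst' snd' sq'
      have hZ : AlgSp.IsAlgSpace Z :=
        Groth.Agent.S9874.isAlgSpace_of_isPullback Y'.property.diag hZ' Y.property sqZ
      have hP : AlgSp.IsAlgSpace P :=
        Groth.Agent.S9874.isAlgSpace_of_isPullback Y.property.diag X.property hZ sqP
      have hP' : AlgSp.IsAlgSpace P' :=
        Groth.Agent.S9874.isAlgSpace_of_isPullback Y'.property.diag X'.property hZ' sq'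
      have hqZ : AlgSp.IsQuasiCompactSp Z := by
        rw [Groth.Agent.S10174.isQuasiCompactSp_iff hZ]
        haveI := (Groth.Agent.S10174.isQuasiCompactSp_iff hZ').1 hqZ'
        exact (Thick.homeo z₁ hz₁).symm.compactSpace
      have hqP := h hZ hqZ g p₁ p₂ sqP
      rw [Groth.Agent.S10174.isQuasiCompactSp_iff hP']
      haveI := (Groth.Agent.S10174.isQuasiCompactSp_iff hP).1 hqP
      exact (Thick.homeo k hk).compactSpace
    · intro h Z P hZ hqZ g fst snd sq
      obtain ⟨P', fst', snd', k, sq', hk, hkw⟩ :=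
        Thick.exists_down i.hom j.hom f.hom f'.hom hi hj w' g fst snd sq
      have hP : AlgSp.IsAlgSpace P :=
        Groth.Agent.S9874.isAlgSpace_of_isPullback Y.property.diag X.property hZ sq
      have hP' : AlgSp.IsAlgSpace P' :=
        Groth.Agent.S9874.isAlgSpace_of_isPullback Y'.property.diag X'.property hZ sq'
      have hqP' := h hZ hqZ (g ≫ j.hom) fst' snd' sq'
      rw [Groth.Agent.S10174.isQuasiCompactSp_iff hP]
      haveI := (Groth.Agent.S10174.isQuasiCompactSp_iff hP').1 hqP'
      exact (Thick.homeo k hk).symm.compactSpace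
  · exact Thick.univSp_iff i.hom j.hom f.hom f'.hom Y.property Y'.property hi hj w'
      (fun {A B} _ _ s => IsClosedMap s)
      (fun hk hz s s' h => (Thick.top_transfer hk hz s s' h).1)
  · exact Thick.univSp_iff i.hom j.hom f.hom f'.hom Y.property Y'.property hi hj w'
      (fun {A B} _ _ s => Function.Injective s)
      (fun hk hz s s' h => (Thick.top_transfer hk hz s s' h).2.2.1)
  · exact Thick.univSp_iff i.hom j.hom f.hom f'.hom Y.property Y'.property hi hj w'
      (fun {A B} _ _ s => IsOpenMap s)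
      (fun hk hz s s' h => (Thick.top_transfer hk hz s s' h).2.1)

end Groth.Agent.S10587
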