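import Groth.Statements.S10589
import Mathlib
import Groth.Agent.Lib.Helper1Thick
import Groth.Agent.Lib.Helper12Proper
import Groth.Agent.S9926

set_option autoImplicit false
universe u
open CategoryTheory CategoryTheory.Limits AlgebraicGeometry
open AlgSp

namespace Groth.Agent.S10589

open Groth.Agent.Lib.Helper1 Groth.Agent.Lib.Helper12 Groth.Agent.Lib.Helper12.Proper

/-- the diagonal property of a composite with a monomorphism. -/
lemma diagonal_comp_mono_iff {C : Type*} [Category C] [HasPullbacks C] (P : MorphismProperty C)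
    [P.RespectsIso] {X Y Z : C} (f : X ⟶ Y) (j : Y ⟶ Z) [Mono j] :
    P.diagonal (f ≫ j) ↔ P.diagonal f := by
  haveI : IsIso (pullback.diagonal j) := (pullback.isIso_diagonal_iff j).2 inferInstance
  rw [MorphismProperty.diagonal_iff, MorphismProperty.diagonal_iff, pullback.diagonal_comp,
    ← Category.assoc, P.cancel_right_of_respectsIso, P.cancel_right_of_respectsIso]

/-- Consider a morphism (f, f') from the thickening X ⊂ X' to the thickening Y ⊂ Y' of algebraic spaces
over S, meaning: i : X ⟶ X' and j : Y ⟶ Y' are thickenings (representable, every base change to a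
scheme a surjective closed immersion) and i ≫ f' = f ≫ j. Then f is separated if and only if f' is
separated, and f is quasi-separated if and only if f' is quasi-separated. -/
theorem result {S : Scheme.{u}} {X X' Y Y' : AlgSp.Space S} (i : X ⟶ X') (j : Y ⟶ Y')
    (f : X ⟶ Y) (f' : X' ⟶ Y')
    (hi : AlgSp.IsThickMor i.hom)
    (hj : AlgSp.IsThickMor j.hom) (w : i ≫ f' = f ≫ j) :
    (AlgSp.IsSeparatedMor f.hom ↔ AlgSp.IsSeparatedMor f'.hom) ∧
    (AlgSp.IsQuasiSeparatedMor f.hom ↔ AlgSp.IsQuasiSeparatedMor f'.hom) := by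
  have w' : i.hom ≫ f'.hom = f.hom ≫ j.hom := congrArg (fun m => m.hom) w
  haveI hjm : Mono j.hom := Thick.mono_of_thick j.hom hj
  haveI him : Mono i.hom := Thick.mono_of_thick i.hom hi
  have hicl : AlgSp.RepWith @IsClosedImmersion i.hom :=
    OpenSub.repWith_mono (fun _ _ g hg => hg.1) hi
  have hisurj : AlgSp.IsSurjectiveMor i.hom := (OpenSub.thick_points i.hom hi).1.2
  have hiuc : AlgSp.IsUnivClosedMor i.hom := isUnivClosedMor_of_isClosedImmersion i.hom hicl
  have hS := Groth.Agent.S9926.result i (i ≫ f') f' rfl hisurj hiuc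
  have hsep_i : AlgSp.IsSeparatedMor i.hom := isSeparatedMor_of_mono _
  have hsep_j : AlgSp.IsSeparatedMor j.hom := isSeparatedMor_of_mono _
  have hqs_i : AlgSp.IsQuasiSeparatedMor i.hom :=
    OpenSub.repWith_mono (fun _ _ g hg => by haveI : IsClosedImmersion g := hg; infer_instance)
      hsep_i
  have hqs_j : AlgSp.IsQuasiSeparatedMor j.hom :=
    OpenSub.repWith_mono (fun _ _ g hg => by haveI : IsClosedImmersion g := hg; infer_instance)
      hsep_j
  refine ⟨⟨fun h => ?_, fun h => ?_⟩, ⟨fun h => ?_, fun h => ?_⟩⟩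
  · apply hS.2
    change AlgSp.IsSeparatedMor (i.hom ≫ f'.hom)
    rw [w']
    exact isSeparatedMor_comp _ _ h hsep_j
  · have h1 : AlgSp.IsSeparatedMor (f.hom ≫ j.hom) := by
      rw [← w']
      exact isSeparatedMor_comp _ _ hsep_i h
    exact (diagonal_comp_mono_iff _ f.hom j.hom).1 h1
  · apply hS.1
    change AlgSp.IsQuasiSeparatedMor (i.hom ≫ f'.hom)
    rw [w']
    exact (AlgSp.RepWith @QuasiCompact).diagonal.comp_mem _ _ h hqs_j
  · have h1 : AlgSp.IsQuasiSeparatedMor (f.hom ≫ j.hom) := by
      rw [← w']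
      exact (AlgSp.RepWith @QuasiCompact).diagonal.comp_mem _ _ hqs_i h
    exact (diagonal_comp_mono_iff _ f.hom j.hom).1 h1

end Groth.Agent.S10589
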