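import Groth.Statements.S10593
import Mathlib
import Groth.Agent.Lib.Helper1Thick
import Groth.Agent.Lib.Helper12LocPCases
import Groth.Agent.S1312
import Groth.Agent.S1314

set_option autoImplicit false
universe u
open CategoryTheory CategoryTheory.Limits AlgebraicGeometry
open AlgSp

namespace Groth.Agent.S10593

open Groth.Agent.Lib.Helper12.LocPCases

variable {S : Scheme.{u}}

/-- the chart-level cartesian square of a cartesian morphism of thickenings. -/
lemma chart_square {X X' Y Y' : AlgSp.Sp S} (i : X ⟶ X') (j : Y ⟶ Y') (f : X ⟶ Y) (f' : X' ⟶ Y')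
    (hi : AlgSp.IsThickMor i) (hj : AlgSp.IsThickMor j)
    (hcart : IsPullback i f f' j)
    {U' V' : Over S} (a' : (yon S).obj U' ⟶ X') (b' : (yon S).obj V' ⟶ Y') (h' : U' ⟶ V')
    (ha' : RepWith @Etale a') (hb' : RepWith @Etale b') (comm : a' ≫ f' = (yon S).map h' ≫ b') :
    ∃ (U V : Over S) (u : U ⟶ U') (v : V ⟶ V') (h : U ⟶ V) (a : (yon S).obj U ⟶ X)
      (b : (yon S).obj V ⟶ Y),
      RepWith @Etale a ∧ RepWith @Etale b ∧ a ≫ f = (yon S).map h ≫ b ∧
      MoreMor.IsThickening v.left ∧ IsPullback u.left h.left h'.left v.left := by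
  have sqV := hj.rep.isPullback b'
  have sqU := hi.rep.isPullback a'
  have hb : RepWith @Etale (hj.rep.fst b') :=
    MorphismProperty.of_isPullback (P := RepWith @Etale) sqV.flip hb'
  have ha : RepWith @Etale (hi.rep.fst a') :=
    MorphismProperty.of_isPullback (P := RepWith @Etale) sqU.flip ha'
  have hv : AlgSp.thick (hj.rep.snd b').left := hj.2 _ _ _ sqV
  -- the outer rectangle
  have houter : IsPullback (hi.rep.fst a' ≫ f) ((yon S).map (hi.rep.snd a')) j (a' ≫ f') :=
    sqU.paste_horiz hcart.flip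
  rw [comm] at houter
  have hw : (hi.rep.fst a' ≫ f) ≫ j = ((yon S).map (hi.rep.snd a' ≫ h')) ≫ b' := by
    rw [houter.w, Functor.map_comp, Category.assoc]
  obtain ⟨h, hh⟩ := (yon S).map_surjective (sqV.lift _ _ hw)
  have h1 : (yon S).map h ≫ hj.rep.fst b' = hi.rep.fst a' ≫ f := by
    rw [hh]; exact sqV.lift_fst _ _ _
  have h2 : (yon S).map h ≫ (yon S).map (hj.rep.snd b') = (yon S).map (hi.rep.snd a' ≫ h') := by
    rw [hh]; exact sqV.lift_snd _ _ _
  rw [← h1] at houter
  have sqL : IsPullback ((yon S).map h) ((yon S).map (hi.rep.snd a'))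
      ((yon S).map (hj.rep.snd b')) ((yon S).map h') :=
    IsPullback.of_right houter (by rw [h2, Functor.map_comp]) sqV
  have sqO : IsPullback h (hi.rep.snd a') (hj.rep.snd b') h' :=
    IsPullback.of_map (AlgSp.yon S) (by
      apply (AlgSp.yon S).map_injective
      rw [Functor.map_comp, Functor.map_comp]
      exact sqL.w) sqL
  exact ⟨_, _, hi.rep.snd a', hj.rep.snd b', h, hi.rep.fst a', hj.rep.fst b', ha, hb, h1.symm,
    hv, (sqO.map (Over.forget S)).flip⟩

/-- the forward direction, for a general class. -/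
lemma forward (P : MorphismProperty Scheme.{u})
    (hP : ∀ {A A' B B' : Scheme.{u}} (iA : A ⟶ A') (iB : B ⟶ B') (h : A ⟶ B) (h' : A' ⟶ B'),
      MoreMor.IsThickening iB → IsPullback iA h h' iB → LocallyOfFiniteType h →
      LocallyOfFiniteType h' → (P h ↔ P h'))
    {X X' Y Y' : AlgSp.Sp S} (i : X ⟶ X') (j : Y ⟶ Y') (f : X ⟶ Y) (f' : X' ⟶ Y')
    (hi : AlgSp.IsThickMor i) (hj : AlgSp.IsThickMor j)
    (hcart : IsPullback i f f' j)
    (hft : AlgSp.LocP @LocallyOfFiniteType f) (hft' : AlgSp.LocP @LocallyOfFiniteType f')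
    (hf : AlgSp.LocP P f) : AlgSp.LocP P f' := by
  intro U' V' a' b' h' ha' hb' comm
  obtain ⟨U, V, u, v, h, a, b, ha, hb, hc, hv, sq⟩ :=
    chart_square i j f f' hi hj hcart a' b' h' ha' hb' comm
  exact (hP u.left v.left h.left h'.left hv sq (hft a b h ha hb hc)
    (hft' a' b' h' ha' hb' comm)).1 (hf a b h ha hb hc)


/-- Consider a morphism (f, f') from the thickening X ⊂ X' to the thickening Y ⊂ Y' of algebraic spaces
over S, meaning: i : X ⟶ X' and j : Y ⟶ Y' are thickenings (representable, every base change to a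
scheme a surjective closed immersion) and i ≫ f' = f ≫ j. Assume moreover that the square is
cartesian (X = Y ×_{Y'} X') and that f and f' are locally of finite type. Then f is locally
quasi-finite, resp. unramified, if and only if f' is (etale-local sense, both notions including
locally of finite type). -/
theorem result {S : Scheme.{u}} {X X' Y Y' : AlgSp.Space S} (i : X ⟶ X') (j : Y ⟶ Y')
    (f : X ⟶ Y) (f' : X' ⟶ Y')
    (hi : AlgSp.IsThickMor i.hom)
    (hj : AlgSp.IsThickMor j.hom) (w : i ≫ f' = f ≫ j)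
    (hcart : IsPullback i.hom f.hom f'.hom j.hom)
    (hft : AlgSp.LocP @LocallyOfFiniteType f.hom) (hft' : AlgSp.LocP @LocallyOfFiniteType f'.hom) :
    (AlgSp.LocP (@LocallyQuasiFinite ⊓ @LocallyOfFiniteType) f.hom ↔
      AlgSp.LocP (@LocallyQuasiFinite ⊓ @LocallyOfFiniteType) f'.hom) ∧
    (AlgSp.LocP (@LocallyOfFiniteType ⊓ @FormallyUnramified) f.hom ↔
      AlgSp.LocP (@LocallyOfFiniteType ⊓ @FormallyUnramified) f'.hom) := by
  refine ⟨⟨fun hf => ?_, fun hf' => ?_⟩, ⟨fun hf => ?_, fun hf' => ?_⟩⟩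
  · refine forward _ ?_ i.hom j.hom f.hom f'.hom hi hj hcart hft hft' hf
    intro A A' B B' iA iB h h' hB sq lh lh'
    haveI := lh
    haveI := lh'
    have := Groth.Agent.S1312.result iA iB h h' hB sq
    exact ⟨fun hh => ⟨this.1 hh.1, lh'⟩, fun hh => ⟨this.2 hh.1, lh⟩⟩
  · exact good_lqf.locP_baseChange X'.property Y'.property Y.property hcart hf'
  · refine forward _ ?_ i.hom j.hom f.hom f'.hom hi hj hcart hft hft' hf
    intro A A' B B' iA iB h h' hB sq lh lh'
    haveI := lh
    haveI := lh'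
    have := Groth.Agent.S1314.result iA iB h h' hB sq
    exact ⟨fun hh => ⟨lh', this.1 hh.2⟩, fun hh => ⟨lh, this.2 hh.2⟩⟩
  · exact good_unram.locP_baseChange X'.property Y'.property Y.property hcart hf'

end Groth.Agent.S10593
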