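import Groth.Statements.S10591
import Groth.Agent.Lib.T2H1SrcThick
import Groth.Agent.Lib.T2H1Deform
import Groth.Agent.Lib.T2H1ChartBC
import Groth.Agent.Lib.Helper12LocPCases
import Groth.Agent.S10593
import Groth.Agent.S9906

set_option autoImplicit false
universe u
open CategoryTheory CategoryTheory.Limits AlgebraicGeometry
open AlgSp

namespace Groth.Agent.S10591


open Groth.Agent.Lib.Helper12.LocPCases

variable {S : Scheme.{u}}

/-- the forward direction: a property which is Zariski local on the source and lifts along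
cartesian morphisms of thickenings of schemes whose source thickening has nilpotent kernel lifts
along cartesian morphisms of thickenings of algebraic spaces whose source thickening has finite
order. -/
lemma forward (P : MorphismProperty Scheme.{u}) [IsZariskiLocalAtSource P]
    (hP : ∀ {A A' B B' : Scheme.{u}} (iA : A ⟶ A') (iB : B ⟶ B') (h : A ⟶ B) (h' : A' ⟶ B'),
      MoreMor.IsThickening iB → IsNilpotent iA.ker → IsPullback iA h h' iB → P h → P h')
    {X X' Y Y' : AlgSp.Sp S} (i : X ⟶ X') (j : Y ⟶ Y') (f : X ⟶ Y) (f' : X' ⟶ Y')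
    (hi : AlgSp.IsFinThickMor i) (hj : AlgSp.IsThickMor j)
    (hcart : IsPullback i f f' j) (hf : AlgSp.LocP P f) : AlgSp.LocP P f' := by
  intro U' V' a' b' h' ha' hb' comm
  obtain ⟨n, hit, hin⟩ := hi
  have key : ∀ x : ↥U'.left, ∃ W : U'.left.Opens, x ∈ W ∧ IsAffineOpen W := fun x => by
    obtain ⟨W, hW, hxW, -⟩ :=
      exists_isAffineOpen_mem_and_subset (X := U'.left) (x := x) (U := ⊤) trivial
    exact ⟨W, hxW, hW⟩
  choose W hxW hWaff using key
  have hsup : iSup W = ⊤ := by
    rw [eq_top_iff]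
    intro x _
    exact TopologicalSpace.Opens.mem_iSup.2 ⟨x, hxW x⟩
  rw [IsZariskiLocalAtSource.iff_of_iSup_eq_top (P := P) W hsup]
  intro x
  let Wo : Over S := Over.mk ((W x).ι ≫ U'.hom)
  let ι : Wo ⟶ U' := Over.homMk (W x).ι rfl
  have hι : RepWith @Etale ((yon S).map ι) :=
    (AlgSp.repWith_yon_map_iff _ _).2 (inferInstance : Etale (W x).ι)
  have ha'' : RepWith @Etale ((yon S).map ι ≫ a') :=
    (AlgSp.RepWith @Etale).comp_mem _ _ hι ha'
  have comm' : ((yon S).map ι ≫ a') ≫ f' = (yon S).map (ι ≫ h') ≫ b' := by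
    rw [Category.assoc, comm, Functor.map_comp, Category.assoc]
  have sqU := hit.rep.isPullback ((yon S).map ι ≫ a')
  have sqV := hj.rep.isPullback b'
  obtain ⟨h, hc, sq⟩ := Groth.Agent.Lib.T2H1.Deform.chart_square hcart comm' sqU sqV
  have ha : RepWith @Etale (hit.rep.fst ((yon S).map ι ≫ a')) :=
    MorphismProperty.of_isPullback (P := RepWith @Etale) sqU.flip ha''
  have hb : RepWith @Etale (hj.rep.fst b') :=
    MorphismProperty.of_isPullback (P := RepWith @Etale) sqV.flip hb'
  have hv : MoreMor.IsThickening (hj.rep.snd b').left := hj.2 _ _ _ sqV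
  have hWo : IsAffine Wo.left := hWaff x
  have hu : AlgSp.powZero n (hit.rep.snd ((yon S).map ι ≫ a')).left := hin _ _ _ hWo ha'' sqU
  have hPh : P h.left := hf _ _ h ha hb hc
  have hnil : IsNilpotent (hit.rep.snd ((yon S).map ι ≫ a')).left.ker :=
    ⟨n + 1, by rw [Scheme.IdealSheafData.zero_eq_bot]; exact hu⟩
  exact hP _ _ _ _ hv hnil (sq.map (Over.forget S)) hPh

/-- Consider a morphism (f, f') from the thickening X ⊂ X' to the thickening Y ⊂ Y' of algebraic spaces
over S, meaning: i : X ⟶ X' and j : Y ⟶ Y' are thickenings (representable, every base change to a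
scheme a surjective closed immersion) and i ≫ f' = f ≫ j. Assume moreover that the square is
cartesian (X = Y ×_{Y'} X') and that i is a finite order thickening (for one n, on every affine
etale scheme chart of X' the (n+1)-st power of the ideal of the base change of X vanishes). Then f
is locally of finite type of relative dimension d, resp. locally of finite type, resp. locally
quasi-finite, resp. unramified, if and only if f' is (relative dimension d at a point: some chart
diagram through the point has fibre of local dimension d there) (all in the etale-local sense,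
locally quasi-finite and unramified including locally of finite type). -/
theorem result {S : Scheme.{u}} {X X' Y Y' : AlgSp.Space S} (i : X ⟶ X') (j : Y ⟶ Y')
    (f : X ⟶ Y) (f' : X' ⟶ Y')
    (hi : AlgSp.IsThickMor i.hom)
    (hj : AlgSp.IsThickMor j.hom) (w : i ≫ f' = f ≫ j)
    (hcart : IsPullback i.hom f.hom f'.hom j.hom)
    (hfo : AlgSp.IsFinThickMor i.hom) (d : ℕ) :
    ((AlgSp.LocP @LocallyOfFiniteType f.hom ∧
        ∀ x, AlgSp.HasAtMor (fun _ _ h u => FlatMor.fibreDimAt h u = (d : WithBot ℕ∞)) f.hom x) ↔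
      (AlgSp.LocP @LocallyOfFiniteType f'.hom ∧
        ∀ x', AlgSp.HasAtMor (fun _ _ h u => FlatMor.fibreDimAt h u = (d : WithBot ℕ∞)) f'.hom x')) ∧
    (AlgSp.LocP @LocallyOfFiniteType f.hom ↔ AlgSp.LocP @LocallyOfFiniteType f'.hom) ∧
    (AlgSp.LocP (@LocallyQuasiFinite ⊓ @LocallyOfFiniteType) f.hom ↔
      AlgSp.LocP (@LocallyQuasiFinite ⊓ @LocallyOfFiniteType) f'.hom) ∧
    (AlgSp.LocP (@LocallyOfFiniteType ⊓ @FormallyUnramified) f.hom ↔
      AlgSp.LocP (@LocallyOfFiniteType ⊓ @FormallyUnramified) f'.hom) := by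
  have hlft : AlgSp.LocP @LocallyOfFiniteType f.hom → AlgSp.LocP @LocallyOfFiniteType f'.hom := by
    intro hf
    refine forward _ ?_ i.hom j.hom f.hom f'.hom hfo hj hcart hf
    intro A A' B B' iA iB h h' hB hA sq lh
    haveI := lh
    exact Groth.Agent.Lib.T2H1.SrcThick.lft_of_sthick iA iB h h' hB hA sq
  have hlft' : AlgSp.LocP @LocallyOfFiniteType f'.hom → AlgSp.LocP @LocallyOfFiniteType f.hom :=
    fun hf' => good_lft.locP_baseChange X'.property Y'.property Y.property hcart hf'
  have hsurj : Function.Surjective (AlgSp.Points.map i.hom) :=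
    Groth.Agent.S9906.surjective_map_of_repWith i.hom
      ⟨hi.1, fun U V g fst snd sq => (hi.2 g fst snd sq).2⟩
  have hdim : ∀ (_ : AlgSp.LocP @LocallyOfFiniteType f'.hom) (x : AlgSp.Points X.obj),
      AlgSp.HasAtMor (fun _ _ h u => FlatMor.fibreDimAt h u = (d : WithBot ℕ∞)) f.hom x ↔
      AlgSp.HasAtMor (fun _ _ h u => FlatMor.fibreDimAt h u = (d : WithBot ℕ∞)) f'.hom
        (AlgSp.Points.map i.hom x) := fun hf' x =>
    Groth.Agent.Lib.T2H1.ChartBC.hasAtMor_fibreDim_baseChange_iff
      (fun t => t = (d : WithBot ℕ∞)) X'.property Y'.property Y.property hcart hf' x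
  refine ⟨⟨?_, ?_⟩, ⟨hlft, hlft'⟩, ⟨?_, ?_⟩, ⟨?_, ?_⟩⟩
  · rintro ⟨h1, h2⟩
    refine ⟨hlft h1, fun x' => ?_⟩
    obtain ⟨x, rfl⟩ := hsurj x'
    exact (hdim (hlft h1) x).1 (h2 x)
  · rintro ⟨h1, h2⟩
    exact ⟨hlft' h1, fun x => (hdim h1 x).2 (h2 _)⟩
  · intro hf
    have h1 : AlgSp.LocP @LocallyOfFiniteType f.hom := fun U V a b h ha hb hc => (hf a b h ha hb hc).2
    exact (Groth.Agent.S10593.result i j f f' hi hj w hcart h1 (hlft h1)).1.1 hf
  · exact fun hf' => good_lqf.locP_baseChange X'.property Y'.property Y.property hcart hf'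
  · intro hf
    have h1 : AlgSp.LocP @LocallyOfFiniteType f.hom := fun U V a b h ha hb hc => (hf a b h ha hb hc).1
    exact (Groth.Agent.S10593.result i j f f' hi hj w hcart h1 (hlft h1)).2.1 hf
  · exact fun hf' => good_unram.locP_baseChange X'.property Y'.property Y.property hcart hf'

end Groth.Agent.S10591
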