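import Groth.Statements.S10596
import Mathlib
import Groth.Agent.Lib.T2H1Deform3
import Groth.Agent.Lib.Helper2Thick
import Groth.Agent.S1309
import Groth.Agent.S1310
import Groth.Agent.S1312
import Groth.Agent.S1317
import Groth.Agent.S1320
import Groth.Agent.S1321
import Groth.Agent.S1322

set_option autoImplicit false
universe u
open CategoryTheory CategoryTheory.Limits AlgebraicGeometry
open AlgSp

namespace Groth.Agent.S10596

/-- Let iB : B ⟶ B' be a finite order thickening of algebraic spaces over S (a thickening such that for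
one n the (n+1)-st power of the ideal vanishes on every affine etale scheme chart), f' : X' ⟶ Y' a
morphism of algebraic spaces over B' (via g' : Y' ⟶ B') with X' flat over B', and f : X ⟶ Y, g : Y ⟶
B its base change to B (both squares to iB cartesian, iX ≫ f' = f ≫ iY). Then f is locally of finite
type of relative dimension d, resp. flat, resp. locally of finite type, locally quasi-finite,
locally of finite presentation, smooth, unramified, etale, if and only if f' is (etale-local sense;
locally quasi-finite and unramified include locally of finite type). -/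
theorem result {S : Scheme.{u}} {X X' Y Y' B B' : AlgSp.Space S} (iX : X ⟶ X') (iY : Y ⟶ Y') (iB : B ⟶ B')
    (f : X ⟶ Y) (f' : X' ⟶ Y') (g : Y ⟶ B) (g' : Y' ⟶ B')
    (hcX : IsPullback iX.hom (f ≫ g).hom (f' ≫ g').hom iB.hom) (hcY : IsPullback iY.hom g.hom g'.hom iB.hom)
    (w : iX ≫ f' = f ≫ iY)
    (hB : AlgSp.IsFinThickMor iB.hom) (hflat : AlgSp.LocP @Flat (f' ≫ g').hom) (d : ℕ) :
    ((AlgSp.LocP @LocallyOfFiniteType f.hom ∧
        ∀ x, AlgSp.HasAtMor (fun _ _ h u => FlatMor.fibreDimAt h u = (d : WithBot ℕ∞)) f.hom x) ↔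
      (AlgSp.LocP @LocallyOfFiniteType f'.hom ∧
        ∀ x', AlgSp.HasAtMor (fun _ _ h u => FlatMor.fibreDimAt h u = (d : WithBot ℕ∞)) f'.hom x')) ∧
    (AlgSp.LocP @Flat f.hom ↔ AlgSp.LocP @Flat f'.hom) ∧
    (AlgSp.LocP @LocallyOfFiniteType f.hom ↔ AlgSp.LocP @LocallyOfFiniteType f'.hom) ∧
    (AlgSp.LocP (@LocallyQuasiFinite ⊓ @LocallyOfFiniteType) f.hom ↔
      AlgSp.LocP (@LocallyQuasiFinite ⊓ @LocallyOfFiniteType) f'.hom) ∧
    (AlgSp.LocP @LocallyOfFinitePresentation f.hom ↔ AlgSp.LocP @LocallyOfFinitePresentation f'.hom) ∧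
    (AlgSp.LocP @Smooth f.hom ↔ AlgSp.LocP @Smooth f'.hom) ∧
    (AlgSp.LocP (@LocallyOfFiniteType ⊓ @FormallyUnramified) f.hom ↔
      AlgSp.LocP (@LocallyOfFiniteType ⊓ @FormallyUnramified) f'.hom) ∧
    (AlgSp.IsEtaleMor f.hom ↔ AlgSp.IsEtaleMor f'.hom) := by
  have hB1 : AlgSp.IsThickMor iB.hom := by
    obtain ⟨n, h1, -⟩ := hB
    exact h1
  have D : Groth.Agent.Lib.T2H1.Deform.Data iX.hom iY.hom iB.hom f.hom f'.hom g.hom g'.hom :=
    ⟨hcX, hcY, congrArg (fun m => m.hom) w, hB1⟩
  have hfl : ∀ T : Groth.Agent.Lib.T2H1.Deform.RTower iX.hom iY.hom iB.hom f.hom f'.hom g.hom g'.hom,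
      Flat (T.h'.left ≫ T.k'.left) := fun T =>
    hflat T.a' T.c' (T.h' ≫ T.k') T.ha' T.hc' T.chart_comp'
  have hfv : ∀ T : Groth.Agent.Lib.T2H1.Deform.RTower iX.hom iY.hom iB.hom f.hom f'.hom g.hom g'.hom,
      MoreMor.IsFiniteOrderThickening T.v₀.left := fun T =>
    Groth.Agent.Lib.Helper2.Thick.fthick_baseChange T.v₀.left T.w₀.left T.k.left T.k'.left
      (T.finOrder_w hB) T.sqk
  -- the individual classes
  have e_flat : AlgSp.LocP @Flat f.hom ↔ AlgSp.LocP @Flat f'.hom :=
    D.locP_iff_of_rtower Groth.Agent.Lib.Helper12.LocPCases.good_flat Y.property X'.property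
      Y'.property B'.property (fun T hT => by
        haveI := hfl T
        exact (Groth.Agent.S1317.result T.u₀.left T.v₀.left T.w₀.left T.h.left T.h'.left T.k.left
          T.k'.left (T.finOrder_w hB) T.sqhk T.sqk T.sqh.w).1 hT)
  have e_lft : AlgSp.LocP @LocallyOfFiniteType f.hom ↔ AlgSp.LocP @LocallyOfFiniteType f'.hom :=
    D.locP_iff_of_rtower Groth.Agent.Lib.Helper12.LocPCases.good_lft Y.property X'.property
      Y'.property B'.property (fun T hT =>
        (Groth.Agent.S1309.result T.u₀.left T.v₀.left T.h.left T.h'.left (hfv T) T.sqh).1 hT)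
  have e_lqf : AlgSp.LocP (@LocallyQuasiFinite ⊓ @LocallyOfFiniteType) f.hom ↔
      AlgSp.LocP (@LocallyQuasiFinite ⊓ @LocallyOfFiniteType) f'.hom :=
    D.locP_iff_of_rtower Groth.Agent.Lib.Helper12.LocPCases.good_lqf Y.property X'.property
      Y'.property B'.property (fun T hT => by
        haveI : LocallyOfFiniteType T.h.left := hT.2
        haveI : LocallyOfFiniteType T.h'.left :=
          (Groth.Agent.S1309.result T.u₀.left T.v₀.left T.h.left T.h'.left (hfv T) T.sqh).1 hT.2
        exact ⟨(Groth.Agent.S1312.result T.u₀.left T.v₀.left T.h.left T.h'.left (hfv T).1 T.sqh).1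
          hT.1, inferInstance⟩)
  have e_lfp : AlgSp.LocP @LocallyOfFinitePresentation f.hom ↔
      AlgSp.LocP @LocallyOfFinitePresentation f'.hom :=
    D.locP_iff_of_rtower Groth.Agent.Lib.Helper12.LocPCases.good_lfp Y.property X'.property
      Y'.property B'.property (fun T hT => by
        haveI := hfl T
        exact (Groth.Agent.S1320.result T.u₀.left T.v₀.left T.w₀.left T.h.left T.h'.left T.k.left
          T.k'.left (T.finOrder_w hB) T.sqhk T.sqk T.sqh.w).1 hT)
  have e_sm : AlgSp.LocP @Smooth f.hom ↔ AlgSp.LocP @Smooth f'.hom :=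
    D.locP_iff_of_rtower Groth.Agent.Lib.Helper12.LocPCases.good_smooth Y.property X'.property
      Y'.property B'.property (fun T hT => by
        haveI := hfl T
        exact (Groth.Agent.S1321.result T.u₀.left T.v₀.left T.w₀.left T.h.left T.h'.left T.k.left
          T.k'.left (T.finOrder_w hB) T.sqhk T.sqk T.sqh.w).1 hT)
  have e_unr : AlgSp.LocP (@LocallyOfFiniteType ⊓ @FormallyUnramified) f.hom ↔
      AlgSp.LocP (@LocallyOfFiniteType ⊓ @FormallyUnramified) f'.hom :=
    D.locP_iff_of_rtower Groth.Agent.Lib.Helper12.LocPCases.good_unram Y.property X'.property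
      Y'.property B'.property (fun T hT =>
        ⟨(Groth.Agent.S1309.result T.u₀.left T.v₀.left T.h.left T.h'.left (hfv T) T.sqh).1 hT.1,
          (Groth.Agent.S1310.result T.u₀.left T.v₀.left T.h.left T.h'.left (hfv T) T.sqh).1 hT.2⟩)
  have e_et : AlgSp.LocP @Etale f.hom ↔ AlgSp.LocP @Etale f'.hom :=
    D.locP_iff_of_rtower Groth.Agent.Lib.Helper12.LocPCases.good_etale Y.property X'.property
      Y'.property B'.property (fun T hT => by
        haveI := hfl T
        exact (Groth.Agent.S1322.result T.u₀.left T.v₀.left T.w₀.left T.h.left T.h'.left T.k.left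
          T.k'.left (T.finOrder_w hB) T.sqhk T.sqk T.sqh.w).1 hT)
  refine ⟨?_, e_flat, e_lft, e_lqf, e_lfp, e_sm, e_unr, ?_⟩
  · constructor
    · rintro ⟨h1, h2⟩
      have h1' := e_lft.1 h1
      exact ⟨h1', (D.relDim_iff Y.property X'.property Y'.property h1'
        (fun e => e = (d : WithBot ℕ∞))).1 h2⟩
    · rintro ⟨h1', h2⟩
      exact ⟨e_lft.2 h1', (D.relDim_iff Y.property X'.property Y'.property h1'
        (fun e => e = (d : WithBot ℕ∞))).2 h2⟩
  · rw [Groth.Agent.Lib.T2H1.Deform.Data.isEtaleMor_iff_locP Y.property,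
      Groth.Agent.Lib.T2H1.Deform.Data.isEtaleMor_iff_locP Y'.property]
    exact e_et

end Groth.Agent.S10596
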