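import Groth.Statements.S10598
import Mathlib
import Groth.Agent.Lib.T2H1Deform2
import Groth.Agent.S1381

set_option autoImplicit false
universe u
open CategoryTheory CategoryTheory.Limits AlgebraicGeometry
open AlgSp

namespace Groth.Agent.S10598

/-- Let iB : B ⟶ B' be a thickening of algebraic spaces over S (representable, every base change to a
scheme a surjective closed immersion), f' : X' ⟶ Y' a morphism of algebraic spaces over B' (via g' :
Y' ⟶ B') with Y' locally of finite type over B' and X' flat and locally of finite presentation over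
B', and f : X ⟶ Y, g : Y ⟶ B its base change to B (both squares to iB cartesian, iX ≫ f' = f ≫ iY).
If f is flat, then f' is flat and g' : Y' ⟶ B' is flat at every point of Y' in the image of f'. -/
theorem result {S : Scheme.{u}} {X X' Y Y' B B' : AlgSp.Space S} (iX : X ⟶ X') (iY : Y ⟶ Y') (iB : B ⟶ B')
    (f : X ⟶ Y) (f' : X' ⟶ Y') (g : Y ⟶ B) (g' : Y' ⟶ B')
    (hcX : IsPullback iX.hom (f ≫ g).hom (f' ≫ g').hom iB.hom) (hcY : IsPullback iY.hom g.hom g'.hom iB.hom)
    (w : iX ≫ f' = f ≫ iY)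
    (hB : AlgSp.IsThickMor iB.hom)
    (hg' : AlgSp.LocP @LocallyOfFiniteType g'.hom)
    (hflat : AlgSp.LocP @Flat (f' ≫ g').hom) (hfp : AlgSp.LocP @LocallyOfFinitePresentation (f' ≫ g').hom)
    (hf : AlgSp.LocP @Flat f.hom) :
    AlgSp.LocP @Flat f'.hom ∧
    ∀ x' : AlgSp.Points X'.obj, AlgSp.IsFlatAtMor g'.hom (AlgSp.Points.map f'.hom x') := by
  have D : Groth.Agent.Lib.T2H1.Deform.Data iX.hom iY.hom iB.hom f.hom f'.hom g.hom g'.hom :=
    ⟨hcX, hcY, congrArg (fun m => m.hom) w, hB⟩
  have key : ∀ T : Groth.Agent.Lib.T2H1.Deform.RTower iX.hom iY.hom iB.hom f.hom f'.hom g.hom g'.hom,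
      Flat T.h'.left := by
    intro T
    haveI : Flat (T.h'.left ≫ T.k'.left) :=
      hflat T.a' T.c' (T.h' ≫ T.k') T.ha' T.hc' T.chart_comp'
    haveI : LocallyOfFinitePresentation (T.h'.left ≫ T.k'.left) :=
      hfp T.a' T.c' (T.h' ≫ T.k') T.ha' T.hc' T.chart_comp'
    haveI : LocallyOfFiniteType T.k'.left := hg' T.b' T.c' T.k' T.hb' T.hc' T.hbc'
    exact (Groth.Agent.S1381.result T.u₀.left T.v₀.left T.w₀.left T.h.left T.h'.left T.k.left
      T.k'.left (T.thick_w hB) T.sqhk T.sqk T.sqh.w).1 (hf T.a T.b T.h T.ha T.hb T.hab)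
  refine ⟨?_, fun x' => D.isFlatAtMor_of_rtower X'.property Y'.property key hflat x'⟩
  exact D.locP_of_rtower Groth.Agent.Lib.Helper12.LocPCases.good_flat X'.property Y'.property
    B'.property (fun T _ => key T) hf

end Groth.Agent.S10598
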