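import Groth.Statements.S10605
import Groth.Agent.S10534

set_option autoImplicit false
universe u
open CategoryTheory CategoryTheory.Limits AlgebraicGeometry
open AlgSp

namespace Groth.Agent.S10605

/-- The property of a morphism of algebraic spaces over S of being a thickening (representable, every
base change to a scheme a surjective closed immersion) is local on the base for the fpqc topology.
(The published statement also claims the same for first order thickenings; this row states only the
thickening clause.) -/
theorem result {S : Scheme.{u}} :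
    AlgSp.IsLocalOnBase (S := S) AlgSp.IsFpqcCover
      AlgSp.IsThickMor := by
  intro ι Y Yi g hY hYi hcov X f hX Xi p q hXi sq
  constructor
  · intro hf i
    exact MorphismProperty.of_isPullback (P := AlgSp.RepWith AlgSp.thick) (sq i) hf
  · intro hp
    have hcl : AlgSp.RepWith @IsClosedImmersion f :=
      (Groth.Agent.S10534.result S Yi g hY hYi hcov f hX Xi p q hXi sq).2
        (fun i => ⟨(hp i).1, fun U V x fst snd s => ((hp i).2 x fst snd s).1⟩)
    refine ⟨hcl.1, fun T W x fst snd psq => ⟨hcl.2 x fst snd psq, ⟨fun t => ?_⟩⟩⟩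
    obtain ⟨_, ⟨O, hO, rfl⟩, htO, -⟩ :=
      T.left.isBasis_affineOpens.exists_subset_of_mem_open (Set.mem_univ t) isOpen_univ
    let O' : T.left.Opens := O
    let OT : Over S := Over.mk (O'.ι ≫ T.hom)
    let ιO : OT ⟶ T := Over.homMk O'.ι rfl
    have hOT : IsAffine OT.left := (show IsAffineOpen O' from hO)
    obtain ⟨m, Wj, c, -, -, hcs, hl⟩ := hcov.2 OT hOT ((AlgSp.yon S).map ιO ≫ x)
    obtain ⟨j, t', ht'⟩ := hcs ⟨t, htO⟩
    obtain ⟨i, l, hli⟩ := hl j
    let r : Wj j ⟶ T := c j ≫ ιO
    have hr : r.left t' = t := by
      change (c j ≫ ιO).left t' = t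
      rw [Over.comp_left, Scheme.Hom.comp_apply, ht']
      rfl
    have sqL : IsPullback ((AlgSp.yon S).map (pullback.fst snd r))
        ((AlgSp.yon S).map (pullback.snd snd r)) ((AlgSp.yon S).map snd) ((AlgSp.yon S).map r) :=
      (IsPullback.of_hasPullback snd r).map (AlgSp.yon S)
    have big := sqL.paste_horiz psq
    have hbot : (AlgSp.yon S).map r ≫ x = l ≫ g i := by
      rw [hli, Functor.map_comp, Category.assoc]
    rw [hbot] at big
    let h₁₁ : (AlgSp.yon S).obj (pullback snd r) ⟶ Xi i :=
      (sq i).lift ((AlgSp.yon S).map (pullback.fst snd r) ≫ fst)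
        ((AlgSp.yon S).map (pullback.snd snd r) ≫ l) (by rw [Category.assoc]; exact big.w)
    have e1 : h₁₁ ≫ q i = (AlgSp.yon S).map (pullback.fst snd r) ≫ fst := (sq i).lift_fst _ _ _
    have e2 : h₁₁ ≫ p i = (AlgSp.yon S).map (pullback.snd snd r) ≫ l := (sq i).lift_snd _ _ _
    rw [← e1] at big
    have small : IsPullback h₁₁ ((AlgSp.yon S).map (pullback.snd snd r)) (p i) l :=
      IsPullback.of_right big e2 (sq i)
    haveI : Surjective (pullback.snd snd r).left := ((hp i).2 l h₁₁ _ small).2
    obtain ⟨y, hy⟩ := (pullback.snd snd r).left.surjective t'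
    refine ⟨(pullback.fst snd r).left y, ?_⟩
    have hcond : (pullback.fst snd r).left ≫ snd.left = (pullback.snd snd r).left ≫ r.left := by
      rw [← Over.comp_left, ← Over.comp_left, pullback.condition]
    have := congrArg (fun m => m y) hcond
    simp only [Scheme.Hom.comp_apply] at this
    rw [hy, hr] at this
    exact this

end Groth.Agent.S10605
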