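import Groth.Statements.S10614
import Groth.Agent.S10613
import Groth.Agent.S10264
import Groth.Agent.S9922

set_option autoImplicit false
universe u
open CategoryTheory CategoryTheory.Limits AlgebraicGeometry
open AlgSp

namespace Groth.Agent.S10614

open Groth.Agent.Lib.Helper12 in
/-- a universally closed monomorphism locally of finite type is a closed immersion. -/
lemma repWith_isClosedImmersion_of_univClosed_lft_mono {S : Scheme.{u}} {X Y : AlgSp.Space S}
    (f : X ⟶ Y) (huc : AlgSp.IsUnivClosedMor f.hom) (hl : AlgSp.LocP @LocallyOfFiniteType f.hom)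
    [Mono f.hom] : AlgSp.RepWith @IsClosedImmersion f.hom := by
  have hrep : AlgSp.Representable f.hom := ((Groth.Agent.S10613.result f).2.2.2 ⟨hl, inferInstance⟩).1
  have h1 : AlgSp.RepWith @UniversallyClosed f.hom :=
    Groth.Agent.S9922.repWith_universallyClosed_of_isUnivClosedMor f.hom hrep huc
  have h2 : AlgSp.RepWith @LocallyOfFiniteType f.hom :=
    (Groth.Agent.S9948.locP_iff_repWith @LocallyOfFiniteType
      (fun g hg => by haveI := hg; infer_instance) Y.property f.hom hrep).1 hl
  refine ⟨hrep, fun U V g fst w sq => ?_⟩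
  haveI : UniversallyClosed w.left := h1.2 g fst w sq
  haveI : LocallyOfFiniteType w.left := h2.2 g fst w sq
  haveI : Mono ((AlgSp.yon S).map w) := sq.mono_snd_of_mono
  haveI : Mono w := (AlgSp.yon S).mono_of_mono_map inferInstance
  haveI : Mono w.left := inferInstance
  show IsClosedImmersion w.left
  rw [IsClosedImmersion.iff_isProper_and_mono]
  exact ⟨{ }, inferInstance⟩

/-- For a morphism f : X ⟶ Y of algebraic spaces over S, being a closed immersion (representable by
closed immersions) is equivalent to each of: (a) universally closed plus unramified plus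
monomorphism; (b) universally closed plus unramified plus universally injective; (c) a universally
closed monomorphism that is locally of finite type; (d) universally closed, universally injective,
locally of finite type and formally unramified (lifting sense). (Unramified is the etale-local
condition locally of finite type and formally unramified on charts; monomorphisms are taken in fppf
sheaves.) -/
theorem result {S : Scheme.{u}} {X Y : AlgSp.Space S} (f : X ⟶ Y) :
    (AlgSp.RepWith @IsClosedImmersion f.hom ↔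
      (AlgSp.IsUnivClosedMor f.hom ∧ AlgSp.LocP (@LocallyOfFiniteType ⊓ @FormallyUnramified) f.hom ∧ Mono f.hom)) ∧
    (AlgSp.RepWith @IsClosedImmersion f.hom ↔
      (AlgSp.IsUnivClosedMor f.hom ∧ AlgSp.LocP (@LocallyOfFiniteType ⊓ @FormallyUnramified) f.hom ∧ AlgSp.IsUnivInjectiveMor f.hom)) ∧
    (AlgSp.RepWith @IsClosedImmersion f.hom ↔
      (AlgSp.IsUnivClosedMor f.hom ∧ AlgSp.LocP @LocallyOfFiniteType f.hom ∧ Mono f.hom)) ∧
    (AlgSp.RepWith @IsClosedImmersion f.hom ↔
      (AlgSp.IsUnivClosedMor f.hom ∧ AlgSp.IsUnivInjectiveMor f.hom ∧ AlgSp.LocP @LocallyOfFiniteType f.hom ∧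
        AlgSp.IsFormallyUnramifiedMor f.hom)) := by
  have hfwd : AlgSp.RepWith @IsClosedImmersion f.hom →
      AlgSp.IsUnivClosedMor f.hom ∧ AlgSp.LocP (@LocallyOfFiniteType ⊓ @FormallyUnramified) f.hom ∧
        Mono f.hom := by
    intro h
    refine ⟨Groth.Agent.Lib.Helper12.Proper.isUnivClosedMor_of_isClosedImmersion f.hom h,
      Groth.Agent.S10264.result f (Groth.Agent.Lib.Helper12.OpenSub.repWith_mono
        (fun _ _ g hg => by haveI : IsClosedImmersion g := hg; exact (inferInstance : IsImmersion g)) h),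
      Groth.Agent.S9928.mono_of_repWith @IsClosedImmersion
        (fun _ _ g hg => by haveI : IsClosedImmersion g := hg; infer_instance) f.hom h⟩
  have hlft : AlgSp.LocP (@LocallyOfFiniteType ⊓ @FormallyUnramified) f.hom →
      AlgSp.LocP @LocallyOfFiniteType f.hom :=
    Groth.Agent.Lib.Helper12.LargestOpen.locP_mono (fun _ _ _ h => h.1)
  have hT := Groth.Agent.S10613.result f
  refine ⟨⟨hfwd, fun ⟨h1, h2, h3⟩ => ?_⟩, ⟨fun h => ?_, fun ⟨h1, h2, h3⟩ => ?_⟩,
    ⟨fun h => ?_, fun ⟨h1, h2, h3⟩ => ?_⟩, ⟨fun h => ?_, fun ⟨h1, h2, h3, h4⟩ => ?_⟩⟩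
  · haveI := h3
    exact repWith_isClosedImmersion_of_univClosed_lft_mono f h1 (hlft h2)
  · obtain ⟨h1, h2, h3⟩ := hfwd h
    exact ⟨h1, h2, (hT.1.1 ⟨h2, h3⟩).2⟩
  · haveI := (hT.1.2 ⟨h2, h3⟩).2
    exact repWith_isClosedImmersion_of_univClosed_lft_mono f h1 (hlft h2)
  · obtain ⟨h1, h2, h3⟩ := hfwd h
    exact ⟨h1, hlft h2, h3⟩
  · haveI := h3
    exact repWith_isClosedImmersion_of_univClosed_lft_mono f h1 h2
  · obtain ⟨h1, h2, h3⟩ := hfwd h
    obtain ⟨h4, h5, h6⟩ := hT.2.2.1.1 ⟨h2, h3⟩
    exact ⟨h1, h4, h5, h6⟩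
  · obtain ⟨h5, h6⟩ := hT.2.2.1.2 ⟨h2, h3, h4⟩
    haveI := h6
    exact repWith_isClosedImmersion_of_univClosed_lft_mono f h1 h3

end Groth.Agent.S10614
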