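import Groth.Statements.S10626
import Groth.Agent.Lib.T2H1FormalCharts2
import Groth.Agent.S10622
import Groth.Agent.S9771

set_option autoImplicit false
universe u
open CategoryTheory CategoryTheory.Limits AlgebraicGeometry
open AlgSp

namespace Groth.Agent.S10626

/-- An unramified and flat morphism of algebraic spaces over S is formally etale (lifting sense). -/
theorem result {S : Scheme.{u}} {X Y : AlgSp.Space S} (f : X ⟶ Y)
    (h1 : AlgSp.LocP (@LocallyOfFiniteType ⊓ @FormallyUnramified) f.hom) (h2 : AlgSp.LocP @Flat f.hom) :
    AlgSp.IsFormallyEtaleMor f.hom := by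
  refine (Groth.Agent.S10622.result f).1.2 (fun U V a b h ha hb w => ?_)
  haveI : Flat h.left := h2 a b h ha hb w
  haveI : LocallyOfFiniteType h.left := (h1 a b h ha hb w).1
  haveI : FormallyUnramified h.left := (h1 a b h ha hb w).2
  exact Groth.Agent.S9771.result h.left

end Groth.Agent.S10626
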