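import Groth.Statements.S10627
import Groth.Agent.Lib.T2H1FormalCharts2
import Groth.Agent.S10265
import Groth.Agent.S10208

set_option autoImplicit false
universe u
open CategoryTheory CategoryTheory.Limits AlgebraicGeometry
open AlgSp

namespace Groth.Agent.S10627

/-- A morphism f : X ⟶ Y of algebraic spaces over S is etale if and only if it is locally of finite
presentation and formally etale (lifting sense). -/
theorem result {S : Scheme.{u}} {X Y : AlgSp.Space S} (f : X ⟶ Y) :
    AlgSp.IsEtaleMor f.hom ↔ AlgSp.LocP @LocallyOfFinitePresentation f.hom ∧ AlgSp.IsFormallyEtaleMor f.hom := by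
  constructor
  · intro hf
    refine ⟨(Groth.Agent.S10265.result f hf).2.2.2.1, ?_⟩
    obtain ⟨U, p, hpe, hps⟩ := X.property.atlas
    exact Groth.Agent.Lib.T2H1.FormalDescent.isFormallyEtaleMor_of_comp p hpe hps f.hom
      (Groth.Agent.Lib.T2H1.RepEtale.isFormallyEtaleMor_of_repWith _ (hf p hpe))
  · rintro ⟨hlfp, hfe⟩
    obtain ⟨U, V, a, b, h, ha, has, hb, -, w⟩ :=
      Groth.Agent.Lib.T2H1.FormalCharts2.exists_surj_chart_diagram X.property Y.property f.hom
    have h1 : LocallyOfFinitePresentation h.left := hlfp a b h ha hb w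
    have h2 : MoreMor.IsFormallyEtaleHom h.left :=
      Groth.Agent.Lib.T2H1.FormalCharts2.isFormallyEtaleHom_of_chart f.hom hfe a b h ha hb w
    haveI : Etale h.left := (Groth.Agent.S1489.result h.left).2 ⟨h1, h2⟩
    exact Groth.Agent.S10208.result f a ha has b hb h w

end Groth.Agent.S10627
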