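import Groth.Statements.S10630
import Groth.Agent.Lib.T2H1FormalCharts

set_option autoImplicit false
universe u
open CategoryTheory CategoryTheory.Limits AlgebraicGeometry
open AlgSp

namespace Groth.Agent.S10630

/-- (1) ⇔ (3): let h : Z ⟶ X be a morphism of algebraic spaces over S and let i : Z ⟶ Z', h' : Z' ⟶ X be
a first order thickening of Z over X (i ≫ h' = h). Then (i, h') is a universal first order
thickening of Z over X if and only if for every first order thickening j : T ⟶ T' of schemes over S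
with T' affine, every a : T ⟶ Z and b : T' ⟶ X with j ≫ b = a ≫ h, there is exactly one a' : T' ⟶ Z'
with j ≫ a' = a ≫ i and a' ≫ h' = b. -/
theorem result {S : Scheme.{u}} {Z Z' X : AlgSp.Space S} (h : Z ⟶ X) (i : Z ⟶ Z')
    (h' : Z' ⟶ X) (hi : AlgSp.IsFOThickMor i.hom) (w : i ≫ h' = h) :
    AlgSp.IsUnivFOThick h.hom i.hom h'.hom ↔
      ∀ (T T' : Over S) (j : T ⟶ T'), IsAffine T'.left → AlgSp.IsFOThickMor ((AlgSp.yon S).map j) →
        ∀ (a : (AlgSp.yon S).obj T ⟶ Z.obj) (b : (AlgSp.yon S).obj T' ⟶ X.obj),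
          (AlgSp.yon S).map j ≫ b = a ≫ h.hom →
          ∃! a' : (AlgSp.yon S).obj T' ⟶ Z'.obj, (AlgSp.yon S).map j ≫ a' = a ≫ i.hom ∧ a' ≫ h'.hom = b := by
  constructor
  · intro HU T T' j _ hj a b hjb
    exact HU.2.2 (AlgSp.IsAlgSpace.yon_obj T) (AlgSp.IsAlgSpace.yon_obj T') _ a b hj hjb
  · intro H
    refine ⟨hi, congrArg (fun x => x.hom) w, ?_⟩
    intro T T' hT hT' j a b hj hjb
    refine Groth.Agent.Lib.T2H1.Descend.lift_existsUnique_of_charts (j := j) (f := h'.hom)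
      (a := a ≫ i.hom) (b := b) hT' (fun c => ?_)
    obtain ⟨W, snd, fst, psq⟩ := hj.1.1 c.β
    have hFO := Groth.Agent.Lib.T2H1.Descend.isFOThickMor_of_isPullback hj c.et psq
    have hcond : (AlgSp.yon S).map snd ≫ c.β ≫ b = (fst ≫ a) ≫ h.hom := by
      rw [← Category.assoc, ← psq.w, Category.assoc, hjb, Category.assoc]
    obtain ⟨a', ⟨ha1, ha2⟩, hau⟩ := H W c.V snd c.aff hFO (fst ≫ a) (c.β ≫ b) hcond
    refine ⟨a', ?_, fun l hl => ?_⟩
    · exact (Groth.Agent.Lib.T2H1.Descend.isLocLift_iff_of_isPullback psq a').2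
        ⟨by rw [ha1, Category.assoc], ha2⟩
    · have hl' := (Groth.Agent.Lib.T2H1.Descend.isLocLift_iff_of_isPullback psq l).1 hl
      exact hau l ⟨by rw [hl'.1, Category.assoc], hl'.2⟩

end Groth.Agent.S10630
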