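import Groth.Statements.S10631
import Groth.Agent.Lib.T2H1FormalCharts

set_option autoImplicit false
universe u
open CategoryTheory CategoryTheory.Limits AlgebraicGeometry
open AlgSp

namespace Groth.Agent.S10631

/-- Consider morphisms Z ⟶ Y ⟶ X of algebraic spaces over S. If (i : Z ⟶ Z', h' : Z' ⟶ Y) is, over Y, a
universal first order thickening of Z and g : Y ⟶ X is formally etale, then (i, h' ≫ g) is, over X,
a universal first order thickening of Z. -/
theorem result {S : Scheme.{u}} {Z Z' Y X : AlgSp.Space S} (hZ : Z ⟶ Y) (g : Y ⟶ X)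
    (i : Z ⟶ Z') (h' : Z' ⟶ Y) (HU : AlgSp.IsUnivFOThick hZ.hom i.hom h'.hom) (hg : AlgSp.IsFormallyEtaleMor g.hom) :
    AlgSp.IsUnivFOThick (hZ ≫ g).hom i.hom (h' ≫ g).hom := by
  obtain ⟨hi, hw, huniv⟩ := HU
  refine ⟨hi, ?_, ?_⟩
  · change i.hom ≫ h'.hom ≫ g.hom = hZ.hom ≫ g.hom
    rw [← Category.assoc, hw]
  · intro T T' hT hT' j a b hj hjb
    have hjb' : j ≫ b = a ≫ hZ.hom ≫ g.hom := hjb
    have w : (a ≫ hZ.hom) ≫ g.hom = j ≫ b := by rw [hjb', Category.assoc]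
    obtain ⟨l, ⟨hl1, hl2⟩, hlu⟩ :=
      Groth.Agent.Lib.T2H1.Descend.lift_existsUnique_of_charts (j := j) (f := g.hom)
        (a := a ≫ hZ.hom) (b := b) hT'
        (fun c => Groth.Agent.Lib.T2H1.Descend.isLocLift_existsUnique hg hj w c)
    obtain ⟨a', ⟨ha1, ha2⟩, hau⟩ := huniv hT hT' j a l hj hl1
    refine ⟨a', ⟨ha1, ?_⟩, fun a'' ha'' => ?_⟩
    · change a' ≫ h'.hom ≫ g.hom = b
      rw [← Category.assoc, ha2, hl2]
    · have h3 : a'' ≫ h'.hom ≫ g.hom = b := ha''.2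
      have h4 : a'' ≫ h'.hom = l := by
        apply hlu
        refine ⟨?_, by rw [Category.assoc, h3]⟩
        rw [← Category.assoc, ha''.1, Category.assoc, hw]
      exact hau a'' ⟨ha''.1, h4⟩

end Groth.Agent.S10631
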