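import Groth.Statements.S10632
import Groth.Agent.Lib.T2H1FormalCharts2
import Groth.Agent.S10627

set_option autoImplicit false
universe u
open CategoryTheory CategoryTheory.Limits AlgebraicGeometry
open AlgSp

namespace Groth.Agent.S10632

/-- Let e : Z ⟶ Y be an etale morphism of algebraic spaces over S, hY : Y ⟶ X, and let (iY : Y ⟶ Y', hY'
: Y' ⟶ X) be a universal first order thickening of Y over X. Let e' : Z' ⟶ Y' be etale with iZ : Z ⟶
Z' making Z = Y ×_{Y'} Z' a pullback square. Then (iZ, e' ≫ hY') is a universal first order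
thickening of Z over X. -/
theorem result {S : Scheme.{u}} {Z Y Y' Z' X : AlgSp.Space S} (e : Z ⟶ Y)
    (he : AlgSp.IsEtaleMor e.hom) (hY : Y ⟶ X) (iY : Y ⟶ Y') (hY' : Y' ⟶ X)
    (HU : AlgSp.IsUnivFOThick hY.hom iY.hom hY'.hom) (iZ : Z ⟶ Z') (e' : Z' ⟶ Y') (he' : AlgSp.IsEtaleMor e'.hom)
    (sq : IsPullback e.hom iZ.hom iY.hom e'.hom) :
    AlgSp.IsUnivFOThick (e ≫ hY).hom iZ.hom (e' ≫ hY').hom := by
  obtain ⟨hiY, hwY, hunivY⟩ := HU
  have he'f : AlgSp.IsFormallyEtaleMor e'.hom := ((Groth.Agent.S10627.result e').1 he').2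
  refine ⟨⟨MorphismProperty.of_isPullback (P := AlgSp.RepWith AlgSp.thick) sq hiY.1, ?_⟩, ?_, ?_⟩
  · intro V W b fst snd hV hb psq
    exact hiY.2 (b ≫ e'.hom) (fst ≫ e.hom) snd hV (he' b hb) (psq.paste_horiz sq)
  · change iZ.hom ≫ e'.hom ≫ hY'.hom = e.hom ≫ hY.hom
    rw [← Category.assoc, ← sq.w, Category.assoc, hwY]
  · intro T T' hT hT' j a b hj hjb
    have hjb' : j ≫ b = (a ≫ e.hom) ≫ hY.hom := by rw [hjb, Category.assoc]; rfl
    obtain ⟨aY, ⟨haY1, haY2⟩, haYu⟩ := hunivY hT hT' j (a ≫ e.hom) b hj hjb'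
    have w : (a ≫ iZ.hom) ≫ e'.hom = j ≫ aY := by
      rw [haY1, Category.assoc, Category.assoc, sq.w]
    obtain ⟨a', ⟨ha1, ha2⟩, hau⟩ :=
      Groth.Agent.Lib.T2H1.Descend.lift_existsUnique_of_charts (j := j) (f := e'.hom)
        (a := a ≫ iZ.hom) (b := aY) hT'
        (fun c => Groth.Agent.Lib.T2H1.Descend.isLocLift_existsUnique he'f hj w c)
    refine ⟨a', ⟨ha1, ?_⟩, fun a'' ha'' => ?_⟩
    · change a' ≫ e'.hom ≫ hY'.hom = b
      rw [← Category.assoc, ha2, haY2]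
    · have h3 : a'' ≫ e'.hom ≫ hY'.hom = b := ha''.2
      have h4 : a'' ≫ e'.hom = aY := by
        apply haYu
        refine ⟨?_, by rw [Category.assoc, h3]⟩
        rw [← Category.assoc, ha''.1, Category.assoc, Category.assoc, sq.w]
      exact hau a'' ⟨ha''.1, h4⟩

end Groth.Agent.S10632
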