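import Groth.Statements.S10635
import Groth.Agent.Lib.T2H1InfNbhd
import Groth.Agent.S10630
import Groth.Agent.S10631
import Groth.Agent.S10627

set_option autoImplicit false
universe u
open CategoryTheory CategoryTheory.Limits AlgebraicGeometry
open AlgSp

namespace Groth.Agent.S10635

/-- Take an immersion i : Z ⟶ X of algebraic spaces over S, written as a closed immersion c : Z ⟶ U
followed by an open immersion u : U ⟶ X, and let (j : Z ⟶ Z₁, k : Z₁ ⟶ U) be the first order
infinitesimal neighbourhood of Z in U. Then (j, k ≫ u) is a universal first order thickening of Z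
over X. -/
theorem result {S : Scheme.{u}} {Z U X Z₁ : AlgSp.Space S} (c : Z ⟶ U)
    (hc : AlgSp.RepWith @IsClosedImmersion c.hom) (u : U ⟶ X) (hu : AlgSp.RepWith @IsOpenImmersion u.hom)
    (j : Z ⟶ Z₁) (k : Z₁ ⟶ U) (hN : AlgSp.IsInfNbhd 1 c.hom j.hom k.hom) :
    AlgSp.IsUnivFOThick (c ≫ u).hom j.hom (k ≫ u).hom := by
  have hFO : AlgSp.IsFOThickMor j.hom :=
    (AlgSp.isNThickMor_one_iff _).1
      (Groth.Agent.Lib.T2H1.InfNbhd.isNThickMor_of_isInfNbhd U.property hN)
  have hw : j ≫ k = c := ObjectProperty.hom_ext _ hN.1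
  have h1 : AlgSp.IsUnivFOThick c.hom j.hom k.hom :=
    (Groth.Agent.S10630.result c j k hFO hw).2 (fun T T' jT hT' hjT a b hab =>
      Groth.Agent.Lib.T2H1.InfNbhd.existsUnique_lift_of_isInfNbhd U.property hN jT hT' hjT a b hab)
  have hu1 : AlgSp.RepWith @Etale u.hom :=
    ⟨hu.1, fun _ _ g fst snd BC => by
      haveI : IsOpenImmersion snd.left := hu.2 g fst snd BC
      show Etale snd.left
      infer_instance⟩
  have hu2 : AlgSp.IsEtaleMor u.hom := fun V φ hφ =>
    (AlgSp.RepWith @Etale).comp_mem _ _ hφ hu1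
  have hu3 : AlgSp.IsFormallyEtaleMor u.hom := ((Groth.Agent.S10627.result u).1 hu2).2
  exact Groth.Agent.S10631.result c u j k h1 hu3

end Groth.Agent.S10635
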