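import Groth.Statements.S10639
import Groth.Agent.Lib.T2H1NearLocus
import Groth.Agent.Lib.T2H1Where
import Groth.Agent.S9952

set_option autoImplicit false
universe u
open CategoryTheory CategoryTheory.Limits AlgebraicGeometry
open AlgSp

namespace Groth.Agent.S10639

/-- For morphisms f : X ⟶ Y, p : X ⟶ Z and q : Y ⟶ Z of algebraic spaces over S with f ≫ q = p, where p
is closed (the map on points is closed) and locally of finite type, there is an open subspace W of Z
with the following property: a morphism of algebraic spaces g : Z' ⟶ Z factors through W exactly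
when the base change X' ⟶ Y' of f along g is unramified (locally of finite type and formally
unramified, etale locally on source and target). Here the base change of f along g is any f' : X' ⟶
Y' obtained from pullback squares Y' = Y ×_Z Z' and X' = X ×_Y Y' of algebraic spaces over S, and W
⊂ Z is given as a representable open immersion w : W ⟶ Z. -/
theorem result {S : Scheme.{u}} {X Y Z : AlgSp.Space S}
    (f : X ⟶ Y) (p : X ⟶ Z) (q : Y ⟶ Z) (hc : f ≫ q = p)
    (hp1 : AlgSp.LocP @LocallyOfFiniteType p.hom) (hp2 : AlgSp.IsClosedMor p.hom) :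
    ∃ (W : AlgSp.Space S) (w : W ⟶ Z), AlgSp.RepWith @IsOpenImmersion w.hom ∧
      ∀ (Z' : AlgSp.Space S) (g : Z' ⟶ Z),
        (∃ k : Z' ⟶ W, k ≫ w = g) ↔
          ∀ (Y' : AlgSp.Space S) (gY : Y' ⟶ Y) (q' : Y' ⟶ Z'),
            IsPullback gY.hom q'.hom q.hom g.hom →
            ∀ (X' : AlgSp.Space S) (gX : X' ⟶ X) (f' : X' ⟶ Y'),
              IsPullback gX.hom f'.hom f.hom gY.hom →
                AlgSp.LocP (@LocallyOfFiniteType ⊓ @FormallyUnramified) f'.hom := by
  subst hc
  have hflft : AlgSp.LocP @LocallyOfFiniteType f.hom := Groth.Agent.S9952.result f q hp1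
  have hopen := Groth.Agent.Lib.T2H1.NearLocus.isOpen_locus
    (@LocallyOfFiniteType ⊓ @FormallyUnramified) f.hom
  obtain ⟨W, w, hw, hrange⟩ := Groth.Agent.Lib.T2H1.Where.exists_open_where (f ≫ q) hp2 _ hopen
  refine ⟨W, w, hw, fun Z' g => ?_⟩
  have key : ∀ (Y' : AlgSp.Space S) (gY : Y' ⟶ Y) (q' : Y' ⟶ Z'),
      IsPullback gY.hom q'.hom q.hom g.hom →
      ∀ (X' : AlgSp.Space S) (gX : X' ⟶ X) (f' : X' ⟶ Y'),
        IsPullback gX.hom f'.hom f.hom gY.hom →
        ((∃ k : Z' ⟶ W, k ≫ w = g) ↔
          AlgSp.LocP (@LocallyOfFiniteType ⊓ @FormallyUnramified) f'.hom) := by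
    intro Y' gY q' sqY X' gX f' sqX
    have sq : IsPullback gX.hom (f'.hom ≫ q'.hom) (f.hom ≫ q.hom) g.hom := sqX.paste_vert sqY
    rw [Groth.Agent.Lib.T2H1.Where.factor_iff (f ≫ q) g gX.hom (f'.hom ≫ q'.hom) sq _ w hw hrange,
      Groth.Agent.Lib.T2H1.NearLocus.locP_iff_forall_mem_locus
        Groth.Agent.Lib.Helper12.LocPCases.good_unram X'.property Y'.property f'.hom,
      Groth.Agent.Lib.T2H1.NearLocus.locus_baseChange
        Groth.Agent.Lib.Helper12.LocPCases.good_unram
        (fun hh hh' qU qV sq hQ u' =>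
          Groth.Agent.Lib.T2H1.NearLocus.near_unram_baseChange hh hh' qU qV sq hQ u')
        X.property Y.property Y'.property f.hom f'.hom gX.hom gY.hom sqX hflft]
    rfl
  constructor
  · intro H Y' gY q' sqY X' gX f' sqX
    exact (key Y' gY q' sqY X' gX f' sqX).1 H
  · intro H
    have sqY0 := IsPullback.of_hasPullback q.hom g.hom
    let Y' : AlgSp.Space S := ⟨pullback q.hom g.hom,
      Groth.Agent.S9874.isAlgSpace_of_isPullback Z.property.diag Y.property Z'.property sqY0⟩
    let gY : Y' ⟶ Y := ObjectProperty.homMk (pullback.fst q.hom g.hom)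
    let q' : Y' ⟶ Z' := ObjectProperty.homMk (pullback.snd q.hom g.hom)
    have sqY : IsPullback gY.hom q'.hom q.hom g.hom := sqY0
    have sqX0 := IsPullback.of_hasPullback f.hom gY.hom
    let X' : AlgSp.Space S := ⟨pullback f.hom gY.hom,
      Groth.Agent.S9874.isAlgSpace_of_isPullback Y.property.diag X.property Y'.property sqX0⟩
    let gX : X' ⟶ X := ObjectProperty.homMk (pullback.fst f.hom gY.hom)
    let f' : X' ⟶ Y' := ObjectProperty.homMk (pullback.snd f.hom gY.hom)
    have sqX : IsPullback gX.hom f'.hom f.hom gY.hom := sqX0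
    exact (key Y' gY q' sqY X' gX f' sqX).2 (H Y' gY q' sqY X' gX f' sqX)

end Groth.Agent.S10639
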