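import Groth.Statements.S10640
import Groth.Agent.Lib.T2H1DiagLocus2
import Groth.Agent.S9952

set_option autoImplicit false
universe u
open CategoryTheory CategoryTheory.Limits AlgebraicGeometry
open AlgSp

namespace Groth.Agent.S10640

/-- For morphisms f : X ⟶ Y, p : X ⟶ Z and q : Y ⟶ Z of algebraic spaces over S with f ≫ q = p, write XX
= X ×_Y X with projections pr0, pr1, and assume that p is closed and locally of finite type and that
the composite XX ⟶ X ⟶ Z (through pr1 and p) is closed as well. Then there is an open subspace W of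
Z with the following property: a morphism of algebraic spaces g : Z' ⟶ Z factors through W exactly
when the base change X' ⟶ Y' of f along g is unramified and universally injective. Here the base
change of f along g is any f' : X' ⟶ Y' obtained from pullback squares Y' = Y ×_Z Z' and X' = X ×_Y
Y' of algebraic spaces over S, and W ⊂ Z is given as a representable open immersion w : W ⟶ Z. -/
theorem result {S : Scheme.{u}} {X Y Z : AlgSp.Space S}
    (f : X ⟶ Y) (p : X ⟶ Z) (q : Y ⟶ Z) (hc : f ≫ q = p)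
    (XX : AlgSp.Space S) (pr0 pr1 : XX ⟶ X) (hXX : IsPullback pr0.hom pr1.hom f.hom f.hom)
    (hp1 : AlgSp.LocP @LocallyOfFiniteType p.hom) (hp2 : AlgSp.IsClosedMor p.hom)
    (hp3 : AlgSp.IsClosedMor (pr1 ≫ p).hom) :
    ∃ (W : AlgSp.Space S) (w : W ⟶ Z), AlgSp.RepWith @IsOpenImmersion w.hom ∧
      ∀ (Z' : AlgSp.Space S) (g : Z' ⟶ Z),
        (∃ k : Z' ⟶ W, k ≫ w = g) ↔
          ∀ (Y' : AlgSp.Space S) (gY : Y' ⟶ Y) (q' : Y' ⟶ Z'),
            IsPullback gY.hom q'.hom q.hom g.hom →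
            ∀ (X' : AlgSp.Space S) (gX : X' ⟶ X) (f' : X' ⟶ Y'),
              IsPullback gX.hom f'.hom f.hom gY.hom →
                (AlgSp.LocP (@LocallyOfFiniteType ⊓ @FormallyUnramified) f'.hom ∧ AlgSp.IsUnivInjectiveMor f'.hom) := by
  subst hc
  have hflft : AlgSp.LocP @LocallyOfFiniteType f.hom := Groth.Agent.S9952.result f q hp1
  let Δ : X.obj ⟶ XX.obj := hXX.lift (𝟙 _) (𝟙 _) rfl
  have hΔ0 : Δ ≫ pr0.hom = 𝟙 _ := hXX.lift_fst _ _ _
  have hΔ1 : Δ ≫ pr1.hom = 𝟙 _ := hXX.lift_snd _ _ _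
  have hE := Groth.Agent.Lib.T2H1.NearLocus.isOpen_image_diag_locus f pr0.hom pr1.hom hXX Δ hΔ0 hΔ1
  obtain ⟨W, w, hw, hrange⟩ :=
    Groth.Agent.Lib.T2H1.Where.exists_open_where (pr1 ≫ f ≫ q) hp3 _ hE
  refine ⟨W, w, hw, fun Z' g => ?_⟩
  rw [Groth.Agent.S10194.result w hw g, hrange]
  have key : ∀ (Y' : AlgSp.Space S) (gY : Y' ⟶ Y) (q' : Y' ⟶ Z'),
      IsPullback gY.hom q'.hom q.hom g.hom →
      ∀ (X' : AlgSp.Space S) (gX : X' ⟶ X) (f' : X' ⟶ Y'),
        IsPullback gX.hom f'.hom f.hom gY.hom →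
        (Set.range (AlgSp.Points.map g.hom) ⊆
          (AlgSp.Points.map (pr1 ≫ f ≫ q).hom '' (AlgSp.Points.map Δ ''
            Groth.Agent.Lib.T2H1.NearLocus.locus (@LocallyOfFiniteType ⊓ @FormallyUnramified)
              f.hom)ᶜ)ᶜ ↔
          (AlgSp.LocP (@LocallyOfFiniteType ⊓ @FormallyUnramified) f'.hom ∧
            AlgSp.IsUnivInjectiveMor f'.hom)) := by
    intro Y' gY q' sqY X' gX f' sqX
    exact Groth.Agent.Lib.T2H1.NearLocus.unram_univInj_iff f q g gY q' sqY gX f' sqX pr0 pr1 hXX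
      hflft Δ hΔ0 hΔ1
  constructor
  · intro H Y' gY q' sqY X' gX f' sqX
    exact (key Y' gY q' sqY X' gX f' sqX).1 H
  · intro H
    have sqY0 := IsPullback.of_hasPullback q.hom g.hom
    let Y' : AlgSp.Space S := ⟨pullback q.hom g.hom,
      Groth.Agent.S9874.isAlgSpace_of_isPullback Z.property.diag Y.property Z'.property sqY0⟩
    let gY : Y' ⟶ Y := ObjectProperty.homMk (pullback.fst q.hom g.hom)
    let q' : Y' ⟶ Z' := ObjectProperty.homMk (pullback.snd q.hom g.hom)
    have sqY : IsPullback gY.hom q'.hom q.hom g.hom := sqY0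
    have sqX0 := IsPullback.of_hasPullback f.hom gY.hom
    let X' : AlgSp.Space S := ⟨pullback f.hom gY.hom,
      Groth.Agent.S9874.isAlgSpace_of_isPullback Y.property.diag X.property Y'.property sqX0⟩
    let gX : X' ⟶ X := ObjectProperty.homMk (pullback.fst f.hom gY.hom)
    let f' : X' ⟶ Y' := ObjectProperty.homMk (pullback.snd f.hom gY.hom)
    have sqX : IsPullback gX.hom f'.hom f.hom gY.hom := sqX0
    exact (key Y' gY q' sqY X' gX f' sqX).2 (H Y' gY q' sqY X' gX f' sqX)

end Groth.Agent.S10640
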