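import Groth.Statements.S10641
import Groth.Agent.S10640
import Groth.Agent.S10614
import Groth.Agent.S10278
import Groth.Agent.Lib.Helper12Proper

set_option autoImplicit false
universe u
open CategoryTheory CategoryTheory.Limits AlgebraicGeometry
open AlgSp

namespace Groth.Agent.S10641

/-- For morphisms f : X ⟶ Y, p : X ⟶ Z and q : Y ⟶ Z of algebraic spaces over S with f ≫ q = p, where p
is universally closed and locally of finite type and q is separated, there is an open subspace W of
Z with the following property: a morphism of algebraic spaces g : Z' ⟶ Z factors through W exactly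
when the base change X' ⟶ Y' of f along g is a closed immersion (representable, and a closed
immersion on every represented pullback). Here the base change of f along g is any f' : X' ⟶ Y'
obtained from pullback squares Y' = Y ×_Z Z' and X' = X ×_Y Y' of algebraic spaces over S, and W ⊂ Z
is given as a representable open immersion w : W ⟶ Z. -/
theorem result {S : Scheme.{u}} {X Y Z : AlgSp.Space S}
    (f : X ⟶ Y) (p : X ⟶ Z) (q : Y ⟶ Z) (hc : f ≫ q = p)
    (hp1 : AlgSp.LocP @LocallyOfFiniteType p.hom) (hp2 : AlgSp.IsUnivClosedMor p.hom)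
    (hq : AlgSp.IsSeparatedMor q.hom) :
    ∃ (W : AlgSp.Space S) (w : W ⟶ Z), AlgSp.RepWith @IsOpenImmersion w.hom ∧
      ∀ (Z' : AlgSp.Space S) (g : Z' ⟶ Z),
        (∃ k : Z' ⟶ W, k ≫ w = g) ↔
          ∀ (Y' : AlgSp.Space S) (gY : Y' ⟶ Y) (q' : Y' ⟶ Z'),
            IsPullback gY.hom q'.hom q.hom g.hom →
            ∀ (X' : AlgSp.Space S) (gX : X' ⟶ X) (f' : X' ⟶ Y'),
              IsPullback gX.hom f'.hom f.hom gY.hom →
                AlgSp.RepWith @IsClosedImmersion f'.hom := by
  subst hc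
  have hf_uc : AlgSp.IsUnivClosedMor f.hom :=
    ((Groth.Agent.S10278.result f (f ≫ q) q rfl hq).1 hp2).1
  have sqXX0 := IsPullback.of_hasPullback f.hom f.hom
  let XX : AlgSp.Space S := ⟨pullback f.hom f.hom,
    Groth.Agent.S9874.isAlgSpace_of_isPullback Y.property.diag X.property X.property sqXX0⟩
  let pr0 : XX ⟶ X := ObjectProperty.homMk (pullback.fst f.hom f.hom)
  let pr1 : XX ⟶ X := ObjectProperty.homMk (pullback.snd f.hom f.hom)
  have hXX : IsPullback pr0.hom pr1.hom f.hom f.hom := sqXX0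
  have hp2' : AlgSp.IsClosedMor (f ≫ q).hom :=
    hp2 Z.property (𝟙 Z.obj) (𝟙 X.obj) (f ≫ q).hom (IsPullback.of_horiz_isIso ⟨by simp⟩)
  have hpr1 : AlgSp.IsClosedMor pr1.hom := hf_uc X.property f.hom pr0.hom pr1.hom hXX
  have hp3 : AlgSp.IsClosedMor (pr1 ≫ f ≫ q).hom := by
    show IsClosedMap (AlgSp.Points.map (pr1.hom ≫ (f ≫ q).hom))
    have : AlgSp.Points.map (pr1.hom ≫ (f ≫ q).hom) =
        AlgSp.Points.map (f ≫ q).hom ∘ AlgSp.Points.map pr1.hom := by
      funext x; exact AlgSp.Points.map_comp _ _ x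
    rw [this]
    exact hp2'.comp hpr1
  obtain ⟨W, w, hw, hW⟩ :=
    Groth.Agent.S10640.result f (f ≫ q) q rfl XX pr0 pr1 hXX hp1 hp2' hp3
  refine ⟨W, w, hw, fun Z' g => ?_⟩
  rw [hW Z' g]
  refine forall_congr' fun Y' => forall_congr' fun gY => forall_congr' fun q' =>
    forall_congr' fun sqY => forall_congr' fun X' => forall_congr' fun gX =>
    forall_congr' fun f' => forall_congr' fun sqX => ?_
  have hq' : AlgSp.IsSeparatedMor q'.hom :=
    Groth.Agent.Lib.Helper12.Proper.isSeparatedMor_baseChange sqY hq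
  have hp' : AlgSp.IsUnivClosedMor (f' ≫ q').hom :=
    Groth.Agent.Lib.Helper12.Proper.isUnivClosedMor_baseChange (sqX.paste_vert sqY) hp2
  have hf'uc : AlgSp.IsUnivClosedMor f'.hom :=
    ((Groth.Agent.S10278.result f' (f' ≫ q') q' rfl hq').1 hp').1
  rw [(Groth.Agent.S10614.result f').2.1]
  exact ⟨fun h => ⟨hf'uc, h.1, h.2⟩, fun h => ⟨h.2.1, h.2.2⟩⟩

end Groth.Agent.S10641
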