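import Groth.Statements.S10642
import Groth.Agent.Lib.T2H1FlatLocusSp
import Groth.Agent.Lib.T2H1Where

set_option autoImplicit false
universe u
open CategoryTheory CategoryTheory.Limits AlgebraicGeometry
open AlgSp

namespace Groth.Agent.S10642

/-- For morphisms f : X ⟶ Y, p : X ⟶ Z and q : Y ⟶ Z of algebraic spaces over S with f ≫ q = p, where p
is flat, closed and locally of finite presentation and q is locally of finite type, there is an open
subspace W of Z with the following property: a morphism of algebraic spaces g : Z' ⟶ Z factors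
through W exactly when the base change X' ⟶ Y' of f along g is flat. Here the base change of f along
g is any f' : X' ⟶ Y' obtained from pullback squares Y' = Y ×_Z Z' and X' = X ×_Y Y' of algebraic
spaces over S, and W ⊂ Z is given as a representable open immersion w : W ⟶ Z. -/
theorem result {S : Scheme.{u}} {X Y Z : AlgSp.Space S}
    (f : X ⟶ Y) (p : X ⟶ Z) (q : Y ⟶ Z) (hc : f ≫ q = p)
    (hp1 : AlgSp.LocP @LocallyOfFinitePresentation p.hom) (hp2 : AlgSp.LocP @Flat p.hom)
    (hp3 : AlgSp.IsClosedMor p.hom) (hq : AlgSp.LocP @LocallyOfFiniteType q.hom) :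
    ∃ (W : AlgSp.Space S) (w : W ⟶ Z), AlgSp.RepWith @IsOpenImmersion w.hom ∧
      ∀ (Z' : AlgSp.Space S) (g : Z' ⟶ Z),
        (∃ k : Z' ⟶ W, k ≫ w = g) ↔
          ∀ (Y' : AlgSp.Space S) (gY : Y' ⟶ Y) (q' : Y' ⟶ Z'),
            IsPullback gY.hom q'.hom q.hom g.hom →
            ∀ (X' : AlgSp.Space S) (gX : X' ⟶ X) (f' : X' ⟶ Y'),
              IsPullback gX.hom f'.hom f.hom gY.hom →
                AlgSp.LocP @Flat f'.hom := by
  subst hc
  have hopen := Groth.Agent.Lib.T2H1.FlatLocusSp.isOpen_flatLocus X.property Y.property Z.property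
    f.hom q.hom hp1 hp2 hq
  obtain ⟨W, w, hw, hrange⟩ := Groth.Agent.Lib.T2H1.Where.exists_open_where (f ≫ q) hp3 _ hopen
  refine ⟨W, w, hw, fun Z' g => ?_⟩
  constructor
  · intro hk Y' gY q' sqY X' gX f' sqX
    have sq : IsPullback gX.hom (f'.hom ≫ q'.hom) (f.hom ≫ q.hom) g.hom := sqX.paste_vert sqY
    have H := (Groth.Agent.Lib.T2H1.Where.factor_iff (f ≫ q) g gX.hom (f'.hom ≫ q'.hom) sq _ w hw
      hrange).1 hk
    have hBC := Groth.Agent.Lib.T2H1.FlatLocusSp.flatLocus_baseChange X.property Y.property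
      Z.property Z'.property f.hom q.hom g.hom f'.hom q'.hom gX.hom gY.hom sqY sqX hp1 hp2 hq
    intro U' V' a' b' h' ha' hb' hab'
    rw [Flat.iff_flat_stalkMap]
    intro u'
    have hmem : AlgSp.Points.ofPt a' u' ∈
        {x' : AlgSp.Points X'.obj | AlgSp.IsFlatAtMor f'.hom x'} := by
      rw [hBC]
      exact H _
    exact hmem a' b' h' u' ha' hb' hab' rfl
  · intro H
    have sqY0 := IsPullback.of_hasPullback q.hom g.hom
    let Y' : AlgSp.Space S := ⟨pullback q.hom g.hom,
      Groth.Agent.S9874.isAlgSpace_of_isPullback Z.property.diag Y.property Z'.property sqY0⟩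
    let gY : Y' ⟶ Y := ObjectProperty.homMk (pullback.fst q.hom g.hom)
    let q' : Y' ⟶ Z' := ObjectProperty.homMk (pullback.snd q.hom g.hom)
    have sqY : IsPullback gY.hom q'.hom q.hom g.hom := sqY0
    have sqX0 := IsPullback.of_hasPullback f.hom gY.hom
    let X' : AlgSp.Space S := ⟨pullback f.hom gY.hom,
      Groth.Agent.S9874.isAlgSpace_of_isPullback Y.property.diag X.property Y'.property sqX0⟩
    let gX : X' ⟶ X := ObjectProperty.homMk (pullback.fst f.hom gY.hom)
    let f' : X' ⟶ Y' := ObjectProperty.homMk (pullback.snd f.hom gY.hom)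
    have sqX : IsPullback gX.hom f'.hom f.hom gY.hom := sqX0
    have hfl := H Y' gY q' sqY X' gX f' sqX
    have sq : IsPullback gX.hom (f'.hom ≫ q'.hom) (f.hom ≫ q.hom) g.hom := sqX.paste_vert sqY
    have hBC := Groth.Agent.Lib.T2H1.FlatLocusSp.flatLocus_baseChange X.property Y.property
      Z.property Z'.property f.hom q.hom g.hom f'.hom q'.hom gX.hom gY.hom sqY sqX hp1 hp2 hq
    refine (Groth.Agent.Lib.T2H1.Where.factor_iff (f ≫ q) g gX.hom (f'.hom ≫ q'.hom) sq _ w hw
      hrange).2 (fun x' => ?_)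
    have hmem : x' ∈ {x' : AlgSp.Points X'.obj | AlgSp.IsFlatAtMor f'.hom x'} := by
      intro U V a b h u ha hb hab hu
      haveI : Flat h.left := hfl a b h ha hb hab
      exact Flat.stalkMap _ _
    rw [hBC] at hmem
    exact hmem

end Groth.Agent.S10642
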