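import Groth.Statements.S10643
import Groth.Agent.Lib.T2H1FlatLocusSp2
import Groth.Agent.Lib.T2H1Where

set_option autoImplicit false
universe u
open CategoryTheory CategoryTheory.Limits AlgebraicGeometry
open AlgSp

namespace Groth.Agent.S10643

/-- For morphisms f : X ⟶ Y, p : X ⟶ Z and q : Y ⟶ Z of algebraic spaces over S with f ≫ q = p, where p
is flat, closed and locally of finite presentation and q is closed and locally of finite type, there
is an open subspace W of Z with the following property: a morphism of algebraic spaces g : Z' ⟶ Z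
factors through W exactly when the base change X' ⟶ Y' of f along g is flat and surjective (on
points). Here the base change of f along g is any f' : X' ⟶ Y' obtained from pullback squares Y' = Y
×_Z Z' and X' = X ×_Y Y' of algebraic spaces over S, and W ⊂ Z is given as a representable open
immersion w : W ⟶ Z. -/
theorem result {S : Scheme.{u}} {X Y Z : AlgSp.Space S}
    (f : X ⟶ Y) (p : X ⟶ Z) (q : Y ⟶ Z) (hc : f ≫ q = p)
    (hp1 : AlgSp.LocP @LocallyOfFinitePresentation p.hom) (hp2 : AlgSp.LocP @Flat p.hom)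
    (hp3 : AlgSp.IsClosedMor p.hom) (hq1 : AlgSp.LocP @LocallyOfFiniteType q.hom)
    (hq2 : AlgSp.IsClosedMor q.hom) :
    ∃ (W : AlgSp.Space S) (w : W ⟶ Z), AlgSp.RepWith @IsOpenImmersion w.hom ∧
      ∀ (Z' : AlgSp.Space S) (g : Z' ⟶ Z),
        (∃ k : Z' ⟶ W, k ≫ w = g) ↔
          ∀ (Y' : AlgSp.Space S) (gY : Y' ⟶ Y) (q' : Y' ⟶ Z'),
            IsPullback gY.hom q'.hom q.hom g.hom →
            ∀ (X' : AlgSp.Space S) (gX : X' ⟶ X) (f' : X' ⟶ Y'),
              IsPullback gX.hom f'.hom f.hom gY.hom →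
                (AlgSp.IsSurjectiveMor f'.hom ∧ AlgSp.LocP @Flat f'.hom) := by
  subst hc
  have hopen := Groth.Agent.Lib.T2H1.FlatLocusSp.isOpen_flatLocus X.property Y.property Z.property
    f.hom q.hom hp1 hp2 hq1
  have hI := Groth.Agent.Lib.T2H1.FlatLocusSp.isOpen_image_flatLocus f q hp1 hp2 hq1
  have hO1 : IsOpen (AlgSp.Points.map (f ≫ q).hom ''
      {x | AlgSp.IsFlatAtMor f.hom x}ᶜ)ᶜ := (hp3 _ hopen.isClosed_compl).isOpen_compl
  have hO2 : IsOpen (AlgSp.Points.map q.hom ''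
      (AlgSp.Points.map f.hom '' {x | AlgSp.IsFlatAtMor f.hom x})ᶜ)ᶜ :=
    (hq2 _ hI.isClosed_compl).isOpen_compl
  obtain ⟨W, w, hw, hrange⟩ := Groth.Agent.Lib.T2H1.Where.exists_open_of_isOpen Z _ (hO1.inter hO2)
  refine ⟨W, w, hw, fun Z' g => ?_⟩
  rw [Groth.Agent.S10194.result w hw g, hrange, Set.subset_inter_iff]
  -- the two conditions, for a given pair of pullbacks
  have key : ∀ (Y' : AlgSp.Space S) (gY : Y' ⟶ Y) (q' : Y' ⟶ Z'),
      IsPullback gY.hom q'.hom q.hom g.hom →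
      ∀ (X' : AlgSp.Space S) (gX : X' ⟶ X) (f' : X' ⟶ Y'),
        IsPullback gX.hom f'.hom f.hom gY.hom →
        ((Set.range (AlgSp.Points.map g.hom) ⊆ (AlgSp.Points.map (f ≫ q).hom ''
            {x | AlgSp.IsFlatAtMor f.hom x}ᶜ)ᶜ ∧
          Set.range (AlgSp.Points.map g.hom) ⊆ (AlgSp.Points.map q.hom ''
            (AlgSp.Points.map f.hom '' {x | AlgSp.IsFlatAtMor f.hom x})ᶜ)ᶜ) ↔
          (AlgSp.IsSurjectiveMor f'.hom ∧ AlgSp.LocP @Flat f'.hom)) := by
    intro Y' gY q' sqY X' gX f' sqX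
    have sq : IsPullback gX.hom (f'.hom ≫ q'.hom) (f.hom ≫ q.hom) g.hom := sqX.paste_vert sqY
    have e1 := Groth.Agent.Lib.T2H1.Where.range_subset_iff (f ≫ q).hom g.hom gX.hom
      (f'.hom ≫ q'.hom) sq {x | AlgSp.IsFlatAtMor f.hom x}
    have e2 := Groth.Agent.Lib.T2H1.Where.range_subset_iff q.hom g.hom gY.hom q'.hom sqY
      (AlgSp.Points.map f.hom '' {x | AlgSp.IsFlatAtMor f.hom x})
    have e3 := Groth.Agent.Lib.T2H1.FlatLocusSp.locP_flat_baseChange_iff X.property Y.property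
      Z.property Z'.property f.hom q.hom g.hom f'.hom q'.hom gX.hom gY.hom sqY sqX hp1 hp2 hq1
    rw [e1, e2, ← e3]
    constructor
    · rintro ⟨h1, h2⟩
      exact ⟨(Groth.Agent.Lib.T2H1.Where.surjective_baseChange_iff f.hom gY.hom gX.hom f'.hom sqX _
        (e3.1 h1)).2 h2, h1⟩
    · rintro ⟨h1, h2⟩
      exact ⟨h2, (Groth.Agent.Lib.T2H1.Where.surjective_baseChange_iff f.hom gY.hom gX.hom f'.hom
        sqX _ (e3.1 h2)).1 h1⟩
  constructor
  · intro H Y' gY q' sqY X' gX f' sqX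
    exact (key Y' gY q' sqY X' gX f' sqX).1 H
  · intro H
    have sqY0 := IsPullback.of_hasPullback q.hom g.hom
    let Y' : AlgSp.Space S := ⟨pullback q.hom g.hom,
      Groth.Agent.S9874.isAlgSpace_of_isPullback Z.property.diag Y.property Z'.property sqY0⟩
    let gY : Y' ⟶ Y := ObjectProperty.homMk (pullback.fst q.hom g.hom)
    let q' : Y' ⟶ Z' := ObjectProperty.homMk (pullback.snd q.hom g.hom)
    have sqY : IsPullback gY.hom q'.hom q.hom g.hom := sqY0
    have sqX0 := IsPullback.of_hasPullback f.hom gY.hom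
    let X' : AlgSp.Space S := ⟨pullback f.hom gY.hom,
      Groth.Agent.S9874.isAlgSpace_of_isPullback Y.property.diag X.property Y'.property sqX0⟩
    let gX : X' ⟶ X := ObjectProperty.homMk (pullback.fst f.hom gY.hom)
    let f' : X' ⟶ Y' := ObjectProperty.homMk (pullback.snd f.hom gY.hom)
    have sqX : IsPullback gX.hom f'.hom f.hom gY.hom := sqX0
    exact (key Y' gY q' sqY X' gX f' sqX).2 (H Y' gY q' sqY X' gX f' sqX)

end Groth.Agent.S10643
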