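import Groth.Statements.S10644
import Groth.Agent.S10641
import Groth.Agent.S10643
import Groth.Agent.S9948
import Groth.Agent.S9947
import Groth.Agent.S9906
import Groth.Agent.S10194
import Groth.Agent.Lib.Helper12OpenSub2
import Groth.Agent.Lib.Helper15MonoSep
import Groth.Agent.Lib.Helper15PtsTop
import Groth.Agent.Lib.T2H1Where

set_option autoImplicit false
universe u
open CategoryTheory CategoryTheory.Limits AlgebraicGeometry
open AlgSp

namespace Groth.Agent.S10644

/-- a closed immersion of algebraic spaces which is flat and surjective is an isomorphism. -/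
lemma isIso_of_closedImmersion_flat_surjective {S : Scheme.{u}} {X' Y' : AlgSp.Space S}
    (f' : X' ⟶ Y') (h1 : AlgSp.RepWith @IsClosedImmersion f'.hom)
    (h2 : AlgSp.IsSurjectiveMor f'.hom) (h3 : AlgSp.LocP @Flat f'.hom) : IsIso f'.hom := by
  have hflat : AlgSp.RepWith @Flat f'.hom :=
    (Groth.Agent.S9948.result @Flat (Or.inr (Or.inr (Or.inl rfl))) f' h1.1).1 h3
  have hsurj : AlgSp.RepWith @Surjective f'.hom :=
    Groth.Agent.S9906.repWith_surjective_of_surjective_map _ h1.1 h2
  have hopen : AlgSp.RepWith @IsOpenImmersion f'.hom := by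
    refine ⟨h1.1, fun T W g pr w sq => ?_⟩
    haveI : IsClosedImmersion w.left := h1.2 g pr w sq
    haveI : Flat w.left := hflat.2 g pr w sq
    haveI : Surjective w.left := hsurj.2 g pr w sq
    haveI : IsIso w.left := Flat.isIso_of_surjective_of_mono w.left
    change IsOpenImmersion w.left
    infer_instance
  exact Groth.Agent.S10194.isIso_of_repWith_openImmersion_surjective _ hopen hsurj

/-- an isomorphism is a flat surjective closed immersion. -/
lemma props_of_isIso {S : Scheme.{u}} {X' Y' : AlgSp.Space S} (f' : X' ⟶ Y') (h : IsIso f'.hom) :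
    AlgSp.RepWith @IsClosedImmersion f'.hom ∧ AlgSp.IsSurjectiveMor f'.hom ∧
      AlgSp.LocP @Flat f'.hom := by
  haveI : MorphismProperty.ContainsIdentities (@IsClosedImmersion : MorphismProperty Scheme.{u}) :=
    MorphismProperty.IsMultiplicative.toContainsIdentities
  haveI : MorphismProperty.ContainsIdentities (@Etale : MorphismProperty Scheme.{u}) :=
    MorphismProperty.IsMultiplicative.toContainsIdentities
  haveI : MorphismProperty.RespectsIso (@Etale : MorphismProperty Scheme.{u}) :=
    MorphismProperty.IsStableUnderBaseChange.respectsIso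
  refine ⟨Groth.Agent.Lib.Helper15MonoSep.repWith_of_isIso @IsClosedImmersion f'.hom, ?_, ?_⟩
  · intro y
    refine ⟨AlgSp.Points.map (inv f'.hom) y, ?_⟩
    rw [← AlgSp.Points.map_comp, IsIso.inv_hom_id, AlgSp.Points.map_id]
  · exact Groth.Agent.S9947.locP_of_repWith_etale @Flat
      (fun g hg => by haveI := hg; exact (inferInstance : Flat g)) f'.hom
      (Groth.Agent.Lib.Helper15MonoSep.repWith_of_isIso @Etale f'.hom)

/-- For morphisms f : X ⟶ Y, p : X ⟶ Z and q : Y ⟶ Z of algebraic spaces over S with f ≫ q = p, where p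
is flat, universally closed and locally of finite presentation and q is closed, separated and
locally of finite type, there is an open subspace W of Z with the following property: a morphism of
algebraic spaces g : Z' ⟶ Z factors through W exactly when the base change X' ⟶ Y' of f along g is
an isomorphism. Here the base change of f along g is any f' : X' ⟶ Y' obtained from pullback squares
Y' = Y ×_Z Z' and X' = X ×_Y Y' of algebraic spaces over S, and W ⊂ Z is given as a representable
open immersion w : W ⟶ Z. -/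
theorem result {S : Scheme.{u}} {X Y Z : AlgSp.Space S}
    (f : X ⟶ Y) (p : X ⟶ Z) (q : Y ⟶ Z) (hc : f ≫ q = p)
    (hp1 : AlgSp.LocP @LocallyOfFinitePresentation p.hom) (hp2 : AlgSp.LocP @Flat p.hom)
    (hp3 : AlgSp.IsUnivClosedMor p.hom) (hq1 : AlgSp.LocP @LocallyOfFiniteType q.hom)
    (hq2 : AlgSp.IsClosedMor q.hom) (hq3 : AlgSp.IsSeparatedMor q.hom) :
    ∃ (W : AlgSp.Space S) (w : W ⟶ Z), AlgSp.RepWith @IsOpenImmersion w.hom ∧
      ∀ (Z' : AlgSp.Space S) (g : Z' ⟶ Z),
        (∃ k : Z' ⟶ W, k ≫ w = g) ↔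
          ∀ (Y' : AlgSp.Space S) (gY : Y' ⟶ Y) (q' : Y' ⟶ Z'),
            IsPullback gY.hom q'.hom q.hom g.hom →
            ∀ (X' : AlgSp.Space S) (gX : X' ⟶ X) (f' : X' ⟶ Y'),
              IsPullback gX.hom f'.hom f.hom gY.hom →
                IsIso f'.hom := by
  subst hc
  have hp_lft : AlgSp.LocP @LocallyOfFiniteType (f ≫ q).hom :=
    Groth.Agent.Lib.Helper15PtsTop.locP_mono
      (fun _ _ g hg => by haveI : LocallyOfFinitePresentation g := hg; exact (inferInstance : LocallyOfFiniteType g)) hp1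
  have hp_cl : AlgSp.IsClosedMor (f ≫ q).hom :=
    hp3 Z.property (𝟙 Z.obj) (𝟙 X.obj) (f ≫ q).hom (IsPullback.of_horiz_isIso ⟨by simp⟩)
  obtain ⟨W1, w1, hw1, hW1⟩ := Groth.Agent.S10641.result f (f ≫ q) q rfl hp_lft hp3 hq3
  obtain ⟨W2, w2, hw2, hW2⟩ := Groth.Agent.S10643.result f (f ≫ q) q rfl hp1 hp2 hp_cl hq1 hq2
  have hO : IsOpen (Set.range (AlgSp.Points.map w1.hom) ∩ Set.range (AlgSp.Points.map w2.hom)) :=
    (Groth.Agent.Lib.Helper12.OpenSub.isOpen_range_of_open _ hw1).inter
      (Groth.Agent.Lib.Helper12.OpenSub.isOpen_range_of_open _ hw2)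
  obtain ⟨W, w, hw, hrange⟩ := Groth.Agent.Lib.T2H1.Where.exists_open_of_isOpen Z _ hO
  refine ⟨W, w, hw, fun Z' g => ?_⟩
  rw [Groth.Agent.S10194.result w hw g, hrange, Set.subset_inter_iff,
    ← Groth.Agent.S10194.result w1 hw1 g, ← Groth.Agent.S10194.result w2 hw2 g, hW1 Z' g, hW2 Z' g]
  constructor
  · rintro ⟨h1, h2⟩ Y' gY q' sqY X' gX f' sqX
    have a := h1 Y' gY q' sqY X' gX f' sqX
    have b := h2 Y' gY q' sqY X' gX f' sqX
    exact isIso_of_closedImmersion_flat_surjective f' a b.1 b.2
  · intro h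
    refine ⟨fun Y' gY q' sqY X' gX f' sqX => ?_, fun Y' gY q' sqY X' gX f' sqX => ?_⟩
    · exact (props_of_isIso f' (h Y' gY q' sqY X' gX f' sqX)).1
    · exact (props_of_isIso f' (h Y' gY q' sqY X' gX f' sqX)).2

end Groth.Agent.S10644
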