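import Groth.Statements.S9955
import Groth.Agent.S10310
import Groth.Agent.S10190
import Groth.Agent.S10482
import Groth.Agent.Lib.T2H1ChartBC
import Groth.Agent.Lib.T2H1StalkDim
import Groth.Agent.Lib.T2H1HasAt1
import Groth.Agent.Lib.Helper3FlatFibDim
import Groth.Agent.Lib.Helper12LocPCases
import Groth.Agent.Lib.Helper12LocPNbhd
import Groth.Agent.S9874

set_option autoImplicit false
universe u
open CategoryTheory CategoryTheory.Limits AlgebraicGeometry
open AlgSp

namespace Groth.Agent.S9955


open Groth.Agent.Lib.Helper12.LocPCases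

variable {S : Scheme.{u}}

/-- an algebraic space whose space of points is discrete has relative dimension zero over any
scheme. -/
lemma hasAtMor_fibreDim_zero_of_discrete {P : AlgSp.Sp S} (hP : AlgSp.IsAlgSpace P) {T : Over S}
    (p : P ⟶ (AlgSp.yon S).obj T) [DiscreteTopology (AlgSp.Points P)] (x' : AlgSp.Points P) :
    AlgSp.HasAtMor (fun _ _ h u => FlatMor.fibreDimAt h u = 0) p x' := by
  obtain ⟨W, V', aW, b', hW, w, haW, hb', hcW, hw⟩ :=
    Groth.Agent.Lib.Helper12.LocPNbhd.exists_chart hP (AlgSp.IsAlgSpace.yon_obj T) p x'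
  refine ⟨W, V', aW, b', hW, w, haW, hb', hcW, hw, le_antisymm ?_
    (Groth.Agent.Lib.Helper7.TopDim.localDim_nonneg _)⟩
  -- the open set of points of `W` over `x'`
  have hOopen : IsOpen (AlgSp.Points.ofPt aW ⁻¹' {x'}) :=
    (isOpen_discrete _).preimage (AlgSp.Points.continuous_ofPt aW)
  let O : W.left.Opens := ⟨_, hOopen⟩
  have hwO : w ∈ O := hw
  -- all local rings at points of `O` have the same dimension
  have hsame : ∀ w' ∈ O, ringKrullDim ↥(W.left.presheaf.stalk w') =
      ringKrullDim ↥(W.left.presheaf.stalk w) := fun w' hw' =>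
    Groth.Agent.Lib.T2H1.HasAt.of_hasAt
      (Groth.Agent.Lib.T2H1.HasAt.etInv1_stalkDim
        (fun t => t = ringKrullDim ↥(W.left.presheaf.stalk w)))
      x' ⟨W, aW, w, haW, hw, rfl⟩ aW haW w' hw'
  obtain ⟨η, hη, hηdim⟩ := Groth.Agent.S10190.exists_generalization_dim_zero W.left w
  have hηO : η ∈ O := hη.mem_open hOopen hwO
  have hzero : ∀ w' ∈ O, ringKrullDim ↥(W.left.presheaf.stalk w') = 0 := fun w' hw' => by
    rw [hsame w' hw', ← hsame η hηO, hηdim]
  have hdimO : topologicalKrullDim ↥(O : Scheme) ≤ 0 := by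
    rw [Groth.Agent.Lib.Helper4.FibDim.topologicalKrullDim_eq_iSup_ringKrullDim_stalk]
    refine iSup_le fun o => ?_
    rw [Groth.Agent.Lib.T2H1.HasAt.ringKrullDim_stalk_eq_of_etale O.ι o]
    exact (hzero _ o.2).le
  have e1 : FlatMor.fibreDimAt (O.ι ≫ hW.left) ⟨w, hwO⟩ = FlatMor.fibreDimAt hW.left w :=
    Groth.Agent.Lib.Helper3.FlatFibDim.fibreDimAt_comp_of_isOpenImmersion O.ι hW.left ⟨w, hwO⟩
  rw [← e1]
  exact (Groth.Agent.S10482.fibreDimAt_le_topologicalKrullDim _ _).trans hdimO

/-- A morphism locally of finite type is locally quasi-finite if and only if all its fibres over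
field-valued points have discrete spaces of points. -/
theorem result {S : Scheme.{u}} {X Y : AlgSp.Space S} (f : X ⟶ Y)
    (hf : AlgSp.LocP @LocallyOfFiniteType f.hom) :
    AlgSp.LocP ((@LocallyQuasiFinite : MorphismProperty Scheme.{u}) ⊓ @LocallyOfFiniteType) f.hom ↔
      ∀ (k : Type u) [Field k] (str : Spec (CommRingCat.of k) ⟶ S) (y : (AlgSp.yon S).obj (Over.mk str) ⟶ Y.obj)
        (P : AlgSp.Sp S) (fst : P ⟶ X.obj) (snd : P ⟶ (AlgSp.yon S).obj (Over.mk str)),
        IsPullback fst snd f.hom y → DiscreteTopology (AlgSp.Points P) := by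
  constructor
  · intro hlqf k _ str y P fst snd sq
    have hP : AlgSp.IsAlgSpace P :=
      Groth.Agent.S9874.isAlgSpace_of_isPullback Y.property.diag X.property
        (AlgSp.IsAlgSpace.yon_obj _) sq
    have hsnd : AlgSp.LocP (@LocallyQuasiFinite ⊓ @LocallyOfFiniteType) snd :=
      good_lqf.locP_baseChange X.property Y.property (AlgSp.IsAlgSpace.yon_obj _) sq hlqf
    obtain ⟨W, aW, haW, hsW⟩ := hP.atlas
    obtain ⟨hW, hhW⟩ := (AlgSp.yon S).map_surjective (aW ≫ snd)
    haveI : LocallyQuasiFinite hW.left :=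
      (hsnd aW (𝟙 _) hW haW (AlgSp.repWith_id _ _) (by rw [hhW, Category.comp_id])).1
    have hdisc : ∀ w : ↥W.left, IsOpen ({w} : Set ↥W.left) := by
      intro w
      have h1 : _root_.IsDiscrete (hW.left ⁻¹' {hW.left w}) := hW.left.isDiscrete_preimage_singleton _
      have h2 : hW.left ⁻¹' {hW.left w} = Set.univ := by
        ext t
        simp only [Set.mem_preimage, Set.mem_singleton_iff, Set.mem_univ, iff_true]
        exact Subsingleton.elim (α := PrimeSpectrum k) _ _
      rw [h2] at h1
      haveI : DiscreteTopology ↥W.left := isDiscrete_univ_iff.1 h1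
      exact isOpen_discrete _
    rw [discreteTopology_iff_isOpen_singleton]
    intro x'
    obtain ⟨w, rfl⟩ := Groth.Agent.S10177.surjective_ofPt aW hsW x'
    have := Groth.Agent.S10176.isOpenMap_ofPt aW haW _ (hdisc w)
    rwa [Set.image_singleton] at this
  · intro H
    rw [Groth.Agent.S10310.result f hf]
    intro x
    obtain ⟨q, hq⟩ : ∃ q : AlgSp.FieldPt Y.obj, AlgSp.Points.mk q = AlgSp.Points.map f.hom x := by
      induction (AlgSp.Points.map f.hom x) using AlgSp.Points.ind with | h q => exact ⟨q, rfl⟩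
    have sq := IsPullback.of_hasPullback f.hom q.toHom
    have hP : AlgSp.IsAlgSpace (pullback f.hom q.toHom) :=
      Groth.Agent.S9874.isAlgSpace_of_isPullback Y.property.diag X.property
        (AlgSp.IsAlgSpace.yon_obj _) sq
    haveI : DiscreteTopology (AlgSp.Points (pullback f.hom q.toHom)) :=
      H q.K q.str q.toHom _ _ _ sq
    obtain ⟨x', hx'1, -⟩ := Groth.Agent.S10175.exists_point_of_isPullback sq x
      (AlgSp.Points.ofScheme q.pt (IsLocalRing.closedPoint q.K))
      (by rw [← hq, ← AlgSp.Points.ofPt_eq_map_ofScheme, AlgSp.Points.ofPt_toHom])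
    rw [← hx'1]
    exact (Groth.Agent.Lib.T2H1.ChartBC.hasAtMor_fibreDim_baseChange_iff (fun t => t = 0)
      X.property Y.property (AlgSp.IsAlgSpace.yon_obj _) sq hf x').1
      (hasAtMor_fibreDim_zero_of_discrete hP _ x')

end Groth.Agent.S9955
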