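import Groth.Statements.S10649
import Groth.Agent.S10271
import Groth.Agent.S10267
import Groth.Agent.S10260
import Groth.Agent.S9955
import Groth.Agent.S9948
import Groth.Agent.S9925
import Groth.Agent.Lib.Helper12Proper
import Groth.Agent.Lib.Helper12ProperLoc

set_option autoImplicit false
universe u
open CategoryTheory CategoryTheory.Limits AlgebraicGeometry
open AlgSp

namespace Groth.Agent.S10649

/-- the fibre condition of `S9955`, phrased with field points. -/
lemma discrete_iff {S : Scheme.{u}} {X Y : AlgSp.Space S} (f : X ⟶ Y) :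
    (∀ (k : Type u) [Field k] (str : Spec (CommRingCat.of k) ⟶ S)
        (y : (AlgSp.yon S).obj (Over.mk str) ⟶ Y.obj)
        (P : AlgSp.Sp S) (fst : P ⟶ X.obj) (snd : P ⟶ (AlgSp.yon S).obj (Over.mk str)),
        IsPullback fst snd f.hom y → DiscreteTopology (AlgSp.Points P)) ↔
      ∀ (k : AlgSp.FieldPt Y.obj) (Xk : AlgSp.Sp S) (fst : Xk ⟶ X.obj)
        (snd : Xk ⟶ (AlgSp.yon S).obj k.pt),
        IsPullback fst snd f.hom k.toHom → DiscreteTopology (AlgSp.Points Xk) := by
  constructor
  · intro h k Xk fst snd sq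
    exact h k.K k.str k.toHom Xk fst snd sq
  · intro h k _ str y P fst snd sq
    let p : AlgSp.FieldPt Y.obj := ⟨k, str, (AlgSp.J S).uliftYonedaEquiv y⟩
    have hp : p.toHom = y := Equiv.symm_apply_apply _ _
    exact h p P fst snd (by rw [hp]; exact sq)

/-- The following conditions on a morphism f : X ⟶ Y of algebraic spaces over S are equivalent: (1)
finiteness of f; (2) f is locally quasi-finite as well as proper (locally quasi-finite and locally
of finite type etale locally); (3) f is proper and for every field k and every k-point Spec k ⟶ Y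
the fibre X_k (any pullback of f along it in fppf sheaves) has discrete space of points; (4) f is
universally closed, separated and locally of finite type, and every such fibre X_k has discrete
space of points. -/
theorem result {S : Scheme.{u}} {X Y : AlgSp.Space S} (f : X ⟶ Y) :
    [AlgSp.IsFiniteMor f.hom,
      AlgSp.IsProperMor f.hom ∧ AlgSp.LocP (@LocallyQuasiFinite ⊓ @LocallyOfFiniteType) f.hom,
      AlgSp.IsProperMor f.hom ∧
        ∀ (k : AlgSp.FieldPt Y.obj) (Xk : AlgSp.Sp S) (fst : Xk ⟶ X.obj) (snd : Xk ⟶ (AlgSp.yon S).obj k.pt),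
          IsPullback fst snd f.hom k.toHom → DiscreteTopology (AlgSp.Points Xk),
      AlgSp.IsUnivClosedMor f.hom ∧ AlgSp.IsSeparatedMor f.hom ∧ AlgSp.LocP @LocallyOfFiniteType f.hom ∧
        ∀ (k : AlgSp.FieldPt Y.obj) (Xk : AlgSp.Sp S) (fst : Xk ⟶ X.obj) (snd : Xk ⟶ (AlgSp.yon S).obj k.pt),
          IsPullback fst snd f.hom k.toHom → DiscreteTopology (AlgSp.Points Xk)].TFAE := by
  have hP6 : ∀ ⦃A B : Scheme.{u}⦄ (g : A ⟶ B),
      ((@LocallyQuasiFinite ⊓ @LocallyOfFiniteType : MorphismProperty Scheme.{u}) g ↔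
        (LocallyQuasiFinite g ∧ LocallyOfFiniteType g)) := fun _ _ g => Iff.rfl
  tfae_have 1 → 2 := by
    intro h
    have hprop : AlgSp.IsProperMor f.hom := ((Groth.Agent.S10271.result f).1 h).2
    have hfin : AlgSp.RepWith @IsFinite f.hom := ((Groth.Agent.S10267.result f).2).1 h
    refine ⟨hprop, ?_⟩
    refine (Groth.Agent.S9948.result _ (Or.inr (Or.inr (Or.inr (Or.inr (Or.inr (Or.inl hP6))))))
      f hfin.1).2 ⟨hfin.1, fun T W g pr w sq => ?_⟩
    haveI : IsFinite w.left := hfin.2 g pr w sq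
    exact ⟨(inferInstance : LocallyQuasiFinite w.left), (inferInstance : LocallyOfFiniteType w.left)⟩
  tfae_have 2 → 1 := by
    rintro ⟨hprop, hqf⟩
    have hrep : AlgSp.Representable f.hom := Groth.Agent.S10260.result f hqf hprop.1
    have hqf' : AlgSp.RepWith (@LocallyQuasiFinite ⊓ @LocallyOfFiniteType) f.hom :=
      (Groth.Agent.S9948.result _ (Or.inr (Or.inr (Or.inr (Or.inr (Or.inr (Or.inl hP6))))))
        f hrep).1 hqf
    refine ((Groth.Agent.S10267.result f).2).2 ⟨hrep, fun T W g pr w sq => ?_⟩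
    have hw : AlgSp.IsProperMor ((AlgSp.yon S).map w) :=
      Groth.Agent.Lib.Helper12.Proper.isProperMor_baseChange X.property Y.property
        (AlgSp.IsAlgSpace.yon_obj T) sq hprop
    haveI : IsProper w.left :=
      Groth.Agent.Lib.Helper12.ProperLoc.isProper_of_isProperMor_yon_map w hw
    have h2 := hqf'.2 g pr w sq
    haveI : LocallyQuasiFinite w.left := h2.1
    exact IsFinite.of_isProper_of_locallyQuasiFinite w.left
  tfae_have 2 ↔ 3 := by
    constructor
    · rintro ⟨hprop, hqf⟩
      exact ⟨hprop, (discrete_iff f).1 ((Groth.Agent.S9955.result f hprop.2.1.1).1 hqf)⟩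
    · rintro ⟨hprop, hd⟩
      exact ⟨hprop, (Groth.Agent.S9955.result f hprop.2.1.1).2 ((discrete_iff f).2 hd)⟩
  tfae_have 3 ↔ 4 := by
    constructor
    · rintro ⟨hprop, hd⟩
      exact ⟨hprop.2.2, hprop.1, hprop.2.1.1, hd⟩
    · rintro ⟨huc, hsep, hlft, hd⟩
      exact ⟨⟨hsep, ⟨hlft, Groth.Agent.S9925.result f huc⟩, huc⟩, hd⟩
  tfae_finish

end Groth.Agent.S10649
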