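import Groth.Statements.S10650
import Groth.Agent.S10649
import Groth.Agent.Lib.T2H1Where
import Groth.Agent.Lib.T2H1DiagLocus
import Groth.Agent.Lib.T2H1NearLocus

set_option autoImplicit false
universe u
open CategoryTheory CategoryTheory.Limits AlgebraicGeometry
open AlgSp

namespace Groth.Agent.S10650

/-- For a proper morphism f : X ⟶ Y of algebraic spaces over S and a point y of |Y| such that f is
quasi-finite at every point of |X| lying over y (for each such point some etale chart diagram
through it has top arrow locally quasi-finite and locally of finite type on an open neighbourhood),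
there is an open subspace V of Y containing y such that the base change X ×_Y V ⟶ V is finite. -/
theorem result {S : Scheme.{u}} {X Y : AlgSp.Space S} (f : X ⟶ Y) (y : AlgSp.Points Y.obj)
    (hf : AlgSp.IsProperMor f.hom)
    (hq : ∀ x : AlgSp.Points X.obj, AlgSp.Points.map f.hom x = y →
      AlgSp.HasAtMor (fun U _ h u => ∃ W : U.Opens, u ∈ W ∧ LocallyQuasiFinite (W.ι ≫ h) ∧ LocallyOfFiniteType (W.ι ≫ h)) f.hom x) :
    ∃ (V : AlgSp.Space S) (j : V ⟶ Y), AlgSp.RepWith @IsOpenImmersion j.hom ∧
      y ∈ Set.range (AlgSp.Points.map j.hom) ∧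
        ∀ (P : AlgSp.Space S) (fst : P ⟶ X) (snd : P ⟶ V), IsPullback fst.hom snd.hom f.hom j.hom →
          AlgSp.IsFiniteMor snd.hom := by
  classical
  set T : Set (AlgSp.Points X.obj) :=
    Groth.Agent.Lib.T2H1.NearLocus.locus (@LocallyQuasiFinite ⊓ @LocallyOfFiniteType) f.hom with hTdef
  have hT : IsOpen T := Groth.Agent.Lib.T2H1.NearLocus.isOpen_locus _ f.hom
  have hcl : AlgSp.IsClosedMor f.hom :=
    hf.2.2 Y.property (𝟙 Y.obj) (𝟙 X.obj) f.hom (IsPullback.of_horiz_isIso ⟨by simp⟩)
  obtain ⟨V, j, hj, hrange⟩ := Groth.Agent.Lib.T2H1.Where.exists_open_where f hcl T hT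
  have hmem : ∀ x : AlgSp.Points X.obj, AlgSp.Points.map f.hom x = y → x ∈ T := fun x hx => hq x hx
  refine ⟨V, j, hj, ?_, fun P fst snd sq => ?_⟩
  · rw [hrange]
    rintro ⟨x, hx, hxy⟩
    exact hx (hmem x hxy)
  · have hprop : AlgSp.IsProperMor snd.hom :=
      Groth.Agent.Lib.Helper12.Proper.isProperMor_baseChange X.property Y.property V.property sq hf
    have hsub : ∀ x' : AlgSp.Points P.obj, AlgSp.Points.map fst.hom x' ∈ T :=
      (Groth.Agent.Lib.T2H1.Where.range_subset_iff f.hom j.hom fst.hom snd.hom sq T).1 hrange.le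
    have hfst : AlgSp.RepWith @IsOpenImmersion fst.hom :=
      MorphismProperty.of_isPullback (P := AlgSp.RepWith @IsOpenImmersion) sq.flip hj
    have h1 : AlgSp.LocP (@LocallyQuasiFinite ⊓ @LocallyOfFiniteType) (fst.hom ≫ f.hom) :=
      Groth.Agent.Lib.T2H1.NearLocus.locP_of_range_subset_locus
        Groth.Agent.Lib.Helper12.LocPCases.good_lqf fst.hom hfst f.hom
        (by rintro _ ⟨x', rfl⟩; exact hsub x')
    have hje : AlgSp.RepWith @Etale j.hom :=
      Groth.Agent.Lib.Helper12.OpenSub.repWith_mono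
        (fun _ _ g hg => by haveI : IsOpenImmersion g := hg; infer_instance) hj
    have h2 : AlgSp.LocP (@LocallyQuasiFinite ⊓ @LocallyOfFiniteType) snd.hom := by
      intro U V' a b h ha hb hab
      refine h1 a (b ≫ j.hom) h ha ((AlgSp.RepWith @Etale).comp_mem _ _ hb hje) ?_
      rw [sq.w, ← Category.assoc, hab, Category.assoc]
    have hfin := (Groth.Agent.S10649.result snd).out 1 0
    exact hfin.1 ⟨hprop, h2⟩

end Groth.Agent.S10650
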