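import Groth.Statements.S10651
import Groth.Agent.S9964
import Groth.Agent.S10281
import Groth.Agent.S10650
import Groth.Agent.S10444
import Groth.Agent.S10423
import Groth.Agent.S10381
import Groth.Agent.S10614
import Groth.Agent.S10175
import Groth.Agent.S9874
import Groth.Agent.Lib.T2H1FieldQuotF
import Groth.Agent.Lib.Helper12OpenSub2
import Groth.Agent.Lib.Helper12Proper

set_option autoImplicit false
universe u
open CategoryTheory CategoryTheory.Limits AlgebraicGeometry
open AlgSp

namespace Groth.Agent.S10651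

/-- Consider morphisms h : X ⟶ Y, f : X ⟶ B, g : Y ⟶ B of algebraic spaces over S with h ≫ g = f, a
point b of |B| and a field point k of B in the class of b. Assume f is proper, g is separated and
locally of finite type, and either (a) for the fibres X_k ⟶ Y_k of h over k (pullbacks in fppf
sheaves) the image of |X_k| in |Y_k| is finite, or (b) the image in |Y| of the fibre of |X| ⟶ |B|
over b is finite and B is decent. Then over some open subspace B' of B containing b the base change
X_{B'} ⟶ Y_{B'} of h lands in a closed subspace Z of Y_{B'} that is finite over B' (it factors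
through Z). -/
theorem result {S : Scheme.{u}} {X Y B : AlgSp.Space S} (h : X ⟶ Y) (f : X ⟶ B) (g : Y ⟶ B) (hc : h ≫ g = f)
    (b : AlgSp.Points B.obj) (k : AlgSp.FieldPt B.obj) (hk : AlgSp.Points.mk k = b)
    (hf : AlgSp.IsProperMor f.hom) (hg1 : AlgSp.IsSeparatedMor g.hom) (hg2 : AlgSp.LocP @LocallyOfFiniteType g.hom)
    (h3 : (∀ (Yk : AlgSp.Sp S) (gY : Yk ⟶ Y.obj) (sY : Yk ⟶ (AlgSp.yon S).obj k.pt),
            IsPullback gY sY g.hom k.toHom →
            ∀ (Xk : AlgSp.Sp S) (gX : Xk ⟶ X.obj) (hk' : Xk ⟶ Yk), IsPullback gX hk' h.hom gY →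
              (Set.range (AlgSp.Points.map hk')).Finite) ∨
          ((AlgSp.Points.map h.hom '' (AlgSp.Points.map f.hom ⁻¹' {b})).Finite ∧ AlgSp.IsDecent B.obj)) :
    ∃ (B' : AlgSp.Space S) (j : B' ⟶ B), AlgSp.RepWith @IsOpenImmersion j.hom ∧
      b ∈ Set.range (AlgSp.Points.map j.hom) ∧
        ∀ (YB : AlgSp.Space S) (gY : YB ⟶ Y) (sY : YB ⟶ B'), IsPullback gY.hom sY.hom g.hom j.hom →
          ∀ (XB : AlgSp.Space S) (gX : XB ⟶ X) (hB : XB ⟶ YB), IsPullback gX.hom hB.hom h.hom gY.hom →
            ∃ (Z : AlgSp.Space S) (i : Z ⟶ YB) (e : XB ⟶ Z), AlgSp.RepWith @IsClosedImmersion i.hom ∧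
              AlgSp.IsFiniteMor (i ≫ sY).hom ∧ e ≫ i = hB := by
  classical
  obtain ⟨Z, i, hZ⟩ := Groth.Agent.S9964.result h
  have hic : AlgSp.RepWith @IsClosedImmersion i.hom := hZ.1
  obtain ⟨h'0, hh'0⟩ := hZ.2.1
  let h' : X ⟶ Z := ObjectProperty.homMk h'0
  have fac : h' ≫ i = h := ObjectProperty.hom_ext _ hh'0
  obtain ⟨hZp, hsurj⟩ := Groth.Agent.S10281.result h f g hc hf hg1 hg2 i hZ h' fac
  have hiinj : Function.Injective (AlgSp.Points.map i.hom) :=
    ((Groth.Agent.S10614.result i).2.1.1 hic).2.2 Y.property (𝟙 _) (𝟙 _) i.hom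
      (IsPullback.of_horiz_isIso ⟨by simp⟩)
  have hqs : AlgSp.IsQuasiSeparatedMor (i ≫ g).hom :=
    Groth.Agent.Lib.Helper12.OpenSub.repWith_mono
      (fun _ _ g hg => by haveI : IsClosedImmersion g := hg; infer_instance) hZp.1
  -- quasi-finiteness of `Z ⟶ B` at the points over `b`
  have hq : ∀ z : AlgSp.Points Z.obj, AlgSp.Points.map (i ≫ g).hom z = b →
      AlgSp.HasAtMor (fun U _ h u => ∃ W : U.Opens, u ∈ W ∧ LocallyQuasiFinite (W.ι ≫ h) ∧
        LocallyOfFiniteType (W.ι ≫ h)) (i ≫ g).hom z := by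
    subst hk
    intro z hz
    have hyr : AlgSp.Points.mk k ∈ Set.range (AlgSp.Points.map (i ≫ g).hom) := ⟨z, hz⟩
    -- the fibre of `Z ⟶ B` over `k`
    have sqZk := IsPullback.of_hasPullback (i ≫ g).hom k.toHom
    have hZk : AlgSp.IsAlgSpace (pullback (i ≫ g).hom k.toHom) :=
      Groth.Agent.S9874.isAlgSpace_of_isPullback B.property.diag Z.property
        (AlgSp.IsAlgSpace.yon_obj k.pt) sqZk
    let ZkS : AlgSp.Space S := ⟨pullback (i ≫ g).hom k.toHom, hZk⟩
    let K : AlgSp.Space S := ⟨(AlgSp.yon S).obj k.pt, AlgSp.IsAlgSpace.yon_obj k.pt⟩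
    let fstS : ZkS ⟶ Z := ObjectProperty.homMk (pullback.fst (i ≫ g).hom k.toHom)
    let sndS : ZkS ⟶ K := ObjectProperty.homMk (pullback.snd (i ≫ g).hom k.toHom)
    have H := Groth.Agent.S10444.result (i ≫ g) hZp.2.1.1 k hyr ZkS fstS
      (pullback.snd (i ≫ g).hom k.toHom) sqZk
    have hdisc : DiscreteTopology (AlgSp.Points ZkS.obj) := by
      rcases h3 with ha | ⟨hbfin, hBdec⟩
      · -- case (a)
        have hsep : AlgSp.IsSeparatedMor sndS.hom :=
          Groth.Agent.Lib.Helper12.Proper.isSeparatedMor_baseChange sqZk hZp.1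
        have hqs' : AlgSp.IsQuasiSeparatedMor sndS.hom :=
          Groth.Agent.Lib.Helper12.OpenSub.repWith_mono
            (fun _ _ g hg => by haveI : IsClosedImmersion g := hg; infer_instance) hsep
        have hdec : AlgSp.IsDecent ZkS.obj :=
          Groth.Agent.S10381.result sndS ((Groth.Agent.S10423.result sndS).2 hqs')
            (Groth.Agent.Lib.T2H1.FieldQuot.isDecent_yon k.pt)
        -- the fibre of `Y ⟶ B`
        have sqYk := IsPullback.of_hasPullback g.hom k.toHom
        have hYk : AlgSp.IsAlgSpace (pullback g.hom k.toHom) :=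
          Groth.Agent.S9874.isAlgSpace_of_isPullback B.property.diag Y.property
            (AlgSp.IsAlgSpace.yon_obj k.pt) sqYk
        let YkS : AlgSp.Space S := ⟨pullback g.hom k.toHom, hYk⟩
        have hcond : (pullback.fst (i ≫ g).hom k.toHom ≫ i.hom) ≫ g.hom =
            pullback.snd (i ≫ g).hom k.toHom ≫ k.toHom := by
          rw [Category.assoc]; exact pullback.condition
        let ik0 : pullback (i ≫ g).hom k.toHom ⟶ pullback g.hom k.toHom :=
          pullback.lift (pullback.fst (i ≫ g).hom k.toHom ≫ i.hom)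
            (pullback.snd (i ≫ g).hom k.toHom) hcond
        let ik : ZkS ⟶ YkS := ObjectProperty.homMk ik0
        have hik1 : ik0 ≫ pullback.fst g.hom k.toHom =
            pullback.fst (i ≫ g).hom k.toHom ≫ i.hom := pullback.lift_fst _ _ _
        have hik2 : ik0 ≫ pullback.snd g.hom k.toHom = pullback.snd (i ≫ g).hom k.toHom :=
          pullback.lift_snd _ _ _
        have sqik : IsPullback (pullback.fst (i ≫ g).hom k.toHom) ik0 i.hom
            (pullback.fst g.hom k.toHom) := by
          refine IsPullback.of_bot ?_ hik1.symm sqYk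
          rw [hik2]
          exact sqZk
        have hikc : AlgSp.RepWith @IsClosedImmersion ik.hom :=
          MorphismProperty.of_isPullback (P := AlgSp.RepWith @IsClosedImmersion) sqik hic
        have hikinj : Function.Injective (AlgSp.Points.map ik.hom) :=
          ((Groth.Agent.S10614.result ik).2.1.1 hikc).2.2 YkS.property (𝟙 _) (𝟙 _) ik.hom
            (IsPullback.of_horiz_isIso ⟨by simp⟩)
        -- the fibre of `X`
        have sqXk := IsPullback.of_hasPullback h'0 (pullback.fst (i ≫ g).hom k.toHom)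
        have sqXY : IsPullback (pullback.fst h'0 (pullback.fst (i ≫ g).hom k.toHom))
            (pullback.snd h'0 (pullback.fst (i ≫ g).hom k.toHom) ≫ ik0) h.hom
            (pullback.fst g.hom k.toHom) := by
          have := sqXk.paste_vert sqik
          rw [hh'0] at this
          exact this
        have hfinr := ha (pullback g.hom k.toHom) (pullback.fst g.hom k.toHom)
          (pullback.snd g.hom k.toHom) sqYk _ _ _ sqXY
        -- `X_k ⟶ Z_k` is surjective on points
        have hsurjk : ∀ zk : AlgSp.Points (pullback (i ≫ g).hom k.toHom),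
            ∃ p, AlgSp.Points.map (pullback.snd h'0 (pullback.fst (i ≫ g).hom k.toHom)) p = zk := by
          intro zk
          obtain ⟨x, hx⟩ := hsurj (AlgSp.Points.map (pullback.fst (i ≫ g).hom k.toHom) zk)
          obtain ⟨p, -, hp⟩ := Groth.Agent.S10175.exists_point_of_isPullback sqXk x zk hx
          exact ⟨p, hp⟩
        have hfin : Finite (AlgSp.Points ZkS.obj) := by
          have h1 : (AlgSp.Points.map ik.hom '' Set.univ).Finite := by
            refine hfinr.subset ?_
            rintro _ ⟨zk, -, rfl⟩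
            obtain ⟨p, rfl⟩ := hsurjk zk
            exact ⟨p, AlgSp.Points.map_comp _ _ p⟩
          exact Set.finite_univ_iff.1 (Set.Finite.of_finite_image h1 hikinj.injOn)
        exact H.2.2.2.2.1 hdec hfin
      · -- case (b)
        have hZdec : AlgSp.IsDecent Z.obj :=
          Groth.Agent.S10381.result (i ≫ g) ((Groth.Agent.S10423.result (i ≫ g)).2 hqs) hBdec
        have hfib : (AlgSp.Points.map (i ≫ g).hom ⁻¹' {AlgSp.Points.mk k}).Finite := by
          have h1 : (AlgSp.Points.map i.hom ''
              (AlgSp.Points.map (i ≫ g).hom ⁻¹' {AlgSp.Points.mk k})).Finite := by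
            refine hbfin.subset ?_
            rintro _ ⟨z', hz', rfl⟩
            obtain ⟨x, rfl⟩ := hsurj z'
            refine ⟨x, ?_, ?_⟩
            · have e1 : AlgSp.Points.map f.hom x =
                  AlgSp.Points.map (i ≫ g).hom (AlgSp.Points.map h'.hom x) := by
                rw [← hc, ← fac]
                exact (AlgSp.Points.map_comp _ _ x).trans
                  (congrArg _ (AlgSp.Points.map_comp _ _ x)) |>.trans
                  (AlgSp.Points.map_comp _ _ _).symm
              exact e1.trans hz'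
            · rw [← fac]
              exact AlgSp.Points.map_comp _ _ x
          exact Set.Finite.of_finite_image h1 hiinj.injOn
        have hd1 : DiscreteTopology ↥(AlgSp.Points.map (i ≫ g).hom ⁻¹' {AlgSp.Points.mk k}) :=
          (H.2.2.2.2.2.2.2.2 hBdec hZdec).2 hfib
        exact (H.2.2.2.2.2.2.2.1 hBdec).1 hd1
    have hdim : AlgSp.dim ZkS.obj = 0 := H.1.1 hdisc
    exact H.2.1.1 hdim z hz
  obtain ⟨B', j, hj, hbj, hfinite⟩ := Groth.Agent.S10650.result (i ≫ g) b hZp hq
  refine ⟨B', j, hj, hbj, ?_⟩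
  intro YB gY sY sqY XB gX hB sqX
  have sqZ' := IsPullback.of_hasPullback i.hom gY.hom
  have hZ' : AlgSp.IsAlgSpace (pullback i.hom gY.hom) :=
    Groth.Agent.S9874.isAlgSpace_of_isPullback Y.property.diag Z.property YB.property sqZ'
  let Z'S : AlgSp.Space S := ⟨pullback i.hom gY.hom, hZ'⟩
  let q : Z'S ⟶ Z := ObjectProperty.homMk (pullback.fst i.hom gY.hom)
  let i' : Z'S ⟶ YB := ObjectProperty.homMk (pullback.snd i.hom gY.hom)
  have hcondX : (gX.hom ≫ h'0) ≫ i.hom = hB.hom ≫ gY.hom := by
    rw [Category.assoc, hh'0]; exact sqX.w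
  let e : XB ⟶ Z'S := ObjectProperty.homMk (pullback.lift (gX.hom ≫ h'0) hB.hom hcondX)
  have hi'c : AlgSp.RepWith @IsClosedImmersion i'.hom :=
    MorphismProperty.of_isPullback (P := AlgSp.RepWith @IsClosedImmersion) sqZ' hic
  have sqbig : IsPullback q.hom (i' ≫ sY).hom (i ≫ g).hom j.hom := sqZ'.paste_vert sqY
  refine ⟨Z'S, i', e, hi'c, hfinite Z'S q (i' ≫ sY) sqbig, ?_⟩
  exact ObjectProperty.hom_ext _ (pullback.lift_snd _ _ _)

end Groth.Agent.S10651
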