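import Groth.Statements.S10659

set_option autoImplicit false
universe u
open CategoryTheory CategoryTheory.Limits AlgebraicGeometry
open AlgSp

namespace Groth.Agent.S10659

/-- Given a pullback square of `f` along `b` with represented corner `h_W`, and a morphism
`p : V'' ⟶ V` of schemes over `S`, any represented pullback of `f` along `h_p ≫ b` is (as a scheme)
the fibre product `W ×_V V''`. -/
lemma exists_isPullback_left {S : Scheme.{u}} {X Y : AlgSp.Sp S} (f : X ⟶ Y)
    {V W V'' W'' : Over S} (b : (AlgSp.yon S).obj V ⟶ Y)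
    (fst : (AlgSp.yon S).obj W ⟶ X) (snd : W ⟶ V)
    (sq : IsPullback fst ((AlgSp.yon S).map snd) f b) (p : V'' ⟶ V)
    (fst'' : (AlgSp.yon S).obj W'' ⟶ X) (snd'' : W'' ⟶ V'')
    (sq'' : IsPullback fst'' ((AlgSp.yon S).map snd'') f ((AlgSp.yon S).map p ≫ b)) :
    ∃ r : W'' ⟶ W, IsPullback r.left snd''.left snd.left p.left := by
  have hw : fst'' ≫ f = ((AlgSp.yon S).map snd'' ≫ (AlgSp.yon S).map p) ≫ b := by
    rw [Category.assoc]; exact sq''.w
  obtain ⟨r, hr⟩ := (AlgSp.yon S).map_surjective (sq.lift fst'' _ hw)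
  have h1 : (AlgSp.yon S).map r ≫ fst = fst'' := by rw [hr]; exact sq.lift_fst _ _ _
  have h2 : (AlgSp.yon S).map r ≫ (AlgSp.yon S).map snd =
      (AlgSp.yon S).map snd'' ≫ (AlgSp.yon S).map p := by rw [hr]; exact sq.lift_snd _ _ _
  have big : IsPullback ((AlgSp.yon S).map r ≫ fst) ((AlgSp.yon S).map snd'') f
      ((AlgSp.yon S).map p ≫ b) := by rw [h1]; exact sq''
  have left := IsPullback.of_right big h2 sq
  have e : r ≫ snd = snd'' ≫ p := (AlgSp.yon S).map_injective (by simpa using h2)
  have := IsPullback.of_map (AlgSp.yon S) e left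
  exact ⟨r, this.map (Over.forget S)⟩

theorem result {S : Scheme.{u}} (P : MorphismProperty Scheme.{u}) [P.IsLocalAtTarget Scheme.etalePrecoverage]
    {X Y : AlgSp.Space S} (f : X ⟶ Y) (hf : AlgSp.Representable f.hom)
    {V W : Over S} (b : (AlgSp.yon S).obj V ⟶ Y.obj) (hb1 : AlgSp.RepWith @Etale b) (hb2 : AlgSp.RepWith @Surjective b)
    (fst : (AlgSp.yon S).obj W ⟶ X.obj) (snd : W ⟶ V)
    (sq : IsPullback fst ((AlgSp.yon S).map snd) f.hom b) (hP : P snd.left) :
    AlgSp.RepLocT P f.hom := by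
  refine ⟨hf, ?_⟩
  intro V' W' b' fst' snd' hb' sq'
  have hb : AlgSp.Representable b := hb1.1
  -- the fibre product `V'' = V ×_Y V'`
  let V'' : Over S := hb.pullback b'
  let p : V'' ⟶ V := hb.fst' b'
  let q : V'' ⟶ V' := hb.snd b'
  have hpq : IsPullback ((AlgSp.yon S).map p) ((AlgSp.yon S).map q) b b' := hb.isPullback' b'
  have hp_et : Etale p.left := hb'.2 b ((AlgSp.yon S).map q) p hpq.flip
  have hq_et : Etale q.left := hb1.2 b' ((AlgSp.yon S).map p) q hpq
  have hq_surj : Surjective q.left := hb2.2 b' ((AlgSp.yon S).map p) q hpq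
  -- the pullback of `f` to `V''`
  let g'' : (AlgSp.yon S).obj V'' ⟶ Y.obj := (AlgSp.yon S).map p ≫ b
  let W'' : Over S := hf.pullback g''
  let snd'' : W'' ⟶ V'' := hf.snd g''
  let fst'' : (AlgSp.yon S).obj W'' ⟶ X.obj := hf.fst g''
  have sq'' : IsPullback fst'' ((AlgSp.yon S).map snd'') f.hom ((AlgSp.yon S).map p ≫ b) :=
    hf.isPullback g''
  have sq''' : IsPullback fst'' ((AlgSp.yon S).map snd'') f.hom ((AlgSp.yon S).map q ≫ b') := by
    rw [← hpq.w]; exact sq''
  obtain ⟨r, hr⟩ := exists_isPullback_left f.hom b fst snd sq p fst'' snd'' sq''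
  obtain ⟨r', hr'⟩ := exists_isPullback_left f.hom b' fst' snd' sq' q fst'' snd'' sq'''
  -- `snd''` has `P`: restrict along the etale covering `{p, 𝟙}` of `V`
  have hP'' : P snd''.left := by
    let Xs : Bool → Scheme.{u} := fun i => Bool.rec V.left V''.left i
    let fs : ∀ i, Xs i ⟶ V.left := fun i => Bool.rec (𝟙 V.left) p.left i
    have hR : Presieve.ofArrows Xs fs ∈ Scheme.etalePrecoverage V.left := by
      refine (Scheme.ofArrows_mem_precoverage_iff (P := @Etale)).2
        ⟨fun x => ⟨false, x, rfl⟩, fun i => ?_⟩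
      cases i
      · exact (inferInstance : Etale (𝟙 V.left))
      · exact hp_et
    have hmem : Presieve.ofArrows Xs fs p.left := Presieve.ofArrows.mk true
    have : HasPullback snd.left p.left := hr.hasPullback
    have h := MorphismProperty.IsLocalAtTarget.pullbackSnd (P := P) hR hmem hP
    rw [← hr.isoPullback_inv_snd, P.cancel_left_of_respectsIso] at h
    exact h
  -- descend along the etale covering `{q}` of `V'`
  have hR : Presieve.singleton q.left ∈ Scheme.etalePrecoverage V'.left := by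
    exact (Scheme.singleton_mem_precoverage_iff (P := @Etale) q.left).2 ⟨hq_surj.surj, hq_et⟩
  refine MorphismProperty.IsLocalAtTarget.of_forall_pullbackSnd (P := P) hR ?_
  intro U g _ hg
  cases hg
  rw [← hr'.isoPullback_inv_snd, P.cancel_left_of_respectsIso]
  exact hP''

end Groth.Agent.S10659
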