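import Groth.Statements.S10663
import Groth.Agent.Lib.T2H9AlgSpReg

set_option autoImplicit false
set_option linter.style.haveILetI false
universe u
open CategoryTheory CategoryTheory.Limits AlgebraicGeometry
open AlgSp

namespace Groth.Agent.S10663

/-- For immersions i : Z ⟶ Y and j : Y ⟶ X of algebraic spaces over S, the composite i ≫ j is
Koszul-regular when i and j both are; likewise for H_1-regular; and it is quasi-regular when i is
H_1-regular and j quasi-regular. -/
theorem result {S : Scheme.{u}} {Z Y X : AlgSp.Space S} (i : Z ⟶ Y) (j : Y ⟶ X)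
    (hi : AlgSp.RepWith @IsImmersion i.hom) (hj : AlgSp.RepWith @IsImmersion j.hom) :
    (AlgSp.IsRegImmMor RegImm.Kind.koszul i.hom → AlgSp.IsRegImmMor RegImm.Kind.koszul j.hom →
        AlgSp.IsRegImmMor RegImm.Kind.koszul (i ≫ j).hom) ∧
      (AlgSp.IsRegImmMor RegImm.Kind.h1 i.hom → AlgSp.IsRegImmMor RegImm.Kind.h1 j.hom →
        AlgSp.IsRegImmMor RegImm.Kind.h1 (i ≫ j).hom) ∧
      (AlgSp.IsRegImmMor RegImm.Kind.h1 i.hom → AlgSp.IsRegImmMor RegImm.Kind.quasi j.hom →
        AlgSp.IsRegImmMor RegImm.Kind.quasi (i ≫ j).hom) := by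
  refine ⟨fun h1 h2 => ?_, fun h1 h2 => ?_, fun h1 h2 => ?_⟩
  · exact Groth.Agent.Lib.T2H9.AlgSpReg.isRegImmMor_comp .koszul .koszul .koszul
      (fun i j => Groth.Agent.Lib.T2H9.RegComp.isRegularImmersion_koszul_comp i j) i.hom j.hom h1 h2
  · exact Groth.Agent.Lib.T2H9.AlgSpReg.isRegImmMor_comp .h1 .h1 .h1
      (fun i j => Groth.Agent.Lib.T2H9.RegComp.isRegularImmersion_h1_comp i j) i.hom j.hom h1 h2
  · exact Groth.Agent.Lib.T2H9.AlgSpReg.isRegImmMor_comp .quasi .h1 .quasi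
      (fun i j => Groth.Agent.Lib.T2H9.RegComp.isRegularImmersion_quasi_comp i j) i.hom j.hom h1 h2

end Groth.Agent.S10663
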