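import Groth.Statements.S10667
import Groth.Agent.Lib.T2H7LCISpD

set_option autoImplicit false
universe u
open CategoryTheory CategoryTheory.Limits AlgebraicGeometry
open AlgSp

namespace Groth.Agent.S10667

/-- The property of being a local complete intersection morphism of algebraic spaces over S is fpqc
local on the base: for an fpqc covering of an algebraic space Y by algebraic spaces Y_i and pullback
squares X_i = X ×_Y Y_i, a morphism f : X ⟶ Y is a local complete intersection morphism if and only
if every base change X_i ⟶ Y_i is. -/
theorem result {S : Scheme.{u}} : AlgSp.IsLocalOnBase (AlgSp.IsFpqcCover (S := S)) AlgSp.IsLCIMor := by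
  intro ι Y Yi g hY hYi hcov X f hX Xi p q hXi sq
  constructor
  · intro hf i
    exact Groth.Agent.Lib.T2H7.LCISpB.isLCIMor_flat_baseChange hX hY (hYi i) (sq i) (hcov.1 i) hf
  · intro H
    exact Groth.Agent.Lib.T2H7.LCISpD.isLCIMor_of_fpqcCover_base Yi g hY hYi hcov f hX Xi p q hXi
      sq H

end Groth.Agent.S10667
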