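import Groth.Statements.S10695
import Mathlib
import Groth.Agent.Lib.T2H1ElemDist

set_option autoImplicit false
universe u
open CategoryTheory CategoryTheory.Limits AlgebraicGeometry
open AlgSp

namespace Groth.Agent.S10695

/-- Suppose `(U ⊂ W, f : V → W)`, a square of algebraic spaces over `S`, is elementary distinguished
(`j` an open immersion, `f` etale and an isomorphism over the reduced closed complement of `U`) and
let `P` with its two projections be a fibre product `U ×_W V`. Then `W` is the pushout of `U` and
`V` along `P` among algebraic spaces over `S`. -/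
theorem result {S : Scheme.{u}} {U V W P : AlgSp.Space S} (j : U ⟶ W) (f : V ⟶ W)
    (hsq : AlgSp.IsElemDistSq j.hom f.hom) (p : P ⟶ U) (q : P ⟶ V)
    (hP : IsPullback p.hom q.hom j.hom f.hom) : IsPushout p q j f := by
  have w : p ≫ j = q ≫ f := ObjectProperty.hom_ext _ hP.w
  have key : ∀ s : PushoutCocone p q, ∃ L : W.obj ⟶ s.pt.obj,
      j.hom ≫ L = s.inl.hom ∧ f.hom ≫ L = s.inr.hom := fun s =>
    Groth.Agent.Lib.T2H1.ElemDist.exists_desc_of_isElemDistSq V.property W.property j.hom f.hom
      hsq p.hom q.hom hP s.inl.hom s.inr.hom (congrArg (fun m => m.hom) s.condition)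
  refine ⟨⟨w⟩, ⟨PushoutCocone.IsColimit.mk _
    (fun s => ObjectProperty.homMk (key s).choose) (fun s => ?_) (fun s => ?_)
    (fun s m h1 h2 => ?_)⟩⟩
  · exact ObjectProperty.hom_ext _ (key s).choose_spec.1
  · exact ObjectProperty.hom_ext _ (key s).choose_spec.2
  · apply ObjectProperty.hom_ext
    refine Groth.Agent.Lib.T2H1.ElemDist.hom_ext_pair j.hom f.hom
      (Groth.Agent.Lib.T2H1.ElemDist.isCovSp_of_isElemDistSq V.property j.hom f.hom hsq) _ _ ?_ ?_
    · exact (congrArg (fun m => m.hom) h1).trans (key s).choose_spec.1.symm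
    · exact (congrArg (fun m => m.hom) h2).trans (key s).choose_spec.2.symm

end Groth.Agent.S10695
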