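import Groth.Statements.S10750
import Groth.Agent.S10650
import Groth.Agent.S10444
import Groth.Agent.S10423
import Groth.Agent.S10381
import Groth.Agent.Lib.T2H1FieldQuotF
import Groth.Agent.Lib.Helper12OpenSub2
import Groth.Agent.Lib.Helper12Proper

set_option autoImplicit false
universe u
open CategoryTheory CategoryTheory.Limits AlgebraicGeometry Opposite
open AlgSp

namespace Groth.Agent.S10750

/-- Take a proper morphism f : X ⟶ Y of algebraic spaces over S whose target Y is locally Noetherian,
and let y be a geometric point of Y such that the fibre X_y (a pullback of f along the corresponding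
morphism from the spectrum of the algebraically closed field) has finitely many points. Then there
is an open subspace V of Y containing the image of y such that the base change X ×_Y V ⟶ V is
finite. -/
theorem result {S : Scheme.{u}} {X Y : AlgSp.Space S}
    (f : X ⟶ Y) (hY : AlgSp.IsLocNoethSp Y.obj) (hf : AlgSp.IsProperMor f.hom) (y : AlgSp.FieldPt Y.obj)
    (hy : y.IsGeometric) (Xy : AlgSp.Sp S) (fst : Xy ⟶ X.obj) (snd : Xy ⟶ (AlgSp.yon S).obj y.pt)
    (hsq : IsPullback fst snd f.hom y.toHom) (hfin : Finite (AlgSp.Points Xy)) :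
    ∃ (V : AlgSp.Space S) (j : V ⟶ Y), AlgSp.RepWith @IsOpenImmersion j.hom ∧
      AlgSp.Points.mk y ∈ Set.range (AlgSp.Points.map j.hom) ∧
        ∀ (P : AlgSp.Space S) (fst' : P ⟶ X) (snd' : P ⟶ V), IsPullback fst'.hom snd'.hom f.hom j.hom →
          AlgSp.IsFiniteMor snd'.hom := by
  classical
  have hXy : AlgSp.IsAlgSpace Xy :=
    Groth.Agent.S9874.isAlgSpace_of_isPullback Y.property.diag X.property
      (AlgSp.IsAlgSpace.yon_obj y.pt) hsq
  let XyS : AlgSp.Space S := ⟨Xy, hXy⟩
  let K : AlgSp.Space S := ⟨(AlgSp.yon S).obj y.pt, AlgSp.IsAlgSpace.yon_obj y.pt⟩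
  let fstS : XyS ⟶ X := ObjectProperty.homMk fst
  let sndS : XyS ⟶ K := ObjectProperty.homMk snd
  have hsep : AlgSp.IsSeparatedMor sndS.hom :=
    Groth.Agent.Lib.Helper12.Proper.isSeparatedMor_baseChange hsq hf.1
  have hqs : AlgSp.IsQuasiSeparatedMor sndS.hom :=
    Groth.Agent.Lib.Helper12.OpenSub.repWith_mono
      (fun _ _ g hg => by haveI : IsClosedImmersion g := hg; infer_instance) hsep
  have hdec : AlgSp.IsDecent XyS.obj :=
    Groth.Agent.S10381.result sndS ((Groth.Agent.S10423.result sndS).2 hqs)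
      (Groth.Agent.Lib.T2H1.FieldQuot.isDecent_yon y.pt)
  refine Groth.Agent.S10650.result f (AlgSp.Points.mk y) hf ?_
  intro x hx
  have hyr : AlgSp.Points.mk y ∈ Set.range (AlgSp.Points.map f.hom) := ⟨x, hx⟩
  have H := Groth.Agent.S10444.result f hf.2.1.1 y hyr XyS fstS snd hsq
  have hdisc : DiscreteTopology (AlgSp.Points XyS.obj) := H.2.2.2.2.1 hdec hfin
  have hdim : AlgSp.dim XyS.obj = 0 := H.1.1 hdisc
  exact H.2.1.1 hdim x hx

end Groth.Agent.S10750
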