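import Groth.Statements.S10763
import Groth.Agent.S10760
import Groth.Agent.S10192
import Groth.Agent.S10193
import Groth.Agent.S10278
import Groth.Agent.S10279
import Groth.Agent.S9926
import Groth.Agent.S9937
import Groth.Agent.S9925
import Groth.Agent.S10614
import Groth.Agent.Lib.Helper12Proper

set_option autoImplicit false
universe u
open CategoryTheory CategoryTheory.Limits AlgebraicGeometry
open AlgSp

namespace Groth.Agent.S10763

/-- Let B be an algebraic space over S, let a : X ⟶ B and b : Y ⟶ B be locally of finite type, and let f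
: X ⟶ Y be a universally closed morphism over B. If i : Z ⟶ X is a closed subspace with Z ⟶ B
proper, then the image of |Z| under |f| is a closed subset of |Y| which underlies a closed subspace
Z' ⟶ Y with Z' ⟶ B proper. -/
theorem result {S : Scheme.{u}} {X Y B Z : AlgSp.Space S}
    (a : X ⟶ B) (b : Y ⟶ B) (f : X ⟶ Y) (hcomm : f ≫ b = a)
    (ha : AlgSp.LocP @LocallyOfFiniteType a.hom) (hb : AlgSp.LocP @LocallyOfFiniteType b.hom)
    (hfc : AlgSp.IsUnivClosedMor f.hom)
    (i : Z ⟶ X) (hi : AlgSp.RepWith @IsClosedImmersion i.hom) (hZ : AlgSp.IsProperMor (i ≫ a).hom) :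
    IsClosed (AlgSp.Points.map f.hom '' Set.range (AlgSp.Points.map i.hom)) ∧
      ∃ (Z' : AlgSp.Space S) (i' : Z' ⟶ Y), AlgSp.RepWith @IsClosedImmersion i'.hom ∧
        Set.range (AlgSp.Points.map i'.hom) = AlgSp.Points.map f.hom '' Set.range (AlgSp.Points.map i.hom) ∧
        AlgSp.IsProperMor (i' ≫ b).hom := by
  classical
  have hiC : IsClosed (Set.range (AlgSp.Points.map i.hom)) := by
    rw [← Set.image_univ]
    exact Groth.Agent.Lib.Helper12.Proper.isClosedMap_of_repWith_isClosedImmersion i.hom hi _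
      isClosed_univ
  have hfC : IsClosedMap (AlgSp.Points.map f.hom) :=
    hfc Y.property (𝟙 _) (𝟙 _) f.hom (IsPullback.of_horiz_isIso ⟨by simp⟩)
  have hT : IsClosed (AlgSp.Points.map f.hom '' Set.range (AlgSp.Points.map i.hom)) := hfC _ hiC
  refine ⟨hT, ?_⟩
  obtain ⟨Z', i', hi'c, hi'r, hZ'red⟩ := Groth.Agent.S10192.result Y _ hT
  obtain ⟨Zr, r, hrc, hrr, hZrred⟩ := Groth.Agent.S10192.result Z Set.univ isClosed_univ
  have hrsurj : Function.Surjective (AlgSp.Points.map r.hom) := Set.range_eq_univ.1 hrr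
  -- the closed immersion `Zr ⟶ X`
  have hric : AlgSp.RepWith @IsClosedImmersion (r ≫ i).hom :=
    (AlgSp.RepWith @IsClosedImmersion).comp_mem r.hom i.hom hrc hi
  have hrange : Set.range (AlgSp.Points.map i.hom) = Set.range (AlgSp.Points.map (r ≫ i).hom) := by
    ext x
    constructor
    · rintro ⟨z, rfl⟩
      obtain ⟨zr, rfl⟩ := hrsurj z
      exact ⟨zr, AlgSp.Points.map_comp r.hom i.hom zr⟩
    · rintro ⟨zr, rfl⟩
      exact ⟨AlgSp.Points.map r.hom zr, (AlgSp.Points.map_comp r.hom i.hom zr).symm⟩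
  have hZr : AlgSp.IsProperMor ((r ≫ i) ≫ a).hom :=
    Groth.Agent.S10760.result a ha i (r ≫ i) hi hric hrange hZ
  -- the map `g : Zr ⟶ Z'`
  have hsub : Set.range (AlgSp.Points.map ((r ≫ i) ≫ f).hom) ⊆
      Set.range (AlgSp.Points.map i'.hom) := by
    rw [hi'r]
    rintro _ ⟨zr, rfl⟩
    refine ⟨AlgSp.Points.map (r ≫ i).hom zr, ?_, (AlgSp.Points.map_comp (r ≫ i).hom f.hom zr).symm⟩
    rw [hrange]
    exact ⟨zr, rfl⟩
  obtain ⟨g, hg⟩ := (Groth.Agent.S10193.result i' hi'c hZrred ((r ≫ i) ≫ f)).2 hsub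
  -- `i'` is injective on points
  have hi'inj : Function.Injective (AlgSp.Points.map i'.hom) :=
    ((Groth.Agent.S10614.result i').2.1.1 hi'c).2.2 Y.property (𝟙 _) (𝟙 _) i'.hom
      (IsPullback.of_horiz_isIso ⟨by simp⟩)
  have hgsurj : AlgSp.IsSurjectiveMor g.hom := by
    intro z'
    have hz' : AlgSp.Points.map i'.hom z' ∈
        AlgSp.Points.map f.hom '' Set.range (AlgSp.Points.map i.hom) := by
      rw [← hi'r]; exact ⟨z', rfl⟩
    obtain ⟨_, ⟨z, rfl⟩, hz⟩ := hz'
    obtain ⟨zr, rfl⟩ := hrsurj z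
    refine ⟨zr, hi'inj ?_⟩
    rw [← hz, ← AlgSp.Points.map_comp g.hom i'.hom zr]
    have : g.hom ≫ i'.hom = (r ≫ i).hom ≫ f.hom := congrArg (fun k => k.hom) hg
    rw [this, AlgSp.Points.map_comp]
    exact congrArg _ (AlgSp.Points.map_comp r.hom i.hom zr)
  -- `g` is universally closed
  have hpuc : AlgSp.IsUnivClosedMor ((r ≫ i) ≫ f).hom :=
    Groth.Agent.Lib.Helper12.Proper.isUnivClosedMor_comp X.property Y.property (r ≫ i).hom f.hom
      (Groth.Agent.Lib.Helper12.Proper.isUnivClosedMor_of_isClosedImmersion _ hric) hfc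
  have hguc : AlgSp.IsUnivClosedMor g.hom :=
    ((Groth.Agent.S10278.result g ((r ≫ i) ≫ f) i' hg (Groth.Agent.S9937.result i' hi'c)).1 hpuc).1
  have hcomm' : g ≫ (i' ≫ b) = (r ≫ i) ≫ a := by
    rw [← Category.assoc, hg, Category.assoc, hcomm]
  have huc : AlgSp.IsUnivClosedMor (i' ≫ b).hom :=
    Groth.Agent.S10279.result g ((r ≫ i) ≫ a) (i' ≫ b) hcomm' hZr.2.2 hgsurj
  have hsep : AlgSp.IsSeparatedMor (i' ≫ b).hom :=
    (Groth.Agent.S9926.result g ((r ≫ i) ≫ a) (i' ≫ b) hcomm' hgsurj hguc).2 hZr.1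
  have hlft : AlgSp.LocP @LocallyOfFiniteType (i' ≫ b).hom :=
    Groth.Agent.Lib.Helper12.Proper.locP_lft_comp Y.property B.property i'.hom b.hom
      (Groth.Agent.Lib.Helper12.Proper.locP_lft_of_isClosedImmersion Y.property i'.hom hi'c) hb
  exact ⟨Z', i', hi'c, hi'r, hsep, ⟨hlft, Groth.Agent.S9925.result (i' ≫ b) huc⟩, huc⟩

end Groth.Agent.S10763
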