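import Groth.Statements.S10762
import Groth.Agent.S10763

set_option autoImplicit false
universe u
open CategoryTheory CategoryTheory.Limits AlgebraicGeometry
open AlgSp

namespace Groth.Agent.S10762

/-- Let B be an algebraic space over S, let a : X ⟶ B and b : Y ⟶ B be locally of finite type with b
separated, and let f : X ⟶ Y be a morphism over B. If i : Z ⟶ X is a closed subspace with Z ⟶ B
proper, then the image of |Z| under |f| is a closed subset of |Y| which underlies a closed subspace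
Z' ⟶ Y with Z' ⟶ B proper. -/
theorem result {S : Scheme.{u}} {X Y B Z : AlgSp.Space S}
    (a : X ⟶ B) (b : Y ⟶ B) (f : X ⟶ Y) (hcomm : f ≫ b = a)
    (ha : AlgSp.LocP @LocallyOfFiniteType a.hom) (hb : AlgSp.LocP @LocallyOfFiniteType b.hom)
    (hbs : AlgSp.IsSeparatedMor b.hom)
    (i : Z ⟶ X) (hi : AlgSp.RepWith @IsClosedImmersion i.hom) (hZ : AlgSp.IsProperMor (i ≫ a).hom) :
    IsClosed (AlgSp.Points.map f.hom '' Set.range (AlgSp.Points.map i.hom)) ∧
      ∃ (Z' : AlgSp.Space S) (i' : Z' ⟶ Y), AlgSp.RepWith @IsClosedImmersion i'.hom ∧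
        Set.range (AlgSp.Points.map i'.hom) = AlgSp.Points.map f.hom '' Set.range (AlgSp.Points.map i.hom) ∧
        AlgSp.IsProperMor (i' ≫ b).hom := by
  classical
  have hcomm' : (i ≫ f) ≫ b = i ≫ a := by rw [Category.assoc, hcomm]
  have hifp : AlgSp.IsProperMor (i ≫ f).hom :=
    (Groth.Agent.S10278.result (i ≫ f) (i ≫ a) b hcomm' hbs).2 hZ
  have hid : AlgSp.RepWith @IsClosedImmersion (𝟙 Z : Z ⟶ Z).hom :=
    (AlgSp.RepWith @IsClosedImmersion).id_mem Z.obj
  have hZ' : AlgSp.IsProperMor ((𝟙 Z : Z ⟶ Z) ≫ (i ≫ a)).hom := by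
    rw [Category.id_comp]; exact hZ
  have H := Groth.Agent.S10763.result (i ≫ a) b (i ≫ f) hcomm' hZ.2.1.1 hb hifp.2.2 (𝟙 Z) hid hZ'
  have hset : AlgSp.Points.map (i ≫ f).hom '' Set.range (AlgSp.Points.map (𝟙 Z : Z ⟶ Z).hom) =
      AlgSp.Points.map f.hom '' Set.range (AlgSp.Points.map i.hom) := by
    ext y
    constructor
    · rintro ⟨_, ⟨z, rfl⟩, rfl⟩
      refine ⟨AlgSp.Points.map i.hom z, ⟨z, rfl⟩, ?_⟩
      have h1 : AlgSp.Points.map (𝟙 Z : Z ⟶ Z).hom z = z := AlgSp.Points.map_id z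
      rw [h1]
      exact (AlgSp.Points.map_comp i.hom f.hom z).symm
    · rintro ⟨_, ⟨z, rfl⟩, rfl⟩
      exact ⟨z, ⟨z, AlgSp.Points.map_id z⟩, AlgSp.Points.map_comp i.hom f.hom z⟩
  rw [hset] at H
  exact H

end Groth.Agent.S10762
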