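import Groth.Statements.S10765
import Groth.Agent.S10763
import Groth.Agent.Lib.T2H1CoprodProper

set_option autoImplicit false
universe u
open CategoryTheory CategoryTheory.Limits AlgebraicGeometry
open AlgSp

namespace Groth.Agent.S10765

/-- Let f : X ⟶ Y be a morphism of algebraic spaces over S that is locally of finite type and let i_k :
Z_k ⟶ X, for k ranging over a finite index set, be closed subspaces with each Z_k ⟶ Y proper. Then
there is a closed subspace W ⟶ X whose image in |X| is the union of the images of the |Z_k| and with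
W ⟶ Y proper; that is, a finite union of closed subsets proper over Y is proper over Y. -/
theorem result {S : Scheme.{u}} {X Y : AlgSp.Space S}
    (f : X ⟶ Y) (hf : AlgSp.LocP @LocallyOfFiniteType f.hom)
    {n : ℕ} (Z : Fin n → AlgSp.Space S) (i : ∀ k, Z k ⟶ X)
    (hi : ∀ k, AlgSp.RepWith @IsClosedImmersion (i k).hom) (hZ : ∀ k, AlgSp.IsProperMor (i k ≫ f).hom) :
    ∃ (W : AlgSp.Space S) (j : W ⟶ X), AlgSp.RepWith @IsClosedImmersion j.hom ∧
      Set.range (AlgSp.Points.map j.hom) = ⋃ k, Set.range (AlgSp.Points.map (i k).hom) ∧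
      AlgSp.IsProperMor (j ≫ f).hom := by
  classical
  -- the coproduct of the `Z k`
  let A : ULift.{u} (Fin n) → AlgSp.Sp S := fun k => (Z k.down).obj
  let c' : Cofan A := Cofan.mk (∐ A) (Sigma.ι A)
  have hc' : IsColimit c' := coproductIsCoproduct A
  have hZc : AlgSp.IsAlgSpace c'.pt :=
    Groth.Agent.Lib.T2H1.Coprod.isAlgSpace_cofan_pt A (fun k => (Z k.down).property) c' hc'
  let ZcS : AlgSp.Space S := ⟨c'.pt, hZc⟩
  let d : c'.pt ⟶ X.obj := Cofan.IsColimit.desc hc' (fun k => (i k.down).hom)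
  have hd : ∀ k, c'.inj k ≫ d = (i k.down).hom := fun k => Cofan.IsColimit.fac hc' _ k
  let dS : ZcS ⟶ X := ObjectProperty.homMk d
  -- `d` is finite, hence universally closed
  have hifin : ∀ k, AlgSp.IsFiniteMor (i k).hom := fun k =>
    (Groth.Agent.S10267.result (i k)).2.2
      (Groth.Agent.Lib.Helper12.OpenSub.repWith_mono
        (fun _ _ g hg => by haveI : IsClosedImmersion g := hg; infer_instance) (hi k))
  have hdfin : AlgSp.IsFiniteMor d :=
    Groth.Agent.S10325.result Z X i hifin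
      (Groth.Agent.Lib.T2H1.CoprodProper.reindex (G := fun k : Fin n => (Z k).obj) c')
      (Groth.Agent.Lib.T2H1.CoprodProper.reindexIsColimit (G := fun k : Fin n => (Z k).obj) c' hc')
      d (fun k => hd ⟨k⟩)
  have hduc : AlgSp.IsUnivClosedMor dS.hom := ((Groth.Agent.S10271.result dS).1 hdfin).2.2.2
  -- the coproduct is proper over `Y`
  have hap : AlgSp.IsProperMor (dS ≫ f).hom :=
    Groth.Agent.Lib.T2H1.CoprodProper.isProperMor_desc Y Z (fun k => i k ≫ f) hZ c' hc'
      (d ≫ f.hom) (fun k => by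
        rw [← Category.assoc, hd]; rfl)
  have hid : AlgSp.RepWith @IsClosedImmersion (𝟙 ZcS : ZcS ⟶ ZcS).hom :=
    (AlgSp.RepWith @IsClosedImmersion).id_mem ZcS.obj
  have hap' : AlgSp.IsProperMor ((𝟙 ZcS : ZcS ⟶ ZcS) ≫ (dS ≫ f)).hom := by
    rw [Category.id_comp]; exact hap
  obtain ⟨-, W, j, hjc, hjr, hjp⟩ :=
    Groth.Agent.S10763.result (dS ≫ f) f dS rfl hap.2.1.1 hf hduc (𝟙 ZcS) hid hap'
  refine ⟨W, j, hjc, ?_, hjp⟩
  rw [hjr]
  ext x
  simp only [Set.mem_image, Set.mem_range, Set.mem_iUnion]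
  constructor
  · rintro ⟨_, ⟨z, rfl⟩, rfl⟩
    have h1 : AlgSp.Points.map (𝟙 ZcS : ZcS ⟶ ZcS).hom z = z := AlgSp.Points.map_id z
    rw [h1]
    obtain ⟨k, y, rfl⟩ := Groth.Agent.Lib.T2H1.CoprodProper.exists_points_inj c' hc' z
    refine ⟨k.down, y, ?_⟩
    rw [← hd k]
    exact AlgSp.Points.map_comp _ _ y
  · rintro ⟨k, y, rfl⟩
    refine ⟨AlgSp.Points.map (c'.inj ⟨k⟩) y, ⟨AlgSp.Points.map (c'.inj ⟨k⟩) y,
      AlgSp.Points.map_id _⟩, ?_⟩
    have := hd ⟨k⟩
    rw [← this]
    exact (AlgSp.Points.map_comp _ _ y).symm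

end Groth.Agent.S10765
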