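import Groth.Statements.S10794
import Groth.Agent.Lib.T2H1EffCartSk
import Groth.Agent.Lib.Helper9SpPoint5
import Groth.Agent.S1686
import Groth.Agent.S1146
import Groth.Agent.S10175

set_option autoImplicit false
universe u
open CategoryTheory CategoryTheory.Limits AlgebraicGeometry Topology TopologicalSpace
open AlgSp

namespace Groth.Agent.S10794

/-- Let X be an algebraic space over a scheme S, D ⟶ X an effective Cartier divisor (one-chart sense)
and x a point of |D|. If the dimension of X at the image of x is d, in the sense that some etale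
scheme chart of X has local dimension d at a point over it, and d is finite, then the dimension of D
at x is strictly smaller: some etale scheme chart of D has local dimension less than d at a point
over x. -/
theorem result {S : Scheme.{u}} (X D : AlgSp.Space S) (i : D ⟶ X)
    (hD : AlgSp.IsEffCartierSub i.hom) (x : AlgSp.Points D.obj) (d : WithBot ℕ∞)
    (hd : AlgSp.HasAt (fun U u => FlatMor.localDim ↥U u = d) X.obj (AlgSp.Points.map i.hom x)) (hfin : d ≠ ⊤) :
    AlgSp.HasAt (fun V v => FlatMor.localDim ↥V v < d) D.obj x := by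
  obtain ⟨U, a, u, hae, hu, hdim⟩ := hd
  obtain ⟨hcl, V, φ, I, fstD, hφe, hφs, sqD, hI⟩ := hD
  obtain ⟨W, pU, pVs, sqW⟩ := hφe.1 a
  obtain ⟨pV, rfl⟩ := (AlgSp.yon S).map_surjective pVs
  haveI hpUe : Etale pU.left := hφe.2 a _ pU sqW
  have hpUs : Surjective pU.left := hφs.2 a _ pU sqW
  haveI hpVe : Etale pV.left := hae.2 φ _ pV sqW.flip
  obtain ⟨w, hw⟩ := hpUs.surj u
  obtain ⟨l, sql⟩ := Groth.Agent.Lib.T2H1.EffCart.chart_refine pV sqD
  have hJ : BlowUp.IsEffCartierIdeal (I.comap pV.left) :=
    Groth.Agent.Lib.T2H6.BlowUpFlatBC.isEffCartier_comap_of_flat pV.left I hI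
  have hψe : AlgSp.RepWith @Etale ((AlgSp.yon S).map pV ≫ φ) :=
    (AlgSp.RepWith @Etale).comp_mem _ _ ((AlgSp.repWith_yon_map_iff _ _).2 hpVe) hφe
  have hle : AlgSp.RepWith @Etale l :=
    MorphismProperty.of_isPullback (P := AlgSp.RepWith @Etale) sql.flip hψe
  have hpt : AlgSp.Points.map i.hom x =
      AlgSp.Points.map ((AlgSp.yon S).map pV ≫ φ) (AlgSp.Points.ofScheme W w) := by
    rw [← AlgSp.Points.ofPt_eq_map_ofScheme, sqW.w,
      Groth.Agent.Lib.Helper9.SpPoint.ofPt_yon_map_comp, hw, hu]
  obtain ⟨p, hp1, hp2⟩ := Groth.Agent.S10175.exists_point_of_isPullback sql x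
    (AlgSp.Points.ofScheme W w) hpt
  obtain ⟨z, rfl⟩ := (AlgSp.Points.schemeHomeo
    (Groth.Agent.Lib.T2H1.EffCart.sub W (I.comap pV.left))).surjective p
  have hz : (I.comap pV.left).subschemeι z = w := by
    rw [AlgSp.Points.map_yon_map_apply] at hp2
    exact (AlgSp.Points.schemeHomeo W).injective hp2
  refine ⟨Groth.Agent.Lib.T2H1.EffCart.sub W (I.comap pV.left), l, z, hle, ?_, ?_⟩
  · rw [AlgSp.Points.ofPt_eq_map_ofScheme]
    exact hp1
  · have hWd : FlatMor.localDim ↥W.left w = d := by
      rw [Groth.Agent.S1146.result pU.left w]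
      change FlatMor.localDim ↥U.left (pU.left w) = d
      rw [hw]
      exact hdim
    have h1 := Groth.Agent.S1686.result W.left (I.comap pV.left) hJ z (by rw [hz, hWd]; exact hfin)
    rw [hz, hWd] at h1
    exact h1

end Groth.Agent.S10794
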