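import Groth.Statements.S10800
import Mathlib
import Groth.Agent.Lib.Helper1ClosedSub2
import Groth.Agent.Lib.Helper10RedInd
import Groth.Agent.Lib.Helper12Reduced
import Groth.Agent.S9908
import Groth.Agent.S9906
import Groth.Agent.S10509
import Groth.Agent.S10176
import Groth.Agent.S10187
import Groth.Agent.Lib.T2H4LocFactAmple
import Groth.Agent.Lib.T2H4RegUFD
import Groth.Agent.Lib.Helper5RLR

set_option autoImplicit false
universe u
open CategoryTheory CategoryTheory.Limits AlgebraicGeometry Topology TopologicalSpace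
open AlgSp

namespace Groth.Agent.S10800

/-- Let S be a separated scheme and X an algebraic space over S which is Noetherian, separated and
regular: X is quasi-compact, quasi-separated and separated over S, and some etale surjective chart
of X is a locally Noetherian scheme whose local rings are regular. Let T be an affine scheme with a
representable open immersion h_T ⟶ X whose image is dense in |X| (a dense affine open subspace U).
Then there is an effective Cartier divisor D ⟶ X (one-chart sense) with |D| = |X| ∖ |U|. (The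
published statement asks X to be separated in the absolute sense; this row asks X separated over a
separated base scheme S, which implies it. Separatedness over S alone does not suffice: over the
affine plane with doubled origin as S, with X = S and U one of the two affine planes, the complement
is a point of codimension 2.) -/
theorem result {S : Scheme.{u}} [S.IsSeparated] (X : AlgSp.Space S)
    (hreg : AlgSp.EtaleLocally (fun U => IsLocallyNoetherian U ∧ ∀ u : ↥U, IsRegularLocalRing ↥(U.presheaf.stalk u)) X.obj)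
    (hqc : AlgSp.IsQuasiCompactSp X.obj) (hqs : AlgSp.IsQuasiSeparatedSp X.obj) (hsep : AlgSp.IsSeparatedSp X.obj)
    (T : Over S) [IsAffine T.left] (j : (AlgSp.yon S).obj T ⟶ X.obj) (hj : AlgSp.RepWith @IsOpenImmersion j)
    (hdense : Dense (Set.range (AlgSp.Points.ofPt j))) :
    ∃ (D : AlgSp.Space S) (i : D ⟶ X), AlgSp.IsEffCartierSub i.hom ∧
      Set.range (AlgSp.Points.map i.hom) = (Set.range (AlgSp.Points.ofPt j))ᶜ := by
  classical
  obtain ⟨U, c, hce, hcs, hLN, hR⟩ := hreg
  haveI : IsLocallyNoetherian U.left := hLN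
  -- `j` is etale, hence open on points
  have hje : AlgSp.RepWith @Etale j := ⟨hj.1, fun A B g fst snd sq => by
    haveI : IsOpenImmersion snd.left := hj.2 g fst snd sq
    exact (inferInstance : Etale snd.left)⟩
  set O : Set (AlgSp.Points X.obj) := Set.range (AlgSp.Points.ofPt j) with hO
  have hOopen : IsOpen O := by
    rw [hO, ← Set.image_univ]
    exact Groth.Agent.S10176.isOpenMap_ofPt j hje _ isOpen_univ
  have hT : IsClosed Oᶜ := hOopen.isClosed_compl
  -- the reduced closed subspace on the complement, built on the chart `c` (after S10192)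
  obtain ⟨R, p₂, p₁', sqR⟩ := hce.1 c
  obtain ⟨p₁, rfl⟩ := (AlgSp.yon S).map_surjective p₁'
  haveI : Etale p₂.left := hce.2 c _ p₂ sqR
  haveI : Etale p₁.left := hce.2 c _ p₁ sqR.flip
  let TU : TopologicalSpace.Closeds U.left :=
    ⟨AlgSp.Points.ofPt c ⁻¹' Oᶜ, hT.preimage (AlgSp.Points.continuous_ofPt c)⟩
  obtain ⟨I, hI⟩ : ∃ I, I = Scheme.IdealSheafData.vanishingIdeal TU := ⟨_, rfl⟩
  haveI hred : IsReduced I.subscheme := by
    rw [hI]
    exact Groth.Agent.Lib.Helper10.RedInd.isReduced_subscheme_vanishingIdeal TU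
  have hrange : Set.range I.subschemeι = AlgSp.Points.ofPt c ⁻¹' Oᶜ := by
    rw [Scheme.IdealSheafData.range_subschemeι, hI, Scheme.IdealSheafData.coe_support_vanishingIdeal]
    rfl
  have hcomap : ∀ (p : R ⟶ U) [Etale p.left], I.comap p.left =
      Scheme.IdealSheafData.vanishingIdeal (.closure (p.left ⁻¹' (AlgSp.Points.ofPt c ⁻¹' Oᶜ))) := by
    intro p _
    haveI : IsReduced (pullback p.left I.subschemeι) :=
      Groth.Agent.Lib.Helper12.Reduced.isReduced_of_smooth (pullback.snd p.left I.subschemeι)
    rw [Scheme.IdealSheafData.comap,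
      Groth.Agent.Lib.Helper10.RedInd.ker_eq_vanishingIdeal_of_isReduced,
      Scheme.Pullback.range_fst, hrange]
  have hpre : p₁.left ⁻¹' (AlgSp.Points.ofPt c ⁻¹' Oᶜ) = p₂.left ⁻¹' (AlgSp.Points.ofPt c ⁻¹' Oᶜ) := by
    ext r
    simp only [Set.mem_preimage]
    rw [← Groth.Agent.S10509.ofPt_yon_map_comp p₁ c r, ← Groth.Agent.S10509.ofPt_yon_map_comp p₂ c r,
      sqR.w]
  have hI1 : I.comap p₁.left = I.comap p₂.left := by
    rw [hcomap p₁, hcomap p₂, hpre]
  let C : Over S := Over.mk (I.subschemeι ≫ U.hom)
  let iC : C ⟶ U := Over.homMk I.subschemeι rfl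
  haveI : IsClosedImmersion iC.left := inferInstanceAs (IsClosedImmersion I.subschemeι)
  haveI : Mono iC.left := inferInstance
  haveI : Mono iC := (Over.forget S).mono_of_mono_map ‹_›
  have hkerC : iC.left.ker = I := Scheme.IdealSheafData.ker_subschemeι I
  have hinv : Groth.Agent.Lib.Helper1.ClosedSub.Invariant c iC :=
    Groth.Agent.Lib.Helper1.ClosedSub.invariant_of_comap_eq c iC p₁ p₂ sqR (by rw [hkerC]; exact hI1)
  have hZbar := Groth.Agent.Lib.Helper1.ClosedSub.isAlgSpace_obj c iC X.property hce hcs hinv
  have hincl := Groth.Agent.Lib.Helper1.ClosedSub.repWith_incl c iC X.property hce hcs hinv inferInstance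
  obtain ⟨a', sqC⟩ := Groth.Agent.Lib.Helper1.ClosedSub.exists_chart c iC hinv
  -- the complement of the dense affine open in the chart
  let Vo : U.left.Opens := ⟨AlgSp.Points.ofPt c ⁻¹' O, hOopen.preimage (AlgSp.Points.continuous_ofPt c)⟩
  have hTUV : (TU : Set U.left) = (Vo : Set U.left)ᶜ := rfl
  have hVd : Dense (Vo : Set U.left) :=
    hdense.preimage (Groth.Agent.S10176.isOpenMap_ofPt c hce)
  have hsepV : ∀ W : U.left.Opens, IsAffineOpen W → IsAffineOpen (W ⊓ Vo) := by
    intro W hW
    let Wov : Over S := Over.mk (W.ι ≫ U.hom)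
    let ιW : Wov ⟶ U := Over.homMk W.ι rfl
    let b : (AlgSp.yon S).obj Wov ⟶ X.obj := (AlgSp.yon S).map ιW ≫ c
    obtain ⟨P, snd, fst', sq⟩ := hj.1 b
    obtain ⟨fst, rfl⟩ := (AlgSp.yon S).map_surjective fst'
    haveI : IsOpenImmersion snd.left := hj.2 b _ snd sq
    haveI hWaff : IsAffine Wov.left := hW
    haveI hPaff : IsAffine P.left :=
      (Groth.Agent.S10187.result X hsep T Wov P j b fst snd inferInstance hWaff sq).1
    have hrange' : (snd.left.opensRange : Set Wov.left) = W.ι ⁻¹' (Vo : Set U.left) := by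
      have h1 := Groth.Agent.S10176.preimage_ofPt_image sq Set.univ
      rw [Set.image_univ, Set.preimage_univ, Set.image_univ] at h1
      rw [Scheme.Hom.coe_opensRange, ← h1]
      ext w
      simp only [Set.mem_preimage]
      rw [show AlgSp.Points.ofPt b w = AlgSp.Points.ofPt c (W.ι w) from
        Groth.Agent.S10176.ofPt_map_comp ιW c w]
      rfl
    have hopens : snd.left.opensRange = W.ι ⁻¹ᵁ Vo := TopologicalSpace.Opens.ext hrange'
    have haff : IsAffineOpen snd.left.opensRange := isAffineOpen_opensRange snd.left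
    have h2 := haff.image_of_isOpenImmersion W.ι
    rw [hopens, Scheme.Hom.image_preimage_eq_opensRange_inf, Scheme.Opens.opensRange_ι] at h2
    exact h2
  have hfact : ∀ x : U.left, IsDomain (U.left.presheaf.stalk x) ∧
      UniqueFactorizationMonoid (U.left.presheaf.stalk x) := fun x => by
    haveI := hR x
    exact ⟨Groth.Agent.Lib.Helper5.isDomain_of_isRegularLocalRing _,
      Groth.Agent.Lib.T2H4.RegUFD.uniqueFactorizationMonoid_of_isRegularLocalRing _⟩
  have hcart : BlowUp.IsEffCartierIdeal I := by
    rw [hI]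
    exact Groth.Agent.Lib.T2H4.LocFactAmple.isEffCartierIdeal_vanishingIdeal Vo hVd hsepV hfact TU hTUV
  refine ⟨⟨Groth.Agent.Lib.Helper1.ClosedSub.obj c iC, hZbar⟩,
    ObjectProperty.homMk (Groth.Agent.Lib.Helper1.ClosedSub.incl c iC),
    ⟨hincl, U, c, I, a', hce, hcs, sqC, hcart⟩, ?_⟩
  -- the points
  have hsurj : Function.Surjective (AlgSp.Points.ofPt c) := by
    have h1 : AlgSp.Points.ofPt c = AlgSp.Points.map c ∘ AlgSp.Points.schemeHomeo U := by
      funext t
      exact AlgSp.Points.ofPt_eq_map_ofScheme c t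
    rw [h1]
    exact (Groth.Agent.S9906.surjective_map_of_repWith c hcs).comp
      (AlgSp.Points.schemeHomeo U).surjective
  apply hsurj.preimage_injective
  have h2 := Groth.Agent.S9908.preimage_ofPt_map_image sqC Set.univ
  rw [Set.image_univ, Set.preimage_univ, Set.image_univ] at h2
  show AlgSp.Points.ofPt c ⁻¹' Set.range (AlgSp.Points.map (Groth.Agent.Lib.Helper1.ClosedSub.incl c iC)) = _
  rw [h2]
  exact hrange

end Groth.Agent.S10800
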