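import Groth.Statements.S10805
import Mathlib
import Groth.Agent.Lib.T2H7WeakAssEt
import Groth.Agent.Lib.T2H7WeakAssEtB
import Groth.Agent.Lib.T2H7WeakAssEtC
import Groth.Agent.Lib.Helper12FieldBC

set_option autoImplicit false
universe u
open CategoryTheory CategoryTheory.Limits AlgebraicGeometry Topology TopologicalSpace
open AlgSp

namespace Groth.Agent.S10805

/-- Let X be a reduced algebraic space over a scheme S and x a point of |X|. Then x is a weakly
associated point of X (a weakly associated point of the structure sheaf O_X on the small etale site)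
if and only if x is a point of codimension 0 of X (for some scheme U with a representable etale h_U
⟶ X and some point u of U over x, the local ring of U at u has Krull dimension 0). -/
theorem result {S : Scheme.{u}} (X : AlgSp.Space S)
    (hX : AlgSp.IsReducedSp X.obj) [(AlgSp.unitModEt X.obj).IsQuasicoherent] (x : AlgSp.Points X.obj) :
    x ∈ AlgSp.WeakAssEt (AlgSp.unitModEt X.obj) ↔
      AlgSp.HasAt (fun U u => ringKrullDim ↥(U.presheaf.stalk u) = 0) X.obj x := by
  classical
  constructor
  · rintro ⟨E, hE, u, hu, s, hs⟩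
    have hred : IsReduced E.obj.left.left :=
      Groth.Agent.Lib.Helper12.FieldBC.isReduced_of_chart hX E.obj.hom E.property
    have hredΓ : IsReduced Γ(E.obj.left.left, ⊤) := inferInstance
    have hmin : AlgSp.primeAtPt E.obj.left.left u ∈ minimalPrimes Γ(E.obj.left.left, ⊤) :=
      Groth.Agent.Lib.T2H7.WeakAssEtB.mem_minimalPrimes_of_isReduced
        (Groth.Agent.Lib.T2H7.WeakAssEtB.downSect E s) (AlgSp.annSect s)
        (fun a => Groth.Agent.Lib.T2H7.WeakAssEtB.mem_annSect_unit_iff E s a) hs
    exact ⟨E.obj.left, E.obj.hom, u, E.property, hu,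
      (Groth.Agent.Lib.T2H7.WeakAssEtB.ringKrullDim_stalk_eq_zero_iff E.obj.left.left u).2 hmin⟩
  · intro h
    obtain ⟨E, hEaff, u', hpt, hdim'⟩ :=
      Groth.Agent.Lib.T2H7.WeakAssEtC.exists_affine_chart_of_hasAt x h
    have hmin := (Groth.Agent.Lib.T2H7.WeakAssEtB.ringKrullDim_stalk_eq_zero_iff
      E.obj.left.left u').1 hdim'
    refine ⟨E, hEaff, u', hpt, Groth.Agent.Lib.T2H7.WeakAssEtB.upSect E 1, ?_⟩
    have hann : AlgSp.annSect (Groth.Agent.Lib.T2H7.WeakAssEtB.upSect E 1) = ⊥ := by
      ext b
      rw [Groth.Agent.Lib.T2H7.WeakAssEtB.mem_annSect_unit_iff,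
        Groth.Agent.Lib.T2H7.WeakAssEtB.downSect_upSect, mul_one, Ideal.mem_bot]
    rw [hann]
    exact hmin

end Groth.Agent.S10805
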