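import Groth.Statements.S10810
import Mathlib
import Groth.Agent.Lib.T2H7WeakAssEt

set_option autoImplicit false
universe u
open CategoryTheory CategoryTheory.Limits AlgebraicGeometry Topology TopologicalSpace
open AlgSp

namespace Groth.Agent.S10810

/-- Let X be an algebraic space over a scheme S and F a quasi-coherent O_X-module on the small etale
site of X. Then F = 0 if and only if the set of weakly associated points of F is empty. -/
theorem result {S : Scheme.{u}} (X : AlgSp.Space S)
    (M : AlgSp.ModEt X.obj) [M.IsQuasicoherent] :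
    IsZero M ↔ AlgSp.WeakAssEt M = ∅ := by
  classical
  constructor
  · intro hM
    rw [Set.eq_empty_iff_forall_notMem]
    rintro x ⟨E, hE, u, hu, s, hs⟩
    have hs0 : s = 0 := Groth.Agent.Lib.T2H7.WeakAssEt.section_eq_zero_of_isZero M hM E s
    have htop : AlgSp.annSect s = ⊤ := by
      rw [Ideal.eq_top_iff_one, AlgSp.mem_annSect_iff, hs0, smul_zero]
    rw [htop, Ideal.minimalPrimes_top] at hs
    exact hs
  · intro h
    apply Groth.Agent.Lib.T2H7.WeakAssEt.isZero_of_forall_section_eq_zero
    apply Groth.Agent.Lib.T2H7.WeakAssEt.eq_zero_of_forall_affine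
    intro E hE s
    by_contra hs
    have hne : AlgSp.annSect s ≠ ⊤ := by
      intro htop
      have h1 : (1 : Γ(E.obj.left.left, ⊤)) ∈ AlgSp.annSect s := by rw [htop]; trivial
      rw [AlgSp.mem_annSect_iff, map_one, one_smul] at h1
      exact hs h1
    obtain ⟨⟨p, hp⟩⟩ := Ideal.nonempty_minimalPrimes hne
    have : p.IsPrime := hp.1.1
    obtain ⟨u, hu⟩ := Groth.Agent.Lib.T2H7.WeakAssEt.exists_primeAtPt_eq E.obj.left.left p
    have hmem : AlgSp.Points.ofPt E.obj.hom u ∈ AlgSp.WeakAssEt M :=
      ⟨E, hE, u, rfl, s, by rw [hu]; exact hp⟩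
    rw [h] at hmem
    exact hmem

end Groth.Agent.S10810
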