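import Groth.Statements.S10811
import Mathlib
import Groth.Agent.Lib.T2H7WeakAssEtD

set_option autoImplicit false
universe u
open CategoryTheory CategoryTheory.Limits AlgebraicGeometry Topology TopologicalSpace
open AlgSp

namespace Groth.Agent.S10811

/-- Let X be an algebraic space over a scheme S and 0 ⟶ F₁ ⟶ F₂ ⟶ F₃ ⟶ 0 a short exact sequence of
quasi-coherent O_X-modules on the small etale site of X. Then the weakly associated points satisfy
WeakAss(F₂) ⊆ WeakAss(F₁) ∪ WeakAss(F₃) and WeakAss(F₁) ⊆ WeakAss(F₂). -/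
theorem result {S : Scheme.{u}} (X : AlgSp.Space S)
    (C : ShortComplex (AlgSp.ModEt X.obj)) (hC : C.ShortExact)
    [C.X₁.IsQuasicoherent] [C.X₂.IsQuasicoherent] [C.X₃.IsQuasicoherent] :
    AlgSp.WeakAssEt C.X₂ ⊆ AlgSp.WeakAssEt C.X₁ ∪ AlgSp.WeakAssEt C.X₃ ∧
      AlgSp.WeakAssEt C.X₁ ⊆ AlgSp.WeakAssEt C.X₂ := by
  classical
  constructor
  · rintro x ⟨E, hE, u, hu, s, hs⟩
    obtain ⟨hinj, hex⟩ := Groth.Agent.Lib.T2H7.WeakAssEtD.sections_leftExact C hC E
    rcases Groth.Agent.Lib.T2H7.WeakAssEtD.weakAss_shortExact_aux (AlgSp.upΓ E)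
        (C.f.val.app (Opposite.op E)).hom (C.g.val.app (Opposite.op E)).hom hinj hex
        (fun m => AlgSp.annSect m) (fun m => AlgSp.annSect m) (fun m => AlgSp.annSect m)
        (fun m a => AlgSp.mem_annSect_iff m a) (fun m a => AlgSp.mem_annSect_iff m a)
        (fun m a => AlgSp.mem_annSect_iff m a) s _ hs with ⟨m₁, hm₁⟩ | h3
    · exact Or.inl ⟨E, hE, u, hu, m₁, hm₁⟩
    · exact Or.inr ⟨E, hE, u, hu, _, h3⟩
  · rintro x ⟨E, hE, u, hu, s, hs⟩
    obtain ⟨hinj, hex⟩ := Groth.Agent.Lib.T2H7.WeakAssEtD.sections_leftExact C hC E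
    refine ⟨E, hE, u, hu, (C.f.val.app (Opposite.op E)).hom s, ?_⟩
    have e : AlgSp.annSect ((C.f.val.app (Opposite.op E)).hom s) = AlgSp.annSect s := by
      ext b
      rw [AlgSp.mem_annSect_iff, AlgSp.mem_annSect_iff, ← map_smul]
      constructor
      · intro hb; exact hinj (by rw [map_zero]; exact hb)
      · intro hb; rw [hb, map_zero]
    rw [e]
    exact hs

end Groth.Agent.S10811
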