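import Groth.Statements.S10864
import Groth.Agent.Lib.T2H9ProjPt3

set_option autoImplicit false
set_option linter.style.haveILetI false
set_option linter.unusedVariables false
universe u
open Variety

namespace Groth.Agent.S10864

open CategoryTheory AlgebraicGeometry in
/-- Let k be an infinite field and X a closed subscheme of projective n-space over k, of dimension d
(topological Krull dimension, a natural number). Then there is a finite surjective morphism X →
P^d_k over k. -/
theorem result (k : Type u) [Field k] [Infinite k] (X : Scheme.{u})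
    (n : ℕ) (ι : X ⟶ CohB1.ProjSpace n k) [IsClosedImmersion ι] (d : ℕ) (hd : topologicalKrullDim X = d) :
    ∃ π : X ⟶ CohB1.ProjSpace d k, π ≫ CohB1.ProjSpace.toSpec d k = ι ≫ CohB1.ProjSpace.toSpec n k ∧
      IsFinite π ∧ Surjective π := by
  haveI : IsFinite ι := inferInstance
  obtain ⟨ρ, hρ, hfin, hs, -⟩ := Groth.Agent.Lib.T2H9.ProjPt.exists_finite_surjective k n ι d hd
  exact ⟨ρ, hρ, hfin, ⟨hs⟩⟩

end Groth.Agent.S10864
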