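import Groth.Statements.S10869
import Mathlib
import Groth.Agent.Lib.T2H5CounitGG
-- import your own Groth.Agent.* helpers here

set_option autoImplicit false
universe u
open Coh

namespace Groth.Agent.S10869

open CategoryTheory AlgebraicGeometry in
/-- For f : X → S quasi-compact and quasi-separated and F a quasi-coherent O_X-module, the counit
f^*f_*F → F is an epimorphism iff F is a quotient of f^*G for some quasi-coherent O_S-module G, iff
the restriction of F to the inverse image of every affine open of S is globally generated. -/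
theorem result {X S : Scheme.{u}} (f : X ⟶ S) [QuasiCompact f] [QuasiSeparated f]
    (F : X.Modules) (hF : Coh.IsQCoh F) :
    (Epi ((Scheme.Modules.pullbackPushforwardAdjunction f).counit.app F) ↔
      ∃ G : S.Modules, Coh.IsQCoh G ∧ ∃ φ : (Scheme.Modules.pullback f).obj G ⟶ F, Epi φ) ∧
    (Epi ((Scheme.Modules.pullbackPushforwardAdjunction f).counit.app F) ↔
      ∀ U : S.Opens, IsAffineOpen U → Curv2.IsGloballyGenerated (F.restrict (f ⁻¹ᵁ U).ι)) := by
  haveI : F.IsQuasicoherent := hF
  have hA : Epi ((Scheme.Modules.pullbackPushforwardAdjunction f).counit.app F) →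
      ∀ U : S.Opens, IsAffineOpen U → Curv2.IsGloballyGenerated (F.restrict (f ⁻¹ᵁ U).ι) :=
    fun h U hU => Groth.Agent.Lib.T2H5.CounitGG.isGloballyGenerated_restrict_of_epi_counit f F h U hU
  have hB : (∀ U : S.Opens, IsAffineOpen U → Curv2.IsGloballyGenerated (F.restrict (f ⁻¹ᵁ U).ι)) →
      Epi ((Scheme.Modules.pullbackPushforwardAdjunction f).counit.app F) := by
    intro h
    apply Groth.Agent.Lib.Helper23.CounitEpi.epi_counit_of_isGloballyGenerated
    intro x
    obtain ⟨V, hV, hxV, -⟩ := (TopologicalSpace.Opens.isBasis_iff_nbhd.1 S.isBasis_affineOpens)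
      (TopologicalSpace.Opens.mem_top (f x))
    exact ⟨V, hxV, h V hV⟩
  refine ⟨⟨fun h => ?_, ?_⟩, ⟨hA, hB⟩⟩
  · exact ⟨(Scheme.Modules.pushforward f).obj F,
      Groth.Agent.Lib.Helper23.QCohLocal.isQuasicoherent_pushforward f F,
      (Scheme.Modules.pullbackPushforwardAdjunction f).counit.app F, h⟩
  · rintro ⟨G, -, φ, hφ⟩
    haveI := hφ
    exact Groth.Agent.Lib.T2H5.CounitGG.epi_counit_of_epi_pullback f F G φ

end Groth.Agent.S10869
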