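import Groth.Statements.S10934
import Mathlib
import Groth.Agent.Lib.T2H6CMConvE

set_option autoImplicit false
universe u
open CategoryTheory CategoryTheory.Limits AlgebraicGeometry
open ProjDual

namespace Groth.Agent.S10934

/-- (a)⇔(b): let k be a field, i : X → P^N_k a closed immersion with X of dimension n, and write F(−q) =
F ⊗ i^*O(−q). Then X is an equidimensional Cohen–Macaulay scheme of dimension n — the local ring of
X at every closed point is Cohen–Macaulay of Krull dimension n — if and only if for every finite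
locally free O_X-module F (vector bundle) there is q₀ such that H^j(X, F(−q)) = 0 for all j < n and
all q ≥ q₀. -/
theorem result (k : Type u) [Field k] (N n : ℕ)
    {X : Scheme.{u}} (i : X ⟶ CohB1.ProjSpace N k) [IsClosedImmersion i] (hn : topologicalKrullDim ↥X = n) :
    (∀ x : X, IsClosed ({x} : Set ↥X) →
        LocCoh.IsCohenMacaulayLocalRing (X.presheaf.stalk x) ∧ ringKrullDim (X.presheaf.stalk x) = n) ↔
      ∀ F : X.Modules, FlatMod.IsFinLocFree F → ∃ q₀ : ℕ, ∀ q : ℕ, q₀ ≤ q → ∀ j : ℕ, j < n →
        Subsingleton (Coh.HH X (CohB1.tensorMod F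
          ((Scheme.Modules.pullback i).obj (Twist.twistProjSpace N k (-(q : ℤ))))) j) := by
  letI : X.Over (Spec (CommRingCat.of k)) := ⟨i ≫ CohB1.ProjSpace.toSpec N k⟩
  constructor
  · intro hCM F hF
    exact Groth.Agent.Lib.T2H6.CMConv.vanishing_of_cm k N n X i rfl hn hCM F hF
  · intro h
    obtain ⟨q₀, hq₀⟩ := h (Coh.structureModule X)
      (Groth.Agent.Lib.T2H5.PushUnit.isFinLocFree_structureModule X)
    apply Groth.Agent.Lib.T2H6.CMConv.cm_of_vanishing N k i n hn
    intro j hj
    refine ⟨(q₀ : ℤ), fun m hm => ?_⟩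
    obtain ⟨q, rfl⟩ : ∃ q : ℕ, m = q := ⟨m.toNat, (Int.toNat_of_nonneg (by omega)).symm⟩
    have hq : q₀ ≤ q := by exact_mod_cast hm
    have h1 := hq₀ q hq j hj
    exact Groth.Agent.Lib.T2H5.PnStruct.subsingleton_HH_of_iso
      (Groth.Agent.Lib.Helper23.TensorUnit.unitTensorIso _) j h1

end Groth.Agent.S10934
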