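import Groth.Statements.S10959
import Groth.Agent.Lib.T2H7NRQ

set_option autoImplicit false
universe u
open CategoryTheory MonoidalCategory CartesianMonoidalCategory MonObj GrpObj AlgebraicGeometry
open AbVar

namespace Groth.Agent.S10959

/-- Let K be an algebraically closed field and A an abelian variety over K (a group scheme over Spec K
with proper smooth structure morphism and irreducible underlying space). Let Z be a closed subset of
A which is not all of A, and z a K-valued point of A. Then there is a K-valued point x of A such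
that the point underlying z lies neither in the translate of Z by x nor in the translate of Z by the
inverse of x; here the translation by x is the morphism A → A given on points by a ↦ a·x, the
product of the identity and the constant map x in the group of morphisms into A. (The published
statement takes Z to be the support of an effective divisor; this row allows any closed subset other
than A.) -/
theorem result
    (K : Type u) [Field K] [IsAlgClosed K] (A : Over (Spec (CommRingCat.of K)))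
    [GrpObj A] [IsProper A.hom] [Smooth A.hom] [IrreducibleSpace A.left]
    (Z : Set A.left) (hZ : IsClosed Z) (hZne : Z ≠ Set.univ)
    (z : 𝟙_ (Over (Spec (CommRingCat.of K))) ⟶ A) :
    ∃ x : 𝟙_ (Over (Spec (CommRingCat.of K))) ⟶ A,
      Disjoint (Set.range z.left.base)
        ((𝟙 A * (toUnit A ≫ x)).left.base '' Z ∪ (𝟙 A * (toUnit A ≫ x)⁻¹).left.base '' Z) := by
  -- the two maps a ↦ z a⁻¹ and a ↦ z⁻¹ ... 
  have hu : ∀ y : 𝟙_ (Over (Spec (CommRingCat.of K))) ⟶ A,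
      toUnit (𝟙_ (Over (Spec (CommRingCat.of K)))) ≫ y = y := by
    intro y
    rw [toUnit_unique (toUnit _) (𝟙 _), Category.id_comp]
  -- f₁ a = z a⁻¹ with right inverse g₁ b = b⁻¹ z ; f₂ a = a⁻¹ z … choose: T_x a = a x, so
  -- z ∈ T_x Z iff z x⁻¹ ∈ Z ; z ∈ T_{x⁻¹} Z iff z x ∈ Z
  let f₁ : A ⟶ A := (toUnit A ≫ z) * (𝟙 A)⁻¹
  let g₁ : A ⟶ A := (𝟙 A)⁻¹ * (toUnit A ≫ z)
  let f₂ : A ⟶ A := (toUnit A ≫ z) * 𝟙 A
  let g₂ : A ⟶ A := (toUnit A ≫ z)⁻¹ * 𝟙 A
  have h1 : g₁ ≫ f₁ = 𝟙 A := by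
    change g₁ ≫ ((toUnit A ≫ z) * (𝟙 A)⁻¹) = 𝟙 A
    rw [MonObj.comp_mul, GrpObj.comp_inv, Category.comp_id, ← Category.assoc,
      toUnit_unique (g₁ ≫ toUnit A) (toUnit A)]
    change (toUnit A ≫ z) * ((𝟙 A)⁻¹ * (toUnit A ≫ z))⁻¹ = 𝟙 A
    rw [_root_.mul_inv_rev, _root_.inv_inv, mul_inv_cancel_left]
  have h2 : g₂ ≫ f₂ = 𝟙 A := by
    change g₂ ≫ ((toUnit A ≫ z) * 𝟙 A) = 𝟙 A
    rw [MonObj.comp_mul, Category.comp_id, ← Category.assoc,
      toUnit_unique (g₂ ≫ toUnit A) (toUnit A)]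
    change (toUnit A ≫ z) * ((toUnit A ≫ z)⁻¹ * 𝟙 A) = 𝟙 A
    rw [mul_inv_cancel_left]
  have hs1 : Function.Surjective f₁.left.base := by
    intro b
    refine ⟨g₁.left.base b, ?_⟩
    change (g₁ ≫ f₁).left.base b = b
    rw [h1]
    rfl
  have hs2 : Function.Surjective f₂.left.base := by
    intro b
    refine ⟨g₂.left.base b, ?_⟩
    change (g₂ ≫ f₂).left.base b = b
    rw [h2]
    rfl
  obtain ⟨w, hw⟩ : ∃ w, w ∉ Z := by
    by_contra hcon
    apply hZne
    ext w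
    simp only [Set.mem_univ, iff_true]
    by_contra hw
    exact hcon ⟨w, hw⟩
  have hU1 : IsOpen (f₁.left.base ⁻¹' Zᶜ) := hZ.isOpen_compl.preimage f₁.left.base.hom.continuous
  have hU2 : IsOpen (f₂.left.base ⁻¹' Zᶜ) := hZ.isOpen_compl.preimage f₂.left.base.hom.continuous
  have hn1 : (f₁.left.base ⁻¹' Zᶜ).Nonempty := by
    obtain ⟨a, ha⟩ := hs1 w
    exact ⟨a, by simp only [Set.mem_preimage, Set.mem_compl_iff, ha]; exact hw⟩
  have hn2 : (f₂.left.base ⁻¹' Zᶜ).Nonempty := by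
    obtain ⟨a, ha⟩ := hs2 w
    exact ⟨a, by simp only [Set.mem_preimage, Set.mem_compl_iff, ha]; exact hw⟩
  have hne : ((f₁.left.base ⁻¹' Zᶜ) ∩ (f₂.left.base ⁻¹' Zᶜ)).Nonempty := by
    have := (PreirreducibleSpace.isPreirreducible_univ (X := A.left)) _ _ hU1 hU2
      (by rw [Set.univ_inter]; exact hn1) (by rw [Set.univ_inter]; exact hn2)
    rw [Set.univ_inter] at this
    exact this
  have : LocallyOfFiniteType A.hom := inferInstance
  obtain ⟨x, hx⟩ := Groth.Agent.Lib.T2H7.NRQ.exists_pt_mem (X := A) _ (hU1.inter hU2).isLocallyClosed hne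
  refine ⟨x, ?_⟩
  have e1 : x ≫ f₁ = z * x⁻¹ := by
    change x ≫ ((toUnit A ≫ z) * (𝟙 A)⁻¹) = _
    rw [MonObj.comp_mul, GrpObj.comp_inv, Category.comp_id, ← Category.assoc,
      toUnit_unique (x ≫ toUnit A) (toUnit _), hu]
  have e2 : x ≫ f₂ = z * x := by
    change x ≫ ((toUnit A ≫ z) * 𝟙 A) = _
    rw [MonObj.comp_mul, Category.comp_id, ← Category.assoc,
      toUnit_unique (x ≫ toUnit A) (toUnit _), hu]
  have hz1 : Groth.Agent.Lib.T2H7.NRQ.pt (z * x⁻¹) ∉ Z := by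
    rw [← e1, Groth.Agent.Lib.T2H7.NRQ.pt_comp]
    exact hx.1
  have hz2 : Groth.Agent.Lib.T2H7.NRQ.pt (z * x) ∉ Z := by
    rw [← e2, Groth.Agent.Lib.T2H7.NRQ.pt_comp]
    exact hx.2
  -- inverse translations
  have key : ∀ y : 𝟙_ (Over (Spec (CommRingCat.of K))) ⟶ A, ∀ a : A.left,
      (𝟙 A * (toUnit A ≫ y)).left.base a = Groth.Agent.Lib.T2H7.NRQ.pt z → a = Groth.Agent.Lib.T2H7.NRQ.pt (z * y⁻¹) := by
    intro y a ha
    have h3 : (𝟙 A * (toUnit A ≫ y)) ≫ (𝟙 A * (toUnit A ≫ y⁻¹)) = 𝟙 A := by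
      rw [MonObj.comp_mul, Category.comp_id, ← Category.assoc,
        toUnit_unique ((𝟙 A * (toUnit A ≫ y)) ≫ toUnit A) (toUnit A), GrpObj.comp_inv,
        mul_inv_cancel_right]
    have h4 : a = (𝟙 A * (toUnit A ≫ y⁻¹)).left.base ((𝟙 A * (toUnit A ≫ y)).left.base a) := by
      change a = ((𝟙 A * (toUnit A ≫ y)) ≫ (𝟙 A * (toUnit A ≫ y⁻¹))).left.base a
      rw [h3]
      rfl
    rw [h4, ha, ← Groth.Agent.Lib.T2H7.NRQ.pt_comp, MonObj.comp_mul, Category.comp_id, ← Category.assoc,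
      toUnit_unique (z ≫ toUnit A) (toUnit _), hu]
  rw [Groth.Agent.Lib.T2H7.NRQ.range_left, Set.disjoint_singleton_left]
  rintro (⟨a, haZ, ha⟩ | ⟨a, haZ, ha⟩)
  · have := key x a ha
    rw [this] at haZ
    exact hz1 haZ
  · have h5 : (toUnit A ≫ x)⁻¹ = toUnit A ≫ x⁻¹ := (GrpObj.comp_inv _ _).symm
    rw [h5] at ha
    have := key x⁻¹ a ha
    rw [_root_.inv_inv] at this
    rw [this] at haZ
    exact hz2 haZ

end Groth.Agent.S10959
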