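import Groth.Statements.S11081
import Groth.Agent.Lib.T2H3TraceDedekind
-- import your own Groth.Agent.* helpers here

set_option autoImplicit false
universe u
attribute [local instance] FractionRing.liftAlgebra
open CAlg

namespace Groth.Agent.S11081

set_option linter.deprecated false

open Ideal UniqueFactorizationMonoid in
/-- the sum over the factors -/
theorem aux1 (A B : Type u) [CommRing A] [CommRing B]
    [IsDedekindDomain A] [IsDedekindDomain B] [Algebra A B] [Module.Finite A B] [Module.IsTorsionFree A B]
    (p : Ideal A) [p.IsMaximal] (hp : p ≠ ⊥) (y : B) :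
    Ideal.Quotient.mk p (Algebra.intTrace A B y) =
      ∑ P : (factors (p.map (algebraMap A B))).toFinset,
        Algebra.trace (A ⧸ p) (B ⧸ P.1 ^ (p.ramificationIdx' P.1)) (Ideal.Quotient.mk _ y) := by
  classical
  have hpB : p.map (algebraMap A B) ≠ ⊥ := Ideal.map_ne_bot_of_ne_bot hp
  letI : Field (A ⧸ p) := Ideal.Quotient.field p
  rw [← Algebra.trace_quotient_eq_of_isDedekindDomain (p := p) (x := y)]
  let E : (B ⧸ p.map (algebraMap A B)) ≃ₐ[A ⧸ p]
      (∀ P : (factors (p.map (algebraMap A B))).toFinset, B ⧸ P.1 ^ (p.ramificationIdx' P.1)) :=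
    AlgEquiv.ofRingEquiv (f := Factors.piQuotientEquiv p hpB) (fun x => by
      obtain ⟨a, rfl⟩ := Ideal.Quotient.mk_surjective x
      rfl)
  rw [← Algebra.trace_eq_of_algEquiv E]
  haveI : ∀ P : (factors (p.map (algebraMap A B))).toFinset,
      Module.Finite (A ⧸ p) (B ⧸ P.1 ^ (p.ramificationIdx' P.1)) := fun P =>
    Factors.finiteDimensional_quotient_pow p P
  rw [Groth.Agent.Lib.T2H3.TraceLocal.trace_pi]
  rfl


/-- Let A be a Dedekind domain, B a Dedekind domain which is a finitely generated torsion-free A-algebra
whose fraction field is separable over that of A (B is the integral closure of A in a finite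
separable extension), p a nonzero prime ideal of A and y an element of B. Then the class modulo p of
the trace of y from B to A is the sum over the primes Q of B lying over p of e(Q|p) times the trace,
from B/Q to A/p, of the class of y modulo Q. -/
theorem result (A B : Type u) [CommRing A] [CommRing B]
    [IsDedekindDomain A] [IsDedekindDomain B] [Algebra A B] [Module.Finite A B] [Module.IsTorsionFree A B]
    [Algebra.IsSeparable (FractionRing A) (FractionRing B)]
    (p : Ideal A) [p.IsMaximal] (hp : p ≠ ⊥) (y : B) :
    Ideal.Quotient.mk p (Algebra.intTrace A B y) =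
      ∑ᶠ Q : p.primesOver B,
        Q.1.ramificationIdx A •
          Algebra.trace (A ⧸ p) (B ⧸ Q.1) (Ideal.Quotient.mk Q.1 y) := by
  classical
  rw [aux1 A B p hp y, finsum_eq_sum_of_fintype]
  have hmem : ∀ P : Ideal B, P ∈ (UniqueFactorizationMonoid.factors
      (p.map (algebraMap A B))).toFinset ↔ P ∈ p.primesOver B := fun P =>
    IsDedekindDomain.mem_primesOverFinset_iff hp B
  refine Fintype.sum_equiv (Equiv.subtypeEquivRight hmem) _ _ (fun P => ?_)
  haveI : P.1.IsPrime := ((hmem P.1).mp P.2).1
  haveI : P.1.LiesOver p := ((hmem P.1).mp P.2).2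
  exact Groth.Agent.Lib.T2H3.TraceDedekind.trace_pow_quot p hp P.1 y

end Groth.Agent.S11081
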