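import Groth.Statements.S11086
import Mathlib

set_option autoImplicit false
universe u
attribute [local instance] FractionRing.liftAlgebra
open CAlg

namespace Groth.Agent.S11086

attribute [local instance] FractionRing.isScalarTower_liftAlgebra

section DiffLoc

open Module

theorem mem_diff_iff (A K : Type*) {L : Type*} (B : Type*) [CommRing A] [Field K] [CommRing B]
    [Field L] [Algebra A K] [Algebra B L] [Algebra A B] [Algebra K L] [Algebra A L]
    [IsScalarTower A K L] [IsScalarTower A B L] [IsDomain A] [IsFractionRing A K]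
    [FiniteDimensional K L] [Algebra.IsSeparable K L] [IsIntegralClosure B A L]
    [IsIntegrallyClosed A] [IsDedekindDomain B] [Module.IsTorsionFree A B] [IsFractionRing B L]
    (x : B) :
    x ∈ differentIdeal A B ↔ ∀ y : L,
      (∀ b : B, Algebra.trace K L (y * algebraMap B L b) ∈ (algebraMap A K).range) →
      algebraMap B L x * y ∈ (algebraMap B L).range := by
  have h1 : x ∈ differentIdeal A B ↔
      algebraMap B L x ∈ IsLocalization.coeSubmodule L (differentIdeal A B) := by
    rw [IsLocalization.mem_coeSubmodule]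
    constructor
    · intro hx; exact ⟨x, hx, rfl⟩
    · rintro ⟨y, hy, e⟩
      rwa [← IsFractionRing.injective B L e]
  rw [h1, coeSubmodule_differentIdeal A K, Submodule.mem_div_iff_forall_mul_mem]
  constructor
  · intro h y hy
    have hy' : y ∈ Submodule.traceDual A K (1 : Submodule B L) := by
      rw [Submodule.mem_traceDual]
      intro a ha
      obtain ⟨b, rfl⟩ := Submodule.mem_one.mp ha
      rw [Algebra.traceForm_apply]
      exact hy b
    obtain ⟨b, hb⟩ := Submodule.mem_one.mp (h y hy')
    exact ⟨b, hb⟩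
  · intro h y hy
    rw [Submodule.mem_traceDual] at hy
    obtain ⟨b, hb⟩ := h y (fun b => by
      have h2 := hy (algebraMap B L b) (Submodule.mem_one.mpr ⟨b, rfl⟩)
      rwa [Algebra.traceForm_apply] at h2)
    exact Submodule.mem_one.mpr ⟨b, hb⟩

variable (A B K L Aₛ Bₛ : Type*) [CommRing A] [CommRing B] [Field K] [Field L] [CommRing Aₛ]
    [CommRing Bₛ]
    [Algebra A K] [Algebra B L] [Algebra A B] [Algebra K L] [Algebra A L] [IsScalarTower A K L]
    [IsScalarTower A B L]
    (S : Submonoid A)
    [Algebra A Aₛ] [Algebra B Bₛ] [Algebra Aₛ Bₛ] [Algebra A Bₛ] [IsScalarTower A Aₛ Bₛ]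
    [IsScalarTower A B Bₛ]
    [IsLocalization S Aₛ] [IsLocalization (Algebra.algebraMapSubmonoid B S) Bₛ]
    [Algebra Aₛ K] [IsScalarTower A Aₛ K]
    [Algebra Bₛ L] [IsScalarTower B Bₛ L]
    [Algebra Aₛ L] [IsScalarTower Aₛ K L] [IsScalarTower Aₛ Bₛ L]

include S in
theorem sub_a [Module.Finite A B] (y : L)
    (hy : ∀ b' : Bₛ, Algebra.trace K L (y * algebraMap Bₛ L b') ∈ (algebraMap Aₛ K).range) :
    ∃ s ∈ S, ∀ b : B,
      Algebra.trace K L ((algebraMap A L s * y) * algebraMap B L b) ∈ (algebraMap A K).range := by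
  classical
  obtain ⟨G, hG⟩ := (Module.Finite.fg_top : (⊤ : Submodule A B).FG)
  have h0 : ∀ g : B, ∃ α : Aₛ, algebraMap Aₛ K α = Algebra.trace K L (y * algebraMap B L g) := by
    intro g
    obtain ⟨α, hα⟩ := hy (algebraMap B Bₛ g)
    exact ⟨α, by rw [hα, ← IsScalarTower.algebraMap_apply B Bₛ L]⟩
  choose α hα using h0
  obtain ⟨s, hs⟩ := IsLocalization.exist_integer_multiples S G α
  refine ⟨s, s.2, fun b => ?_⟩
  have hb : b ∈ Submodule.span A (G : Set B) := by rw [hG]; trivial
  have hsm : ∀ (a : A) (x : L), algebraMap A L a * x = a • x := fun a x => (Algebra.smul_def a x).symm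
  have hsmK : ∀ (a : A) (x : Aₛ), a • algebraMap Aₛ K x = algebraMap Aₛ K (a • x) := fun a x => by
    rw [Algebra.smul_def, Algebra.smul_def, RingHom.map_mul, ← IsScalarTower.algebraMap_apply A Aₛ K]
  refine Submodule.span_induction (p := fun b _ => Algebra.trace K L
    ((algebraMap A L s * y) * algebraMap B L b) ∈ (algebraMap A K).range) ?_ ?_ ?_ ?_ hb
  · intro g hg
    obtain ⟨a, ha⟩ := hs g hg
    refine ⟨a, ?_⟩
    rw [mul_assoc, hsm, LinearMap.map_smul_of_tower, ← hα g, hsmK, ← ha,
      ← IsScalarTower.algebraMap_apply A Aₛ K]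
  · refine ⟨0, ?_⟩
    rw [map_zero, map_zero, mul_zero, map_zero]
  · rintro u v _ _ ⟨a1, h1⟩ ⟨a2, h2⟩
    refine ⟨a1 + a2, ?_⟩
    rw [map_add, h1, h2, map_add, mul_add, map_add]
  · rintro a u _ ⟨a1, h1⟩
    refine ⟨a * a1, ?_⟩
    rw [Algebra.smul_def a u, RingHom.map_mul (algebraMap B L),
      ← IsScalarTower.algebraMap_apply A B L,
      mul_left_comm, hsm, LinearMap.map_smul_of_tower, ← h1, Algebra.smul_def,
      RingHom.map_mul (algebraMap A K)]

include S in
theorem sub_b (c : L)
    (hc : ∀ b : B, Algebra.trace K L (c * algebraMap B L b) ∈ (algebraMap A K).range)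
    (b' : Bₛ) : Algebra.trace K L (c * algebraMap Bₛ L b') ∈ (algebraMap Aₛ K).range := by
  obtain ⟨⟨b, m⟩, hbm⟩ := IsLocalization.surj (Algebra.algebraMapSubmonoid B S) b'
  obtain ⟨s, hsS, hsm⟩ := Submonoid.mem_map.mp m.2
  obtain ⟨a, ha⟩ := hc b
  obtain ⟨u, hu⟩ := IsLocalization.map_units Aₛ (⟨s, hsS⟩ : S)
  have e1 : algebraMap Bₛ L b' * algebraMap A L s = algebraMap B L b := by
    have h := congrArg (algebraMap Bₛ L) hbm
    simp only [map_mul] at h
    rw [← IsScalarTower.algebraMap_apply B Bₛ L, ← IsScalarTower.algebraMap_apply B Bₛ L,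
      ← hsm, ← IsScalarTower.algebraMap_apply A B L] at h
    exact h
  have e2 : Algebra.trace K L (c * algebraMap Bₛ L b') * algebraMap A K s = algebraMap A K a := by
    rw [ha, ← e1, mul_comm _ (algebraMap A K s), ← Algebra.smul_def,
      ← LinearMap.map_smul_of_tower, Algebra.smul_def]
    congr 1
    ring
  have e3 : algebraMap A K s = algebraMap Aₛ K (u : Aₛ) := by
    rw [hu, ← IsScalarTower.algebraMap_apply A Aₛ K]
  refine ⟨algebraMap A Aₛ a * ((u⁻¹ : Aₛˣ) : Aₛ), ?_⟩
  rw [map_mul, ← IsScalarTower.algebraMap_apply A Aₛ K, ← e2, e3, mul_assoc, ← map_mul,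
    Units.mul_inv, map_one, mul_one]

include S in
theorem key [IsDomain A] [IsFractionRing A K] [FiniteDimensional K L] [Algebra.IsSeparable K L]
    [IsIntegralClosure B A L] [IsIntegrallyClosed A] [IsDedekindDomain B]
    [Module.IsTorsionFree A B] [IsFractionRing B L] [Module.Finite A B]
    [IsDomain Aₛ] [IsIntegrallyClosed Aₛ] [IsDedekindDomain Bₛ] [Module.IsTorsionFree Aₛ Bₛ]
    [IsFractionRing Aₛ K] [IsFractionRing Bₛ L] [IsIntegralClosure Bₛ Aₛ L] :
    Ideal.map (algebraMap B Bₛ) (differentIdeal A B) = differentIdeal Aₛ Bₛ := by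
  have hAL : ∀ a : A, algebraMap A L a = algebraMap Aₛ L (algebraMap A Aₛ a) := fun a => by
    rw [IsScalarTower.algebraMap_apply A K L, IsScalarTower.algebraMap_apply A Aₛ K,
      ← IsScalarTower.algebraMap_apply Aₛ K L]
  apply le_antisymm
  · rw [Ideal.map_le_iff_le_comap]
    intro d hd
    rw [Ideal.mem_comap, mem_diff_iff Aₛ K (L := L) Bₛ]
    intro y hy
    obtain ⟨s, hsS, hs⟩ := sub_a A B K L Aₛ Bₛ S y hy
    obtain ⟨b₀, hb₀⟩ := (mem_diff_iff A K (L := L) B d).mp hd (algebraMap A L s * y) hs
    obtain ⟨u, hu⟩ := IsLocalization.map_units Aₛ (⟨s, hsS⟩ : S)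
    refine ⟨algebraMap Aₛ Bₛ ((u⁻¹ : Aₛˣ) : Aₛ) * algebraMap B Bₛ b₀, ?_⟩
    have h1 : algebraMap A L s = algebraMap Aₛ L (u : Aₛ) := by rw [hu, hAL]
    have h2 : algebraMap Aₛ L ((u⁻¹ : Aₛˣ) : Aₛ) * algebraMap Aₛ L (u : Aₛ) = 1 := by
      rw [← map_mul, Units.inv_mul, map_one]
    rw [map_mul, ← IsScalarTower.algebraMap_apply Aₛ Bₛ L, ← IsScalarTower.algebraMap_apply B Bₛ L,
      hb₀, ← IsScalarTower.algebraMap_apply B Bₛ L, h1]
    calc algebraMap Aₛ L ((u⁻¹ : Aₛˣ) : Aₛ) * (algebraMap B L d * (algebraMap Aₛ L (u : Aₛ) * y))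
        = (algebraMap Aₛ L ((u⁻¹ : Aₛˣ) : Aₛ) * algebraMap Aₛ L (u : Aₛ)) *
          (algebraMap B L d * y) := by ring
      _ = algebraMap B L d * y := by rw [h2, one_mul]
  · intro z hz
    rw [mem_diff_iff Aₛ K (L := L) Bₛ] at hz
    have hone : (1 : L) ∈ (IsLocalization.coeSubmodule L (differentIdeal A B) *
        Submodule.traceDual A K (1 : Submodule B L) : Submodule B L) := by
      have h := coeIdeal_differentIdeal A K L B
      have hne : FractionalIdeal.dual A K (1 : FractionalIdeal (nonZeroDivisors B) L) ≠ 0 :=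
        FractionalIdeal.dual_ne_zero A K one_ne_zero
      have h2 : (↑(differentIdeal A B) : FractionalIdeal (nonZeroDivisors B) L) *
          FractionalIdeal.dual A K 1 = 1 := by
        rw [h, inv_mul_cancel₀ hne]
      have h3 := congrArg (fun I : FractionalIdeal (nonZeroDivisors B) L => (I : Submodule B L)) h2
      simp only [FractionalIdeal.coe_mul, FractionalIdeal.coe_coeIdeal,
        FractionalIdeal.coe_dual_one, FractionalIdeal.coe_one] at h3
      rw [h3]
      exact Submodule.mem_one.mpr ⟨1, map_one _⟩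
    have claim : ∀ t ∈ (IsLocalization.coeSubmodule L (differentIdeal A B) *
        Submodule.traceDual A K (1 : Submodule B L) : Submodule B L),
        ∃ w ∈ Ideal.map (algebraMap B Bₛ) (differentIdeal A B),
          algebraMap Bₛ L w = algebraMap Bₛ L z * t := by
      intro t ht
      refine Submodule.mul_induction_on ht ?_ ?_
      · intro d' hd' c hc
        obtain ⟨d, hd, rfl⟩ := (IsLocalization.mem_coeSubmodule L _).mp hd'
        have hc' : ∀ b : B,
            Algebra.trace K L (c * algebraMap B L b) ∈ (algebraMap A K).range := by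
          rw [Submodule.mem_traceDual] at hc
          intro b
          have h2 := hc _ (Submodule.mem_one.mpr ⟨b, rfl⟩)
          rwa [Algebra.traceForm_apply] at h2
        obtain ⟨w, hw⟩ := hz c (sub_b A B K L Aₛ Bₛ S c hc')
        refine ⟨algebraMap B Bₛ d * w,
          Ideal.mul_mem_right _ _ (Ideal.mem_map_of_mem _ hd), ?_⟩
        rw [map_mul, hw, ← IsScalarTower.algebraMap_apply B Bₛ L]
        ring
      · rintro x y ⟨w1, hw1, e1⟩ ⟨w2, hw2, e2⟩
        exact ⟨w1 + w2, Ideal.add_mem _ hw1 hw2, by rw [map_add, e1, e2, mul_add]⟩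
    obtain ⟨w, hw, e⟩ := claim 1 hone
    rw [mul_one] at e
    rwa [← IsFractionRing.injective Bₛ L e]

end DiffLoc


/-- Let A be a Dedekind domain, B a Dedekind domain which is a finitely generated torsion-free A-algebra
with fraction field separable over that of A (the integral closure of A in a finite separable
extension), and S a submonoid of A consisting of non-zero-divisors. Let A_S and B_S be localizations
of A at S and of B at the image of S, with B_S an algebra over A_S compatibly with A and B (so A_S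
is integrally closed and B_S is a Dedekind domain, torsion-free over A_S). Then the ideal of B_S
generated by the different of B over A is the different of B_S over A_S. -/
theorem result (A B : Type u) [CommRing A] [CommRing B]
    [IsDedekindDomain A] [IsDedekindDomain B] [Algebra A B] [Module.Finite A B] [Module.IsTorsionFree A B]
    [Algebra.IsSeparable (FractionRing A) (FractionRing B)]
    (S : Submonoid A) (hS : S ≤ nonZeroDivisors A)
    (Aₛ Bₛ : Type u) [CommRing Aₛ] [CommRing Bₛ] [Algebra A Aₛ] [Algebra B Bₛ] [Algebra Aₛ Bₛ]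
    [Algebra A Bₛ] [IsScalarTower A Aₛ Bₛ] [IsScalarTower A B Bₛ]
    [IsLocalization S Aₛ] [IsLocalization (Algebra.algebraMapSubmonoid B S) Bₛ]
    [IsDomain Aₛ] [IsIntegrallyClosed Aₛ] [IsDedekindDomain Bₛ] [Module.IsTorsionFree Aₛ Bₛ] :
    Ideal.map (algebraMap B Bₛ) (differentIdeal A B) = differentIdeal Aₛ Bₛ := by
  classical
  have hSK : ∀ y : S, IsUnit (algebraMap A (FractionRing A) y) := fun y =>
    IsUnit.mk0 _ ((map_ne_zero_iff _ (IsFractionRing.injective A (FractionRing A))).mpr
      (nonZeroDivisors.ne_zero (hS y.2)))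
  letI algAK : Algebra Aₛ (FractionRing A) := (IsLocalization.lift hSK).toAlgebra
  haveI : IsScalarTower A Aₛ (FractionRing A) :=
    IsScalarTower.of_algebraMap_eq (fun x => (IsLocalization.lift_eq hSK x).symm)
  haveI : IsFractionRing Aₛ (FractionRing A) :=
    IsFractionRing.isFractionRing_of_isDomain_of_isLocalization S Aₛ (FractionRing A)
  have hSL : ∀ y : Algebra.algebraMapSubmonoid B S, IsUnit (algebraMap B (FractionRing B) y) := by
    rintro ⟨y, hy⟩
    obtain ⟨s, hs, rfl⟩ := Submonoid.mem_map.mp hy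
    refine IsUnit.mk0 _ ((map_ne_zero_iff _ (IsFractionRing.injective B (FractionRing B))).mpr ?_)
    exact (map_ne_zero_iff _ (FaithfulSMul.algebraMap_injective A B)).mpr
      (nonZeroDivisors.ne_zero (hS hs))
  letI algBL : Algebra Bₛ (FractionRing B) := (IsLocalization.lift hSL).toAlgebra
  haveI : IsScalarTower B Bₛ (FractionRing B) :=
    IsScalarTower.of_algebraMap_eq (fun x => (IsLocalization.lift_eq hSL x).symm)
  haveI : IsFractionRing Bₛ (FractionRing B) :=
    IsFractionRing.isFractionRing_of_isDomain_of_isLocalization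
      (Algebra.algebraMapSubmonoid B S) Bₛ (FractionRing B)
  letI algAL : Algebra Aₛ (FractionRing B) :=
    ((algebraMap (FractionRing A) (FractionRing B)).comp (algebraMap Aₛ (FractionRing A))).toAlgebra
  haveI : IsScalarTower Aₛ (FractionRing A) (FractionRing B) :=
    IsScalarTower.of_algebraMap_eq (fun x => rfl)
  haveI : IsScalarTower Aₛ Bₛ (FractionRing B) := by
    apply IsScalarTower.of_algebraMap_eq'
    apply IsLocalization.ringHom_ext S
    ext a
    simp only [RingHom.comp_apply]
    rw [← IsScalarTower.algebraMap_apply A Aₛ Bₛ, IsScalarTower.algebraMap_apply A B Bₛ,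
      ← IsScalarTower.algebraMap_apply B Bₛ (FractionRing B),
      ← IsScalarTower.algebraMap_apply A B (FractionRing B)]
    show algebraMap (FractionRing A) (FractionRing B) (algebraMap Aₛ (FractionRing A)
      (algebraMap A Aₛ a)) = _
    rw [← IsScalarTower.algebraMap_apply A Aₛ (FractionRing A),
      ← IsScalarTower.algebraMap_apply A (FractionRing A) (FractionRing B)]
  haveI : Module.Finite Aₛ Bₛ := Module.Finite.of_isLocalization A B S
  haveI : IsIntegralClosure Bₛ Aₛ (FractionRing B) :=
    IsIntegralClosure.of_isIntegrallyClosed Bₛ Aₛ (FractionRing B)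
  exact key A B (FractionRing A) (FractionRing B) Aₛ Bₛ S

end Groth.Agent.S11086
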