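import Groth.Statements.S11104
import Mathlib
import Groth.Agent.Lib.Helper5RLR2
import Groth.Agent.Lib.Helper6SepBC
import Groth.Agent.Lib.Helper10Weier
import Groth.Agent.S11097

set_option autoImplicit false
set_option linter.style.haveILetI false
set_option linter.unusedSimpArgs false
universe u
open Neron

namespace Groth.Agent.S11104

open Polynomial IsLocalRing
open scoped Polynomial.Bivariate

section General

variable {A : Type u} [CommRing A]

/-- An additive map satisfying the Leibniz rule maps `p²` into `p`. -/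
theorem leibniz_mem_of_mem_sq (D : A →+ A) (hD : ∀ a b, D (a * b) = a * D b + b * D a)
    (p : Ideal A) {y : A} (hy : y ∈ p ^ 2) : D y ∈ p := by
  rw [pow_two] at hy
  refine Submodule.mul_induction_on hy ?_ ?_
  · intro a ha b hb
    rw [hD]
    exact Ideal.add_mem _ (Ideal.mul_mem_right _ _ ha) (Ideal.mul_mem_right _ _ hb)
  · intro a b ha hb
    rw [map_add]
    exact Ideal.add_mem _ ha hb

/-- Pointwise Jacobian criterion: if `A` is a regular ring, `D` satisfies the Leibniz rule and
`D f ∉ p` for the preimage `p` of a prime `q` of `A/(f)`, then `(A/(f))_q` is regular. -/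
theorem isRegularLocalRing_localization_quotient_of_leibniz [IsRegularRing A] (f : A)
    (D : A →+ A) (hD : ∀ a b, D (a * b) = a * D b + b * D a)
    (q : Ideal (A ⧸ Ideal.span ({f} : Set A))) [hq : q.IsPrime]
    (hDf : D f ∉ q.comap (Ideal.Quotient.mk (Ideal.span ({f} : Set A)))) :
    IsRegularLocalRing (Localization.AtPrime q) := by
  apply Groth.Agent.Lib.Helper5.isRegularLocalRing_localization_quotient_of
  have hpprime : (q.comap (Ideal.Quotient.mk (Ideal.span ({f} : Set A)))).IsPrime := inferInstance
  have hfp : f ∈ q.comap (Ideal.Quotient.mk (Ideal.span ({f} : Set A))) := by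
    rw [Ideal.mem_comap]
    have : Ideal.Quotient.mk (Ideal.span ({f} : Set A)) f = 0 :=
      Ideal.Quotient.eq_zero_iff_mem.mpr (Ideal.mem_span_singleton_self f)
    rw [this]
    exact q.zero_mem
  rw [Ideal.map_span, Set.image_singleton]
  have hmax := IsLocalization.AtPrime.map_eq_maximalIdeal
    (q.comap (Ideal.Quotient.mk (Ideal.span ({f} : Set A))))
    (Localization.AtPrime (q.comap (Ideal.Quotient.mk (Ideal.span ({f} : Set A)))))
  have hfm : algebraMap A (Localization.AtPrime
      (q.comap (Ideal.Quotient.mk (Ideal.span ({f} : Set A))))) f ∈ IsLocalRing.maximalIdeal _ := by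
    rw [← hmax]
    exact Ideal.mem_map_of_mem _ hfp
  have hloc : IsLocalRing (Localization.AtPrime
      (q.comap (Ideal.Quotient.mk (Ideal.span ({f} : Set A)))) ⧸ Ideal.span {algebraMap A
        (Localization.AtPrime (q.comap (Ideal.Quotient.mk (Ideal.span ({f} : Set A))))) f}) := by
    apply Groth.Agent.Lib.Helper5.isLocalRing_quotient
    intro htop
    rw [Ideal.span_singleton_eq_top] at htop
    exact (IsLocalRing.mem_maximalIdeal _).mp hfm htop
  refine (Groth.Agent.Lib.Helper5.isRegularLocalRing_quotient_span_singleton hfm ?_).1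
  rw [← hmax, ← Ideal.map_pow]
  intro hmem
  rw [IsLocalization.algebraMap_mem_map_algebraMap_iff
    (q.comap (Ideal.Quotient.mk (Ideal.span ({f} : Set A)))).primeCompl] at hmem
  obtain ⟨s, hs, hsf⟩ := hmem
  have h1 := leibniz_mem_of_mem_sq D hD _ hsf
  rw [hD] at h1
  have h2 : f * D s ∈ q.comap (Ideal.Quotient.mk (Ideal.span ({f} : Set A))) :=
    Ideal.mul_mem_right _ _ hfp
  have h3 : s * D f ∈ q.comap (Ideal.Quotient.mk (Ideal.span ({f} : Set A))) := by
    rw [add_comm] at h1
    exact (Ideal.add_mem_iff_right _ h2).mp h1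
  rcases hpprime.mem_or_mem h3 with h4 | h4
  · exact hs h4
  · exact hDf h4

end General

section Deriv

variable {R : Type u} [CommRing R]

/-- `∂/∂Y` on `R[X][Y]`. -/
noncomputable def dY : R[X][Y] →+ R[X][Y] := (Polynomial.derivative (R := R[X])).toAddMonoidHom

theorem dY_apply (a : R[X][Y]) : dY a = derivative a := rfl

theorem dY_leibniz (a b : R[X][Y]) : dY (a * b) = a * dY b + b * dY a := by
  simp only [dY_apply, derivative_mul]
  ring

/-- `∂/∂X` on `R[X][Y]`. -/
noncomputable def dX : R[X][Y] →+ R[X][Y] :=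
  (Bivariate.swap (R := R)).toRingEquiv.toAddMonoidHom.comp
    (dY.comp (Bivariate.swap (R := R)).toRingEquiv.toAddMonoidHom)

theorem dX_apply (a : R[X][Y]) : dX a = Bivariate.swap (derivative (Bivariate.swap a)) := rfl

theorem dX_leibniz (a b : R[X][Y]) : dX (a * b) = a * dX b + b * dX a := by
  simp only [dX_apply, map_mul, derivative_mul, map_add, Bivariate.swap_swap_apply]
  ring

theorem dY_polynomial (W : WeierstrassCurve.Affine R) : dY W.polynomial = W.polynomialY := by
  rw [dY_apply, WeierstrassCurve.Affine.polynomial, WeierstrassCurve.Affine.polynomialY]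
  simp only [derivative_sub, derivative_add, derivative_mul, derivative_C, derivative_X,
    derivative_X_sq, zero_mul, zero_add, mul_one]
  simp only [map_ofNat, sub_zero]

theorem dX_polynomial (W : WeierstrassCurve.Affine R) : dX W.polynomial = W.polynomialX := by
  rw [dX_apply, WeierstrassCurve.Affine.polynomial, WeierstrassCurve.Affine.polynomialX]
  simp only [map_sub, map_add, map_mul, map_pow, Bivariate.swap_X, Bivariate.swap_Y,
    Bivariate.swap_C, Polynomial.map_add, Polynomial.map_mul, Polynomial.map_pow,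
    Polynomial.map_C, Polynomial.map_X]
  simp only [derivative_sub, derivative_add, derivative_mul, derivative_C, derivative_X,
    derivative_X_sq, derivative_X_pow, derivative_pow, zero_mul, zero_add, mul_one, mul_zero, add_zero]
  simp only [map_sub, map_add, map_mul, map_pow, Bivariate.swap_X, Bivariate.swap_Y,
    Bivariate.swap_C_C]
  simp only [map_zero, zero_add, add_zero, Nat.cast_ofNat, map_ofNat, Nat.add_one_sub_one, pow_one]
  ring

end Deriv

section Sing

variable {R : Type u} [CommRing R]

theorem CC_Δ_mem (W : WeierstrassCurve.Affine R) (p : Ideal R[X][Y])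
    (hF : W.polynomial ∈ p) (hFX : W.polynomialX ∈ p) (hFY : W.polynomialY ∈ p) :
    C (C W.Δ) ∈ p := by
  by_contra hΔp
  set φ : R →+* R[X][Y] ⧸ p := (Ideal.Quotient.mk p).comp ((C : R[X] →+* R[X][Y]).comp C) with hφ
  have hφa : ∀ r, φ r = Ideal.Quotient.mk p (C (C r)) := fun r => rfl
  have hΔ' : WeierstrassCurve.Δ (WeierstrassCurve.map W φ) ≠ (0 : R[X][Y] ⧸ p) := by
    rw [WeierstrassCurve.map_Δ]
    intro h
    exact hΔp (Ideal.Quotient.eq_zero_iff_mem.mp h)
  have heq : WeierstrassCurve.Affine.Equation (WeierstrassCurve.map W φ) (Ideal.Quotient.mk p (C X)) (Ideal.Quotient.mk p Y) := by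
    rw [WeierstrassCurve.Affine.equation_iff']
    have := Ideal.Quotient.eq_zero_iff_mem.mpr hF
    rw [WeierstrassCurve.Affine.polynomial] at this
    simp only [WeierstrassCurve.map_a₁, WeierstrassCurve.map_a₂, WeierstrassCurve.map_a₃,
      WeierstrassCurve.map_a₄, WeierstrassCurve.map_a₆, hφa]
    rw [← this]
    simp only [map_sub, map_add, map_mul, map_pow]
    ring
  have hns := (WeierstrassCurve.Affine.equation_iff_nonsingular_of_Δ_ne_zero hΔ').mp heq
  rw [WeierstrassCurve.Affine.nonsingular_iff'] at hns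
  rcases hns.2 with h | h
  · apply h
    have := Ideal.Quotient.eq_zero_iff_mem.mpr hFX
    rw [WeierstrassCurve.Affine.polynomialX] at this
    simp only [WeierstrassCurve.map_a₁, WeierstrassCurve.map_a₂, WeierstrassCurve.map_a₃,
      WeierstrassCurve.map_a₄, WeierstrassCurve.map_a₆, hφa]
    rw [← this]
    simp only [map_sub, map_add, map_mul, map_pow, map_ofNat]
    try ring
  · apply h
    have := Ideal.Quotient.eq_zero_iff_mem.mpr hFY
    rw [WeierstrassCurve.Affine.polynomialY] at this
    simp only [WeierstrassCurve.map_a₁, WeierstrassCurve.map_a₂, WeierstrassCurve.map_a₃,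
      WeierstrassCurve.map_a₄, WeierstrassCurve.map_a₆, hφa]
    rw [← this]
    simp only [map_sub, map_add, map_mul, map_pow, map_ofNat]
    try ring

variable [IsDomain R] [IsDiscreteValuationRing R]

theorem singular_case (W : WeierstrassCurve.Affine R) (hΔ : W.Δ ≠ 0)
    (h3 : W.a₃ ∈ maximalIdeal R) (h4 : W.a₄ ∈ maximalIdeal R) (h6 : W.a₆ ∈ maximalIdeal R)
    (p : Ideal R[X][Y]) [hp : p.IsPrime]
    (hF : W.polynomial ∈ p) (hFX : W.polynomialX ∈ p) (hFY : W.polynomialY ∈ p) :
    (∀ r ∈ maximalIdeal R, C (C r) ∈ p) ∧ C X ∈ p ∧ Y ∈ p := by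
  have hΔp := CC_Δ_mem W p hF hFX hFY
  have hm : ∀ r ∈ maximalIdeal R, C (C r) ∈ p := by
    set q : Ideal R := p.comap ((C : R[X] →+* R[X][Y]).comp C) with hq
    haveI : q.IsPrime := Ideal.comap_isPrime _ _
    have hqne : q ≠ ⊥ := by
      intro h
      have h1 : W.Δ ∈ q := hΔp
      rw [h, Ideal.mem_bot] at h1
      exact hΔ h1
    have hqmax : q.IsMaximal := Ideal.IsPrime.isMaximal inferInstance hqne
    have hqm : q = maximalIdeal R := IsLocalRing.eq_maximalIdeal hqmax
    intro r hr
    rw [← hqm] at hr
    exact hr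
  have hXp : C X ∈ p := by
    have hX3 : (C X : R[X][Y]) ^ 3 ∈ p := by
      have hid : (C X : R[X][Y]) ^ 3 = 2 * W.polynomial - Y * W.polynomialY - C X * W.polynomialX
          - C (C W.a₃) * Y + C (C W.a₄) * C X + 2 * C (C W.a₆) := by
        rw [WeierstrassCurve.Affine.polynomial, WeierstrassCurve.Affine.polynomialX,
          WeierstrassCurve.Affine.polynomialY]
        simp only [map_sub, map_add, map_mul, map_pow, map_ofNat]
        ring
      rw [hid]
      refine Ideal.add_mem _ (Ideal.add_mem _ (Ideal.sub_mem _ (Ideal.sub_mem _ (Ideal.sub_mem _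
        (Ideal.mul_mem_left _ _ hF) (Ideal.mul_mem_left _ _ hFY)) (Ideal.mul_mem_left _ _ hFX))
        (Ideal.mul_mem_right _ _ (hm _ h3))) (Ideal.mul_mem_right _ _ (hm _ h4)))
        (Ideal.mul_mem_left _ _ (hm _ h6))
    exact hp.mem_of_pow_mem _ hX3
  have hYp : Y ∈ p := by
    have hY2 : (Y : R[X][Y]) ^ 2 ∈ p := by
      have hid : (Y : R[X][Y]) ^ 2 = W.polynomial - C X * (C (C W.a₁) * Y)  - C (C W.a₃) * Y
          + C X * (C X ^ 2 + C (C W.a₂) * C X + C (C W.a₄)) + C (C W.a₆) := by
        rw [WeierstrassCurve.Affine.polynomial]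
        simp only [map_sub, map_add, map_mul, map_pow, map_ofNat]
        ring
      rw [hid]
      refine Ideal.add_mem _ (Ideal.add_mem _ (Ideal.sub_mem _ (Ideal.sub_mem _ hF
        (Ideal.mul_mem_right _ _ hXp)) (Ideal.mul_mem_right _ _ (hm _ h3)))
        (Ideal.mul_mem_right _ _ hXp)) (hm _ h6)
    exact hp.mem_of_pow_mem _ hY2
  exact ⟨hm, hXp, hYp⟩

end Sing

/-- Let R be a discrete valuation ring with maximal ideal m and y² + a₁xy + a₃y = x³ + a₂x² + a₄x + a₆ a
Weierstrass equation over R with nonzero discriminant (an elliptic curve over the fraction field)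
such that a₃, a₄, a₆ ∈ m and a₆ ∉ m². Then the affine scheme over R defined by the equation is
regular: every localization of its coordinate ring at a prime ideal is a regular local ring. (The
published statement asserts regularity of the projective Weierstrass scheme in P²_R; this row states
it for the affine part.) -/
theorem result (R : Type u) [CommRing R] [IsDomain R]
    [IsDiscreteValuationRing R] (W : WeierstrassCurve.Affine R) (hΔ : W.Δ ≠ 0)
    (h3 : W.a₃ ∈ IsLocalRing.maximalIdeal R) (h4 : W.a₄ ∈ IsLocalRing.maximalIdeal R)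
    (h6 : W.a₆ ∈ IsLocalRing.maximalIdeal R) (h6' : W.a₆ ∉ IsLocalRing.maximalIdeal R ^ 2)
    (P : Ideal W.CoordinateRing) [P.IsPrime] :
    IsRegularLocalRing (Localization.AtPrime P) := by
  classical
  haveI : IsRegularRing R := inferInstance
  haveI : IsRegularRing R[X] := Groth.Agent.Lib.Helper6.SepBC.isRegularRing_of_formallySmooth R _
  haveI : IsRegularRing R[X][Y] :=
    Groth.Agent.Lib.Helper6.SepBC.isRegularRing_of_formallySmooth R[X] _
  by_cases hY : W.polynomialY ∈ P.comap (Ideal.Quotient.mk (Ideal.span ({W.polynomial} : Set R[X][Y])))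
  swap
  · exact isRegularLocalRing_localization_quotient_of_leibniz (A := R[X][Y]) W.polynomial dY
      dY_leibniz P (hq := ‹P.IsPrime›) (by rw [dY_polynomial]; exact hY)
  by_cases hX : W.polynomialX ∈ P.comap (Ideal.Quotient.mk (Ideal.span ({W.polynomial} : Set R[X][Y])))
  swap
  · exact isRegularLocalRing_localization_quotient_of_leibniz (A := R[X][Y]) W.polynomial dX
      dX_leibniz P (hq := ‹P.IsPrime›) (by rw [dX_polynomial]; exact hX)
  have hF : W.polynomial ∈ P.comap (Ideal.Quotient.mk (Ideal.span ({W.polynomial} : Set R[X][Y]))) := by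
    have h0 : WeierstrassCurve.Affine.CoordinateRing.mk W W.polynomial = 0 := AdjoinRoot.mk_self
    have h1 : WeierstrassCurve.Affine.CoordinateRing.mk W W.polynomial ∈ P := by
      rw [h0]
      exact P.zero_mem
    exact h1
  haveI : (P.comap (Ideal.Quotient.mk (Ideal.span ({W.polynomial} : Set R[X][Y])))).IsPrime :=
    Ideal.comap_isPrime _ _
  obtain ⟨hm, hXp, hYp⟩ := singular_case W hΔ h3 h4 h6 _ hF hX hY
  have hP : ∀ r ∈ IsLocalRing.maximalIdeal R, algebraMap R W.CoordinateRing r ∈ P := fun r hr => hm r hr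
  have hx : WeierstrassCurve.Affine.CoordinateRing.mk W (C X) ∈ P := hXp
  have hy : WeierstrassCurve.Affine.CoordinateRing.mk W X ∈ P := hYp
  haveI : P.IsMaximal := by
    rw [Ideal.isMaximal_iff]
    refine ⟨(Ideal.ne_top_iff_one _).mp (Ideal.IsPrime.ne_top ‹_›), ?_⟩
    intro J a hPJ haP haJ
    obtain ⟨r, hr⟩ := Groth.Agent.Lib.Helper10.Weier.exists_decomp W a
    have hspan : Ideal.span {WeierstrassCurve.Affine.CoordinateRing.mk W (C X),
        WeierstrassCurve.Affine.CoordinateRing.mk W Y} ≤ P := by
      rw [Ideal.span_le]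
      rintro _ (rfl | rfl)
      · exact hx
      · exact hy
    have hrP : algebraMap R W.CoordinateRing r ∉ P := by
      intro h
      apply haP
      have := P.add_mem (hspan hr) h
      rwa [sub_add_cancel] at this
    have hru : IsUnit r := by
      by_contra h
      exact hrP (hP r ((IsLocalRing.mem_maximalIdeal _).mpr h))
    have hrJ : algebraMap R W.CoordinateRing r ∈ J := by
      have := J.sub_mem haJ (hPJ (hspan hr))
      rwa [sub_sub_cancel] at this
    exact (Ideal.eq_top_iff_one _).mp (Ideal.eq_top_of_isUnit_mem _ hrJ (hru.map _))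
  exact Groth.Agent.S11097.result R W h3 h4 h6 h6' P hP hx hy

end Groth.Agent.S11104
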