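import Groth.Statements.S11106
import Groth.Agent.Lib.T2H9DecompHensel

set_option autoImplicit false
set_option linter.style.haveILetI false
universe u
open Hensel

namespace Groth.Agent.S11106

/-- Let R be a discrete valuation ring with fraction field K, K^s a separable closure of K, R^s the
integral closure of R in K^s and P^s a maximal ideal of R^s. Let I be the inertia group of P^s — the
automorphisms σ of K^s over K with σ(x) − x ∈ P^s for every x ∈ R^s — and L its fixed field. Then
the integral closure of R in L, localized at the prime Q = P^s ∩ L, is a Henselian local ring (this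
ring is the strict Henselization of R; the statement that its residue field is an algebraic closure
of that of R is not included). -/
theorem result (R K Ks : Type u) [CommRing R] [IsDomain R]
    [IsDiscreteValuationRing R] [Field K] [Algebra R K] [IsFractionRing R K]
    [Field Ks] [Algebra K Ks] [IsSepClosure K Ks] [Algebra R Ks] [IsScalarTower R K Ks]
    (Ps : Ideal (integralClosure R Ks)) [Ps.IsMaximal]
    (L : IntermediateField K Ks)
    (hL : L = IntermediateField.fixedField
      (Subgroup.closure {σ : Ks ≃ₐ[K] Ks | ∀ x : integralClosure R Ks,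
        ∃ h : σ (x : Ks) ∈ integralClosure R Ks, (⟨σ (x : Ks), h⟩ : integralClosure R Ks) - x ∈ Ps}))
    (Q : Ideal (integralClosure R L)) [Q.IsPrime]
    (hQ : ∀ y : integralClosure R L, y ∈ Q ↔
      ∃ x : integralClosure R Ks, x ∈ Ps ∧ (x : Ks) = ((y : L) : Ks)) :
    HenselianLocalRing (Localization.AtPrime Q) := by
  haveI : IsSepClosed Ks := IsSepClosure.sep_closed K
  haveI : Algebra.IsSeparable K Ks := IsSepClosure.separable
  haveI : Algebra.IsAlgebraic K Ks := Algebra.IsSeparable.isAlgebraic K Ks
  haveI : Algebra.IsAlgebraic K L := inferInstance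
  haveI : IsScalarTower R L Ks := IsScalarTower.of_algebraMap_eq (fun r => rfl)
  haveI : IsScalarTower R K L := inferInstance
  subst hL
  refine Groth.Agent.Lib.T2H9.DecompHensel.henselian_main (K := K) Ps
    {σ : Ks ≃ₐ[K] Ks | ∀ x : integralClosure R Ks,
        ∃ h : σ (x : Ks) ∈ integralClosure R Ks, (⟨σ (x : Ks), h⟩ : integralClosure R Ks) - x ∈ Ps}
    ?_ ?_ ?_ Q hQ
  · intro σ hσ y
    exact (IntermediateField.mem_fixedField_iff _ _).mp y.2 σ (Subgroup.subset_closure hσ)
  · intro x hx
    have hmem : x ∈ IntermediateField.fixedField (Subgroup.closure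
        {σ : Ks ≃ₐ[K] Ks | ∀ x : integralClosure R Ks,
          ∃ h : σ (x : Ks) ∈ integralClosure R Ks,
            (⟨σ (x : Ks), h⟩ : integralClosure R Ks) - x ∈ Ps}) := by
      rw [IntermediateField.mem_fixedField_iff]
      intro τ hτ
      induction hτ using Subgroup.closure_induction with
      | mem σ hσ => exact hx σ hσ
      | one => rfl
      | mul a b _ _ ha hb => rw [AlgEquiv.mul_apply, hb, ha]
      | inv a _ ha =>
        have := congrArg (a⁻¹ : Ks ≃ₐ[K] Ks) ha
        rw [← AlgEquiv.mul_apply, inv_mul_cancel, AlgEquiv.one_apply] at this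
        exact this.symm
    exact ⟨⟨x, hmem⟩, rfl⟩
  · intro σ hσ x hx
    obtain ⟨h, hmem⟩ := hσ x
    refine ⟨h, ?_⟩
    have := Ps.add_mem hmem hx
    rwa [sub_add_cancel] at this

end Groth.Agent.S11106
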