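import Groth.Statements.S11114
import Groth.Agent.Lib.T2H2SectAcyc
import Groth.Agent.Lib.Helper17KInjD1

set_option autoImplicit false
universe u
open CategoryTheory CategoryTheory.Limits AlgebraicGeometry
attribute [local instance] HasDerivedCategory.standard
open DCoh

namespace Groth.Agent.S11114

/-- Let Y be a quasi-compact quasi-separated scheme and assume the unbounded derived functor of global
sections RΓ(U, -) exists for every open U of Y (existence binder). A morphism φ : G₁ ⟶ G₂ in D(O_Y)
is an isomorphism if and only if for every affine open U of Y the morphism RΓ(U, φ|_U) of D(Ab),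
obtained from φ through restriction to U and derived global sections, is an isomorphism. -/
theorem result {Y : Scheme.{u}} [CompactSpace Y] [QuasiSeparatedSpace Y]
    [hR : ∀ U : Y.Opens, DCoh.HasRΓ (U : Scheme.{u})] {G₁ G₂ : DCoh.D Y} (φ : G₁ ⟶ G₂) :
    IsIso φ ↔ ∀ U : Y.Opens, IsAffineOpen U →
      IsIso ((DCoh.RΓ (U : Scheme.{u})).map ((DCoh.restrictD U.ι).map φ)) := by
  constructor
  · intro h U _
    infer_instance
  · intro h
    obtain ⟨I₁, hI₁, -, ⟨e₁⟩⟩ := Groth.Agent.Lib.T2H1.MVTri.exists_rep G₁
    obtain ⟨I₂, hI₂, -, ⟨e₂⟩⟩ := Groth.Agent.Lib.T2H1.MVTri.exists_rep G₂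
    have := hI₁
    have := hI₂
    obtain ⟨f, hf⟩ := Groth.Agent.Lib.Helper17.KInj.exists_Q_map_eq (e₁.inv ≫ φ ≫ e₂.hom)
    have hφ : φ = e₁.hom ≫ DerivedCategory.Q.map f ≫ e₂.inv := by
      rw [hf]
      simp
    have hq : QuasiIso f := by
      apply Groth.Agent.Lib.T2H2.SectAcyc.quasiIso_of_sections
      intro U hU
      apply Groth.Agent.Lib.T2H2.SectAcyc.quasiIso_sections_of_isIso_RΓ
      have h1 := h U hU
      have h2 : DerivedCategory.Q.map f = e₁.inv ≫ φ ≫ e₂.hom := hf
      rw [h2, Functor.map_comp, Functor.map_comp, Functor.map_comp, Functor.map_comp]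
      infer_instance
    rw [hφ]
    have : IsIso (DerivedCategory.Q.map f) := by
      rw [DerivedCategory.isIso_Q_map_iff_quasiIso]
      exact hq
    infer_instance

end Groth.Agent.S11114
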