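import Groth.Statements.S11124
import Groth.Agent.Lib.T2H2GammaPushAcyc
import Groth.Agent.Lib.T2H1RpushFiltered2

set_option autoImplicit false
universe u
open CategoryTheory CategoryTheory.Limits AlgebraicGeometry
attribute [local instance] HasDerivedCategory.standard
open Perf

namespace Groth.Agent.S11124

/-- Let f : X ⟶ Y be a morphism of schemes, B a K-injective cochain complex of O_X-modules and U an open
subset of Y, and assume the unbounded derived functor of global sections on U exists. Then the
termwise direct image f_*B, restricted to U, is acyclic for global sections: the canonical map Γ(U,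
f_*B) ⟶ RΓ(U, (f_*B)|_U) in D(Ab), the unit of the total right derived functor at this complex, is
an isomorphism. (The published statement is for ringed spaces; this row is the case of schemes.) -/
theorem result {X Y : Scheme.{u}} (f : X ⟶ Y) (B : CochainComplex X.Modules ℤ)
    [B.IsKInjective] (U : Y.Opens) [DCoh.HasRΓ (U : Scheme.{u})] :
    IsIso (((DCoh.gammaKh (U : Scheme.{u})).totalRightDerivedUnit DerivedCategory.Qh
      (HomotopyCategory.quasiIso (U : Scheme.{u}).Modules (ComplexShape.up ℤ))).app
      ((HomotopyCategory.quotient (U : Scheme.{u}).Modules (ComplexShape.up ℤ)).obj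
        ((DCoh.restrictCx U).obj (((Scheme.Modules.pushforward f).mapHomologicalComplex (ComplexShape.up ℤ)).obj B)))) := by
  open Groth.Agent.Lib.Helper17.KInj Groth.Agent.Lib.T2H1.RestrictPush in
  rw [← Groth.Agent.Lib.T2H1.RpushFiltered.isIso_unitOfK_app_iff (DCoh.gammaAb (U : Scheme.{u}))
    (DCoh.RΓ (U : Scheme.{u}))]
  obtain ⟨β, hβ⟩ : ∃ β : (DCoh.gammaAb (U : Scheme.{u})).mapHomologicalComplex
      (ComplexShape.up ℤ) ⋙ DerivedCategory.Q ⟶ DerivedCategory.Q ⋙ DCoh.RΓ (U : Scheme.{u}),
      β = unitOfK (DCoh.gammaAb (U : Scheme.{u})) (DCoh.RΓ (U : Scheme.{u}))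
        ((DCoh.gammaKh (U : Scheme.{u})).totalRightDerivedUnit DerivedCategory.Qh
          (HomotopyCategory.quasiIso (U : Scheme.{u}).Modules (ComplexShape.up ℤ))) := ⟨_, rfl⟩
  have : (DCoh.RΓ (U : Scheme.{u})).IsRightDerivedFunctor β
      (HomologicalComplex.quasiIso (U : Scheme.{u}).Modules (ComplexShape.up ℤ)) := by
    rw [hβ]
    infer_instance
  rw [← hβ]
  have := isKInjective_restrict (f ⁻¹ᵁ U) B
  have h1 := Groth.Agent.Lib.T2H2.GammaPushAcyc.isIso_unit_app_pushforward (f ∣_ U)
    ((DCoh.restrictCx (f ⁻¹ᵁ U)).obj B) β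
  let e : (DCoh.restrictCx U).obj (((Scheme.Modules.pushforward f).mapHomologicalComplex
      (ComplexShape.up ℤ)).obj B) ≅
      ((Scheme.Modules.pushforward (f ∣_ U)).mapHomologicalComplex (ComplexShape.up ℤ)).obj
        ((DCoh.restrictCx (f ⁻¹ᵁ U)).obj B) :=
    (NatIso.mapHomologicalComplex (pushRestrictIso f U) (ComplexShape.up ℤ)).app B
  have nat := β.naturality e.hom
  have h2 : β.app ((DCoh.restrictCx U).obj (((Scheme.Modules.pushforward f).mapHomologicalComplex
      (ComplexShape.up ℤ)).obj B)) =
      ((DCoh.gammaAb (U : Scheme.{u})).mapHomologicalComplex (ComplexShape.up ℤ) ⋙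
        DerivedCategory.Q).map e.hom ≫ β.app _ ≫
        inv ((DerivedCategory.Q ⋙ DCoh.RΓ (U : Scheme.{u})).map e.hom) := by
    rw [← Category.assoc, IsIso.eq_comp_inv]
    exact nat.symm
  rw [h2]
  infer_instance

end Groth.Agent.S11124
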