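import Groth.Statements.S11165
import Mathlib
import Groth.Agent.Lib.Helper23ModAbBridge
import Groth.Agent.Lib.Helper23TensorQCoh
import Groth.Agent.Lib.Helper20PullbackAff
import Groth.Agent.S4456
import Groth.Agent.S0028
-- import your own Groth.Agent.* helpers here

set_option autoImplicit false
universe u
open CategoryTheory CategoryTheory.Limits AlgebraicGeometry
open Coherent

namespace Groth.Agent.S11165

/-- Let f : X ⟶ Y be a separated morphism of schemes, U an open of X on which f restricts to an affine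
morphism, i : U ⟶ X the inclusion and F a quasi-coherent O_X-module. Then i_*(F|_U) is acyclic for
f_*: its higher direct images R^j f_* vanish for j > 0. (The binder asserting injective resolutions
of O_X-modules always holds.) -/
theorem result {X Y : Scheme.{u}} (f : X ⟶ Y) [IsSeparated f]
    (U : X.Opens) [IsAffineHom (U.ι ≫ f)] (F : X.Modules) (hF : Coh.IsQCoh F)
    [HasInjectiveResolutions X.Modules] (j : ℕ) (hj : 0 < j) :
    IsZero ((Coh.Rpush f j).obj ((Scheme.Modules.pushforward U.ι).obj ((Scheme.Modules.restrictFunctor U.ι).obj F))) := by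
  have : F.IsQuasicoherent := hF
  have : IsAffineHom U.ι := IsAffineHom.of_comp U.ι f
  have : ((Scheme.Modules.restrictFunctor U.ι).obj F).IsQuasicoherent :=
    Groth.Agent.Lib.Helper23.TensorQCoh.isQuasicoherent_of_iso
      ((Scheme.Modules.restrictFunctorIsoPullback U.ι).app F).symm
  obtain ⟨k, rfl⟩ : ∃ k, j = k + 1 := ⟨j - 1, by omega⟩
  obtain ⟨e1⟩ := Groth.Agent.Lib.Helper23.ModAbBridge.nonempty_toAb_Rpush_iso f
    ((Scheme.Modules.pushforward U.ι).obj ((Scheme.Modules.restrictFunctor U.ι).obj F)) (k + 1)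
  obtain ⟨e2⟩ := Groth.Agent.S4456.result U.ι f ((Scheme.Modules.restrictFunctor U.ι).obj F) (k + 1)
  have h3 := Groth.Agent.S0028.result (U.ι ≫ f) ((Scheme.Modules.restrictFunctor U.ι).obj F)
    (k + 1) (Nat.succ_pos k)
  have h4 : IsZero (Coh.toAb ((Coh.Rpush f (k + 1)).obj
      ((Scheme.Modules.pushforward U.ι).obj ((Scheme.Modules.restrictFunctor U.ι).obj F)))) :=
    IsZero.of_iso h3 (e1 ≪≫ e2)
  rw [IsZero.iff_id_eq_zero] at h4 ⊢
  apply (SheafOfModules.toSheaf _).map_injective
  exact ((SheafOfModules.toSheaf Y.ringCatSheaf).map_id _).trans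
    (h4.trans ((SheafOfModules.toSheaf Y.ringCatSheaf).map_zero _ _).symm)

end Groth.Agent.S11165
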