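import Mathlib
import Groth.Statements.S11192
import Groth.Agent.Lib.T2H7GQNormal
import Groth.Agent.Lib.T2H7NormalPush
import Groth.Agent.Lib.T2H9NormSm
import Groth.Agent.Lib.T2H9NormBC
import Groth.Agent.Lib.Helper11SmInt

set_option autoImplicit false
universe u
open CategoryTheory MonoidalCategory CartesianMonoidalCategory MonObj GrpObj AlgebraicGeometry
open scoped TensorProduct
open AGF

namespace Groth.Agent.S11192

/-- the equaliser of two ring maps out of an integrally closed domain, one of which sends nonzero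
elements to nonzerodivisors, is integrally closed. -/
theorem isIntegrallyClosed_eqLocus {R B : Type*} [CommRing R] [IsDomain R] [IsIntegrallyClosed R]
    [CommRing B] (φ ψ : R →+* B)
    (hreg : ∀ b : R, b ≠ 0 → ∀ c : B, ψ b * c = 0 → c = 0) :
    IsIntegrallyClosed ↥(RingHom.eqLocus φ ψ) := by
  set E := RingHom.eqLocus φ ψ with hE
  set g : ↥E →+* FractionRing R := (algebraMap R (FractionRing R)).comp E.subtype with hg
  have hginj : Function.Injective g :=
    (IsFractionRing.injective R (FractionRing R)).comp Subtype.val_injective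
  let ιK : FractionRing ↥E →+* FractionRing R := IsFractionRing.lift hginj
  have hι : ∀ r, ιK (algebraMap _ _ r) = g r := fun r => IsFractionRing.lift_algebraMap hginj r
  rw [isIntegrallyClosed_iff (FractionRing ↥E)]
  intro t ht
  have hint : IsIntegral R (ιK t) := by
    obtain ⟨p, hp, hpt⟩ := ht
    refine ⟨p.map E.subtype, hp.map _, ?_⟩
    rw [Polynomial.eval₂_map]
    have h1 := congrArg ιK hpt
    rw [map_zero, Polynomial.hom_eval₂] at h1
    have h2 : ιK.comp (algebraMap ↥E (FractionRing ↥E)) =
        (algebraMap R (FractionRing R)).comp E.subtype := by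
      ext r
      exact hι r
    rw [h2] at h1
    exact h1
  obtain ⟨s, hs⟩ := IsIntegrallyClosed.algebraMap_eq_of_integral hint
  obtain ⟨a', b', hb', hab⟩ := IsFractionRing.div_surjective (A := ↥E) t
  have hb0 : b' ≠ 0 := nonZeroDivisors.ne_zero hb'
  have hb0' : (b' : R) ≠ 0 := fun h0 => hb0 (Subtype.ext h0)
  have hgb0 : g b' ≠ 0 := fun h0 => hb0 (hginj (by rw [h0, map_zero]))
  have hιt : ιK t = g a' / g b' := by
    rw [← hab, map_div₀, hι, hι]
  have key1 : (b' : R) * s = (a' : R) := by
    apply IsFractionRing.injective R (FractionRing R)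
    rw [map_mul, hs, hιt]
    change g b' * _ = g a'
    rw [mul_div_cancel₀ _ hgb0]
  have ha : φ (a' : R) = ψ (a' : R) := a'.2
  have hb : φ (b' : R) = ψ (b' : R) := b'.2
  have hsE : φ s = ψ s := by
    have h0 : ψ (b' : R) * (φ s - ψ s) = 0 := by
      rw [mul_sub, ← hb, ← map_mul, hb, ← map_mul, key1, ha, sub_self]
    exact sub_eq_zero.1 (hreg _ hb0' _ h0)
  refine ⟨⟨s, hsE⟩, ?_⟩
  apply ιK.injective
  rw [hι]
  change algebraMap R (FractionRing R) s = _
  exact hs

theorem result (k : Type u) [Field k] [IsAlgClosed k]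
    (G : Over (Spec (CommRingCat.of k))) [GrpObj G] [IsAffine G.left] [Smooth G.hom]
    (H : Over (Spec (CommRingCat.of k))) [GrpObj H] [Smooth H.hom] (i : H ⟶ G) [IsMonHom i]
    [IsClosedImmersion i.left] [ConnectedSpace G.left] :
    IsIntegrallyClosed ↥(AGF.rTransInv i) := by
  have hnorm : Pi1.IsNormalScheme G.left :=
    Groth.Agent.Lib.T2H9.NormSm.isNormalScheme_of_smooth
      (Groth.Agent.Lib.T2H9.NormBC.isNormalScheme_Spec_field k) G.hom
  haveI : IsLocallyNoetherian G.left := LocallyOfFiniteType.isLocallyNoetherian G.hom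
  haveI : IsNoetherian G.left := { }
  haveI : IsIntegral G.left :=
    Groth.Agent.Lib.Helper11SmInt.isIntegral_of_connected_of_isDomain_stalk
      (fun x => Groth.Agent.Lib.Helper11SmInt.isDomain_stalk_of_smooth k G.hom x)
  haveI : Nonempty (⊤ : G.left.Opens) := ⟨⟨Classical.arbitrary _, trivial⟩⟩
  haveI : IsDomain Γ(G.left, ⊤) := IsIntegral.component_integral ⊤
  haveI : IsIntegrallyClosed Γ(G.left, ⊤) :=
    Groth.Agent.Lib.T2H7.NormalPush.isIntegrallyClosed_sections hnorm ⊤
  have hfstG : (fst G H).left = Limits.pullback.fst G.hom H.hom := rfl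
  haveI : Flat (fst G H).left := by rw [hfstG]; infer_instance
  unfold AGF.rTransInv
  apply isIntegrallyClosed_eqLocus
  intro b hb c hc
  refine Groth.Agent.Lib.T2H7.GQNormal.eq_zero_of_appLE_mul_eq_zero (fst G H).left ⊤ b hb ⊤ le_top c ?_
  have e : (fst G H).left.appLE ⊤ ⊤ le_top = (fst G H).left.appTop :=
    Scheme.Hom.appLE_eq_app (fst G H).left
  rw [e]
  exact hc

end Groth.Agent.S11192
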