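import Groth.Statements.S11194
import Groth.Agent.Lib.T2H7ObsFinIdx

set_option autoImplicit false
universe u
open CategoryTheory MonoidalCategory CartesianMonoidalCategory MonObj GrpObj AlgebraicGeometry
open scoped TensorProduct
open AGF

namespace Groth.Agent.S11194

/-- (i) ⇔ (iii): let k be an algebraically closed field, G a linear algebraic group over k (an affine
smooth group scheme over k) and H a closed subgroup of G (a smooth closed subgroup scheme, i : H →
G); let G₀ ⊆ G and H₀ ⊆ H be the identity components (connected open subgroup schemes) and i₀ : H₀ →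
G₀ the induced homomorphism. Then H is observable in G if and only if H₀ is observable in G₀. -/
theorem result (k : Type u) [Field k] [IsAlgClosed k]
    (G : Over (Spec (CommRingCat.of k))) [GrpObj G] [IsAffine G.left] [Smooth G.hom]
    (H : Over (Spec (CommRingCat.of k))) [GrpObj H] [Smooth H.hom] (i : H ⟶ G) [IsMonHom i]
    [IsClosedImmersion i.left]
    (G₀ : Over (Spec (CommRingCat.of k))) [GrpObj G₀] [ConnectedSpace G₀.left] (jG : G₀ ⟶ G) [IsMonHom jG]
    [IsOpenImmersion jG.left]
    (H₀ : Over (Spec (CommRingCat.of k))) [GrpObj H₀] [ConnectedSpace H₀.left] (jH : H₀ ⟶ H) [IsMonHom jH]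
    [IsOpenImmersion jH.left] (i₀ : H₀ ⟶ G₀) [IsMonHom i₀] (hc : i₀ ≫ jG = jH ≫ i) :
    AGF.IsObservableIn k i ↔ AGF.IsObservableIn k i₀ := by
  have hHaff : IsAffine H.left := isAffine_of_isAffineHom i.left
  have hjGcl : IsClosedImmersion jG.left :=
    Groth.Agent.Lib.T2H7.ObsFinIdx.isClosedImmersion_of_isOpenImmersion jG
  have hjHcl : IsClosedImmersion jH.left :=
    Groth.Agent.Lib.T2H7.ObsFinIdx.isClosedImmersion_of_isOpenImmersion jH
  have hG₀aff : IsAffine G₀.left := isAffine_of_isAffineHom jG.left
  have hH₀aff : IsAffine H₀.left := isAffine_of_isAffineHom jH.left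
  have hG₀sm : Smooth G₀.hom := Groth.Agent.Lib.T2H7.ObsFinIdx.smooth_of_isOpenImmersion jG
  have hH₀sm : Smooth H₀.hom := Groth.Agent.Lib.T2H7.ObsFinIdx.smooth_of_isOpenImmersion jH
  have hcl1 : IsClosedImmersion (jH ≫ i).left := by
    rw [Over.comp_left]
    infer_instance
  have hcl2 : IsClosedImmersion (i₀ ≫ jG).left := by
    rw [hc]
    exact hcl1
  have hi₀cl : IsClosedImmersion i₀.left := by
    have hcl3 : IsClosedImmersion (i₀.left ≫ jG.left) := by
      rw [← Over.comp_left]
      exact hcl2
    exact IsClosedImmersion.of_comp_isClosedImmersion i₀.left jG.left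
  constructor
  · intro hobs
    have h1 : AGF.IsObservableIn k (jH ≫ i) :=
      Groth.Agent.Lib.T2H7.ObsFinIdx.observable_open_sub i jH hobs
    rw [← hc] at h1
    exact Groth.Agent.Lib.T2H7.ObsFinIdx.observable_of_comp jG i₀ h1
  · intro hobs
    have h1 : AGF.IsObservableIn k jG := Groth.Agent.Lib.T2H7.ObsFinIdx.observable_of_open jG
    have h2 : AGF.IsObservableIn k (i₀ ≫ jG) :=
      Groth.Agent.Lib.T2H7.ObsExt.observable_trans i₀ jG hobs h1
    rw [hc] at h2
    exact Groth.Agent.Lib.T2H7.ObsFinIdx.observable_of_open_sub i jH h2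

end Groth.Agent.S11194
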