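import Groth.Statements.S11198
import Groth.Agent.Lib.T2H7ObsQuot

set_option autoImplicit false
universe u
open CategoryTheory MonoidalCategory CartesianMonoidalCategory MonObj GrpObj AlgebraicGeometry
open scoped TensorProduct
open AGF

namespace Groth.Agent.S11198

/-- Let k be an algebraically closed field, G a linear algebraic group over k and H₁ ⊆ H₂ ⊆ G closed
subgroups (smooth closed subgroup schemes i₁ : H₁ → H₂, i₂ : H₂ → G), such that the quotient H₂/H₁
(the scheme X with H₂-action a and base point o) is proper over k and irreducible. Then a global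
function on G is invariant under right translation by H₁ if and only if it is invariant under right
translation by H₂. -/
theorem result (k : Type u) [Field k] [IsAlgClosed k]
    (G : Over (Spec (CommRingCat.of k))) [GrpObj G] [IsAffine G.left] [Smooth G.hom]
    (H₂ : Over (Spec (CommRingCat.of k))) [GrpObj H₂] [Smooth H₂.hom] (i₂ : H₂ ⟶ G) [IsMonHom i₂] [IsClosedImmersion i₂.left]
    (H₁ : Over (Spec (CommRingCat.of k))) [GrpObj H₁] [Smooth H₁.hom] (i₁ : H₁ ⟶ H₂) [IsMonHom i₁] [IsClosedImmersion i₁.left]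
    (X : Over (Spec (CommRingCat.of k))) (a : AlgGrp.Action H₂ X) (o : 𝟙_ (Over (Spec (CommRingCat.of k))) ⟶ X) (hX : AGF.IsQuotient i₁ X a o)
    [IsProper X.hom] [IrreducibleSpace X.left] :
    AGF.rTransInv (i₁ ≫ i₂) = AGF.rTransInv i₂ := by
  have hA2 : IsAffine H₂.left := isAffine_of_isAffineHom i₂.left
  have hA1 : IsAffine H₁.left := isAffine_of_isAffineHom i₁.left
  apply le_antisymm
  · intro f hf
    rw [AGF.mem_rTransInv_iff] at hf ⊢
    apply Groth.Agent.Lib.T2H7.ObsQuot.isRTransInv_of_pts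
    intro x y
    have h1 := Groth.Agent.Lib.T2H7.ObsTFAE.isRTransInv_lTr (i₁ ≫ i₂) f hf x
    have h2 := Groth.Agent.Lib.T2H7.ObsQuot.isRTransInv_appTop_of_comp i₂ i₁ _ h1
    have h3 := Groth.Agent.Lib.T2H7.ObsQuot.evA_eq_of_quotient i₁ X a o hX _ h2 y 1
    rw [Groth.Agent.Lib.T2H7.ObsTFAE.evA_appTop, Groth.Agent.Lib.T2H7.ObsTFAE.evA_appTop,
      MonObj.one_comp, ← Groth.Agent.Lib.T2H7.ObsFin.evA_mul_rat',
      ← Groth.Agent.Lib.T2H7.ObsFin.evA_mul_rat', _root_.mul_one] at h3
    exact h3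
  · intro f hf
    rw [AGF.mem_rTransInv_iff] at hf ⊢
    exact Groth.Agent.Lib.T2H7.ObsTFAE.isRTransInv_comp i₂ i₁ f hf

end Groth.Agent.S11198
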