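import Mathlib
import Groth.Statements.S11231
import Groth.Agent.Lib.T2H7IntClosedSub

set_option autoImplicit false
universe u
open CategoryTheory MonoidalCategory CartesianMonoidalCategory MonObj GrpObj AlgebraicGeometry
open scoped TensorProduct
open AGF

namespace Groth.Agent.S11231

/-- `1 ⊗ b` is a nonzerodivisor on `B ⊗[k] A` when `b ≠ 0` in the domain `A`. -/
theorem tmul_one_mul_eq_zero {k : Type u} [Field k] {A : Type u} [CommRing A] [IsDomain A] [Algebra k A]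
    (B : Type u) [CommRing B] [Algebra k B] (b : A) (hb : b ≠ 0) (x : B ⊗[k] A)
    (hx : ((1 : B) ⊗ₜ[k] b) * x = 0) : x = 0 := by
  have hinj : Function.Injective (LinearMap.mulLeft k b) := fun x y hxy => by
    simpa [hb] using hxy
  have hinj' : Function.Injective ((LinearMap.mulLeft k b).lTensor B) :=
    Module.Flat.lTensor_preserves_injective_linearMap _ hinj
  have e : ∀ y : B ⊗[k] A, ((1 : B) ⊗ₜ[k] b) * y = (LinearMap.mulLeft k b).lTensor B y := by
    intro y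
    induction y using TensorProduct.induction_on with
    | zero => simp
    | tmul b' a' =>
      rw [Algebra.TensorProduct.tmul_mul_tmul, LinearMap.lTensor_tmul, _root_.one_mul]
      rfl
    | add y z hy hz => rw [mul_add, map_add, hy, hz]
  apply hinj'
  rw [← e, hx, map_zero]

theorem result (k : Type u) [Field k] [IsAlgClosed k]
    (G : Over (Spec (CommRingCat.of k))) [GrpObj G] (hG : Red.IsReductiveOver k G)
    (Bo : Over (Spec (CommRingCat.of k))) [GrpObj Bo] (iB : Bo ⟶ G) (hB : Red.IsBorelOver k iB)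
    (U : Over (Spec (CommRingCat.of k))) [GrpObj U] (u : U ⟶ Bo) (hU : Par.IsUnipotentRadical u)
    (A : Type u) [CommRing A] [IsDomain A] [Algebra k A] [IsIntegrallyClosed A]
    (ρ : VecGrp.GMod G A) (hρ : ρ.IsMult) :
    IsIntegrallyClosed ↥(ρ.fixedSubalgebra hρ (u ≫ iB)) := by
  apply Groth.Agent.Lib.T2H7.IntClosedSub.isIntegrallyClosed_of_div_mem
  intro a b s ha hb hb0 hbs B _ _ h
  have ha' := ha B h
  have hb' := hb B h
  have e : ((1 : B) ⊗ₜ[k] a : VecGrp.W k A B) = ((1 : B) ⊗ₜ[k] b) * ((1 : B) ⊗ₜ[k] s) := by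
    rw [Algebra.TensorProduct.tmul_mul_tmul, _root_.one_mul, hbs]
  have h1 : ρ.ρ B (h ≫ u ≫ iB) ((1 : B) ⊗ₜ[k] a) =
      ((1 : B) ⊗ₜ[k] b) * ρ.ρ B (h ≫ u ≫ iB) ((1 : B) ⊗ₜ[k] s) := by
    rw [e, (hρ B (h ≫ u ≫ iB)).1, hb']
  rw [ha', e] at h1
  have h0 : ((1 : B) ⊗ₜ[k] b) * (ρ.ρ B (h ≫ u ≫ iB) ((1 : B) ⊗ₜ[k] s) - (1 : B) ⊗ₜ[k] s) = 0 := by
    rw [mul_sub, ← h1, sub_self]
  exact sub_eq_zero.1 (tmul_one_mul_eq_zero B b hb0 _ h0)

end Groth.Agent.S11231
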