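import Groth.Statements.S11278
import Mathlib

set_option autoImplicit false
universe u v
open W4bk4grassmannian

namespace Groth.Agent.S11278

open Polynomial

section Aux

variable {K : Type*} [Field K] {R : Type*} [CommRing R] [IsDomain R] [Algebra K R]
  (𝒜 : ℕ → Submodule K R) [GradedAlgebra 𝒜] (s : R)

/-- the map `A₀[X] → R_s` -/
noncomputable def psi : (HomogeneousLocalization.Away 𝒜 s)[X] →+* Localization.Away s :=
  Polynomial.eval₂RingHom (algebraMap (HomogeneousLocalization.Away 𝒜 s) (Localization.Away s))
    (algebraMap R (Localization.Away s) s)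

theorem psi_X : psi 𝒜 s X = algebraMap R (Localization.Away s) s := by
  unfold psi
  rw [Polynomial.coe_eval₂RingHom, Polynomial.eval₂_X]

theorem psi_apply (f : (HomogeneousLocalization.Away 𝒜 s)[X]) :
    psi 𝒜 s f = ∑ i ∈ Finset.range (f.natDegree + 1),
      (f.coeff i).val * (algebraMap R (Localization.Away s) s) ^ i := by
  unfold psi
  rw [Polynomial.coe_eval₂RingHom, Polynomial.eval₂_eq_sum_range]
  refine Finset.sum_congr rfl (fun i _ => ?_)
  rw [HomogeneousLocalization.algebraMap_apply]

theorem psi_C (a : HomogeneousLocalization.Away 𝒜 s) : psi 𝒜 s (C a) = a.val := by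
  unfold psi
  rw [Polynomial.coe_eval₂RingHom, Polynomial.eval₂_C, HomogeneousLocalization.algebraMap_apply]

theorem psi_hits (hs : s ∈ 𝒜 1) (r : R) :
    ∃ f : (HomogeneousLocalization.Away 𝒜 s)[X],
      psi 𝒜 s f = algebraMap R (Localization.Away s) r := by
  refine DirectSum.Decomposition.inductionOn 𝒜
    (motive := fun r => ∃ f : (HomogeneousLocalization.Away 𝒜 s)[X],
      psi 𝒜 s f = algebraMap R (Localization.Away s) r) ?_ ?_ ?_ r
  · exact ⟨0, by rw [map_zero, map_zero]⟩
  · intro i m
    have hm : (m : R) ∈ 𝒜 (i • 1) := by rw [smul_eq_mul, mul_one]; exact m.2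
    refine ⟨C (HomogeneousLocalization.Away.mk 𝒜 hs i (m : R) hm) * X ^ i, ?_⟩
    rw [map_mul, map_pow, psi_C, psi_X, HomogeneousLocalization.Away.val_mk,
      Localization.mk_eq_mk'_apply, ← map_pow]
    exact IsLocalization.mk'_spec _ _ _
  · rintro m m' ⟨f, hf⟩ ⟨g, hg⟩
    exact ⟨f + g, by rw [map_add, map_add, hf, hg]⟩

theorem psi_injective (hs : s ∈ 𝒜 1) (hs0 : s ≠ 0) : Function.Injective (psi 𝒜 s) := by
  rw [injective_iff_map_eq_zero]
  intro f hf
  have hrep : ∀ i : ℕ, ∃ (n : ℕ) (x : R) (hx : x ∈ 𝒜 (n • 1)),
      HomogeneousLocalization.Away.mk 𝒜 hs n x hx = f.coeff i :=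
    fun i => HomogeneousLocalization.Away.mk_surjective 𝒜 hs (f.coeff i)
  choose n x hx hmk using hrep
  obtain ⟨N, hN⟩ : ∃ N : ℕ, N = f.natDegree := ⟨_, rfl⟩
  obtain ⟨D, hD⟩ : ∃ D : ℕ, D = ∑ i ∈ Finset.range (N + 1), n i := ⟨_, rfl⟩
  have hnD : ∀ i ∈ Finset.range (N + 1), n i ≤ D := fun i hi => by
    rw [hD]
    exact Finset.single_le_sum (f := n) (fun _ _ => Nat.zero_le _) hi
  obtain ⟨t, ht⟩ : ∃ t : ℕ → R, ∀ i, t i = x i * s ^ (D - n i + i) := ⟨_, fun _ => rfl⟩
  have ht_mem : ∀ i ∈ Finset.range (N + 1), t i ∈ 𝒜 (D + i) := by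
    intro i hi
    have h1 : x i ∈ 𝒜 (n i) := by
      have h := hx i
      rwa [smul_eq_mul, mul_one] at h
    have h2 : s ^ (D - n i + i) ∈ 𝒜 (D - n i + i) := by
      have h := SetLike.pow_mem_graded (D - n i + i) hs
      rwa [smul_eq_mul, mul_one] at h
    have h3 := SetLike.mul_mem_graded h1 h2
    have h4 : n i + (D - n i + i) = D + i := by have := hnD i hi; omega
    rw [h4] at h3
    rw [ht]
    exact h3
  have hkey : algebraMap R (Localization.Away s) (∑ i ∈ Finset.range (N + 1), t i) =
      (algebraMap R (Localization.Away s) s) ^ D * psi 𝒜 s f := by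
    rw [psi_apply, ← hN, map_sum, Finset.mul_sum]
    refine Finset.sum_congr rfl (fun i hi => ?_)
    rw [← hmk i, HomogeneousLocalization.Away.val_mk, Localization.mk_eq_mk'_apply]
    have hspec := IsLocalization.mk'_spec (Localization.Away s) (x i)
      (⟨s ^ n i, n i, rfl⟩ : Submonoid.powers s)
    have hDi : D = (D - n i) + n i := by have := hnD i hi; omega
    rw [ht, map_mul, ← hspec, map_pow, map_pow]
    conv_rhs => rw [hDi]
    simp only [pow_add]
    ring
  rw [hf, mul_zero] at hkey
  have hsum : ∑ i ∈ Finset.range (N + 1), t i = 0 := by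
    have hinj : Function.Injective (algebraMap R (Localization.Away s)) :=
      IsLocalization.injective _ (powers_le_nonZeroDivisors_of_noZeroDivisors hs0)
    exact hinj (by rw [hkey, map_zero])
  have htj : ∀ j ∈ Finset.range (N + 1), t j = 0 := by
    intro j hj
    have h1 := congrArg (GradedRing.proj 𝒜 (D + j)) hsum
    rw [map_sum, map_zero, Finset.sum_eq_single j] at h1
    · rw [GradedRing.proj_apply, DirectSum.decompose_of_mem_same 𝒜 (ht_mem j hj)] at h1
      exact h1
    · intro i hi hij
      rw [GradedRing.proj_apply, DirectSum.decompose_of_mem_ne 𝒜 (ht_mem i hi) (by omega)]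
    · intro hj'
      exact absurd hj hj'
  refine Polynomial.ext (fun j => ?_)
  rw [Polynomial.coeff_zero]
  by_cases hj : j ∈ Finset.range (N + 1)
  · have h1 := htj j hj
    rw [ht] at h1
    have hx0 : x j = 0 := by
      rcases mul_eq_zero.mp h1 with h | h
      · exact h
      · exact absurd h (pow_ne_zero _ hs0)
    rw [← hmk j]
    refine HomogeneousLocalization.val_injective (Submonoid.powers s) ?_
    rw [HomogeneousLocalization.Away.val_mk, HomogeneousLocalization.val_zero]
    simp only [hx0, Localization.mk_zero]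
  · rw [Finset.mem_range, not_lt] at hj
    have hlt : f.natDegree < j := by rw [← hN]; omega
    exact Polynomial.coeff_eq_zero_of_natDegree_lt hlt

end Aux


/-- Unique factorization lifts from the homogeneous localization at a prime element of degree one, in
the generality of the published argument: let K be a field, R = ⊕_{i ≥ 0} R_i a Noetherian ℕ-graded
commutative K-algebra which is an integral domain, and s ∈ R_1 a homogeneous element of degree one
which is a prime element of R. If the homogeneous localization R_(s) (degree-zero part of R[1/s])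
has unique factorization, then R is a unique factorization domain. (The published statement is the
case where R is the homogeneous coordinate ring of a Schubert variety, s the Plücker coordinate of
the least index, which is a prime element there, and R_(s) the coordinate ring of the opposite
cell.) -/
theorem result (K : Type u) [Field K] (R : Type v)
    [CommRing R] [IsDomain R] [IsNoetherianRing R] [Algebra K R] (𝒜 : ℕ → Submodule K R) [GradedAlgebra 𝒜]
    (s : R) (hs : s ∈ 𝒜 1) (hp : Prime s)
    (h : UniqueFactorizationMonoid (HomogeneousLocalization.Away 𝒜 s)) :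
    UniqueFactorizationMonoid R := by
  have hs0 : s ≠ 0 := hp.ne_zero
  haveI hdomRs : IsDomain (Localization.Away s) :=
    IsLocalization.isDomain_localization (powers_le_nonZeroDivisors_of_noZeroDivisors hs0)
  haveI hdomA0 : IsDomain (HomogeneousLocalization.Away 𝒜 s) :=
    Function.Injective.isDomain
      (algebraMap (HomogeneousLocalization.Away 𝒜 s) (Localization.Away s))
      (fun a b hab => HomogeneousLocalization.val_injective _ (by
        rwa [HomogeneousLocalization.algebraMap_apply, HomogeneousLocalization.algebraMap_apply]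
          at hab))
  haveI := h
  letI alg : Algebra (HomogeneousLocalization.Away 𝒜 s)[X] (Localization.Away s) :=
    (psi 𝒜 s).toAlgebra
  haveI hloc : IsLocalization (Submonoid.powers (X : (HomogeneousLocalization.Away 𝒜 s)[X]))
      (Localization.Away s) := by
    rw [isLocalization_iff]
    refine ⟨?_, ?_, ?_⟩
    · rintro ⟨y, n, rfl⟩
      show IsUnit (psi 𝒜 s (X ^ n))
      rw [map_pow, psi_X]
      exact (IsLocalization.map_units (Localization.Away s)
        (⟨s, Submonoid.mem_powers s⟩ : Submonoid.powers s)).pow n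
    · intro z
      obtain ⟨⟨r, m⟩, rfl⟩ := IsLocalization.mk'_surjective (Submonoid.powers s) z
      obtain ⟨n, hn⟩ := (Submonoid.mem_powers_iff _ _).mp m.2
      obtain ⟨f, hf⟩ := psi_hits 𝒜 s hs r
      refine ⟨(f, ⟨X ^ n, n, rfl⟩), ?_⟩
      show IsLocalization.mk' _ r m * psi 𝒜 s (X ^ n) = psi 𝒜 s f
      rw [hf, map_pow, psi_X, ← map_pow, hn]
      exact IsLocalization.mk'_spec _ r m
    · intro f g hfg
      exact ⟨1, by rw [psi_injective 𝒜 s hs hs0 hfg]⟩
  have h2 : UniqueFactorizationMonoid (Localization.Away s) :=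
    UniqueFactorizationMonoid.of_isLocalization
      (Submonoid.powers (X : (HomogeneousLocalization.Away 𝒜 s)[X])) (Localization.Away s)
  exact (UniqueFactorizationMonoid.iff_localizationAway_of_prime hp).mpr h2

end Groth.Agent.S11278
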