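import Groth.Statements.S11323
import Mathlib
import Groth.Agent.Lib.T2H6StalkExtH

set_option autoImplicit false
set_option backward.isDefEq.respectTransparency.types false
set_option linter.style.haveILetI false
universe u
open CategoryTheory AlgebraicGeometry TopologicalSpace
open Coherent

namespace Groth.Agent.S11323

/-- Let X be a Noetherian scheme, F a coherent O_X-module, G any O_X-module, x a point of X and i ≥ 0.
Then the stalk at x of the Ext sheaf Ext^i(F, G) — the i-th right derived functor of the internal
Hom functor Hom(F, -) on O_X-modules (its existence and that of injective resolutions are the stated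
instance hypotheses, both true), evaluated at G — is isomorphic, as a module over the local ring at
x, to Ext^i of the stalks F_x, G_x computed in the category of modules over that local ring. (Stalks
are taken as fibres at the point of the site of opens given by x; existence of an isomorphism only.) -/
theorem result (X : Scheme.{u}) [IsNoetherian X]
    (F G : X.Modules) (hF : Coh.IsCoh F)
    [ModSite.HasSheafHom (O := X.sheaf) F] [HasInjectiveResolutions (ModSite.Mod X.sheaf)]
    (x : X) (i : ℕ) :
    Nonempty (ModSite.stalkMod (Opens.pointGrothendieckTopology x) ((ModSite.extSh (O := X.sheaf) F i).obj G)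
      ≃ₗ[ModSite.stalkRing (Opens.pointGrothendieckTopology x) X.sheaf]
      Abelian.Ext (ModSite.stalkMod (O := X.sheaf) (Opens.pointGrothendieckTopology x) F)
        (ModSite.stalkMod (O := X.sheaf) (Opens.pointGrothendieckTopology x) G) i) := by
  classical
  haveI : IsLocallyNoetherian X := inferInstance
  obtain ⟨_, ⟨U, hU, rfl⟩, hxU, -⟩ :=
    (X.isBasis_affineOpens).exists_subset_of_mem_open (Set.mem_univ x) isOpen_univ
  haveI : EnoughInjectives (ModSite.Mod (X.sheaf.over U)) :=
    Groth.Agent.S0485.result ((Opens.grothendieckTopology X).over U) _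
  have hres : ∀ M, Groth.Agent.Lib.T2H6.ExtSec.QCoh U M →
      ∃ (L : ModSite.Mod (X.sheaf.over U)) (g : L ⟶ M), Epi g ∧
      (∃ b, L = Groth.Agent.Lib.T2H9.ShHom.Lb (X.sheaf.over U) b) ∧
      Groth.Agent.Lib.T2H6.ExtSec.QCoh U (Limits.kernel g) := by
    intro M hM
    obtain ⟨b, g, hg, hK⟩ := Groth.Agent.Lib.T2H4.ExtShCoh.exists_resolution U hU M hM
    exact ⟨_, g, hg, ⟨b, rfl⟩, hK⟩
  obtain ⟨R, hR⟩ := Groth.Agent.Lib.T2H6.ExtSec.exists_resn hres _
    (Groth.Agent.Lib.T2H6.ExtSec.QCoh_restr U F hF)
  obtain ⟨e⟩ := Groth.Agent.Lib.T2H6.StalkExt.nonempty_St_extSh_iso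
    (Opens.pointGrothendieckTopology x) U (fun V => inferInstance) ⟨⟨hxU⟩⟩ F G R hR i
  exact ⟨e.toLinearEquiv⟩

end Groth.Agent.S11323
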