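import Groth.Statements.S11326
import Mathlib
import Groth.Agent.Lib.T2H6SDualH

set_option autoImplicit false
universe u
open CategoryTheory AlgebraicGeometry
open ProjDual

namespace Groth.Agent.S11326

/-- Let A be a Noetherian ring, r ≥ 1, X = P^r_A and ω = O_X(-r-1). Then there is an A-linear
isomorphism t : H^r(X, ω) ≅ A such that for every integer n and every A-linear form ψ on H^r(X,
O_X(-n-r-1)) there is exactly one morphism of O_X-modules φ : O_X(-n-r-1) → ω with ψ = t ∘ H^r(φ).
(The published form of the pairing assertion is a perfect pairing H^0(X, O_X(n)) × H^r(X,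
O_X(-n-r-1)) → H^r(X, ω) ≅ A of finitely generated free A-modules; here the first factor is written
as Hom(O_X(-n-r-1), ω), which the pairing identifies with H^0(X, O_X(n)), and only the resulting
bijection onto the A-dual of H^r(X, O_X(-n-r-1)) is stated.) -/
theorem result (A : Type u) [CommRing A]
    [IsNoetherianRing A] (r : ℕ) (hr : 1 ≤ r) :
    ∃ t : Coh.HH (CohB1.ProjSpace r A) (Twist.twistProjSpace r A (-((r : ℤ) + 1))) r ≃ₗ[A] A,
      ∀ (n : ℤ) (ψ : Coh.HH (CohB1.ProjSpace r A) (Twist.twistProjSpace r A (-(n + r + 1))) r →ₗ[A] A),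
        ∃! φ : Twist.twistProjSpace r A (-(n + r + 1)) ⟶ Twist.twistProjSpace r A (-((r : ℤ) + 1)),
          ∀ x : Coh.HH (CohB1.ProjSpace r A) (Twist.twistProjSpace r A (-(n + r + 1))) r,
            ψ x = t (Sheaf.H.map ((SheafOfModules.toSheaf (CohB1.ProjSpace r A).ringCatSheaf).map φ) r x) := by
  have key : ∀ (T : ℤ → (CohB1.ProjSpace r A).Modules),
      (∀ d, T d = Groth.Agent.Lib.T2H6.SDual.OO r A d) →
      ∃ t : Coh.HH (CohB1.ProjSpace r A) (T (-((r : ℤ) + 1))) r ≃ₗ[A] A,
        ∀ (n : ℤ) (ψ : Coh.HH (CohB1.ProjSpace r A) (T (-(n + r + 1))) r →ₗ[A] A),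
          ∃! φ : T (-(n + r + 1)) ⟶ T (-((r : ℤ) + 1)),
            ∀ x : Coh.HH (CohB1.ProjSpace r A) (T (-(n + r + 1))) r,
              ψ x = t (Sheaf.H.map ((SheafOfModules.toSheaf
                (CohB1.ProjSpace r A).ringCatSheaf).map φ) r x) := by
    intro T hT
    obtain rfl : T = fun d => Groth.Agent.Lib.T2H6.SDual.OO r A d := funext hT
    refine ⟨LinearEquiv.ofBijective (Groth.Agent.Lib.T2H6.SDual.trP r A)
      (Groth.Agent.Lib.T2H6.SDual.trP_bijective r A), fun n ψ => ?_⟩
    exact Groth.Agent.Lib.T2H6.SDual.existsUnique_hom_twist r A hr (-(n + r + 1)) ψ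
  exact key (Twist.twistProjSpace r A) (fun d => Groth.Agent.Lib.T2H5.PnTop.twist_eq r A d)

end Groth.Agent.S11326
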