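import Groth.Statements.S11330
import Mathlib
import Groth.Agent.Lib.T2H6PtTwistF

set_option autoImplicit false
universe u
open CategoryTheory CategoryTheory.Limits AlgebraicGeometry
open Curves

namespace Groth.Agent.S11330

/-- Let k be an algebraically closed field and X a curve over k (an integral scheme, proper over k, of
dimension one, with all local rings regular), and L an invertible O_X-module. Then L is generated by
its global sections (a quotient of a free O_X-module) if and only if for every closed point P of X,
with ideal sheaf I_P ⊆ O_X, dim_k H^0(X, L ⊗ I_P) = dim_k H^0(X, L) - 1. -/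
theorem result (k : Type u) [Field k] [IsAlgClosed k] (X : Scheme.{u}) [X.Over (Spec (CommRingCat.of k))]
    [IsIntegral X] [IsProper (X ↘ (Spec (CommRingCat.of k)))] (hdim : topologicalKrullDim X = 1)
    (hreg : ∀ x : X, IsRegularLocalRing (X.presheaf.stalk x)) (L : X.Modules) (hL : PicF.IsInvertible L) :
    Curv2.IsGloballyGenerated L ↔
      ∀ (P : X) (hP : IsClosed ({P} : Set X)),
        Module.finrank k (Coh.HH X (CohB1.tensorMod L (ClSub.idealMod (Scheme.IdealSheafData.vanishingIdeal ⟨{P}, hP⟩))) 0) + 1 = Module.finrank k (Coh.HH X L 0) := by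
  haveI : LocallyOfFiniteType (X ↘ Spec (CommRingCat.of k)) := inferInstance
  haveI : JacobsonSpace X := LocallyOfFiniteType.jacobsonSpace (X ↘ Spec (CommRingCat.of k))
  constructor
  · intro hgg P hP
    have hrat := Groth.Agent.Lib.T2H6.PtTwistC.surjective_resMap k X P hP
    exact (Groth.Agent.Lib.T2H6.PtTwistF.exists_mem_genLocus_iff' k hdim P hP hrat L hL).1
      (Groth.Agent.Lib.Helper23.GG.exists_section_mem_genLocus L hL hgg P)
  · intro h
    apply Groth.Agent.Lib.Helper23.SecTw.isGloballyGenerated_of_forall_mem_genLocus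
    intro x
    obtain ⟨P, hPx, hPc⟩ := nonempty_inter_closedPoints (Z := closure ({x} : Set X))
      ⟨x, subset_closure rfl⟩ isClosed_closure.isLocallyClosed
    have hPc' : IsClosed ({P} : Set X) := hPc
    have hrat := Groth.Agent.Lib.T2H6.PtTwistC.surjective_resMap k X P hPc'
    obtain ⟨s, hs⟩ := (Groth.Agent.Lib.T2H6.PtTwistF.exists_mem_genLocus_iff' k hdim P hPc' hrat L hL).2
      (h P hPc')
    refine ⟨s, ?_⟩
    obtain ⟨y, hy1, hy2⟩ := mem_closure_iff.1 hPx _ (CohB1.genLocus L s).2 hs
    rw [Set.mem_singleton_iff.1 hy2] at hy1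
    exact hy1

end Groth.Agent.S11330
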