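import Groth.Statements.S11418
import Groth.Agent.Lib.Helper12Act

set_option autoImplicit false
universe u
open CategoryTheory MonoidalCategory CartesianMonoidalCategory MonObj GrpObj AlgebraicGeometry CategoryTheory.Limits
open AlgGrp

namespace Groth.Agent.S11418

/-- Over an algebraically closed field k, let G be an affine algebraic group (smooth affine k-group
scheme of finite type) and π : X → Y a principal G-bundle of k-schemes of finite type: G acts on X,
π is G-invariant, faithfully flat, and the square formed by the action, the second projection G × X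
→ X and π is cartesian. Then the map θ sending a G-equivariant morphism f : X → G (for the
conjugation action on G, i.e. f(g·x) = g f(x) g⁻¹ on points) to the automorphism x ↦ f(x)·x is a
bijection onto the bundle automorphisms: every G-equivariant automorphism φ of X with π ∘ φ = π
equals θ(f) for exactly one such f. -/
theorem result (k : Type u) [Field k] [IsAlgClosed k]
    (G X Y : Over (Spec (CommRingCat.of k))) [GrpObj G] [Smooth G.hom] [QuasiCompact G.hom] [IsAffine G.left]
    [LocallyOfFiniteType X.hom] [QuasiCompact X.hom] [LocallyOfFiniteType Y.hom] [QuasiCompact Y.hom]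
    (a : AlgGrp.Action G X) (π : X ⟶ Y) (hinv : a.act ≫ π = snd G X ≫ π) [Flat π.left] [Surjective π.left]
    (hcart : IsPullback (snd G X) a.act π π)
    (φ : X ≅ X) (hφ : φ.hom ≫ π = π) (hφeq : (G ◁ φ.hom) ≫ a.act = a.act ≫ φ.hom) :
    ∃! f : X ⟶ G, (∀ (S : Over (Spec (CommRingCat.of k))) (g : S ⟶ G) (x : S ⟶ X),
        lift g x ≫ a.act ≫ f = g * (x ≫ f) * g⁻¹) ∧ φ.hom = lift f (𝟙 X) ≫ a.act := by
  -- the unique lift of the cone `(𝟙, φ)` through the torsor square
  have hcone : (𝟙 X) ≫ π = φ.hom ≫ π := by rw [Category.id_comp, hφ]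
  obtain ⟨t, ht1, ht2⟩ : ∃ t : X ⟶ G ⊗ X, t ≫ snd G X = 𝟙 X ∧ t ≫ a.act = φ.hom :=
    ⟨hcart.lift (𝟙 X) φ.hom hcone, hcart.lift_fst _ _ _, hcart.lift_snd _ _ _⟩
  -- freeness of the action
  have hfree : ∀ (S : Over (Spec (CommRingCat.of k))) (p q : S ⟶ G ⊗ X),
      p ≫ snd G X = q ≫ snd G X → p ≫ a.act = q ≫ a.act → p = q :=
    fun S p q h1 h2 => hcart.hom_ext h1 h2
  have htl : t = lift (t ≫ fst G X) (𝟙 X) := by
    apply CartesianMonoidalCategory.hom_ext
    · rw [lift_fst]
    · rw [lift_snd, ht1]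
  have hφf : φ.hom = lift (t ≫ fst G X) (𝟙 X) ≫ a.act := by rw [← htl, ht2]
  refine ⟨t ≫ fst G X, ⟨?_, hφf⟩, ?_⟩
  · intro S g x
    obtain ⟨f, hf⟩ : ∃ f : X ⟶ G, f = t ≫ fst G X := ⟨_, rfl⟩
    rw [← hf] at hφf ⊢
    obtain ⟨y, hy⟩ : ∃ y : S ⟶ X, y = lift g x ≫ a.act := ⟨_, rfl⟩
    -- φ(y) = f(y) · y
    have e1 : y ≫ φ.hom = lift (y ≫ f) y ≫ a.act := by
      rw [hφf, ← Category.assoc, comp_lift, Category.comp_id]
    -- φ(g · x) = g · φ(x)
    have e2 : y ≫ φ.hom = lift g (x ≫ φ.hom) ≫ a.act := by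
      rw [hy, Category.assoc, ← hφeq, ← Category.assoc, lift_whiskerLeft]
    have e3 : x ≫ φ.hom = lift (x ≫ f) x ≫ a.act := by
      rw [hφf, ← Category.assoc, comp_lift, Category.comp_id]
    have e4 : lift ((y ≫ f) * g) x ≫ a.act = lift (g * (x ≫ f)) x ≫ a.act := by
      rw [Groth.Agent.Lib.Helper12.act_mul, Groth.Agent.Lib.Helper12.act_mul, ← hy, ← e1, e2, e3]
    have e5 : lift ((y ≫ f) * g) x = lift (g * (x ≫ f)) x :=
      hfree S _ _ (by rw [lift_snd, lift_snd]) e4
    have e6 : (y ≫ f) * g = g * (x ≫ f) := by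
      have := congrArg (fun m => m ≫ fst G X) e5
      simpa only [lift_fst] using this
    rw [← Category.assoc, ← hy]
    rw [← e6, _root_.mul_assoc, _root_.mul_inv_cancel, _root_.mul_one]
  · rintro f' ⟨-, hf'⟩
    have h1 : lift f' (𝟙 X) = t :=
      hfree X _ _ (by rw [lift_snd, ht1]) (by rw [← hf', ht2])
    rw [← h1, lift_fst]

end Groth.Agent.S11418
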