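import Groth.Statements.S11434
import Groth.Agent.Lib.T2H7MumD

set_option autoImplicit false
universe u
open CategoryTheory MonoidalCategory CartesianMonoidalCategory MonObj GrpObj AlgebraicGeometry Topology
open GIT

namespace Groth.Agent.S11434

/-- Let S, X, Y be locally Noetherian, p : X → S flat, q : Y → S separated, f : X → Y over S, with S
connected and κ(s) → H⁰(X_s, O_{X_s}) bijective for every point s of S; assume either that p is
proper, or that p is a closed map and has a section. If f collapses one fibre p⁻¹(s) to a single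
point, then f = t ∘ p for a section t of q. (The published statement assumes all schemes separated;
this row assumes only that q is separated, which is what the proof uses.) -/
theorem result (S X Y : Scheme.{u}) [IsLocallyNoetherian S] [IsLocallyNoetherian X]
    [IsLocallyNoetherian Y] (p : X ⟶ S) (q : Y ⟶ S) (f : X ⟶ Y) (hf : f ≫ q = p) [Flat p] [IsSeparated q]
    [ConnectedSpace S]
    (h0 : ∀ s : S, Function.Bijective (Limits.pullback.snd p (S.fromSpecResidueField s)).appTop)
    (hp : IsProper p ∨ (IsClosedMap p.base ∧ ∃ e : S ⟶ X, e ≫ p = 𝟙 S))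
    (s : S) (hs : ∀ x x' : X, p.base x = s → p.base x' = s → f.base x = f.base x') :
    ∃ t : S ⟶ Y, t ≫ q = 𝟙 S ∧ f = p ≫ t := by
  rcases hp with hprop | ⟨hcl, e, he⟩
  · exact Groth.Agent.Lib.T2H7.MumD.exists_section_of_connected p q f hf (fun s => h0 s) s hs
  · obtain ⟨T, hTcl, hTeq, hTcoll⟩ := Groth.Agent.Lib.T2H7.MumC.section_case p e q f hcl he hf
      (fun s => (h0 s).2)
    have hsT : s ∈ T := by
      apply hTcoll
      obtain ⟨_, ⟨V₀, hV₀, rfl⟩, hyV₀, -⟩ :=
        Y.isBasis_affineOpens.exists_subset_of_mem_open (Set.mem_univ (f.base (e.base s)))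
          isOpen_univ
      refine ⟨V₀, hV₀, fun x hx => ?_⟩
      have h1 : p.base (e.base s) = s := by
        have := congrArg (fun k : S ⟶ S => k.base s) he
        simpa using this
      rw [hs x (e.base s) hx h1]
      exact hyV₀
    have hclopen : IsClopen (T : Set S) := ⟨hTcl, T.isOpen⟩
    have huniv := hclopen.eq_univ ⟨s, hsT⟩
    have heq : f = p ≫ e ≫ f := by
      refine Scheme.hom_ext_of_forall _ _ fun x => ⟨p ⁻¹ᵁ T, ?_, hTeq⟩
      show p.base x ∈ (T : Set S)
      rw [huniv]; trivial
    refine ⟨e ≫ f, ?_, heq⟩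
    rw [Category.assoc, hf, he]

end Groth.Agent.S11434
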