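import Groth.Statements.S11438
import Groth.Agent.Lib.T2H7MumD

set_option autoImplicit false
universe u
open CategoryTheory MonoidalCategory CartesianMonoidalCategory MonObj GrpObj AlgebraicGeometry Topology
open GIT

namespace Groth.Agent.S11438

/-- Let S be connected and locally Noetherian, G a locally Noetherian group scheme separated over S, X →
S proper and flat with κ(s) → H⁰(X_s, O_{X_s}) bijective for every s, and f, g : X → G morphisms
over S which agree on one fibre X_s. Then there is a section t of G over S with f = (t ∘ p) · g, the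
product taken in the group of X-valued points of G. -/
theorem result (S : Scheme.{u}) [IsLocallyNoetherian S] [ConnectedSpace S]
    (X G : Over S) [GrpObj G] [IsLocallyNoetherian G.left] [IsSeparated G.hom] [IsProper X.hom] [Flat X.hom]
    (h0 : ∀ s : S, Function.Bijective (Limits.pullback.snd X.hom (S.fromSpecResidueField s)).appTop)
    (f g : X ⟶ G) (s : S)
    (hs : Limits.pullback.fst X.hom (S.fromSpecResidueField s) ≫ f.left =
      Limits.pullback.fst X.hom (S.fromSpecResidueField s) ≫ g.left) :
    ∃ t : 𝟙_ (Over S) ⟶ G, f = (toUnit X ≫ t) * g := by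
  classical
  let h : X ⟶ G := f / g
  let Xs : Over S := Over.mk (Limits.pullback.fst X.hom (S.fromSpecResidueField s) ≫ X.hom)
  let j : Xs ⟶ X := Over.homMk (Limits.pullback.fst X.hom (S.fromSpecResidueField s)) rfl
  have hj : j ≫ f = j ≫ g := by
    apply Over.OverMorphism.ext
    exact hs
  have hjh : j ≫ h = 1 := by
    show j ≫ (f / g) = 1
    rw [GrpObj.comp_div, hj, div_self']
  have hcoll : ∀ x : X.left, X.hom.base x = s → h.left.base x = (η[G]).left.base s := by
    intro x hx
    have hxr : x ∈ Set.range (Limits.pullback.fst X.hom (S.fromSpecResidueField s)).base := by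
      rw [Scheme.Pullback.range_fst, Scheme.range_fromSpecResidueField]
      exact hx
    obtain ⟨z, rfl⟩ := hxr
    have h1 := congrArg (fun k : Xs ⟶ G => k.left.base z) hjh
    rw [Hom.one_def] at h1
    simp only [Over.comp_left, Scheme.Hom.comp_base, TopCat.comp_app, Over.toUnit_left] at h1
    have h2 : Xs.hom.base z = s := by
      show (Limits.pullback.fst X.hom (S.fromSpecResidueField s) ≫ X.hom).base z = s
      rw [Scheme.Hom.comp_base, TopCat.comp_app]
      exact hx
    rw [h2] at h1
    exact h1
  obtain ⟨t₀, ht₀, hht₀⟩ := Groth.Agent.Lib.T2H7.MumD.exists_section_of_connected X.hom G.hom h.left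
    (Over.w h) (fun s => h0 s) s (fun x x' hx hx' => by rw [hcoll x hx, hcoll x' hx'])
  let t : 𝟙_ (Over S) ⟶ G := Over.homMk t₀ (by rw [Over.tensorUnit_hom]; exact ht₀)
  have ht : toUnit X ≫ t = h := by
    apply Over.OverMorphism.ext
    show (toUnit X).left ≫ t₀ = h.left
    rw [Over.toUnit_left]
    exact hht₀.symm
  refine ⟨t, ?_⟩
  rw [ht]
  show f = f / g * g
  rw [div_mul_cancel]

end Groth.Agent.S11438
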