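import Groth.Statements.S11439
import Groth.Agent.Lib.T2H7MumD

set_option autoImplicit false
universe u
open CategoryTheory MonoidalCategory CartesianMonoidalCategory MonObj GrpObj AlgebraicGeometry Topology
open GIT

namespace Groth.Agent.S11439

/-- Let S be locally Noetherian, G a locally Noetherian group scheme separated over S, X → S proper and
flat with κ(s) → H⁰(X_s, O_{X_s}) bijective for every s, and Y connected, locally Noetherian,
separated over S with a section over S. Then every morphism f : X ×_S Y → G over S factors as f = (g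
∘ p₁) · (h ∘ p₂) with g : X → G and h : Y → G. -/
theorem result (S : Scheme.{u}) [IsLocallyNoetherian S]
    (X Y G : Over S) [GrpObj G] [IsLocallyNoetherian G.left] [IsSeparated G.hom] [IsProper X.hom] [Flat X.hom]
    (h0 : ∀ s : S, Function.Bijective (Limits.pullback.snd X.hom (S.fromSpecResidueField s)).appTop)
    [IsLocallyNoetherian Y.left] [IsSeparated Y.hom] [ConnectedSpace Y.left] (e : 𝟙_ (Over S) ⟶ Y)
    (f : X ⊗ Y ⟶ G) :
    ∃ (g : X ⟶ G) (h : Y ⟶ G), f = (fst X Y ≫ g) * (snd X Y ≫ h) := by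
  classical
  let i : X ⟶ X ⊗ Y := lift (𝟙 X) (toUnit X ≫ e)
  let g : X ⟶ G := i ≫ f
  let F : X ⊗ Y ⟶ G := (fst X Y ≫ g)⁻¹ * f
  have hiF : i ≫ F = 1 := by
    show i ≫ ((fst X Y ≫ g)⁻¹ * f) = 1
    rw [MonObj.comp_mul, GrpObj.comp_inv, ← Category.assoc, lift_fst, Category.id_comp]
    exact inv_mul_cancel g
  -- the base-changed family over `Y`
  let p' : Limits.pullback X.hom Y.hom ⟶ Y.left := Limits.pullback.snd X.hom Y.hom
  let q' : Limits.pullback G.hom Y.hom ⟶ Y.left := Limits.pullback.snd G.hom Y.hom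
  have hFw : F.left ≫ G.hom = Limits.pullback.snd X.hom Y.hom ≫ Y.hom := by
    rw [Over.w F, Over.tensorObj_hom, Limits.pullback.condition]
  let f' : Limits.pullback X.hom Y.hom ⟶ Limits.pullback G.hom Y.hom :=
    Limits.pullback.lift F.left (Limits.pullback.snd X.hom Y.hom) hFw
  have hf' : f' ≫ q' = p' := Limits.pullback.lift_snd _ _ _
  have hf'1 : f' ≫ Limits.pullback.fst G.hom Y.hom = F.left := Limits.pullback.lift_fst _ _ _
  have h0' : ∀ y : Y.left, Function.Bijective
      (Limits.pullback.snd p' (Y.left.fromSpecResidueField y)).appTop.hom := by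
    intro y
    exact Groth.Agent.Lib.T2H7.MumD.appTop_snd_bijective_of_isPullback
      (IsPullback.of_hasPullback X.hom Y.hom) y (h0 _)
  -- a point of `Y` in the image of `e`
  obtain ⟨y₁⟩ : Nonempty Y.left := inferInstance
  let s : S := Y.hom.base y₁
  let y₀ : Y.left := e.left.base s
  have hi1 : i.left ≫ Limits.pullback.fst X.hom Y.hom = 𝟙 X.left := by
    have := congrArg (fun k : X ⟶ X => k.left) (lift_fst (𝟙 X) (toUnit X ≫ e))
    exact this
  have hi2 : i.left ≫ Limits.pullback.snd X.hom Y.hom = X.hom ≫ e.left := by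
    have := congrArg (fun k : X ⟶ Y => k.left) (lift_snd (𝟙 X) (toUnit X ≫ e))
    exact this
  have he : e.left ≫ Y.hom = 𝟙 S := by
    have := Over.w e
    rw [Over.tensorUnit_hom] at this
    exact this
  have Hi : IsPullback i.left X.hom (Limits.pullback.snd X.hom Y.hom) e.left := by
    refine IsPullback.of_right ?_ hi2 (IsPullback.of_hasPullback X.hom Y.hom)
    rw [hi1, he]
    exact IsPullback.of_horiz_isIso ⟨by simp⟩
  have hηw : (η[G]).left ≫ G.hom = e.left ≫ Y.hom := by
    rw [Over.w, Over.tensorUnit_hom, he]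
  let c : S ⟶ Limits.pullback G.hom Y.hom := Limits.pullback.lift (η[G]).left e.left hηw
  have hif' : i.left ≫ f' = X.hom ≫ c := by
    apply Limits.pullback.hom_ext
    · rw [Category.assoc, hf'1, Category.assoc, Limits.pullback.lift_fst]
      have h1 := congrArg (fun k : X ⟶ G => k.left) hiF
      rw [Hom.one_def] at h1
      exact h1
    · rw [Category.assoc, Limits.pullback.lift_snd, Category.assoc, Limits.pullback.lift_snd, hi2]
  have hcoll : ∀ z : ↥(Limits.pullback X.hom Y.hom), p'.base z = y₀ →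
      f'.base z = c.base s := by
    intro z hz
    obtain ⟨x, hx1, hx2⟩ := Scheme.exists_preimage_of_isPullback Hi z s hz
    have h1 := congrArg (fun k : X.left ⟶ Limits.pullback G.hom Y.hom => k.base x) hif'
    simp only [Scheme.Hom.comp_base, TopCat.comp_app] at h1
    rw [hx1, hx2] at h1
    exact h1
  obtain ⟨t₀, ht₀, hht₀⟩ := Groth.Agent.Lib.T2H7.MumD.exists_section_of_connected p' q' f' hf' h0' y₀
    (fun z z' hz hz' => by rw [hcoll z hz, hcoll z' hz'])
  have hhw : (t₀ ≫ Limits.pullback.fst G.hom Y.hom) ≫ G.hom = Y.hom := by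
    rw [Category.assoc, Limits.pullback.condition, ← Category.assoc, ht₀, Category.id_comp]
  let h : Y ⟶ G := Over.homMk (t₀ ≫ Limits.pullback.fst G.hom Y.hom) hhw
  have hF : F = snd X Y ≫ h := by
    apply Over.OverMorphism.ext
    show F.left = Limits.pullback.snd X.hom Y.hom ≫ t₀ ≫ Limits.pullback.fst G.hom Y.hom
    rw [← hf'1, hht₀, Category.assoc]
  refine ⟨g, h, ?_⟩
  rw [← hF]
  show f = (fst X Y ≫ g) * ((fst X Y ≫ g)⁻¹ * f)
  rw [mul_inv_cancel_left]

end Groth.Agent.S11439
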