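import Groth.Statements.S11440
import Groth.Agent.Lib.T2H7MumF

set_option autoImplicit false
universe u
open CategoryTheory MonoidalCategory CartesianMonoidalCategory MonObj GrpObj AlgebraicGeometry Topology
open GIT

namespace Groth.Agent.S11440

/-- Let S be Noetherian, X an abelian scheme over S (smooth proper group scheme with connected geometric
fibres), G any locally Noetherian group scheme separated over S, and f : X → G a morphism over S
carrying the unit of X to the unit of G. Then f is a homomorphism. -/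
theorem result (S : Scheme.{u}) [IsNoetherian S]
    (X G : Over S) [GrpObj X] [GrpObj G] [Smooth X.hom] [IsProper X.hom]
    (hc : ∀ s : S, ConnectedSpace (Red.geomFibre s X).left)
    [IsLocallyNoetherian G.left] [IsSeparated G.hom] (f : X ⟶ G) (hf : η[X] ≫ f = η[G]) :
    IsMonHom f := by
  classical
  have h0 : ∀ s : S, Function.Bijective
      (Limits.pullback.snd X.hom (S.fromSpecResidueField s)).appTop.hom :=
    fun s => Groth.Agent.Lib.T2H7.MumF.appTop_snd_bijective_of_smooth_of_connected X.hom s (hc s)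
  have hflat : Flat X.hom := inferInstance
  have hXN : IsLocallyNoetherian X.left := LocallyOfFiniteType.isLocallyNoetherian X.hom
  have hη : (η[X]).left ≫ X.hom = 𝟙 S := by
    have := Over.w (η[X])
    rw [Over.tensorUnit_hom] at this
    exact this
  have hconn : ∀ y : X.left, ∃ C : Set X.left, _root_.IsPreconnected C ∧ y ∈ C ∧
      ∃ s : S, (η[X]).left.base s ∈ C := by
    intro y
    refine ⟨X.hom.base ⁻¹' {X.hom.base y},
      (Groth.Agent.Lib.T2H7.MumD.isConnected_fibre X.hom _ (h0 _)).isPreconnected, rfl,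
      X.hom.base y, ?_⟩
    show X.hom.base ((η[X]).left.base (X.hom.base y)) = X.hom.base y
    have h1 := congrArg (fun k : S ⟶ S => k.base (X.hom.base y)) hη
    simp only [Scheme.Hom.comp_base, TopCat.comp_app] at h1
    rw [h1]
    rfl
  obtain ⟨g, h, hgh⟩ := Groth.Agent.Lib.T2H7.MumF.decomp S X X G h0 η[X] hconn (μ[X] ≫ f)
  -- the constants
  let a : 𝟙_ (Over S) ⟶ G := η[X] ≫ g
  let b : 𝟙_ (Over S) ⟶ G := η[X] ≫ h
  have hfi : f = g * (toUnit X ≫ b) := by
    have h1 := congrArg (fun k => lift (𝟙 X) (toUnit X ≫ η[X]) ≫ k) hgh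
    rw [← Category.assoc, MonObj.lift_comp_one_right, Category.id_comp, MonObj.comp_mul,
      ← Category.assoc, lift_fst, Category.id_comp, ← Category.assoc, lift_snd] at h1
    rw [h1, Category.assoc]
  have hfj : f = (toUnit X ≫ a) * h := by
    have h1 := congrArg (fun k => lift (toUnit X ≫ η[X]) (𝟙 X) ≫ k) hgh
    rw [← Category.assoc, MonObj.lift_comp_one_left, Category.id_comp, MonObj.comp_mul,
      ← Category.assoc, lift_fst, ← Category.assoc, lift_snd, Category.id_comp] at h1
    rw [h1, Category.assoc]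
  have hab : a * b = 1 := by
    have h1 := congrArg (fun k => η[X] ≫ k) hfi
    rw [hf, MonObj.comp_mul, ← Category.assoc, toUnit_unique (η[X] ≫ toUnit X) (𝟙 _),
      Category.id_comp] at h1
    rw [← h1, Hom.one_def, toUnit_unique (toUnit (𝟙_ (Over S))) (𝟙 _), Category.id_comp]
  let T : X ⊗ X ⟶ 𝟙_ (Over S) := toUnit (X ⊗ X)
  have hP : fst X X ≫ f = (fst X X ≫ g) * (T ≫ b) := by
    have h1 := congrArg (fun k => fst X X ≫ k) hfi
    rw [MonObj.comp_mul, ← Category.assoc, toUnit_unique (fst X X ≫ toUnit X) T] at h1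
    exact h1
  have hQ : snd X X ≫ f = (T ≫ a) * (snd X X ≫ h) := by
    have h1 := congrArg (fun k => snd X X ≫ k) hfj
    rw [MonObj.comp_mul, ← Category.assoc, toUnit_unique (snd X X ≫ toUnit X) T] at h1
    exact h1
  have hAB : (T ≫ a) * (T ≫ b) = 1 := by
    rw [← MonObj.comp_mul, hab, Hom.one_def, Hom.one_def, ← Category.assoc,
      toUnit_unique (T ≫ toUnit _) (toUnit _)]
  have hBA : (T ≫ b) * (T ≫ a) = 1 := by
    have h1 : T ≫ b = (T ≫ a)⁻¹ := eq_inv_of_mul_eq_one_right hAB
    rw [h1, inv_mul_cancel]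
  have hmul : μ[X] ≫ f = (fst X X ≫ f) * (snd X X ≫ f) := by
    rw [hgh, hP, hQ]
    calc (fst X X ≫ g) * (snd X X ≫ h)
        = (fst X X ≫ g) * 1 * (snd X X ≫ h) := by rw [_root_.mul_one]
      _ = (fst X X ≫ g) * ((T ≫ b) * (T ≫ a)) * (snd X X ≫ h) := by rw [hBA]
      _ = (fst X X ≫ g) * (T ≫ b) * ((T ≫ a) * (snd X X ≫ h)) := by
          simp only [_root_.mul_assoc]
  refine ⟨hf, ?_⟩
  rw [hmul, Hom.mul_def]
  congr 1

end Groth.Agent.S11440
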