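import Groth.Statements.S11484
import Mathlib
import Groth.Agent.Lib.T2H5Split
-- import your own Groth.Agent.* helpers here

set_option autoImplicit false
universe u
open VBPn

namespace Groth.Agent.S11484

open Groth.Agent.Lib.T2H5.Twist Groth.Agent.Lib.T2H5.Split in
open CategoryTheory CategoryTheory.Limits AlgebraicGeometry in
/-- Let k be an algebraically closed field of characteristic zero and n ≥ 2. On P^n_k every short exact
sequence of O-modules whose first term is isomorphic to O(a) and whose third term is isomorphic to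
O(b), for integers a and b, admits a splitting; in particular its middle term is isomorphic to O(a)
⊕ O(b). -/
theorem result (k : Type u) [Field k] [IsAlgClosed k] [CharZero k]
    (n : ℕ) (hn : 2 ≤ n) (a b : ℤ) (S : ShortComplex (CohB1.ProjSpace n k).Modules) (hS : S.ShortExact)
    (ha : Nonempty (S.X₁ ≅ Twist.twistProjSpace n k a)) (hb : Nonempty (S.X₃ ≅ Twist.twistProjSpace n k b)) :
    Nonempty S.Splitting := by
  obtain ⟨ea⟩ := ha
  obtain ⟨eb⟩ := hb
  haveI : (tw n k (-b)).IsEquivalence := (twEquiv n k (-b)).isEquivalence_functor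
  have hS' : (S.map (tw n k (-b))).ShortExact := shortExact_map_tw n k (-b) S hS
  -- the third term becomes the structure sheaf
  let e₃ : (S.map (tw n k (-b))).X₃ ≅ Coh.structureModule (CohB1.ProjSpace n k) :=
    (tw n k (-b)).mapIso eb ≪≫ (nonempty_twist_tensor_iso n k b (-b) 0 (by omega)).some ≪≫
      (nonempty_twist_zero_iso n k).some
  -- the first term becomes `O(a - b)`
  let e₁ : (S.map (tw n k (-b))).X₁ ≅ Twist.twistProjSpace n k (a - b) :=
    (tw n k (-b)).mapIso ea ≪≫ (nonempty_twist_tensor_iso n k a (-b) (a - b) (by omega)).some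
  have hH0 : Subsingleton (Coh.HH (CohB1.ProjSpace n k) (Twist.twistProjSpace n k (a - b)) 1) :=
    Groth.Agent.Lib.T2H5.PnVanish.subsingleton_HH_twist n k (a - b) 1 (by omega) (by omega)
  have hH : Subsingleton (Coh.HH (CohB1.ProjSpace n k) (S.map (tw n k (-b))).X₁ 1) :=
    Groth.Agent.Lib.T2H5.PnStruct.subsingleton_HH_of_iso e₁.symm 1 hH0
  obtain ⟨s, hs⟩ := exists_section (S.map (tw n k (-b))) hS' e₃ hH
  obtain ⟨s₀, rfl⟩ := (tw n k (-b)).map_surjective s
  have hs₀ : s₀ ≫ S.g = 𝟙 _ := by
    apply (tw n k (-b)).map_injective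
    rw [Functor.map_comp, CategoryTheory.Functor.map_id]
    exact hs
  haveI := hS.mono_f
  exact ⟨ShortComplex.Splitting.ofExactOfSection S hS.exact s₀ hs₀ inferInstance⟩

end Groth.Agent.S11484
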