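import Groth.Statements.S11485
import Mathlib
import Groth.Agent.S1697
import Groth.Agent.Lib.T2H6SplitExt
import Groth.Agent.Lib.T2H6CurveExt
import Groth.Agent.Lib.T2H5Twist
import Groth.Agent.Lib.T2H5PnVanish
import Groth.Agent.Lib.T2H5Chevalley

set_option autoImplicit false
universe u
open VBPn

namespace Groth.Agent.S11485

open CategoryTheory CategoryTheory.Limits AlgebraicGeometry in
/-- Let k be an algebraically closed field of characteristic zero and n ≥ 2. If 0 → L → E → M → 0 is a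
short exact sequence of O-modules on P^n_k with L and M finite locally free of rank 1 (so E is a
rank-2 vector bundle with the proper subbundle L), then E ≅ O(a) ⊕ O(b) for some integers a, b: a
rank-2 vector bundle on P^n_k, n ≥ 2, which does not split has no proper subbundle. -/
theorem result (k : Type u) [Field k] [IsAlgClosed k]
    [CharZero k] (n : ℕ) (hn : 2 ≤ n) (S : ShortComplex (CohB1.ProjSpace n k).Modules) (hS : S.ShortExact)
    (h₁ : FlatMod.IsFinLocFreeOfRank 1 S.X₁) (h₃ : FlatMod.IsFinLocFreeOfRank 1 S.X₃) :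
    ∃ a b : ℤ, Nonempty (S.X₂ ≅ Twist.twistProjSpace n k a ⊞ Twist.twistProjSpace n k b) := by
  have hL₁ : PicF.IsInvertible S.X₁ :=
    Groth.Agent.Lib.T2H6.CurveExt.isInvertible_of_rank_one _ h₁
  have hL₃ : PicF.IsInvertible S.X₃ :=
    Groth.Agent.Lib.T2H6.CurveExt.isInvertible_of_rank_one _ h₃
  obtain ⟨a, ⟨ea⟩⟩ := Groth.Agent.S1697.result k n S.X₁ hL₁
  obtain ⟨b, ⟨eb⟩⟩ := Groth.Agent.S1697.result k n S.X₃ hL₃
  obtain ⟨e₀⟩ := Groth.Agent.Lib.T2H5.Twist.nonempty_twist_tensor_iso n k (-b) b 0 (by ring)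
  obtain ⟨e₁⟩ := Groth.Agent.Lib.T2H5.Twist.nonempty_twist_zero_iso n k
  obtain ⟨e₂⟩ := Groth.Agent.Lib.T2H5.Twist.nonempty_twist_tensor_iso n k (-b) a (-b + a) rfl
  let e : CohB1.tensorMod (Twist.twistProjSpace n k (-b)) S.X₃ ≅
      Coh.structureModule (CohB1.ProjSpace n k) :=
    (DCoh.tensorBi.obj (Twist.twistProjSpace n k (-b))).mapIso eb ≪≫ e₀ ≪≫ e₁
  have h1 : Subsingleton (Coh.HH (CohB1.ProjSpace n k)
      (CohB1.tensorMod (Twist.twistProjSpace n k (-b)) S.X₁) 1) := by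
    have h2 := Groth.Agent.Lib.T2H5.PnVanish.subsingleton_HH_twist n k (-b + a) 1
      (fun h => by omega) (fun h => by omega)
    exact Groth.Agent.Lib.T2H5.Chevalley.subsingleton_HH_of_iso
      ((DCoh.tensorBi.obj (Twist.twistProjSpace n k (-b))).mapIso ea ≪≫ e₂).symm 1 h2
  have hsplit : IsSplitEpi S.g :=
    Groth.Agent.Lib.T2H6.SplitExt.isSplitEpi_of_h1 k S hS (Twist.twistProjSpace n k (-b)) e h1
  have := hS.mono_f
  let spl := ShortComplex.Splitting.ofExactOfSection S hS.exact (section_ S.g) (IsSplitEpi.id S.g) hS.mono_f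
  exact ⟨a, b, ⟨spl.isoBinaryBiproduct ≪≫ biprod.mapIso ea eb⟩⟩

end Groth.Agent.S11485
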