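import Groth.Statements.S11496
import Groth.Agent.Lib.Helper28RegLoc
import Groth.Agent.Lib.Helper28Unmixed

set_option autoImplicit false
set_option linter.style.haveILetI false
universe u
open CategoryTheory
open VBPn

namespace Groth.Agent.S11496

/-- Let A be a regular local ring, M a finitely generated A-module and i ≥ 0. The support of Ext^i_A(M,
A) has dimension at most dim A − i: for every prime ideal p of A such that Ext^i over the
localization A_p of M_p into A_p is nonzero (this Ext group is the localization at p of Ext^i_A(M,
A)), one has dim(A/p) + i ≤ dim A. The published statement is for coherent analytic sheaves on an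
n-dimensional complex manifold; this row is stated for any regular local ring. -/
theorem result (A : Type u) [CommRing A] [IsRegularLocalRing A]
    (M : Type u) [AddCommGroup M] [Module A M] [Module.Finite A M] (i : ℕ) (p : Ideal A) [p.IsPrime]
    (h : Nontrivial (Abelian.Ext
      (ModuleCat.of (Localization.AtPrime p) (LocalizedModule p.primeCompl M))
      (ModuleCat.of (Localization.AtPrime p) (Localization.AtPrime p)) i)) :
    ringKrullDim (A ⧸ p) + (i : WithBot ℕ∞) ≤ ringKrullDim A := by
  have hreg : IsRegularLocalRing (Localization.AtPrime p) :=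
    Groth.Agent.Lib.Helper28.isRegularLocalRing_localization_of_isRegularLocalRing A p
  obtain ⟨e, he⟩ := Groth.Agent.Lib.Helper5.exists_nat_ringKrullDim_eq (Localization.AtPrime p)
  have hpd := Groth.Agent.S0563.result (Localization.AtPrime p) e he
    (LocalizedModule p.primeCompl M)
  have hie : i ≤ e := by
    by_contra hlt
    push Not at hlt
    have hs : Subsingleton (Abelian.Ext
        (ModuleCat.of (Localization.AtPrime p) (LocalizedModule p.primeCompl M))
        (ModuleCat.of (Localization.AtPrime p) (Localization.AtPrime p)) i) :=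
      HasProjectiveDimensionLT.subsingleton _ (e + 1) i (by omega) _
    exact not_subsingleton _ hs
  have hht : (e : ℕ∞) = p.height := by
    have h1 := IsLocalization.AtPrime.ringKrullDim_eq_height p (Localization.AtPrime p)
    rw [he] at h1
    have h2 : ((e : ℕ∞) : WithBot ℕ∞) = (p.height : WithBot ℕ∞) := by exact_mod_cast h1
    exact WithBot.coe_injective h2
  have h1 := Groth.Agent.Lib.Helper28.height_add_ringKrullDim_quotient_le p
    (Ideal.IsPrime.ne_top ‹_›)
  have h2 : ((i : ℕ∞) : WithBot ℕ∞) ≤ ((p.height : ℕ∞) : WithBot ℕ∞) := by
    rw [← hht]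
    exact_mod_cast hie
  calc ringKrullDim (A ⧸ p) + (i : WithBot ℕ∞)
      = ringKrullDim (A ⧸ p) + ((i : ℕ∞) : WithBot ℕ∞) := by norm_cast
    _ ≤ ringKrullDim (A ⧸ p) + ((p.height : ℕ∞) : WithBot ℕ∞) := add_le_add_right h2 _
    _ = ((p.height : ℕ∞) : WithBot ℕ∞) + ringKrullDim (A ⧸ p) := add_comm _ _
    _ ≤ ringKrullDim A := h1

end Groth.Agent.S11496
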