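import Groth.Statements.S11499
import Mathlib

set_option autoImplicit false
set_option linter.style.haveILetI false
universe u
open TensorProduct
open VBPn

namespace Groth.Agent.S11499

/-- Let A be an integral domain with fraction field K and M a finitely generated torsion-free A-module
of rank r (K ⊗_A M is r-dimensional over K). Then there is an injective A-linear map M → A^r. The
published statement is for torsion-free coherent sheaves on a complex manifold, locally near a
point; this row is its statement for one stalk, over any domain. -/
theorem result (A : Type u) [CommRing A] [IsDomain A]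
    (M : Type u) [AddCommGroup M] [Module A M] [Module.Finite A M] [NoZeroSMulDivisors A M] (r : ℕ)
    (hr : Module.finrank (FractionRing A) (FractionRing A ⊗[A] M) = r) :
    ∃ f : M →ₗ[A] (Fin r → A), Function.Injective f := by
  classical
  subst hr
  let K := FractionRing A
  let V := TensorProduct A K M
  let e : V ≃ₗ[K] (Fin (Module.finrank K V) → K) := (Module.finBasis K V).equivFun
  let φ : M →ₗ[A] (Fin (Module.finrank K V) → K) :=
    (e.restrictScalars A).toLinearMap ∘ₗ (TensorProduct.mk A K M 1)
  have hφ : Function.Injective φ := by
    rw [← LinearMap.ker_eq_bot, LinearMap.ker_eq_bot']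
    intro m hm
    have h1 : (TensorProduct.mk A K M 1) m = 0 := by
      apply (e.restrictScalars A).injective
      rw [map_zero]
      exact hm
    rw [IsLocalizedModule.eq_zero_iff (nonZeroDivisors A)] at h1
    obtain ⟨s, hs⟩ := h1
    have hs0 : (s : A) ≠ 0 := nonZeroDivisors.coe_ne_zero s
    exact (smul_eq_zero.1 hs).resolve_left hs0
  obtain ⟨gens, hgens⟩ := Module.Finite.fg_top (R := A) (M := M)
  obtain ⟨b, hb⟩ := IsLocalization.exist_integer_multiples_of_finset (nonZeroDivisors A)
    ((gens ×ˢ (Finset.univ : Finset (Fin (Module.finrank K V)))).image fun gj => φ gj.1 gj.2)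
  have hb0 : algebraMap A K (b : A) ≠ 0 := by
    rw [Ne, IsFractionRing.to_map_eq_zero_iff]
    exact nonZeroDivisors.coe_ne_zero b
  let ψ : Fin (Module.finrank K V) → (M →ₗ[A] K) := fun j => (b : A) • ((LinearMap.proj j) ∘ₗ φ)
  have hrange : ∀ (j : Fin (Module.finrank K V)) (m : M),
      ψ j m ∈ LinearMap.range (Algebra.linearMap A K) := by
    intro j m
    have hm : m ∈ Submodule.span A (gens : Set M) := by rw [hgens]; trivial
    induction hm using Submodule.span_induction with
    | mem x hx =>
      obtain ⟨c, hc⟩ := hb (φ x j) (Finset.mem_image.2 ⟨(x, j), Finset.mem_product.2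
        ⟨hx, Finset.mem_univ _⟩, rfl⟩)
      exact ⟨c, hc⟩
    | zero => rw [map_zero]; exact Submodule.zero_mem _
    | add x y _ _ hx hy => rw [map_add]; exact Submodule.add_mem _ hx hy
    | smul a x _ hx => rw [map_smul]; exact Submodule.smul_mem _ a hx
  have hinj : Function.Injective (Algebra.linearMap A K) := IsFractionRing.injective A K
  let ι : M →ₗ[A] (Fin (Module.finrank K V) → A) := LinearMap.pi fun j =>
    (LinearEquiv.ofInjective (Algebra.linearMap A K) hinj).symm.toLinearMap ∘ₗ
      ((ψ j).codRestrict _ (hrange j))
  refine ⟨ι, ?_⟩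
  intro x y hxy
  apply hφ
  funext j
  have h1 := congrFun hxy j
  have h2 := (LinearEquiv.ofInjective (Algebra.linearMap A K) hinj).symm.injective h1
  have h3 : (b : A) • φ x j = (b : A) • φ y j := congrArg Subtype.val h2
  rw [Algebra.smul_def, Algebra.smul_def] at h3
  exact mul_left_cancel₀ hb0 h3

end Groth.Agent.S11499
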