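import Groth.Statements.S11524
import Groth.Agent.Lib.T2H8RPowUse

set_option autoImplicit false
universe u
open AdicRing

namespace Groth.Agent.S11524

/-- Let R be a base ring of class (N) or (V) for the ideal I, A an R-algebra topologically of finite
type and M a finite A-module which is flat over R. Then M is of finite presentation over A. (Class
(V) is taken here to consist of complete valuation rings of height one.) -/
theorem result
    (R : Type u) [CommRing R] (I : Ideal R) (hR : AdicRing.IsBase R I)
    (A : Type u) [CommRing A] [Algebra R A] (hA : AdicRing.TopFiniteType R I A)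
    (M : Type u) [AddCommGroup M] [Module A M] [Module R M] [IsScalarTower R A M]
    [Module.Finite A M] [Module.Flat R M] :
    Module.FinitePresentation A M := by
  obtain ⟨hc, hN | ⟨hdom, hval, hdim, t, ht0, rfl⟩⟩ := hR
  · obtain ⟨hN, -⟩ := hN
    haveI := hN
    haveI := Groth.Agent.Lib.T2H8.RPowUse.isNoetherianRing_of_tft I A hA
    exact Module.finitePresentation_of_finite _ _
  · have hR' : AdicRing.IsBase R (Ideal.span {t}) := ⟨hc, Or.inr ⟨hdom, hval, hdim, t, ht0, rfl⟩⟩
    haveI := hdom
    obtain ⟨n, φ, hφ⟩ := hA
    letI : Algebra (AdicRing.RPow R (Ideal.span {t}) n) A := φ.toRingHom.toAlgebra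
    haveI : IsScalarTower R (AdicRing.RPow R (Ideal.span {t}) n) A :=
      IsScalarTower.of_algebraMap_eq (fun r => (φ.commutes r).symm)
    letI : Module (AdicRing.RPow R (Ideal.span {t}) n) M :=
      Module.compHom M (algebraMap (AdicRing.RPow R (Ideal.span {t}) n) A)
    haveI : IsScalarTower (AdicRing.RPow R (Ideal.span {t}) n) A M :=
      IsScalarTower.of_algebraMap_smul (fun r x => rfl)
    haveI : IsScalarTower R (AdicRing.RPow R (Ideal.span {t}) n) M := ⟨fun r p x => by
      show algebraMap _ A (r • p) • x = r • (algebraMap _ A p • x)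
      rw [Algebra.smul_def, map_mul, ← IsScalarTower.algebraMap_apply, mul_smul, algebraMap_smul]⟩
    haveI : Module.Finite (AdicRing.RPow R (Ideal.span {t}) n) A :=
      Module.Finite.of_surjective (Algebra.linearMap _ A) hφ
    haveI : Module.Finite (AdicRing.RPow R (Ideal.span {t}) n) M := Module.Finite.trans A M
    have hM : AdicRing.NoPowTorsion (Ideal.span {t}) M := by
      apply Groth.Agent.Lib.T2H8.RPowUse.noPowTorsion_of_torsionFree t ht0 M
      intro r x hr hx
      have hreg := Module.Flat.isSMulRegular_of_nonZeroDivisors (M := M)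
        (mem_nonZeroDivisors_of_ne_zero hr)
      apply hreg
      show r • x = r • 0
      rw [hx, smul_zero]
    haveI := Groth.Agent.Lib.T2H8.RPowFP.fp_of_isBase (Ideal.span {t}) hR' n M hM
    exact Groth.Agent.Lib.T2H8.AdicDev.fp_of_restrictScalars
      (AdicRing.RPow R (Ideal.span {t}) n) A M

end Groth.Agent.S11524
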