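import Groth.Statements.S11526
import Groth.Agent.Lib.T2H8RPowUse

set_option autoImplicit false
universe u
open AdicRing

namespace Groth.Agent.S11526

/-- Let R be a base ring of class (N) or (V) for the ideal I and A an R-algebra topologically of finite
presentation. Then A is a coherent ring: every finitely generated ideal of A is finitely presented
as an A-module. -/
theorem result
    (R : Type u) [CommRing R] (I : Ideal R) (hR : AdicRing.IsBase R I)
    (A : Type u) [CommRing A] [Algebra R A] (hA : AdicRing.TopFinitePresentation R I A)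
    (J : Ideal A) (hJ : J.FG) :
    Module.FinitePresentation A J := by
  obtain ⟨hc, hN | ⟨hdom, hval, hdim, t, ht0, rfl⟩⟩ := hR
  · obtain ⟨hN, -⟩ := hN
    haveI := hN
    have hA' : AdicRing.TopFiniteType R I A := by
      obtain ⟨n, φ, hφ, -⟩ := hA
      exact ⟨n, φ, hφ⟩
    haveI := Groth.Agent.Lib.T2H8.RPowUse.isNoetherianRing_of_tft I A hA'
    haveI : Module.Finite A J := Module.Finite.of_fg hJ
    exact Module.finitePresentation_of_finite _ _
  · have hR' : AdicRing.IsBase R (Ideal.span {t}) := ⟨hc, Or.inr ⟨hdom, hval, hdim, t, ht0, rfl⟩⟩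
    haveI := hdom
    haveI := hval
    haveI := hdim
    have ht : ¬ IsUnit t := Groth.Agent.Lib.T2H8.RPowFP.not_isUnit_of_complete t hc
    obtain ⟨n, φ, hφ, hker⟩ := hA
    letI : Algebra (AdicRing.RPow R (Ideal.span {t}) n) A := φ.toRingHom.toAlgebra
    haveI : IsScalarTower R (AdicRing.RPow R (Ideal.span {t}) n) A :=
      IsScalarTower.of_algebraMap_eq (fun r => (φ.commutes r).symm)
    haveI : Module.Finite (AdicRing.RPow R (Ideal.span {t}) n) A :=
      Module.Finite.of_surjective (Algebra.linearMap _ A) hφ
    obtain ⟨m, s, hs⟩ := Submodule.fg_iff_exists_fin_generating_family.mp hJ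
    choose s' hs' using fun i => hφ (s i)
    have h1 : (φ.toRingHom ∘ s') = s := funext hs'
    have hmap : Ideal.map φ.toRingHom (Ideal.span (Set.range s')) = J :=
      (Ideal.map_span φ.toRingHom (Set.range s')).trans (by
        rw [← Set.range_comp, h1]
        exact hs)
    have hJ'eq : J.comap φ.toRingHom =
        Ideal.span (Set.range s') ⊔ RingHom.ker φ.toRingHom := by
      rw [← hmap]
      exact Ideal.comap_map_of_surjective' φ.toRingHom hφ _
    have hJ'fg : (J.comap φ.toRingHom).FG := by
      rw [hJ'eq]
      exact Submodule.FG.sup (Submodule.fg_span (Set.finite_range s')) hker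
    haveI : Module.Finite (AdicRing.RPow R (Ideal.span {t}) n) (J.comap φ.toRingHom) :=
      Module.Finite.of_fg hJ'fg
    haveI : Module.FinitePresentation (AdicRing.RPow R (Ideal.span {t}) n)
        (J.comap φ.toRingHom) :=
      Groth.Agent.Lib.T2H8.RPowFP.fp_of_isBase _ hR' n _
        (Groth.Agent.Lib.T2H8.RPowUse.noPowTorsion_submodule _
          (Groth.Agent.Lib.T2H8.RPowUse.noPowTorsion_rpow_V t ht0 ht n) _)
    let ψ : (J.comap φ.toRingHom) →ₗ[AdicRing.RPow R (Ideal.span {t}) n] J :=
      { toFun := fun x => ⟨φ x.1, x.2⟩
        map_add' := fun x y => by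
          apply Subtype.ext
          show φ (x.1 + y.1) = φ x.1 + φ y.1
          exact map_add φ _ _
        map_smul' := fun p x => by
          apply Subtype.ext
          show φ (p * x.1) = φ p * φ x.1
          exact map_mul φ _ _ }
    have hψsurj : Function.Surjective ψ := by
      rintro ⟨y, hy⟩
      obtain ⟨x, rfl⟩ := hφ y
      exact ⟨⟨x, hy⟩, rfl⟩
    have hψker : (LinearMap.ker ψ).FG := by
      apply Submodule.fg_of_fg_map_injective (J.comap φ.toRingHom).subtype Subtype.val_injective
      have h2 : (LinearMap.ker ψ).map (J.comap φ.toRingHom).subtype = RingHom.ker φ.toRingHom := by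
        ext x
        constructor
        · rintro ⟨y, hy, rfl⟩
          have h3 : ψ y = 0 := hy
          exact congrArg Subtype.val h3
        · intro hx
          have hx' : φ x = 0 := hx
          refine ⟨⟨x, ?_⟩, ?_, rfl⟩
          · show φ x ∈ J
            rw [hx']
            exact J.zero_mem
          · apply Subtype.ext
            exact hx'
      rw [h2]
      exact hker
    haveI : Module.FinitePresentation (AdicRing.RPow R (Ideal.span {t}) n) J :=
      Module.finitePresentation_of_surjective ψ hψsurj hψker
    exact Groth.Agent.Lib.T2H8.AdicDev.fp_of_restrictScalars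
      (AdicRing.RPow R (Ideal.span {t}) n) A J

end Groth.Agent.S11526
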