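import Groth.Statements.S11541
import Groth.Agent.Lib.T2H8RigFin
import Groth.Agent.Lib.T2H8RigVal

set_option autoImplicit false
universe u
open AdicRing

namespace Groth.Agent.S11541

/-- Let R be a complete valuation ring of height one with t a nonzero element generating an ideal of
definition, and B an admissible R-algebra which is a local integral domain of Krull dimension one.
Then B is a finite R-module whose integral closure inside its fraction field is a valuation ring. -/
theorem result
    (R : Type u) [CommRing R] [IsDomain R] [ValuationRing R] [Ring.KrullDimLE 1 R]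
    (t : R) (ht : t ≠ 0) [IsAdicComplete (Ideal.span {t}) R]
    (B : Type u) [CommRing B] [Algebra R B] [IsDomain B] [IsLocalRing B]
    (hB : AdicRing.Admissible R (Ideal.span {t}) B) (hdim : ringKrullDim B = 1) :
    Module.Finite R B ∧ ValuationRing (integralClosure B (FractionRing B)) := by
  haveI hfin := Groth.Agent.Lib.T2H8.RigFin.finite_of_local_dim_one R t ht B hB hdim
  have htu : ¬ IsUnit t := Groth.Agent.Lib.T2H8.RPowFP.not_isUnit_of_complete t inferInstance
  have hinj : Function.Injective (algebraMap R B) := by
    rw [injective_iff_map_eq_zero]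
    intro r hr
    by_contra hr0
    obtain ⟨j, e, he⟩ := Groth.Agent.Lib.T2H8.RPowBase.exists_dvd_pow r t hr0 htu
    have h1 : t ^ j • (1 : B) = 0 := by
      rw [he, mul_comm, mul_smul, Algebra.smul_def r, hr, zero_mul, smul_zero]
    exact one_ne_zero
      (Groth.Agent.Lib.T2H8.RPowUse.smul_pow_eq_zero_of_noPowTorsion t B hB.2 1 j h1)
  exact ⟨hfin, Groth.Agent.Lib.T2H8.RigVal.valuationRing_integralClosure R t ht B hinj⟩

end Groth.Agent.S11541
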