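import Groth.Statements.S11547
import Groth.Agent.S11541
import Groth.Agent.S11525
import Groth.Agent.Lib.Helper5IntDim
import Groth.Agent.Lib.Helper29HLVT

set_option autoImplicit false
universe u
open AdicRing

namespace Groth.Agent.S11547

/-- Let R be a complete valuation ring of height one with t a nonzero element generating an ideal of
definition, φ : A → A' a homomorphism of admissible R-algebras, and u' : A' → B' a surjective
R-algebra homomorphism onto an admissible R-algebra B' which is a local integral domain of Krull
dimension one. Then the image of A in B' is an admissible R-algebra and a local integral domain of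
Krull dimension one. -/
theorem result
    (R : Type u) [CommRing R] [IsDomain R] [ValuationRing R] [Ring.KrullDimLE 1 R]
    (t : R) (ht : t ≠ 0) [IsAdicComplete (Ideal.span {t}) R]
    (A : Type u) [CommRing A] [Algebra R A] (hA : AdicRing.Admissible R (Ideal.span {t}) A)
    (A' : Type u) [CommRing A'] [Algebra R A'] (hA' : AdicRing.Admissible R (Ideal.span {t}) A')
    (φ : A →ₐ[R] A')
    (B' : Type u) [CommRing B'] [Algebra R B'] [IsDomain B'] [IsLocalRing B']
    (hB' : AdicRing.Admissible R (Ideal.span {t}) B') (hdim : ringKrullDim B' = 1)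
    (u' : A' →ₐ[R] B') (hu' : Function.Surjective u') :
    AdicRing.Admissible R (Ideal.span {t}) ((u'.comp φ).range) ∧
      IsLocalRing ((u'.comp φ).range) ∧ ringKrullDim ((u'.comp φ).range) = 1 := by
  have hR : AdicRing.IsBase R (Ideal.span {t}) :=
    ⟨inferInstance, Or.inr ⟨inferInstance, inferInstance, inferInstance, t, ht, rfl⟩⟩
  obtain ⟨hfin, -⟩ := Groth.Agent.S11541.result R t ht B' hB' hdim
  haveI := hfin
  haveI : Algebra.IsIntegral R B' := Algebra.IsIntegral.of_finite R B'
  haveI : Algebra.IsIntegral ↥((u'.comp φ).range) B' := Algebra.IsIntegral.tower_top (R := R)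
  have hinj : Function.Injective (algebraMap ↥((u'.comp φ).range) B') := Subtype.val_injective
  have htft : AdicRing.TopFiniteType R (Ideal.span {t}) ↥((u'.comp φ).range) := by
    obtain ⟨⟨n, φA, hφA, -⟩, -⟩ := hA
    refine ⟨n, ((u'.comp φ).rangeRestrict).comp φA, ?_⟩
    exact ((u'.comp φ).rangeRestrict_surjective).comp hφA
  have htor : AdicRing.NoPowTorsion (Ideal.span {t}) ↥((u'.comp φ).range) := by
    intro x k hx
    apply Subtype.ext
    apply hB'.2 (x : B') k
    intro a ha
    exact congrArg Subtype.val (hx a ha)
  refine ⟨⟨Groth.Agent.S11525.result R _ hR _ htft htor, htor⟩, ?_, ?_⟩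
  · exact Groth.Agent.Lib.Helper29.HLVT.isLocalRing_of_integral ↥((u'.comp φ).range) B' hinj
  · rw [← Groth.Agent.Lib.Helper5.ringKrullDim_eq_of_isIntegral_of_injective
      ↥((u'.comp φ).range) B' hinj]
    exact hdim

end Groth.Agent.S11547
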