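import Groth.Statements.S11542
import Groth.Agent.S11547
import Groth.Agent.S11529
import Groth.Agent.Lib.T2H8RPowFT

set_option autoImplicit false
universe u
open AdicRing

namespace Groth.Agent.S11542

/-- Let R be a complete valuation ring of height one with t a nonzero element generating an ideal of
definition, A and B admissible R-algebras with B a local integral domain of Krull dimension one, f
an element of A and u a surjective R-algebra homomorphism from the complete localization A⟨f⁻¹⟩ onto
B. Then the composite of u with the canonical map A → A⟨f⁻¹⟩ is surjective. -/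
theorem result
    (R : Type u) [CommRing R] [IsDomain R] [ValuationRing R] [Ring.KrullDimLE 1 R]
    (t : R) (ht : t ≠ 0) [IsAdicComplete (Ideal.span {t}) R]
    (A : Type u) [CommRing A] [Algebra R A] (hA : AdicRing.Admissible R (Ideal.span {t}) A) (f : A)
    (B : Type u) [CommRing B] [Algebra R B] [IsDomain B] [IsLocalRing B]
    (hB : AdicRing.Admissible R (Ideal.span {t}) B) (hdim : ringKrullDim B = 1)
    (u : AdicRing.CLoc (Ideal.span {t}) f →ₐ[R] B) (hu : Function.Surjective u) :
    Function.Surjective
      (u.toRingHom.comp (algebraMap A (AdicRing.CLoc (Ideal.span {t}) f))) := by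
  classical
  have hR : AdicRing.IsBase R (Ideal.span {t}) :=
    ⟨inferInstance, Or.inr ⟨inferInstance, inferInstance, inferInstance, t, ht, rfl⟩⟩
  haveI hST : IsScalarTower R A (AdicRing.CLoc (Ideal.span {t}) f) :=
    IsScalarTower.of_algebraMap_eq (fun r => by
      rw [AdicCompletion.algebraMap_apply, AdicCompletion.algebraMap_apply,
        ← IsScalarTower.algebraMap_apply])
  obtain ⟨ψ, hψ⟩ : ∃ ψ : A →ₐ[R] B,
      ψ = u.comp (IsScalarTower.toAlgHom R A (AdicRing.CLoc (Ideal.span {t}) f)) := ⟨_, rfl⟩
  have hψapp : ∀ a, ψ a = u (algebraMap A (AdicRing.CLoc (Ideal.span {t}) f) a) := fun a => by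
    rw [hψ]
    rfl
  obtain ⟨hCadm, hCloc, hCdim⟩ := Groth.Agent.S11547.result R t ht A hA B hB ψ B hB hdim
    (AlgHom.id R B) Function.surjective_id
  rw [AlgHom.id_comp] at hCadm hCloc hCdim
  haveI := hCloc
  obtain ⟨hCfin, -⟩ := Groth.Agent.S11541.result R t ht ↥ψ.range hCadm hCdim
  obtain ⟨hBfin, -⟩ := Groth.Agent.S11541.result R t ht B hB hdim
  haveI := hBfin
  haveI : Algebra.IsIntegral R B := Algebra.IsIntegral.of_finite R B
  haveI : Algebra.IsIntegral ↥ψ.range B := Algebra.IsIntegral.tower_top (R := R)
  haveI hloc : IsLocalHom (algebraMap ↥ψ.range B) :=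
    (algebraMap_isIntegral_iff.mpr (inferInstance : Algebra.IsIntegral ↥ψ.range B)).isLocalHom
      Subtype.val_injective
  --  is topologically of finite type over itself
  have hRtft : AdicRing.TopFiniteType R (Ideal.span {t}) R := by
    haveI : IsAdicComplete ((Ideal.span {t}).map (algebraMap R R)) R := by
      rw [Algebra.algebraMap_self, Ideal.map_id]
      infer_instance
    obtain ⟨Ψ, -⟩ := Groth.Agent.Lib.T2H8.RPowFT.exists_lift (Ideal.span {t}) 0 R
      (MvPolynomial.aeval (fun i : Fin 0 => Fin.elim0 i))
    refine ⟨0, Ψ, fun r => ⟨algebraMap R _ r, ?_⟩⟩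
    rw [Ψ.commutes]
    rfl
  have hQ : IsAdicComplete (Ideal.span {t}) (B ⧸ (Subalgebra.toSubmodule ψ.range)) :=
    Groth.Agent.S11529.result R _ hR R hRtft (B ⧸ (Subalgebra.toSubmodule ψ.range))
  -- images of elements of the localization lie in the image of 
  have key1 : ∀ z : Localization.Away f,
      u (AdicCompletion.of _ (Localization.Away f) z) ∈ ψ.range := by
    intro z
    obtain ⟨⟨a, ⟨_, k, rfl⟩⟩, hz⟩ := IsLocalization.surj (Submonoid.powers f) z
    have h1 : u (AdicCompletion.of _ (Localization.Away f) z) * ψ (f ^ k) = ψ a := by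
      rw [hψapp, hψapp, AdicCompletion.algebraMap_apply, AdicCompletion.algebraMap_apply]
      have h2 : AdicCompletion.of ((Ideal.span {t}).map (algebraMap R (Localization.Away f)))
          (Localization.Away f) z *
          AdicCompletion.of ((Ideal.span {t}).map (algebraMap R (Localization.Away f)))
            (Localization.Away f) (algebraMap A (Localization.Away f) (f ^ k)) =
          AdicCompletion.of ((Ideal.span {t}).map (algebraMap R (Localization.Away f)))
            (Localization.Away f) (algebraMap A (Localization.Away f) a) := by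
        rw [← hz]
        exact (map_mul (algebraMap (Localization.Away f)
          (AdicRing.CLoc (Ideal.span {t}) f)) _ _).symm
      rw [← map_mul, h2]
    have hunitB : IsUnit (ψ (f ^ k)) := by
      rw [hψapp, AdicCompletion.algebraMap_apply]
      have h3 : IsUnit (algebraMap A (Localization.Away f) (f ^ k)) :=
        IsLocalization.map_units (Localization.Away f)
          (⟨f ^ k, k, rfl⟩ : Submonoid.powers f)
      exact (h3.map (algebraMap (Localization.Away f) (AdicRing.CLoc (Ideal.span {t}) f))).map u
    have hunitC : IsUnit (⟨ψ (f ^ k), ⟨f ^ k, rfl⟩⟩ : ψ.range) :=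
      hloc.map_nonunit _ hunitB
    obtain ⟨w, hw⟩ := hunitC
    have h4 : u (AdicCompletion.of _ (Localization.Away f) z) =
        ((⟨ψ a, ⟨a, rfl⟩⟩ : ψ.range) * ↑w⁻¹ : ψ.range) := by
      have h5 : ((↑w⁻¹ : ψ.range) : B) * ψ (f ^ k) = 1 := by
        have h6 : (↑w⁻¹ : ψ.range) * (w : ψ.range) = 1 := Units.inv_mul w
        rw [hw] at h6
        exact congrArg Subtype.val h6
      show u (AdicCompletion.of _ (Localization.Away f) z) = ψ a * ((↑w⁻¹ : ψ.range) : B)
      calc u (AdicCompletion.of _ (Localization.Away f) z)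
          = u (AdicCompletion.of _ (Localization.Away f) z) *
              (ψ (f ^ k) * ((↑w⁻¹ : ψ.range) : B)) := by
            rw [mul_comm (ψ (f ^ k)), h5, mul_one]
        _ = ψ a * ((↑w⁻¹ : ψ.range) : B) := by rw [← mul_assoc, h1]
    rw [h4]
    exact Subtype.prop _
  have hfgJ : ((Ideal.span {t}).map (algebraMap R (Localization.Away f))).FG :=
    Ideal.FG.map (I := Ideal.span {t}) ⟨{t}, by simp⟩ _
  have key2 : ∀ (x : AdicRing.CLoc (Ideal.span {t}) f) (k : ℕ),
      ∃ (z : Localization.Away f) (w : B),
        u x = u (AdicCompletion.of _ (Localization.Away f) z) + t ^ k • w := by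
    intro x k
    obtain ⟨z, hz⟩ := Groth.Agent.Lib.Helper28.exists_sub_of_mem_pow_smul_top
      ((Ideal.span {t}).map (algebraMap R (Localization.Away f))) hfgJ k x
    have h1 : x - AdicCompletion.of _ (Localization.Away f) z ∈
        ((Ideal.span {t}) ^ k • ⊤ : Submodule R (AdicRing.CLoc (Ideal.span {t}) f)) := by
      have e1 : ((((Ideal.span {t}).map (algebraMap R (Localization.Away f))) ^ k •
          (⊤ : Submodule (Localization.Away f) (AdicRing.CLoc (Ideal.span {t}) f))).restrictScalars
            R) = (Ideal.span {t}) ^ k •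
              (⊤ : Submodule R (AdicRing.CLoc (Ideal.span {t}) f)) := by
        rw [← Ideal.map_pow, Ideal.smul_restrictScalars, Submodule.restrictScalars_top]
      rw [← e1]
      exact (Submodule.restrictScalars_mem R _ _).mpr hz
    have h2 := Groth.Agent.Lib.Helper19.map_mem_smul_top u.toLinearMap _ h1
    obtain ⟨w, hw⟩ := Groth.Agent.Lib.T2H8.RPowSat.exists_eq_pow_smul_of_mem t k _ h2
    refine ⟨z, w, ?_⟩
    rw [← hw]
    show u x = u (AdicCompletion.of _ (Localization.Away f) z) +
      u (x - AdicCompletion.of _ (Localization.Away f) z)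
    rw [map_sub]
    ring
  intro y
  obtain ⟨x, rfl⟩ := hu y
  have hmem : u x ∈ Subalgebra.toSubmodule ψ.range := by
    rw [← Submodule.Quotient.mk_eq_zero]
    apply IsHausdorff.haus' (I := Ideal.span {t})
    intro k
    rw [SModEq.zero]
    obtain ⟨z, w, hzw⟩ := key2 x k
    rw [hzw, Submodule.Quotient.mk_add,
      (Submodule.Quotient.mk_eq_zero _).mpr (show u (AdicCompletion.of _ _ z) ∈
        Subalgebra.toSubmodule ψ.range from key1 z), zero_add, Submodule.Quotient.mk_smul]
    exact Groth.Agent.Lib.T2H8.RPowSat.pow_smul_mem t k _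
  obtain ⟨a, ha⟩ := hmem
  exact ⟨a, (hψapp a).symm.trans ha⟩

end Groth.Agent.S11542
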