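import Groth.Statements.S11544
import Mathlib
import Groth.Agent.Lib.T2H9ValNorm

set_option autoImplicit false
universe u
open AdicRing

namespace Groth.Agent.S11544

/-- Let R be a complete valuation ring of height one with t a nonzero element generating an ideal of
definition, K its field of fractions, L an algebraic extension field of K and α an element of L.
Then α is integral over R if and only if the norm of α from K(α) down to K lies in R. -/
theorem result
    (R : Type u) [CommRing R] [IsDomain R] [ValuationRing R] [Ring.KrullDimLE 1 R]
    (t : R) (ht : t ≠ 0) [IsAdicComplete (Ideal.span {t}) R]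
    (L : Type u) [Field L] [Algebra R L] [Algebra (FractionRing R) L]
    [IsScalarTower R (FractionRing R) L] [Algebra.IsAlgebraic (FractionRing R) L] (α : L) :
    IsIntegral R α ↔
      Algebra.norm (FractionRing R) (IntermediateField.AdjoinSimple.gen (FractionRing R) α) ∈
        (algebraMap R (FractionRing R)).range := by
  classical
  have hαF : IsIntegral (FractionRing R) α := (Algebra.IsAlgebraic.isAlgebraic α).isIntegral
  set pb := IntermediateField.adjoin.powerBasis hαF with hpb
  have hgen : pb.gen = IntermediateField.AdjoinSimple.gen (FractionRing R) α :=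
    IntermediateField.adjoin.powerBasis_gen hαF
  have hnorm : Algebra.norm (FractionRing R)
      (IntermediateField.AdjoinSimple.gen (FractionRing R) α) =
      (-1) ^ pb.dim * (minpoly (FractionRing R) α).coeff 0 := by
    rw [← hgen, Algebra.PowerBasis.norm_gen_eq_coeff_zero_minpoly, hgen,
      IntermediateField.minpoly_gen]
  constructor
  · intro hα
    have hmin := minpoly.isIntegrallyClosed_eq_field_fractions' (FractionRing R) hα
    rw [hnorm, hmin, Polynomial.coeff_map]
    exact ⟨(-1) ^ pb.dim * (minpoly R α).coeff 0, by simp⟩
  · rintro ⟨r, hr⟩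
    have : HenselianLocalRing R := Groth.Agent.Lib.T2H9.ValNorm.henselianLocalRing R t ht
    have hdeg : (minpoly (FractionRing R) α).degree ≠ 0 :=
      (minpoly.degree_pos hαF).ne'
    obtain ⟨β, hβ⟩ := IsAlgClosed.exists_aeval_eq_zero (AlgebraicClosure (FractionRing R))
      (minpoly (FractionRing R) α) hdeg
    have hminβ : minpoly (FractionRing R) β = minpoly (FractionRing R) α :=
      (minpoly.eq_of_irreducible_of_monic (minpoly.irreducible hαF) hβ (minpoly.monic hαF)).symm
    have hprod := Algebra.PowerBasis.norm_gen_eq_prod_roots
      (F := AlgebraicClosure (FractionRing R)) pb (IsAlgClosed.splits _)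
    have hint : IsIntegral R (((minpoly (FractionRing R) β).aroots
        (AlgebraicClosure (FractionRing R))).prod) := by
      rw [hminβ, ← IntermediateField.minpoly_gen (FractionRing R) α, ← hgen, ← hprod, hgen, ← hr,
        ← IsScalarTower.algebraMap_apply]
      exact isIntegral_algebraMap
    have hβint : IsIntegral R β :=
      Groth.Agent.Lib.T2H9.ValNorm.isIntegral_of_prod_aroots R (FractionRing R)
        (AlgebraicClosure (FractionRing R)) β hint
    obtain ⟨g, hg, hgβ⟩ := hβint
    refine ⟨g, hg, ?_⟩
    have hdvd : minpoly (FractionRing R) β ∣ g.map (algebraMap R (FractionRing R)) :=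
      minpoly.dvd _ β (by rw [Polynomial.aeval_map_algebraMap, Polynomial.aeval_def]; exact hgβ)
    rw [hminβ] at hdvd
    obtain ⟨h, hh⟩ := hdvd
    have h0 : Polynomial.aeval α (g.map (algebraMap R (FractionRing R))) = 0 := by
      rw [hh, map_mul, minpoly.aeval, zero_mul]
    rw [Polynomial.aeval_map_algebraMap, Polynomial.aeval_def] at h0
    exact h0

end Groth.Agent.S11544
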