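import Groth.Statements.S1167
import Groth.Agent.Lib.T2H7HilbBasics

set_option autoImplicit false
open CategoryTheory CategoryTheory.Limits AlgebraicGeometry
universe u
open HilbD

namespace Groth.Agent.S1167

open Groth.Agent.Lib.T2H7.HilbBasics Groth.Agent.Lib.T2H7.WeilClosed in
/-- Let f : X → S be a separated morphism of schemes and let (H, Z) represent the Hilbert functor of
points of degree d of X over S (Z the universal object on H). Then H → S is separated. -/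
theorem result {X S : Scheme.{u}} (f : X ⟶ S) [IsSeparated f] (d : ℕ)
    (H : Over S) (Z : HilbD.Obj f d H) (hZ : HilbD.IsUniversal f d H Z) : IsSeparated H.hom := by
  obtain ⟨T, hT⟩ : ∃ T : Over S, T = Over.mk (pullback.fst H.hom H.hom ≫ H.hom) := ⟨_, rfl⟩
  obtain ⟨p₁, hp₁⟩ : ∃ p₁ : Over.mk (pullback.fst H.hom H.hom ≫ H.hom) ⟶ H,
      p₁.left = pullback.fst H.hom H.hom := ⟨Over.homMk (pullback.fst H.hom H.hom) rfl, rfl⟩
  obtain ⟨p₂, hp₂⟩ : ∃ p₂ : Over.mk (pullback.fst H.hom H.hom ≫ H.hom) ⟶ H,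
      p₂.left = pullback.snd H.hom H.hom :=
    ⟨Over.homMk (pullback.snd H.hom H.hom) pullback.condition.symm, rfl⟩
  subst hT
  obtain ⟨I₁, hI₁⟩ : ∃ I, I = HilbD.pull f p₁ Z.1 := ⟨_, rfl⟩
  obtain ⟨I₂, hI₂⟩ : ∃ I, I = HilbD.pull f p₂ Z.1 := ⟨_, rfl⟩
  have h1 : Mor2.IsFinLocFreeOfDeg d (I₁.subschemeι ≫ PicF.XTproj f _) := by
    rw [hI₁]; exact isFinLocFreeOfDeg_pull f p₁ d Z.1 Z.2
  have h2 : Mor2.IsFinLocFreeOfDeg d (I₂.subschemeι ≫ PicF.XTproj f _) := by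
    rw [hI₂]; exact isFinLocFreeOfDeg_pull f p₂ d Z.1 Z.2
  obtain ⟨⟨hf1, hfl1, hfp1⟩, -⟩ := h1
  obtain ⟨⟨hf2, hfl2, hfp2⟩, -⟩ := h2
  obtain ⟨𝓩₁₂, h12⟩ := exists_le_locus (PicF.XTproj f (Over.mk (pullback.fst H.hom H.hom ≫ H.hom)))
    I₂ I₁
  obtain ⟨𝓩₂₁, h21⟩ := exists_le_locus (PicF.XTproj f (Over.mk (pullback.fst H.hom H.hom ≫ H.hom)))
    I₁ I₂
  obtain ⟨𝓦, h𝓦⟩ : ∃ 𝓦, 𝓦 = 𝓩₁₂ ⊔ 𝓩₂₁ := ⟨_, rfl⟩
  have key : ∀ (T' : Scheme.{u}) (g : T' ⟶ pullback H.hom H.hom),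
      (∃ t : T' ⟶ 𝓦.subscheme, t ≫ 𝓦.subschemeι = g) ↔
        g ≫ pullback.fst H.hom H.hom = g ≫ pullback.snd H.hom H.hom := by
    intro T' g
    obtain ⟨g', hg'⟩ : ∃ g' : Over.mk (g ≫ pullback.fst H.hom H.hom ≫ H.hom) ⟶
        Over.mk (pullback.fst H.hom H.hom ≫ H.hom), g'.left = g := ⟨Over.homMk g rfl, rfl⟩
    rw [exists_lift_iff_comap_eq_bot, Scheme.IdealSheafData.ker_subschemeι]
    have hsup : 𝓦.comap g = 𝓩₁₂.comap g ⊔ 𝓩₂₁.comap g := by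
      rw [h𝓦]; exact (Scheme.IdealSheafData.map_gc g).l_sup
    have hpb := isPullback_XTmap f g'
    rw [hg'] at hpb
    rw [hsup, sup_eq_bot_iff, h12 g _ _ hpb, h21 g _ _ hpb, ← pull_eq_comap, ← pull_eq_comap,
      hI₁, hI₂, ← pull_comp, ← pull_comp]
    constructor
    · rintro ⟨ha, hb⟩
      have heq : HilbD.pull f (g' ≫ p₁) Z.1 = HilbD.pull f (g' ≫ p₂) Z.1 := le_antisymm hb ha
      obtain ⟨u, -, huniq⟩ := hZ _ ⟨HilbD.pull f (g' ≫ p₁) Z.1,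
        isFinLocFreeOfDeg_pull f _ d Z.1 Z.2⟩
      have e1 := huniq (g' ≫ p₁) rfl
      have e2 := huniq (g' ≫ p₂) heq.symm
      have := congrArg (fun φ => φ.left) (e1.trans e2.symm)
      simpa [hg', hp₁, hp₂] using this
    · intro h
      have : g' ≫ p₁ = g' ≫ p₂ := by
        ext1
        rw [Over.comp_left, Over.comp_left, hg', hp₁, hp₂]
        exact h
      rw [this]
      exact ⟨le_rfl, le_rfl⟩
  -- the diagonal is isomorphic to the closed subscheme `V(𝓦)`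
  obtain ⟨t, ht⟩ := (key _ (pullback.diagonal H.hom)).mpr (by simp)
  have hw := (key _ 𝓦.subschemeι).mp ⟨𝟙 _, Category.id_comp _⟩
  have h3 : (𝓦.subschemeι ≫ pullback.fst H.hom H.hom) ≫ pullback.diagonal H.hom =
      𝓦.subschemeι := by
    apply pullback.hom_ext
    · simp
    · simp [hw]
  have h4 : t ≫ (𝓦.subschemeι ≫ pullback.fst H.hom H.hom) = 𝟙 _ := by
    rw [← Category.assoc, ht]; simp
  have h5 : (𝓦.subschemeι ≫ pullback.fst H.hom H.hom) ≫ t = 𝟙 _ := by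
    rw [← cancel_mono 𝓦.subschemeι, Category.assoc, ht, h3, Category.id_comp]
  haveI : IsIso t := ⟨_, h4, h5⟩
  refine ⟨?_⟩
  rw [← ht]
  infer_instance
end Groth.Agent.S1167
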