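import Groth.Statements.S1168
import Groth.Agent.Lib.T2H7HilbPush

set_option autoImplicit false
open CategoryTheory CategoryTheory.Limits AlgebraicGeometry
universe u
open HilbD

namespace Groth.Agent.S1168

open Groth.Agent.Lib.T2H7.HilbBasics Groth.Agent.Lib.T2H7.HilbPush
  Groth.Agent.Lib.T2H7.WeilClosed Groth.Agent.Lib.T2H7.IdealMapComap

set_option backward.isDefEq.respectTransparency false in
theorem XTmap_id {X S : Scheme.{u}} (f : X ⟶ S) (T : Over S) : PicF.XTmap f (𝟙 T) = 𝟙 _ := by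
  unfold PicF.XTmap
  apply pullback.hom_ext <;> simp [pullback.map]

theorem pull_id {X S : Scheme.{u}} (f : X ⟶ S) (T : Over S) (I : (PicF.XT f T).IdealSheafData) :
    HilbD.pull f (𝟙 T) I = I := by
  rw [pull_eq_comap, XTmap_id, Scheme.IdealSheafData.comap_id]

/-- The closed locus of `H` over which the universal family lies in `X`, with its
universal property. -/
theorem exists_universal {X Y S : Scheme.{u}} (i : X ⟶ Y) [IsClosedImmersion i] (g : Y ⟶ S)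
    (d : ℕ) (H : Over S) (Z : HilbD.Obj g d H) (hZ : HilbD.IsUniversal g d H Z) :
    ∃ (H₀ : Over S) (ι₀ : H₀ ⟶ H) (W₀ : HilbD.Obj (i ≫ g) d H₀), IsClosedImmersion ι₀.left ∧
      HilbD.push i g H₀ W₀.1 = HilbD.pull g ι₀ Z.1 ∧ HilbD.IsUniversal (i ≫ g) d H₀ W₀ := by
  obtain ⟨⟨hf1, hfl1, hfp1⟩, -⟩ := Z.2
  obtain ⟨𝓩, h𝓩⟩ := exists_le_locus (PicF.XTproj g H) (jT i g H).ker Z.1
  -- characterisation of factorisation through `V(𝓩)`
  have key : ∀ (T : Over S) (m : T ⟶ H),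
      (∃ t : T.left ⟶ 𝓩.subscheme, t ≫ 𝓩.subschemeι = m.left) ↔
        (jT i g T).ker ≤ HilbD.pull g m Z.1 := by
    intro T m
    rw [exists_lift_iff_comap_eq_bot, Scheme.IdealSheafData.ker_subschemeι,
      h𝓩 m.left _ _ (isPullback_XTmap g m), ker_jT_comap, ← pull_eq_comap]
  obtain ⟨H₀, hH₀⟩ : ∃ H₀ : Over S, H₀ = Over.mk (𝓩.subschemeι ≫ H.hom) := ⟨_, rfl⟩
  obtain ⟨ι₀, hι₀⟩ : ∃ ι₀ : Over.mk (𝓩.subschemeι ≫ H.hom) ⟶ H, ι₀.left = 𝓩.subschemeι :=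
    ⟨Over.homMk 𝓩.subschemeι rfl, rfl⟩
  subst hH₀
  have hle₀ : (jT i g _).ker ≤ HilbD.pull g ι₀ Z.1 :=
    (key _ ι₀).mp ⟨𝟙 _, by rw [hι₀]; exact Category.id_comp _⟩
  have hZ₀ := isFinLocFreeOfDeg_pull g ι₀ d Z.1 Z.2
  have hpush₀ := push_comap_of_le i g _ _ hle₀
  have hW₀ : Mor2.IsFinLocFreeOfDeg d (((HilbD.pull g ι₀ Z.1).comap (jT i g _)).subschemeι ≫
      PicF.XTproj (i ≫ g) _) := by
    rw [← isFinLocFreeOfDeg_push_iff, hpush₀]
    exact hZ₀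
  refine ⟨_, ι₀, ⟨_, hW₀⟩, ?_, hpush₀, ?_⟩
  · rw [hι₀]; infer_instance
  · intro T W
    have hpW : Mor2.IsFinLocFreeOfDeg d ((HilbD.push i g T W.1).subschemeι ≫ PicF.XTproj g T) :=
      (isFinLocFreeOfDeg_push_iff i g T W.1 d).mpr W.2
    obtain ⟨m, hm, hmuniq⟩ := hZ T ⟨_, hpW⟩
    dsimp only at hm hmuniq
    obtain ⟨t, ht⟩ := (key T m).mpr (by rw [hm]; exact ker_le_push i g T W.1)
    have hw : t ≫ (Over.mk (𝓩.subschemeι ≫ H.hom)).hom = T.hom := by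
      show t ≫ (𝓩.subschemeι ≫ H.hom) = T.hom
      rw [← Category.assoc, ht, Over.w m]
    have hsm : Over.homMk t hw ≫ ι₀ = m := by
      ext1
      show t ≫ ι₀.left = m.left
      rw [hι₀, ht]
    refine ⟨Over.homMk t hw, ?_, ?_⟩
    · dsimp only
      apply push_injective i g T
      rw [push_pull, hpush₀, ← pull_comp, hsm, hm]
    · intro s' hs'
      dsimp only at hs'
      have h1 : s' ≫ ι₀ = m := by
        apply hmuniq
        rw [pull_comp, ← hpush₀, ← push_pull, hs']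
      ext1
      show s'.left = t
      rw [← cancel_mono 𝓩.subschemeι, ht, ← h1, Over.comp_left, hι₀]

theorem result {X Y S : Scheme.{u}} (i : X ⟶ Y) [IsClosedImmersion i] (g : Y ⟶ S)
    (d : ℕ) (H : Over S) (Z : HilbD.Obj g d H) (hZ : HilbD.IsUniversal g d H Z) :
    HilbD.Representable (i ≫ g) d ∧
    ∀ (H' : Over S) (Z' : HilbD.Obj (i ≫ g) d H') (_ : HilbD.IsUniversal (i ≫ g) d H' Z') (m : H' ⟶ H),
      HilbD.pull g m Z.1 = HilbD.push i g H' Z'.1 → IsClosedImmersion m.left := by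
  obtain ⟨H₀, ι₀, W₀, hcl, hpush₀, hW₀⟩ := exists_universal i g d H Z hZ
  refine ⟨⟨H₀, W₀, hW₀⟩, ?_⟩
  intro H' Z' hZ' m hm
  obtain ⟨a, ha, -⟩ := hW₀ H' Z'
  obtain ⟨b, hb, -⟩ := hZ' H₀ W₀
  have hab : a ≫ b = 𝟙 _ := by
    obtain ⟨c, -, hc⟩ := hZ' H' Z'
    rw [hc (a ≫ b) (by dsimp only; rw [pull_comp, hb, ha]), hc (𝟙 _) (pull_id _ _ _)]
  have hba : b ≫ a = 𝟙 _ := by
    obtain ⟨c, -, hc⟩ := hW₀ H₀ W₀
    rw [hc (b ≫ a) (by dsimp only; rw [pull_comp, ha, hb]), hc (𝟙 _) (pull_id _ _ _)]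
  have hma : m = a ≫ ι₀ := by
    have hpZ' : Mor2.IsFinLocFreeOfDeg d ((HilbD.push i g H' Z'.1).subschemeι ≫ PicF.XTproj g H') :=
      (isFinLocFreeOfDeg_push_iff i g H' Z'.1 d).mpr Z'.2
    obtain ⟨c, -, hc⟩ := hZ H' ⟨_, hpZ'⟩
    rw [hc m hm, hc (a ≫ ι₀) (by dsimp only; rw [pull_comp, ← hpush₀, ← push_pull, ha])]
  haveI : IsIso a := ⟨b, hab, hba⟩
  haveI : IsIso a.left := inferInstanceAs (IsIso ((Over.forget S).map a))
  rw [hma, Over.comp_left]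
  infer_instance

end Groth.Agent.S1168
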