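import Groth.Statements.S1194
import Groth.Agent.Lib.T2H7FPFlatC
import Groth.Agent.Lib.Helper13Fiber

set_option autoImplicit false
universe u
open FlatMor

namespace Groth.Agent.S1194

open IsLocalRing in
/-- Let R → S be a local homomorphism of local rings which is essentially of finite presentation, and N
a finitely presented S-module flat over R. Then multiplication by any element of S acting
injectively on N/𝔪_R N is a universally injective map of R-modules on N, and the localization map
from N to its localization at all such elements is universally injective over R. -/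
theorem result {R S : Type u} [CommRing R] [IsLocalRing R] [CommRing S] [IsLocalRing S] [Algebra R S]
    [IsLocalHom (algebraMap R S)] (hS : FlatCA.EssFinitePresentation R S)
    (N : Type u) [AddCommGroup N] [Module S N] [Module R N] [IsScalarTower R S N] [Module.FinitePresentation S N] [Module.Flat R N] :
    (∀ s ∈ FlatCA.nzdFiber R S N, FlatCA.UnivInj R ((LinearMap.lsmul S N s).restrictScalars R)) ∧
    FlatCA.UnivInj R ((LocalizedModule.mkLinearMap (FlatCA.nzdFiber R S N) N).restrictScalars R) := by
  classical
  set W := FlatCA.nzdFiber R S N with hW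
  have hnzd : ∀ s ∈ W, ∀ x : N,
      s • x ∈ (maximalIdeal R).map (algebraMap R S) • (⊤ : Submodule S N) →
      x ∈ (maximalIdeal R).map (algebraMap R S) • (⊤ : Submodule S N) := by
    intro s hs x hx
    have h1 := Groth.Agent.Helper13Fiber.toFiberMod_eq_zero_of_mem (maximalIdeal R) S N hx
    rw [map_smul] at h1
    have h2 := (mem_nonZeroSMulDivisors_iff.mp hs) _ h1
    obtain ⟨t, ht, htx⟩ := (Groth.Agent.Helper13Fiber.toFiberMod_eq_zero_iff
      (maximalIdeal R) S N x).mp h2
    have htu : IsUnit t := by
      by_contra h
      exact ht ((IsLocalRing.mem_maximalIdeal t).mpr h)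
    obtain ⟨u, rfl⟩ := htu
    have := Submodule.smul_mem _ (algebraMap R S (↑u⁻¹ : R)) htx
    rwa [smul_smul, ← map_mul, Units.inv_mul, map_one, one_smul] at this
  have part1 : ∀ s ∈ W, Function.Injective (LinearMap.lsmul S N s) ∧
      Module.Flat R (N ⧸ LinearMap.range (LinearMap.lsmul S N s)) := fun s hs =>
    Groth.Agent.Lib.T2H7.FPFlat.injective_and_flat_coker_of_essFP hS (LinearMap.lsmul S N s)
      (fun x hx => hnzd s hs x hx)
  have h1 : ∀ s ∈ W, FlatCA.UnivInj R ((LinearMap.lsmul S N s).restrictScalars R) := by
    intro s hs Q _ _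
    obtain ⟨hinj, hfl⟩ := part1 s hs
    have hsurj : Function.Surjective
        ((LinearMap.range (LinearMap.lsmul S N s)).mkQ.restrictScalars R) :=
      Submodule.mkQ_surjective (LinearMap.range (LinearMap.lsmul S N s))
    have hex : Function.Exact ((LinearMap.lsmul S N s).restrictScalars R)
        ((LinearMap.range (LinearMap.lsmul S N s)).mkQ.restrictScalars R) :=
      LinearMap.exact_map_mkQ_range (LinearMap.lsmul S N s)
    have hinj' : Function.Injective ((LinearMap.lsmul S N s).restrictScalars R) := hinj
    exact LinearMap.lTensor_injective_of_exact_of_flat (R := R) (M := N) (N := N)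
      (P := N ⧸ LinearMap.range (LinearMap.lsmul S N s))
      ((LinearMap.range (LinearMap.lsmul S N s)).mkQ.restrictScalars R)
      hsurj ((LinearMap.lsmul S N s).restrictScalars R) hinj' hex Q
  refine ⟨h1, ?_⟩
  intro Q _ _
  rw [LinearMap.lTensor_inj_iff_rTensor_inj, injective_iff_map_eq_zero]
  intro z hz
  have := IsLocalizedModule.rTensor (R := R) S W (N := Q) (LocalizedModule.mkLinearMap W N)
  have h2 : TensorProduct.AlgebraTensorModule.rTensor R Q (LocalizedModule.mkLinearMap W N) z =
      TensorProduct.AlgebraTensorModule.rTensor R Q (LocalizedModule.mkLinearMap W N) 0 := by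
    rw [map_zero]
    exact hz
  obtain ⟨s, hs⟩ := IsLocalizedModule.exists_of_eq (S := W) h2
  rw [smul_zero] at hs
  have h3 := h1 s.1 s.2 Q
  rw [LinearMap.lTensor_inj_iff_rTensor_inj] at h3
  apply h3
  rw [map_zero]
  have h4 : ∀ z : TensorProduct R N Q,
      LinearMap.rTensor Q ((LinearMap.lsmul S N s.1).restrictScalars R) z = s • z := by
    intro z
    induction z with
    | zero => simp
    | add a b ha hb => rw [map_add, ha, hb, smul_add]
    | tmul n q => rfl
  rw [h4]
  exact hs

end Groth.Agent.S1194
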