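import Groth.Statements.S12085
import Mathlib
import Groth.Agent.Lib.Helper14UnramModel
-- import your own Groth.Agent.* helpers here

set_option autoImplicit false
universe u
open TensorProduct
open CAlg

namespace Groth.Agent.S12085

open MvPolynomial in
/-- A polynomial whose coefficients lie in a subalgebra comes from that subalgebra. -/
theorem exists_map_eq {R : Type u} [CommRing R] (A : Subalgebra ℤ R) {n : ℕ}
    (p : MvPolynomial (Fin n) R) (hp : (p.coeffs : Set R) ⊆ A) :
    ∃ q : MvPolynomial (Fin n) A, MvPolynomial.map (algebraMap A R) q = p := by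
  have : p ∈ Set.range (MvPolynomial.map (algebraMap A R)) := by
    rw [MvPolynomial.mem_range_map_iff_coeffs_subset]
    intro c hc
    exact ⟨⟨c, hp hc⟩, rfl⟩
  exact this

open MvPolynomial in
/-- If `R → S` is G-unramified (of finite presentation and formally unramified), then there are a finite
type `ℤ`-algebra `R₀`, a ring map `R₀ → R` and a G-unramified ring map `R₀ → S₀` such that `S ≅ R
⊗_{R₀} S₀` as `R`-algebras (existence of an isomorphism). -/
theorem result (R : Type u) [CommRing R] (S : Type u) [CommRing S]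
    [Algebra R S] [Algebra.FinitePresentation R S] [Algebra.FormallyUnramified R S] :
    ∃ (R₀ : Type u) (_ : CommRing R₀) (_ : Algebra.FiniteType ℤ R₀) (S₀ : Type u) (_ : CommRing S₀)
      (_ : Algebra R₀ S₀) (_ : Algebra.FinitePresentation R₀ S₀) (_ : Algebra.FormallyUnramified R₀ S₀)
      (_ : Algebra R₀ R), Nonempty (R ⊗[R₀] S₀ ≃ₐ[R] S) := by
  classical
  let P := Algebra.Presentation.ofFinitePresentation R S
  set n := Algebra.Presentation.ofFinitePresentationVars R S with hn
  set m := Algebra.Presentation.ofFinitePresentationRels R S with hm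
  letI : Algebra (MvPolynomial (Fin n) R) S := inferInstanceAs (Algebra P.Ring S)
  haveI : IsScalarTower R (MvPolynomial (Fin n) R) S :=
    inferInstanceAs (IsScalarTower R P.Ring S)
  have hsurj : Function.Surjective (algebraMap (MvPolynomial (Fin n) R) S) :=
    P.algebraMap_surjective
  have hker : ∀ x : MvPolynomial (Fin n) R, algebraMap (MvPolynomial (Fin n) R) S x = 0 →
      ∃ c : Fin m → MvPolynomial (Fin n) R, ∑ j, c j * P.relation j = x := by
    intro x hx
    have hx' : x ∈ Ideal.span (Set.range P.relation) := by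
      rw [P.span_range_relation_eq_ker]
      exact hx
    exact Ideal.mem_span_range_iff_exists_fun.1 hx'
  choose h hhker hhpd using
    Groth.Agent.Lib.Helper14.UnramModel.exists_ker_pderiv (R := R) (S := S) (n := n) hsurj
  choose a ha using fun i => hker (h i) (hhker i)
  choose b hb using fun i k => hker (pderiv k (X i - h i)) (hhpd i k)
  let T : Set R := P.coeffs ∪ ((⋃ i, ⋃ j, ((a i j).coeffs : Set R)) ∪
    (⋃ i, ⋃ k, ⋃ j, ((b i k j).coeffs : Set R)))
  have hT : T.Finite := by
    refine Set.Finite.union P.finite_coeffs (Set.Finite.union ?_ ?_)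
    · exact Set.finite_iUnion fun _ => Set.finite_iUnion fun _ => Finset.finite_toSet _
    · exact Set.finite_iUnion fun _ => Set.finite_iUnion fun _ => Set.finite_iUnion fun _ =>
        Finset.finite_toSet _
  let R₀ : Subalgebra ℤ R := Algebra.adjoin ℤ T
  have hR₀ : Algebra.FiniteType ℤ R₀ := Algebra.FiniteType.adjoin_of_finite hT
  haveI : P.HasCoeffs R₀ := ⟨by
    intro c hc
    exact ⟨⟨c, Algebra.subset_adjoin (Or.inl hc)⟩, rfl⟩⟩
  have hinj : Function.Injective (MvPolynomial.map (σ := Fin n) (algebraMap R₀ R)) :=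
    MvPolynomial.map_injective _ Subtype.val_injective
  -- descend the coefficients
  have ha₀ : ∀ i j, ∃ q : MvPolynomial (Fin n) R₀, MvPolynomial.map (algebraMap R₀ R) q = a i j := by
    intro i j
    apply exists_map_eq R₀
    intro c hc
    exact Algebra.subset_adjoin (Or.inr (Or.inl (Set.mem_iUnion.2 ⟨i, Set.mem_iUnion.2 ⟨j, hc⟩⟩)))
  have hb₀ : ∀ i k j, ∃ q : MvPolynomial (Fin n) R₀,
      MvPolynomial.map (algebraMap R₀ R) q = b i k j := by
    intro i k j
    apply exists_map_eq R₀
    intro c hc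
    exact Algebra.subset_adjoin (Or.inr (Or.inr (Set.mem_iUnion.2 ⟨i, Set.mem_iUnion.2 ⟨k,
      Set.mem_iUnion.2 ⟨j, hc⟩⟩⟩)))
  choose a₀ ha₀ using ha₀
  choose b₀ hb₀ using hb₀
  let I₀ : Ideal (MvPolynomial (Fin n) R₀) := Ideal.span (Set.range (P.relationOfHasCoeffs R₀))
  let h₀ : Fin n → MvPolynomial (Fin n) R₀ := fun i => ∑ j, a₀ i j * P.relationOfHasCoeffs R₀ j
  have hmem : ∀ (c : Fin m → MvPolynomial (Fin n) R₀),
      ∑ j, c j * P.relationOfHasCoeffs R₀ j ∈ I₀ := by
    intro c
    refine Ideal.sum_mem _ fun j _ => Ideal.mul_mem_left _ _ (Ideal.subset_span ⟨j, rfl⟩)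
  have hmaph : ∀ i, MvPolynomial.map (algebraMap R₀ R) (h₀ i) = h i := by
    intro i
    simp only [h₀, map_sum, map_mul, ha₀, P.map_relationOfHasCoeffs]
    exact ha i
  have hI : ∀ i, h₀ i ∈ I₀ := fun i => hmem _
  have hI' : ∀ i k, pderiv k (X i - h₀ i) ∈ I₀ := by
    intro i k
    have : pderiv k (X i - h₀ i) = ∑ j, b₀ i k j * P.relationOfHasCoeffs R₀ j := by
      apply hinj
      rw [← MvPolynomial.pderiv_map, map_sub, MvPolynomial.map_X, hmaph]
      simp only [map_sum, map_mul, hb₀, P.map_relationOfHasCoeffs]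
      exact (hb i k).symm
    rw [this]
    exact hmem _
  have hfu : Algebra.FormallyUnramified R₀ (P.ModelOfHasCoeffs R₀) :=
    Groth.Agent.Lib.Helper14.UnramModel.formallyUnramified_quotient I₀ h₀ hI hI'
  refine ⟨R₀, inferInstance, ?_, P.ModelOfHasCoeffs R₀, inferInstance, inferInstance,
    inferInstance, hfu, inferInstance, ⟨P.tensorModelOfHasCoeffsEquiv R₀⟩⟩
  convert hR₀

end Groth.Agent.S12085
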