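import Groth.Statements.S12111
import Mathlib
import Groth.Agent.Lib.T2H5ClosedTransfer
import Groth.Agent.S3224
import Groth.Agent.S1647
-- import your own Groth.Agent.* helpers here

set_option autoImplicit false
universe u
open CategoryTheory CategoryTheory.Limits AlgebraicGeometry
open Pic13

namespace Groth.Agent.S12111

/-- Let k be an algebraically closed field, i : X ⟶ P^n_k a closed immersion and O_X(1) = i^*O(1). If a
coherent O_X-module F is m-regular (H^q(X, F(m - q)) = 0 for every q ≥ 1) then for every integer n'
≥ m, F is n'-regular and F(n') is generated by its global sections. (The published statement is for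
a projective k-scheme with an ample O_X(1) generated by its sections at the points of the support of
F; this row is the case of a closed subscheme of projective space.) -/
theorem result (k : Type u) [Field k] [IsAlgClosed k] (n : ℕ) {X : Scheme.{u}}
    (i : X ⟶ CohB1.ProjSpace n k) [IsClosedImmersion i] (F : X.Modules) (hF : Coh.IsCoh F) (m : ℤ)
    (h : Pic13.IsMRegular k i F m) (n' : ℤ) (hn' : m ≤ n') :
    Pic13.IsMRegular k i F n' ∧ Curv2.IsGloballyGenerated (Pic13.twistOn k i F n') := by

  have hG : Coh.IsCoh ((Scheme.Modules.pushforward i).obj F) :=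
    Groth.Agent.Lib.T2H5.ClosedTransfer.isCoh_pushforward i F hF
  have hreg : ∀ q : ℕ, 1 ≤ q → Subsingleton (Coh.HH (CohB1.ProjSpace n k)
      (CohB1.tensorMod ((Scheme.Modules.pushforward i).obj F) (Twist.twistProjSpace n k (m - q))) q) :=
    fun q hq => (Groth.Agent.Lib.T2H5.ClosedTransfer.subsingleton_HH_twist_iff n k i F hF.1 (m - q) q).1
      (h q hq)
  have hall := Groth.Agent.S3224.result k n _ hG m hreg
  refine ⟨fun q hq => ?_, ?_⟩
  · exact (Groth.Agent.Lib.T2H5.ClosedTransfer.subsingleton_HH_twist_iff n k i F hF.1 (n' - q) q).2
      (hall q (n' - q) hq (by omega))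
  · have hgg : Curv2.IsGloballyGenerated (CohB1.tensorMod ((Scheme.Modules.pushforward i).obj F)
        (Twist.twistProjSpace n k n')) :=
      Groth.Agent.S1647.result k n _ hG n' (fun q hq _ => hall q (n' - q) hq (by omega))
    apply Groth.Agent.Lib.T2H5.ClosedTransfer.isGloballyGenerated_of_pushforward i
    exact Groth.Agent.Lib.Helper23.RestrTensor.isGloballyGenerated_of_iso
      ((Groth.Agent.Lib.T2H5.ClosedTransfer.projTwistIso n k i n').app F).symm hgg

end Groth.Agent.S12111
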