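import Groth.Statements.S12112
import Mathlib
import Groth.Agent.Lib.T2H5ClosedTransfer
import Groth.Agent.Lib.T2H5ClosedLin
import Groth.Agent.Lib.T2H5IntPn2
import Groth.Agent.S11296
import Groth.Agent.Lib.T2H5RegRes2
-- import your own Groth.Agent.* helpers here

set_option autoImplicit false
set_option linter.style.haveILetI false
universe u
open CategoryTheory CategoryTheory.Limits AlgebraicGeometry
open Pic13

namespace Groth.Agent.S12112

/-- Let k be an algebraically closed field, i : X ⟶ P^n_k a closed k-immersion, O_X(1) = i^*O(1), and F,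
G coherent O_X-modules with a short exact sequence 0 → F(-1) → F → G → 0 and G m-regular. Then (i)
H^q(X, F(n')) = 0 for q ≥ 2 and n' ≥ m - q; (ii) h^1(F(n' - 1)) ≥ h^1(F(n')) for n' ≥ m - 1, h^1
being the dimension over k; (iii) H^1(X, F(n')) = 0 for n' ≥ (m - 1) + h^1(F(m - 1)); in particular
F is (m + h^1(F(m - 1)))-regular. (The published statement takes F(-1) → F given by a section of
O_X(1); the printed argument uses only the short exact sequence and its twists, so any short exact
sequence of this shape is allowed here.) -/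
theorem result (k : Type u) [Field k] [IsAlgClosed k] (n : ℕ) (X : Scheme.{u})
    [X.Over (Spec (CommRingCat.of k))] (i : X ⟶ CohB1.ProjSpace n k) [IsClosedImmersion i]
    (hi : i ≫ CohB1.ProjSpace.toSpec n k = X ↘ Spec (CommRingCat.of k))
    (F G : X.Modules) (hF : Coh.IsCoh F) (hG : Coh.IsCoh G)
    (f : Pic13.twistOn k i F (-1) ⟶ F) (g : F ⟶ G) (hfg : f ≫ g = 0) (hS : (ShortComplex.mk f g hfg).ShortExact)
    (m : ℤ) (hGm : Pic13.IsMRegular k i G m) :
    (∀ (q : ℕ) (n' : ℤ), 2 ≤ q → m - q ≤ n' → Subsingleton (Coh.HH X (Pic13.twistOn k i F n') q)) ∧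
    (∀ n' : ℤ, m - 1 ≤ n' →
      Module.finrank k (Coh.HH X (Pic13.twistOn k i F n') 1) ≤ Module.finrank k (Coh.HH X (Pic13.twistOn k i F (n' - 1)) 1)) ∧
    (∀ n' : ℤ, (m - 1) + (Module.finrank k (Coh.HH X (Pic13.twistOn k i F (m - 1)) 1) : ℤ) ≤ n' →
      Subsingleton (Coh.HH X (Pic13.twistOn k i F n') 1)) ∧
    Pic13.IsMRegular k i F (m + Module.finrank k (Coh.HH X (Pic13.twistOn k i F (m - 1)) 1)) := by

  have hF' : Coh.IsCoh ((Scheme.Modules.pushforward i).obj F) :=
    Groth.Agent.Lib.T2H5.ClosedTransfer.isCoh_pushforward i F hF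
  have hS' := Groth.Agent.Lib.T2H5.ClosedLin.shortExact_map_pushforward i _ hS
  haveI := hS'.mono_f
  haveI := hS'.epi_g
  haveI : Mono ((Scheme.Modules.pushforward i).map f) := hS'.mono_f
  haveI : Epi ((Scheme.Modules.pushforward i).map g) := hS'.epi_g
  let e₁ : (Scheme.Modules.pushforward i).obj (Pic13.twistOn k i F (-1)) ≅
      CohB1.tensorMod ((Scheme.Modules.pushforward i).obj F) (Twist.twistProjSpace n k (-1)) :=
    (Groth.Agent.Lib.T2H5.ClosedTransfer.projTwistIso n k i (-1)).app F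
  let ι' : CohB1.tensorMod ((Scheme.Modules.pushforward i).obj F) (Twist.twistProjSpace n k (-1)) ⟶
      (Scheme.Modules.pushforward i).obj F := e₁.inv ≫ (Scheme.Modules.pushforward i).map f
  haveI : Mono ι' := mono_comp _ _
  let ec : cokernel ι' ≅ (Scheme.Modules.pushforward i).obj G :=
    cokernelEpiComp e₁.inv ((Scheme.Modules.pushforward i).map f) ≪≫
      (colimit.isColimit _).coconePointUniqueUpToIso hS'.exact.gIsCokernel
  have hG' : Curv2.IsMRegular k n (cokernel ι') m := by
    intro q hq _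
    have h1 := (Groth.Agent.Lib.T2H5.ClosedTransfer.subsingleton_HH_twist_iff n k i G hG.1 (m - q) q).1
      (hGm q hq)
    exact Groth.Agent.Lib.T2H5.PnStruct.subsingleton_HH_of_iso
      ((Groth.Agent.Lib.T2H5.Twist.tw n k (m - q)).mapIso ec.symm) q h1
  obtain ⟨P1, P2, P3, P4⟩ := Groth.Agent.S11296.result k n _ hF' ι' m hG'
  have hfr : ∀ d : ℤ, Module.finrank k (Coh.HH X (Pic13.twistOn k i F d) 1) =
      Module.finrank k (Coh.HH (CohB1.ProjSpace n k)
        (CohB1.tensorMod ((Scheme.Modules.pushforward i).obj F) (Twist.twistProjSpace n k d)) 1) := by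
    intro d
    obtain ⟨θ⟩ := Groth.Agent.Lib.T2H5.ClosedLin.nonempty_linearEquiv i k hi (Pic13.twistOn k i F d) 1
    exact θ.finrank_eq.trans (Groth.Agent.Lib.T2H5.IntPn.HHEquiv k
      ((Groth.Agent.Lib.T2H5.ClosedTransfer.projTwistIso n k i d).app F) 1).finrank_eq
  have htr : ∀ (d : ℤ) (q : ℕ), Subsingleton (Coh.HH X (Pic13.twistOn k i F d) q) ↔
      Subsingleton (Coh.HH (CohB1.ProjSpace n k)
        (CohB1.tensorMod ((Scheme.Modules.pushforward i).obj F) (Twist.twistProjSpace n k d)) q) :=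
    fun d q => Groth.Agent.Lib.T2H5.ClosedTransfer.subsingleton_HH_twist_iff n k i F hF.1 d q
  refine ⟨fun q n' hq hn' => (htr n' q).2 (P1 q n' hq hn'), fun n' hn' => ?_, fun n' hn' => ?_, ?_⟩
  · rw [hfr, hfr]
    exact P2 n' hn'
  · rw [hfr] at hn'
    exact (htr n' 1).2 (P3 n' hn')
  · rw [hfr]
    intro q hq
    refine (htr _ q).2 ?_
    exact Groth.Agent.Lib.T2H5.RegRes.regular_all n k _ hF' _ P4 q hq

end Groth.Agent.S12112
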