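import Groth.Statements.S1217
import Groth.Agent.Lib.T2H2PureDesc5

set_option autoImplicit false
universe u
open FlatMor

namespace Groth.Agent.S1217

/-- Ring form, X = Spec B affine: let B be a finite type A-algebra, N a finite B-module, p a prime of A,
and A' an A-algebra with a prime p' over p such that the local ring of A' at p' is flat over A. Let
B', N' be the base changes of B, N to A'. If N' is pure along the fibre over p' then N is pure along
the fibre over p, and likewise for universal purity. -/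
theorem result {A B : Type u} [CommRing A] [CommRing B] [Algebra A B] [Algebra.FiniteType A B]
    (N : Type u) [AddCommGroup N] [Module B N] [Module.Finite B N] (p : Ideal A) [p.IsPrime]
    (A' B' N' : Type u) [CommRing A'] [CommRing B'] [Algebra A A'] [Algebra B B'] [Algebra A' B'] [Algebra A B']
    [IsScalarTower A B B'] [IsScalarTower A A' B'] [Algebra.IsPushout A B A' B']
    [AddCommGroup N'] [Module B' N'] [Module B N'] [IsScalarTower B B' N'] (f : N →ₗ[B] N') (hf : IsBaseChange B' f)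
    (p' : Ideal A') [p'.IsPrime] [p'.LiesOver p] [Module.Flat A (Localization.AtPrime p')] :
    (FlatCA.IsPureAlong A' B' N' p' → FlatCA.IsPureAlong A B N p) ∧
    (FlatCA.IsUnivPureAlong A' B' N' p' → FlatCA.IsUnivPureAlong A B N p) := by
  constructor
  · intro hpure A₁ B₁ N₁ _ _ _ _ _ _ _ _ _ _ _ _ _ _ f₁ t' t _ _ P _ hEt himp
    exact Groth.Agent.Lib.T2H2.PureDesc5.key N p A' B' N' f hf p' A₁ B₁ N₁ f₁ t' t P himp False
      (fun A₂ B₂ N₂ _ _ _ _ _ _ _ _ _ _ _ _ _ _ f₂ t₂' t₂ _ _ P₂ _ hEt₂ himp₂ =>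
        hpure A₂ B₂ N₂ f₂ t₂' t₂ P₂ (hEt₂ hEt) himp₂)
  · intro hpure A₁ B₁ N₁ _ _ _ _ _ _ _ _ _ _ _ _ _ _ f₁ t' t _ _ P _ himp
    exact Groth.Agent.Lib.T2H2.PureDesc5.key N p A' B' N' f hf p' A₁ B₁ N₁ f₁ t' t P himp False
      (fun A₂ B₂ N₂ _ _ _ _ _ _ _ _ _ _ _ _ _ _ f₂ t₂' t₂ _ _ P₂ _ _ himp₂ =>
        hpure A₂ B₂ N₂ f₂ t₂' t₂ P₂ himp₂)

end Groth.Agent.S1217
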