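import Groth.Statements.S12193
import Groth.Agent.S9966
import Groth.Agent.S10193
import Groth.Agent.S10211
import Groth.Agent.S10175
import Groth.Agent.Lib.Helper12Proper
import Groth.Agent.Lib.Helper12EtSmST
import Groth.Agent.Lib.Helper12Reduced

set_option autoImplicit false
universe u
open CategoryTheory CategoryTheory.Limits AlgebraicGeometry
open AlgSp

namespace Groth.Agent.S12193

/-- Let X be a reduced algebraic space over S, f : X → Y a morphism of algebraic spaces over S, and Z →
Y the scheme theoretic image of f. Then forming the scheme theoretic image commutes with etale base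
change: for every etale morphism V → Y of algebraic spaces and cartesian squares X ×_Y V, Z ×_Y V,
the closed subspace Z ×_Y V → V is the scheme theoretic image of X ×_Y V → V. -/
theorem result {S : Scheme.{u}} {X Y Z V XV ZV : AlgSp.Space S} (f : X ⟶ Y)
    (i : Z ⟶ Y) (hX : AlgSp.IsReducedSp X.obj) (hZ : AlgSp.IsSchImage f.hom i.hom) (b : V ⟶ Y)
    (hb : AlgSp.IsEtaleMor b.hom) (f₁ : XV ⟶ X) (fV : XV ⟶ V) (i₁ : ZV ⟶ Z) (iV : ZV ⟶ V)
    (sqX : IsPullback f₁.hom fV.hom f.hom b.hom) (sqZ : IsPullback i₁.hom iV.hom i.hom b.hom) :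
    AlgSp.IsSchImage fV.hom iV.hom := by
  obtain ⟨hi, ⟨f', hf'⟩, hmin⟩ := hZ
  have hred := Groth.Agent.S9966.result f i hX ⟨hi, ⟨f', hf'⟩, hmin⟩
  -- the base change of `i` is a closed immersion
  have hiV : AlgSp.RepWith @IsClosedImmersion iV.hom :=
    MorphismProperty.of_isPullback (P := AlgSp.RepWith @IsClosedImmersion) sqZ hi
  refine ⟨hiV, ⟨sqZ.lift (f₁.hom ≫ f') fV.hom (by rw [Category.assoc, hf', sqX.w]),
    sqZ.lift_snd _ _ _⟩, ?_⟩
  intro Z' i' hZ' hi' hfac
  obtain ⟨f'', hf''⟩ := hfac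
  -- `Z ×_Y V` is reduced
  have hi₁ : AlgSp.IsEtaleMor i₁.hom :=
    Groth.Agent.Lib.Helper12.EtSmST.isEtaleMor_baseChange V.property Y.property Z.property
      sqZ.flip hb
  have hZVred : AlgSp.IsReducedSp ZV.obj :=
    Groth.Agent.Lib.Helper12.Reduced.isReducedSp_of_smooth ZV.property i₁.hom
      (Groth.Agent.Lib.Helper12.EtSmST.locP_smooth_of_isEtaleMor _ hi₁) hred.2.2
  -- the points of `Z ×_Y V` lie in `Z'`
  have hcl : IsClosed (Set.range (AlgSp.Points.map i')) := by
    rw [← Set.image_univ]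
    exact Groth.Agent.Lib.Helper12.Proper.isClosedMap_of_repWith_isClosedImmersion i' hi' _
      isClosed_univ
  have hopen : IsOpenMap (AlgSp.Points.map b.hom) :=
    Groth.Agent.S10211.isOpenMap_map_of_isEtaleMor V.property b.hom hb
  have hrange : Set.range (AlgSp.Points.map iV.hom) ⊆ Set.range (AlgSp.Points.map i') := by
    rintro _ ⟨p, rfl⟩
    -- the image of `p` in `Y` lies in the closure of the image of `X`
    have h1 : AlgSp.Points.map b.hom (AlgSp.Points.map iV.hom p) ∈
        closure (Set.range (AlgSp.Points.map f.hom)) := by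
      rw [← hred.2.1, ← AlgSp.Points.map_comp, ← sqZ.w, AlgSp.Points.map_comp]
      exact ⟨_, rfl⟩
    have h2 : AlgSp.Points.map iV.hom p ∈
        closure (AlgSp.Points.map b.hom ⁻¹' Set.range (AlgSp.Points.map f.hom)) := by
      rw [← hopen.preimage_closure_eq_closure_preimage (AlgSp.Points.continuous_map b.hom)]
      exact h1
    refine closure_minimal ?_ hcl h2
    rintro v ⟨x, hx⟩
    obtain ⟨q, hq1, hq2⟩ := Groth.Agent.S10175.exists_point_of_isPullback sqX.flip v x hx.symm
    refine ⟨AlgSp.Points.map f'' q, ?_⟩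
    rw [← AlgSp.Points.map_comp, hf'']
    exact hq1
  obtain ⟨k, hk⟩ := (Groth.Agent.S10193.result (X := V) (Y := ZV) (Z := ⟨Z', hZ'⟩)
    (ObjectProperty.homMk i') hi' hZVred iV).2 hrange
  exact ⟨k.hom, congrArg (fun m => m.hom) hk⟩

end Groth.Agent.S12193
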