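import Groth.Statements.S12195
import Groth.Agent.Lib.T2H1FormalDescent

set_option autoImplicit false
universe u
open CategoryTheory CategoryTheory.Limits AlgebraicGeometry
open AlgSp

namespace Groth.Agent.S12195

/-- Let a : F ⟶ G be a representable, surjective and etale morphism of fppf sheaves on (Sch/S) and b : G
⟶ H a morphism such that a ≫ b is formally smooth. Consider a solid infinitesimal lifting square for
b: a square-zero thickening T = Spec (A/I) ⊂ T' = Spec A of affine schemes over S, a morphism T ⟶ G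
and a morphism T' ⟶ H making the square commute. Then for every point t of T' there exist an affine
scheme U', an etale morphism U' ⟶ T' whose image contains t, and a morphism U' ⟶ G lying over T' ⟶ H
whose restriction to T ×_{T'} U' agrees with the given T ⟶ G (stated for every scheme V mapping
compatibly to T and U'). (The published statement is for transformations of arbitrary presheaves of
sets on (Sch/S)_fppf; this row takes fppf sheaves, the case of algebraic spaces.) -/
theorem result {S : Scheme.{u}} {F G H : AlgSp.Sp S} (a : F ⟶ G)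
    (b : G ⟶ H) (ha : AlgSp.RepWith @Etale a) (ha' : AlgSp.RepWith @Surjective a)
    (hab : AlgSp.IsFormallySmoothMor (a ≫ b)) (sq : AlgSp.InfSq b) (t : ↥sq.ptT'.left) :
    ∃ (U' : Over S) (g : U' ⟶ sq.ptT') (l : (AlgSp.yon S).obj U' ⟶ G),
      IsAffine U'.left ∧ Etale g.left ∧ (∃ u : ↥U'.left, g.left u = t) ∧
        l ≫ b = (AlgSp.yon S).map g ≫ sq.bot ∧
          ∀ (V : Over S) (p : V ⟶ sq.ptT) (q : V ⟶ U'), p ≫ sq.j = q ≫ g →
            (AlgSp.yon S).map q ≫ l = (AlgSp.yon S).map p ≫ sq.top := by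
  obtain ⟨K, d, hd, hs, hτ⟩ := Groth.Agent.Lib.T2H1.FormalDescent.exists_chartLifts a ha ha' sq
  obtain ⟨k, u, hu⟩ := hs t
  obtain ⟨τ, hτa⟩ := hτ k
  have hc : τ ≫ a ≫ b = (AlgSp.yon S).map (d k).jV ≫ (AlgSp.yon S).map (d k).β ≫ sq.bot := by
    rw [← Category.assoc, hτa, Category.assoc, sq.comm, ← Category.assoc, ← Category.assoc,
      ← Functor.map_comp, ← Functor.map_comp, (d k).comm]
  obtain ⟨m, hm1, hm2⟩ := hab ((d k).infSq (a ≫ b) τ ((AlgSp.yon S).map (d k).β ≫ sq.bot) hc)
  have hm1' : (AlgSp.yon S).map (d k).jV ≫ m = τ := hm1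
  have hm2' : m ≫ a ≫ b = (AlgSp.yon S).map (d k).β ≫ sq.bot := hm2
  have hloc : Groth.Agent.Lib.T2H1.Descend.IsLocLift ((AlgSp.yon S).map sq.j) b sq.top sq.bot
      ((AlgSp.yon S).map (d k).β) (m ≫ a) :=
    (Groth.Agent.Lib.T2H1.Descend.isLocLift_iff_of_isPullback (d k).isPullback (m ≫ a)).2
      ⟨by rw [← Category.assoc, hm1', hτa], by rw [Category.assoc]; exact hm2'⟩
  refine ⟨(d k).V, (d k).β, m ≫ a, inferInstanceAs (IsAffine (Spec _)),
    (HasRingHomProperty.Spec_iff (P := @Etale)).2 (hd k), ⟨u, hu⟩, hloc.1, fun V p q hpq => ?_⟩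
  exact hloc.2 ((AlgSp.yon S).map p) ((AlgSp.yon S).map q)
    (by rw [← Functor.map_comp, ← Functor.map_comp, hpq])

end Groth.Agent.S12195
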