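import Groth.Statements.S12199
import Groth.Agent.Lib.T2H1GrpLocus
import Groth.Agent.S10312
import Groth.Agent.S10313

set_option autoImplicit false
universe u
open CategoryTheory CategoryTheory.Limits AlgebraicGeometry MonoidalCategory MonObj
open AlgSp

namespace Groth.Agent.S12199


open Groth.Agent.Lib.T2H1.GrpLocus Groth.Agent.Lib.Helper12.LocPCases in
/-- a good property holds for `G ⟶ B` iff it holds near every point of the unit section. -/
lemma key {S : Scheme.{u}} {B : AlgSp.Sp S} (hB : AlgSp.IsAlgSpace B)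
    (G : Over B) [GrpObj G] (hG : AlgSp.IsAlgSpace G.left)
    (P : MorphismProperty Scheme.{u}) (hP : Good P) [IsZariskiLocalAtSource P]
    (hBC : BC G (near P)) :
    AlgSp.LocP P G.hom ↔ ∀ b : AlgSp.Points B,
      AlgSp.HasAtMor (near P) G.hom (AlgSp.Points.map (η[G]).left b) := by
  rw [Groth.Agent.Lib.Helper12.LocPNbhd.locP_iff_forall_hasAtMor hP hG hB G.hom]
  constructor
  · intro H b
    exact H _
  · intro H x
    rw [homogeneous G hB hG hBC]
    exact H _

/-- Let B be an algebraic space over S and G a group algebraic space over B with unit section e : B → G,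
and suppose G is locally of finite type over B. Under this assumption, G → B is unramified exactly
when it is unramified at e(b) for every point b of |B|, and G → B is locally quasi-finite exactly
when it is quasi-finite at e(b) for every point b of |B|. Here 'unramified (resp. quasi-finite) at a
point' is the some-chart-diagram form: there are etale charts of G and B and a compatible morphism
of schemes which is unramified (resp. locally quasi-finite of finite type) on an open neighbourhood
of a point over e(b). -/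
theorem result (S : Scheme.{u}) (B : AlgSp.Sp S) (hB : AlgSp.IsAlgSpace B)
    (G : Over B) [GrpObj G] (hG : AlgSp.IsAlgSpace G.left) (hlft : AlgSp.LocP @LocallyOfFiniteType G.hom) :
    (AlgSp.LocP (@LocallyOfFiniteType ⊓ @FormallyUnramified) G.hom ↔
        ∀ b : AlgSp.Points B, AlgSp.HasAtMor
          (fun U _ h u => ∃ W : U.Opens, u ∈ W ∧ LocallyOfFiniteType (W.ι ≫ h) ∧ FormallyUnramified (W.ι ≫ h))
          G.hom (AlgSp.Points.map (η[G]).left b)) ∧
    (AlgSp.LocP (@LocallyQuasiFinite ⊓ @LocallyOfFiniteType) G.hom ↔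
        ∀ b : AlgSp.Points B, AlgSp.HasAtMor
          (fun U _ h u => ∃ W : U.Opens, u ∈ W ∧ LocallyQuasiFinite (W.ι ≫ h) ∧ LocallyOfFiniteType (W.ι ≫ h))
          G.hom (AlgSp.Points.map (η[G]).left b)) := by
  have hBC1 : Groth.Agent.Lib.T2H1.GrpLocus.BC G (Groth.Agent.Lib.T2H1.GrpLocus.near
      (@LocallyOfFiniteType ⊓ @FormallyUnramified : MorphismProperty Scheme.{u})) := by
    intro Y'' X'' hY'' hX'' g b f'' sq x''
    have h4 := (Groth.Agent.S10312.result (X := ⟨G.left, hG⟩) (Y := ⟨B, hB⟩) (Z := ⟨B, hB⟩)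
      (Z' := ⟨Y'', hY''⟩) (Y' := ⟨Y'', hY''⟩) (X' := ⟨X'', hX''⟩)
      (ObjectProperty.homMk G.hom) (ObjectProperty.homMk G.hom) (𝟙 _) (Category.comp_id _) hlft
      (ObjectProperty.homMk g) (ObjectProperty.homMk g) (𝟙 _)
      (IsPullback.of_vert_isIso ⟨by simp⟩)
      (ObjectProperty.homMk b) (ObjectProperty.homMk f'') sq).2
    exact Set.ext_iff.1 h4 x''
  have hBC2 : Groth.Agent.Lib.T2H1.GrpLocus.BC G (Groth.Agent.Lib.T2H1.GrpLocus.near
      (@LocallyQuasiFinite ⊓ @LocallyOfFiniteType : MorphismProperty Scheme.{u})) := by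
    obtain ⟨X', j, -, -, -, hbc⟩ := Groth.Agent.S10313.result (X := ⟨G.left, hG⟩) (Y := ⟨B, hB⟩)
      (ObjectProperty.homMk G.hom) hlft
    intro Y'' X'' hY'' hX'' g b f'' sq x''
    have h1 := hbc ⟨Y'', hY''⟩ ⟨X'', hX''⟩ (ObjectProperty.homMk g) (ObjectProperty.homMk b)
      (ObjectProperty.homMk f'') sq x''
    have h2 := hbc ⟨B, hB⟩ ⟨G.left, hG⟩ (𝟙 _) (𝟙 _) (ObjectProperty.homMk G.hom)
      (IsPullback.of_horiz_isIso ⟨by simp⟩) (AlgSp.Points.map b x'')
    have h3 : AlgSp.Points.map (𝟙 G.left) (AlgSp.Points.map b x'') ∈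
        Set.range (AlgSp.Points.map j.hom) ↔ _ := h2
    rw [AlgSp.Points.map_id] at h3
    exact h1.symm.trans h3
  exact ⟨key hB G hG _ Groth.Agent.Lib.Helper12.LocPCases.good_unram hBC1,
    key hB G hG _ Groth.Agent.Lib.Helper12.LocPCases.good_lqf hBC2⟩

end Groth.Agent.S12199
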