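import Groth.Statements.S12204
import Mathlib
import Groth.Agent.Lib.Helper12GeomRed
import Groth.Agent.Lib.Helper12FieldBC
import Groth.Agent.Lib.Helper6BcRed

set_option autoImplicit false
universe u
open CategoryTheory CategoryTheory.Limits AlgebraicGeometry Topology TopologicalSpace
open AlgSp

namespace Groth.Agent.S12204

open TensorProduct in
/-- a finite purely inseparable extension embeds into a perfect purely inseparable extension, and
reducedness of the tensor product passes to the smaller field. -/
theorem isReduced_tensor_of_perfect (k : Type u) [Field k] (p : ℕ) [Fact p.Prime] [CharP k p]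
    (k' : Type u) [Field k'] [Algebra k k'] [PerfectField k']
    (k'' : Type u) [Field k''] [Algebra k k''] [IsPurelyInseparable k k'']
    (M : Type u) [CommRing M] [Algebra k M] (h : IsReduced (k' ⊗[k] M)) :
    IsReduced (k'' ⊗[k] M) := by
  haveI : CharP k' p := charP_of_injective_algebraMap (algebraMap k k').injective p
  haveI : CharP k'' p := charP_of_injective_algebraMap (algebraMap k k'').injective p
  haveI : ExpChar k p := ExpChar.prime Fact.out
  haveI : ExpChar k' p := ExpChar.prime Fact.out
  haveI : ExpChar k'' p := ExpChar.prime Fact.out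
  haveI : PerfectRing k' p := PerfectField.toPerfectRing p
  haveI : IsPRadical (algebraMap k k'') p := IsPurelyInseparable.isPRadical k k'' p
  let ψ₀ : k'' →+* k' := PerfectRing.lift (algebraMap k k'') (algebraMap k k') p
  have hψ₀ : ψ₀.comp (algebraMap k k'') = algebraMap k k' :=
    PerfectRing.lift_comp (algebraMap k k'') (algebraMap k k') p
  let ψ : k'' →ₐ[k] k' := { ψ₀ with commutes' := fun r => RingHom.congr_fun hψ₀ r }
  have hinj : Function.Injective (Algebra.TensorProduct.map ψ (AlgHom.id k M)) := by
    have h1 := Module.Flat.rTensor_preserves_injective_linearMap (M := M) ψ.toLinearMap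
      ψ.toRingHom.injective
    exact h1
  exact isReduced_of_injective (Algebra.TensorProduct.map ψ (AlgHom.id k M)).toRingHom hinj

attribute [local instance] Curv2.stalkAlgebra

/-- (5) ⇒ (2): let k be a field of characteristic p > 0, k' a perfect closure of k (a perfect field
which is a purely inseparable extension of k) and X an algebraic space over k. If X_{k'} is reduced,
then X_K is reduced for every field extension K of k. -/
theorem result (k : Type u) [Field k] (p : ℕ) [Fact p.Prime] [CharP k p]
    (X : AlgSp.Space (Spec (CommRingCat.of k))) (k' : Type u) [Field k'] [Algebra k k'] [PerfectField k']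
    [IsPurelyInseparable k k']
    (h : AlgSp.EtaleLocally (fun U => IsReduced U) (X.obj ⨯ (AlgSp.yon (Spec (CommRingCat.of k))).obj (Over.mk (Spec.map (CommRingCat.ofHom (algebraMap k k'))))))
    (K : Type u) [Field K] [Algebra k K] : AlgSp.EtaleLocally (fun U => IsReduced U) (X.obj ⨯ (AlgSp.yon (Spec (CommRingCat.of k))).obj (Over.mk (Spec.map (CommRingCat.ofHom (algebraMap k K))))) := by
  obtain ⟨U, a, hae, has⟩ := X.property.atlas
  refine Groth.Agent.Lib.Helper12.FieldBC.isReducedSp_bc_of_isReduced K a hae has ?_
  letI : U.left.Over (Spec (CommRingCat.of k)) := ⟨U.hom⟩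
  refine Groth.Agent.Lib.Helper6.BcRed.isReduced_bc_of_purelyInseparable k U.left ?_ K
  intro k'' _ _ hfin hpi
  haveI hred : AlgebraicGeometry.IsReduced (Curv2.bc k U.left k') :=
    Groth.Agent.Lib.Helper12.FieldBC.isReduced_bc_of_isReducedSp k' h a hae
  haveI : ∀ y : Curv2.bc k U.left k'', _root_.IsReduced ((Curv2.bc k U.left k'').presheaf.stalk y) := by
    intro y
    refine Groth.Agent.Lib.Helper6.BcRed.reduced_stalk_of_isReduced_tensor k U.left k'' y _ rfl ?_
    have h1 := Groth.Agent.Lib.Helper6.BcRed.isReduced_tensor_stalk_of_forall k U.left k'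
      (Curv2.bcFst k U.left k'' y) (fun x' => inferInstance)
    exact isReduced_tensor_of_perfect k p k' k'' _ h1
  exact isReduced_of_isReduced_stalk _

end Groth.Agent.S12204
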