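import Groth.Statements.S12246
import Groth.Agent.Lib.T2H2ShrinkC4

set_option autoImplicit false
universe u
open FlatMor

namespace Groth.Agent.S12246

open TensorProduct in
/-- All schemes are affine and standard opens are rendered as localizations away from one element. Let R
→ S be of finite type, N a finite S-module, p ⊆ R and q ⊆ S primes, and (𝒟, 𝒜) a complete dévissage
of N/S/R at q in the prelude's algebraic form (rings A_i and smooth R-algebras B_i, modules M_i,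
maps α_i, points qA_i, qB_i and relative dimensions d_i). Then for every u ∈ S outside q there is a
standard shrinking inside D(u): g ∉ p and hX ∉ q with u invertible in S[1/hX], compatible structures
making S[1/hX] and N[1/hX] live over R[1/g], and a complete dévissage (𝒟', 𝒜') of N[1/hX] over
S[1/hX] relative to R[1/g] at the extended prime of q, of the same length, ranks and relative
dimensions, whose rings A'_i, B'_i are localizations of A_i, B_i away from single elements a_i ∉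
qA_i, b_i ∉ qB_i (as algebras compatible with R → R[1/g], with B_i → A_i, B_i → A_{i+1}, S → A_0 and
S[1/hX] → A'_0), whose modules M'_i are the corresponding localizations of M_i (compatibly with N ≅
M_0), whose points lie over the qA_i, qB_i, and with the image of α_i generating the image of α'_i.
(The cokernel identifications of 𝒟' are not pinned.) -/
theorem result
    (R S : Type u) [CommRing R] [CommRing S] [Algebra R S] [Algebra.FiniteType R S]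
    (N : Type u) [AddCommGroup N] [Module S N] [Module.Finite S N]
    (p : Ideal R) [p.IsPrime] (q : Ideal S) [q.IsPrime] (𝒟 : FlatCA.CompleteDevissage R S N p)
    (𝒜 : FlatCA.CompleteDevissageAt R S N p q 𝒟)
    (u : S) (hu : u ∉ q) :
    ∃ (g : R) (hX : S), g ∉ p ∧ hX ∉ q ∧
      IsUnit (algebraMap S (Localization.Away hX) u) ∧
      ∃ (_ : Algebra (Localization.Away g) (Localization.Away hX)) (_ : IsScalarTower R (Localization.Away g) (Localization.Away hX))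
        (_ : Module (Localization.Away g) (LocalizedModule (Submonoid.powers hX) N)) (_ : IsScalarTower (Localization.Away g) (Localization.Away hX) (LocalizedModule (Submonoid.powers hX) N))
        (_ : (Ideal.map (algebraMap R (Localization.Away g)) p).IsPrime) (_ : (Ideal.map (algebraMap S (Localization.Away hX)) q).IsPrime)
        (𝒟' : FlatCA.CompleteDevissage (Localization.Away g) (Localization.Away hX) (LocalizedModule (Submonoid.powers hX) N) (Ideal.map (algebraMap R (Localization.Away g)) p))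
        (𝒜' : FlatCA.CompleteDevissageAt (Localization.Away g) (Localization.Away hX) (LocalizedModule (Submonoid.powers hX) N) (Ideal.map (algebraMap R (Localization.Away g)) p) (Ideal.map (algebraMap S (Localization.Away hX)) q) 𝒟')
        (a : ∀ i : Fin 𝒟.n, 𝒟.A i) (b : ∀ i : Fin 𝒟.n, 𝒟.B i)
      (aA : ∀ i : Fin 𝒟.n, Algebra (𝒟.A i) (𝒟'.A i)) (rA : ∀ i : Fin 𝒟.n, Algebra R (𝒟'.A i))
      (_t1 : ∀ i : Fin 𝒟.n, IsScalarTower R (Localization.Away g) (𝒟'.A i)) (_t2 : ∀ i : Fin 𝒟.n, IsScalarTower R (𝒟.A i) (𝒟'.A i))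
      (aB : ∀ i : Fin 𝒟.n, Algebra (𝒟.B i) (𝒟'.B i)) (rB : ∀ i : Fin 𝒟.n, Algebra R (𝒟'.B i))
      (_t3 : ∀ i : Fin 𝒟.n, IsScalarTower R (Localization.Away g) (𝒟'.B i)) (_t4 : ∀ i : Fin 𝒟.n, IsScalarTower R (𝒟.B i) (𝒟'.B i))
      (bA : ∀ i : Fin 𝒟.n, Algebra (𝒟.B i) (𝒟'.A i)) (_t5 : ∀ i : Fin 𝒟.n, IsScalarTower (𝒟.B i) (𝒟.A i) (𝒟'.A i))
      (_t6 : ∀ i : Fin 𝒟.n, IsScalarTower (𝒟.B i) (𝒟'.B i) (𝒟'.A i))
      (bA' : ∀ i : Fin 𝒟.n, Algebra (𝒟.B i) (𝒟'.A (i + 1)))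
      (_t7 : ∀ i : Fin 𝒟.n, IsScalarTower (𝒟.B i) (𝒟'.B i) (𝒟'.A (i + 1)))
      (sA : Algebra S (𝒟'.A 0)) (_t8 : IsScalarTower S (Localization.Away hX) (𝒟'.A 0))
      (mA : ∀ i : Fin 𝒟.n, Module (𝒟.A i) (𝒟'.M i)) (_t9 : ∀ i : Fin 𝒟.n, IsScalarTower (𝒟.A i) (𝒟'.A i) (𝒟'.M i))
      (gM : ∀ i : Fin 𝒟.n, 𝒟.M i →ₗ[𝒟.A i] 𝒟'.M i),
        𝒟'.n = 𝒟.n ∧ 𝒟'.r = 𝒟.r ∧ 𝒜'.d = 𝒜.d ∧
        (letI := aA ⟨0, 𝒟.pos⟩; IsScalarTower S (𝒟.A 0) (𝒟'.A 0)) ∧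
      (∀ x : N, 𝒟'.isoN (LocalizedModule.mkLinearMap (Submonoid.powers hX) N x) = gM ⟨0, 𝒟.pos⟩ (𝒟.isoN x)) ∧
      (∀ (i : Fin 𝒟.n) (h : (i : ℕ) + 1 < 𝒟.n),
        letI := aA ⟨i + 1, h⟩; IsScalarTower (𝒟.B i) (𝒟.A (i + 1)) (𝒟'.A (i + 1))) ∧
        ∀ i : Fin 𝒟.n,
          a i ∉ 𝒜.qA i ∧ b i ∉ 𝒜.qB i ∧
          IsLocalization.Away (a i) (𝒟'.A i) ∧ IsLocalization.Away (b i) (𝒟'.B i) ∧
          IsLocalizedModule (Submonoid.powers (a i)) (gM i) ∧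
          (𝒜'.qA i).LiesOver (𝒜.qA i) ∧ (𝒜'.qB i).LiesOver (𝒜.qB i) ∧
          LinearMap.range (𝒟'.α i) =
            Submodule.span (𝒟'.B i) ((gM i) '' (LinearMap.range (𝒟.α i) : Set (𝒟.M i))) := by
  classical
  obtain ⟨e, he1, he2, he3⟩ := Groth.Agent.Lib.T2H2.ShrinkC.exists_topdown 𝒟 𝒜 u hu
  obtain ⟨g, x, c, H, hux, -⟩ := Groth.Agent.Lib.T2H2.ShrinkC.exists_hyp 𝒟 𝒜 u hu e he1 he2 he3
  exact ⟨g, Groth.Agent.Lib.T2H2.ShrinkC.hXe g x, H.hg, H.hXq,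
    IsLocalization.Away.isUnit_of_dvd _ hux,
    Groth.Agent.Lib.T2H2.ShrinkC.algRlSl g x, Groth.Agent.Lib.T2H2.ShrinkC.towerRRlSl g x,
    Groth.Agent.Lib.T2H2.ShrinkC.modRlNl g x, Groth.Agent.Lib.T2H2.ShrinkC.towerRlSlNl g x,
    Groth.Agent.Lib.T2H2.ShrinkC.isPrime_p' H, Groth.Agent.Lib.T2H2.ShrinkC.isPrime_q' H,
    Groth.Agent.Lib.T2H2.ShrinkC.shrinkDev H, Groth.Agent.Lib.T2H2.ShrinkC.shrinkAt H,
    fun i => Groth.Agent.Lib.T2H2.ShrinkC.ae 𝒟 g x c i,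
    fun i => Groth.Agent.Lib.T2H2.ShrinkC.be 𝒟 g c i,
    fun i => Groth.Agent.Lib.T2H2.ShrinkC.algAAq 𝒟 g x c i.2,
    fun i => (inferInstance : Algebra R (Groth.Agent.Lib.T2H2.ShrinkC.Aq 𝒟 g x c i)),
    fun i => (inferInstance : IsScalarTower R (Groth.Agent.Lib.T2H2.ShrinkC.Rl g)
      (Groth.Agent.Lib.T2H2.ShrinkC.Aq 𝒟 g x c i)),
    fun i => Groth.Agent.Lib.T2H2.ShrinkC.towerRAAq 𝒟 g x c i.2,
    fun i => Groth.Agent.Lib.T2H2.ShrinkC.algBBq 𝒟 g c i.2,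
    fun i => (inferInstance : Algebra R (Groth.Agent.Lib.T2H2.ShrinkC.Bq 𝒟 g c i)),
    fun i => (inferInstance : IsScalarTower R (Groth.Agent.Lib.T2H2.ShrinkC.Rl g)
      (Groth.Agent.Lib.T2H2.ShrinkC.Bq 𝒟 g c i)),
    fun i => Groth.Agent.Lib.T2H2.ShrinkC.towerRBBq 𝒟 g c i.2,
    fun i => Groth.Agent.Lib.T2H2.ShrinkC.algBAq 𝒟 g x c i.2,
    fun i => Groth.Agent.Lib.T2H2.ShrinkC.towerBAAq 𝒟 g x c i.2,
    fun i => Groth.Agent.Lib.T2H2.ShrinkC.towerBBqAq 𝒟 g x c i.2,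
    fun i => Groth.Agent.Lib.T2H2.ShrinkC.algBAq'' 𝒟 g x c i.2,
    fun i => Groth.Agent.Lib.T2H2.ShrinkC.towerBBqAq'' 𝒟 g x c i.2,
    Groth.Agent.Lib.T2H2.ShrinkC.algSAq 𝒟 g x c,
    Groth.Agent.Lib.T2H2.ShrinkC.towerSSlAq 𝒟 g x c,
    fun i => Groth.Agent.Lib.T2H2.ShrinkC.modAMq 𝒟 g x c i.2,
    fun i => Groth.Agent.Lib.T2H2.ShrinkC.towerAAqMq 𝒟 g x c i.2,
    fun i => Groth.Agent.Lib.T2H2.ShrinkC.gMq 𝒟 g x c i.2,
    rfl, rfl, rfl, Groth.Agent.Lib.T2H2.ShrinkC.towerSAAq 𝒟 g x c,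
    fun y => Groth.Agent.Lib.T2H2.ShrinkC.shrinkDev_isoN H y,
    fun i h => Groth.Agent.Lib.T2H2.ShrinkC.towerBAAq'' 𝒟 g x c h,
    fun i => ⟨Groth.Agent.Lib.T2H2.ShrinkC.ae_notMem H i.2, H.hb i,
      Groth.Agent.Lib.T2H2.ShrinkC.isLocalization_Aq 𝒟 g x c i.2,
      Groth.Agent.Lib.T2H2.ShrinkC.isLocalization_Bq 𝒟 g c i.2,
      Groth.Agent.Lib.T2H2.ShrinkC.isLocalizedModule_gMq 𝒟 g x c i.2,
      Groth.Agent.Lib.T2H2.ShrinkC.liesOver_qAq_qA H i.2,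
      Groth.Agent.Lib.T2H2.ShrinkC.liesOver_qBq_qB H i.2,
      Groth.Agent.Lib.T2H2.ShrinkC.range_αq i.2⟩⟩

end Groth.Agent.S12246
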