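import Groth.Statements.S1232
import Groth.Agent.Lib.T2H2WeakAssBC

set_option autoImplicit false
universe u
open FlatMor

namespace Groth.Agent.S1232

open TensorProduct Groth.Agent.Helper13WeakAss Groth.Agent.Lib.T2H2.WeakAssBC

/-- flatness: the annihilator of `1 ⊗ m` in `B` is contained in every ideal containing the
extension of the annihilator of `m`. -/
theorem ann_tmul_le {A B : Type u} [CommRing A] [CommRing B] [Algebra A B] [Module.Flat A B]
    {M : Type u} [AddCommGroup M] [Module A M] (m : M) (t : Ideal B)
    (ht : (Submodule.span A {m}).annihilator ≤ t.comap (algebraMap A B)) (b : B)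
    (hb : b • ((1 : B) ⊗ₜ[A] m) = 0) : b ∈ t := by
  set I : Ideal A := (Submodule.span A {m}).annihilator with hI
  -- the injective map `A ⧸ I → M`
  let f : (A ⧸ I) →ₗ[A] M := Submodule.liftQ I (LinearMap.toSpanSingleton A M m) (by
    intro a ha
    rw [LinearMap.mem_ker, LinearMap.toSpanSingleton_apply]
    exact (mem_ann_iff m a).1 ha)
  have hf : Function.Injective f := by
    rw [← LinearMap.ker_eq_bot]
    apply Submodule.ker_liftQ_eq_bot
    intro a ha
    rw [LinearMap.mem_ker, LinearMap.toSpanSingleton_apply] at ha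
    exact (mem_ann_iff m a).2 ha
  have hinj := Module.Flat.lTensor_preserves_injective_linearMap (M := B) f hf
  have h1 : (f.lTensor B) (b ⊗ₜ[A] (Submodule.Quotient.mk (1 : A))) = 0 := by
    rw [LinearMap.lTensor_tmul]
    have : f (Submodule.Quotient.mk (1 : A)) = m := by
      change (Submodule.liftQ I (LinearMap.toSpanSingleton A M m) _) (Submodule.Quotient.mk 1) = m
      rw [Submodule.liftQ_apply, LinearMap.toSpanSingleton_apply, one_smul]
    rw [this]
    rw [TensorProduct.smul_tmul', smul_eq_mul, mul_one] at hb
    exact hb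
  have h2 : b ⊗ₜ[A] (Submodule.Quotient.mk (1 : A) : A ⧸ I) = 0 := hinj (by rw [h1, map_zero])
  have h3 := congrArg (TensorProduct.tensorQuotEquivQuotSMul B I) h2
  rw [map_zero] at h3
  have h4 : (TensorProduct.tensorQuotEquivQuotSMul B I)
      (b ⊗ₜ[A] (Submodule.Quotient.mk (1 : A) : A ⧸ I)) = Submodule.Quotient.mk b := by
    have := TensorProduct.tensorQuotEquivQuotSMul_tmul_mk (M := B) I b (1 : A)
    simpa using this
  rw [h4, Submodule.Quotient.mk_eq_zero] at h3
  -- `I • ⊤ ≤ t`
  have hle : (I • (⊤ : Submodule A B)) ≤ t.restrictScalars A := by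
    rw [Submodule.smul_le]
    intro a ha c _
    have : algebraMap A B a ∈ t := ht ha
    rw [Algebra.smul_def]
    exact t.mul_mem_right c this
  exact hle h3

open TensorProduct in
/-- Let A → B be a finite flat ring map, M an A-module and t a prime of B lying over the prime p of A.
Then t is a weakly associated prime of the B-module B ⊗_A M if and only if p is a weakly associated
prime of M. -/
theorem result {A B : Type u} [CommRing A] [CommRing B] [Algebra A B] [Module.Finite A B] [Module.Flat A B]
    (M : Type u) [AddCommGroup M] [Module A M] (p : Ideal A) [p.IsPrime] (t : Ideal B) [t.IsPrime] [t.LiesOver p] :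
    t ∈ FlatCA.weakAss B (B ⊗[A] M) ↔ p ∈ FlatCA.weakAss A M := by
  have hpt : t.comap (algebraMap A B) = p := (Ideal.LiesOver.over (p := p) (P := t)).symm
  constructor
  · intro ht
    have h1 := comap_mem_weakAss_of_finite (A := A) (N := B ⊗[A] M) t ht
    rw [hpt] at h1
    exact mem_weakAss_of_tensor M p h1
  · rintro ⟨m, hm⟩
    refine ⟨(1 : B) ⊗ₜ[A] m, ⟨inferInstance, ?_⟩, ?_⟩
    · intro b hb
      refine ann_tmul_le m t ?_ b ((mem_ann_iff _ b).1 hb)
      rw [hpt]
      exact hm.1.2
    · rintro t' ⟨ht'prime, ht'le⟩ ht't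
      have h1 : (Submodule.span A {m}).annihilator ≤ t'.comap (algebraMap A B) := by
        intro a ha
        apply ht'le
        rw [mem_ann_iff, algebraMap_smul, ← TensorProduct.tmul_smul, (mem_ann_iff m a).1 ha,
          TensorProduct.tmul_zero]
      have h2 : t'.comap (algebraMap A B) ≤ p := by
        rw [← hpt]
        exact Ideal.comap_mono ht't
      have h3 : p ≤ t'.comap (algebraMap A B) :=
        hm.2 ⟨Ideal.comap_isPrime _ t', h1⟩ h2
      by_contra hne
      have hlt : t' < t := lt_of_le_of_ne ht't (fun h => hne (h ▸ le_refl _))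
      have := Ideal.IsIntegral.comap_lt_comap (R := A) hlt
      rw [hpt] at this
      exact absurd (lt_of_le_of_lt h3 this) (lt_irrefl _)

end Groth.Agent.S1232
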