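import Groth.Statements.S1233
import Groth.Agent.Lib.T2H2WeakAssLoc
import Groth.Agent.S1232

set_option autoImplicit false
universe u
open FlatMor

namespace Groth.Agent.S1233

open TensorProduct Groth.Agent.Helper13WeakAss Groth.Agent.Lib.T2H2.WeakAssLoc

/-- the forward direction: étale base change creates no new weakly associated primes below. -/
theorem forward {A B : Type u} [CommRing A] [CommRing B] [Algebra A B] [Algebra.Etale A B]
    (M : Type u) [AddCommGroup M] [Module A M] (p : Ideal A) [p.IsPrime] (u : Ideal B) [u.IsPrime]
    [u.LiesOver p] (hu : u ∈ FlatCA.weakAss B (B ⊗[A] M)) : p ∈ FlatCA.weakAss A M := by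
  classical
  have hpu : u.comap (algebraMap A B) = p := (Ideal.LiesOver.over (p := p) (P := u)).symm
  obtain ⟨f, hfu, hstd⟩ := Algebra.IsEtaleAt.exists_isStandardEtale (R := A) u
  -- step 1: pass to `D = B_f`
  have hdisj : Disjoint ((Submonoid.powers f : Submonoid B) : Set B) (u : Set B) :=
    (Ideal.disjoint_powers_iff_notMem_of_isPrime _).mpr hfu
  have huDprime : (u.map (algebraMap B (Localization.Away f))).IsPrime :=
    IsLocalization.isPrime_of_isPrime_disjoint (Submonoid.powers f) _ u inferInstance hdisj
  have huD : (u.map (algebraMap B (Localization.Away f))).comap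
      (algebraMap B (Localization.Away f)) = u :=
    IsLocalization.under_map_of_isPrime_disjoint (Submonoid.powers f) _ inferInstance hdisj
  have h1 : u.map (algebraMap B (Localization.Away f)) ∈
      FlatCA.weakAss (Localization.Away f) (Localization.Away f ⊗[A] M) := by
    rw [mem_weakAss_iff_comap (Submonoid.powers f)
      (tensMap (A := A) (C := B) (D := Localization.Away f) M), huD]
    exact hu
  -- step 2: the standard étale presentation
  obtain ⟨P⟩ := hstd.nonempty_standardEtalePresentation
  let ε : Localization.Away f ≃ₐ[A] Localization.Away (AdjoinRoot.mk P.f P.g) :=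
    P.equivRing.trans P.P.equivAwayAdjoinRoot
  letI algCD : Algebra (AdjoinRoot P.f) (Localization.Away f) :=
    ((ε.symm : Localization.Away (AdjoinRoot.mk P.f P.g) →+* Localization.Away f).comp
      (algebraMap (AdjoinRoot P.f) (Localization.Away (AdjoinRoot.mk P.f P.g)))).toAlgebra
  have tower : IsScalarTower A (AdjoinRoot P.f) (Localization.Away f) := by
    refine IsScalarTower.of_algebraMap_eq (fun a => ?_)
    change algebraMap A (Localization.Away f) a = ε.symm (algebraMap (AdjoinRoot P.f) _
      (algebraMap A (AdjoinRoot P.f) a))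
    rw [← IsScalarTower.algebraMap_apply A (AdjoinRoot P.f)
      (Localization.Away (AdjoinRoot.mk P.f P.g)), AlgEquiv.commutes]
  let ε' : Localization.Away (AdjoinRoot.mk P.f P.g) ≃ₐ[AdjoinRoot P.f] Localization.Away f :=
    { ε.symm.toRingEquiv with commutes' := fun c => rfl }
  have hloc : IsLocalization (Submonoid.powers (AdjoinRoot.mk P.f P.g)) (Localization.Away f) :=
    IsLocalization.isLocalization_of_algEquiv _ ε'
  -- step 3: descend to `C = A[X]/(F)`
  have h3 := (mem_weakAss_iff_comap (Submonoid.powers (AdjoinRoot.mk P.f P.g))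
    (tensMap (A := A) (C := AdjoinRoot P.f) (D := Localization.Away f) M)
    (u.map (algebraMap B (Localization.Away f)))).1 h1
  -- steps 4, 5
  have hfin : Module.Finite A (AdjoinRoot P.f) := P.monic_f.finite_adjoinRoot
  have hfree : Module.Free A (AdjoinRoot P.f) := P.monic_f.free_adjoinRoot
  have hover : ((u.map (algebraMap B (Localization.Away f))).comap
      (algebraMap (AdjoinRoot P.f) (Localization.Away f))).LiesOver p := by
    refine ⟨?_⟩
    rw [Ideal.under_def, Ideal.comap_comap, ← IsScalarTower.algebraMap_eq,
      IsScalarTower.algebraMap_eq A B (Localization.Away f), ← Ideal.comap_comap, huD, hpu]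
  exact (Groth.Agent.S1232.result M p _).1 h3

open TensorProduct in
/-- Let A → B be an étale ring map, M an A-module and u a prime of B lying over the prime p of A. Then u
is a weakly associated prime of the B-module B ⊗_A M if and only if p is a weakly associated prime
of M. -/
theorem result {A B : Type u} [CommRing A] [CommRing B] [Algebra A B] [Algebra.Etale A B]
    (M : Type u) [AddCommGroup M] [Module A M] (p : Ideal A) [p.IsPrime] (u : Ideal B) [u.IsPrime] [u.LiesOver p] :
    u ∈ FlatCA.weakAss B (B ⊗[A] M) ↔ p ∈ FlatCA.weakAss A M := by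
  have hpt : u.comap (algebraMap A B) = p := (Ideal.LiesOver.over (p := p) (P := u)).symm
  constructor
  · exact forward M p u
  · rintro ⟨m, hm⟩
    refine ⟨(1 : B) ⊗ₜ[A] m, ⟨inferInstance, ?_⟩, ?_⟩
    · intro b hb
      refine Groth.Agent.S1232.ann_tmul_le m u ?_ b ((mem_ann_iff _ b).1 hb)
      rw [hpt]
      exact hm.1.2
    · rintro t' ⟨ht'prime, ht'le⟩ ht't
      have h1 : (Submodule.span A {m}).annihilator ≤ t'.comap (algebraMap A B) := by
        intro a ha
        apply ht'le
        rw [mem_ann_iff, algebraMap_smul, ← TensorProduct.tmul_smul, (mem_ann_iff m a).1 ha,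
          TensorProduct.tmul_zero]
      have h2 : t'.comap (algebraMap A B) ≤ p := by
        rw [← hpt]
        exact Ideal.comap_mono ht't
      have h3 : p ≤ t'.comap (algebraMap A B) :=
        hm.2 ⟨Ideal.comap_isPrime _ t', h1⟩ h2
      have h4 : t'.under A = u.under A := by
        rw [Ideal.under_def, Ideal.under_def, hpt]
        exact le_antisymm h2 h3
      have := Algebra.QuasiFinite.eq_of_le_of_under_eq (R := A) t' u ht't h4
      rw [this]

end Groth.Agent.S1233
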