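import Groth.Statements.S1234
import Groth.Agent.S1233
import Groth.Agent.S9589
import Groth.Agent.Lib.Helper3IndEtHz
import Groth.Agent.Lib.Helper3IndEtComp
import Groth.Agent.Lib.Helper3IndEtFlat
import Groth.Agent.Lib.Helper2Hensel2
import Groth.Agent.Lib.Helper2CoeffField

set_option autoImplicit false
universe u
open FlatMor

namespace Groth.Agent.S1234

open TensorProduct IsLocalRing Groth.Agent.Helper13WeakAss Groth.Agent.Lib.T2H2.WeakAssLoc
  Groth.Agent.Lib.Helper3.IndEt

section Flat

variable {A E A' : Type u} [CommRing A] [CommRing E] [CommRing A'] [Algebra A E] [Algebra A A']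
  [Algebra E A'] [IsScalarTower A E A'] (N : Type u) [AddCommGroup N] [Module A N]

theorem cancelBaseChange_one_tmul (x : E ⊗[A] N) :
    TensorProduct.AlgebraTensorModule.cancelBaseChange A E A' A' N ((1 : A') ⊗ₜ[E] x) =
      tensMap (A := A) (D := A') N x := by
  induction x using TensorProduct.induction_on with
  | zero => simp
  | tmul c m =>
    rw [TensorProduct.AlgebraTensorModule.cancelBaseChange_tmul, tensMap_tmul, Algebra.smul_def,
      mul_one]
  | add x y hx hy =>
    rw [TensorProduct.tmul_add, map_add, map_add, hx, hy]

/-- flatness: an element of `E ⊗ N` dying in `A' ⊗ N` is killed by an element outside any given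
proper contracted ideal. -/
theorem exists_smul_eq_zero_of_tensMap_eq_zero [Module.Flat E A'] (Q : Ideal A') (hQ : Q ≠ ⊤)
    (w : E ⊗[A] N) (hw : tensMap (A := A) (D := A') N w = 0) :
    ∃ s : E, s ∉ Q.comap (algebraMap E A') ∧ s • w = 0 := by
  by_contra hcon
  push Not at hcon
  have hle : (Submodule.span E {w}).annihilator ≤ Q.comap (algebraMap E A') := by
    intro s hs
    by_contra hsQ
    exact hcon s hsQ ((mem_ann_iff w s).1 hs)
  have h1 : ((1 : A') ⊗ₜ[E] w) = 0 := by
    apply (TensorProduct.AlgebraTensorModule.cancelBaseChange A E A' A' N).injective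
    rw [cancelBaseChange_one_tmul, hw, map_zero]
  have := Groth.Agent.S1232.ann_tmul_le (A := E) (B := A') w Q hle 1 (by rw [h1, smul_zero])
  exact hQ ((Ideal.eq_top_iff_one Q).2 this)

end Flat

/-- weakly associated primes along a local ind-étale map whose closed fibre is a point. -/
theorem maximalIdeal_mem_weakAss_iff {A A' : Type u} [CommRing A] [IsLocalRing A] [CommRing A']
    [IsLocalRing A'] [Algebra A A'] [IsLocalHom (algebraMap A A')]
    (hind : EtPBC.IsIndEtale A A')
    (hmax : (maximalIdeal A).map (algebraMap A A') = maximalIdeal A')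
    (N : Type u) [AddCommGroup N] [Module A N] :
    maximalIdeal A' ∈ FlatCA.weakAss A' (A' ⊗[A] N) ↔ maximalIdeal A ∈ FlatCA.weakAss A N := by
  classical
  have hfac : Obj.Factor A A' := factor_of_isIndEtale hind
  have hflat : Module.Flat A A' := flat_of_factor' hfac
  have hcomap : (maximalIdeal A').comap (algebraMap A A') = maximalIdeal A :=
    ((IsLocalRing.local_hom_TFAE (algebraMap A A')).out 0 4).mp ‹IsLocalHom (algebraMap A A')›
  constructor
  · rintro ⟨z, hz⟩
    obtain ⟨S, rfl⟩ := TensorProduct.exists_finset z
    -- factor the coefficients through an étale algebra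
    let ψ : MvPolynomial S A →ₐ[A] A' := MvPolynomial.aeval (fun i : S => i.1.1)
    obtain ⟨E, _, _, _, f, g, hfg⟩ := hfac (MvPolynomial S A) ψ
    letI algEA' : Algebra E A' := g.toRingHom.toAlgebra
    have tower : IsScalarTower A E A' :=
      IsScalarTower.of_algebraMap_eq (fun a => (g.commutes a).symm)
    have hgalg : ∀ e : E, algebraMap E A' e = g e := fun e => rfl
    -- `A'` is flat over `E`
    have hindE : EtPBC.IsIndEtale E A' :=
      Groth.Agent.S0735.result A E A' (isIndEtale_of_etale A E) hind
    have hflatE : Module.Flat E A' := flat_of_factor' (factor_of_isIndEtale hindE)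
    set zE : E ⊗[A] N := ∑ i ∈ S.attach, f (MvPolynomial.X i) ⊗ₜ[A] i.1.2 with hzE
    have hzEz : tensMap (A := A) (D := A') N zE = ∑ i ∈ S, i.1 ⊗ₜ[A] i.2 := by
      rw [hzE, map_sum, ← Finset.sum_attach S]
      refine Finset.sum_congr rfl (fun i _ => ?_)
      rw [tensMap_tmul, hgalg]
      have : g (f (MvPolynomial.X i)) = ψ (MvPolynomial.X i) := by
        rw [← hfg]; rfl
      rw [this]
      simp [ψ]
    set z := ∑ i ∈ S, i.1 ⊗ₜ[A] i.2 with hzdef
    set q : Ideal E := (maximalIdeal A').comap (algebraMap E A') with hq
    have hqprime : q.IsPrime := Ideal.comap_isPrime _ _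
    have hqA : q.comap (algebraMap A E) = maximalIdeal A := by
      rw [hq, Ideal.comap_comap, ← IsScalarTower.algebraMap_eq, hcomap]
    have hqover : q.LiesOver (maximalIdeal A) := ⟨hqA.symm⟩
    have hmem : q ∈ FlatCA.weakAss E (E ⊗[A] N) := by
      refine ⟨zE, ⟨hqprime, ?_⟩, ?_⟩
      · intro e he
        apply hz.1.2
        rw [mem_ann_iff, ← hzEz, algebraMap_smul, ← map_smul, (mem_ann_iff zE e).1 he, map_zero]
      · rintro q' ⟨hq'prime, hq'le⟩ hq'q
        have hmq' : maximalIdeal A ≤ q'.comap (algebraMap A E) := by
          intro a ha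
          have ha' : algebraMap A A' a ∈ maximalIdeal A' := by
            rw [← hcomap] at ha; exact ha
          obtain ⟨s', hs', k, hk⟩ := exists_notMem_mul_pow_mem (R := A') hz ha'
          have hunit : IsUnit s' := by
            by_contra hnu
            exact hs' ((IsLocalRing.mem_maximalIdeal s').2 hnu)
          have hk' : (algebraMap A A' a) ^ k • z = 0 := by
            have := (mem_ann_iff z _).1 hk
            rw [mul_smul] at this
            exact (hunit.smul_left_cancel).1 (by rw [this, smul_zero])
          have hw : tensMap (A := A) (D := A') N (algebraMap A E (a ^ k) • zE) = 0 := by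
            rw [map_smul, hzEz, ← algebraMap_smul A' (algebraMap A E (a ^ k)) z,
              ← IsScalarTower.algebraMap_apply, map_pow]
            exact hk'
          obtain ⟨s, hs, hsw⟩ := exists_smul_eq_zero_of_tensMap_eq_zero N (maximalIdeal A')
            (IsLocalRing.maximalIdeal.isMaximal A').ne_top (algebraMap A E (a ^ k) • zE) hw
          have h1 : s * algebraMap A E (a ^ k) ∈ q' := by
            apply hq'le
            rw [mem_ann_iff, mul_smul]
            exact hsw
          have hsq' : s ∉ q' := fun h => hs (hq'q h)
          rcases hq'prime.mem_or_mem h1 with h | h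
          · exact absurd h hsq'
          · rw [map_pow] at h
            exact hq'prime.mem_of_pow_mem k h
        have h4 : q'.under A = q.under A := by
          rw [Ideal.under_def, Ideal.under_def, hqA]
          exact le_antisymm (hqA ▸ Ideal.comap_mono hq'q) hmq'
        have := Algebra.QuasiFinite.eq_of_le_of_under_eq (R := A) q' q hq'q h4
        rw [this]
    exact (Groth.Agent.S1233.result N (maximalIdeal A) q).1 hmem
  · rintro ⟨x, hx⟩
    refine ⟨(1 : A') ⊗ₜ[A] x, ⟨inferInstance, ?_⟩, ?_⟩
    · intro b hb
      refine Groth.Agent.S1232.ann_tmul_le x (maximalIdeal A') ?_ b ((mem_ann_iff _ b).1 hb)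
      rw [hcomap]
      exact hx.1.2
    · rintro P ⟨hPprime, hPle⟩ hPm
      have h1 : (Submodule.span A {x}).annihilator ≤ P.comap (algebraMap A A') := by
        intro a ha
        apply hPle
        rw [mem_ann_iff, algebraMap_smul, ← TensorProduct.tmul_smul, (mem_ann_iff x a).1 ha,
          TensorProduct.tmul_zero]
      have h2 : P.comap (algebraMap A A') ≤ maximalIdeal A := by
        rw [← hcomap]
        exact Ideal.comap_mono hPm
      have h3 : maximalIdeal A ≤ P.comap (algebraMap A A') :=
        hx.2 ⟨Ideal.comap_isPrime _ P, h1⟩ h2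
      rw [← hmax]
      exact Ideal.map_le_iff_le_comap.2 h3

/-- the maximal ideal of a henselization is generated by the maximal ideal of the base. -/
theorem henselization_map_maximalIdeal (R : Type u) [CommRing R] [IsLocalRing R] (S : Type u)
    [CommRing S] [IsLocalRing S] [Algebra R S] [IsLocalHom (algebraMap R S)]
    [Hensel.IsHenselization R S] :
    (maximalIdeal R).map (algebraMap R S) = maximalIdeal S := by
  have hbij := Groth.Agent.Lib.Helper2.henselization_quotient_pow_succ_bijective R S 0
  rw [zero_add, pow_one] at hbij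
  set I : Ideal S := (maximalIdeal R).map (algebraMap R S) with hI
  have hIle : I ≤ maximalIdeal S := IsLocalRing.map_maximalIdeal_le (algebraMap R S)
  have hIne : I ≠ ⊤ := fun h => (maximalIdeal.isMaximal S).ne_top (top_le_iff.mp (h ▸ hIle))
  -- `S ⧸ I` is a field, being isomorphic to the residue field of `R`
  have hfield : IsField (S ⧸ I) := by
    let e : (R ⧸ maximalIdeal R) ≃+* (S ⧸ I) := RingEquiv.ofBijective _ hbij
    exact e.symm.toMulEquiv.isField (Ideal.Quotient.field (maximalIdeal R)).toIsField
  have hImax : I.IsMaximal := Ideal.Quotient.maximal_of_isField I hfield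
  exact (IsLocalRing.eq_maximalIdeal hImax)

open TensorProduct IsLocalRing in
/-- Ring form, S = Spec A: let M be an A-module and p a prime of A; let Ah be a henselization and Ash a
strict henselization of the local ring A_p. The following are equivalent: p is a weakly associated
prime of M; the maximal ideal of A_p is a weakly associated prime of M_p; the maximal ideal of Ah is
a weakly associated prime of Ah ⊗ M_p; the maximal ideal of Ash is a weakly associated prime of Ash
⊗ M_p. -/
theorem result {A : Type u} [CommRing A] (M : Type u) [AddCommGroup M] [Module A M] (p : Ideal A) [p.IsPrime]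
    (Ah Ash : Type u) [CommRing Ah] [IsLocalRing Ah] [CommRing Ash] [IsLocalRing Ash]
    [Algebra (Localization.AtPrime p) Ah] [IsLocalHom (algebraMap (Localization.AtPrime p) Ah)] [Hensel.IsHenselization (Localization.AtPrime p) Ah]
    [Algebra (Localization.AtPrime p) Ash] [IsLocalHom (algebraMap (Localization.AtPrime p) Ash)] [Hensel.IsStrictHenselization (Localization.AtPrime p) Ash] :
    [p ∈ FlatCA.weakAss A M,
     maximalIdeal (Localization.AtPrime p) ∈ FlatCA.weakAss (Localization.AtPrime p) (LocalizedModule p.primeCompl M),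
     maximalIdeal Ah ∈ FlatCA.weakAss Ah (Ah ⊗[Localization.AtPrime p] LocalizedModule p.primeCompl M),
     maximalIdeal Ash ∈ FlatCA.weakAss Ash (Ash ⊗[Localization.AtPrime p] LocalizedModule p.primeCompl M)].TFAE := by
  have hAh : EtPBC.IsIndEtale (Localization.AtPrime p) Ah :=
    isIndEtale_of_isHenselization (Localization.AtPrime p) Ah
  have hAsh : EtPBC.IsIndEtale (Localization.AtPrime p) Ash :=
    isIndEtale_of_isStrictHenselization (Localization.AtPrime p) Ash
  have hdisj : Disjoint ((p.primeCompl : Submonoid A) : Set A) (p : Set A) := by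
    rw [Set.disjoint_left]
    intro a ha hap
    exact ha hap
  have h12 := Groth.Agent.S9589.result p.primeCompl M p hdisj
  rw [Localization.AtPrime.map_eq_maximalIdeal] at h12
  have h23 := maximalIdeal_mem_weakAss_iff hAh
    (henselization_map_maximalIdeal (Localization.AtPrime p) Ah) (LocalizedModule p.primeCompl M)
  have h24 := maximalIdeal_mem_weakAss_iff hAsh
    (Groth.Agent.Lib.Helper2.strictHenselization_map_maximalIdeal (R := Localization.AtPrime p)
      (S := Ash)) (LocalizedModule p.primeCompl M)
  tfae_have 1 ↔ 2 := h12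
  tfae_have 3 ↔ 2 := h23
  tfae_have 4 ↔ 2 := h24
  tfae_finish

end Groth.Agent.S1234
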