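import Groth.Statements.S12428
import Groth.Agent.Lib.T2H7ObsFinIdx

set_option autoImplicit false
universe u
open CategoryTheory MonoidalCategory CartesianMonoidalCategory MonObj GrpObj AlgebraicGeometry
open scoped TensorProduct
open AGF

namespace Groth.Agent.S12428

/-- Let k be an algebraically closed field, G a linear algebraic group over k (an affine smooth group
scheme over k), i : H → G a closed subgroup (smooth closed subgroup scheme), j : G° → G the identity
component (a connected open subgroup scheme), and K = H ∩ G° the intersection subgroup scheme, with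
homomorphisms a : K → H and b : K → G° whose underlying square of schemes is a pullback of i and j.
Then H is observable in G if and only if K is observable in G°. -/
theorem result (k : Type u) [Field k] [IsAlgClosed k]
    (G : Over (Spec (CommRingCat.of k))) [GrpObj G] [IsAffine G.left] [Smooth G.hom]
    (H : Over (Spec (CommRingCat.of k))) [GrpObj H] [Smooth H.hom] (i : H ⟶ G) [IsMonHom i]
    [IsClosedImmersion i.left]
    (G₀ : Over (Spec (CommRingCat.of k))) [GrpObj G₀] [ConnectedSpace G₀.left] (j : G₀ ⟶ G) [IsMonHom j]
    [IsOpenImmersion j.left]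
    (K : Over (Spec (CommRingCat.of k))) [GrpObj K] (a : K ⟶ H) [IsMonHom a] (b : K ⟶ G₀) [IsMonHom b]
    (hK : IsPullback a.left b.left i.left j.left) :
    AGF.IsObservableIn k i ↔ AGF.IsObservableIn k b := by
  have hHaff : IsAffine H.left := isAffine_of_isAffineHom i.left
  have hjcl : IsClosedImmersion j.left :=
    Groth.Agent.Lib.T2H7.ObsFinIdx.isClosedImmersion_of_isOpenImmersion j
  have hG₀aff : IsAffine G₀.left := isAffine_of_isAffineHom j.left
  have hG₀sm : Smooth G₀.hom := Groth.Agent.Lib.T2H7.ObsFinIdx.smooth_of_isOpenImmersion j
  have hbcl : IsClosedImmersion b.left :=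
    MorphismProperty.of_isPullback (P := @IsClosedImmersion) hK inferInstance
  have haop : IsOpenImmersion a.left :=
    MorphismProperty.of_isPullback (P := @IsOpenImmersion) hK.flip inferInstance
  have hacl : IsClosedImmersion a.left :=
    MorphismProperty.of_isPullback (P := @IsClosedImmersion) hK.flip hjcl
  have hKaff : IsAffine K.left := isAffine_of_isAffineHom a.left
  have hKsm : Smooth K.hom := Groth.Agent.Lib.T2H7.ObsFinIdx.smooth_of_isOpenImmersion a
  have hcomm : a ≫ i = b ≫ j := by
    ext
    exact hK.w
  have hcl : IsClosedImmersion (b ≫ j).left := by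
    rw [Over.comp_left]
    infer_instance
  constructor
  · intro hobs
    have h1 : AGF.IsObservableIn k (a ≫ i) :=
      Groth.Agent.Lib.T2H7.ObsFinIdx.observable_open_sub i a hobs
    rw [hcomm] at h1
    exact Groth.Agent.Lib.T2H7.ObsFinIdx.observable_of_comp j b h1
  · intro hobs
    have h1 : AGF.IsObservableIn k j := Groth.Agent.Lib.T2H7.ObsFinIdx.observable_of_open j
    have h2 : AGF.IsObservableIn k (b ≫ j) :=
      Groth.Agent.Lib.T2H7.ObsExt.observable_trans b j hobs h1
    rw [← hcomm] at h2
    exact Groth.Agent.Lib.T2H7.ObsFinIdx.observable_of_open_sub i a h2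

end Groth.Agent.S12428
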