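import Groth.Statements.S12469
import Mathlib
import Groth.Agent.Lib.T2H4RLBridgeV
import Groth.Agent.Lib.T2H9TensorInv
import Groth.Agent.Lib.T2H5ProjFormula
set_option backward.isDefEq.respectTransparency.types false

set_option autoImplicit false
universe u
open CategoryTheory CategoryTheory.Limits AlgebraicGeometry TopologicalSpace Opposite
open scoped HomogeneousIdeal
open EGA2

namespace Groth.Agent.S12469

/-- Let q : X → Y be a morphism of schemes, L an invertible O_X-module and K an invertible O_Y-module.
Then L is very ample relative to q (isomorphic to the inverse image of O(1) along a Y-immersion of X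
into the projective bundle P(E) of a quasi-coherent O_Y-module E) if and only if L ⊗ q^*K is. -/
theorem result {X Y : Scheme.{u}} (q : X ⟶ Y) (L : X.Modules)
    (hL : PicF.IsInvertible L) (K : Y.Modules) (hK : PicF.IsInvertible K) :
    RelProj.IsRelVeryAmple q L ↔
      RelProj.IsRelVeryAmple q (CohB1.tensorMod L ((Scheme.Modules.pullback q).obj K)) := by
  have key : ∀ (L : X.Modules) (hL : PicF.IsInvertible L) (K : Y.Modules) (hK : PicF.IsInvertible K),
      RelProj.IsRelVeryAmple q L →
        RelProj.IsRelVeryAmple q (CohB1.tensorMod L ((Scheme.Modules.pullback q).obj K)) := by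
    intro L hL K hK hva
    have hKq : Coh.IsQCoh K := Groth.Agent.Lib.Helper23.SecTw.isQuasicoherent_of_isInvertible K hK
    have hL' : PicF.IsInvertible ((Scheme.Modules.pullback q).obj K) :=
      Groth.Agent.Lib.Helper23.PB.isInvertible_pullback q K hK
    exact Groth.Agent.Lib.T2H4.RLBridge.isRelVeryAmple_tensor_of_epi q L _ hL hva hL' K hKq (𝟙 _)
  constructor
  · exact key L hL K hK
  · intro h
    have hK' := Groth.Agent.Lib.T2H9.TensorInv.isInvertible_inv K hK
    have hM : PicF.IsInvertible (CohB1.tensorMod L ((Scheme.Modules.pullback q).obj K)) :=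
      Groth.Agent.Lib.Helper23.SecTw.isInvertible_tensorMod hL
        (Groth.Agent.Lib.Helper23.PB.isInvertible_pullback q K hK)
    have h2 := key _ hM (Groth.Agent.Lib.T2H9.TensorInv.inv K) hK' h
    let e1 := (Groth.Agent.Lib.T2H5.Twist.trComp ((Scheme.Modules.pullback q).obj K)
      ((Scheme.Modules.pullback q).obj (Groth.Agent.Lib.T2H9.TensorInv.inv K))).app L
    let e2 := (Groth.Agent.Lib.T2H5.Twist.trCongr (Groth.Agent.Lib.T2H5.ProjFormula.pullbackInvIso q
      (Groth.Agent.Lib.T2H9.TensorInv.tensorInvIso K hK))).app L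
    let e3 := (Groth.Agent.Lib.T2H5.Twist.trUnitIso (X := X)).app L
    exact Groth.Agent.Lib.T2H4.RLBridge.isRelVeryAmple_of_iso q (e1 ≪≫ e2 ≪≫ e3) h2

end Groth.Agent.S12469
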