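import Groth.Statements.S12476
import Mathlib
import Groth.Agent.Lib.T2H4VAmpleBC
set_option backward.isDefEq.respectTransparency.types false

set_option autoImplicit false
universe u
open CategoryTheory CategoryTheory.Limits AlgebraicGeometry TopologicalSpace Opposite
open scoped HomogeneousIdeal
open EGA2

namespace Groth.Agent.S12476

/-- Let f : X → Y and g : Y → Z be morphisms of schemes and L an invertible O_X-module which is very
ample relative to the composite X → Y → Z (isomorphic to the inverse image of O(1) along a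
Z-immersion of X into the projective bundle of a quasi-coherent O_Z-module). Then L is very ample
relative to f. -/
theorem result {X Y Z : Scheme.{u}} (f : X ⟶ Y) (g : Y ⟶ Z) (L : X.Modules)
    (hL : PicF.IsInvertible L) (hva : RelProj.IsRelVeryAmple (f ≫ g) L) : RelProj.IsRelVeryAmple f L := by
  obtain ⟨E, hE, 𝒮, j, hj, P, p, chart, hP, O1, lam, hO1, i, hi, hip, ⟨e⟩⟩ := hva
  haveI : E.IsQuasicoherent := hE
  have hE' : Coh.IsQCoh ((Scheme.Modules.pullback g).obj E) :=
    Groth.Agent.Lib.Helper2.PullbackSec.isQuasicoherent_pullback g E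
  obtain ⟨𝒮', j', hj', P', p', chart', hP', O1', lam', hO1'⟩ :=
    Groth.Agent.Lib.T2H4.GrSym.exists_projBundle _ hE'
  obtain ⟨h, hpbh, ⟨Φ⟩⟩ := Groth.Agent.Lib.T2H4.VAmpleBC.exists_isPullback_twist g E hE 𝒮 j hj p chart hP
    O1 lam hO1 𝒮' j' hj' p' chart' hP' O1' lam' hO1'
  have hi'h : hpbh.lift i f hip ≫ h = i := hpbh.lift_fst _ _ _
  have himm : IsImmersion (hpbh.lift i f hip) := by
    haveI : IsImmersion (hpbh.lift i f hip ≫ h) := by rw [hi'h]; exact hi
    exact IsImmersion.of_comp _ h
  refine ⟨_, hE', 𝒮', j', hj', P', p', chart', hP', O1', lam', hO1',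
    hpbh.lift i f hip, himm, hpbh.lift_snd _ _ _, ⟨?_⟩⟩
  exact e ≪≫ (Scheme.Modules.pullbackCongr hi'h.symm).app O1 ≪≫
    ((Scheme.Modules.pullbackComp _ h).app O1).symm ≪≫ (Scheme.Modules.pullback _).mapIso Φ

end Groth.Agent.S12476
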