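import Groth.Statements.S12594
import Groth.Agent.Lib.LeadNSh

set_option autoImplicit false
universe u v
open FunFld

namespace Groth.Agent.S12594

/-- For a geometric function field of one variable `K/k` there is a finite purely inseparable extension
`k'/k` such that `k' ⊗_k K` is nonsingular: every place of it is nonsingular with respect to every
finite extension `k''/k'` (the integral closure of its valuation ring in `k'' ⊗_{k'} (k' ⊗_k K)` is
generated by `k''`). -/
theorem result (k : Type u) (K : Type v) [Field k] [Field K] [Algebra k K]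
    (hK : FunFld.IsFunctionField k K) (hg : FunFld.IsGeometric k K) :
    ∃ (k' : Type u) (_ : Field k') (_ : Algebra k k'), FiniteDimensional k k' ∧ IsPurelyInseparable k k' ∧
      ∀ (K' : Type v) [Field K'] [Algebra K K'] [Algebra k' K'] [Algebra k K']
        [IsScalarTower k k' K'] [IsScalarTower k K K'],
        Function.Bijective (Algebra.TensorProduct.productMap
          (IsScalarTower.toAlgHom k k' K') (IsScalarTower.toAlgHom k K K')) →
        ∀ (Q : FunFld.Place k' K') (k'' : Type u) [Field k''] [Algebra k' k''] [FiniteDimensional k' k'']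
          (K'' : Type v) [Field K''] [Algebra K' K''] [Algebra k'' K''] [Algebra k' K'']
          [IsScalarTower k' k'' K''] [IsScalarTower k' K' K''],
          Function.Bijective (Algebra.TensorProduct.productMap
            (IsScalarTower.toAlgHom k' k'' K'') (IsScalarTower.toAlgHom k' K' K'')) →
          integralClosure (Q.O.toSubring.map (algebraMap K' K'')) K'' =
            Algebra.adjoin (Q.O.toSubring.map (algebraMap K' K'')) (Set.range (algebraMap k'' K'')) := by
  obtain ⟨c, c', hcc'⟩ := Groth.Agent.Lib.LeadNS.exists_charts hK hg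
  obtain ⟨k', fk', ak', hfin, hpi, H⟩ := Groth.Agent.Lib.LeadNS.exists_pi_good hK hg c c' hcc'
  refine ⟨k', fk', ak', hfin, hpi, ?_⟩
  intro K' _ _ _ _ _ _ h1 Q k'' _ _ _ K'' _ _ _ _ _ _ h2
  haveI := hfin
  have hK' : FunFld.IsFunctionField k' K' :=
    Groth.Agent.Lib.Helper7.FunFldConst.isFunctionField_constExt h1 hK hg
  have hg' : FunFld.IsGeometric k' K' :=
    Groth.Agent.Lib.Helper7.FunFldConst.isGeometric_constExt h1 hg
  exact Groth.Agent.Lib.LeadNS.nonsingular_of_pi k' K' hK' hg'
    (fun k₂ _ _ _ _ K₂ _ _ _ _ _ _ h₂ Q₂ => H K' h1 k₂ K₂ h₂ Q₂) k'' K'' h2 Q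

end Groth.Agent.S12594
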