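import Groth.Statements.S12686
import Mathlib
import Groth.Agent.Lib.T2H4RLBridgeK
import Groth.Agent.Lib.T2H5GlueInvD
import Groth.Agent.Lib.Helper2RelTwistExist
import Groth.Agent.Lib.Helper13ProjGlue2
import Groth.Agent.S12153
set_option backward.isDefEq.respectTransparency.types false

set_option autoImplicit false
universe u
open CategoryTheory CategoryTheory.Limits AlgebraicGeometry TopologicalSpace Opposite
open scoped HomogeneousIdeal
noncomputable section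
open EGA2

namespace Groth.Agent.S12686

/-- Let q : X → Y be a quasi-compact morphism, L an invertible O_X-module with graded symmetric algebra
𝒮L = ⊕_{n≥0} L^{⊗n} (whose relative Proj PL, given with its charts, is identified with X by its
structure morphism), and suppose the direct image E = q_*L is quasi-coherent, with graded symmetric
algebra 𝒜 = Sym(E) (structure map jE : E → 𝒜) and projective bundle P = P(E) = Proj(𝒜) → Y given
with its charts. Let u : 𝒜 → q_*𝒮L be the graded q-morphism which on E ⊆ 𝒜 is the inclusion of q_*L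
= (q_*𝒮L)_1, i.e. the adjoint of Sym(σ) for the canonical σ : q^*q_*L → L, and r = r_{L,σ} : G(σ) →
P the induced morphism on its open of definition G(σ) ⊆ PL. If L is very ample relative to q, then r
is everywhere defined (G(σ) is all of PL) and r is an immersion. (The published statement also
asserts that q_*L is quasi-coherent and that the canonical q^*q_*L → L is surjective; this row
presupposes the former through the datum E = q_*L, and its first conclusion, that G(σ) is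
everything, expresses the latter.) -/
theorem result {X Y P PL : Scheme.{u}} (q : X ⟶ Y) [QuasiCompact q]
    (L : X.Modules) (hL : PicF.IsInvertible L) (hLq : Coh.IsQCoh L)
    (𝒮L : RelProj.QCGrAlg X) (jL : L ⟶ 𝒮L.toModule) (hjL : RelProj.IsGrSymAlg L 𝒮L jL)
    (pL : PL ⟶ X) (chartL : ∀ (U : X.Opens) (hU : IsAffineOpen U), (((pL ⁻¹ᵁ U : PL.Opens) : Scheme.{u}) ≅ Proj (𝒮L.deg U hU)))
    (hPL : RelProj.IsRelProj 𝒮L pL chartL)
    (hEq : Coh.IsQCoh ((Scheme.Modules.pushforward q).obj L))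
    (𝒜 : RelProj.QCGrAlg Y) (jE : (Scheme.Modules.pushforward q).obj L ⟶ 𝒜.toModule)
    (h𝒜 : RelProj.IsGrSymAlg ((Scheme.Modules.pushforward q).obj L) 𝒜 jE)
    (u : RelProj.QGrHom q 𝒜 𝒮L)
    (hu : ∀ (U : Y.Opens) (x : Γ((Scheme.Modules.pushforward q).obj L, U)),
      (u.app U).hom ((jE.app U) x) = (jL.app (q ⁻¹ᵁ U)) x)
    (p : P ⟶ Y) (chart : ∀ (U : Y.Opens) (hU : IsAffineOpen U), (((p ⁻¹ᵁ U : P.Opens) : Scheme.{u}) ≅ Proj (𝒜.deg U hU)))
    (hP : RelProj.IsRelProj 𝒜 p chart)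
    (r : ((RelProj.domQ u pL chartL : PL.Opens) : Scheme.{u}) ⟶ P)
    (hr : RelProj.IsProjQMapOn u p chart pL chartL (RelProj.domQ u pL chartL) r)
    (h : RelProj.IsRelVeryAmple q L) :
    RelProj.domQ u pL chartL = ⊤ ∧ IsImmersion r := by
  classical
  obtain ⟨E', hE', 𝒜', j', hj', P', p', chart', hP', O1', lam', hO1', i, himm, hi, ⟨τ⟩⟩ := h
  subst hi
  haveI : E'.IsQuasicoherent := hE'
  haveI : L.IsQuasicoherent := hLq
  -- the canonical map `E' ⟶ p'_* O(1)`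
  obtain ⟨φ', hφ'⟩ := Groth.Agent.Lib.T2H4.RLBridge.exists_canonMap p' chart' E' j' hj'.2 O1' lam' hO1' hP'
  -- the adjoint of `τ⁻¹`
  obtain ⟨a, ha0⟩ : ∃ a : O1' ⟶ (Scheme.Modules.pushforward i).obj L,
      a = ((Scheme.Modules.pullbackPushforwardAdjunction i).homEquiv O1' L) τ.inv := ⟨_, rfl⟩
  have ha : ∀ (V : P'.Opens) (m : Γ(O1', V)),
      τ.inv.app (i ⁻¹ᵁ V) (Groth.Agent.Helper13PullbackUnit.unitSec i O1' le_rfl m) = a.app V m := by
    intro V m
    have h1 := Groth.Agent.Lib.T2H5.GlueInv.adj_app_unitSec i O1' L a V m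
    rw [ha0, Equiv.symm_apply_apply] at h1
    rw [ha0]
    exact h1
  obtain ⟨sb, hsb0⟩ : ∃ sb : E' ⟶ (Scheme.Modules.pushforward (i ≫ p')).obj L,
      sb = φ' ≫ (Scheme.Modules.pushforward p').map a ≫ (Scheme.Modules.pushforwardComp i p').hom.app L :=
    ⟨_, rfl⟩
  have hsb : ∀ (U : Y.Opens) (e : Γ(E', U)),
      (show Γ(L, (i ≫ p') ⁻¹ᵁ U) from sb.app U e) = a.app (p' ⁻¹ᵁ U) (φ'.app U e) := by
    intro U e
    rw [hsb0]
    rfl
  obtain ⟨t, ht0⟩ : ∃ t : ∀ (U : Y.Opens) (hU : IsAffineOpen U) (e : Γ(E', U)), Γ(L, (i ≫ p') ⁻¹ᵁ U),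
      t = fun U hU e => sb.app U e := ⟨_, rfl⟩
  -- the homomorphism `Sym(E') ⟶ Sym(q_* L)`
  obtain ⟨v, hv1, -⟩ := hj'.1 𝒜.toQCAlg (sb ≫ jE)
  have hv : RelProj.IsGradedHom v :=
    Groth.Agent.Lib.T2H4.RLBridge.isGradedHom_of_isGrSymAlg E' hj' v (fun U hU m => by
      rw [hv1]
      exact h𝒜.2 U hU (sb.app U m))
  obtain ⟨u', hu'0⟩ : ∃ u' : RelProj.QGrHom (i ≫ p') 𝒜' 𝒮L, u' = Groth.Agent.Helper13RL.compOfHom u v hv :=
    ⟨_, rfl⟩
  have hu'app : ∀ U : Y.Opens, u'.app U = v.hom.app (op U) ≫ u.app U := by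
    intro U
    rw [hu'0]
    rfl
  have hut : ∀ (U : Y.Opens) (hU : IsAffineOpen U) (e : Γ(E', U)) (V : X.Opens) (hV : IsAffineOpen V)
      (hle : V ≤ (i ≫ p') ⁻¹ᵁ U),
      (u'.appLE U V hle).hom ((j'.app U) e : 𝒜'.presheaf.obj (op U)) =
        ((jL.app V) (Groth.Agent.Lib.Helper6.res L hle (t U hU e)) : 𝒮L.presheaf.obj (op V)) := by
    intro U hU e V hV hle
    have h1 : (v.hom.app (op U)).hom ((j'.app U) e : 𝒜'.presheaf.obj (op U)) =
        ((jE.app U) (sb.app U e) : 𝒜.presheaf.obj (op U)) :=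
      congrArg (fun f : E' ⟶ 𝒜.toModule => (f.app U e : 𝒜.presheaf.obj (op U))) hv1
    have h2 : (u'.appLE U V hle).hom ((j'.app U) e : 𝒜'.presheaf.obj (op U)) =
        (𝒮L.presheaf.map (homOfLE hle).op).hom
          ((u.app U).hom ((v.hom.app (op U)).hom ((j'.app U) e : 𝒜'.presheaf.obj (op U)))) := by
      rw [RelSpec.QHom.appLE_eq, hu'app]
      rfl
    rw [h2, h1, hu U (sb.app U e), ht0]
    exact (Groth.Agent.Lib.Helper2.ModExact.app_map jL (homOfLE hle) _).symm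
  -- `i` is framed by `t`
  have hF1 : Groth.Agent.Lib.T2H4.RLBridge.IsFramed p' chart' E' j' hj' O1' lam' hO1' (i ≫ p') L i t := by
    refine Groth.Agent.Lib.T2H4.RLBridge.isFramed_of_iso p' chart' E' j' hj' O1' lam' hO1' (i ≫ p') L i rfl
      τ.symm t ?_
    intro U hU e W hW hW'
    have h2 : t U hU e = τ.inv.app (i ⁻¹ᵁ (p' ⁻¹ᵁ U))
        (Groth.Agent.Helper13PullbackUnit.unitSec i O1' le_rfl
          (Groth.Agent.Lib.T2H4.RLBridge.sig p' chart' E' j' hj' O1' lam' hO1' U hU e)) := by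
      rw [ha, ht0]
      refine (hsb U e).trans ?_
      rw [hφ' U hU e]
    rw [h2]
    have h3 := Groth.Agent.Lib.Helper2.ModExact.app_map τ.inv (homOfLE hW)
      (Groth.Agent.Helper13PullbackUnit.unitSec i O1' le_rfl
        (Groth.Agent.Lib.T2H4.RLBridge.sig p' chart' E' j' hj' O1' lam' hO1' U hU e))
    refine Eq.trans ?_ h3
    change τ.inv.app W _ = τ.inv.app W _
    congr 1
    have h4 := Groth.Agent.Lib.Helper23.PB.res_unitSec i O1' (le_refl (i ⁻¹ᵁ (p' ⁻¹ᵁ U))) hW le_rfl hW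
      (Groth.Agent.Lib.T2H4.RLBridge.sig p' chart' E' j' hj' O1' lam' hO1' U hU e)
    rw [Groth.Agent.Lib.Helper23.SecTw.res_self] at h4
    exact h4.symm
  -- local frames
  have hfr : ∀ x : X, ∃ (U : Y.Opens) (hU : IsAffineOpen U) (e : Γ(E', U)) (V : X.Opens) (hV : IsAffineOpen V)
      (hVU : V ≤ (i ≫ p') ⁻¹ᵁ U), x ∈ V ∧
        Groth.Agent.Lib.Helper23.SecTw.IsGen L V (Groth.Agent.Lib.Helper6.res L hVU (t U hU e)) := by
    intro x
    obtain ⟨U, hxU⟩ := Groth.Agent.Lib.Helper2.RelTildeQCoh.exists_affine_mem_preimage p' (i x)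
    obtain ⟨y, hy⟩ := Groth.Agent.Lib.Helper2.RelTildeQCoh.le_opensRange_emb p' chart' U.1 U.2 hxU
    obtain ⟨e, he⟩ := Groth.Agent.Lib.T2H4.ProjBundle.exists_not_mem_of_isGrSymAlg E' hE' 𝒜' j' hj' U.1 U.2 y
    have hx : x ∈ i ⁻¹ᵁ Groth.Agent.Lib.Helper2.RelTwistTensor.VF p' chart'
        (Groth.Agent.Lib.T2H4.GrSym.idxOf E' j' hj' U.1 U.2 e) :=
      ⟨y, (ProjectiveSpectrum.mem_basicOpen _ _ y).mpr he, hy⟩
    have hle := hF1.preimage_VF_le' (Groth.Agent.Lib.T2H4.GrSym.idxOf E' j' hj' U.1 U.2 e)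
    obtain ⟨V, hVaff, hxV, hVle⟩ := exists_isAffineOpen_mem_and_subset (X := X) (x := x)
      (U := i ⁻¹ᵁ Groth.Agent.Lib.Helper2.RelTwistTensor.VF p' chart'
        (Groth.Agent.Lib.T2H4.GrSym.idxOf E' j' hj' U.1 U.2 e)) hx
    refine ⟨U.1, U.2, e, V, hVaff, (show V ≤ _ from hVle).trans hle, hxV, ?_⟩
    have := (hF1.gen U.1 U.2 e hle).mono (show V ≤ _ from hVle)
    rwa [Groth.Agent.Lib.Helper6.res_res] at this
  have hdef : RelProj.domQ u' pL chartL = ⊤ :=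
    Groth.Agent.Lib.T2H4.RLBridge.domQ_eq_top_of_frames u' pL chartL E' j' hj' L jL hjL t hut hfr hLq
  obtain ⟨r₀, hr₀v⟩ := Groth.Agent.Helper13RelProj.exists_qmapOn u' hP' hPL
  have hr₀ := Groth.Agent.Helper13RelProj.isProjQMapOn_of_pieces u' r₀ hr₀v
  haveI : IsIso pL := Groth.Agent.Helper13ProjLine.isIso_relProj L 𝒮L jL hjL pL chartL hPL hL
  haveI : IsIso (RelProj.domQ u' pL chartL).ι := Groth.Agent.Helper13RL.isIso_ι_of_eq_top hdef
  obtain ⟨O1L, lamL, hO1L⟩ := Groth.Agent.Lib.Helper2.RelTwistExist.exists_isRelTwist pL chartL hPL 1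
  obtain ⟨i', hi'0⟩ : ∃ i' : X ⟶ P', i' = inv pL ≫ inv (RelProj.domQ u' pL chartL).ι ≫ r₀ := ⟨_, rfl⟩
  have hi' : (RelProj.domQ u' pL chartL).ι ≫ pL ≫ i' = r₀ := by
    rw [hi'0, IsIso.hom_inv_id_assoc, IsIso.hom_inv_id_assoc]
  have hF2 := Groth.Agent.Lib.T2H4.RLBridge.isFramed_of_isProjQMapOn u' p' chart' pL chartL E' j' hj' O1' lam' hO1'
    L jL hjL t hut hfr hP' hPL hL hLq O1L lamL hO1L r₀ hr₀ i' hi'
  have hii' : i = i' := Groth.Agent.Lib.T2H4.RLBridge.IsFramed.unique hE' hP' hF1 hF2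
  have himm' : IsImmersion r₀ := by
    rw [← hi', ← hii']
    infer_instance
  exact Groth.Agent.S12153.result (i ≫ p') L hL hLq 𝒜 𝒮L jL hjL u p chart hP pL chartL hPL r hr 𝒜' v hv u'
    hu'app p' chart' hP' r₀ hr₀ hdef himm'

end Groth.Agent.S12686
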