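import Groth.Statements.S12688
import Mathlib
import Groth.Agent.Lib.T2H4RLBridgeAB
set_option backward.isDefEq.respectTransparency.types false

set_option autoImplicit false
universe u
open CategoryTheory CategoryTheory.Limits AlgebraicGeometry TopologicalSpace Opposite
open scoped HomogeneousIdeal
noncomputable section
open EGA2

namespace Groth.Agent.S12688

/-- Let Y be a scheme which is either quasi-compact and separated or has Noetherian underlying space, q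
: X → Y a morphism of finite type, L an invertible O_X-module with graded symmetric algebra 𝒮L =
⊕_{n≥0} L^{⊗n} (whose relative Proj PL, given with its charts, is identified with X by its structure
morphism). If L is very ample relative to q, then there are a quasi-coherent O_Y-module E of finite
type with an injective map ι : E → q_*L, its graded symmetric algebra 𝒯 = Sym(E) (structure map jE),
and the graded q-morphism u : 𝒯 → q_*𝒮L extending ι (adjoint to Sym(φ) for φ : q^*E → L the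
restriction of the canonical map q^*q_*L → L), such that φ is surjective — every point of X has an
affine neighbourhood V over which the image of a single section of E generates L — and, for the
projective bundle P(E) = Proj(𝒯) → Y (with its charts) and the induced r = r_{L,φ} : G(φ) → P(E), r
is everywhere defined (G(φ) is all of PL) and an immersion. (The published statement reads 'coherent
of finite type' for E; over an affine base whose ring is not coherent, with q the identity and L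
trivial, the only possible E is O_Y itself, which is not coherent, while the published proof,
through the finite-type criterion for immersions, yields E quasi-coherent of finite type, which is
what this row asserts.) -/
theorem result {X Y PL : Scheme.{u}}
    (hYs : (CompactSpace Y ∧ Y.IsSeparated) ∨ NoetherianSpace Y) (q : X ⟶ Y) [QuasiCompact q] [LocallyOfFiniteType q]
    (L : X.Modules) (hL : PicF.IsInvertible L) (hLq : Coh.IsQCoh L)
    (𝒮L : RelProj.QCGrAlg X) (jL : L ⟶ 𝒮L.toModule) (hjL : RelProj.IsGrSymAlg L 𝒮L jL)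
    (pL : PL ⟶ X) (chartL : ∀ (U : X.Opens) (hU : IsAffineOpen U), (((pL ⁻¹ᵁ U : PL.Opens) : Scheme.{u}) ≅ Proj (𝒮L.deg U hU)))
    (hPL : RelProj.IsRelProj 𝒮L pL chartL)
    (h : RelProj.IsRelVeryAmple q L) :
    ∃ (E : Y.Modules) (_ : Coh.IsQCoh E) (_ : CohB1.IsFT E) (ι : E ⟶ (Scheme.Modules.pushforward q).obj L)
      (_ : ∀ U : Y.Opens, Function.Injective (ι.app U))
      (𝒯 : RelProj.QCGrAlg Y) (jE : E ⟶ 𝒯.toModule) (_ : RelProj.IsGrSymAlg E 𝒯 jE)
      (u : RelProj.QGrHom q 𝒯 𝒮L)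
      (_ : ∀ (U : Y.Opens) (x : Γ(E, U)), (u.app U).hom ((jE.app U) x) = (jL.app (q ⁻¹ᵁ U)) ((ι.app U) x)),
      (∀ x : X, ∃ (U : Y.Opens) (hU : IsAffineOpen U) (e : Γ(E, U)) (V : X.Opens) (hV : IsAffineOpen V)
          (hVU : V ≤ q ⁻¹ᵁ U), x ∈ V ∧
            ((𝒮L.deg V hV 1 : AddSubgroup (𝒮L.presheaf.obj (op V))) : Set (𝒮L.presheaf.obj (op V))) ⊆
              (Ideal.span {(u.appLE U V hVU).hom ((jE.app U) e)} : Set (𝒮L.presheaf.obj (op V)))) ∧
      ∀ (P : Scheme.{u}) (p : P ⟶ Y)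
          (chart : ∀ (U : Y.Opens) (hU : IsAffineOpen U), (((p ⁻¹ᵁ U : P.Opens) : Scheme.{u}) ≅ Proj (𝒯.deg U hU)))
          (_ : RelProj.IsRelProj 𝒯 p chart)
          (r : ((RelProj.domQ u pL chartL : PL.Opens) : Scheme.{u}) ⟶ P)
          (_ : RelProj.IsProjQMapOn u p chart pL chartL (RelProj.domQ u pL chartL) r),
        RelProj.domQ u pL chartL = ⊤ ∧ IsImmersion r := by
  classical
  have hqs : CompactSpace Y ∧ QuasiSeparatedSpace Y := by
    rcases hYs with ⟨h1, h2⟩ | h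
    · exact ⟨h1, inferInstance⟩
    · exact ⟨inferInstance, inferInstance⟩
  have := hqs.1
  have := hqs.2
  have : L.IsQuasicoherent := hLq
  obtain ⟨hEq, hfr₁, himm₁⟩ := Groth.Agent.Lib.T2H4.RLBridge.framed_pushforward_of_isRelVeryAmple q L hL h
  obtain ⟨𝒜, jA, hjA, P₁, p₁, chart₁, hP₁, O1₁, lam₁, hO1₁⟩ :=
    Groth.Agent.Lib.T2H4.GrSym.exists_projBundle _ hEq
  obtain ⟨i₁, hF₁⟩ := Groth.Agent.Lib.T2H4.RLBridge.exists_isFramed_of_frames _ hEq 𝒜 jA hjA p₁ chart₁ hP₁ O1₁ lam₁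
    hO1₁ q L hL (𝟙 _) hfr₁
  have : IsImmersion i₁ := himm₁ 𝒜 jA hjA p₁ chart₁ hP₁ O1₁ lam₁ hO1₁ i₁ hF₁
  obtain ⟨E₀, ι, hι, hq₀, hf₀, hfr₀, himm₀⟩ := Groth.Agent.Lib.T2H4.RLBridge.exists_ft_sub_isImmersion q _ hEq 𝒜 jA
    hjA p₁ chart₁ hP₁ O1₁ lam₁ hO1₁ L i₁ (𝟙 _) hF₁
  have : E₀.IsQuasicoherent := hq₀
  have := hι
  obtain ⟨𝒯, jE, hjE, P₀, p₀, chart₀, hP₀, O1₀, lam₀, hO1₀⟩ := Groth.Agent.Lib.T2H4.GrSym.exists_projBundle E₀ hq₀
  set ψ₀ : E₀ ⟶ (Scheme.Modules.pushforward q).obj L := ι ≫ 𝟙 _ with hψ₀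
  have hψι : ∀ (U : Y.Opens) (e : Γ(E₀, U)), ψ₀.app U e = ι.app U e := by
    intro U e
    rw [hψ₀, Category.comp_id]
  obtain ⟨s, hs0⟩ : ∃ s : (Scheme.Modules.pullback q).obj E₀ ⟶ L,
      s = ((Scheme.Modules.pullbackPushforwardAdjunction q).homEquiv E₀ L).symm ψ₀ := ⟨_, rfl⟩
  have hψ : ∀ (U : Y.Opens) (e : Γ(E₀, U)), ψ₀.app U e = Groth.Agent.Lib.T2H4.RLBridge.tOf q E₀ L s U e := by
    intro U e
    rw [Groth.Agent.Lib.T2H4.RLBridge.tOf_eq_homEquiv, hs0, Equiv.apply_symm_apply]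
  have h1 : ∀ (U' : X.Opens) (hU' : IsAffineOpen U') (x : Γ((Scheme.Modules.pullback q).obj E₀, U')),
      (((s ≫ jL).app U') x : 𝒮L.presheaf.obj (op U')) ∈ 𝒮L.deg U' hU' 1 :=
    fun U' hU' x => hjL.2 U' hU' (s.app U' x)
  obtain ⟨u, hu0⟩ : ∃ u : RelProj.QGrHom q 𝒯 𝒮L,
      u = Groth.Agent.Lib.T2H4.RLBridge.symQGrHom' q E₀ hjE (s ≫ jL) h1 := ⟨_, rfl⟩
  have hut' : ∀ (U : Y.Opens) (e : Γ(E₀, U)) (V : X.Opens) (hle : V ≤ q ⁻¹ᵁ U),
      (u.appLE U V hle).hom ((jE.app U) e : 𝒯.presheaf.obj (op U)) =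
        ((jL.app V) (Groth.Agent.Lib.Helper6.res L hle (ψ₀.app U e)) : 𝒮L.presheaf.obj (op V)) := by
    intro U e V hle
    rw [hu0, Groth.Agent.Lib.T2H4.RLBridge.symQGrHom'_appLE_j q E₀ hjE (s ≫ jL) h1 U e V hle]
    change (jL.app V) (s.app V (Groth.Agent.Helper13PullbackUnit.unitSec q E₀ hle e)) =
      (jL.app V) (Groth.Agent.Lib.Helper6.res L hle (ψ₀.app U e))
    rw [hψ U e, Groth.Agent.Lib.T2H4.RLBridge.res_tOf]
  obtain ⟨t, ht0⟩ : ∃ t : ∀ (U : Y.Opens) (hU : IsAffineOpen U) (e : Γ(E₀, U)), Γ(L, q ⁻¹ᵁ U),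
      t = fun U hU e => ψ₀.app U e := ⟨_, rfl⟩
  have hut : ∀ (U : Y.Opens) (hU : IsAffineOpen U) (e : Γ(E₀, U)) (V : X.Opens) (hV : IsAffineOpen V)
      (hle : V ≤ q ⁻¹ᵁ U),
      (u.appLE U V hle).hom ((jE.app U) e : 𝒯.presheaf.obj (op U)) =
        ((jL.app V) (Groth.Agent.Lib.Helper6.res L hle (t U hU e)) : 𝒮L.presheaf.obj (op V)) := by
    intro U hU e V hV hle
    rw [ht0]
    exact hut' U e V hle
  have hfr : ∀ x : X, ∃ (U : Y.Opens) (hU : IsAffineOpen U) (e : Γ(E₀, U)) (V : X.Opens) (hV : IsAffineOpen V)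
      (hVU : V ≤ q ⁻¹ᵁ U), x ∈ V ∧
        Groth.Agent.Lib.Helper23.SecTw.IsGen L V (Groth.Agent.Lib.Helper6.res L hVU (t U hU e)) := by
    intro x
    obtain ⟨U, hU, e, V, hV, hVU, hxV, hgen⟩ := hfr₀ x
    refine ⟨U, hU, e, V, hV, hVU, hxV, ?_⟩
    rw [ht0]
    exact hgen
  refine ⟨E₀, hq₀, hf₀, ι, fun U => Groth.Agent.Lib.Helper2.ModExact.app_injective_of_mono ι U, 𝒯, jE, hjE, u,
    ?_, ?_, ?_⟩
  · intro U x
    have h2 := hut' U x (q ⁻¹ᵁ U) le_rfl
    rw [Groth.Agent.Lib.Helper23.SecTw.res_self, hψι U x] at h2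
    have h3 : u.appLE U (q ⁻¹ᵁ U) le_rfl = u.app U := by
      rw [RelSpec.QHom.appLE_eq]
      have h4 : (homOfLE (le_refl (q ⁻¹ᵁ U))).op = 𝟙 (op (q ⁻¹ᵁ U)) := rfl
      rw [h4, CategoryTheory.Functor.map_id, Category.comp_id]
    rw [h3] at h2
    exact h2
  · intro x
    obtain ⟨U, hU, e, V, hV, hVU, hxV, hgen⟩ := hfr x
    refine ⟨U, hU, e, V, hV, hVU, hxV, ?_⟩
    exact Groth.Agent.Lib.T2H4.RLBridge.deg_one_subset_span_of_isGen L jL hjL hLq V hV _ hgen _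
      (hut U hU e V hV hVU)
  · intro P p chart hP r hr
    have hdef : RelProj.domQ u pL chartL = ⊤ :=
      Groth.Agent.Lib.T2H4.RLBridge.domQ_eq_top_of_frames u pL chartL E₀ jE hjE L jL hjL t hut hfr hLq
    refine ⟨hdef, ?_⟩
    have : IsIso pL := Groth.Agent.Helper13ProjLine.isIso_relProj L 𝒮L jL hjL pL chartL hPL hL
    have : IsIso (RelProj.domQ u pL chartL).ι := Groth.Agent.Helper13RL.isIso_ι_of_eq_top hdef
    obtain ⟨O1L, lamL, hO1L⟩ := Groth.Agent.Lib.Helper2.RelTwistExist.exists_isRelTwist pL chartL hPL 1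
    obtain ⟨O1, lam, hO1⟩ := Groth.Agent.Lib.Helper2.RelTwistExist.exists_isRelTwist p chart hP 1
    obtain ⟨i', hi'0⟩ : ∃ i' : X ⟶ P, i' = inv pL ≫ inv (RelProj.domQ u pL chartL).ι ≫ r := ⟨_, rfl⟩
    have hi' : (RelProj.domQ u pL chartL).ι ≫ pL ≫ i' = r := by
      rw [hi'0, IsIso.hom_inv_id_assoc, IsIso.hom_inv_id_assoc]
    have hF2 : Groth.Agent.Lib.T2H4.RLBridge.IsFramed p chart E₀ jE hjE O1 lam hO1 q L i' t :=
      Groth.Agent.Lib.T2H4.RLBridge.isFramed_of_isProjQMapOn u p chart pL chartL E₀ jE hjE O1 lam hO1 L jL hjL t hut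
        hfr hP hPL hL hLq O1L lamL hO1L r hr i' hi'
    rw [ht0] at hF2
    have : IsImmersion i' := himm₀ 𝒯 jE hjE p chart hP O1 lam hO1 i' hF2
    rw [← hi']
    infer_instance

end Groth.Agent.S12688
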