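import Groth.Statements.S12689
import Mathlib
import Groth.Agent.Lib.T2H4RLBridgeAC
set_option backward.isDefEq.respectTransparency.types false

set_option autoImplicit false
universe u
open CategoryTheory CategoryTheory.Limits AlgebraicGeometry TopologicalSpace Opposite
open scoped HomogeneousIdeal
noncomputable section
open EGA2

namespace Groth.Agent.S12689

/-- Let Y be a scheme which is either quasi-compact and separated or has Noetherian underlying space, q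
: X → Y a morphism of finite type, L an invertible O_X-module with graded symmetric algebra 𝒮L =
⊕_{n≥0} L^{⊗n} (whose relative Proj PL, given with its charts, is identified with X by its structure
morphism), F a quasi-coherent O_Y-module with graded symmetric algebra 𝒯 = Sym(F) (structure map jF)
and projective bundle P = P(F) = Proj(𝒯) → Y given with its charts, u : 𝒯 → q_*𝒮L a graded
q-morphism — adjoint to Sym(φ) for the homomorphism φ : q^*F → L it determines in degree one — with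
φ surjective (every point of X has an affine neighbourhood V over which the image of a single
section of F generates L), and r = r_{L,φ} : G(φ) → P the induced morphism on its open of definition
G(φ) ⊆ PL (which is all of PL, φ being surjective). Then r is an immersion if and only if there are
a quasi-coherent O_Y-module E of finite type with an injective map ι : E → F, its graded symmetric
algebra 𝒯' = Sym(E) (structure map jE) and the graded q-morphism u' : 𝒯' → q_*𝒮L obtained from u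
through Sym(ι), such that the corresponding φ' : q^*E → L is surjective (in the same stalkwise
sense) and, for the projective bundle P(E) = Proj(𝒯') → Y (with its charts) and the induced r' =
r_{L,φ'} : G(φ') → P(E), r' is everywhere defined and an immersion. -/
theorem result {X Y P PL : Scheme.{u}}
    (hYs : (CompactSpace Y ∧ Y.IsSeparated) ∨ NoetherianSpace Y) (q : X ⟶ Y) [QuasiCompact q] [LocallyOfFiniteType q]
    (L : X.Modules) (hL : PicF.IsInvertible L) (hLq : Coh.IsQCoh L)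
    (𝒮L : RelProj.QCGrAlg X) (jL : L ⟶ 𝒮L.toModule) (hjL : RelProj.IsGrSymAlg L 𝒮L jL)
    (pL : PL ⟶ X) (chartL : ∀ (U : X.Opens) (hU : IsAffineOpen U), (((pL ⁻¹ᵁ U : PL.Opens) : Scheme.{u}) ≅ Proj (𝒮L.deg U hU)))
    (hPL : RelProj.IsRelProj 𝒮L pL chartL)
    (F : Y.Modules) (hFq : Coh.IsQCoh F) (𝒯 : RelProj.QCGrAlg Y) (jF : F ⟶ 𝒯.toModule) (h𝒯 : RelProj.IsGrSymAlg F 𝒯 jF)
    (u : RelProj.QGrHom q 𝒯 𝒮L)
    (hsurj : ∀ x : X, ∃ (U : Y.Opens) (hU : IsAffineOpen U) (e : Γ(F, U)) (V : X.Opens) (hV : IsAffineOpen V)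
        (hVU : V ≤ q ⁻¹ᵁ U), x ∈ V ∧
          ((𝒮L.deg V hV 1 : AddSubgroup (𝒮L.presheaf.obj (op V))) : Set (𝒮L.presheaf.obj (op V))) ⊆
              (Ideal.span {(u.appLE U V hVU).hom ((jF.app U) e)} : Set (𝒮L.presheaf.obj (op V))))
    (p : P ⟶ Y) (chart : ∀ (U : Y.Opens) (hU : IsAffineOpen U), (((p ⁻¹ᵁ U : P.Opens) : Scheme.{u}) ≅ Proj (𝒯.deg U hU)))
    (hP : RelProj.IsRelProj 𝒯 p chart)
    (r : ((RelProj.domQ u pL chartL : PL.Opens) : Scheme.{u}) ⟶ P)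
    (hr : RelProj.IsProjQMapOn u p chart pL chartL (RelProj.domQ u pL chartL) r) :
    IsImmersion r ↔
      ∃ (E : Y.Modules) (_ : Coh.IsQCoh E) (_ : CohB1.IsFT E) (ι : E ⟶ F) (_ : ∀ U : Y.Opens, Function.Injective (ι.app U))
        (𝒯' : RelProj.QCGrAlg Y) (jE : E ⟶ 𝒯'.toModule) (_ : RelProj.IsGrSymAlg E 𝒯' jE)
        (u' : RelProj.QGrHom q 𝒯' 𝒮L)
        (_ : ∀ (U : Y.Opens) (x : Γ(E, U)), (u'.app U).hom ((jE.app U) x) = (u.app U).hom ((jF.app U) ((ι.app U) x))),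
        (∀ x : X, ∃ (U : Y.Opens) (hU : IsAffineOpen U) (e : Γ(E, U)) (V : X.Opens) (hV : IsAffineOpen V)
            (hVU : V ≤ q ⁻¹ᵁ U), x ∈ V ∧
              ((𝒮L.deg V hV 1 : AddSubgroup (𝒮L.presheaf.obj (op V))) : Set (𝒮L.presheaf.obj (op V))) ⊆
              (Ideal.span {(u'.appLE U V hVU).hom ((jE.app U) e)} : Set (𝒮L.presheaf.obj (op V)))) ∧
        ∀ (P' : Scheme.{u}) (p' : P' ⟶ Y)
            (chart' : ∀ (U : Y.Opens) (hU : IsAffineOpen U), (((p' ⁻¹ᵁ U : P'.Opens) : Scheme.{u}) ≅ Proj (𝒯'.deg U hU)))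
            (_ : RelProj.IsRelProj 𝒯' p' chart')
            (r' : ((RelProj.domQ u' pL chartL : PL.Opens) : Scheme.{u}) ⟶ P')
            (_ : RelProj.IsProjQMapOn u' p' chart' pL chartL (RelProj.domQ u' pL chartL) r'),
          RelProj.domQ u' pL chartL = ⊤ ∧ IsImmersion r' := by
  classical
  have hqs : CompactSpace Y ∧ QuasiSeparatedSpace Y := by
    rcases hYs with ⟨h1, h2⟩ | h
    · exact ⟨h1, inferInstance⟩
    · exact ⟨inferInstance, inferInstance⟩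
  have := hqs.1
  have := hqs.2
  have : L.IsQuasicoherent := hLq
  have : F.IsQuasicoherent := hFq
  -- the degree-one part of `u`
  obtain ⟨ψ, hψ0⟩ : ∃ ψ : F ⟶ (Scheme.Modules.pushforward q).obj L,
      ψ = Groth.Agent.Lib.T2H4.RLBridge.degOneMap q F jF L hjL u := ⟨_, rfl⟩
  have hutψ : ∀ (U : Y.Opens) (hU : IsAffineOpen U) (e : Γ(F, U)) (V : X.Opens) (hV : IsAffineOpen V)
      (hle : V ≤ q ⁻¹ᵁ U),
      (u.appLE U V hle).hom ((jF.app U) e : 𝒯.presheaf.obj (op U)) =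
        ((jL.app V) (Groth.Agent.Lib.Helper6.res L hle (ψ.app U e)) : 𝒮L.presheaf.obj (op V)) := by
    intro U hU e V hV hle
    rw [hψ0]
    exact Groth.Agent.Lib.T2H4.RLBridge.appLE_j_eq_j_degOneMap q F jF L hjL u h𝒯.2 U hU e V hV hle
  obtain ⟨t, ht0⟩ : ∃ t : ∀ (U : Y.Opens) (hU : IsAffineOpen U) (e : Γ(F, U)), Γ(L, q ⁻¹ᵁ U),
      t = fun U hU e => ψ.app U e := ⟨_, rfl⟩
  have hut : ∀ (U : Y.Opens) (hU : IsAffineOpen U) (e : Γ(F, U)) (V : X.Opens) (hV : IsAffineOpen V)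
      (hle : V ≤ q ⁻¹ᵁ U),
      (u.appLE U V hle).hom ((jF.app U) e : 𝒯.presheaf.obj (op U)) =
        ((jL.app V) (Groth.Agent.Lib.Helper6.res L hle (t U hU e)) : 𝒮L.presheaf.obj (op V)) := by
    intro U hU e V hV hle
    rw [ht0]
    exact hutψ U hU e V hV hle
  have hfr : ∀ x : X, ∃ (U : Y.Opens) (hU : IsAffineOpen U) (e : Γ(F, U)) (V : X.Opens) (hV : IsAffineOpen V)
      (hVU : V ≤ q ⁻¹ᵁ U), x ∈ V ∧
        Groth.Agent.Lib.Helper23.SecTw.IsGen L V (Groth.Agent.Lib.Helper6.res L hVU (t U hU e)) := by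
    intro x
    obtain ⟨U, hU, e, V, hV, hVU, hxV, hspan⟩ := hsurj x
    refine ⟨U, hU, e, V, hV, hVU, hxV, ?_⟩
    exact Groth.Agent.Lib.T2H4.RLBridge.isGen_of_deg_one_subset_span L hjL hL V hV _ _ (hut U hU e V hV hVU) hspan
  have hdef : RelProj.domQ u pL chartL = ⊤ :=
    Groth.Agent.Lib.T2H4.RLBridge.domQ_eq_top_of_frames u pL chartL F jF h𝒯 L jL hjL t hut hfr hLq
  have : IsIso pL := Groth.Agent.Helper13ProjLine.isIso_relProj L 𝒮L jL hjL pL chartL hPL hL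
  have : IsIso (RelProj.domQ u pL chartL).ι := Groth.Agent.Helper13RL.isIso_ι_of_eq_top hdef
  obtain ⟨O1L, lamL, hO1L⟩ := Groth.Agent.Lib.Helper2.RelTwistExist.exists_isRelTwist pL chartL hPL 1
  obtain ⟨O1, lam, hO1⟩ := Groth.Agent.Lib.Helper2.RelTwistExist.exists_isRelTwist p chart hP 1
  obtain ⟨i', hi'0⟩ : ∃ i' : X ⟶ P, i' = inv pL ≫ inv (RelProj.domQ u pL chartL).ι ≫ r := ⟨_, rfl⟩
  have hi' : (RelProj.domQ u pL chartL).ι ≫ pL ≫ i' = r := by
    rw [hi'0, IsIso.hom_inv_id_assoc, IsIso.hom_inv_id_assoc]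
  have hF2 : Groth.Agent.Lib.T2H4.RLBridge.IsFramed p chart F jF h𝒯 O1 lam hO1 q L i' t :=
    Groth.Agent.Lib.T2H4.RLBridge.isFramed_of_isProjQMapOn u p chart pL chartL F jF h𝒯 O1 lam hO1 L jL hjL t hut
      hfr hP hPL hL hLq O1L lamL hO1L r hr i' hi'
  rw [ht0] at hF2
  -- the key identity for a submodule
  have key : ∀ (E : Y.Modules) (ι : E ⟶ F) (𝒯' : RelProj.QCGrAlg Y) (jE : E ⟶ 𝒯'.toModule)
      (u' : RelProj.QGrHom q 𝒯' 𝒮L)
      (hu'j : ∀ (U : Y.Opens) (x : Γ(E, U)),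
        (u'.app U).hom ((jE.app U) x) = (u.app U).hom ((jF.app U) ((ι.app U) x)))
      (U : Y.Opens) (hU : IsAffineOpen U) (e : Γ(E, U)) (V : X.Opens) (hV : IsAffineOpen V) (hle : V ≤ q ⁻¹ᵁ U),
      (u'.appLE U V hle).hom ((jE.app U) e : 𝒯'.presheaf.obj (op U)) =
        ((jL.app V) (Groth.Agent.Lib.Helper6.res L hle ((ι ≫ ψ).app U e)) : 𝒮L.presheaf.obj (op V)) := by
    intro E ι 𝒯' jE u' hu'j U hU e V hV hle
    have h1 := hutψ U hU (ι.app U e) V hV hle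
    rw [RelSpec.QHom.appLE_eq] at h1 ⊢
    rw [CommRingCat.hom_comp, RingHom.comp_apply] at h1 ⊢
    rw [hu'j U e]
    exact h1
  constructor
  · intro himm
    have : IsImmersion i' := by
      rw [hi'0]
      infer_instance
    obtain ⟨E₀, ι, hι, hq₀, hf₀, hfr₀, himm₀⟩ := Groth.Agent.Lib.T2H4.RLBridge.exists_ft_sub_isImmersion q F hFq 𝒯 jF
      h𝒯 p chart hP O1 lam hO1 L i' ψ hF2
    have : E₀.IsQuasicoherent := hq₀
    have := hι
    obtain ⟨𝒯', jE, hjE, P₀, p₀, chart₀, hP₀, O1₀, lam₀, hO1₀⟩ := Groth.Agent.Lib.T2H4.GrSym.exists_projBundle E₀ hq₀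
    obtain ⟨v, hv1, -⟩ := hjE.1 𝒯.toQCAlg (ι ≫ jF)
    have hv : RelProj.IsGradedHom v :=
      Groth.Agent.Lib.T2H4.RLBridge.isGradedHom_of_isGrSymAlg E₀ hjE v (fun U hU m => by
        rw [hv1]
        exact h𝒯.2 U hU (ι.app U m))
    obtain ⟨u', hu'0⟩ : ∃ u' : RelProj.QGrHom q 𝒯' 𝒮L, u' = Groth.Agent.Helper13RL.compOfHom u v hv := ⟨_, rfl⟩
    have hu'j : ∀ (U : Y.Opens) (x : Γ(E₀, U)),
        (u'.app U).hom ((jE.app U) x) = (u.app U).hom ((jF.app U) ((ι.app U) x)) := by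
      intro U x
      rw [hu'0, Groth.Agent.Helper13RL.compOfHom_app]
      have h1 := congrArg (fun φ => Scheme.Modules.Hom.app φ U x) hv1
      change (u.app U).hom ((v.hom.app (op U)).hom ((jE.app U) x)) = _
      congr 1
    obtain ⟨t', ht'0⟩ : ∃ t' : ∀ (U : Y.Opens) (hU : IsAffineOpen U) (e : Γ(E₀, U)), Γ(L, q ⁻¹ᵁ U),
        t' = fun U hU e => (ι ≫ ψ).app U e := ⟨_, rfl⟩
    have hut' : ∀ (U : Y.Opens) (hU : IsAffineOpen U) (e : Γ(E₀, U)) (V : X.Opens) (hV : IsAffineOpen V)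
        (hle : V ≤ q ⁻¹ᵁ U),
        (u'.appLE U V hle).hom ((jE.app U) e : 𝒯'.presheaf.obj (op U)) =
          ((jL.app V) (Groth.Agent.Lib.Helper6.res L hle (t' U hU e)) : 𝒮L.presheaf.obj (op V)) := by
      intro U hU e V hV hle
      rw [ht'0]
      exact key E₀ ι 𝒯' jE u' hu'j U hU e V hV hle
    have hfr' : ∀ x : X, ∃ (U : Y.Opens) (hU : IsAffineOpen U) (e : Γ(E₀, U)) (V : X.Opens) (hV : IsAffineOpen V)
        (hVU : V ≤ q ⁻¹ᵁ U), x ∈ V ∧
          Groth.Agent.Lib.Helper23.SecTw.IsGen L V (Groth.Agent.Lib.Helper6.res L hVU (t' U hU e)) := by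
      intro x
      obtain ⟨U, hU, e, V, hV, hVU, hxV, hgen⟩ := hfr₀ x
      refine ⟨U, hU, e, V, hV, hVU, hxV, ?_⟩
      rw [ht'0]
      exact hgen
    refine ⟨E₀, hq₀, hf₀, ι, fun U => Groth.Agent.Lib.Helper2.ModExact.app_injective_of_mono ι U, 𝒯', jE, hjE, u',
      hu'j, ?_, ?_⟩
    · intro x
      obtain ⟨U, hU, e, V, hV, hVU, hxV, hgen⟩ := hfr' x
      refine ⟨U, hU, e, V, hV, hVU, hxV, ?_⟩
      exact Groth.Agent.Lib.T2H4.RLBridge.deg_one_subset_span_of_isGen L jL hjL hLq V hV _ hgen _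
        (hut' U hU e V hV hVU)
    · intro P' p' chart' hP' r' hr'
      have hdef' : RelProj.domQ u' pL chartL = ⊤ :=
        Groth.Agent.Lib.T2H4.RLBridge.domQ_eq_top_of_frames u' pL chartL E₀ jE hjE L jL hjL t' hut' hfr' hLq
      refine ⟨hdef', ?_⟩
      have : IsIso (RelProj.domQ u' pL chartL).ι := Groth.Agent.Helper13RL.isIso_ι_of_eq_top hdef'
      obtain ⟨O1', lam', hO1'⟩ := Groth.Agent.Lib.Helper2.RelTwistExist.exists_isRelTwist p' chart' hP' 1
      obtain ⟨i'', hi''0⟩ : ∃ i'' : X ⟶ P', i'' = inv pL ≫ inv (RelProj.domQ u' pL chartL).ι ≫ r' := ⟨_, rfl⟩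
      have hi'' : (RelProj.domQ u' pL chartL).ι ≫ pL ≫ i'' = r' := by
        rw [hi''0, IsIso.hom_inv_id_assoc, IsIso.hom_inv_id_assoc]
      have hF3 : Groth.Agent.Lib.T2H4.RLBridge.IsFramed p' chart' E₀ jE hjE O1' lam' hO1' q L i'' t' :=
        Groth.Agent.Lib.T2H4.RLBridge.isFramed_of_isProjQMapOn u' p' chart' pL chartL E₀ jE hjE O1' lam' hO1' L jL hjL
          t' hut' hfr' hP' hPL hL hLq O1L lamL hO1L r' hr' i'' hi''
      rw [ht'0] at hF3
      have : IsImmersion i'' := himm₀ 𝒯' jE hjE p' chart' hP' O1' lam' hO1' i'' hF3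
      rw [← hi'']
      infer_instance
  · rintro ⟨E, hEq, hEf, ι, hιinj, 𝒯', jE, hjE, u', hu'j, hfr', hall⟩
    have : E.IsQuasicoherent := hEq
    obtain ⟨t', ht'0⟩ : ∃ t' : ∀ (U : Y.Opens) (hU : IsAffineOpen U) (e : Γ(E, U)), Γ(L, q ⁻¹ᵁ U),
        t' = fun U hU e => (ι ≫ ψ).app U e := ⟨_, rfl⟩
    have hut' : ∀ (U : Y.Opens) (hU : IsAffineOpen U) (e : Γ(E, U)) (V : X.Opens) (hV : IsAffineOpen V)
        (hle : V ≤ q ⁻¹ᵁ U),
        (u'.appLE U V hle).hom ((jE.app U) e : 𝒯'.presheaf.obj (op U)) =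
          ((jL.app V) (Groth.Agent.Lib.Helper6.res L hle (t' U hU e)) : 𝒮L.presheaf.obj (op V)) := by
      intro U hU e V hV hle
      rw [ht'0]
      exact key E ι 𝒯' jE u' hu'j U hU e V hV hle
    have hfr'' : ∀ x : X, ∃ (U : Y.Opens) (hU : IsAffineOpen U) (e : Γ(E, U)) (V : X.Opens) (hV : IsAffineOpen V)
        (hVU : V ≤ q ⁻¹ᵁ U), x ∈ V ∧
          Groth.Agent.Lib.Helper23.SecTw.IsGen L V (Groth.Agent.Lib.Helper6.res L hVU (t' U hU e)) := by
      intro x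
      obtain ⟨U, hU, e, V, hV, hVU, hxV, hspan⟩ := hfr' x
      refine ⟨U, hU, e, V, hV, hVU, hxV, ?_⟩
      exact Groth.Agent.Lib.T2H4.RLBridge.isGen_of_deg_one_subset_span L hjL hL V hV _ _ (hut' U hU e V hV hVU) hspan
    have hP' := Groth.Agent.Helper13ProjBC.isRelProj_relProj 𝒯'
    obtain ⟨r', hr'p⟩ := Groth.Agent.Helper13RelProj.exists_qmapOn u' hP' hPL
    have hr' := Groth.Agent.Helper13RelProj.isProjQMapOn_of_pieces u' r' hr'p
    obtain ⟨hdef', himm'⟩ := hall _ _ _ hP' r' hr'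
    have : IsIso (RelProj.domQ u' pL chartL).ι := Groth.Agent.Helper13RL.isIso_ι_of_eq_top hdef'
    obtain ⟨O1', lam', hO1'⟩ := Groth.Agent.Lib.Helper2.RelTwistExist.exists_isRelTwist _ _ hP' 1
    obtain ⟨i'', hi''0⟩ : ∃ i'' : X ⟶ Groth.Agent.Helper13ProjBC.relProj 𝒯',
        i'' = inv pL ≫ inv (RelProj.domQ u' pL chartL).ι ≫ r' := ⟨_, rfl⟩
    have hi'' : (RelProj.domQ u' pL chartL).ι ≫ pL ≫ i'' = r' := by
      rw [hi''0, IsIso.hom_inv_id_assoc, IsIso.hom_inv_id_assoc]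
    have hF3 : Groth.Agent.Lib.T2H4.RLBridge.IsFramed _ _ E jE hjE O1' lam' hO1' q L i'' t' :=
      Groth.Agent.Lib.T2H4.RLBridge.isFramed_of_isProjQMapOn u' _ _ pL chartL E jE hjE O1' lam' hO1' L jL hjL
        t' hut' hfr'' hP' hPL hL hLq O1L lamL hO1L r' hr' i'' hi''
    rw [ht'0] at hF3
    have : IsImmersion i'' := by
      rw [hi''0]
      infer_instance
    have : IsImmersion i' := Groth.Agent.Lib.T2H4.RLBridge.isImmersion_of_transfer q F hFq 𝒯 jF h𝒯 p chart hP O1 lam hO1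
      L i' ψ hF2 E hEq 𝒯' jE hjE _ _ hP' O1' lam' hO1' i'' (ι ≫ ψ) hF3 ι (fun U e₀ => rfl)
    rw [← hi']
    infer_instance

end Groth.Agent.S12689
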