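import Groth.Statements.S12692
import Mathlib
import Groth.Agent.Lib.Helper13RLj
import Groth.Agent.Lib.T2H4RLBridgeAB
import Groth.Agent.Lib.Helper13ProjLine
set_option backward.isDefEq.respectTransparency.types false

set_option autoImplicit false
universe u
open CategoryTheory CategoryTheory.Limits AlgebraicGeometry TopologicalSpace Opposite
open scoped HomogeneousIdeal
noncomputable section
open Coh

namespace Groth.Agent.S12692

/-- Let X be a quasi-compact scheme, L an invertible O_X-module with graded symmetric algebra 𝒮L =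
⊕_{d≥0} L^{⊗d} (whose relative Proj PL, given with its charts, is identified with X by its structure
morphism), f : X → Y a quasi-compact morphism to an AFFINE scheme Y, 𝒜 a quasi-coherent graded
O_Y-algebra given with a graded f-morphism u : 𝒜 → f_*𝒮L which is bijective on global sections — so
that Γ(Y, 𝒜) is the graded ring S = ⊕_d Γ(X, L^{⊗d}) and P = Proj(𝒜) (given with its charts) is
Proj(S) — and r : G(u) → P the canonical morphism on its open of definition G(u) ⊆ PL. If G(u) is
all of PL (that is, every point of X lies in an open X_s for some homogeneous s ∈ S_+), then r is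
quasi-compact and has dense image. (The published statement forms the homogeneous spectrum of the
graded ring S itself, with no base scheme; any affine Y under X gives the same graded ring, the same
homogeneous spectrum and the same morphism.) -/
theorem result {X Y P PL : Scheme.{u}} [CompactSpace X]
    (f : X ⟶ Y) [QuasiCompact f] (hY : IsAffineOpen (⊤ : Y.Opens))
    (L : X.Modules) (hL : PicF.IsInvertible L) (hLq : Coh.IsQCoh L)
    (𝒮L : RelProj.QCGrAlg X) (jL : L ⟶ 𝒮L.toModule) (hjL : RelProj.IsGrSymAlg L 𝒮L jL)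
    (pL : PL ⟶ X) (chartL : ∀ (U : X.Opens) (hU : IsAffineOpen U), (((pL ⁻¹ᵁ U : PL.Opens) : Scheme.{u}) ≅ Proj (𝒮L.deg U hU)))
    (hPL : RelProj.IsRelProj 𝒮L pL chartL)
    (𝒜 : RelProj.QCGrAlg Y) (u : RelProj.QGrHom f 𝒜 𝒮L)
    (p : P ⟶ Y) (chart : ∀ (U : Y.Opens) (hU : IsAffineOpen U), (((p ⁻¹ᵁ U : P.Opens) : Scheme.{u}) ≅ Proj (𝒜.deg U hU)))
    (hP : RelProj.IsRelProj 𝒜 p chart)
    (r : ((RelProj.domQ u pL chartL : PL.Opens) : Scheme.{u}) ⟶ P)
    (hr : RelProj.IsProjQMapOn u p chart pL chartL (RelProj.domQ u pL chartL) r)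
    (hu : Function.Bijective (u.app ⊤).hom)
    (htop : RelProj.domQ u pL chartL = ⊤) :
    QuasiCompact r ∧ IsDominant r := by
  classical
  have : L.IsQuasicoherent := hLq
  have : IsIso pL := Groth.Agent.Helper13ProjLine.isIso_relProj L 𝒮L jL hjL pL chartL hPL hL
  have : IsIso (RelProj.domQ u pL chartL).ι := Groth.Agent.Helper13RL.isIso_ι_of_eq_top htop
  constructor
  · -- quasi-compactness: the source is quasi-compact and the target quasi-separated
    have : IsAffine Y := by
      have : IsAffine (⊤ : Y.Opens).toScheme := hY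
      exact .of_isIso Y.topIso.inv
    have : IsSeparated p := Groth.Agent.Lib.T2H4.RLBridge.isSeparated_of_isRelProj' 𝒜 p chart hP
    have : QuasiSeparatedSpace P := quasiSeparatedSpace_of_quasiSeparated p
    have : CompactSpace ((RelProj.domQ u pL chartL : PL.Opens) : Scheme.{u}) :=
      (Scheme.homeoOfIso (asIso ((RelProj.domQ u pL chartL).ι ≫ pL))).symm.compactSpace
    infer_instance
  · rw [Groth.Agent.Helper13RL.isDominant_iff u hP hPL hr hY]
    intro n hn s hs hloc
    choose V hV hxV hnil using hloc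
    choose N hN using hnil
    obtain ⟨T, hT⟩ : ∃ T : Finset X, (Set.univ : Set X) ⊆ ⋃ x ∈ T, ((V x : X.Opens) : Set X) :=
      isCompact_univ.elim_finite_subcover (fun x => ((V x : X.Opens) : Set X)) (fun x => (V x).2)
        (fun x _ => Set.mem_iUnion.2 ⟨x, hxV x⟩)
    refine ⟨T.sup N, ?_⟩
    have hinj := hu.1
    apply hinj
    rw [map_zero]
    refine TopCat.Sheaf.eq_of_locally_eq' ⟨𝒮L.presheaf, 𝒮L.isSheaf⟩
      (fun x : T => V x.1) (f ⁻¹ᵁ ⊤) (fun x => homOfLE (le_top.trans (Scheme.Hom.preimage_top f).ge)) ?_ _ _ ?_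
    · intro x _
      have hx := hT (Set.mem_univ x)
      simp only [Set.mem_iUnion] at hx
      obtain ⟨y, hy, hxy⟩ := hx
      exact Opens.mem_iSup.mpr ⟨⟨y, hy⟩, hxy⟩
    · intro x
      rw [map_zero]
      have h1 : (u.appLE ⊤ (V x.1) (le_top.trans (Scheme.Hom.preimage_top f).ge)).hom (s ^ T.sup N) = 0 := by
        rw [map_pow]
        have hle : N x.1 ≤ T.sup N := Finset.le_sup (f := N) x.2
        obtain ⟨k, hk⟩ := Nat.exists_eq_add_of_le hle
        rw [hk, pow_add, hN x.1, zero_mul]
      rw [RelSpec.QHom.appLE_eq] at h1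
      exact h1

end Groth.Agent.S12692
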