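import Groth.Statements.S12783
import Groth.Agent.Lib.Helper17FibRepr2
import Groth.Agent.Lib.Helper17FibFp
import Groth.Agent.Lib.Helper17FibOver

set_option autoImplicit false
set_option backward.isDefEq.respectTransparency false
set_option backward.isDefEq.respectTransparency.types false
open CategoryTheory CategoryTheory.Limits
universe v u
open FibCat

namespace Groth.Agent.S12783

open Groth.Agent.Lib.Helper17

section

variable {C : Type u} [Category.{v} C]

theorem over_ext {Y : C} (Z W : Over Y) (h : Z.left = W.left) (h' : Z.hom = eqToHom h ≫ W.hom) :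
    Z = W := by
  obtain ⟨Zl, ⟨⟨⟩⟩, Zh⟩ := Z
  obtain ⟨Wl, ⟨⟨⟩⟩, Wh⟩ := W
  change Zl = Wl at h
  subst h
  change Zh = eqToHom rfl ≫ Wh at h'
  rw [eqToHom_refl, Category.id_comp] at h'
  subst h'
  rfl

/-- A functor over `C` between slices is composition with a morphism. -/
theorem exists_eq_overMap {U Y : C} (G : FibCat.overCat U ⥤ᵇ FibCat.overCat Y) :
    ∃ g : U ⟶ Y, G.toFunctor = Over.map g := by
  have hobj : ∀ A : Over U, Over.left (G.obj A : Over Y) = A.left := fun A => G.w_obj A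
  have hmap : ∀ {A B : Over U} (m : A ⟶ B),
      Over.Hom.left (G.map m : (G.obj A : Over Y) ⟶ (G.obj B : Over Y)) =
        eqToHom (hobj A) ≫ m.left ≫ eqToHom (hobj B).symm := by
    intro A B m
    exact Functor.congr_hom G.w m
  refine ⟨eqToHom (hobj (Over.mk (𝟙 U))).symm ≫ Over.hom (G.obj (Over.mk (𝟙 U)) : Over Y), ?_⟩
  have hhom : ∀ A : Over U, Over.hom (G.obj A : Over Y) = eqToHom (hobj A) ≫ A.hom ≫
      eqToHom (hobj (Over.mk (𝟙 U))).symm ≫ Over.hom (G.obj (Over.mk (𝟙 U)) : Over Y) := by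
    intro A
    have h1 := Over.w (G.map (Over.homMk A.hom : A ⟶ Over.mk (𝟙 U)) :
      (G.obj A : Over Y) ⟶ (G.obj (Over.mk (𝟙 U)) : Over Y))
    rw [hmap] at h1
    simpa using h1.symm
  refine Functor.ext (fun A => over_ext _ _ (hobj A) ?_) ?_
  · rw [hhom A]
    simp
  · intro A B m
    apply Over.OverMorphism.ext
    rw [hmap]
    erw [Over.comp_left, Over.comp_left, Over.eqToHom_left, Over.eqToHom_left, Over.map_map_left]

end

section Main

variable {C : Type u} [Category.{v} C] [HasPullbacks C]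

theorem isRepresentable_fp_overMap {U X Y : C} (g : U ⟶ Y) (f : X ⟶ Y)
    (hg : Over.map g ⋙ Over.forget Y = Over.forget U)
    (hf : Over.map f ⋙ Over.forget Y = Over.forget X) :
    FibCat.IsRepresentable (FibCat.fp (⟨Over.map g, hg⟩ : FibCat.overCat U ⥤ᵇ FibCat.overCat Y)
      (⟨Over.map f, hf⟩ : FibCat.overCat X ⥤ᵇ FibCat.overCat Y)) := by
  have hfp : FibCat.IsFibGrpd (FibCat.fp (⟨Over.map g, hg⟩ : FibCat.overCat U ⥤ᵇ FibCat.overCat Y)
      (⟨Over.map f, hf⟩ : FibCat.overCat X ⥤ᵇ FibCat.overCat Y)).p :=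
    isFibGrpd_fp _ _ (isFibSet_overForget U).1 (isFibSet_overForget X).1 (isFibSet_overForget Y).1
  have := IsFibGrpd.isFibered hfp
  rw [isRepresentable_iff]
  refine ⟨hfp, ?_⟩
  let ξ₀ : CategoricalPullback (Over.map g) (Over.map f) :=
    { fst := Over.mk (pullback.fst g f)
      snd := Over.mk (pullback.snd g f)
      iso := Over.isoMk (Iso.refl _) (by
        change 𝟙 _ ≫ pullback.snd g f ≫ f = pullback.fst g f ≫ g
        rw [Category.id_comp, pullback.condition]) }
  have hξ₀ : (Over.forget Y).IsHomLift (𝟙 (pullback g f)) ξ₀.iso.hom := by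
    apply IsHomLift.of_fac' (Over.forget Y) _ _ rfl rfl
    change 𝟙 _ = eqToHom rfl ≫ 𝟙 _ ≫ eqToHom rfl
    simp
  refine ⟨⟨ξ₀, hξ₀⟩, ?_⟩
  intro ρ
  have hρ : (Over.forget Y).IsHomLift (𝟙 (Over.left (ρ.obj.fst : Over U))) ρ.obj.iso.hom :=
    ρ.property
  have hB : Over.left (ρ.obj.snd : Over X) = Over.left (ρ.obj.fst : Over U) :=
    IsHomLift.codomain_eq (Over.forget Y) (𝟙 (Over.left (ρ.obj.fst : Over U))) ρ.obj.iso.hom
  have hι : Over.Hom.left ρ.obj.iso.hom = eqToHom hB.symm := by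
    have h := IsHomLift.fac' (Over.forget Y) (𝟙 (Over.left (ρ.obj.fst : Over U))) ρ.obj.iso.hom
    rw [Category.id_comp] at h
    exact h.trans (eqToHom_trans _ _)
  have hw0 : Over.Hom.left ρ.obj.iso.hom ≫ (Over.hom (ρ.obj.snd : Over X) ≫ f) =
      Over.hom (ρ.obj.fst : Over U) ≫ g := Over.w ρ.obj.iso.hom
  have cond : Over.hom (ρ.obj.fst : Over U) ≫ g =
      (eqToHom hB.symm ≫ Over.hom (ρ.obj.snd : Over X)) ≫ f := by
    rw [← hw0, hι, Category.assoc]
  let ℓ : Over.left (ρ.obj.fst : Over U) ⟶ pullback g f :=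
    pullback.lift (Over.hom (ρ.obj.fst : Over U)) (eqToHom hB.symm ≫ Over.hom (ρ.obj.snd : Over X)) cond
  let m₁ : (ρ.obj.fst : Over U) ⟶ Over.mk (pullback.fst g f) :=
    Over.homMk ℓ (pullback.lift_fst _ _ _)
  let m₂ : (ρ.obj.snd : Over X) ⟶ Over.mk (pullback.snd g f) :=
    Over.homMk (eqToHom hB ≫ ℓ) (by
      change (eqToHom hB ≫ ℓ) ≫ pullback.snd g f = _
      rw [Category.assoc, pullback.lift_snd, eqToHom_trans_assoc, eqToHom_refl, Category.id_comp])
  refine ⟨{ default := ObjectProperty.homMk ⟨m₁, m₂, ?_⟩, uniq := ?_ }⟩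
  · apply Over.OverMorphism.ext
    change (ℓ ≫ 𝟙 _) = Over.Hom.left ρ.obj.iso.hom ≫ (eqToHom hB ≫ ℓ)
    rw [hι, eqToHom_trans_assoc, eqToHom_refl, Category.id_comp, Category.comp_id]
  · intro φ
    let φ₁ : (ρ.obj.fst : Over U) ⟶ Over.mk (pullback.fst g f) := φ.hom.fst
    let φ₂ : (ρ.obj.snd : Over X) ⟶ Over.mk (pullback.snd g f) := φ.hom.snd
    let ι₁ : Over.left (ρ.obj.fst : Over U) ⟶ Over.left (ρ.obj.snd : Over X) :=
      Over.Hom.left ρ.obj.iso.hom
    have hι' : ι₁ = eqToHom hB.symm := hι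
    have hw0 : φ₁.left ≫ 𝟙 (pullback g f) = ι₁ ≫ φ₂.left :=
      congrArg Over.Hom.left φ.hom.w
    have hw : φ₁.left = eqToHom hB.symm ≫ φ₂.left := by
      rw [← hι']
      exact (Category.comp_id φ₁.left).symm.trans hw0
    have h1 : φ₁.left ≫ pullback.fst g f = Over.hom (ρ.obj.fst : Over U) := Over.w φ₁
    have h2 : φ₂.left ≫ pullback.snd g f = Over.hom (ρ.obj.snd : Over X) := Over.w φ₂
    have hfst : φ₁.left = ℓ := by
      apply pullback.hom_ext
      · rw [h1, pullback.lift_fst]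
      · rw [pullback.lift_snd, hw, Category.assoc, h2]
    apply ObjectProperty.hom_ext
    apply CategoricalPullback.hom_ext
    · apply Over.OverMorphism.ext
      exact hfst
    · apply Over.OverMorphism.ext
      change φ₂.left = eqToHom hB ≫ ℓ
      rw [← hfst, hw, eqToHom_trans_assoc, eqToHom_refl, Category.id_comp]

end Main

theorem result {C : Type u} [Category.{v} C] [HasPullbacks C] {X Y : C} (f : X ⟶ Y) :
    FibCat.IsRepresentable1 (⟨Over.map f, Over.mapForget_eq f⟩ : FibCat.overCat X ⥤ᵇ FibCat.overCat Y) := by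
  intro U G
  obtain ⟨g, hg⟩ := exists_eq_overMap G
  obtain ⟨G', hw⟩ := G
  change G' = Over.map g at hg
  subst hg
  exact isRepresentable_fp_overMap g f hw (Over.mapForget_eq f)

end Groth.Agent.S12783
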