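import Groth.Statements.S1292
import Groth.Agent.Lib.T2H1TorAmpWE
import Groth.Agent.Lib.Helper3IndEtHz
import Groth.Agent.S0736

set_option autoImplicit false
universe u
open CategoryTheory
attribute [local instance] HasDerivedCategory.standard
open FlatMor

namespace Groth.Agent.S1292

open Groth.Agent.Lib.T2H1.TorAmpWE Groth.Agent.Lib.T2H1.TorAmpBC DTen DerivedCategory in
/-- restriction of scalars in two steps, on derived categories -/
theorem nonempty_restrictD_comp_iso {A B C : Type u} [CommRing A] [CommRing B] [CommRing C]
    [Algebra A B] [Algebra B C] [Algebra A C] [IsScalarTower A B C] (K : Dual.D C) :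
    Nonempty ((DRing.restrictD (algebraMap A B)).obj ((DRing.restrictD (algebraMap B C)).obj K) ≅
      (DRing.restrictD (algebraMap A C)).obj K) := by
  let K₀ : DRing.Cx C := (Q : DRing.Cx C ⥤ Dual.D C).objPreimage K
  have eK : Q.obj K₀ ≅ K := (Q : DRing.Cx C ⥤ Dual.D C).objObjPreimageIso K
  exact ⟨(DRing.restrictD (algebraMap A B)).mapIso
      ((DRing.restrictD (algebraMap B C)).mapIso eK.symm ≪≫ (resFactors (algebraMap B C)).app K₀) ≪≫
    (resFactors (algebraMap A B)).app _ ≪≫
    Q.mapIso (resResCxIso (algebraMap A B) (algebraMap B C)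
      (IsScalarTower.algebraMap_eq A B C) K₀) ≪≫
    ((resFactors (algebraMap A C)).app K₀).symm ≪≫
    (DRing.restrictD (algebraMap A C)).mapIso eK⟩

open IsLocalRing in
/-- Let A be a ring, p a prime ideal of A, Ah a henselization and Ash a strict henselization of the
local ring A_p, with Ash an Ah-algebra compatibly with the structure maps from A_p, and a, b
integers. Tor amplitude is meant in the flat-representative form: an object of the derived category
of a ring has tor amplitude in [a, b] when it is isomorphic to a complex of flat modules vanishing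
outside degrees [a, b]. For K in D(Ash) the following are equivalent: K with scalars restricted to
A_p has tor amplitude in [a, b]; K with scalars restricted to Ah has tor amplitude in [a, b]; K has
tor amplitude in [a, b] over Ash. Moreover, for L in D(Ah): L with scalars restricted to A_p has tor
amplitude in [a, b] if and only if L has tor amplitude in [a, b] over Ah. (The published statement
is for a general scheme S; this is the case S = Spec A.) -/
theorem result {A : Type u} [CommRing A] (p : Ideal A) [p.IsPrime]
    (Ah Ash : Type u) [CommRing Ah] [IsLocalRing Ah] [CommRing Ash] [IsLocalRing Ash]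
    [Algebra (Localization.AtPrime p) Ah] [IsLocalHom (algebraMap (Localization.AtPrime p) Ah)] [Hensel.IsHenselization (Localization.AtPrime p) Ah]
    [Algebra (Localization.AtPrime p) Ash] [IsLocalHom (algebraMap (Localization.AtPrime p) Ash)] [Hensel.IsStrictHenselization (Localization.AtPrime p) Ash]
    [Algebra Ah Ash] [IsScalarTower (Localization.AtPrime p) Ah Ash]
    (a b : ℤ) (K : Dual.D Ash) (L : Dual.D Ah) :
    [DRing.HasTorAmplitudeIn (Localization.AtPrime p) a b ((DRing.restrictD (algebraMap (Localization.AtPrime p) Ash)).obj K),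
     DRing.HasTorAmplitudeIn Ah a b ((DRing.restrictD (algebraMap Ah Ash)).obj K),
     DRing.HasTorAmplitudeIn Ash a b K].TFAE ∧
    (DRing.HasTorAmplitudeIn (Localization.AtPrime p) a b ((DRing.restrictD (algebraMap (Localization.AtPrime p) Ah)).obj L) ↔
      DRing.HasTorAmplitudeIn Ah a b L) := by
  haveI : Algebra.WeaklyEtale (Localization.AtPrime p) Ah :=
    Groth.Agent.S0736.result _ _
      (Groth.Agent.Lib.Helper3.IndEt.isIndEtale_of_isHenselization (Localization.AtPrime p) Ah)
  haveI : Algebra.WeaklyEtale (Localization.AtPrime p) Ash :=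
    Groth.Agent.S0736.result _ _
      (Groth.Agent.Lib.Helper3.IndEt.isIndEtale_of_isStrictHenselization
        (Localization.AtPrime p) Ash)
  obtain ⟨e⟩ := nonempty_restrictD_comp_iso (A := Localization.AtPrime p) (B := Ah) (C := Ash) K
  have h12 : DRing.HasTorAmplitudeIn (Localization.AtPrime p) a b
      ((DRing.restrictD (algebraMap (Localization.AtPrime p) Ash)).obj K) ↔
      DRing.HasTorAmplitudeIn Ah a b ((DRing.restrictD (algebraMap Ah Ash)).obj K) := by
    rw [← Groth.Agent.Lib.T2H1.TorAmpWE.hasTorAmp_iff_of_weaklyEtale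
      (R := Localization.AtPrime p) (R' := Ah)]
    exact ⟨fun h => Groth.Agent.Lib.Helper1.Tor.hasTorAmp_of_iso e.symm h,
      fun h => Groth.Agent.Lib.Helper1.Tor.hasTorAmp_of_iso e h⟩
  have h13 := Groth.Agent.Lib.T2H1.TorAmpWE.hasTorAmp_iff_of_weaklyEtale
    (R := Localization.AtPrime p) (R' := Ash) K a b
  refine ⟨?_, Groth.Agent.Lib.T2H1.TorAmpWE.hasTorAmp_iff_of_weaklyEtale
    (R := Localization.AtPrime p) (R' := Ah) L a b⟩
  tfae_have 1 ↔ 2 := h12
  tfae_have 1 ↔ 3 := h13
  tfae_finish

end Groth.Agent.S1292
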