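import Groth.Statements.S12944
import Mathlib
import Groth.Agent.Lib.T2H6DiagSp

set_option autoImplicit false
universe u
open CategoryTheory AlgebraicGeometry
open AlgSt

namespace Groth.Agent.S12944

/-- For a morphism f of algebraic stacks that is representable by algebraic spaces, these three
conditions coincide: f is quasi-separated (every base change to a scheme is a quasi-separated
morphism of algebraic spaces); the diagonal of f is quasi-compact; the diagonal of f is of finite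
type. -/
theorem result
    (S : Scheme.{u}) (𝒳 : AlgSt.Cat S) (𝒴 : AlgSt.Cat S)
    (h𝒳 : AlgSt.IsAlgStack Scheme.fppfPrecoverage 𝒳)
    (h𝒴 : AlgSt.IsAlgStack Scheme.fppfPrecoverage 𝒴)
    (f : 𝒳 ⥤ᵇ 𝒴)
    (hf : AlgSt.RepByAlgSp1 f) :
    [AlgSt.RepByAlgSpWith AlgSp.IsQuasiSeparatedMor f,
      AlgSt.RepByAlgSpWith AlgSp.IsQuasiCompactMor (FibCat.diag f),
      AlgSt.RepByAlgSpWith AlgSp.IsFiniteTypeMor (FibCat.diag f)].TFAE := by
  have h12 : AlgSt.RepByAlgSpWith AlgSp.IsQuasiSeparatedMor f →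
      AlgSt.RepByAlgSpWith AlgSp.IsQuasiCompactMor (FibCat.diag f) := fun h =>
    Groth.Agent.Lib.Helper15DiagLft.repByAlgSpWith_mono (fun _ _ _ hk => hk.1) _
      (Groth.Agent.Lib.T2H6.DiagSp.repByAlgSpWith_qcqs_diag f h)
  have h21 : AlgSt.RepByAlgSpWith AlgSp.IsQuasiCompactMor (FibCat.diag f) →
      AlgSt.RepByAlgSpWith AlgSp.IsQuasiSeparatedMor f := fun h =>
    Groth.Agent.Lib.T2H6.DiagSp.repByAlgSpWith_isQuasiSeparatedMor_of_diag f hf h
  have h23 : AlgSt.RepByAlgSpWith AlgSp.IsQuasiCompactMor (FibCat.diag f) →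
      AlgSt.RepByAlgSpWith AlgSp.IsFiniteTypeMor (FibCat.diag f) := fun h =>
    Groth.Agent.Lib.T2H6.DiagSp.repByAlgSpWith_inf _ _
      (fun _ _ _ _ _ _ _ _ _ _ _ _ sq ha =>
        Groth.Agent.Lib.Helper15ImmQc.isQuasiCompactMor_of_isPullback sq ha) _
      (Groth.Agent.Lib.Helper15DiagLft.repByAlgSpWith_lft_diag' h𝒳 h𝒴.diag f) h
  have h32 : AlgSt.RepByAlgSpWith AlgSp.IsFiniteTypeMor (FibCat.diag f) →
      AlgSt.RepByAlgSpWith AlgSp.IsQuasiCompactMor (FibCat.diag f) := fun h =>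
    Groth.Agent.Lib.Helper15DiagLft.repByAlgSpWith_mono (fun _ _ _ hk => hk.2) _ h
  tfae_have 1 → 2 := h12
  tfae_have 2 → 1 := h21
  tfae_have 2 → 3 := h23
  tfae_have 3 → 2 := h32
  tfae_finish

end Groth.Agent.S12944
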