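import Groth.Statements.S12973
import Mathlib
import Groth.Agent.Lib.T2H6DiagSp
import Groth.Agent.Lib.T2H6Inertia

set_option autoImplicit false
universe u
open CategoryTheory AlgebraicGeometry
open AlgSt

namespace Groth.Agent.S12973

/-- For a morphism f : 𝒳 → 𝒴 of algebraic stacks the following are equivalent: the relative inertia
𝓘_{𝒳/𝒴} → 𝒳 is quasi-separated; the diagonal of f is quasi-separated; the neutral section 𝒳 →
𝓘_{𝒳/𝒴} is quasi-compact. All three morphisms are representable by algebraic spaces and the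
properties are the ones of such morphisms. -/
theorem result
    (S : Scheme.{u}) (𝒳 : AlgSt.Cat S) (𝒴 : AlgSt.Cat S)
    (h𝒳 : AlgSt.IsAlgStack Scheme.fppfPrecoverage 𝒳)
    (h𝒴 : AlgSt.IsAlgStack Scheme.fppfPrecoverage 𝒴)
    (f : 𝒳 ⥤ᵇ 𝒴) :
    [AlgSt.RepByAlgSpWith AlgSp.IsQuasiSeparatedMor (FibCat.inertiaToBase f),
      AlgSt.RepByAlgSpWith AlgSp.IsQuasiSeparatedMor (FibCat.diag f),
      AlgSt.RepByAlgSpWith AlgSp.IsQuasiCompactMor (FibCat.inertiaNeutral f)].TFAE := by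
  have hrep : AlgSt.RepByAlgSp1 (FibCat.diag f) :=
    Groth.Agent.Lib.Helper15DiagRepSp.repByAlgSp1_diag_of_diag f h𝒳.diag h𝒴.diag
  tfae_have 2 → 1 := fun h =>
    (Groth.Agent.Lib.T2H6.Inertia.repByAlgSpWith_inertiaToBase_iff f _).2
      (Groth.Agent.Lib.Helper17.repByAlgSpWith_fpFst _ (FibCat.diag f) (FibCat.diag f) h)
  tfae_have 1 → 3 := fun h =>
    Groth.Agent.Lib.Helper15DiagBase.repByAlgSpWith_section _ (FibCat.inertiaToBase f)
      (FibCat.inertiaNeutral f) (Groth.Agent.Lib.T2H6.Inertia.neutralSectionIso f)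
      (Groth.Agent.Lib.Helper15DiagLft.repByAlgSpWith_mono (fun _ _ _ hk => hk.1) _
        (Groth.Agent.Lib.T2H6.DiagSp.repByAlgSpWith_qcqs_diag (FibCat.inertiaToBase f) h))
  tfae_have 3 → 2 := fun h => by
    have h1 : AlgSt.RepByAlgSpWith AlgSp.IsQuasiCompactMor (FibCat.diag (FibCat.diag f)) :=
      (Groth.Agent.Lib.T2H6.Inertia.repByAlgSpWith_inertiaNeutral_iff f _).1 h
    exact Groth.Agent.Lib.T2H6.DiagSp.repByAlgSpWith_isQuasiSeparatedMor_of_diag (FibCat.diag f)
      hrep h1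
  tfae_finish

end Groth.Agent.S12973
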