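import Groth.Statements.S12974
import Mathlib
import Groth.Agent.Lib.T2H6DiagSp
import Groth.Agent.Lib.T2H6Inertia
import Groth.Agent.S10262
import Groth.Agent.S10531

set_option autoImplicit false
universe u
open CategoryTheory AlgebraicGeometry
open AlgSt

namespace Groth.Agent.S12974

/-- For a morphism f : 𝒳 → 𝒴 of algebraic stacks, the relative inertia 𝓘_{𝒳/𝒴} → 𝒳 is unramified if and
only if f is DM. -/
theorem result
    (S : Scheme.{u}) (𝒳 : AlgSt.Cat S) (𝒴 : AlgSt.Cat S)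
    (h𝒳 : AlgSt.IsAlgStack Scheme.fppfPrecoverage 𝒳)
    (h𝒴 : AlgSt.IsAlgStack Scheme.fppfPrecoverage 𝒴)
    (f : 𝒳 ⥤ᵇ 𝒴) :
    AlgSt.RepByAlgSpWith (AlgSp.LocP (@LocallyOfFiniteType ⊓ @FormallyUnramified)) (FibCat.inertiaToBase f) ↔
      AlgSt.IsDMMor f := by
  have hbc : Groth.Agent.Lib.Helper15DiagLft.BCStable (AlgSp.RepWith (S := S) @IsOpenImmersion) :=
    fun _ _ _ _ _ _ _ _ _ _ _ _ sq ha =>
      MorphismProperty.of_isPullback (P := AlgSp.RepWith @IsOpenImmersion) sq ha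
  constructor
  · intro h
    have h1 : AlgSt.RepByAlgSpWith (AlgSp.RepWith @IsOpenImmersion)
        (FibCat.diag (FibCat.inertiaToBase f)) :=
      Groth.Agent.Lib.T2H6.DiagSp.repByAlgSpWith_diag_of_forall_diagonal _
        (AlgSp.RepWith @IsOpenImmersion) hbc (FibCat.inertiaToBase f) h
        (fun F T φ hφ => by
          let Y : AlgSp.Space S := ⟨(AlgSp.yon S).obj T, AlgSp.IsAlgSpace.yon_obj T⟩
          let g : F ⟶ Y := ObjectProperty.homMk φ
          exact (Groth.Agent.S10262.result g).1 hφ)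
    have h2 : AlgSt.RepByAlgSpWith (AlgSp.RepWith @IsOpenImmersion) (FibCat.inertiaNeutral f) :=
      Groth.Agent.Lib.Helper15DiagBase.repByAlgSpWith_section _ (FibCat.inertiaToBase f)
        (FibCat.inertiaNeutral f) (Groth.Agent.Lib.T2H6.Inertia.neutralSectionIso f) h1
    have h3 : AlgSt.RepByAlgSpWith (AlgSp.RepWith @IsOpenImmersion)
        (FibCat.diag (FibCat.diag f)) :=
      (Groth.Agent.Lib.T2H6.Inertia.repByAlgSpWith_inertiaNeutral_iff f _).1 h2
    have h4 := Groth.Agent.Lib.Helper15DiagLft.repByAlgSpWith_lft_diag h𝒳 h𝒴 f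
    intro U y
    obtain ⟨F, e, he, hlft⟩ := h4 U y
    refine ⟨F, e, he, ?_⟩
    have hd := Groth.Agent.Lib.T2H6.DiagSp.diagonal_of_repByAlgSpWith_diag_st
      (AlgSp.RepWith @IsOpenImmersion) hbc
      (Groth.Agent.Lib.Helper15DiagDescent.isLocalOnBase_fppf_of_fpqc _
        (Groth.Agent.S10531.result S)) (FibCat.diag f) h3 U y F e he
    let Y : AlgSp.Space S := ⟨(AlgSp.yon S).obj U, AlgSp.IsAlgSpace.yon_obj U⟩
    let g : F ⟶ Y := ObjectProperty.homMk
      (AlgSt.spMapOfOver (BasedFunctor.comp e (FibCat.fpFst y (FibCat.diag f))))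
    exact (Groth.Agent.S10262.result g).2 hlft hd
  · intro h
    exact (Groth.Agent.Lib.T2H6.Inertia.repByAlgSpWith_inertiaToBase_iff f _).2
      (Groth.Agent.Lib.Helper17.repByAlgSpWith_fpFst _ (FibCat.diag f) (FibCat.diag f) h)

end Groth.Agent.S12974
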