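import Groth.Statements.S12979
import Mathlib
import Groth.Agent.Lib.T2H6DiagSp
import Groth.Agent.S9925

set_option autoImplicit false
universe u
open CategoryTheory AlgebraicGeometry
open AlgSt

namespace Groth.Agent.S12979

/-- If the first and second diagonals of a morphism f of algebraic stacks are both universally closed
(as morphisms representable by algebraic spaces), then f is separated. (The published statement is
an equivalence; this row states the implication from the two diagonals to separatedness.) -/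
theorem result
    (S : Scheme.{u}) (𝒳 : AlgSt.Cat S) (𝒴 : AlgSt.Cat S)
    (h𝒳 : AlgSt.IsAlgStack Scheme.fppfPrecoverage 𝒳)
    (h𝒴 : AlgSt.IsAlgStack Scheme.fppfPrecoverage 𝒴)
    (f : 𝒳 ⥤ᵇ 𝒴) :
    AlgSt.RepByAlgSpWith AlgSp.IsUnivClosedMor (FibCat.diag f) →
      AlgSt.RepByAlgSpWith AlgSp.IsUnivClosedMor (FibCat.diag (FibCat.diag f)) → AlgSt.IsSeparatedMor f := by
  intro h1 h2
  have hrep : AlgSt.RepByAlgSp1 (FibCat.diag f) :=
    Groth.Agent.Lib.Helper15DiagRepSp.repByAlgSp1_diag_of_diag f h𝒳.diag h𝒴.diag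
  have hsep : AlgSt.RepByAlgSpWith AlgSp.IsSeparatedMor (FibCat.diag f) :=
    Groth.Agent.Lib.T2H6.DiagSp.repByAlgSpWith_isSeparatedMor_of_diag (FibCat.diag f) hrep h2
  have hqc : AlgSt.RepByAlgSpWith AlgSp.IsQuasiCompactMor (FibCat.diag f) := by
    intro U y
    obtain ⟨F, e, he, hP⟩ := h1 U y
    let Y : AlgSp.Space S := ⟨(AlgSp.yon S).obj U, AlgSp.IsAlgSpace.yon_obj U⟩
    let φ : F ⟶ Y := ObjectProperty.homMk (AlgSt.spMapOfOver
      (BasedFunctor.comp e (FibCat.fpFst y (FibCat.diag f))))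
    exact ⟨F, e, he, Groth.Agent.S9925.result φ hP⟩
  have hlft : AlgSt.RepByAlgSpWith (AlgSp.LocP @LocallyOfFiniteType) (FibCat.diag f) :=
    Groth.Agent.Lib.Helper15DiagLft.repByAlgSpWith_lft_diag' h𝒳 h𝒴.diag f
  have ha := Groth.Agent.Lib.T2H6.DiagSp.repByAlgSpWith_inf _ _
    (fun _ _ _ _ _ _ _ _ _ _ _ _ sq ha =>
      Groth.Agent.Lib.Helper15ImmQc.isQuasiCompactMor_of_isPullback sq ha) _ hlft hqc
  have hb := Groth.Agent.Lib.T2H6.DiagSp.repByAlgSpWith_inf _ _
    (fun _ _ _ _ _ _ _ _ _ _ _ _ sq ha =>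
      Groth.Agent.Lib.Helper12.Proper.isUnivClosedMor_baseChange sq ha) _ ha h1
  have hc := Groth.Agent.Lib.T2H6.DiagSp.repByAlgSpWith_inf _ _
    (fun _ _ _ _ _ _ _ _ _ _ _ _ sq ha =>
      Groth.Agent.Lib.Helper12.Proper.isSeparatedMor_baseChange sq ha) _ hb hsep
  exact Groth.Agent.Lib.Helper15DiagLft.repByAlgSpWith_mono
    (fun _ _ _ hk => ⟨hk.2, ⟨hk.1.1.1, hk.1.1.2⟩, hk.1.2⟩) _ hc

end Groth.Agent.S12979
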