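import Groth.Statements.S12980
import Mathlib
import Groth.Agent.Lib.T2H6DiagSp

set_option autoImplicit false
universe u
open CategoryTheory AlgebraicGeometry
open AlgSt

namespace Groth.Agent.S12980

/-- A morphism f of algebraic stacks is quasi-separated if and only if its first and second diagonals
are both quasi-compact (as morphisms representable by algebraic spaces). -/
theorem result
    (S : Scheme.{u}) (𝒳 : AlgSt.Cat S) (𝒴 : AlgSt.Cat S)
    (h𝒳 : AlgSt.IsAlgStack Scheme.fppfPrecoverage 𝒳)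
    (h𝒴 : AlgSt.IsAlgStack Scheme.fppfPrecoverage 𝒴)
    (f : 𝒳 ⥤ᵇ 𝒴) :
    AlgSt.IsQuasiSeparatedMor f ↔
      AlgSt.RepByAlgSpWith AlgSp.IsQuasiCompactMor (FibCat.diag f) ∧
        AlgSt.RepByAlgSpWith AlgSp.IsQuasiCompactMor (FibCat.diag (FibCat.diag f)) := by
  have hrep : AlgSt.RepByAlgSp1 (FibCat.diag f) :=
    Groth.Agent.Lib.Helper15DiagRepSp.repByAlgSp1_diag_of_diag f h𝒳.diag h𝒴.diag
  constructor
  · intro hq
    refine ⟨Groth.Agent.Lib.Helper15DiagLft.repByAlgSpWith_mono (fun _ _ _ hk => hk.1) _ hq, ?_⟩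
    have h2 : AlgSt.RepByAlgSpWith AlgSp.IsQuasiSeparatedMor (FibCat.diag f) :=
      Groth.Agent.Lib.Helper15DiagLft.repByAlgSpWith_mono (fun _ _ _ hk => hk.2) _ hq
    exact Groth.Agent.Lib.Helper15DiagLft.repByAlgSpWith_mono (fun _ _ _ hk => hk.1) _
      (Groth.Agent.Lib.T2H6.DiagSp.repByAlgSpWith_qcqs_diag (FibCat.diag f) h2)
  · rintro ⟨h1, h2⟩
    have h3 : AlgSt.RepByAlgSpWith AlgSp.IsQuasiSeparatedMor (FibCat.diag f) :=
      Groth.Agent.Lib.T2H6.DiagSp.repByAlgSpWith_isQuasiSeparatedMor_of_diag (FibCat.diag f) hrep h2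
    exact Groth.Agent.Lib.T2H6.DiagSp.repByAlgSpWith_inf _ _
      (fun _ _ _ _ _ _ _ _ _ _ _ _ sq ha =>
        (AlgSp.RepWith @QuasiCompact).diagonal.of_isPullback sq ha) _ h1 h3

end Groth.Agent.S12980
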