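import Groth.Statements.S12988
import Mathlib
import Groth.Agent.Lib.T2H6QcProd
import Groth.Agent.S12987
import Groth.Agent.S12959
import Groth.Agent.S12954
import Groth.Agent.Lib.Helper15QsComp
import Groth.Agent.Lib.Helper15FpSwap
import Groth.Agent.Lib.Helper15DiagOfComp
import Groth.Agent.Lib.Helper17AlgStEquiv2

set_option autoImplicit false
universe u
open CategoryTheory AlgebraicGeometry
open AlgSt

namespace Groth.Agent.S12988

/-- Over a quasi-separated base scheme, a 2-fibre product of algebraic stacks that are quasi-compact and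
quasi-separated over the base scheme is quasi-compact and quasi-separated over the base scheme. (The
published statement is about stacks quasi-compact and quasi-separated over the integers and puts no
condition on the base scheme; this row assumes the base scheme quasi-separated and uses
quasi-separatedness over it. Without quasi-separatedness of the base the quasi-compactness
conclusion fails: for the base glued from two copies of infinite-dimensional affine space along the
complement of the origin, the two copies are quasi-compact and quasi-separated over the base while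
their fibre product over the base is that complement, which is not quasi-compact.) -/
theorem result
    (S : Scheme.{u}) [QuasiSeparatedSpace S] (𝒳 : AlgSt.Cat S) (𝒴 : AlgSt.Cat S) (𝒵 : AlgSt.Cat S)
    (h𝒳 : AlgSt.IsAlgStack Scheme.fppfPrecoverage 𝒳)
    (h𝒴 : AlgSt.IsAlgStack Scheme.fppfPrecoverage 𝒴)
    (h𝒵 : AlgSt.IsAlgStack Scheme.fppfPrecoverage 𝒵)
    (a : 𝒳 ⥤ᵇ 𝒴) (b : 𝒵 ⥤ᵇ 𝒴) :
    AlgSt.IsQuasiCompact 𝒳 → AlgSt.IsQuasiSeparatedOver 𝒳 →
      AlgSt.IsQuasiCompact 𝒴 → AlgSt.IsQuasiSeparatedOver 𝒴 →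
      AlgSt.IsQuasiCompact 𝒵 → AlgSt.IsQuasiSeparatedOver 𝒵 →
      AlgSt.IsQuasiCompact (FibCat.fp a b) ∧ AlgSt.IsQuasiSeparatedOver (FibCat.fp a b) := by
  intro hXc hXs _ hYs hZc hZs
  have hfpba : AlgSt.IsAlgStack Scheme.fppfPrecoverage (FibCat.fp b a) :=
    Groth.Agent.Lib.Helper15Atlas.isAlgStack_fp_of_isPrestack
      (Groth.Agent.Lib.Helper17.IsStack.isPrestack _ h𝒴.isStack) h𝒴.diag h𝒵 h𝒳 b a
  have ha : AlgSt.IsQuasiCompactMor Scheme.fppfPrecoverage a :=
    Groth.Agent.S12987.result S 𝒳 𝒴 h𝒳 h𝒴 a hXc hYs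
  have hqc1 : AlgSt.IsQuasiCompact (FibCat.fp b a) := ha 𝒵 h𝒵 hZc b
  have hqc : AlgSt.IsQuasiCompact (FibCat.fp a b) :=
    Groth.Agent.Lib.Helper17.isQuasiCompact_of_isEquivOver'
      (Groth.Agent.Lib.Helper15FpSwap.fpSwap a b)
      (Groth.Agent.Lib.Helper15FpSwap.isEquivOver_fpSwap a b) hqc1
  have hdiagY : AlgSt.RepByAlgSpWith AlgSp.IsQuasiSeparatedMor
      (FibCat.diag (FibCat.toSelf 𝒴)) :=
    Groth.Agent.Lib.Helper15DiagLft.repByAlgSpWith_mono (fun _ _ _ hk => hk.2) _ hYs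
  have haqs : AlgSt.IsQuasiSeparatedMor a := by
    refine Groth.Agent.S12959.result S 𝒳 𝒴 (FibCat.selfOver (Over S)) h𝒳 h𝒴
      Groth.Agent.Lib.T2H6.QcProd.isAlgStack_selfOver a (FibCat.toSelf 𝒴) ?_ hdiagY
    rw [Groth.Agent.Lib.Helper15QsComp.comp_toSelf a]
    exact hXs
  have h2 : AlgSt.IsQuasiSeparatedMor (FibCat.fpFst b a) :=
    Groth.Agent.S12954.result S 𝒳 𝒴 𝒵 h𝒳 h𝒴 h𝒵 a b haqs
  have h3 : AlgSt.IsQuasiSeparatedMor
      (BasedFunctor.comp (FibCat.fpFst b a) (FibCat.toSelf 𝒵)) :=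
    Groth.Agent.Lib.Helper15QsComp.isQuasiSeparatedMor_comp_st hfpba.isStack.1 h𝒵.isStack.1 _ _
      h2 hZs
  rw [Groth.Agent.Lib.Helper15QsComp.comp_toSelf] at h3
  have h4 := (Groth.Agent.Lib.Helper15DiagOfComp.repByAlgSpWith_diag_equiv_source _
    (Groth.Agent.Lib.Helper15FpSwap.fpSwap a b)
    (Groth.Agent.Lib.Helper15FpSwap.isEquivOver_fpSwap a b) (FibCat.toSelf (FibCat.fp b a))).1 h3
  rw [Groth.Agent.Lib.Helper15QsComp.comp_toSelf] at h4
  exact ⟨hqc, h4⟩

end Groth.Agent.S12988
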