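import Groth.Statements.S1299
import Groth.Agent.Lib.T2H2GenSpec

set_option autoImplicit false
universe u
open FlatMor

namespace Groth.Agent.S1299

open AlgebraicGeometry CategoryTheory Limits in
/-- Let f : X → Y be a morphism of finite type (locally of finite type and quasi-compact) with Y
irreducible, and let Z_1, …, Z_n be finitely many closed subsets of the generic fibre of f which
together cover it. For each i let T_i ⊆ X be the closure in X of the image of Z_i. Then there is a
nonempty open subset V ⊆ Y such that for every y ∈ V the fibre X_y is covered by the preimages of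
T_1, …, T_n. -/
theorem result {X Y : Scheme.{u}} (f : X ⟶ Y) [IrreducibleSpace ↑Y] [LocallyOfFiniteType f] [QuasiCompact f]
    {ι : Type} [Finite ι] (Z : ι → Set ↑(f.fiber (genericPoint ↑Y))) (hZ : ∀ i, IsClosed (Z i)) (hcov : ⋃ i, Z i = Set.univ) :
    ∃ V : Y.Opens, (V : Set ↑Y).Nonempty ∧ ∀ y ∈ V, ⋃ i, (f.fiberι y) ⁻¹' closure ((f.fiberι (genericPoint ↑Y)) '' Z i) = Set.univ := by
  obtain ⟨V, hVne, hV⟩ := Groth.Agent.Lib.T2H2.GenSpec.exists_open_forall_exists_specializes f
  refine ⟨V, hVne, fun y hy => ?_⟩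
  rw [Set.eq_univ_iff_forall]
  intro p
  have hfp : f (f.fiberι y p) = y := by
    have : f.fiberι y p ∈ Set.range (f.fiberι y) := ⟨p, rfl⟩
    rw [Scheme.Hom.range_fiberι] at this
    exact this
  obtain ⟨x₀, hx₀, hsp⟩ := hV (f.fiberι y p) (by rw [hfp]; exact hy)
  have hx₀' : x₀ ∈ Set.range (f.fiberι (genericPoint ↑Y)) := by
    rw [Scheme.Hom.range_fiberι]
    exact hx₀
  obtain ⟨q, hq⟩ := hx₀'
  have hqZ : q ∈ ⋃ i, Z i := hcov ▸ Set.mem_univ q
  obtain ⟨i, hi⟩ := Set.mem_iUnion.mp hqZ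
  refine Set.mem_iUnion.mpr ⟨i, ?_⟩
  change f.fiberι y p ∈ closure ((f.fiberι (genericPoint ↑Y)) '' Z i)
  have h1 : f.fiberι y p ∈ closure ({x₀} : Set X) := specializes_iff_mem_closure.mp hsp
  have h2 : ({x₀} : Set X) ⊆ (f.fiberι (genericPoint ↑Y)) '' Z i :=
    Set.singleton_subset_iff.mpr ⟨q, hi, hq⟩
  exact closure_mono h2 h1

end Groth.Agent.S1299
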