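import Groth.Statements.S13006
import Mathlib
import Groth.Agent.S13005
import Groth.Agent.Lib.T2H6LocQDescent
import Groth.Agent.Lib.Helper15LocQRep

set_option autoImplicit false
universe u
open CategoryTheory AlgebraicGeometry
open AlgSt

namespace Groth.Agent.S13006

/-- If a morphism f of algebraic stacks is locally of finite type then its diagonal is locally of finite
presentation. (The second assertion adds the quasi-compactness clauses on both sides.) -/
theorem result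
    (S : Scheme.{u}) (𝒳 : AlgSt.Cat S) (𝒴 : AlgSt.Cat S)
    (h𝒳 : AlgSt.IsAlgStack Scheme.fppfPrecoverage 𝒳)
    (h𝒴 : AlgSt.IsAlgStack Scheme.fppfPrecoverage 𝒴)
    (f : 𝒳 ⥤ᵇ 𝒴) :
    AlgSt.LocQ (AlgSp.LocP @LocallyOfFiniteType) f → AlgSt.LocQ (AlgSp.LocP @LocallyOfFinitePresentation) (FibCat.diag f) := by
  intro hf
  have hfp : AlgSt.IsAlgStack Scheme.fppfPrecoverage (FibCat.fp f f) :=
    Groth.Agent.Lib.Helper15Atlas.isAlgStack_fp_of_isPrestack
      (Groth.Agent.Lib.Helper17.IsStack.isPrestack _ h𝒴.isStack) h𝒴.diag h𝒳 h𝒳 f f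
  have h1 : AlgSt.LocQ (AlgSp.LocP @LocallyOfFiniteType) (FibCat.fpFst f f) :=
    Groth.Agent.Lib.T2H6.LocQBC.locQ_fpFst _ Groth.Agent.Lib.Helper15LocQProps.isSmoothLocalST_lft
      Groth.Agent.Lib.Helper15DiagLft.bcStable_lft h𝒳 h𝒴 h𝒳 f f hf
  have hid : AlgSt.RepByAlgSpWith (AlgSp.LocP @LocallyOfFinitePresentation) (BasedFunctor.id 𝒳) :=
    Groth.Agent.Lib.Helper15PtsTop.lfp_of_smooth
      (Groth.Agent.Lib.Helper15EquivRep.repByAlgSpWith_of_isEquivOver _
        Groth.Agent.Lib.Helper15SmLoc.locP_smooth_id _ (Groth.Agent.Lib.Helper17.isEquivOver_id _))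
  have h2 : AlgSt.LocQ (AlgSp.LocP @LocallyOfFinitePresentation)
      (BasedFunctor.comp (FibCat.diag f) (FibCat.fpFst f f)) :=
    Groth.Agent.Lib.T2H6.LocQDescent.locQ_of_iso _ (Iso.refl _)
      (Groth.Agent.Lib.Helper15LocQRep.locQ_of_repByAlgSpWith _
        Groth.Agent.Lib.Helper15LocQProps.isSmoothLocalST_lfp h𝒳 h𝒳 (BasedFunctor.id 𝒳) hid)
  exact Groth.Agent.S13005.result S 𝒳 (FibCat.fp f f) 𝒳 h𝒳 hfp h𝒳 (FibCat.diag f) (FibCat.fpFst f f) h2 h1

end Groth.Agent.S13006
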