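import Groth.Statements.S13043
import Mathlib
import Groth.Agent.S12210
import Groth.Agent.Lib.Helper10DedFlat

set_option autoImplicit false
set_option linter.style.haveILetI false
universe u
open CoPerf

namespace Groth.Agent.S13043

open CategoryTheory AlgebraicGeometry TopologicalSpace

/-- In a Noetherian scheme every point of a closed set is a specialisation of a point of the set
which has no proper generisation inside the set. -/
theorem exists_maximal_generization (S : Scheme.{u}) [IsNoetherian S] (T : Set S) (x : S)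
    (hx : x ∈ T) : ∃ ξ ∈ T, ξ ⤳ x ∧ ∀ y ∈ T, y ⤳ ξ → y = ξ := by
  have hfin : ∀ z : S, Order.coheight z ≠ ⊤ := by
    intro z hz
    have h1 := ringKrullDim_stalk_eq_coheight z
    have h2 : ringKrullDim (S.presheaf.stalk z) < ⊤ := ringKrullDim_lt_top
    rw [h1, hz] at h2
    exact absurd h2 (by simp)
  let G : Set S := {ξ | ξ ∈ T ∧ ξ ⤳ x}
  have hG : G.Nonempty := ⟨x, hx, specializes_rfl⟩
  obtain ⟨ξ, hξG, hmin⟩ := WellFounded.has_min
    (InvImage.wf (fun z : S => Order.coheight z) wellFounded_lt) G hG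
  refine ⟨ξ, hξG.1, hξG.2, fun y hyT hyξ => ?_⟩
  by_contra hne
  have hlt : ξ < y := by
    refine lt_of_le_not_ge hyξ fun h => hne ?_
    exact ((Specializes.antisymm (show ξ ⤳ y from h) hyξ).symm).eq
  have h1 := Order.coheight_add_one_le hlt
  have h2 : Order.coheight y < Order.coheight ξ :=
    lt_of_lt_of_le (ENat.lt_add_one_iff (hfin y) |>.mpr le_rfl) h1
  exact hmin y ⟨hyT, hyξ.trans hξG.2⟩ h2

/-- Around a maximal point of the complement of a dense open with affine inclusion, every proper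
generisation lies in any given dense open. -/
theorem mem_of_specializes_maximal (S : Scheme.{u}) [IsNoetherian S] (U V : S.Opens)
    (hU : Dense (U : Set S)) (hUV : U ≤ V) [IsAffineHom V.ι] (ξ : S) (hξ : ξ ∉ V)
    (hmax : ∀ y : S, y ∉ V → y ⤳ ξ → y = ξ) (η : S) (hη : η ⤳ ξ) (hne : η ≠ ξ) : η ∈ U := by
  have hVd : Dense (V : Set S) := hU.mono hUV
  have hdim := Groth.Agent.S12210.result S V ξ hξ hmax (hVd ξ)
  rw [ringKrullDim_stalk_eq_coheight] at hdim
  have hdim' : Order.coheight ξ = 1 := by exact_mod_cast hdim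
  apply Groth.Agent.S12210.mem_of_mem_closure_of_forall_specializes S U η (hU η)
  intro ζ hζ
  by_contra hne2
  have h1 : ξ < η := by
    refine lt_of_le_not_ge hη fun h => hne ?_
    exact ((Specializes.antisymm (show ξ ⤳ η from h) hη).symm).eq
  have h2 : η < ζ := by
    refine lt_of_le_not_ge hζ fun h => hne2 ?_
    exact ((Specializes.antisymm (show η ⤳ ζ from h) hζ).symm).eq
  have h3 := Order.coheight_add_one_le h1
  have h4 := Order.coheight_add_one_le h2
  rw [hdim'] at h3
  have h6 : (1 : ℕ∞) + 1 ≤ 1 :=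
    calc (1 : ℕ∞) + 1 ≤ (Order.coheight ζ + 1) + 1 := by gcongr; exact le_add_self
      _ ≤ Order.coheight η + 1 := by gcongr
      _ ≤ 1 := h3
  have h7 : ((2 : ℕ) : ℕ∞) ≤ ((1 : ℕ) : ℕ∞) := by
    have h8 : ((2 : ℕ) : ℕ∞) = 1 + 1 := by norm_num
    rw [h8]
    exact_mod_cast h6
  exact absurd (Nat.cast_le.mp h7) (by norm_num)

/-- The maximal points of the complement of an open subset of a Noetherian scheme are finite in
number. -/
theorem finite_maximal_points_compl (S : Scheme.{u}) [IsNoetherian S] (U : S.Opens) :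
    {ξ : S | ξ ∉ U ∧ ∀ y : S, y ∉ U → y ⤳ ξ → y = ξ}.Finite := by
  let Z : Set S := (U : Set S)ᶜ
  have hZ : IsClosed Z := isClosed_compl_iff.mpr U.isOpen
  haveI : QuasiSober Z := hZ.isClosedEmbedding_subtypeVal.quasiSober
  let M' : Set Z := {z | ∀ y : Z, y ⤳ z → y = z}
  let g : Z → Set Z := fun z => closure {z}
  have hg : g '' M' ⊆ irreducibleComponents Z := by
    rintro _ ⟨z, hz, rfl⟩
    exact Groth.Agent.Lib.Helper10.DedFlat.closure_mem_irreducibleComponents_of_max
      (fun y' hy' => by rw [hz y' hy'])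
  have hginj : Set.InjOn g M' := by
    intro a _ b _ hab
    exact (inseparable_iff_closure_eq.mpr hab).eq
  have hM' : M'.Finite :=
    Set.Finite.of_finite_image (NoetherianSpace.finite_irreducibleComponents.subset hg) hginj
  refine (hM'.image Subtype.val).subset ?_
  rintro ξ ⟨hξ, hmax⟩
  refine ⟨⟨ξ, hξ⟩, ?_, rfl⟩
  intro y hy
  apply Subtype.ext
  exact hmax y.1 y.2 ((subtype_specializes_iff y ⟨ξ, hξ⟩).mp hy)

/-- The intersection of two opens with affine inclusion has affine inclusion. -/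
theorem isAffineHom_inf_ι (S : Scheme.{u}) (V W : S.Opens) [IsAffineHom V.ι] [IsAffineHom W.ι] :
    IsAffineHom (V ⊓ W).ι := by
  have hpb := isPullback_opens_inf V W
  haveI : IsAffineHom (S.homOfLE (inf_le_right : V ⊓ W ≤ W)) :=
    MorphismProperty.of_isPullback (P := @IsAffineHom) hpb inferInstance
  have h : (V ⊓ W).ι = S.homOfLE (inf_le_right : V ⊓ W ≤ W) ≫ W.ι := (S.homOfLE_ι _).symm
  rw [h]
  infer_instance

open AlgebraicGeometry in
/-- For a Noetherian scheme S that is separated, and a dense open subset U ⊆ S that is not empty, only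
finitely many open subsets V ⊇ U have an affine inclusion morphism V → S, and among them there is
one contained in all the others (a least element for inclusion). -/
theorem result
    (S : Scheme.{u}) [IsNoetherian S] [S.IsSeparated] (U : S.Opens)
    (hne : (U : Set S).Nonempty) (hU : Dense (U : Set S)) :
    Set.Finite {V : S.Opens | U ≤ V ∧ IsAffineHom V.ι} ∧
      ∃ V₀ : S.Opens, (U ≤ V₀ ∧ IsAffineHom V₀.ι) ∧
        ∀ V : S.Opens, U ≤ V → IsAffineHom V.ι → V₀ ≤ V := by
  classical
  let M : Set S := {ξ : S | ξ ∉ U ∧ ∀ y : S, y ∉ U → y ⤳ ξ → y = ξ}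
  have hM : M.Finite := finite_maximal_points_compl S U
  let Φ : S.Opens → Set S := fun V => M ∩ (V : Set S)ᶜ
  -- the complement of a good open is the set of specialisations of its maximal points
  have key : ∀ V : S.Opens, U ≤ V → IsAffineHom V.ι →
      (V : Set S)ᶜ = {x | ∃ ξ ∈ Φ V, ξ ⤳ x} := by
    intro V hUV hV
    ext x
    constructor
    · intro hx
      obtain ⟨ξ, hξT, hξx, hmax⟩ := exists_maximal_generization S (V : Set S)ᶜ x hx
      refine ⟨ξ, ⟨⟨fun h => hξT (hUV h), fun y hyU hyξ => ?_⟩, hξT⟩, hξx⟩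
      by_contra hne
      exact hyU (mem_of_specializes_maximal S U V hU hUV ξ hξT
        (fun y hy hyξ => hmax y hy hyξ) y hyξ hne)
    · rintro ⟨ξ, ⟨-, hξV⟩, hξx⟩ hxV
      exact hξV (hξx.mem_open V.isOpen hxV)
  have hinj : Set.InjOn Φ {V : S.Opens | U ≤ V ∧ IsAffineHom V.ι} := by
    rintro V₁ ⟨h1, h1'⟩ V₂ ⟨h2, h2'⟩ h
    have h3 : (V₁ : Set S)ᶜ = (V₂ : Set S)ᶜ := by
      rw [key V₁ h1 h1', key V₂ h2 h2', h]
    exact TopologicalSpace.Opens.ext (compl_injective h3)
  have hfin : Set.Finite {V : S.Opens | U ≤ V ∧ IsAffineHom V.ι} := by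
    refine Set.Finite.of_finite_image (hM.finite_subsets.subset ?_) hinj
    rintro _ ⟨V, -, rfl⟩
    exact Set.inter_subset_left
  refine ⟨hfin, ?_⟩
  have hP : ∀ s : Finset S.Opens, (∀ V ∈ s, U ≤ V ∧ IsAffineHom V.ι) →
      U ≤ s.inf id ∧ IsAffineHom (s.inf id).ι := by
    intro s
    induction s using Finset.induction_on with
    | empty =>
      intro _
      refine ⟨le_top, ?_⟩
      rw [Finset.inf_empty]
      haveI : IsIso (⊤ : S.Opens).ι := S.topIso.isIso_hom
      infer_instance
    | insert V s hVs ih =>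
      intro h
      obtain ⟨h1, h1'⟩ := h V (Finset.mem_insert_self V s)
      obtain ⟨h2, h2'⟩ := ih (fun W hW => h W (Finset.mem_insert_of_mem hW))
      rw [Finset.inf_insert, id]
      exact ⟨le_inf h1 h2, isAffineHom_inf_ι S V (s.inf id)⟩
  refine ⟨hfin.toFinset.inf id, hP _ (fun V hV => (hfin.mem_toFinset.mp hV)), ?_⟩
  intro V hUV hV
  exact Finset.inf_le (f := id) (hfin.mem_toFinset.mpr ⟨hUV, hV⟩)

end Groth.Agent.S13043
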