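import Groth.Statements.S13071
import Groth.Agent.Lib.T2H7GaloisOrbit

set_option autoImplicit false
universe u
open CategoryTheory AlgebraicGeometry Limits
open Zeta

namespace Groth.Agent.S13071

/-- For a variety X over a perfect field k with algebraic closure k̄, the fibres of the projection π :
X_{k̄} → X are exactly the orbits of G(k̄/k) acting on X_{k̄} (σ acting as id × Spec σ). Stated for
any scheme of finite type over k; each τ_σ is pinned by τ_σ ≫ pr_1 = pr_1 and τ_σ ≫ pr_2 = pr_2 ≫
Spec σ. -/
theorem result {k : Type u} [Field k] [PerfectField k]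
    {X : Scheme.{u}} (f : X ⟶ Spec (CommRingCat.of k)) [LocallyOfFiniteType f] [QuasiCompact f]
    (τ : (AlgebraicClosure k ≃ₐ[k] AlgebraicClosure k) →
      (pullback f (Spec.map (CommRingCat.ofHom (algebraMap k (AlgebraicClosure k)))) ⟶
        pullback f (Spec.map (CommRingCat.ofHom (algebraMap k (AlgebraicClosure k))))))
    (hτ1 : ∀ σ, τ σ ≫ pullback.fst f _ = pullback.fst f _)
    (hτ2 : ∀ σ, τ σ ≫ pullback.snd f (Spec.map (CommRingCat.ofHom (algebraMap k (AlgebraicClosure k)))) =
        pullback.snd f _ ≫ Spec.map (CommRingCat.ofHom (σ : AlgebraicClosure k →+* AlgebraicClosure k)))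
    (x y : ↑(pullback f (Spec.map (CommRingCat.ofHom (algebraMap k (AlgebraicClosure k)))))) :
    (pullback.fst f (Spec.map (CommRingCat.ofHom (algebraMap k (AlgebraicClosure k))))).base x =
        (pullback.fst f (Spec.map (CommRingCat.ofHom (algebraMap k (AlgebraicClosure k))))).base y ↔
      ∃ σ, (τ σ).base x = y := by
  constructor
  · intro hxy
    obtain ⟨Ω, _, a, b, hab, ha, hb⟩ :=
      Groth.Agent.Lib.T2H7.GaloisOrbit.exists_Spec_field_of_map_eq
        (pullback.fst f (Spec.map (CommRingCat.ofHom (algebraMap k (AlgebraicClosure k))))) x y hxy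
    -- the two embeddings of `k̄`
    let jx : CommRingCat.of (AlgebraicClosure k) ⟶ CommRingCat.of Ω :=
      Spec.preimage (a ≫ pullback.snd f _)
    let jy : CommRingCat.of (AlgebraicClosure k) ⟶ CommRingCat.of Ω :=
      Spec.preimage (b ≫ pullback.snd f _)
    have hjx : Spec.map jx = a ≫ pullback.snd f _ := Spec.map_preimage _
    have hjy : Spec.map jy = b ≫ pullback.snd f _ := Spec.map_preimage _
    have h0 : CommRingCat.ofHom (algebraMap k (AlgebraicClosure k)) ≫ jx =
        CommRingCat.ofHom (algebraMap k (AlgebraicClosure k)) ≫ jy := by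
      apply Spec.map_injective
      rw [Spec.map_comp, Spec.map_comp, hjx, hjy, Category.assoc, Category.assoc,
        ← pullback.condition, ← Category.assoc, ← Category.assoc, hab]
    have h : jx.hom.comp (algebraMap k (AlgebraicClosure k)) =
        jy.hom.comp (algebraMap k (AlgebraicClosure k)) := by
      have := congrArg CommRingCat.Hom.hom h0
      exact this
    obtain ⟨σ, hσ⟩ := Groth.Agent.Lib.T2H7.GaloisOrbit.exists_algEquiv_comp jx.hom jy.hom h
    refine ⟨σ, ?_⟩
    have hσ' : CommRingCat.ofHom (σ : AlgebraicClosure k →+* AlgebraicClosure k) ≫ jx = jy := by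
      ext z
      exact RingHom.congr_fun hσ z
    have key : a ≫ τ σ = b := by
      apply pullback.hom_ext
      · rw [Category.assoc, hτ1, hab]
      · rw [Category.assoc, hτ2, ← Category.assoc, ← hjx, ← Spec.map_comp, hσ', hjy]
    have hne : Nonempty (Spec (CommRingCat.of Ω)) := inferInstance
    obtain ⟨s⟩ := hne
    rw [← ha s, ← hb s, ← key]
    rfl
  · rintro ⟨σ, rfl⟩
    have := congrArg (fun q => q.base x) (hτ1 σ)
    exact this.symm

end Groth.Agent.S13071
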