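import Groth.Statements.S13080
import Groth.Agent.Lib.T2H7CosetQuot

set_option autoImplicit false
universe u
open CategoryTheory AlgebraicGeometry Limits
open Zeta

namespace Groth.Agent.S13080

open Groth.Agent.Lib.Helper20 Groth.Agent.Lib.T2H7.CosetQuot in
/-- Let G be a finite group acting by algebraic automorphisms over k on a scheme X of finite type over k
admitting a quotient p : X → X/G, H ⊆ G a subgroup and Y ⊆ X an open subset preserved by H such that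
X is the disjoint union of the translates Y g over the cosets of G mod H. Then the natural morphism
Y/H → X/G is an isomorphism: Y → X/G is a quotient of Y by H. The action of H on Y is pinned by
compatibility with the inclusion Y → X; the coset condition is stated as: the translates of Y cover
X, and g(Y) is disjoint from Y for g ∉ H. -/
theorem result {k : Type u} [Field k] {G : Type u} [Group G]
    [Finite G] {X XG : Scheme.{u}} (fX : X ⟶ Spec (CommRingCat.of k)) [LocallyOfFiniteType fX]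
    [QuasiCompact fX] (ρ : G →* Aut X) (hρ : ∀ g, (ρ g).hom ≫ fX = fX) (p : X ⟶ XG)
    (hP : SGA1.IsQuot ρ p) (H : Subgroup G) (Y : X.Opens)
    (hcov : ∀ x : X, ∃ g : G, x ∈ (ρ g).hom.base '' (Y : Set X))
    (hdisj : ∀ g : G, g ∉ H → Disjoint ((ρ g).hom.base '' (Y : Set X)) (Y : Set X))
    (ρY : H →* Aut (Y : Scheme.{u})) (hρY : ∀ h : H, (ρY h).hom ≫ Y.ι = Y.ι ≫ (ρ (h : G)).hom) :
    SGA1.IsQuot ρY (Y.ι ≫ p) := by
  -- `Y` is `H`-stable
  have hst : ∀ (h : H) (x : X), x ∈ Y → (ρ (h : G)).hom.base x ∈ Y := by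
    intro h x hx
    have h1 : (Y.ι ≫ (ρ (h : G)).hom).base ⟨x, hx⟩ = ((ρY h).hom ≫ Y.ι).base ⟨x, hx⟩ := by
      rw [hρY h]
    have h2 : (ρ (h : G)).hom.base x = Y.ι.base ((ρY h).hom.base ⟨x, hx⟩) := h1
    rw [h2]
    exact ((ρY h).hom.base ⟨x, hx⟩).2
  -- `Y` is closed
  have hYc : IsClosed (Y : Set X) := by
    rw [← isOpen_compl_iff, isOpen_iff_forall_mem_open]
    intro x hx
    obtain ⟨g, y, hy, rfl⟩ := hcov x
    have hg : g ∉ H := fun hg => hx (hst ⟨g, hg⟩ y hy)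
    refine ⟨(ρ g).hom.base '' (Y : Set X), ?_, ?_, ⟨y, hy, rfl⟩⟩
    · exact (hdisj g hg).subset_compl_right
    · exact (ρ g).hom.isOpenEmbedding.isOpenMap _ Y.isOpen
  have haffι : IsAffineHom Y.ι :=
    isAffineHom_of_isInducing _ Y.ι.isOpenEmbedding.isInducing
      (by rw [Scheme.Opens.range_ι]; exact hYc)
  have haff : IsAffineHom (Y.ι ≫ p) := by
    have := hP.affine
    infer_instance
  have hinv : ∀ h : H, (ρY h).hom ≫ (Y.ι ≫ p) = Y.ι ≫ p := by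
    intro h
    rw [← Category.assoc, hρY h, Category.assoc, hP.inv]
  have hpinv : ∀ (g : G) (x : X), p.base ((ρ g).hom.base x) = p.base x := by
    intro g x
    have h1 : ((ρ g).hom ≫ p).base x = p.base x := by rw [hP.inv]
    exact h1
  -- the data over an open `U`
  have hmain : ∀ U : XG.Opens, ∃ (V : X.Opens) (hVT : V ≤ p ⁻¹ᵁ U)
      (hd : ∀ h : G, h ∈ H → V ≤ (ρ h).hom ⁻¹ᵁ V),
      V = Y.ι ''ᵁ ((Y.ι ≫ p) ⁻¹ᵁ U) ∧
      (∀ x ∈ p ⁻¹ᵁ U, ∃ g : G, (ρ g).hom.base x ∈ V) ∧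
      (∀ (g g' : G) (x : X), (ρ g).hom.base x ∈ V → (ρ g').hom.base x ∈ V → g' * g⁻¹ ∈ H) := by
    intro U
    have hmem : ∀ x : X, x ∈ Y.ι ''ᵁ ((Y.ι ≫ p) ⁻¹ᵁ U) ↔ x ∈ Y ∧ x ∈ p ⁻¹ᵁ U := by
      intro x
      constructor
      · rintro ⟨y, hy, rfl⟩
        exact ⟨y.2, hy⟩
      · rintro ⟨hxY, hxT⟩
        exact ⟨⟨x, hxY⟩, hxT, rfl⟩
    refine ⟨Y.ι ''ᵁ ((Y.ι ≫ p) ⁻¹ᵁ U), fun x hx => ((hmem x).mp hx).2, ?_, rfl, ?_, ?_⟩
    · intro h hh x hx
      obtain ⟨hxY, hxT⟩ := (hmem x).mp hx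
      refine (hmem _).mpr ⟨hst ⟨h, hh⟩ x hxY, ?_⟩
      change p.base ((ρ h).hom.base x) ∈ U
      rw [hpinv]
      exact hxT
    · intro x hx
      obtain ⟨g, y, hy, rfl⟩ := hcov x
      refine ⟨g⁻¹, ?_⟩
      rw [base_inv_base]
      refine (hmem _).mpr ⟨hy, ?_⟩
      have : p.base ((ρ g).hom.base y) ∈ U := hx
      rw [hpinv] at this
      exact this
    · intro g g' x hx hx'
      by_contra hh
      have h1 : (ρ g').hom.base x = (ρ (g' * g⁻¹)).hom.base ((ρ g).hom.base x) := by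
        rw [← base_mul, inv_mul_cancel_right]
      exact Set.disjoint_left.mp (hdisj _ hh)
        ⟨(ρ g).hom.base x, ((hmem _).mp hx).1, h1.symm⟩ ((hmem _).mp hx').1
  refine ⟨haff, hinv, fun U => ?_, fun U s => ⟨?_, ?_⟩⟩
  · -- injectivity
    obtain ⟨V, hVT, hd, hV, hb, hc⟩ := hmain U
    subst hV
    have happ : ∀ a : Γ(XG, U), ((Y.ι ≫ p).app U).hom a =
        (X.presheaf.map (homOfLE hVT).op).hom ((p.app U).hom a) := by
      intro a
      rw [Scheme.Hom.comp_app]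
      rfl
    intro a b hab
    rw [happ, happ] at hab
    apply hP.injective U
    refine eq_of_invariant hVT (fun g => SGA1.preimage_le_of_inv ρ p hP.inv g U) hb _ _ ?_ ?_ hab
    · exact (hP.range_iff U _).mp ⟨a, rfl⟩
    · exact (hP.range_iff U _).mp ⟨b, rfl⟩
  · rintro ⟨a, rfl⟩ h
    have := appLE_invariant (σ := fun h : H => (ρY h).hom) hinv U ((Y.ι ≫ p) ⁻¹ᵁ U) le_rfl h
      (SGA1.preimage_le_of_inv ρY (Y.ι ≫ p) hinv h U) a
    rw [Scheme.Hom.appLE_eq_app] at this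
    exact this
  · intro hs
    obtain ⟨V, hVT, hd, hV, hb, hc⟩ := hmain U
    subst hV
    have happ : ∀ a : Γ(XG, U), ((Y.ι ≫ p).app U).hom a =
        (X.presheaf.map (homOfLE hVT).op).hom ((p.app U).hom a) := by
      intro a
      rw [Scheme.Hom.comp_app]
      rfl
    -- compare the two actions
    have hcmp : ∀ (h : H) (e : (Y.ι ≫ p) ⁻¹ᵁ U ≤ (ρY h).hom ⁻¹ᵁ ((Y.ι ≫ p) ⁻¹ᵁ U))
        (e' : Y.ι ''ᵁ ((Y.ι ≫ p) ⁻¹ᵁ U) ≤ (ρ (h : G)).hom ⁻¹ᵁ (Y.ι ''ᵁ ((Y.ι ≫ p) ⁻¹ᵁ U))),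
        ((ρY h).hom.appLE _ _ e).hom s = ((ρ (h : G)).hom.appLE _ _ e').hom s := by
      intro h e e'
      have e₁ : (Y.ι ≫ p) ⁻¹ᵁ U ≤ Y.ι ⁻¹ᵁ (Y.ι ''ᵁ ((Y.ι ≫ p) ⁻¹ᵁ U)) := by
        rw [Scheme.Hom.preimage_image_eq]
      have h3 : Y.ι.appLE _ _ e₁ = 𝟙 _ := by
        rw [Scheme.Opens.ι_appLE]
        exact X.presheaf.map_id _
      have h1 : Y.ι.appLE _ _ e₁ ≫ (ρY h).hom.appLE _ _ e =
          (ρ (h : G)).hom.appLE _ _ e' ≫ Y.ι.appLE _ _ e₁ := by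
        rw [Scheme.Hom.appLE_comp_appLE, Scheme.Hom.appLE_comp_appLE]
        exact appLE_congr_hom (hρY h) _ _ _
      rw [h3] at h1
      have h4 : (ρY h).hom.appLE _ _ e = (ρ (h : G)).hom.appLE _ _ e' :=
        (Category.id_comp _).symm.trans (h1.trans (Category.comp_id _))
      exact congrArg (fun f => f.hom s) h4
    obtain ⟨t, ht1, ht2⟩ := exists_invariant_extension hVT
      (fun g => SGA1.preimage_le_of_inv ρ p hP.inv g U) hb H hc hd s
      (fun h hh => by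
        rw [← hcmp ⟨h, hh⟩ (SGA1.preimage_le_of_inv ρY (Y.ι ≫ p) hinv ⟨h, hh⟩ U) (hd h hh)]
        exact hs ⟨h, hh⟩)
    obtain ⟨a, rfl⟩ := (hP.range_iff U t).mpr ht2
    exact ⟨a, (happ a).trans ht1⟩
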