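import Groth.Statements.S13104
import Groth.Agent.Lib.T2H7SpecEpi

set_option autoImplicit false
universe u
open GrpSch

namespace Groth.Agent.S13104

open TrivSqZeroExt in
/-- in a trivial square-zero extension an element differs from its first component by a
nilpotent -/
lemma isNilpotent_sub_inl {R M : Type*} [CommRing R] [AddCommGroup M] [Module R M]
    [Module Rᵐᵒᵖ M] [IsCentralScalar R M] (x : TrivSqZeroExt R M) :
    IsNilpotent (x - TrivSqZeroExt.inl x.fst) := by
  rw [TrivSqZeroExt.isNilpotent_iff_isNilpotent_fst]
  simp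

/-- every element of the double dual numbers is an element of `B` plus a nilpotent -/
lemma exists_nilpotent_decomp (B : Type*) [CommRing B] (t : DualNumber (DualNumber B)) :
    IsNilpotent (t - algebraMap B (DualNumber (DualNumber B)) t.fst.fst) := by
  have h1 : t - algebraMap B (DualNumber (DualNumber B)) t.fst.fst =
      (t - TrivSqZeroExt.inl t.fst) +
        TrivSqZeroExt.inl (t.fst - TrivSqZeroExt.inl t.fst.fst) := by
    have : algebraMap B (DualNumber (DualNumber B)) t.fst.fst =
        TrivSqZeroExt.inl (TrivSqZeroExt.inl t.fst.fst) := rfl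
    rw [this, TrivSqZeroExt.inl_sub]
    abel
  rw [h1]
  have hc : Commute (t - TrivSqZeroExt.inl t.fst)
      (TrivSqZeroExt.inl (t.fst - TrivSqZeroExt.inl t.fst.fst) : DualNumber (DualNumber B)) :=
    by rw [commute_iff_eq]; exact mul_comm (t - TrivSqZeroExt.inl t.fst) _
  refine Commute.isNilpotent_add hc (isNilpotent_sub_inl t) ?_
  rw [TrivSqZeroExt.isNilpotent_inl_iff]
  exact isNilpotent_sub_inl t.fst


/-- an element of the dual numbers is in a prime iff its first component is -/
lemma mem_prime_iff_fst (B : Type*) [CommRing B] (q : Ideal (DualNumber B)) [q.IsPrime]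
    (x : DualNumber B) : x ∈ q ↔ algebraMap B (DualNumber B) x.fst ∈ q := by
  have hn : x - TrivSqZeroExt.inl x.fst ∈ q := by
    obtain ⟨k, hk⟩ := isNilpotent_sub_inl x
    exact Ideal.IsPrime.mem_of_pow_mem inferInstance k (hk ▸ q.zero_mem)
  have he : algebraMap B (DualNumber B) x.fst = TrivSqZeroExt.inl x.fst := rfl
  rw [he]
  constructor
  · intro hx
    have := q.sub_mem hx hn
    simpa using this
  · intro hx
    have := q.add_mem hn hx
    simpa using this

section psi

variable {B : Type*} [CommRing B] (ψ : DualNumber B →+* DualNumber (DualNumber B))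
  (hψB : ∀ b : B, ψ (algebraMap B (DualNumber B) b) = algebraMap B (DualNumber (DualNumber B)) b)
  (hψ : ψ DualNumber.eps =
    algebraMap (DualNumber B) (DualNumber (DualNumber B)) DualNumber.eps * DualNumber.eps)

include hψB hψ in
lemma psi_apply (x : DualNumber B) :
    ψ x = TrivSqZeroExt.inl (TrivSqZeroExt.inl x.fst) +
      TrivSqZeroExt.inr (TrivSqZeroExt.inr x.snd) := by
  have hx : x = algebraMap B (DualNumber B) x.fst +
      algebraMap B (DualNumber B) x.snd * DualNumber.eps := by
    have h1 := (TrivSqZeroExt.inl_fst_add_inr_snd_eq x).symm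
    have h2 : (TrivSqZeroExt.inr x.snd : DualNumber B) =
        algebraMap B (DualNumber B) x.snd * DualNumber.eps := by
      rw [DualNumber.inr_eq_smul_eps, Algebra.smul_def]
    rw [h2] at h1
    exact h1
  conv_lhs => rw [hx]
  rw [map_add, map_mul, hψB, hψB, hψ]
  have hB : ∀ a : B, algebraMap B (DualNumber (DualNumber B)) a =
      TrivSqZeroExt.inl (TrivSqZeroExt.inl a) := fun a => rfl
  have hD : ∀ d : DualNumber B, algebraMap (DualNumber B) (DualNumber (DualNumber B)) d =
      TrivSqZeroExt.inl d := fun d => rfl
  rw [hB, hB, hD]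
  ext <;> simp

include hψB hψ in
lemma psi_injective : Function.Injective ψ := by
  intro x y h
  rw [psi_apply ψ hψB hψ x, psi_apply ψ hψB hψ y] at h
  have h1 := congrArg (fun z => z.fst.fst) h
  have h2 := congrArg (fun z => z.snd.snd) h
  simp at h1 h2
  exact TrivSqZeroExt.ext h1 h2

include hψB hψ in
lemma psi_fst_fst (x : DualNumber B) : (ψ x).fst.fst = x.fst := by
  rw [psi_apply ψ hψB hψ x]
  simp

end psi

open CategoryTheory AlgebraicGeometry in
/-- Let B be a commutative ring, B[ε] the ring of dual numbers (ε² = 0) and B[α, β]/(α², β²) the double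
dual numbers, realised as dual numbers over the dual numbers with α the inner and β the outer
generator, and let ψ : B[ε] → B[α, β]/(α², β²) be the B-algebra homomorphism with ψ(ε) = αβ. Then
for every scheme G the map u ↦ Spec(ψ) ≫ u from morphisms Spec B[ε] → G to morphisms Spec
B[α,β]/(α²,β²) → G is injective. (The printed statement is its consequence for a group scheme G: the
map Lie(G)(B) → G(B[α,β]/(α²,β²)), x ↦ exp(αβ x), is injective; the injectivity on all B[ε]-points
stated here is what the printed argument establishes.) -/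
theorem result (B : Type u) [CommRing B]
    (ψ : DualNumber B →+* DualNumber (DualNumber B))
    (hψB : ∀ b : B, ψ (algebraMap B (DualNumber B) b) = algebraMap B (DualNumber (DualNumber B)) b)
    (hψ : ψ DualNumber.eps = algebraMap (DualNumber B) (DualNumber (DualNumber B)) DualNumber.eps * DualNumber.eps)
    (G : Scheme.{u}) :
    Function.Injective (fun u : Spec (CommRingCat.of (DualNumber B)) ⟶ G =>
      Spec.map (CommRingCat.ofHom (R := DualNumber B) (S := DualNumber (DualNumber B)) ψ) ≫ u) := by
  have hinj : Function.Injective ψ := psi_injective ψ hψB hψ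
  have hepi : Epi (Spec.map
      (CommRingCat.ofHom (R := DualNumber B) (S := DualNumber (DualNumber B)) ψ)) := by
    apply Groth.Agent.Lib.T2H7.SpecEpi.epi_specMap
    · -- surjectivity on spectra
      intro q
      let π' : DualNumber (DualNumber B) →+* B :=
        (TrivSqZeroExt.fstHom B B B).toRingHom.comp
          (TrivSqZeroExt.fstHom (DualNumber B) (DualNumber B) (DualNumber B)).toRingHom
      let q₀ : Ideal B := q.asIdeal.comap (algebraMap B (DualNumber B))
      have : q₀.IsPrime := Ideal.comap_isPrime _ _
      refine ⟨⟨q₀.comap π', Ideal.comap_isPrime _ _⟩, ?_⟩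
      apply PrimeSpectrum.ext
      ext x
      show π' (ψ x) ∈ q₀ ↔ x ∈ q.asIdeal
      have h1 : π' (ψ x) = x.fst := psi_fst_fst ψ hψB hψ x
      rw [h1, mem_prime_iff_fst B q.asIdeal x]
      rfl
    · intro p
      apply Groth.Agent.Lib.T2H7.SpecEpi.localRingHom_injective _ hinj
      intro t ht
      obtain ⟨k, hk⟩ := exists_nilpotent_decomp B t
      set β : DualNumber (DualNumber B) :=
        algebraMap B (DualNumber (DualNumber B)) t.fst.fst with hβ
      have hdvd : t ∣ β ^ k := by
        have h1 := sub_dvd_pow_sub_pow β (-(t - β)) k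
        have h2 : β - -(t - β) = t := by ring
        have h3 : (-(t - β)) ^ k = 0 := by rw [neg_pow, hk, mul_zero]
        rwa [h2, h3, sub_zero] at h1
      obtain ⟨t', ht'⟩ := hdvd
      refine ⟨t', (algebraMap B (DualNumber B) t.fst.fst) ^ k, ?_, ?_⟩
      · show t * t' = ψ ((algebraMap B (DualNumber B) t.fst.fst) ^ k)
        rw [map_pow, hψB, ← ht']
      · show ψ ((algebraMap B (DualNumber B) t.fst.fst) ^ k) ∉ p.asIdeal
        rw [map_pow, hψB]
        intro hmem
        have hβp : β ∈ p.asIdeal := Ideal.IsPrime.mem_of_pow_mem p.isPrime k hmem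
        have hnp : t - β ∈ p.asIdeal :=
          Ideal.IsPrime.mem_of_pow_mem p.isPrime k (hk ▸ p.asIdeal.zero_mem)
        apply ht
        have := p.asIdeal.add_mem hnp hβp
        simpa using this
  intro u₁ u₂ h
  exact (cancel_epi _).mp h

end Groth.Agent.S13104
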