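import Groth.Statements.S13109
import Groth.Agent.Lib.T2H8ComplDVR
import Groth.Agent.Lib.Helper4TotalFracFin
import Groth.Agent.Lib.Helper11SN

set_option autoImplicit false
universe u
open HTop

namespace Groth.Agent.S13109

open AlgebraicGeometry W4c1hilbchowinc in
/-- Let A be a Noetherian seminormal ring whose integral closure in its total ring of fractions is a
finite A-module. Then a pointwise function on Spec A — one element of the residue field κ(y) for
every point y — which varies algebraically along complete discrete valuation rings (for every
complete discrete valuation ring R and every morphism Spec R → Spec A there is an element of R whose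
values at the two points of Spec R are the images of the chosen values) is the family of values of
exactly one global section. Seminormal is meant in the sense that x^3 = y^2 forces x = a^2 and y =
a^3 for a unique a, which for reduced Noetherian rings is equivalent to the criterion on elements of
the total ring of fractions; test rings range over the universe of A. -/
theorem result
    (A : Type u) [CommRing A] [IsNoetherianRing A] (hA : HTop.IsSeminormalRing A)
    (hfin : Module.Finite A (integralClosure A (FractionRing A)))
    (f : PtFun (Spec (CommRingCat.of A))) (hf : f.VariesAlongCompleteDVR) :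
    ∃! a : Γ(Spec (CommRingCat.of A), ⊤), PtFun.ofSection (Spec (CommRingCat.of A)) a = f := by
  have : IsReduced A := Groth.Agent.Lib.Helper11.isReduced_of_isSeminormalRing hA
  have hf' : f.VariesAlongDVR :=
    Groth.Agent.Lib.T2H8.ComplDVR.variesAlongDVR_of_variesAlongCompleteDVR f hf
  let Abar : Subalgebra A (FractionRing A) := integralClosure A (FractionRing A)
  let ψ : A →+* Abar := algebraMap A Abar
  have hinj : Function.Injective ψ := by
    intro a a' h
    exact IsFractionRing.injective A (FractionRing A) (congrArg Subtype.val h)
  have hint : ψ.IsIntegral := fun x => Algebra.IsIntegral.isIntegral (R := A) x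
  have : Module.Finite A Abar := hfin
  have : IsNoetherianRing Abar := Algebra.FiniteType.isNoetherianRing A Abar
  have : IsReduced Abar := isReduced_of_injective Abar.val Subtype.val_injective
  have hAbar : ∀ (p : Ideal Abar) [p.IsPrime],
      IsDomain (Localization.AtPrime p) ∧ IsIntegrallyClosed (Localization.AtPrime p) := by
    have : IsFractionRing Abar (FractionRing A) :=
      Groth.Agent.Lib.Helper4.TotalFracFin.isFractionRing_subalgebra Abar
    have hic : IsIntegrallyClosed Abar :=
      (isIntegrallyClosed_iff_isIntegrallyClosedIn (FractionRing A)).mpr inferInstance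
    intro p _
    exact Groth.Agent.Lib.Helper4.TotalFracFin.forall_localization_of_isIntegrallyClosedIn_fractionRing
      (minimalPrimes.finite_of_isNoetherianRing Abar) hic p
  let ν := Spec.map (CommRingCat.ofHom ψ)
  have hfbar : (f.pullback ν).VariesAlongDVR := by
    intro R _ _ _ g
    rw [← Groth.Agent.Lib.T2H8.SubInt.pullback_comp]
    exact hf' R (CategoryTheory.CategoryStruct.comp g ν)
  obtain ⟨abar', habar⟩ :=
    Groth.Agent.Lib.T2H8.NormalPtFun.exists_ofSection_eq Abar hAbar (f.pullback ν) hfbar
  obtain ⟨abar, rfl⟩ := Groth.Agent.Lib.T2H8.SubInt.sec_surjective Abar abar'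
  obtain ⟨a, ha⟩ := Groth.Agent.Lib.T2H8.SubInt.exists_eq_of_ofSection_eq_pullback hA ψ hinj hint
    abar f habar
  have hνsurj : Function.Surjective ν := hint.comap_surjective hinj
  have hfa : PtFun.ofSection _ (Groth.Agent.Lib.T2H8.SubInt.sec A a) = f := by
    apply Groth.Agent.Lib.T2H8.SubInt.eq_of_pullback_eq ν hνsurj
    rw [Groth.Agent.Lib.T2H8.SubInt.pullback_ofSection, Groth.Agent.Lib.T2H8.SubInt.appTop_sec, ha]
    exact habar
  refine ⟨_, hfa, fun a' ha' => ?_⟩
  rw [← sub_eq_zero]
  apply Groth.Agent.Lib.T2H8.PtFunSN.eq_zero_of_forall_Γevaluation
  intro x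
  rw [map_sub, sub_eq_zero]
  exact congrFun (ha'.trans hfa.symm) x

end Groth.Agent.S13109
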