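import Groth.Statements.S13129
import Mathlib
import Groth.Agent.Lib.T2H6ResolEulerC
import Groth.Agent.Lib.T2H6ResolGeomA
import Groth.Agent.Lib.T2H6BirNormal
import Groth.Agent.Lib.T2H5GenIsoF
import Groth.Agent.Lib.Helper6SmGeom
import Groth.Agent.S0037
import Groth.Agent.S0042

set_option autoImplicit false
set_option backward.isDefEq.respectTransparency.types false
set_option linter.style.haveILetI false
universe u
open CategoryTheory CategoryTheory.Limits AlgebraicGeometry
open KumFam

namespace Groth.Agent.S13129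

/-- Let k be an algebraically closed field, Y a proper normal surface over k (irreducible of dimension 2
with integrally closed local domains), X a proper smooth surface over k, and π : X → Y a k-morphism
which restricts to an isomorphism over Y minus a closed point y and whose fibre over y is
one-dimensional (a resolution of the singularity (Y, y)). Then R¹π_* O_X = 0 (first higher direct
image of the underlying abelian sheaf) if and only if χ(X, O_X) = χ(Y, O_Y). -/
theorem result (k : Type u) [Field k] [IsAlgClosed k]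
    (X Y : Scheme.{u}) [X.Over (Spec (CommRingCat.of k))] [Y.Over (Spec (CommRingCat.of k))]
    [IsProper (X ↘ Spec (CommRingCat.of k))] [IsProper (Y ↘ Spec (CommRingCat.of k))]
    [IrreducibleSpace X] [IrreducibleSpace Y] (hdX : topologicalKrullDim X = 2)
    (hdY : topologicalKrullDim Y = 2) [Smooth (X ↘ Spec (CommRingCat.of k))]
    (hYn : Pi1.IsNormalScheme Y) (π : X ⟶ Y) [π.IsOver (Spec (CommRingCat.of k))]
    (y : Y) (hy : IsClosed ({y} : Set Y))
    (hiso : IsIso (π ∣_ (⟨({y} : Set Y)ᶜ, hy.isOpen_compl⟩ : Y.Opens)))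
    (hfib : topologicalKrullDim ((fun x : X => π.base x) ⁻¹' ({y} : Set Y)) = 1) :
    IsZero ((Coh.RpushAb π 1).obj (Coh.toAb (Coh.structureModule X))) ↔
      Curv2.euler k X (Coh.structureModule X) = Curv2.euler k Y (Coh.structureModule Y) := by
  haveI : IsReduced X := Groth.Agent.Lib.Helper6.SmGeom.isReduced_of_smooth_over_field k X
    (X ↘ Spec (CommRingCat.of k))
  haveI : IsIntegral X := isIntegral_of_irreducibleSpace_of_isReduced X
  haveI : IsReduced Y := by
    haveI : ∀ z : Y, _root_.IsReduced (Y.presheaf.stalk z) := fun z => by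
      haveI := (hYn z).1
      infer_instance
    exact isReduced_of_isReduced_stalk Y
  haveI : IsIntegral Y := isIntegral_of_irreducibleSpace_of_isReduced Y
  haveI : IsLocallyNoetherian Y :=
    LocallyOfFiniteType.isLocallyNoetherian (Y ↘ Spec (CommRingCat.of k))
  have hf : π ≫ (Y ↘ Spec (CommRingCat.of k)) = X ↘ Spec (CommRingCat.of k) :=
    (Scheme.Hom.isOver_iff (S := Spec (CommRingCat.of k))).1 inferInstance
  haveI : IsProper (π ≫ (Y ↘ Spec (CommRingCat.of k))) := by rw [hf]; infer_instance
  haveI : IsProper π := IsProper.of_comp π (Y ↘ Spec (CommRingCat.of k))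
  haveI := hiso
  have hUne : ((⟨({y} : Set Y)ᶜ, hy.isOpen_compl⟩ : Y.Opens) : Set Y).Nonempty := by
    by_contra hempty
    rw [Set.not_nonempty_iff_eq_empty] at hempty
    have hsub : Subsingleton Y := by
      constructor
      intro a b
      have ha : a ∈ ({y} : Set Y) := by
        by_contra h
        have : a ∈ (({y} : Set Y)ᶜ) := h
        have h2 : a ∈ ((⟨({y} : Set Y)ᶜ, hy.isOpen_compl⟩ : Y.Opens) : Set Y) := this
        rw [hempty] at h2
        exact h2
      have hb : b ∈ ({y} : Set Y) := by
        by_contra h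
        have : b ∈ (({y} : Set Y)ᶜ) := h
        have h2 : b ∈ ((⟨({y} : Set Y)ᶜ, hy.isOpen_compl⟩ : Y.Opens) : Set Y) := this
        rw [hempty] at h2
        exact h2
      rw [Set.mem_singleton_iff] at ha hb
      rw [ha, hb]
    have h0 : topologicalKrullDim Y ≤ 0 := topologicalKrullDim_zero_of_discreteTopology Y
    rw [hdY] at h0
    exact absurd h0 (by norm_num)
  haveI hO := Groth.Agent.Lib.T2H6.BirNormal.isIso_unitToPush_of_normal π hYn _ hUne
  have hcoh : Coh.IsCoh (Coh.structureModule X) := Groth.Agent.Lib.T2H5.GenIsoF.isCoh_structureModule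
  have hZ : ∀ T : Set Y, T ⊆ ({y} : Set Y) → IsClosed T := by
    intro T hT
    rcases Set.subset_singleton_iff_eq.1 hT with rfl | rfl
    · exact isClosed_empty
    · exact hy
  have hfinU : ∀ x : Y, x ≠ y → ∀ q : ℕ, 0 < q →
      IsZero (TopCat.Presheaf.stalk ((Coh.RpushAb π q).obj (Coh.toAb (Coh.structureModule X))).obj x) :=
    fun x hx q hq => Groth.Agent.S0037.result π x
      (Groth.Agent.Lib.T2H6.ResolGeom.finite_fibre_of_isIso_restrict π _ x
        (show x ∈ (⟨({y} : Set Y)ᶜ, hy.isOpen_compl⟩ : Y.Opens) from hx)) _ hcoh q hq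
  have h1 : ∀ x : Y, x ∉ ({y} : Set Y) →
      IsZero (TopCat.Presheaf.stalk ((Coh.RpushAb π 1).obj (Coh.toAb (Coh.structureModule X))).obj x) :=
    fun x hx => hfinU x hx 1 one_pos
  have h2 : ∀ q : ℕ, 2 ≤ q → ∀ x : Y,
      IsZero (TopCat.Presheaf.stalk ((Coh.RpushAb π q).obj (Coh.toAb (Coh.structureModule X))).obj x) := by
    intro q hq x
    by_cases hx : x = y
    · subst hx
      refine Groth.Agent.S0042.result π x 1 ?_ _ hcoh q (by omega)
      have h3 : topologicalKrullDim (π.fiber x) = topologicalKrullDim (π.base ⁻¹' {x}) :=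
        IsHomeomorph.topologicalKrullDim_eq _ (π.fiberHomeo x).isHomeomorph
      rw [h3]
      exact le_of_eq hfib
    · exact hfinU x hx q (by omega)
  have key := Groth.Agent.Lib.T2H6.ResolEuler.isZero_RpushAb_one_iff k Y X π hf
    (Coh.structureModule X) hcoh ({y} : Set Y) hZ h1 h2
  rw [key, Groth.Agent.Lib.T2H6.FieldBC.euler_eq_of_iso k Y (asIso (ClSub.unitToPush π)).symm]

end Groth.Agent.S13129
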