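import Groth.Statements.S13155
import Mathlib

set_option autoImplicit false
universe u
open CAlg

namespace Groth.Agent.S13155

lemma step1 {A : Type*} [CommRing A] [IsDomain A] (π : A) (hπ0 : π ≠ 0)
    (hp : (Ideal.span {π}).IsPrime) :
    ∀ (N : ℕ) (f g : A), f * g = π ^ N → ∃ (a : ℕ) (u : Aˣ), f = π ^ a * u := by
  intro N
  induction N with
  | zero =>
    intro f g h
    rw [pow_zero] at h
    exact ⟨0, Units.mkOfMulEqOne f g h, by rw [pow_zero, one_mul]; rfl⟩
  | succ N ih =>
    intro f g h
    have hmem : f * g ∈ Ideal.span {π} := by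
      rw [h, pow_succ]
      exact Ideal.mul_mem_left _ _ (Ideal.subset_span rfl)
    rcases hp.mem_or_mem hmem with hf | hg
    · obtain ⟨f', hf'⟩ := Ideal.mem_span_singleton'.mp hf
      have h' : f' * g = π ^ N := by
        apply mul_left_cancel₀ hπ0
        rw [← pow_succ', ← h, ← hf']
        ring
      obtain ⟨a, u, hau⟩ := ih f' g h'
      refine ⟨a + 1, u, ?_⟩
      rw [← hf', hau, pow_succ]
      ring
    · obtain ⟨g', hg'⟩ := Ideal.mem_span_singleton'.mp hg
      have h' : f * g' = π ^ N := by
        apply mul_left_cancel₀ hπ0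
        rw [← pow_succ', ← h, ← hg']
        ring
      exact ih f g' h'

lemma root_pow {L : Type*} [CommRing L] (m : ℕ) (c : L) :
    (AdjoinRoot.root (Polynomial.X ^ m - Polynomial.C c)) ^ m = AdjoinRoot.of _ c := by
  have h := AdjoinRoot.eval₂_root (Polynomial.X ^ m - Polynomial.C c)
  rw [Polynomial.eval₂_sub, Polynomial.eval₂_pow, Polynomial.eval₂_X, Polynomial.eval₂_C,
    sub_eq_zero] at h
  exact h

lemma key {A : Type*} [CommRing A] [IsDomain A] (π : A) {S : Type*} [CommRing S] [IsDomain S]
    [Algebra A S] (hπS : IsUnit (algebraMap A S π)) (m q s : ℕ) (hsm : s < m) (u : Aˣ) (Z : S)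
    (hZ : Z ^ m = algebraMap A S (π ^ (m * q + s) * u))
    (hsp : (Ideal.span {algebraMap A (integralClosure A S) π}).IsPrime) : s = 0 := by
  by_contra hs0
  have hs1 : 1 ≤ s := Nat.one_le_iff_ne_zero.mpr hs0
  obtain ⟨πi, hπi⟩ := hπS.exists_right_inv
  have h1 : algebraMap A S π ^ (m * q) * πi ^ (m * q) = 1 := by rw [← mul_pow, hπi, one_pow]
  have hZ' : (Z * πi ^ q) ^ m = algebraMap A S (π ^ s * u) := by
    calc (Z * πi ^ q) ^ m = Z ^ m * πi ^ (m * q) := by rw [mul_pow, ← pow_mul, mul_comm q m]
      _ = (algebraMap A S π ^ (m * q) * πi ^ (m * q)) *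
            (algebraMap A S π ^ s * algebraMap A S u) := by
          rw [hZ, map_mul, map_pow, pow_add]; ring
      _ = algebraMap A S (π ^ s * u) := by rw [h1, one_mul, map_mul, map_pow]
  have hint : IsIntegral A (Z * πi ^ q) := by
    refine ⟨Polynomial.X ^ m - Polynomial.C (π ^ s * u),
      Polynomial.monic_X_pow_sub_C _ (by omega), ?_⟩
    rw [Polynomial.eval₂_sub, Polynomial.eval₂_pow, Polynomial.eval₂_X, Polynomial.eval₂_C, hZ',
      sub_self]
  have hZB : (⟨Z * πi ^ q, hint⟩ : integralClosure A S) ^ m =
      (algebraMap A (integralClosure A S) (π ^ (s - 1) * u)) *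
        algebraMap A (integralClosure A S) π := by
    apply Subtype.ext
    simp only [Subalgebra.coe_pow, Subalgebra.coe_mul, Subalgebra.coe_algebraMap]
    rw [hZ', ← map_mul]
    congr 1
    rw [mul_right_comm, ← pow_succ, Nat.sub_add_cancel hs1]
  have hmem : (⟨Z * πi ^ q, hint⟩ : integralClosure A S) ^ m ∈
      Ideal.span {algebraMap A (integralClosure A S) π} := by
    rw [hZB]
    exact Ideal.mul_mem_left _ _ (Ideal.subset_span rfl)
  have hZBmem := hsp.mem_of_pow_mem m hmem
  obtain ⟨W, hW⟩ := Ideal.mem_span_singleton'.mp hZBmem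
  have hWS : (W : S) * algebraMap A S π = Z * πi ^ q := congrArg Subtype.val hW
  obtain ⟨t, ht⟩ : ∃ t, m = s + (t + 1) := ⟨m - s - 1, by omega⟩
  have h2 : algebraMap A S π ^ s * (algebraMap A S π ^ (t + 1) * (W : S) ^ m) =
      algebraMap A S π ^ s * algebraMap A S u := by
    rw [← mul_assoc, ← pow_add, ← ht, ← mul_pow, mul_comm (algebraMap A S π), hWS, hZ', map_mul,
      map_pow]
  have h3 : algebraMap A S π ^ (t + 1) * (W : S) ^ m = algebraMap A S u :=
    (hπS.pow s).mul_left_cancel h2
  have h4 : algebraMap A (integralClosure A S) π *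
      (algebraMap A (integralClosure A S) π ^ t * W ^ m *
        algebraMap A (integralClosure A S) ((u⁻¹ : Aˣ) : A)) = 1 := by
    apply Subtype.ext
    simp only [Subalgebra.coe_mul, Subalgebra.coe_pow, Subalgebra.coe_algebraMap,
      Subalgebra.coe_one]
    calc algebraMap A S π * (algebraMap A S π ^ t * (W : S) ^ m * algebraMap A S ((u⁻¹ : Aˣ) : A))
        = (algebraMap A S π ^ (t + 1) * (W : S) ^ m) * algebraMap A S ((u⁻¹ : Aˣ) : A) := by ring
      _ = 1 := by rw [h3, ← map_mul, Units.mul_inv, map_one]
  have hu : IsUnit (algebraMap A (integralClosure A S) π) := IsUnit.of_mul_eq_one _ h4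
  exact hsp.ne_top (Ideal.span_singleton_eq_top.mpr hu)

lemma main {A : Type u} [CommRing A] [IsDomain A] (π : A) (hπ0 : π ≠ 0)
    (hprime : (Ideal.span {π}).IsPrime)
    (m : ℕ) (hm : 0 < m) (f : A) (hf : IsUnit (algebraMap A (Localization.Away π) f))
    [IsDomain (AdjoinRoot (Polynomial.X ^ m -
      Polynomial.C (algebraMap A (Localization.Away π) f)))]
    (hsp : (Ideal.span {algebraMap A (integralClosure A
        (AdjoinRoot (Polynomial.X ^ m - Polynomial.C (algebraMap A (Localization.Away π) f))))
          π}).IsPrime) :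
    ∃ (q : ℕ) (u : Aˣ), f = π ^ (m * q) * (u : A) := by
  obtain ⟨g, N, hgN⟩ : ∃ (g : A) (N : ℕ), f * g = π ^ N := by
    obtain ⟨x, hx⟩ := hf.exists_right_inv
    obtain ⟨⟨c, s⟩, hcs⟩ := IsLocalization.surj (Submonoid.powers π) x
    obtain ⟨n, hn⟩ := (Submonoid.mem_powers_iff _ _).mp s.2
    have hcs' : x * algebraMap A (Localization.Away π) (s : A) =
        algebraMap A (Localization.Away π) c := hcs
    refine ⟨c, n, ?_⟩
    have hinjL : Function.Injective (algebraMap A (Localization.Away π)) :=
      IsLocalization.injective _ (powers_le_nonZeroDivisors_of_noZeroDivisors hπ0)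
    apply hinjL
    rw [map_mul, ← hcs', ← mul_assoc, hx, one_mul, hn]
  obtain ⟨a, u, hfu⟩ := step1 π hπ0 hprime N f g hgN
  obtain ⟨q, s, hsm, ha⟩ : ∃ q s, s < m ∧ a = m * q + s :=
    ⟨a / m, a % m, Nat.mod_lt _ hm, (Nat.div_add_mod a m).symm⟩
  subst ha
  have hπS : IsUnit (algebraMap A (AdjoinRoot (Polynomial.X ^ m -
      Polynomial.C (algebraMap A (Localization.Away π) f))) π) := by
    rw [IsScalarTower.algebraMap_apply A (Localization.Away π) (AdjoinRoot (Polynomial.X ^ m -
      Polynomial.C (algebraMap A (Localization.Away π) f))) π]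
    exact (IsLocalization.Away.algebraMap_isUnit (S := Localization.Away π) π).map _
  have hZ : (AdjoinRoot.root (Polynomial.X ^ m -
      Polynomial.C (algebraMap A (Localization.Away π) f))) ^ m =
      algebraMap A (AdjoinRoot (Polynomial.X ^ m -
        Polynomial.C (algebraMap A (Localization.Away π) f))) (π ^ (m * q + s) * u) := by
    rw [root_pow, ← hfu, IsScalarTower.algebraMap_apply A (Localization.Away π) (AdjoinRoot
      (Polynomial.X ^ m - Polynomial.C (algebraMap A (Localization.Away π) f))) f,
      AdjoinRoot.algebraMap_eq]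
  have hs : s = 0 := key π hπS m q s hsm u _ hZ hsp
  refine ⟨q, u, ?_⟩
  rw [hfu, hs, add_zero]

/-- Let R be a discrete valuation ring of characteristic zero with uniformizer π, and A a Noetherian
integrally closed domain which is an R-algebra with injective structure map and in which πA is a
prime ideal (X = Spec A is normal, flat over R, with integral special fibre). Let m ≥ 1 and let f ∈
A be invertible in A[1/π] (so Z^m = f defines a μ_m-torsor over the generic fibre), such that S =
A[1/π][Z]/(Z^m − f) is an integral domain and, writing B for the integral closure of A in S (the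
normalization of X in that cover), πB is a prime ideal of B (the normalization has integral special
fibre). Then f is, up to a unit of A, an m-th power of a power of π: f = π^{mq}·u with q ≥ 0 and u ∈
A^×, so that the cover extends to the μ_m-torsor Z^m = u over all of X. (The published statement is
the existence and uniqueness of the extending μ_m-torsor over a normal faithfully flat R-scheme with
integral fibres, R containing a primitive m-th root of unity; this row is the affine computation
that carries the proof.) -/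
theorem result (R : Type u) [CommRing R]
    [IsDomain R] [IsDiscreteValuationRing R] [CharZero R] (ϖ : R) (hϖ : Irreducible ϖ)
    (A : Type u) [CommRing A] [IsDomain A] [IsNoetherianRing A] [IsIntegrallyClosed A] [Algebra R A]
    (hinj : Function.Injective (algebraMap R A)) (hprime : (Ideal.span {algebraMap R A ϖ}).IsPrime)
    (m : ℕ) (hm : 0 < m) (f : A) (hf : IsUnit (algebraMap A (Localization.Away (algebraMap R A ϖ)) f))
    [IsDomain (AdjoinRoot (Polynomial.X ^ m - Polynomial.C (algebraMap A (Localization.Away (algebraMap R A ϖ)) f)))]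
    (hsp : (Ideal.span {algebraMap A (integralClosure A
        (AdjoinRoot (Polynomial.X ^ m - Polynomial.C (algebraMap A (Localization.Away (algebraMap R A ϖ)) f))))
          (algebraMap R A ϖ)}).IsPrime) :
    ∃ (q : ℕ) (u : Aˣ), f = algebraMap R A ϖ ^ (m * q) * (u : A) := by
  have hπ0 : algebraMap R A ϖ ≠ 0 := by
    intro h
    apply hϖ.ne_zero
    apply hinj
    rw [map_zero]
    exact h
  exact main (algebraMap R A ϖ) hπ0 hprime m hm f hf hsp

end Groth.Agent.S13155
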