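import Groth.Statements.S13160
import Mathlib

set_option autoImplicit false
universe u
open CAlg

namespace Groth.Agent.S13160

open WittVector MvPolynomial

section Univ

variable (p : ℕ) [hp : Fact p.Prime]

/-- universal coefficients of `[X₀] + [X₁]` -/
noncomputable def sPoly (n : ℕ) : MvPolynomial (Fin 2) ℤ :=
  (teichmuller p (X 0 : MvPolynomial (Fin 2) ℤ) + teichmuller p (X 1)).coeff n

theorem ghost_eq (n : ℕ) :
    ∑ i ∈ Finset.range (n + 1), (p : MvPolynomial (Fin 2) ℤ) ^ i * sPoly p i ^ p ^ (n - i) =
      (X 0) ^ p ^ n + (X 1) ^ p ^ n := by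
  have h := ghostComponent_apply (p := p) n
    (teichmuller p (X 0 : MvPolynomial (Fin 2) ℤ) + teichmuller p (X 1))
  rw [aeval_wittPolynomial, map_add, ghostComponent_teichmuller, ghostComponent_teichmuller] at h
  exact h.symm

theorem sPoly_homog (n : ℕ) : (sPoly p n).IsHomogeneous (p ^ n) := by
  induction n using Nat.strong_induction_on with
  | _ n ih =>
    have h := ghost_eq p n
    rw [Finset.sum_range_succ, Nat.sub_self, pow_zero, pow_one] at h
    have h1 : ((p : MvPolynomial (Fin 2) ℤ) ^ n * sPoly p n).IsHomogeneous (p ^ n) := by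
      have h2 : (p : MvPolynomial (Fin 2) ℤ) ^ n * sPoly p n =
          (X 0) ^ p ^ n + (X 1) ^ p ^ n - ∑ i ∈ Finset.range n,
            (p : MvPolynomial (Fin 2) ℤ) ^ i * sPoly p i ^ p ^ (n - i) := by
        rw [← h]; ring
      rw [h2]
      apply IsHomogeneous.sub
      · apply IsHomogeneous.add
        · have := (isHomogeneous_X ℤ (0 : Fin 2)).pow (p ^ n)
          rwa [one_mul] at this
        · have := (isHomogeneous_X ℤ (1 : Fin 2)).pow (p ^ n)
          rwa [one_mul] at this
      · apply IsHomogeneous.sum
        intro i hi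
        have hi' : i < n := Finset.mem_range.mp hi
        have e1 : (p : MvPolynomial (Fin 2) ℤ) ^ i = C ((p : ℤ) ^ i) := by
          rw [map_pow, map_natCast]
        rw [e1]
        have h3 := ((ih i hi').pow (p ^ (n - i))).C_mul ((p : ℤ) ^ i)
        have e2 : p ^ i * p ^ (n - i) = p ^ n := by
          rw [← pow_add]; congr 1; omega
        rwa [e2] at h3
    intro d hd
    apply h1
    have e1 : (p : MvPolynomial (Fin 2) ℤ) ^ n = C ((p : ℤ) ^ n) := by
      rw [map_pow, map_natCast]
    rw [e1, coeff_C_mul]
    exact mul_ne_zero (pow_ne_zero _ (Nat.cast_ne_zero.mpr hp.out.ne_zero)) hd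

theorem teich_add_coeff {k : Type*} [CommRing k] (x y : k) (n : ℕ) :
    (teichmuller p x + teichmuller p y).coeff n = aeval ![x, y] (sPoly p n) := by
  have h : WittVector.map ((aeval ![x, y] : MvPolynomial (Fin 2) ℤ →ₐ[ℤ] k) : MvPolynomial (Fin 2) ℤ →+* k)
      (teichmuller p (X 0) + teichmuller p (X 1)) = teichmuller p x + teichmuller p y := by
    rw [map_add, map_teichmuller, map_teichmuller]
    simp
  rw [← h, map_coeff]
  rfl

theorem span_pow_eq_bot {k : Type*} [CommRing k] (x y : k) (hx : x ^ p = 0) (hy : y ^ p = 0)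
    (hxy : x ∣ y ∨ y ∣ x) (N : ℕ) (hN : p ≤ N) :
    (Ideal.span (Set.range ![x, y])) ^ N = ⊥ := by
  have key : ∀ u v : k, u ^ p = 0 → u ∣ v → (Ideal.span (Set.range ![u, v])) ^ N = ⊥ ∧
      (Ideal.span (Set.range ![v, u])) ^ N = ⊥ := by
    intro u v hu huv
    have hle : ∀ w : Fin 2 → k, (∀ i, w i ∈ Ideal.span ({u} : Set k)) →
        (Ideal.span (Set.range w)) ^ N = ⊥ := by
      intro w hw
      have h1 : Ideal.span (Set.range w) ≤ Ideal.span ({u} : Set k) := by
        rw [Ideal.span_le]
        rintro _ ⟨i, rfl⟩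
        exact hw i
      have h2 : (Ideal.span ({u} : Set k)) ^ N = ⊥ := by
        rw [Ideal.span_singleton_pow]
        have : u ^ N = 0 := by
          obtain ⟨e, rfl⟩ := Nat.exists_eq_add_of_le hN
          rw [pow_add, hu, zero_mul]
        rw [this]
        exact Ideal.span_singleton_eq_bot.mpr rfl
      exact le_bot_iff.mp (h2 ▸ Ideal.pow_right_mono h1 N)
    have hu' : u ∈ Ideal.span ({u} : Set k) := Ideal.mem_span_singleton_self u
    have hv' : v ∈ Ideal.span ({u} : Set k) := Ideal.mem_span_singleton.mpr huv
    constructor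
    · apply hle
      intro i
      fin_cases i
      · exact hu'
      · exact hv'
    · apply hle
      intro i
      fin_cases i
      · exact hv'
      · exact hu'
  rcases hxy with h | h
  · exact (key x y hx h).1
  · exact (key y x hy h).2

theorem aeval_sPoly_eq_zero {k : Type*} [CommRing k] (x y : k) (hx : x ^ p = 0) (hy : y ^ p = 0)
    (hxy : x ∣ y ∨ y ∣ x) (n : ℕ) : aeval ![x, y] (sPoly p (n + 1)) = 0 := by
  have hmem : aeval ![x, y] (sPoly p (n + 1)) ∈
      (Ideal.span (Set.range ![x, y])) ^ (p ^ (n + 1)) := by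
    rw [Ideal.mem_span_pow_iff_exists_isHomogeneous]
    refine ⟨MvPolynomial.map (algebraMap ℤ k) (sPoly p (n + 1)),
      (sPoly_homog p (n + 1)).map _, ?_⟩
    rw [eval_map, aeval_def]
  rw [span_pow_eq_bot p x y hx hy hxy (p ^ (n + 1))
    (Nat.le_self_pow (Nat.succ_ne_zero n) p)] at hmem
  exact hmem

theorem teich_add {k : Type*} [CommRing k] (x y : k) (hx : x ^ p = 0) (hy : y ^ p = 0)
    (hxy : x ∣ y ∨ y ∣ x) :
    teichmuller p x + teichmuller p y = teichmuller p (x + y) := by
  ext n
  cases n with
  | zero =>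
    rw [add_coeff_zero, teichmuller_coeff_zero, teichmuller_coeff_zero, teichmuller_coeff_zero]
  | succ n =>
    rw [teich_add_coeff, teichmuller_coeff_pos p _ (n + 1) (Nat.succ_pos n),
      aeval_sPoly_eq_zero p x y hx hy hxy n]

theorem decomp {k : Type*} [CommRing k] (a : WittVector p k) :
    a = teichmuller p (a.coeff 0) + verschiebung (WittVector.mk p (fun i => a.coeff (i + 1))) := by
  have hdisj : ∀ i, (teichmuller p (a.coeff 0)).coeff i = 0 ∨
      (verschiebung (WittVector.mk p (fun i => a.coeff (i + 1)) : WittVector p k)).coeff i = 0 := by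
    intro i
    cases i with
    | zero => exact Or.inr (verschiebung_coeff_zero _)
    | succ i => exact Or.inl (teichmuller_coeff_pos p _ (i + 1) (Nat.succ_pos i))
  ext j
  rw [coeff_add_of_disjoint j _ _ hdisj]
  cases j with
  | zero => rw [teichmuller_coeff_zero, verschiebung_coeff_zero, add_zero]
  | succ j =>
    rw [teichmuller_coeff_pos p _ (j + 1) (Nat.succ_pos j), verschiebung_coeff_add_one,
      coeff_mk, zero_add]

theorem main {k : Type*} [CommRing k] (tot : ∀ x y : k, x ∣ y ∨ y ∣ x) (n : ℕ) :
    ∀ a b : WittVector p k, (∀ i, a.coeff i ^ p = 0) → (∀ i, b.coeff i ^ p = 0) →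
      (a + b).coeff n = a.coeff n + b.coeff n := by
  induction n with
  | zero =>
    intro a b _ _
    exact add_coeff_zero a b
  | succ n ih =>
    intro a b ha hb
    have h1 : a + b = teichmuller p (a.coeff 0 + b.coeff 0) +
        verschiebung (WittVector.mk p (fun i => a.coeff (i + 1)) +
          WittVector.mk p (fun i => b.coeff (i + 1))) := by
      conv_lhs => rw [decomp p a, decomp p b]
      rw [← teich_add p _ _ (ha 0) (hb 0) (tot _ _), map_add]
      abel
    have hdisj : ∀ i, (teichmuller p (a.coeff 0 + b.coeff 0)).coeff i = 0 ∨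
        (verschiebung (WittVector.mk p (fun i => a.coeff (i + 1)) +
          WittVector.mk p (fun i => b.coeff (i + 1)) : WittVector p k)).coeff i = 0 := by
      intro i
      cases i with
      | zero => exact Or.inr (verschiebung_coeff_zero _)
      | succ i => exact Or.inl (teichmuller_coeff_pos p _ (i + 1) (Nat.succ_pos i))
    rw [h1, coeff_add_of_disjoint (n + 1) _ _ hdisj,
      teichmuller_coeff_pos p _ (n + 1) (Nat.succ_pos n), verschiebung_coeff_add_one, zero_add,
      ih _ _ (fun i => by rw [coeff_mk]; exact ha (i + 1))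
        (fun i => by rw [coeff_mk]; exact hb (i + 1)), coeff_mk, coeff_mk]

end Univ


/-- Let R be a discrete valuation ring, p a prime number and λ an element of R dividing p (so that R/λR
is an 𝔽_p-algebra), and let a and b be p-typical Witt vectors with coefficients in R/λR which are
killed by the Frobenius endomorphism. Then the Witt sum a + b has components a_n + b_n for every n.
(The published statement allows an arbitrary λ ∈ R and is stated for Witt vectors with finitely many
nonzero components; this row assumes that λ divides p, so that p = 0 in R/λR, and allows all Witt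
vectors.) -/
theorem result (R : Type u) [CommRing R] [IsDomain R]
    [IsDiscreteValuationRing R] (p : ℕ) [Fact p.Prime] (lam : R) (hlam : lam ∣ (p : R))
    (a b : WittVector p (R ⧸ Ideal.span {lam})) (ha : WittVector.frobenius a = 0)
    (hb : WittVector.frobenius b = 0) (n : ℕ) : (a + b).coeff n = a.coeff n + b.coeff n := by
  rcases subsingleton_or_nontrivial (R ⧸ Ideal.span {lam}) with hsub | hnt
  · exact Subsingleton.elim _ _
  · have hp0 : ((p : ℕ) : R ⧸ Ideal.span {lam}) = 0 := by
      have : ((p : ℕ) : R ⧸ Ideal.span {lam}) = Ideal.Quotient.mk (Ideal.span {lam}) ((p : ℕ) : R) :=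
        (map_natCast (Ideal.Quotient.mk (Ideal.span {lam})) p).symm
      rw [this, Ideal.Quotient.eq_zero_iff_mem, Ideal.mem_span_singleton]
      exact hlam
    have hchar : CharP (R ⧸ Ideal.span {lam}) p :=
      (CharP.charP_iff_prime_eq_zero Fact.out).mpr hp0
    have tot : ∀ x y : R ⧸ Ideal.span {lam}, x ∣ y ∨ y ∣ x := by
      intro x y
      obtain ⟨x', rfl⟩ := Ideal.Quotient.mk_surjective x
      obtain ⟨y', rfl⟩ := Ideal.Quotient.mk_surjective y
      rcases ValuationRing.dvd_total x' y' with h | h
      · exact Or.inl (map_dvd _ h)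
      · exact Or.inr (map_dvd _ h)
    have ha' : ∀ i, a.coeff i ^ p = 0 := by
      intro i
      rw [← WittVector.coeff_frobenius_charP, ha, WittVector.zero_coeff]
    have hb' : ∀ i, b.coeff i ^ p = 0 := by
      intro i
      rw [← WittVector.coeff_frobenius_charP, hb, WittVector.zero_coeff]
    exact main p tot n a b ha' hb'

end Groth.Agent.S13160
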