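import Groth.Statements.S13176
import Groth.Agent.Lib.T2H7QuotGeomC

set_option autoImplicit false
universe u
open CategoryTheory CategoryTheory.Limits AlgebraicGeometry
open ZeroCyc

namespace Groth.Agent.S13176

/-- Let a finite group G act on a scheme X over S through ρ, let q : X → Y be a quotient of X by G over
S (affine, G-invariant, O_Y = the G-invariant sections of O_X), let S' → S be any morphism and X' =
X ×_S S' with the induced action ρ', and let r : X' → Y' be a quotient of X' by G. Then the morphism
Y' → Y ×_S S' through which the canonical map X' → Y ×_S S' factors via r is a universal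
homeomorphism. (The published statement assumes every G-orbit lies in an affine open, which is what
makes the quotients exist; here the two quotients are hypotheses.) -/
theorem result {X Y S S' Y' : Scheme.{u}} {G : Type u} [Group G] [Finite G]
    (ρ : G →* Aut X) (f : X ⟶ S) (hρ : ∀ σ : G, (ρ σ).hom ≫ f = f)
    (q : X ⟶ Y) (h : Y ⟶ S) (hq : q ≫ h = f) (hquot : SGA1.IsQuot ρ q)
    (g : S' ⟶ S)
    (ρ' : G →* Aut (pullback f g))
    (hρ' : ∀ σ : G, (ρ' σ).hom ≫ pullback.fst f g = pullback.fst f g ≫ (ρ σ).hom ∧
      (ρ' σ).hom ≫ pullback.snd f g = pullback.snd f g)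
    (r : pullback f g ⟶ Y') (hr : SGA1.IsQuot ρ' r)
    (m : Y' ⟶ pullback h g)
    (hm : r ≫ m = pullback.map f g h g q (𝟙 S') (𝟙 S)
      ((Category.comp_id f).trans hq.symm) ((Category.comp_id g).trans (Category.id_comp g).symm)) :
    FlatMor.IsUnivHomeo m := by
  classical
  have e1 : pullback.map f g h g q (𝟙 S') (𝟙 S)
      ((Category.comp_id f).trans hq.symm)
      ((Category.comp_id g).trans (Category.id_comp g).symm) ≫ pullback.snd h g
      = pullback.snd f g := by
    rw [pullback.lift_snd, Category.comp_id]
  have e2 : pullback.map f g h g q (𝟙 S') (𝟙 S)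
      ((Category.comp_id f).trans hq.symm)
      ((Category.comp_id g).trans (Category.id_comp g).symm) ≫ pullback.fst h g
      = pullback.fst f g ≫ q := by
    rw [pullback.lift_fst]
  have hsq : IsPullback (pullback.map f g h g q (𝟙 S') (𝟙 S)
      ((Category.comp_id f).trans hq.symm) ((Category.comp_id g).trans (Category.id_comp g).symm))
      (pullback.fst f g) (pullback.fst h g) q := by
    refine IsPullback.of_right (h₁₂ := pullback.snd h g) (h₂₂ := h) (v₁₃ := g) ?_ e2
      (IsPullback.of_hasPullback h g).flip
    rw [e1, hq]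
    exact (IsPullback.of_hasPullback f g).flip
  have hqI : IsIntegralHom q := Groth.Agent.Lib.T2H7.QuotGeomC.isIntegralHom_of_isQuot hquot
  have hqS : Surjective q := Groth.Agent.Lib.T2H7.QuotGeomC.surjective_of_isQuot' hquot
  have h1 : IsIntegralHom (r ≫ m) := by
    rw [hm]; exact MorphismProperty.of_isPullback hsq.flip hqI
  have h2 : Surjective (r ≫ m) := by
    rw [hm]; exact MorphismProperty.of_isPullback hsq.flip hqS
  refine Groth.Agent.Lib.T2H7.QuotGeomC.isUnivHomeo_of_orbit hr m ?_
  intro K _ _ ξ₁ ξ₂ hξ
  rw [hm] at hξ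
  have hfst : (ξ₁ ≫ pullback.fst f g) ≫ q = (ξ₂ ≫ pullback.fst f g) ≫ q := by
    have := congrArg (· ≫ pullback.fst h g) hξ
    simp only [Category.assoc] at this
    rw [e2] at this
    simpa only [Category.assoc] using this
  have hsnd : ξ₁ ≫ pullback.snd f g = ξ₂ ≫ pullback.snd f g := by
    have := congrArg (· ≫ pullback.snd h g) hξ
    simp only [Category.assoc] at this
    rw [e1] at this
    exact this
  obtain ⟨σ, hσ⟩ := Groth.Agent.Lib.T2H7.QuotGeomB.exists_rho_of_comp_eq hquot _ _ hfst
  refine ⟨σ, ?_⟩
  apply pullback.hom_ext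
  · rw [Category.assoc, (hρ' σ).1, hσ, Category.assoc]
  · rw [Category.assoc, (hρ' σ).2, hsnd]

end Groth.Agent.S13176
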