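import Groth.Statements.S13177
import Groth.Agent.Lib.T2H7QuotGeomD

set_option autoImplicit false
universe u
open CategoryTheory CategoryTheory.Limits AlgebraicGeometry
open ZeroCyc

namespace Groth.Agent.S13177

/-- Let a finite group G act on a scheme X with quotient q : X → Y (affine, G-invariant, O_Y = the
invariant sections), let i : Z → X be a G-stable closed subscheme with the induced action and r : Z
→ W a quotient of Z by G, and let q(Z) be the scheme-theoretic image of Z in Y. Then the morphism W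
→ q(Z) through which Z → q(Z) factors via r is a schematically dominant universal homeomorphism.
(The published statement assumes the quotient of X exists; here both quotients are hypotheses.) -/
theorem result {X Y Z W : Scheme.{u}} {G : Type u} [Group G] [Finite G]
    (ρ : G →* Aut X) (q : X ⟶ Y) (hquot : SGA1.IsQuot ρ q)
    (i : Z ⟶ X) [IsClosedImmersion i] (ρZ : G →* Aut Z) (hρZ : ∀ σ : G, (ρZ σ).hom ≫ i = i ≫ (ρ σ).hom)
    (r : Z ⟶ W) (hr : SGA1.IsQuot ρZ r)
    (m : W ⟶ (i ≫ q).ker.subscheme) (hm : r ≫ m ≫ (i ≫ q).ker.subschemeι = i ≫ q) :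
    FlatMor.IsUnivHomeo m ∧ IsSchemeTheoreticallyDominant m := by
  classical
  have hqI : IsIntegralHom q := Groth.Agent.Lib.T2H7.QuotGeomC.isIntegralHom_of_isQuot hquot
  have hFI : IsIntegralHom (i ≫ q) := inferInstance
  have hm' : (r ≫ m) ≫ (i ≫ q).imageι = i ≫ q := by rw [Category.assoc]; exact hm
  have h1 : IsIntegralHom (r ≫ m) := by
    have : IsIntegralHom ((r ≫ m) ≫ (i ≫ q).imageι) := by rw [hm']; infer_instance
    exact IsIntegralHom.of_comp (r ≫ m) (i ≫ q).imageι
  have h2 : Surjective (r ≫ m) :=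
    Groth.Agent.Lib.T2H7.QuotGeomD.surjective_of_comp_imageι (i ≫ q) (i ≫ q).isClosedMap
      (r ≫ m) hm'
  constructor
  · refine Groth.Agent.Lib.T2H7.QuotGeomC.isUnivHomeo_of_orbit hr m ?_
    intro K _ _ ξ₁ ξ₂ hξ
    have h3 : (ξ₁ ≫ i) ≫ q = (ξ₂ ≫ i) ≫ q := by
      have := congrArg (· ≫ (i ≫ q).imageι) hξ
      simp only [Category.assoc] at this
      rw [hm] at this
      simpa only [Category.assoc] using this
    obtain ⟨σ, hσ⟩ := Groth.Agent.Lib.T2H7.QuotGeomB.exists_rho_of_comp_eq hquot _ _ h3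
    refine ⟨σ, ?_⟩
    rw [← cancel_mono i, hσ, Category.assoc, Category.assoc, hρZ]
  · have e : r ≫ m = (i ≫ q).toImage :=
      Groth.Agent.Lib.T2H7.QuotGeomD.eq_toImage (i ≫ q) _ hm'
    have : IsSchemeTheoreticallyDominant (r ≫ m) := by rw [e]; infer_instance
    exact Groth.Agent.Lib.T2H7.QuotGeomD.isSchemeTheoreticallyDominant_of_comp r m

end Groth.Agent.S13177
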