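import Groth.Statements.S13342
import Mathlib
import Groth.Agent.Lib.T2H6FSysOpen

set_option autoImplicit false
open CategoryTheory CategoryTheory.Limits
universe u
open FCompl

namespace Groth.Agent.S13342

open AlgebraicGeometry in
/-- The formal prescheme induced on an open subset of a formal prescheme (resp. of a locally Noetherian
formal prescheme, resp. of a Noetherian formal prescheme) is a formal prescheme (resp. a locally
Noetherian formal prescheme, resp. a Noetherian formal prescheme). In the presentation by systems of
thickenings with common underlying space: for an open U, the induced system (the open subschemes of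
the levels over U with the restricted transition maps) is again a system of thickenings; it is adic
with locally Noetherian levels when the given system is; and if moreover the common underlying space
is quasi-compact (a Noetherian formal prescheme), so is that of the induced system. -/
theorem result (𝔛 : FSch.Sys.{u}) (h : 𝔛.IsFormal) (U : (𝔛.X 0).Opens) :
    (𝔛.restrictOpen h U).IsFormal ∧ (𝔛.IsLocNoethFormal → (𝔛.restrictOpen h U).IsLocNoethFormal) ∧
      (𝔛.IsLocNoethFormal → CompactSpace (𝔛.X 0) → CompactSpace ((𝔛.restrictOpen h U).X 0)) := by
  refine ⟨Groth.Agent.Lib.T2H6.FSysOpen.isFormal_restrictOpen 𝔛 h U,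
    fun h𝔛 => Groth.Agent.Lib.T2H6.FSysOpen.isLocNoethFormal_restrictOpen 𝔛 h U h𝔛,
    fun h𝔛 hc => ?_⟩
  haveI := hc
  exact Groth.Agent.Lib.T2H6.FSysOpen.compactSpace_restrictOpen 𝔛 h U h𝔛

end Groth.Agent.S13342
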