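import Groth.Statements.S13352
import Groth.Agent.Lib.T2H8RPowFT
import Groth.Agent.S11525

set_option autoImplicit false
universe u
open scoped TensorProduct
open AdicRing

namespace Groth.Agent.S13352

/-- Let R be a complete valuation ring of height one with t a nonzero element generating an ideal of
definition and K its field of fractions, A an admissible R-algebra, and f_1, ..., f_n elements of A
⊗_R K that are integral over A. Then A' = A[f_1, ..., f_n], a subalgebra of A ⊗_R K, is an
admissible R-algebra which is finite over A. (The published hypothesis is that each f_i has supremum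
seminorm at most 1 on the affinoid algebra A ⊗_R K; integrality of the f_i over A is what is derived
from it and used, and is the hypothesis taken here.) -/
theorem result
    (R : Type u) [CommRing R] [IsDomain R] [ValuationRing R] [Ring.KrullDimLE 1 R]
    (t : R) (ht : t ≠ 0) [IsAdicComplete (Ideal.span {t}) R]
    (A : Type u) [CommRing A] [Algebra R A] (hA : AdicRing.Admissible R (Ideal.span {t}) A)
    (n : ℕ) (f : Fin n → A ⊗[R] FractionRing R) (hf : ∀ i, IsIntegral A (f i)) :
    AdicRing.Admissible R (Ideal.span {t}) ↥(Algebra.adjoin A (Set.range f)) ∧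
      Module.Finite A ↥(Algebra.adjoin A (Set.range f)) := by
  have hR : AdicRing.IsBase R (Ideal.span {t}) :=
    ⟨inferInstance, Or.inr ⟨inferInstance, inferInstance, inferInstance, t, ht, rfl⟩⟩
  haveI hfin : Module.Finite A ↥(Algebra.adjoin A (Set.range f)) :=
    Algebra.finite_adjoin_of_finite_of_isIntegral (Set.finite_range f) (by
      rintro _ ⟨i, rfl⟩
      exact hf i)
  refine ⟨?_, hfin⟩
  have hA' : AdicRing.TopFiniteType R (Ideal.span {t}) A := by
    obtain ⟨⟨n, φ, hφ, -⟩, -⟩ := hA
    exact ⟨n, φ, hφ⟩
  have htft : AdicRing.TopFiniteType R (Ideal.span {t}) ↥(Algebra.adjoin A (Set.range f)) :=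
    Groth.Agent.Lib.T2H8.RPowFT.tft_of_finite R _ hR A hA' _
  have htor : AdicRing.NoPowTorsion (Ideal.span {t}) ↥(Algebra.adjoin A (Set.range f)) := by
    intro x k hx
    have h1 := hx (t ^ k) (Ideal.pow_mem_pow (Ideal.mem_span_singleton_self t) k)
    have h2 : t ^ k • (x : A ⊗[R] FractionRing R) = 0 := congrArg Subtype.val h1
    apply Subtype.ext
    show (x : A ⊗[R] FractionRing R) = 0
    have hu : IsUnit (algebraMap R (FractionRing R) (t ^ k)) := by
      apply IsUnit.mk0
      rw [Ne, map_eq_zero_iff _ (IsFractionRing.injective R (FractionRing R))]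
      exact pow_ne_zero k ht
    obtain ⟨v, hv⟩ := hu
    have h3 : ∀ z : A ⊗[R] FractionRing R,
        (LinearMap.lTensor A (LinearMap.mulLeft R ((↑v⁻¹ : FractionRing R)))) (t ^ k • z) = z := by
      intro z
      induction z using TensorProduct.induction_on with
      | zero => simp
      | tmul a q =>
        rw [TensorProduct.smul_tmul', TensorProduct.smul_tmul, LinearMap.lTensor_tmul,
          LinearMap.mulLeft_apply, Algebra.smul_def, ← hv, ← mul_assoc, Units.inv_mul, one_mul]
      | add z w hz hw => rw [smul_add, map_add, hz, hw]
    rw [← h3 (x : A ⊗[R] FractionRing R), h2, map_zero]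
  exact ⟨Groth.Agent.S11525.result R _ hR _ htft htor, htor⟩

end Groth.Agent.S13352
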