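import Groth.Statements.S13354
import Groth.Agent.S11541
import Groth.Agent.Lib.Helper5IntDim

set_option autoImplicit false
universe u
open AdicRing

namespace Groth.Agent.S13354

/-- Let R be a complete valuation ring of height one with t a nonzero element generating an ideal of
definition, B an admissible R-algebra which is a local integral domain of Krull dimension one (the
algebra of a rig-point), and b_1, ..., b_n elements of B, not all zero. Then there is a B-subalgebra
B' of the field of fractions of B which is finite over B, is again a local ring of Krull dimension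
one, and in which the ideal generated by b_1, ..., b_n is generated by one of the b_i alone (hence
is invertible). (This is the algebraic step by which a rig-point is lifted along the formal
blowing-up of a finitely generated open ideal; the resulting bijection between rig-points of the
blowing-up and of the base is not stated here.) -/
theorem result
    (R : Type u) [CommRing R] [IsDomain R] [ValuationRing R] [Ring.KrullDimLE 1 R]
    (t : R) (ht : t ≠ 0) [IsAdicComplete (Ideal.span {t}) R]
    (B : Type u) [CommRing B] [Algebra R B] [IsDomain B] [IsLocalRing B]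
    (hB : AdicRing.Admissible R (Ideal.span {t}) B) (hdim : ringKrullDim B = 1)
    (n : ℕ) (b : Fin n → B) (hb : ∃ i, b i ≠ 0) :
    ∃ B' : Subalgebra B (FractionRing B), Module.Finite B ↥B' ∧ IsLocalRing ↥B' ∧ ringKrullDim ↥B' = 1 ∧
      ∃ i, Ideal.span (Set.range (fun j => algebraMap B ↥B' (b j))) =
        Ideal.span {algebraMap B ↥B' (b i)} := by
  classical
  obtain ⟨hfin, hval⟩ := Groth.Agent.S11541.result R t ht B hB hdim
  haveI := hfin
  haveI := hval
  have hne : (Finset.univ : Finset (Fin n)).Nonempty := ⟨hb.choose, Finset.mem_univ _⟩
  obtain ⟨i₀, -, hi₀⟩ := Groth.Agent.Lib.T2H8.AdicDev.exists_dvd_all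
    (R := integralClosure B (FractionRing B)) (fun a b => ValuationRing.dvd_total a b)
    Finset.univ hne (fun j => algebraMap B (integralClosure B (FractionRing B)) (b j))
  choose v hv using fun j => hi₀ j (Finset.mem_univ j)
  obtain ⟨cL, hcL⟩ : ∃ cL : Fin n → FractionRing B, cL = fun j => (v j : FractionRing B) :=
    ⟨_, rfl⟩
  have hint : ∀ j, IsIntegral B (cL j) := fun j => by
    rw [hcL]
    exact (v j).2
  haveI hfin' : Module.Finite B ↥(Algebra.adjoin B (Set.range cL)) :=
    Algebra.finite_adjoin_of_finite_of_isIntegral (Set.finite_range cL) (by
      rintro _ ⟨j, rfl⟩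
      exact hint j)
  have hinj' : Function.Injective (algebraMap B ↥(Algebra.adjoin B (Set.range cL))) := by
    have h1 : Function.Injective ((Algebra.adjoin B (Set.range cL)).val ∘
        (algebraMap B ↥(Algebra.adjoin B (Set.range cL)))) := by
      have h2 : ((Algebra.adjoin B (Set.range cL)).val ∘
          (algebraMap B ↥(Algebra.adjoin B (Set.range cL)))) = algebraMap B (FractionRing B) := by
        funext x
        rfl
      rw [h2]
      exact IsFractionRing.injective B (FractionRing B)
    exact Function.Injective.of_comp h1
  refine ⟨Algebra.adjoin B (Set.range cL), hfin', ?_, ?_, i₀, ?_⟩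
  · haveI := Groth.Agent.Lib.T2H8.RigVal.henselianLocalRing_of_complete R t ht
    haveI : Algebra.IsIntegral R B := Algebra.IsIntegral.of_finite R B
    haveI : Algebra.IsIntegral B ↥(Algebra.adjoin B (Set.range cL)) :=
      Algebra.IsIntegral.of_finite B _
    haveI : Algebra.IsIntegral R ↥(Algebra.adjoin B (Set.range cL)) :=
      Algebra.IsIntegral.trans (R := R) B
    exact Groth.Agent.Lib.Helper7.GeomInt.isLocalRing_of_isIntegral_of_isDomain R _
  · haveI : Algebra.IsIntegral B ↥(Algebra.adjoin B (Set.range cL)) :=
      Algebra.IsIntegral.of_finite B _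
    rw [Groth.Agent.Lib.Helper5.ringKrullDim_eq_of_isIntegral_of_injective B _ hinj']
    exact hdim
  · apply le_antisymm
    · rw [Ideal.span_le]
      rintro _ ⟨j, rfl⟩
      rw [SetLike.mem_coe, Ideal.mem_span_singleton']
      refine ⟨⟨cL j, Algebra.subset_adjoin (Set.mem_range_self j)⟩, ?_⟩
      apply Subtype.ext
      have h3 := congrArg (fun z : integralClosure B (FractionRing B) => (z : FractionRing B))
        (hv j)
      show cL j * algebraMap B (FractionRing B) (b i₀) = algebraMap B (FractionRing B) (b j)
      rw [hcL, mul_comm]
      exact h3.symm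
    · apply Ideal.span_mono
      rintro _ hx
      rw [Set.mem_singleton_iff] at hx
      exact ⟨i₀, hx.symm⟩

end Groth.Agent.S13354
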