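import Groth.Statements.S13367
import Groth.Agent.Lib.T2H7FrobMod

set_option autoImplicit false
universe u v
open FrobMod

namespace Groth.Agent.S13367

/-- Over a strictly Henselian discrete valuation ring R of prime characteristic p with residue field κ,
for a finitely generated module M with n = dim_κ(κ ⊗ M) and a Frobenius-semilinear additive
bijection T of M (T(rm) = r^p T(m)), the map T − 1 is surjective and its kernel has cardinality p^n. -/
theorem result (p : ℕ) [Fact p.Prime] {R : Type u} [CommRing R] [IsDomain R]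
    [IsDiscreteValuationRing R] [HenselianLocalRing R] [IsSepClosed (IsLocalRing.ResidueField R)] [CharP R p]
    {M : Type v} [AddCommGroup M] [Module R M] [Module.Finite R M]
    (T : M →+ M) (hT : ∀ (r : R) (m : M), T (r • m) = r ^ p • T m) (hbij : Function.Bijective T) :
    Function.Surjective (fun m => T m - m) ∧
      Nat.card {m : M // T m = m} =
        p ^ Module.finrank (IsLocalRing.ResidueField R) (TensorProduct R (IsLocalRing.ResidueField R) M) := by
  classical
  set κ := IsLocalRing.ResidueField R with hκ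
  have hp : p.Prime := Fact.out
  have : CharP κ p := (CharP.charP_iff_prime_eq_zero hp).mpr (by
    rw [← map_natCast (IsLocalRing.residue R), CharP.cast_eq_zero, map_zero])
  -- the semilinear map on the fibre
  let g : κ →+ (M →+ TensorProduct R κ M) :=
    { toFun := fun a => ((TensorProduct.mk R κ M (a ^ p)) : M →ₗ[R] TensorProduct R κ M).toAddMonoidHom.comp T
      map_zero' := by
        ext m
        simp [zero_pow hp.ne_zero]
      map_add' := by
        intro a b
        ext m
        simp [add_pow_char] }
  have hg : ∀ (r : R) (a : κ) (m : M), g (r • a) m = g a (r • m) := by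
    intro r a m
    show ((r • a) ^ p) ⊗ₜ[R] T m = (a ^ p) ⊗ₜ[R] T (r • m)
    rw [hT, smul_pow, TensorProduct.smul_tmul]
  let TV0 : TensorProduct R κ M →+ TensorProduct R κ M := TensorProduct.liftAddHom g hg
  have hTV0 : ∀ (a : κ) (m : M), TV0 (a ⊗ₜ[R] m) = (a ^ p) ⊗ₜ[R] T m := fun a m => rfl
  let TV : TensorProduct R κ M →ₛₗ[frobenius κ p] TensorProduct R κ M :=
    { toFun := TV0
      map_add' := map_add TV0
      map_smul' := by
        intro c x
        induction x using TensorProduct.induction_on with
        | zero => simp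
        | tmul a m =>
          rw [TensorProduct.smul_tmul', hTV0, hTV0, smul_eq_mul, mul_pow,
            frobenius_def, TensorProduct.smul_tmul', smul_eq_mul]
        | add x y hx hy =>
          rw [smul_add, map_add, map_add, hx, hy, smul_add] }
  have hTV : ∀ (a : κ) (m : M), TV (a ⊗ₜ[R] m) = (a ^ p) ⊗ₜ[R] T m := fun a m => rfl
  have hspan : Submodule.span κ (Set.range TV) = ⊤ := by
    rw [eq_top_iff]
    rintro x -
    induction x using TensorProduct.induction_on with
    | zero => exact Submodule.zero_mem _
    | tmul a m =>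
      obtain ⟨m', rfl⟩ := hbij.2 m
      have h1 : a ⊗ₜ[R] T m' = a • TV ((1 : κ) ⊗ₜ[R] m') := by
        rw [hTV, one_pow, TensorProduct.smul_tmul', smul_eq_mul, mul_one]
      rw [h1]
      exact Submodule.smul_mem _ _ (Submodule.subset_span ⟨_, rfl⟩)
    | add x y hx hy => exact Submodule.add_mem _ hx hy
  have hinjV : Function.Injective TV :=
    Groth.Agent.Lib.T2H7.FrobMod.injective_of_span p TV hspan
  obtain ⟨hsurjV, hcardV⟩ := Groth.Agent.Lib.T2H7.FrobMod.field_case (k := κ) p
    (Module.finrank κ (TensorProduct R κ M)) (TensorProduct R κ M) TV hspan rfl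
  -- the comparison map
  let ι : M →ₗ[R] TensorProduct R κ M := TensorProduct.mk R κ M 1
  have hι : ∀ m, ι m = (1 : κ) ⊗ₜ[R] m := fun m => rfl
  have hιT : ∀ m, ι (T m) = TV (ι m) := by
    intro m
    rw [hι, hι, hTV, one_pow]
  have hιsurj : Function.Surjective ι := by
    intro x
    induction x using TensorProduct.induction_on with
    | zero => exact ⟨0, map_zero _⟩
    | tmul a m =>
      obtain ⟨r, rfl⟩ := IsLocalRing.residue_surjective a
      refine ⟨r • m, ?_⟩
      rw [hι, ← TensorProduct.smul_tmul, Algebra.smul_def, mul_one]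
      rfl
    | add x y hx hy =>
      obtain ⟨a, rfl⟩ := hx
      obtain ⟨b, rfl⟩ := hy
      exact ⟨a + b, map_add _ _ _⟩
  have hker : ∀ m, ι m = 0 → m ∈ (IsLocalRing.maximalIdeal R • ⊤ : Submodule R M) := by
    intro m hm
    have h1 := TensorProduct.quotTensorEquivQuotSMul_mk_one_tmul (M := M) (IsLocalRing.maximalIdeal R) m
    have h2 : (1 : R ⧸ IsLocalRing.maximalIdeal R) ⊗ₜ[R] m = 0 := hm
    rw [h2, map_zero] at h1
    exact (Submodule.Quotient.mk_eq_zero _).mp h1.symm
  -- the maximal ideal kills `M`
  have hN : (IsLocalRing.maximalIdeal R • ⊤ : Submodule R M) = ⊥ := by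
    refine Submodule.eq_bot_of_le_smul_of_le_jacobson_bot (IsLocalRing.maximalIdeal R) _
      (IsNoetherian.noetherian _) ?_ (IsLocalRing.maximalIdeal_le_jacobson _)
    intro x hx
    obtain ⟨m, rfl⟩ := hbij.2 x
    have hm : m ∈ (IsLocalRing.maximalIdeal R • ⊤ : Submodule R M) := by
      apply hker
      apply hinjV
      rw [← hιT, map_zero]
      have h3 : (Submodule.Quotient.mk (T m) : M ⧸ (IsLocalRing.maximalIdeal R • ⊤ : Submodule R M)) = 0 :=
        (Submodule.Quotient.mk_eq_zero _).mpr hx
      have h1 := TensorProduct.quotTensorEquivQuotSMul_mk_one_tmul (M := M) (IsLocalRing.maximalIdeal R) (T m)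
      rw [h3] at h1
      exact (TensorProduct.quotTensorEquivQuotSMul M (IsLocalRing.maximalIdeal R)).map_eq_zero_iff.mp h1
    refine Submodule.smul_induction_on hm ?_ ?_
    · intro r hr n _
      rw [hT]
      have h4 : r ^ p = r * r ^ (p - 1) := by
        rw [← pow_succ', Nat.sub_add_cancel hp.one_le]
      rw [h4, mul_smul]
      refine Submodule.smul_mem_smul hr (Submodule.smul_mem_smul ?_ Submodule.mem_top)
      exact Ideal.pow_mem_of_mem _ hr _ (Nat.sub_pos_of_lt hp.one_lt)
    · intro x y hx hy
      rw [map_add]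
      exact Submodule.add_mem _ hx hy
  have hιinj : Function.Injective ι := by
    rw [injective_iff_map_eq_zero]
    intro m hm
    have := hker m hm
    rw [hN] at this
    exact (Submodule.mem_bot R).mp this
  refine ⟨?_, ?_⟩
  · intro m
    obtain ⟨v, hv⟩ := hsurjV (ι m)
    obtain ⟨m', rfl⟩ := hιsurj v
    refine ⟨m', hιinj ?_⟩
    show ι (T m' - m') = ι m
    rw [map_sub, hιT]
    exact hv
  · rw [← hcardV]
    apply Nat.card_congr
    refine Equiv.ofBijective (fun m => ⟨ι m.1, by rw [← hιT, m.2]⟩) ⟨?_, ?_⟩
    · intro a b hab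
      exact Subtype.ext (hιinj (congrArg Subtype.val hab))
    · rintro ⟨v, hv⟩
      obtain ⟨m, rfl⟩ := hιsurj v
      refine ⟨⟨m, hιinj ?_⟩, rfl⟩
      rw [hιT]
      exact hv

end Groth.Agent.S13367
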