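import Groth.Statements.S13422
import Groth.Agent.Lib.T2H3QuasiSecB
import Groth.Agent.Lib.Helper12SchDenseExt

set_option autoImplicit false
set_option linter.style.haveILetI false
universe u
open CategoryTheory AlgebraicGeometry
open NeronHD
open CategoryTheory.Limits Groth.Agent.Lib.T2H3.QuasiSec Groth.Agent.Lib.Helper12.SchDense

namespace Groth.Agent.S13422

/-- Let S be a locally Noetherian scheme over a field of characteristic 0, S₀ ⊆ S a scheme-theoretically
dense open, and N a smooth S-scheme with the weak Néron mapping property for S₀ ⊆ S: for every étale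
S-scheme U, restriction to S₀ is a bijection from S-morphisms U → N onto S₀-morphisms U|S₀ → N|S₀.
Then N has the uniqueness half of the Néron mapping property: for every smooth S-scheme Z,
restriction of S-morphisms Z → N to S₀ is injective. (Case of schemes of a statement about algebraic
spaces.) -/
theorem result {k : Type u} [Field k] [CharZero k] {S : Scheme.{u}} (σ : S ⟶ Spec (CommRingCat.of k)) [IsLocallyNoetherian S] (S₀ : S.Opens) (hS₀ : CInt.IsSchematicallyDense S₀)
    (N : Over S) [Smooth N.hom]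
    (hN : ∀ U : Over S, Etale U.hom → Function.Bijective (fun g : U ⟶ N => (Over.pullback S₀.ι).map g))
    (Z : Over S) [Smooth Z.hom] :
    Function.Injective (fun g : Z ⟶ N => (Over.pullback S₀.ι).map g) := by
  intro g₁ g₂ h12
  have h12' : (Over.pullback S₀.ι).map g₁ = (Over.pullback S₀.ι).map g₂ := h12
  -- the two morphisms agree over `S₀`
  have hA : pullback.fst Z.hom S₀.ι ≫ g₁.left = pullback.fst Z.hom S₀.ι ≫ g₂.left := by
    have e1 : ((Over.pullback S₀.ι).map g₁).left ≫ pullback.fst N.hom S₀.ι =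
        pullback.fst Z.hom S₀.ι ≫ g₁.left := by
      simp only [Over.pullback_map_left]; exact pullback.lift_fst _ _ _
    have e2 : ((Over.pullback S₀.ι).map g₂).left ≫ pullback.fst N.hom S₀.ι =
        pullback.fst Z.hom S₀.ι ≫ g₂.left := by
      simp only [Over.pullback_map_left]; exact pullback.lift_fst _ _ _
    rw [← e1, ← e2, h12']
  haveI : IsLocallyNoetherian Z.left := LocallyOfFiniteType.isLocallyNoetherian Z.hom
  have hZ₀ : CInt.IsSchematicallyDense (Z.hom ⁻¹ᵁ S₀) :=
    isSchematicallyDense_preimage_of_flat Z.hom S₀ hS₀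
  have hB : (Z.hom ⁻¹ᵁ S₀).ι ≫ g₁.left = (Z.hom ⁻¹ᵁ S₀).ι ≫ g₂.left := by
    have hfac : (Z.hom ⁻¹ᵁ S₀).ι = pullback.lift (Z.hom ⁻¹ᵁ S₀).ι (Z.hom ∣_ S₀)
        (by rw [morphismRestrict_ι]) ≫ pullback.fst Z.hom S₀.ι := (pullback.lift_fst _ _ _).symm
    rw [hfac, Category.assoc, hA, Category.assoc]
  -- the equalizer
  let ι := equalizer.ι g₁.left g₂.left
  haveI : QuasiCompact ι := by
    rw [← ι.liftCoborder_ι]
    infer_instance
  have hfac : (equalizer.lift (Z.hom ⁻¹ᵁ S₀).ι hB ≫ ι.toImage) ≫ ι.imageι = (Z.hom ⁻¹ᵁ S₀).ι := by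
    rw [Category.assoc, Scheme.Hom.toImage_imageι, equalizer.lift_ι]
  haveI : IsIso ι.imageι :=
    isIso_of_isSchematicallyDense_factors ι.imageι (Z.hom ⁻¹ᵁ S₀) hZ₀ _ hfac
  haveI : IsOpenImmersion ι := by
    rw [← ι.toImage_imageι]
    infer_instance
  -- surjectivity through étale quasi-sections
  have hsurj : Function.Surjective ι := by
    intro z
    obtain ⟨U, g, h, u, hgE, hhg, hspec⟩ := exists_etale_quasiSection Z.hom σ z
    let hh : Over.mk g ⟶ Z := Over.homMk h hhg
    have h1 : hh ≫ g₁ = hh ≫ g₂ := (hN (Over.mk g) hgE).1 (by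
      change (Over.pullback S₀.ι).map (hh ≫ g₁) = (Over.pullback S₀.ι).map (hh ≫ g₂)
      rw [Functor.map_comp, Functor.map_comp, h12'])
    have h3 : h ≫ g₁.left = h ≫ g₂.left := congr($(h1).left)
    have h4 : h u ∈ Set.range ι :=
      ⟨equalizer.lift h h3 u, by rw [← Scheme.Hom.comp_apply, equalizer.lift_ι]⟩
    exact hspec.mem_open ι.isOpenEmbedding.isOpen_range h4
  haveI : Surjective ι := ⟨hsurj⟩
  haveI : IsIso ι := (isIso_iff_isOpenImmersion_and_epi_base ι).mpr
    ⟨inferInstance, (TopCat.epi_iff_surjective _).mpr hsurj⟩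
  ext1
  rw [← cancel_epi ι]
  exact equalizer.condition _ _

end Groth.Agent.S13422
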