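import Groth.Statements.S13423
import Groth.Agent.Lib.Helper3IrrTopE
import Groth.Agent.Lib.Helper3GenFibDim
import Groth.Agent.Lib.Helper6SmQF
import Groth.Agent.Lib.Helper14LocNoeth
import Groth.Agent.S9697
import Groth.Agent.S2279
import Groth.Agent.S2280

set_option autoImplicit false
set_option linter.style.haveILetI false
universe u
open CategoryTheory AlgebraicGeometry
open NeronHD

namespace Groth.Agent.S13423

/-- Let S be a reduced, locally Noetherian scheme over a field of characteristic 0 whose local rings are
all geometrically unibranch, and let f : X → S be quasi-finite (locally of finite type,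
quasi-compact, with finite discrete fibres), separated and dominant, with X connected and nonempty,
such that every fibre X_s over the residue field k(s) is smooth. Then f is étale. (Case of schemes
of a statement about algebraic spaces.) -/
theorem result {k : Type u} [Field k] [CharZero k] {S : Scheme.{u}} (σ : S ⟶ Spec (CommRingCat.of k)) [IsLocallyNoetherian S] [IsReduced S]
    (hS : ∀ s : S, CAlg2.IsGeomUnibranch (S.presheaf.stalk s))
    {X : Scheme.{u}} (f : X ⟶ S) [LocallyOfFiniteType f] [QuasiCompact f] [LocallyQuasiFinite f] [IsSeparated f] [IsDominant f]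
    [ConnectedSpace X]
    (hfib : ∀ s : S, Smooth (Limits.pullback.snd f (S.fromSpecResidueField s))) :
    Etale f := by
  classical
  -- (a) `S` is integral
  have hnil : ∀ s : S, (nilradical (S.presheaf.stalk s)).IsPrime := fun s =>
    (Ideal.Quotient.isDomain_iff_prime _).mp (hS s).1.1
  have hd := (Groth.Agent.S2279.result S).mpr hnil
  have htfae := Groth.Agent.Lib.Helper14.irreducibleComponents_tfae S
    (Groth.Agent.S2280.locNoeth S)
  have hirr : ∀ s : S, IsIrreducible (connectedComponent s) := (htfae.out 3 2).mp hd
  obtain ⟨x₀⟩ : Nonempty X := inferInstance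
  have hrange : Set.range f ⊆ connectedComponent (f x₀) := by
    apply IsPreconnected.subset_connectedComponent
    · exact isPreconnected_range f.continuous
    · exact ⟨x₀, rfl⟩
  have huniv : connectedComponent (f x₀) = Set.univ := by
    rw [← Set.univ_subset_iff, ← f.denseRange.closure_range]
    exact closure_minimal hrange isClosed_connectedComponent
  haveI : PreirreducibleSpace ↥S := ⟨by rw [← huniv]; exact (hirr (f x₀)).2⟩
  haveI : IrreducibleSpace ↥S := ⟨⟨f x₀⟩⟩
  haveI : IsIntegral S := isIntegral_of_irreducibleSpace_of_isReduced S
  -- (b) `f` is formally unramified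
  have hunr : ∀ x : X, ∃ U : X.Opens, x ∈ U ∧ FormallyUnramified (U.ι ≫ f) := by
    intro x
    let s := f x
    let t := S.fromSpecResidueField s
    haveI : Smooth (Limits.pullback.snd f t) := hfib s
    haveI : LocallyQuasiFinite (Limits.pullback.snd f t) :=
      MorphismProperty.pullback_snd (P := @LocallyQuasiFinite) _ _ inferInstance
    haveI : Etale (Limits.pullback.snd f t) :=
      (Groth.Agent.Lib.Helper6.SmQF.etale_iff_smooth_and_locallyQuasiFinite _).mpr
        ⟨inferInstance, inferInstance⟩
    let pt : Spec (S.residueField s) := IsLocalRing.closedPoint (S.residueField s)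
    obtain ⟨x', hx'1, -⟩ := Scheme.Pullback.exists_preimage_pullback (f := f) (g := t) x pt
      (by
        change f x = S.fromSpecResidueField s pt
        rw [Scheme.fromSpecResidueField_apply])
    have h1 := (Groth.Agent.S9697.result f t x').mp ⟨⊤, trivial, by
      exact HasRingHomProperty.comp_of_isOpenImmersion (P := @FormallyUnramified) _ _
        inferInstance⟩
    obtain ⟨U, hU, hUunr⟩ := h1
    refine ⟨U, ?_, hUunr⟩
    rw [← hx'1]
    exact hU
  haveI : FormallyUnramified f := by
    choose U hxU hU using hunr
    refine IsZariskiLocalAtSource.of_iSup_eq_top (P := @FormallyUnramified) U ?_ hU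
    rw [eq_top_iff]
    intro x _
    exact TopologicalSpace.Opens.mem_iSup.mpr ⟨x, hxU x⟩
  -- (c) the generic point is in the image
  have hη : ∃ x : X, f x = genericPoint S := by
    by_contra hne
    have h1 : genericPoint S ∉ Set.range f.base := by
      rintro ⟨x, hx⟩
      exact hne ⟨x, hx⟩
    have h2 := Groth.Agent.Lib.Helper3.GenFibDim.genericPoint_notMem_closure_range f h1
    apply h2
    have h3 : closure (Set.range f.base) = Set.univ := f.denseRange.closure_range
    rw [h3]
    trivial
  exact (Groth.Agent.Lib.Helper3.IrrTop.etale_and_isIntegral_of_unramified f hS hη).1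

end Groth.Agent.S13423
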