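import Groth.Statements.S13689
import Groth.Agent.Lib.T2H9ASBunB
import Groth.Agent.Lib.T2H6RankAdd
import Groth.Agent.Lib.Helper23SecTw

set_option autoImplicit false
set_option linter.style.haveILetI false
set_option linter.unusedVariables false
universe u
open CategoryTheory CategoryTheory.Limits AlgebraicGeometry
open ASBun

namespace Groth.Agent.S13689

open W4c1astiltbs12 in
/-- Let X be proper over a field k, K an algebraic closure of k with projection π : X_K → X, and E a
nonzero finite locally free O_X-module which is absolutely rank-one-isotypical: π^*E ≅ L^{⊕r} for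
some r and some invertible O_{X_K}-module L that is indecomposable (nonzero, and in any
decomposition as a direct sum one summand is zero; for an invertible module this says X_K is
connected). Then E ≅ G^{⊕n} for some n and some indecomposable finite locally free O_X-module G, and
G is unique: any indecomposable G and G' with E ≅ G^{⊕n} and E ≅ G'^{⊕m} are isomorphic. (The
published statement assumes k infinite and X projective, and its extension in the text X proper and
geometrically integral; the argument uses only properness of X and indecomposability of the type L,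
without which the structure sheaf of two points is a counterexample.) -/
theorem result (k : Type u) [Field k] {X : Scheme.{u}}
    (p : X ⟶ Spec (CommRingCat.of k)) [IsProper p] (K : Type u) [Field K] [Algebra k K]
    [IsAlgClosure k K] (E : X.Modules) (hE : FlatMod.IsFinLocFree E) (hE0 : ¬ IsZero E)
    (L : (W4bk4gw11416.baseChange p K).Modules) (hL : PicF.IsInvertible L)
    (hLi : (¬ IsZero L ∧ ∀ A B : (W4bk4gw11416.baseChange p K).Modules, Nonempty (L ≅ A ⊞ B) → IsZero A ∨ IsZero B))
    (r : ℕ) (e : Nonempty (bcMod p K E ≅ pow L r)) :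
    (∃ (G : X.Modules) (n : ℕ), FlatMod.IsFinLocFree G ∧
      (¬ IsZero G ∧ ∀ A B : X.Modules, Nonempty (G ≅ A ⊞ B) → IsZero A ∨ IsZero B) ∧
      Nonempty (E ≅ pow G n)) ∧
    (∀ (G G' : X.Modules) (n m : ℕ),
      (¬ IsZero G ∧ ∀ A B : X.Modules, Nonempty (G ≅ A ⊞ B) → IsZero A ∨ IsZero B) →
      (¬ IsZero G' ∧ ∀ A B : X.Modules, Nonempty (G' ≅ A ⊞ B) → IsZero A ∨ IsZero B) →
      Nonempty (E ≅ pow G n) → Nonempty (E ≅ pow G' m) → Nonempty (G ≅ G')) := by
  letI : X.Over (Spec (CommRingCat.of k)) := ⟨p⟩
  haveI : IsProper (X ↘ Spec (CommRingCat.of k)) := inferInstanceAs (IsProper p)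
  letI : (W4bk4gw11416.baseChange p K).Over (Spec (CommRingCat.of K)) :=
    ⟨pullback.snd p (Spec.map (CommRingCat.ofHom (algebraMap k K)))⟩
  haveI : Algebra.IsAlgebraic k K := IsAlgClosure.isAlgebraic
  have hEc := Groth.Agent.Lib.T2H4.HZshLF.isCoh_of_isFinLocFree E hE
  haveI : Module.Finite k (End E) := Groth.Agent.Lib.T2H9.HomFinite.finite_hom k E E hEc hEc
  obtain ⟨e1⟩ := e
  constructor
  · exact Groth.Agent.Lib.T2H9.ASBun.exists_indec_pow k K
      (pullback.fst p (Spec.map (CommRingCat.ofHom (algebraMap k K))))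
      (IsPullback.of_hasPullback p (Spec.map (CommRingCat.ofHom (algebraMap k K)))) E hE hE0 L
      (Groth.Agent.Lib.T2H6.RankAdd.isCoh_of_isFinLocFreeOfRank L 1
        (Groth.Agent.Lib.Helper23.SecTw.isFinLocFreeOfRank_one_of_isInvertible L hL)) hLi r e1
  · intro G G' n m hG hG' ⟨eG⟩ ⟨eG'⟩
    have hn : n ≠ 0 := by
      rintro rfl
      exact hE0 ((Groth.Agent.Lib.T2H9.ASBun.isZero_copow_zero G).of_iso eG)
    obtain ⟨ε, hε⟩ := (Groth.Agent.Lib.T2H9.KS.krullSchmidt k E).2 n m (fun _ => G) (fun _ => G')
      (fun _ => hG) (fun _ => hG') ⟨eG⟩ ⟨eG'⟩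
    exact hε ⟨0, Nat.pos_of_ne_zero hn⟩

end Groth.Agent.S13689
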