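import Groth.Statements.S13712
import Mathlib
import Groth.Agent.Lib.T2H6Chevalley

set_option autoImplicit false
universe u
open CategoryTheory CategoryTheory.Limits AlgebraicGeometry
open ZeroCyc

namespace Groth.Agent.S13712

/-- Let f : X → Y and g : Y → S be morphisms of schemes with g separated, such that the composite X → S
is integral with topologically finite fibres (every fibre is a finite set). Then the
scheme-theoretic image Y' of f, with its closed immersion Y' → Y, is integral over S, and Y' → S
again has topologically finite fibres. (The published statement is for algebraic spaces; this row is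
the case of schemes.) -/
theorem result {X Y S : Scheme.{u}} (f : X ⟶ Y) (g : Y ⟶ S)
    [IsSeparated g] [IsIntegralHom (f ≫ g)] (hfin : ∀ s : S, Set.Finite ((f ≫ g).base ⁻¹' {s})) :
    IsIntegralHom (f.imageι ≫ g) ∧ ∀ s : S, Set.Finite ((f.imageι ≫ g).base ⁻¹' {s}) := by
  classical
  haveI : IsAffineHom (f ≫ g) := inferInstance
  haveI : UniversallyClosed (f ≫ g) := inferInstance
  haveI : IsAffineHom f := IsAffineHom.of_comp f g
  haveI : UniversallyClosed f := UniversallyClosed.of_comp_of_isSeparated f g
  haveI : QuasiCompact f := inferInstance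
  let h : f.image ⟶ S := f.imageι ≫ g
  have hh : f.toImage ≫ h = f ≫ g := by
    show f.toImage ≫ f.imageι ≫ g = f ≫ g
    rw [Scheme.Hom.toImage_imageι_assoc]
  haveI : Surjective f.toImage := by
    constructor
    have hd : DenseRange f.toImage := f.toImage.denseRange
    have hcl : IsClosed (Set.range f.toImage) := f.toImage.isClosedMap.isClosed_range
    intro y
    have := hd.closure_range
    rw [hcl.closure_eq] at this
    rw [← Set.mem_range, this]; trivial
  haveI : UniversallyClosed h := by
    haveI : UniversallyClosed (f.toImage ≫ h) := by rw [hh]; infer_instance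
    exact UniversallyClosed.of_comp_surjective f.toImage h
  haveI : IsAffineHom h := by
    constructor
    intro U hU
    have hpre : f.toImage ⁻¹ᵁ (h ⁻¹ᵁ U) = (f ≫ g) ⁻¹ᵁ U := by
      rw [← Scheme.Hom.comp_preimage, hh]
    have key : ∀ W : X.Opens, W = (f ≫ g) ⁻¹ᵁ U → IsAffine (W : Scheme.{u}) := by
      intro W hW; subst hW; exact hU.preimage (f ≫ g)
    haveI : IsAffine ((f.toImage ⁻¹ᵁ (h ⁻¹ᵁ U) : X.Opens) : Scheme.{u}) := key _ hpre
    haveI : Surjective (f.toImage ∣_ (h ⁻¹ᵁ U)) :=
      MorphismProperty.of_isPullback (P := @Surjective)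
        (isPullback_morphismRestrict f.toImage (h ⁻¹ᵁ U)).flip inferInstance
    haveI : UniversallyClosed (f.toImage ∣_ (h ⁻¹ᵁ U)) :=
      MorphismProperty.of_isPullback (P := @UniversallyClosed)
        (isPullback_morphismRestrict f.toImage (h ⁻¹ᵁ U)).flip inferInstance
    exact Groth.Agent.Lib.T2H6.Chevalley.isAffine_of_surjective_universallyClosed
      (f.toImage ∣_ (h ⁻¹ᵁ U))
  refine ⟨IsIntegralHom.iff_universallyClosed_and_isAffineHom.mpr ⟨inferInstance, inferInstance⟩, ?_⟩
  intro s
  refine ((hfin s).image f.toImage).subset ?_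
  intro y hy
  obtain ⟨x, rfl⟩ := f.toImage.surjective y
  refine ⟨x, ?_, rfl⟩
  show (f ≫ g) x = s
  rw [← hh, Scheme.Hom.comp_apply]
  exact hy

end Groth.Agent.S13712
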