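import Groth.Statements.S13739
import Groth.Agent.Lib.T2H1SigmaFinite

set_option autoImplicit false
universe u
open SGA1

namespace Groth.Agent.S13739

open CategoryTheory CategoryTheory.Limits AlgebraicGeometry in
/-- Let S be a separated Noetherian scheme, q : X → S finite surjective with X separated, G a finite
group acting on X by S-automorphisms and transitively on the geometric points of X over every
geometric point of S, and r : Y → X a morphism with Y separated. If υ is the morphism from the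
disjoint union of G copies of Y to Y ×_S X (Y over S through r ≫ q) whose σ-th component is (id_Y, r
≫ σ), then υ is finite and surjective. -/
theorem result {X S Y : Scheme.{u}} [IsNoetherian S] [S.IsSeparated] [X.IsSeparated] [Y.IsSeparated] (q : X ⟶ S) [IsFinite q] [Surjective q] {G : Type u} [Group G] [Finite G] (ρ : G →* Aut X) (hρ : ∀ g : G, (ρ g).hom ≫ q = q) (htrans : ∀ (Ω : Type u) [Field Ω] [IsAlgClosed Ω] (τ₁ τ₂ : Spec (CommRingCat.of Ω) ⟶ X), τ₁ ≫ q = τ₂ ≫ q → ∃ g : G, τ₁ ≫ (ρ g).hom = τ₂) (r : Y ⟶ X) (υ : (∐ fun _ : G => Y) ⟶ pullback (r ≫ q) q) (hυ₁ : ∀ σ : G, Sigma.ι (fun _ : G => Y) σ ≫ υ ≫ pullback.fst (r ≫ q) q = 𝟙 Y) (hυ₂ : ∀ σ : G, Sigma.ι (fun _ : G => Y) σ ≫ υ ≫ pullback.snd (r ≫ q) q = r ≫ (ρ σ).hom) : IsFinite υ ∧ Surjective υ := by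
  classical
  have hdesc : υ = Sigma.desc (fun σ : G => Sigma.ι (fun _ : G => Y) σ ≫ υ) := by
    apply Sigma.hom_ext
    intro σ
    rw [Sigma.ι_desc]
  have hfin : ∀ σ : G, IsFinite (Sigma.ι (fun _ : G => Y) σ ≫ υ) := by
    intro σ
    have : IsFinite ((Sigma.ι (fun _ : G => Y) σ ≫ υ) ≫ pullback.fst (r ≫ q) q) := by
      rw [Category.assoc, hυ₁]
      infer_instance
    exact IsFinite.of_comp _ (pullback.fst (r ≫ q) q)
  refine ⟨?_, ⟨fun z => ?_⟩⟩
  · rw [hdesc]
    exact Groth.Agent.Lib.T2H1.SigmaFinite.isFinite_sigmaDesc G _ _ hfin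
  · let P : Scheme.{u} := pullback (r ≫ q) q
    let κ := P.residueField z
    let Ω := AlgebraicClosure κ
    let t : Spec (CommRingCat.of Ω) ⟶ P :=
      Spec.map (CommRingCat.ofHom (algebraMap κ Ω)) ≫ P.fromSpecResidueField z
    obtain ⟨g, hg⟩ := htrans Ω (t ≫ pullback.fst (r ≫ q) q ≫ r) (t ≫ pullback.snd (r ≫ q) q)
      (by simp only [Category.assoc]; rw [pullback.condition])
    have ht : (t ≫ pullback.fst (r ≫ q) q) ≫ (Sigma.ι (fun _ : G => Y) g ≫ υ) = t := by
      apply pullback.hom_ext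
      · simp only [Category.assoc]
        rw [hυ₁, Category.comp_id]
      · simp only [Category.assoc]
        rw [hυ₂]
        simpa only [Category.assoc] using hg
    let pt : Spec (CommRingCat.of Ω) := ⟨⊥, Ideal.isPrime_bot⟩
    have hz : t pt = z := by
      change (Spec.map (CommRingCat.ofHom (algebraMap κ Ω)) ≫ P.fromSpecResidueField z) pt = z
      rw [Scheme.Hom.comp_apply, Scheme.fromSpecResidueField_apply]
    refine ⟨(Sigma.ι (fun _ : G => Y) g) ((t ≫ pullback.fst (r ≫ q) q) pt), ?_⟩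
    rw [← Scheme.Hom.comp_apply, ← Scheme.Hom.comp_apply, ht, hz]

end Groth.Agent.S13739
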