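import Groth.Statements.S13740
import Groth.Agent.S13739
import Groth.Agent.Lib.T2H2CompleteFinite

set_option autoImplicit false
universe w u
open SGA1

namespace Groth.Agent.S13740

open CategoryTheory CategoryTheory.Limits AlgebraicGeometry in
/-- Let S be a separated Noetherian scheme, π : X → S finite and surjective with X separated, G a finite
group acting on X by S-automorphisms and transitively on the geometric points of X over every
geometric point of S, and F a presheaf of sets on schemes satisfying the sheaf condition for every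
finite family of quasi-finite morphisms of finite type whose induced morphism from the disjoint
union is universally submersive (a qfh-sheaf). Then pulling back along π identifies F(S) with the
G-invariant elements of F(X): F(π) is injective with image the invariants. (The published statement
takes F a qfh-sheaf on Noetherian schemes over S; this row takes a presheaf on all schemes with the
sheaf property for every such family, a stronger hypothesis.) -/
theorem result {X S : Scheme.{u}} [IsNoetherian S] [S.IsSeparated] [X.IsSeparated] (q : X ⟶ S) [IsFinite q] [Surjective q] {G : Type u} [Group G] [Finite G] (ρ : G →* Aut X) (hρ : ∀ g : G, (ρ g).hom ≫ q = q) (htrans : ∀ (Ω : Type u) [Field Ω] [IsAlgClosed Ω] (τ₁ τ₂ : Spec (CommRingCat.of Ω) ⟶ X), τ₁ ≫ q = τ₂ ≫ q → ∃ g : G, τ₁ ≫ (ρ g).hom = τ₂) (F : Scheme.{u}ᵒᵖ ⥤ Type w) (hF : ∀ ⦃T : Scheme.{u}⦄ (E : PreZeroHypercover.{u} T), Finite E.I₀ → (∀ i, LocallyOfFiniteType (E.f i)) → (∀ i, QuasiCompact (E.f i)) → (∀ i, LocallyQuasiFinite (E.f i)) → SGA1.UnivSubmersive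 (Sigma.desc E.f) → Presieve.IsSheafFor F E.presieve₀) : Function.Injective (F.map q.op) ∧ Set.range (F.map q.op) = {f : F.obj (Opposite.op X) | ∀ g : G, F.map (ρ g).hom.op f = f} := by
  classical
  -- the covering `{q}` of `S`
  let E₁ : PreZeroHypercover.{u} S := { I₀ := PUnit.{u + 1}, X := fun _ => X, f := fun _ => q }
  have hE₁ : Presieve.IsSheafFor F E₁.presieve₀ := by
    refine hF E₁ (inferInstanceAs (Finite PUnit.{u + 1})) (fun _ => inferInstanceAs (LocallyOfFiniteType q))
      (fun _ => inferInstanceAs (QuasiCompact q)) (fun _ => inferInstanceAs (LocallyQuasiFinite q)) ?_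
    refine Groth.Agent.Lib.T2H2.CompleteFinite.univSubmersive_of_finite_family (Sigma.desc E₁.f)
      (ι := PUnit.{u + 1}) (fun _ => X) (fun i => Sigma.ι E₁.X i) (fun i => ?_) (fun y => ?_)
    · rw [Sigma.ι_desc]
      exact inferInstanceAs (UniversallyClosed q)
    · have hq : Surjective q := inferInstance
      obtain ⟨x, hx⟩ := hq.surj y
      refine ⟨PUnit.unit, x, ?_⟩
      rw [Sigma.ι_desc]
      exact hx
  -- the covering of `X ×_S X` by the graphs of the translations
  let T : Scheme.{u} := pullback (𝟙 X ≫ q) q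
  let υσ : G → (X ⟶ T) := fun σ => pullback.lift (𝟙 X) (ρ σ).hom (by
    rw [Category.id_comp, Category.id_comp, hρ])
  have hυσ₁ : ∀ σ, υσ σ ≫ pullback.fst (𝟙 X ≫ q) q = 𝟙 X := fun σ => pullback.lift_fst _ _ _
  have hυσ₂ : ∀ σ, υσ σ ≫ pullback.snd (𝟙 X ≫ q) q = (ρ σ).hom := fun σ => pullback.lift_snd _ _ _
  obtain ⟨hfin, hsurj⟩ := Groth.Agent.S13739.result q ρ hρ htrans (𝟙 X) (Sigma.desc υσ)
    (fun σ => by rw [← Category.assoc, Sigma.ι_desc, hυσ₁])
    (fun σ => by rw [← Category.assoc, Sigma.ι_desc, hυσ₂, Category.id_comp])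
  have hfinσ : ∀ σ, IsFinite (υσ σ) := by
    intro σ
    have : IsFinite (υσ σ ≫ pullback.fst (𝟙 X ≫ q) q) := by
      rw [hυσ₁]
      infer_instance
    exact IsFinite.of_comp _ (pullback.fst (𝟙 X ≫ q) q)
  let E₂ : PreZeroHypercover.{u} T := { I₀ := G, X := fun _ => X, f := υσ }
  have hE₂ : Presieve.IsSheafFor F E₂.presieve₀ := by
    refine hF E₂ (inferInstanceAs (Finite G)) (fun σ => ?_) (fun σ => ?_) (fun σ => ?_) ?_
    · have := hfinσ σ
      exact inferInstanceAs (LocallyOfFiniteType (υσ σ))
    · have := hfinσ σ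
      exact inferInstanceAs (QuasiCompact (υσ σ))
    · have := hfinσ σ
      exact inferInstanceAs (LocallyQuasiFinite (υσ σ))
    · refine Groth.Agent.Lib.T2H2.CompleteFinite.univSubmersive_of_finite_family (Sigma.desc E₂.f)
        (ι := G) (fun _ => X) (fun σ => Sigma.ι E₂.X σ) (fun σ => ?_) (fun y => ?_)
      · rw [Sigma.ι_desc]
        have := hfinσ σ
        exact inferInstanceAs (UniversallyClosed (υσ σ))
      · obtain ⟨w, hw⟩ := hsurj.surj y
        obtain ⟨σ, x, hx⟩ := (sigmaOpenCover (fun _ : G => X)).exists_eq w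
        refine ⟨σ, x, ?_⟩
        rw [Scheme.Hom.comp_apply]
        rw [← hw, ← hx]
        rfl
  -- the key claim: an invariant section has equal pullbacks along any two maps equalised by `q`
  have key : ∀ f : F.obj (Opposite.op X), (∀ g : G, F.map (ρ g).hom.op f = f) →
      ∀ (Z : Scheme.{u}) (a b : Z ⟶ X), a ≫ q = b ≫ q → F.map a.op f = F.map b.op f := by
    intro f hf Z a b hab
    have h12 : F.map (pullback.fst (𝟙 X ≫ q) q).op f = F.map (pullback.snd (𝟙 X ≫ q) q).op f := by
      refine (hE₂.isSeparatedFor).ext ?_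
      rintro _ _ ⟨σ⟩
      change F.map (υσ σ).op _ = F.map (υσ σ).op _
      rw [← Functor.map_comp_apply, ← Functor.map_comp_apply, ← op_comp, ← op_comp,
        hυσ₁, hυσ₂, hf σ, op_id, Functor.map_id_apply]
    let c : Z ⟶ T := pullback.lift a b (by rw [Category.id_comp, hab])
    have hc₁ : c ≫ pullback.fst (𝟙 X ≫ q) q = a := pullback.lift_fst _ _ _
    have hc₂ : c ≫ pullback.snd (𝟙 X ≫ q) q = b := pullback.lift_snd _ _ _
    rw [← hc₁, ← hc₂, op_comp, op_comp, Functor.map_comp_apply,
      Functor.map_comp_apply, h12]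
  refine ⟨?_, ?_⟩
  · intro a b hab
    refine (hE₁.isSeparatedFor).ext ?_
    rintro _ _ ⟨i⟩
    exact hab
  · ext f
    simp only [Set.mem_range, Set.mem_ofPred_eq]
    constructor
    · rintro ⟨a, rfl⟩ g
      rw [← Functor.map_comp_apply, ← op_comp, hρ]
    · intro hf
      obtain ⟨t, ht, -⟩ := ((Presieve.isSheafFor_arrows_iff F E₁.f).1 hE₁) (fun _ => f)
        (fun i j Z gi gj h => key f hf Z gi gj h)
      exact ⟨t, ht PUnit.unit⟩

end Groth.Agent.S13740
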