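import Groth.Statements.S13796
import Groth.Agent.Lib.T2H2BrTorG

set_option autoImplicit false
universe u
open scoped TensorProduct
open Brauer

namespace Groth.Agent.S13796

/-- In the case of an affine scheme — let R be a commutative ring and A an Azumaya R-algebra of constant
rank n². Then there exist a finitely generated projective R-module E of constant rank n^n and an
R-algebra isomorphism from the n-fold tensor power A ⊗ ⋯ ⊗ A to End_R(E) (existence of an
isomorphism only), so the Brauer class of A is n-torsion. For n = 0 the hypotheses force R = 0,
where the statement holds trivially. (The published statement is for Azumaya algebras of constant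
rank n² on any locally ringed site; this row is the case of the étale site of Spec R, written in
terms of modules: an Azumaya algebra here is one in the usual, étale-local sense.) -/
theorem result (R : Type u) [CommRing R] (A : Type u) [Ring A] [Algebra R A]
    [IsAzumaya R A] (n : ℕ) (hrk : ∀ p : PrimeSpectrum R, Module.rankAtStalk (R := R) A p = n ^ 2) :
    ∃ (E : Type u) (_ : AddCommGroup E) (_ : Module R E), Module.Finite R E ∧ Module.Projective R E ∧
      (∀ p : PrimeSpectrum R, Module.rankAtStalk (R := R) E p = n ^ n) ∧
      Nonempty ((⨂[R] _ : Fin n, A) ≃ₐ[R] Module.End R E) := by
  rcases Nat.eq_zero_or_pos n with h0 | hpos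
  · subst h0
    have hbij : Function.Bijective (Algebra.lmul R R) := by
      constructor
      · intro a b h
        have h1 := LinearMap.congr_fun h 1
        simpa using h1
      · intro f
        refine ⟨f 1, ?_⟩
        apply LinearMap.ext_ring
        simp
    refine ⟨R, inferInstance, inferInstance, inferInstance, inferInstance, fun p => ?_,
      ⟨(Groth.Agent.Lib.T2H2.BrTor.emptyAlg (R := R) (A := A) (ι := Fin 0)).trans
        (AlgEquiv.ofBijective (Algebra.lmul R R) hbij)⟩⟩
    have hnt : Nontrivial R := p.nontrivial
    rw [Module.rankAtStalk_self]
    simp
  · exact Groth.Agent.Lib.T2H2.BrTor.main_pos hrk hpos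

end Groth.Agent.S13796
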