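import Groth.Statements.S13844
import Mathlib
import Groth.Agent.Lib.T2H3StalkSmooth
import Groth.Agent.Lib.Helper10CurveFlat

set_option autoImplicit false
set_option linter.style.haveILetI false
universe u
open CategoryTheory CategoryTheory.Limits AlgebraicGeometry
attribute [local instance] Curv2.resAlgebra
open Curves

namespace Groth.Agent.S13844

/-- Let K be a field and C a normal curve over K, namely an integral normal separated K-scheme of finite
type of dimension one, and let S be a set of closed points of C whose residue fields are separable
over K. If the structure morphism of C is smooth at every point outside S, then it is smooth. (The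
published statement takes S to be a closed subscheme finite étale over K, that is finitely many such
points; this row allows any set of closed points with separable residue fields.) -/
theorem result (K : Type u) [Field K] (C : Scheme.{u}) [C.Over (Spec (CommRingCat.of K))]
    [IsIntegral C] [IsSeparated (C ↘ (Spec (CommRingCat.of K)))] [LocallyOfFinitePresentation (C ↘ (Spec (CommRingCat.of K)))]
    [QuasiCompact (C ↘ (Spec (CommRingCat.of K)))] (hN : ∀ x : C, IsIntegrallyClosed (C.presheaf.stalk x))
    (hdim : topologicalKrullDim C = 1) (S : Set C)
    (hS : ∀ x ∈ S, IsClosed ({x} : Set C) ∧ Algebra.IsSeparable K (C.residueField x))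
    (hsm : ∀ x : C, x ∉ S → x ∈ (C ↘ (Spec (CommRingCat.of K))).smoothLocus) :
    AlgebraicGeometry.Smooth (C ↘ (Spec (CommRingCat.of K))) := by
  haveI hlft : LocallyOfFiniteType (C ↘ (Spec (CommRingCat.of K))) := inferInstance
  haveI hnoeth : IsLocallyNoetherian C :=
    LocallyOfFiniteType.isLocallyNoetherian (C ↘ (Spec (CommRingCat.of K)))
  rw [← Scheme.Hom.smoothLocus_eq_top_iff, eq_top_iff]
  rintro x -
  by_cases hxS : x ∈ S
  · obtain ⟨hxcl, hsep⟩ := hS x hxS
    rw [Groth.Agent.Lib.T2H3.StalkSmooth.mem_smoothLocus_iff_formallySmooth_stalk]
    letI algKB := Curv2.stalkAlgebra K C x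
    haveI : Algebra.EssFiniteType K (C.presheaf.stalk x) :=
      Groth.Agent.Lib.T2H3.StalkSmooth.essFiniteType_stalk K C x
    haveI hded : IsDedekindDomain (C.presheaf.stalk x) :=
      Groth.Agent.Lib.Helper10.CurveFlat.isDedekindDomain_stalk C hdim.le x (hN x)
    haveI : IsRegularLocalRing (C.presheaf.stalk x) :=
      IsRegularLocalRing.of_isRegularRing_of_isLocalRing (C.presheaf.stalk x)
    have hinst : Curv2.resAlgebra K C x =
        (inferInstance : Algebra K (IsLocalRing.ResidueField (C.presheaf.stalk x))) :=
      Algebra.algebra_ext _ _ (fun r => rfl)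
    have hsep' : Algebra.IsSeparable K (IsLocalRing.ResidueField (C.presheaf.stalk x)) := by
      have h := hsep
      rw [hinst] at h
      exact h
    haveI : Algebra.FormallyEtale K (IsLocalRing.ResidueField (C.presheaf.stalk x)) :=
      Algebra.FormallyEtale.of_isSeparable K _
    haveI : Algebra.FormallySmooth K (IsLocalRing.ResidueField (C.presheaf.stalk x)) :=
      inferInstance
    exact Groth.Agent.Lib.T2H3.StalkSmooth.formallySmooth_of_isRegularLocalRing_of_residueField
      K (C.presheaf.stalk x)
  · exact hsm x hxS

end Groth.Agent.S13844
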