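import Groth.Statements.S13903
import Mathlib

set_option autoImplicit false
set_option linter.style.haveILetI false
universe u
open EtAlg

namespace Groth.Agent.S13903

open Module

section count

variable (K L : Type u) [Field K] [CommRing L] [Algebra K L] [Module.Finite K L] [IsReduced L]
  [Algebra.IsSeparable K L]

/-- A finite reduced separable algebra has at least as many geometric points as its dimension. -/
theorem finrank_le_card : finrank K L ≤ Nat.card (L →ₐ[K] AlgebraicClosure K) := by
  classical
  haveI : IsArtinianRing L := isArtinian_of_tower K inferInstance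
  letI := Fintype.ofFinite (MaximalSpectrum L)
  letI fld : ∀ m : MaximalSpectrum L, Field (L ⧸ m.asIdeal) :=
    fun m => @Ideal.Quotient.field _ _ m.asIdeal m.isMaximal
  let e : L ≃ₐ[K] (∀ m : MaximalSpectrum L, L ⧸ m.asIdeal) :=
    (IsArtinianRing.equivPi L).restrictScalars K
  have hfin : ∀ m : MaximalSpectrum L, FiniteDimensional K (L ⧸ m.asIdeal) := fun m =>
    Module.Finite.of_surjective (Ideal.Quotient.mkₐ K m.asIdeal).toLinearMap
      (Ideal.Quotient.mkₐ_surjective K m.asIdeal)
  have hsep : ∀ m : MaximalSpectrum L, Algebra.IsSeparable K (L ⧸ m.asIdeal) := by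
    intro m
    refine ⟨fun y => ?_⟩
    obtain ⟨x, rfl⟩ := Ideal.Quotient.mkₐ_surjective K m.asIdeal y
    have hx : IsSeparable K x := Algebra.IsSeparable.isSeparable K x
    refine Polynomial.Separable.of_dvd hx (minpoly.dvd K _ ?_)
    rw [Polynomial.aeval_algHom_apply, minpoly.aeval, map_zero]
  have h1 : finrank K L = ∑ m : MaximalSpectrum L, finrank K (L ⧸ m.asIdeal) := by
    rw [e.toLinearEquiv.finrank_eq, Module.finrank_pi_fintype]
  have h2 : ∀ m : MaximalSpectrum L,
      Nat.card ((L ⧸ m.asIdeal) →ₐ[K] AlgebraicClosure K) = finrank K (L ⧸ m.asIdeal) := by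
    intro m
    haveI := hfin m
    haveI := hsep m
    exact AlgHom.natCard_of_splits K (L ⧸ m.asIdeal) (AlgebraicClosure K)
      (fun _ => IsAlgClosed.splits _)
  let φ : (Σ m : MaximalSpectrum L, ((L ⧸ m.asIdeal) →ₐ[K] AlgebraicClosure K)) →
      (L →ₐ[K] AlgebraicClosure K) := fun p => p.2.comp (Ideal.Quotient.mkₐ K p.1.asIdeal)
  have hker : ∀ (p : Σ m : MaximalSpectrum L, ((L ⧸ m.asIdeal) →ₐ[K] AlgebraicClosure K))
      (x : L), φ p x = 0 ↔ x ∈ p.1.asIdeal := by
    intro p x
    change p.2 (Ideal.Quotient.mk p.1.asIdeal x) = 0 ↔ _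
    rw [map_eq_zero_iff p.2 p.2.toRingHom.injective, Ideal.Quotient.eq_zero_iff_mem]
  have hφ : Function.Injective φ := by
    rintro ⟨m, τ⟩ ⟨m', τ'⟩ h
    have hm : m = m' := by
      apply MaximalSpectrum.ext
      ext x
      rw [← hker ⟨m, τ⟩ x, ← hker ⟨m', τ'⟩ x, h]
    subst hm
    congr 1
    apply AlgHom.ext
    intro y
    obtain ⟨x, rfl⟩ := Ideal.Quotient.mkₐ_surjective K m.asIdeal y
    exact DFunLike.congr_fun h x
  haveI : ∀ m : MaximalSpectrum L, Finite ((L ⧸ m.asIdeal) →ₐ[K] AlgebraicClosure K) := by
    intro m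
    haveI := hfin m
    infer_instance
  calc finrank K L = ∑ m : MaximalSpectrum L, finrank K (L ⧸ m.asIdeal) := h1
    _ = ∑ m : MaximalSpectrum L, Nat.card ((L ⧸ m.asIdeal) →ₐ[K] AlgebraicClosure K) := by
        simp_rw [h2]
    _ = Nat.card (Σ m : MaximalSpectrum L, ((L ⧸ m.asIdeal) →ₐ[K] AlgebraicClosure K)) :=
        (Nat.card_sigma).symm
    _ ≤ Nat.card (L →ₐ[K] AlgebraicClosure K) := Nat.card_le_card_of_injective φ hφ

omit [IsReduced L] [Algebra.IsSeparable K L] in
/-- An element separating the geometric points generates, when there are enough points. -/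
theorem adjoin_eq_top_of_injective (hcard : finrank K L ≤ Nat.card (L →ₐ[K] AlgebraicClosure K))
    (x : L) (hx : Function.Injective (fun σ : L →ₐ[K] AlgebraicClosure K => σ x)) :
    Algebra.adjoin K ({x} : Set L) = ⊤ := by
  classical
  set A' : Subalgebra K L := Algebra.adjoin K ({x} : Set L) with hA'
  let r : (L →ₐ[K] AlgebraicClosure K) → (A' →ₐ[K] AlgebraicClosure K) := fun σ => σ.comp A'.val
  have hr : Function.Injective r := by
    intro σ σ' h
    apply hx
    have := DFunLike.congr_fun h ⟨x, Algebra.subset_adjoin (Set.mem_singleton x)⟩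
    exact this
  have h1 : Nat.card (L →ₐ[K] AlgebraicClosure K) ≤ Nat.card (A' →ₐ[K] AlgebraicClosure K) :=
    Nat.card_le_card_of_injective r hr
  have h2 : Nat.card (A' →ₐ[K] AlgebraicClosure K) ≤ finrank K A' :=
    card_algHom_le_finrank K A' (AlgebraicClosure K)
  have h3 : finrank K A' ≤ finrank K L := Submodule.finrank_le (Subalgebra.toSubmodule A')
  have h4 : finrank K (Subalgebra.toSubmodule A') = finrank K L := le_antisymm h3 (by
    change finrank K L ≤ finrank K A'
    omega)
  have h5 : Subalgebra.toSubmodule A' = ⊤ := Submodule.eq_top_of_finrank_eq h4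
  apply Subalgebra.toSubmodule_injective
  rw [h5, Algebra.top_toSubmodule]

end count


/-- Let K be a field and L a finite-dimensional reduced commutative K-algebra of dimension d all of
whose elements are separable over K, generated as a K-algebra by z and t. In any finite set of at
least d^(4d) elements of K there is an element c such that c • z + t generates L as a K-algebra.
(The published statement does not require separability; for K of characteristic p and L obtained by
adjoining p-th roots of two independent indeterminates, L is a reduced finite K-algebra generated by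
two elements with no single generator, so separability over K is assumed here, as the counting in
the published proof requires.) -/
theorem result (K L : Type u) [Field K] [CommRing L]
    [Algebra K L] [Module.Finite K L] [IsReduced L] [Algebra.IsSeparable K L] (z t : L)
    (hgen : Algebra.adjoin K ({z, t} : Set L) = ⊤) (S : Finset K)
    (hS : Module.finrank K L ^ (4 * Module.finrank K L) ≤ S.card) :
    ∃ c ∈ S, Algebra.adjoin K ({c • z + t} : Set L) = ⊤ := by
  classical
  set Ω := AlgebraicClosure K with hΩ
  set d := Module.finrank K L with hd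
  have hcard : d ≤ Nat.card (L →ₐ[K] Ω) := finrank_le_card K L
  have hcard' : Nat.card (L →ₐ[K] Ω) ≤ d := card_algHom_le_finrank K L Ω
  have hcd : Nat.card (L →ₐ[K] Ω) = d := le_antisymm hcard' hcard
  letI : Fintype (L →ₐ[K] Ω) := Fintype.ofFinite _
  have hcd' : (Finset.univ : Finset (L →ₐ[K] Ω)).card = d := by
    rw [Finset.card_univ, Fintype.card_eq_nat_card, hcd]
  -- the bad values of `c` for a pair of distinct points
  let bad : (L →ₐ[K] Ω) × (L →ₐ[K] Ω) → Finset K := fun p =>
    S.filter (fun c => p.1 (c • z + t) = p.2 (c • z + t))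
  have hbad : ∀ p ∈ (Finset.univ : Finset (L →ₐ[K] Ω)).offDiag, (bad p).card ≤ 1 := by
    rintro ⟨σ, σ'⟩ hp
    rw [Finset.mem_offDiag] at hp
    rw [Finset.card_le_one]
    intro c hc c' hc'
    rw [Finset.mem_filter] at hc hc'
    by_contra hne
    have e1 := hc.2
    have e2 := hc'.2
    simp only [map_add, map_smul] at e1 e2
    rw [Algebra.smul_def, Algebra.smul_def] at e1 e2
    have hsub : (algebraMap K Ω c - algebraMap K Ω c') * (σ z - σ' z) = 0 := by
      linear_combination e1 - e2
    have hcc : algebraMap K Ω c - algebraMap K Ω c' ≠ 0 := by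
      rw [sub_ne_zero]
      exact fun h => hne ((algebraMap K Ω).injective h)
    have hz : σ z = σ' z := by
      rcases mul_eq_zero.mp hsub with h | h
      · exact absurd h hcc
      · exact sub_eq_zero.mp h
    have ht : σ t = σ' t := by
      rw [hz] at e1
      exact add_left_cancel e1
    apply hp.2.2
    apply AlgHom.ext_of_adjoin_eq_top hgen
    intro y hy
    rcases hy with rfl | rfl
    · exact hz
    · exact ht
  have hunion : (((Finset.univ : Finset (L →ₐ[K] Ω)).offDiag).biUnion bad).card < S.card := by
    calc (((Finset.univ : Finset (L →ₐ[K] Ω)).offDiag).biUnion bad).card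
        ≤ ∑ p ∈ (Finset.univ : Finset (L →ₐ[K] Ω)).offDiag, (bad p).card :=
          Finset.card_biUnion_le
      _ ≤ ∑ _p ∈ (Finset.univ : Finset (L →ₐ[K] Ω)).offDiag, 1 := Finset.sum_le_sum hbad
      _ = d * d - d := by
          rw [Finset.sum_const, smul_eq_mul, mul_one, Finset.offDiag_card, hcd']
      _ < S.card := by
          rcases Nat.eq_zero_or_pos d with h0 | hpos
          · rw [h0] at hS ⊢
            simp only [mul_zero, pow_zero] at hS
            omega
          · have h1 : d * d ≤ d ^ (4 * d) := by
              calc d * d = d ^ 2 := (sq d).symm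
                _ ≤ d ^ (4 * d) := Nat.pow_le_pow_right hpos (by omega)
            have h2 : d * d - d < d * d := Nat.sub_lt (Nat.mul_pos hpos hpos) hpos
            omega
  obtain ⟨c, hcS, hcbad⟩ : ∃ c ∈ S, c ∉ ((Finset.univ : Finset (L →ₐ[K] Ω)).offDiag).biUnion bad := by
    by_contra hcon
    push Not at hcon
    have : S ⊆ ((Finset.univ : Finset (L →ₐ[K] Ω)).offDiag).biUnion bad := fun c hc => hcon c hc
    exact absurd (Finset.card_le_card this) (not_le.mpr hunion)
  refine ⟨c, hcS, adjoin_eq_top_of_injective K L hcard _ ?_⟩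
  intro σ σ' h
  by_contra hne
  apply hcbad
  rw [Finset.mem_biUnion]
  refine ⟨(σ, σ'), ?_, ?_⟩
  · rw [Finset.mem_offDiag]
    exact ⟨Finset.mem_univ _, Finset.mem_univ _, hne⟩
  · rw [Finset.mem_filter]
    exact ⟨hcS, h⟩

end Groth.Agent.S13903
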