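import Groth.Statements.S13934
import Mathlib
import Groth.Agent.Lib.T2H6CurveSat

set_option autoImplicit false
universe u
open CategoryTheory CategoryTheory.Limits AlgebraicGeometry
open W4c1limliniiii

namespace Groth.Agent.S13934

/-- On a smooth proper integral curve over an algebraically closed field (any characteristic), let 0 → L
→ E → M → 0 be a short exact sequence of O_X-modules with E finite locally free of rank 2 and degree
0, L and M invertible and deg L > 0 (so M is det E ⊗ L⁻¹). Then: every invertible sheaf N admitting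
a non-zero map N → E has deg N ≤ deg L, so L is the line bundle of maximal degree in E; every
invertible subsheaf N of E of positive degree with invertible quotient E/N coincides with L (some
isomorphism N ≅ L commutes with the inclusions); and E is not an extension of two invertible sheaves
of degree 0. Degrees are χ(−) minus rank times χ(O_X). (The published lemma is stated on a curve of
genus 2 in characteristic p; its argument uses neither, and this row assumes neither.) -/
theorem result (k : Type u) [Field k] [IsAlgClosed k] (X : Scheme.{u}) [X.Over (Spec (CommRingCat.of k))]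
    [IsIntegral X] [IsProper (X ↘ Spec (CommRingCat.of k))] [Smooth (X ↘ Spec (CommRingCat.of k))]
    (hdim : topologicalKrullDim X = 1)
    (S : ShortComplex X.Modules) (hS : S.ShortExact)
    (hE : FlatMod.IsFinLocFreeOfRank 2 S.X₂) (hE0 : Curv2.deg k X S.X₂ 2 = 0)
    (hL : PicF.IsInvertible S.X₁) (hM : PicF.IsInvertible S.X₃) (hpos : 0 < Curv2.deg k X S.X₁ 1) :
    (∀ (N : X.Modules), PicF.IsInvertible N → ∀ j : N ⟶ S.X₂, j ≠ 0 →
        Curv2.deg k X N 1 ≤ Curv2.deg k X S.X₁ 1) ∧
    (∀ (N : X.Modules), PicF.IsInvertible N → ∀ (j : N ⟶ S.X₂), Mono j →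
        PicF.IsInvertible (cokernel j) → 0 < Curv2.deg k X N 1 → ∃ φ : N ≅ S.X₁, φ.hom ≫ S.f = j) ∧
    (∀ (N N' : X.Modules), PicF.IsInvertible N → PicF.IsInvertible N' →
        Curv2.deg k X N 1 = 0 → Curv2.deg k X N' 1 = 0 →
        ∀ (a : N ⟶ S.X₂) (b : S.X₂ ⟶ N') (w : a ≫ b = 0), ¬ (ShortComplex.mk a b w).ShortExact) := by
  have h1 := Groth.Agent.Lib.Helper23.SecTw.isFinLocFreeOfRank_one_of_isInvertible _ hL
  have h3 := Groth.Agent.Lib.Helper23.SecTw.isFinLocFreeOfRank_one_of_isInvertible _ hM
  have hadd := Groth.Agent.Lib.T2H6.RankAdd.deg_additive k S hS 1 2 1 h1 hE h3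
  have hMneg : Curv2.deg k X S.X₃ 1 < 0 := by linarith
  haveI := hS.mono_f
  have hf0 : S.f ≠ 0 := by
    intro hf
    apply Groth.Agent.Lib.T2H6.CurveSat.id_ne_zero_of_isInvertible S.X₁ hL
    rw [← cancel_mono S.f, hf, comp_zero, comp_zero]
  refine ⟨?_, ?_, ?_⟩
  · intro N hN j hj
    by_cases hψ : j ≫ S.g = 0
    · let φ : N ⟶ S.X₁ := hS.fIsKernel.lift (KernelFork.ofι j hψ)
      have hφ : φ ≫ S.f = j := Fork.IsLimit.lift_ι hS.fIsKernel
      have hφ0 : φ ≠ 0 := by
        intro h0
        apply hj
        rw [← hφ, h0, zero_comp]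
      exact Groth.Agent.Lib.T2H6.CurveDeg.deg_le k hdim hN hL φ hφ0
    · have := Groth.Agent.Lib.T2H6.CurveDeg.deg_le k hdim hN hM (j ≫ S.g) hψ
      linarith
  · intro N hN j hj hq hNpos
    haveI := hj
    rcases Groth.Agent.Lib.T2H6.CurveSat.iso_or_deg_le k hdim S hS hL hM N hN j hq with h | h
    · exact h
    · exfalso
      linarith
  · intro N N' hN hN' hd hd' a b w hT
    by_cases hψ : S.f ≫ b = 0
    · haveI := hT.mono_f
      let ψ : S.X₁ ⟶ N := hT.fIsKernel.lift (KernelFork.ofι S.f hψ)
      have hψ' : ψ ≫ a = S.f := Fork.IsLimit.lift_ι hT.fIsKernel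
      have hψ0 : ψ ≠ 0 := by
        intro h0
        apply hf0
        rw [← hψ', h0, zero_comp]
      have := Groth.Agent.Lib.T2H6.CurveDeg.deg_le k hdim hL hN ψ hψ0
      linarith
    · have := Groth.Agent.Lib.T2H6.CurveDeg.deg_le k hdim hL hN' (S.f ≫ b) hψ
      linarith

end Groth.Agent.S13934
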