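import Groth.Statements.S13987
import Groth.Agent.Lib.T2H2CohLoc

set_option autoImplicit false
universe u
open CategoryTheory CategoryTheory.Limits AlgebraicGeometry
open CohGab

namespace Groth.Agent.S13987

/-- Let X be a Noetherian scheme, Z ⊆ X a closed subset and U = X ∖ Z. Then restriction to U induces an
equivalence between the quotient abelian category Coh(X)/Coh_Z(X) (coherent modules modulo those
supported in Z) and Coh(U): the restriction functor Coh(X) ⥤ Coh(U) is a localization functor for
the class of morphisms of coherent O_X-modules whose kernel and cokernel (taken in O_X-modules) have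
support contained in Z. The hypothesis that restriction to U preserves coherence always holds and is
carried only to form the functor between the full subcategories. (The published statement is about
coherent sheaves twisted by a class in the second etale cohomology group of the units of the
structure sheaf; this row is its case of the trivial class, ordinary coherent sheaves.) -/
theorem result (X : Scheme.{u}) [IsNoetherian X]
    (U : X.Opens)
    (hres : ∀ M : X.Modules, Coh.IsCoh M → Coh.IsCoh ((Scheme.Modules.restrictFunctor U.ι).obj M)) :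
    (ObjectProperty.lift (fun N : (↑U : Scheme.{u}).Modules => Coh.IsCoh N)
        (ObjectProperty.ι (fun M : X.Modules => Coh.IsCoh M) ⋙ Scheme.Modules.restrictFunctor U.ι)
        (fun M => hres M.obj M.property)).IsLocalization
      (fun (A B : ObjectProperty.FullSubcategory (fun M : X.Modules => Coh.IsCoh M)) (f : A ⟶ B) =>
        CohB1.support (kernel f.hom) ⊆ (↑U : Set X)ᶜ ∧
          CohB1.support (cokernel f.hom) ⊆ (↑U : Set X)ᶜ) := by
  classical
  let Rj := Scheme.Modules.restrictFunctor U.ι
  let L := ObjectProperty.lift (fun N : (↑U : Scheme.{u}).Modules => Coh.IsCoh N)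
      (ObjectProperty.ι (fun M : X.Modules => Coh.IsCoh M) ⋙ Scheme.Modules.restrictFunctor U.ι)
      (fun M => hres M.obj M.property)
  have hmap : ∀ {A B : ObjectProperty.FullSubcategory (fun M : X.Modules => Coh.IsCoh M)} (f : A ⟶ B),
      IsIso (L.map f) ↔ IsIso (Rj.map f.hom) := by
    intro A B f
    exact (ObjectProperty.isIso_hom_iff (L.map f)).symm
  have hW : (fun (A B : ObjectProperty.FullSubcategory (fun M : X.Modules => Coh.IsCoh M)) (f : A ⟶ B) =>
        CohB1.support (kernel f.hom) ⊆ (↑U : Set X)ᶜ ∧
          CohB1.support (cokernel f.hom) ⊆ (↑U : Set X)ᶜ) =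
      Groth.Agent.Lib.T2H2.LocFrac.WL L := by
    funext A B f
    apply propext
    rw [Groth.Agent.Lib.T2H2.LocFrac.wl_iff, hmap]
    exact (Groth.Agent.Lib.T2H2.CohLoc.isIso_restrict_iff_support U f.hom).symm
  rw [hW]
  have : L.EssSurj := ⟨fun N => by
    obtain ⟨M, hM, ⟨i⟩⟩ := Groth.Agent.Lib.T2H2.CohLoc.exists_coh_extension U N.obj N.property
    exact ⟨⟨M, hM⟩, ⟨ObjectProperty.isoMk _ i⟩⟩⟩
  refine Groth.Agent.Lib.T2H2.LocFrac.isLocalization L ?_ ?_
  · intro A B g
    obtain ⟨H, p, q, hH, hp, hq⟩ :=
      Groth.Agent.Lib.T2H2.CohLoc.exists_fraction U A.obj B.obj A.property B.property g.hom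
    refine ⟨⟨H, hH⟩, ObjectProperty.homMk p, ObjectProperty.homMk q, (hmap _).2 hp, ?_⟩
    apply ObjectProperty.hom_ext
    exact hq
  · intro A B f g hfg
    have h1 : Rj.map f.hom = Rj.map g.hom := congrArg (fun k => k.hom) hfg
    obtain ⟨K, s, hK, hs, hsfg⟩ :=
      Groth.Agent.Lib.T2H2.CohLoc.exists_equalizing U A.obj B.obj A.property B.property f.hom g.hom h1
    refine ⟨⟨K, hK⟩, ObjectProperty.homMk s, (hmap _).2 hs, ?_⟩
    apply ObjectProperty.hom_ext
    exact hsfg

end Groth.Agent.S13987
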