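import Groth.Statements.S13990
import Groth.Agent.Lib.T2H2SerreCoh

set_option autoImplicit false
universe u
open CategoryTheory AlgebraicGeometry
open CohGab

namespace Groth.Agent.S13990

/-- Let X be a Noetherian scheme. Then Z ↦ Coh_Z(X), the coherent O_X-modules with support contained in
Z, is a bijection from the closed subsets of X onto the Serre subcategories of finite type of Coh(X)
(those generated, as Serre subcategories, by one object). Spelled out with Serre subcategories of
Coh(X) as properties P of O_X-modules such that in a short exact sequence of coherent modules the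
middle term has P iff both outer terms do: (a) for every closed Z, 'support ⊆ Z' is such a property
and there is a coherent F supported in Z such that every such property containing F contains all
coherent modules supported in Z; (b) for every such property P generated on coherent modules by one
coherent module F, there is exactly one closed Z with P(M) ⟺ Supp(M) ⊆ Z for all coherent M. (The
published statement is about coherent sheaves twisted by a class in the second etale cohomology
group of the units of the structure sheaf; this row is its case of the trivial class.) -/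
theorem result (X : Scheme.{u}) [IsNoetherian X] :
    (∀ Z : TopologicalSpace.Closeds X,
      (∀ S : ShortComplex X.Modules, S.ShortExact → Coh.IsCoh S.X₁ → Coh.IsCoh S.X₂ →
          Coh.IsCoh S.X₃ → (CohB1.support S.X₂ ⊆ (↑Z : Set X) ↔
            CohB1.support S.X₁ ⊆ (↑Z : Set X) ∧ CohB1.support S.X₃ ⊆ (↑Z : Set X))) ∧
      ∃ F : X.Modules, Coh.IsCoh F ∧ CohB1.support F ⊆ (↑Z : Set X) ∧
        ∀ Q : ObjectProperty X.Modules, (∀ S : ShortComplex X.Modules, S.ShortExact → Coh.IsCoh S.X₁ → Coh.IsCoh S.X₂ →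
          Coh.IsCoh S.X₃ → (Q S.X₂ ↔ Q S.X₁ ∧ Q S.X₃)) → Q F →
          ∀ M : X.Modules, Coh.IsCoh M → CohB1.support M ⊆ (↑Z : Set X) → Q M) ∧
    (∀ P : ObjectProperty X.Modules, (∀ S : ShortComplex X.Modules, S.ShortExact → Coh.IsCoh S.X₁ → Coh.IsCoh S.X₂ →
          Coh.IsCoh S.X₃ → (P S.X₂ ↔ P S.X₁ ∧ P S.X₃)) →
      (∃ F : X.Modules, Coh.IsCoh F ∧ P F ∧
        ∀ Q : ObjectProperty X.Modules, (∀ S : ShortComplex X.Modules, S.ShortExact → Coh.IsCoh S.X₁ → Coh.IsCoh S.X₂ →
          Coh.IsCoh S.X₃ → (Q S.X₂ ↔ Q S.X₁ ∧ Q S.X₃)) → Q F →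
          ∀ M : X.Modules, Coh.IsCoh M → P M → Q M) →
      ∃! Z : TopologicalSpace.Closeds X, ∀ M : X.Modules, Coh.IsCoh M →
        (P M ↔ CohB1.support M ⊆ (↑Z : Set X))) := by
  refine ⟨fun Z => ⟨?_, ?_⟩, ?_⟩
  · exact Groth.Agent.Lib.T2H2.SerreCoh.isSerre_support (Z : Set X)
  · refine ⟨Groth.Agent.Lib.T2H2.SerreCoh.OZ Z, Groth.Agent.Lib.T2H2.SerreCoh.isCoh_OZ Z,
      (Groth.Agent.Lib.T2H2.SerreCoh.support_OZ Z).le, ?_⟩
    intro Q hQ hQF M hM hMZ
    exact Groth.Agent.Lib.T2H2.SerreCoh.serre_of_support_subset hQ _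
      (Groth.Agent.Lib.T2H2.SerreCoh.isCoh_OZ Z) hQF M hM
      (by rw [Groth.Agent.Lib.T2H2.SerreCoh.support_OZ]; exact hMZ)
  · intro P hP ⟨F, hF, hPF, hgen⟩
    have hcl : IsClosed (CohB1.support F) := Groth.Agent.Lib.T2H5.Devissage.isClosed_support F hF
    have hiff : ∀ M : X.Modules, Coh.IsCoh M → (P M ↔ CohB1.support M ⊆ CohB1.support F) := by
      intro M hM
      constructor
      · intro hPM
        exact hgen (fun N => CohB1.support N ⊆ CohB1.support F)
          (Groth.Agent.Lib.T2H2.SerreCoh.isSerre_support (CohB1.support F)) le_rfl M hM hPM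
      · intro hs
        exact Groth.Agent.Lib.T2H2.SerreCoh.serre_of_support_subset hP F hF hPF M hM hs
    refine ⟨⟨CohB1.support F, hcl⟩, hiff, ?_⟩
    intro Z' hZ'
    have h1 : (Z' : Set X) ⊆ CohB1.support F := by
      have h2 := (hiff _ (Groth.Agent.Lib.T2H2.SerreCoh.isCoh_OZ Z')).1
        ((hZ' _ (Groth.Agent.Lib.T2H2.SerreCoh.isCoh_OZ Z')).2
          (Groth.Agent.Lib.T2H2.SerreCoh.support_OZ Z').le)
      rwa [Groth.Agent.Lib.T2H2.SerreCoh.support_OZ] at h2
    have h3 : CohB1.support F ⊆ (Z' : Set X) := (hZ' F hF).1 hPF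
    exact TopologicalSpace.Closeds.ext (Set.Subset.antisymm h1 h3)

end Groth.Agent.S13990
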