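import Groth.Statements.S14038
import Mathlib
import Groth.Agent.Lib.T1H4HermiteB
set_option backward.isDefEq.respectTransparency.types false

set_option autoImplicit false
universe u
open W4c1frobunstiva

namespace Groth.Agent.S14038

/-- Let k be a field and M a square matrix of size r over the formal power series ring k[[t]] with
non-zero determinant. Call a matrix H over k[[t]] row-reduced when it is upper triangular, each
diagonal entry is a power t^{e_i} of the variable, and every entry above the diagonal in column j is
a polynomial of degree less than e_j (all its coefficients in degrees ≥ e_j vanish). Then there is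
exactly one row-reduced H obtainable from M by left multiplication with an invertible matrix over
k[[t]]. (The published statement takes k algebraically closed; the row-reduction argument needs only
a field.) -/
theorem result (k : Type u) [Field k] (r : ℕ)
    (M : Matrix (Fin r) (Fin r) (PowerSeries k)) (hM : M.det ≠ 0) :
    ∃! H : Matrix (Fin r) (Fin r) (PowerSeries k),
      (∃ e : Fin r → ℕ, (∀ i, H i i = PowerSeries.X ^ e i) ∧ (∀ i j, j < i → H i j = 0) ∧
        (∀ i j, i < j → ∀ n, e j ≤ n → PowerSeries.coeff n (H i j) = 0)) ∧
      ∃ N : Matrix (Fin r) (Fin r) (PowerSeries k), IsUnit N ∧ N * M = H := by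
  obtain ⟨H, N, e, h1, h2, h3, h4, h5⟩ := Groth.Agent.Lib.T1H4.HermiteA.exists_hermite M hM
  refine ⟨H, ⟨⟨e, h1, h2, fun i j hij n hn => h3 i j hij n hn⟩, N, h4, h5⟩, ?_⟩
  rintro H' ⟨⟨e', h1', h2', h3'⟩, N', h4', h5'⟩
  exact Groth.Agent.Lib.T1H4.HermiteB.hermite_unique M H H' N N' e e' h1 h2 h3 h1' h2'
    (fun i j hij n hn => h3' i j hij n hn) h4 h5 h4' h5'

end Groth.Agent.S14038
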