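import Groth.Statements.S14058
import Mathlib
import Groth.Agent.Lib.T2H6ResolEulerC
import Groth.Agent.Lib.T2H6ResolGeomA
import Groth.Agent.Lib.T2H5GenIsoF
import Groth.Agent.S0037
import Groth.Agent.S0042

set_option autoImplicit false
set_option backward.isDefEq.respectTransparency.types false
set_option linter.style.haveILetI false
universe u
open CategoryTheory CategoryTheory.Limits AlgebraicGeometry TopologicalSpace
open Surf

namespace Groth.Agent.S14058

/-- Let k be an algebraically closed field and X a normal surface over k: an integral normal scheme,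
proper over k, of dimension 2. Let π : S → X be a resolution of X: S is an integral scheme of
dimension 2 smooth over k, π is proper, the map O_X → π_*O_S is an isomorphism, and π restricts to
an isomorphism over the open subset of regular points of X. Then R¹π_*O_S = 0 if and only if χ(S,
O_S) = χ(X, O_X). Here R¹π_* is the first right derived functor of the direct image on abelian
sheaves, applied to the abelian sheaf underlying O_S. -/
theorem result (k : Type u) [Field k] [IsAlgClosed k]
    (X : Scheme.{u}) [X.Over (Spec (CommRingCat.of k))] [IsProper (X ↘ (Spec (CommRingCat.of k)))] [IsIntegral X]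
    (hdimX : topologicalKrullDim X = 2) (hnorm : Pi1.IsNormalScheme X)
    (S : Scheme.{u}) (π : S ⟶ X) [IsProper π] [IsIntegral S] (hdimS : topologicalKrullDim S = 2)
    [Smooth (π ≫ (X ↘ (Spec (CommRingCat.of k))))]
    (hO : IsIso (ClSub.unitToPush π))
    (U : X.Opens) (hU : ∀ x : X, x ∈ U ↔ IsRegularLocalRing (X.presheaf.stalk x)) (hiso : IsIso (π ∣_ U)) :
    letI : S.Over (Spec (CommRingCat.of k)) := ⟨π ≫ (X ↘ (Spec (CommRingCat.of k)))⟩
    IsZero ((Coh.RpushAb π 1).obj (Coh.toAb (Coh.structureModule S))) ↔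
      Curv2.euler k S (Coh.structureModule S) = Curv2.euler k X (Coh.structureModule X) := by
  letI : S.Over (Spec (CommRingCat.of k)) := ⟨π ≫ (X ↘ (Spec (CommRingCat.of k)))⟩
  haveI : IsProper (S ↘ Spec (CommRingCat.of k)) :=
    (inferInstance : IsProper (π ≫ (X ↘ (Spec (CommRingCat.of k)))))
  haveI : IsLocallyNoetherian X :=
    LocallyOfFiniteType.isLocallyNoetherian (X ↘ Spec (CommRingCat.of k))
  haveI : CompactSpace X := QuasiCompact.compactSpace_of_compactSpace (X ↘ Spec (CommRingCat.of k))
  have hZ := Groth.Agent.Lib.T2H6.ResolGeom.isClosed_of_subset_compl_regular hnorm hdimX.le U hU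
  -- the generic point is regular
  have hgenU : genericPoint X ∈ U := by
    rw [hU]
    refine Groth.Agent.Lib.T2H6.ResolGeom.isRegularLocalRing_of_coheight_le_one hnorm _ ?_
    have h0 : Order.coheight (genericPoint X) = 0 :=
      Order.coheight_eq_zero.2 (fun y _ => genericPoint_specializes y)
    rw [h0]
    exact zero_le_one
  haveI := hiso
  obtain ⟨s0, hs0⟩ := (π ∣_ U).homeomorph.surjective ⟨genericPoint X, hgenU⟩
  have hW : ((π ⁻¹ᵁ U : S.Opens) : Set S).Nonempty := ⟨s0.1, s0.2⟩
  have hcoh : Coh.IsCoh (Coh.structureModule S) := Groth.Agent.Lib.T2H5.GenIsoF.isCoh_structureModule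
  have hfinU : ∀ x : X, x ∈ U → ∀ q : ℕ, 0 < q →
      IsZero (TopCat.Presheaf.stalk ((Coh.RpushAb π q).obj (Coh.toAb (Coh.structureModule S))).obj x) :=
    fun x hx q hq => Groth.Agent.S0037.result π x
      (Groth.Agent.Lib.T2H6.ResolGeom.finite_fibre_of_isIso_restrict π U x hx) _ hcoh q hq
  have h1 : ∀ x : X, x ∉ ((U : Set X)ᶜ) →
      IsZero (TopCat.Presheaf.stalk ((Coh.RpushAb π 1).obj (Coh.toAb (Coh.structureModule S))).obj x) :=
    fun x hx => hfinU x (by simpa using hx) 1 one_pos
  have h2 : ∀ q : ℕ, 2 ≤ q → ∀ x : X,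
      IsZero (TopCat.Presheaf.stalk ((Coh.RpushAb π q).obj (Coh.toAb (Coh.structureModule S))).obj x) := by
    intro q hq x
    by_cases hx : x ∈ U
    · exact hfinU x hx q (by omega)
    · refine Groth.Agent.S0042.result π x 1 ?_ _ hcoh q (by omega)
      refine Groth.Agent.Lib.T2H6.ResolGeom.fiber_dim_le_one π hdimS.le (π ⁻¹ᵁ U) hW x ?_
      intro s hs hsW
      apply hx
      have : π.base s = x := hs
      rw [← this]
      exact hsW
  have key := Groth.Agent.Lib.T2H6.ResolEuler.isZero_RpushAb_one_iff k X S π rfl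
    (Coh.structureModule S) hcoh ((U : Set X)ᶜ) hZ h1 h2
  rw [key]
  haveI := hO
  rw [Groth.Agent.Lib.T2H6.FieldBC.euler_eq_of_iso k X (asIso (ClSub.unitToPush π)).symm]

end Groth.Agent.S14058
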