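import Groth.Statements.S14114
import Groth.Agent.Lib.T2H2KtoDB

set_option linter.style.haveILetI false

set_option autoImplicit false
universe u
open CategoryTheory CategoryTheory.Limits AlgebraicGeometry Opposite TopologicalSpace
attribute [local instance] HasDerivedCategory.standard
open DCoh

namespace Groth.Agent.S14114

/-- Let X be an affine scheme, E a bounded above cochain complex of finite locally free O_X-modules, F a
cochain complex of quasi-coherent O_X-modules and G a cochain complex of O_X-modules; let f : E → F
and g : F → G be chain maps such that g is a quasi-isomorphism and the composite of f and g is null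
homotopic. Then f is null homotopic. (The published statement only asks the complexes to have
quasi-coherent cohomology sheaves; that version fails for E = O_X placed in one degree mapping to an
acyclic complex of O_X-modules whose complex of global sections is not exact, with G = 0; the
published statement is placed, without a printed proof, as a consequence of the comparison of
homotopy classes with derived-category morphisms, which holds when F has quasi-coherent terms; this
row takes F with quasi-coherent terms and G arbitrary.) -/
theorem result {X : Scheme.{u}} [IsAffine X]
    (E F G : CochainComplex X.Modules ℤ) (b : ℤ) (hEb : ∀ i : ℤ, b < i → IsZero (E.X i))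
    (hE : ∀ i : ℤ, FlatMod.IsFinLocFree (E.X i)) (hF : ∀ i : ℤ, Coh.IsQCoh (F.X i))
    (f : E ⟶ F) (g : F ⟶ G) [QuasiIso g] (hgf : Nonempty (Homotopy (f ≫ g) 0)) :
    Nonempty (Homotopy f 0) := by
  obtain ⟨H⟩ := hgf
  have hb := Groth.Agent.Lib.T2H2.KtoD.qhBij_affine E F b hEb hE hF
  have h1 : (DerivedCategory.Q (C := X.Modules)).map (f ≫ g) = 0 := by
    rw [DerivedCategory.Q_map_eq_of_homotopy _ H, Functor.map_zero]
  haveI : IsIso ((DerivedCategory.Q (C := X.Modules)).map g) := by
    rw [DerivedCategory.isIso_Q_map_iff_quasiIso]
    infer_instance
  have h2 : (DerivedCategory.Q (C := X.Modules)).map f = 0 := by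
    rw [Functor.map_comp] at h1
    exact (cancel_mono (DerivedCategory.Q.map g)).1 (h1.trans zero_comp.symm)
  have h3 : (DerivedCategory.Qh (C := X.Modules)).map
      ((HomotopyCategory.quotient X.Modules (ComplexShape.up ℤ)).map f) =
      DerivedCategory.Qh.map ((HomotopyCategory.quotient X.Modules (ComplexShape.up ℤ)).map 0) := by
    rw [Functor.map_zero, Functor.map_zero]
    exact h2
  exact ⟨HomotopyCategory.homotopyOfEq _ _ (hb.1 h3)⟩

end Groth.Agent.S14114
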