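import Groth.Statements.S14136
import Mathlib
import Groth.Agent.Lib.T2H6CurveSS
import Groth.Agent.Lib.T2H6CurveSmooth

set_option autoImplicit false
universe u
open CategoryTheory CategoryTheory.Limits AlgebraicGeometry
open VBCurve

namespace Groth.Agent.S14136

/-- Let C be a smooth proper geometrically connected curve over a field k (proper, smooth and
geometrically connected over k, of dimension one), and E, F finite locally free O_C-modules of ranks
r ≥ 1 and s ≥ 1 which are semistable: for every finite locally free submodule G of E of rank r' ≥ 1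
one has deg G · r ≤ deg E · r', and similarly for F; here the degree of a rank-n locally free module
is χ(G) − n·χ(O_C), and semistability is tested on submodules, which is equivalent to the definition
through quotient bundles. If μ(E) > μ(F), that is deg E · s > deg F · r, then every homomorphism E →
F is zero. -/
theorem result (k : Type u) [Field k] (X : Scheme.{u}) [X.Over (Spec (CommRingCat.of k))]
    [IsProper (X ↘ Spec (CommRingCat.of k))] [Smooth (X ↘ Spec (CommRingCat.of k))]
    [GeometricallyConnected (X ↘ Spec (CommRingCat.of k))] (hdim : topologicalKrullDim ↥X = 1)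
    (r s : ℕ) (hr : 0 < r) (hs : 0 < s) (E F : X.Modules)
    (hE : FlatMod.IsFinLocFreeOfRank r E) (hF : FlatMod.IsFinLocFreeOfRank s F)
    (hEss : (∀ (G : X.Modules) (r' : ℕ) (i : G ⟶ E), Mono i → 0 < r' → FlatMod.IsFinLocFreeOfRank r' G →
      Curv2.deg k X G r' * (r : ℤ) ≤ Curv2.deg k X E r * (r' : ℤ)))
    (hFss : (∀ (G : X.Modules) (r' : ℕ) (i : G ⟶ F), Mono i → 0 < r' → FlatMod.IsFinLocFreeOfRank r' G →
      Curv2.deg k X G r' * (s : ℤ) ≤ Curv2.deg k X F s * (r' : ℤ)))
    (hslope : Curv2.deg k X F s * (r : ℤ) < Curv2.deg k X E r * (s : ℤ)) (f : E ⟶ F) : f = 0 := by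
  haveI : IsIntegral X := Groth.Agent.Lib.T2H6.CurveSmooth.isIntegral_of_geometricallyConnected k X
  have hreg := Groth.Agent.Lib.T2H6.CurveSmooth.isRegularLocalRing_stalk k X
  refine Groth.Agent.Lib.T2H6.CurveSS.hom_eq_zero k hdim hreg r s hr E F hE hF hEss ?_ f
  intro G r' i hi hr' hG
  have h1 := hFss G r' i hi hr' hG
  have hs' : (0 : ℤ) < (s : ℤ) := by exact_mod_cast hs
  have hr'' : (0 : ℤ) < (r' : ℤ) := by exact_mod_cast hr'
  have hr0 : (0 : ℤ) < (r : ℤ) := by exact_mod_cast hr
  by_contra hcon
  rw [not_lt] at hcon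
  nlinarith [mul_le_mul_of_nonneg_right hcon hs'.le, mul_le_mul_of_nonneg_right h1 hr0.le,
    mul_lt_mul_of_pos_right hslope hr'']

end Groth.Agent.S14136
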