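import Groth.Statements.S14141
import Groth.Agent.Lib.T2H7MumD

set_option autoImplicit false
universe u
open CategoryTheory CategoryTheory.Limits AlgebraicGeometry
open AbSch

namespace Groth.Agent.S14141

/-- Let S be a connected Noetherian scheme, f : X → S a proper flat morphism such that for every point s
of S the natural map κ(s) → H^0(X_s, O_{X_s}) on global sections of the fibre is bijective, g : Y →
S a separated morphism and π : X → Y a morphism over S. If for some point s of S the restriction of
π to the fibre X_s is constant, i.e. factors through the projection X_s → Spec κ(s), then π is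
constant over all of S: it factors as f followed by a section S → Y of g. (The published statement
is for arbitrary Noetherian S with the conclusion over the connected component of s; this row
assumes S connected, the reduction made in the first line of the printed proof.) -/
theorem result {X Y S : Scheme.{u}} [IsNoetherian S] [ConnectedSpace ↥S]
    (f : X ⟶ S) [IsProper f] [Flat f]
    (hfib : ∀ s : ↥S, Function.Bijective (algebraMap (S.residueField s) Γ(f.fiber s, ⊤)))
    (g : Y ⟶ S) [IsSeparated g] (π : X ⟶ Y) (hπ : π ≫ g = f) (s : ↥S)
    (hs : ∃ y : Spec (S.residueField s) ⟶ Y, f.fiberι s ≫ π = f.fiberToSpecResidueField s ≫ y) :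
    ∃ σ : S ⟶ Y, σ ≫ g = 𝟙 S ∧ π = f ≫ σ := by
  have h0 : ∀ s : S, Function.Bijective
      (pullback.snd f (S.fromSpecResidueField s)).appTop.hom := by
    intro s
    have h1 := hfib s
    have h2 : (algebraMap (S.residueField s) Γ(f.fiber s, ⊤) : S.residueField s → Γ(f.fiber s, ⊤)) =
        (f.fiberToSpecResidueField s).appTop.hom ∘ (Scheme.ΓSpecIso (S.residueField s)).inv.hom := rfl
    rw [h2] at h1
    have h3 : Function.Bijective (Scheme.ΓSpecIso (S.residueField s)).inv.hom :=
      (ConcreteCategory.isIso_iff_bijective (Scheme.ΓSpecIso (S.residueField s)).inv).mp inferInstance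
    exact (Function.Bijective.of_comp_iff _ h3).mp h1
  obtain ⟨y, hy⟩ := hs
  have hcoll : ∀ x : X, f.base x = s → π.base x = y.base (IsLocalRing.closedPoint (S.residueField s)) := by
    intro x hx
    have hxr : x ∈ Set.range (f.fiberι s).base := by
      show x ∈ Set.range (pullback.fst f (S.fromSpecResidueField s)).base
      rw [Scheme.Pullback.range_fst, Scheme.range_fromSpecResidueField]
      exact hx
    obtain ⟨z, rfl⟩ := hxr
    have h1 := congrArg (fun k : f.fiber s ⟶ Y => k.base z) hy
    simp only [Scheme.Hom.comp_base, TopCat.comp_app] at h1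
    rw [h1, Scheme.Hom.fiberToSpecResidueField_apply]
  obtain ⟨t, ht1, ht2⟩ := Groth.Agent.Lib.T2H7.MumD.exists_section_of_connected f g π hπ h0 s
    (fun x x' hx hx' => by rw [hcoll x hx, hcoll x' hx'])
  exact ⟨t, ht1, ht2⟩

end Groth.Agent.S14141
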