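import Groth.Statements.S14310
import Mathlib
import Groth.Agent.Lib.T2H4ArSingHessE
import Groth.Agent.Lib.T2H4ArSingHessF
import Groth.Agent.Lib.T2H4ArSingHessG
set_option backward.isDefEq.respectTransparency.types false

set_option autoImplicit false
universe u
open ArSing

namespace Groth.Agent.S14310

/-- Let k be an algebraically closed field, f a polynomial in two variables x = X_0, y = X_1 over k, and
a a point of k². The quotient of the power series ring k[[x,y]] by the polynomial f recentred at a
(which is the completed local ring at a of the plane curve f = 0) is isomorphic as a k-algebra to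
k[[x,y]]/(y^2) if and only if f = g^2 h for polynomials g and h with h(a) ≠ 0, g(a) = 0 and some
first partial derivative of g non-zero at a. (The published statement asks for the component through
a to be the square of a smooth plane curve; only smoothness at a matters and is what is stated here
— for the square of a nodal cubic the completed local ring at a smooth point of the cubic is still
k[[x,y]]/(y^2). No hypothesis on the characteristic of k is imposed; the published setting assumes a
characteristic different from 2, 3, 5 and 7, which the argument does not use.) -/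
theorem result
    {k : Type u} [Field k] [IsAlgClosed k] (f : MvPolynomial (Fin 2) k) (a : Fin 2 → k) :
    Nonempty ((MvPowerSeries (Fin 2) k ⧸ Ideal.span
        ({(MvPolynomial.aeval (fun i : Fin 2 => MvPolynomial.X i + MvPolynomial.C (a i)) f).toMvPowerSeries} :
          Set (MvPowerSeries (Fin 2) k))) ≃ₐ[k]
      (MvPowerSeries (Fin 2) k ⧸ Ideal.span ({MvPowerSeries.X 1 ^ 2} : Set (MvPowerSeries (Fin 2) k)))) ↔
    ∃ g h : MvPolynomial (Fin 2) k, f = g ^ 2 * h ∧ MvPolynomial.eval a h ≠ 0 ∧ MvPolynomial.eval a g = 0 ∧
      ∃ i : Fin 2, MvPolynomial.eval a (MvPolynomial.pderiv i g) ≠ 0 := by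
  constructor
  · rintro ⟨φ⟩
    obtain ⟨G, U, hfac, hU, hG, hG0, hlin⟩ :=
      Groth.Agent.Lib.T2H4.ArSingHessE.exists_sq_factor
        (Groth.Agent.Lib.T2H4.ArSingHessA.tau a f) φ
    exact Groth.Agent.Lib.T2H4.ArSingHessF.exists_poly_factor a G hG hG0 hlin f U hU hfac
  · rintro ⟨g, h, rfl, hh, hg, hi⟩
    exact Groth.Agent.Lib.T2H4.ArSingHessG.equiv_dbl_of_sq a g h hh hg hi

end Groth.Agent.S14310
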