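import Groth.Statements.S14311
import Mathlib
import Groth.Agent.Lib.T2H4ArSingHessA
import Groth.Agent.Lib.T2H4ArSingHessB
import Groth.Agent.Lib.T2H4ArSingHessC
set_option backward.isDefEq.respectTransparency.types false

set_option autoImplicit false
universe u
open ArSing

namespace Groth.Agent.S14311

/-- Let k be an algebraically closed field in which 2 ≠ 0, f a polynomial in x = X_0, y = X_1 over k and
a a zero of f in k². Then the gradient and all second partial derivatives of f vanish at a if and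
only if the completed local ring k[[x,y]]/(f recentred at a) of the plane curve f = 0 at a is
isomorphic as a k-algebra neither to k[[x,y]]/(y^2 - x^(n+1)) for any natural number n nor to
k[[x,y]]/(y^2). (Here n = 0, a smooth point, is allowed; with n ≥ 1 only, as in the published
definition of an A-singularity, the equivalence fails at smooth points of the curve. Only 2 ≠ 0 is
assumed of the characteristic; the published setting assumes a characteristic different from 2, 3, 5
and 7.) -/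
theorem result
    {k : Type u} [Field k] [IsAlgClosed k] (h2 : (2 : k) ≠ 0) (f : MvPolynomial (Fin 2) k) (a : Fin 2 → k)
    (hfa : MvPolynomial.eval a f = 0) :
    ((∀ i : Fin 2, MvPolynomial.eval a (MvPolynomial.pderiv i f) = 0) ∧
      ∀ i j : Fin 2, MvPolynomial.eval a (MvPolynomial.pderiv i (MvPolynomial.pderiv j f)) = 0) ↔
    ¬ ((∃ n : ℕ, Nonempty ((MvPowerSeries (Fin 2) k ⧸ Ideal.span
        ({(MvPolynomial.aeval (fun i : Fin 2 => MvPolynomial.X i + MvPolynomial.C (a i)) f).toMvPowerSeries} :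
          Set (MvPowerSeries (Fin 2) k))) ≃ₐ[k] ArSing.ring k n)) ∨
        Nonempty ((MvPowerSeries (Fin 2) k ⧸ Ideal.span
        ({(MvPolynomial.aeval (fun i : Fin 2 => MvPolynomial.X i + MvPolynomial.C (a i)) f).toMvPowerSeries} :
          Set (MvPowerSeries (Fin 2) k))) ≃ₐ[k]
          (MvPowerSeries (Fin 2) k ⧸ Ideal.span ({MvPowerSeries.X 1 ^ 2} : Set (MvPowerSeries (Fin 2) k))))) := by
  classical
  have hcoe : ∀ (q : MvPolynomial (Fin 2) k) (e : Fin 2 →₀ ℕ),
      MvPowerSeries.coeff e q.toMvPowerSeries = MvPolynomial.coeff e q :=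
    fun q e => MvPolynomial.coeff_coe q e
  obtain ⟨g, hg⟩ : ∃ g, Groth.Agent.Lib.T2H4.ArSingHessA.tau a f = g := ⟨_, rfl⟩
  have hg' : MvPolynomial.aeval (fun i : Fin 2 => MvPolynomial.X i + MvPolynomial.C (a i)) f = g := hg
  rw [Groth.Agent.Lib.T2H4.ArSingHessA.hess_iff h2 a f, hg, hg']
  have h00 : MvPolynomial.coeff 0 g = 0 := by
    rw [← hg, ← Groth.Agent.Lib.T2H4.ArSingHessA.eval_eq]
    exact hfa
  constructor
  · rintro ⟨c10, c01, c20, c11, c02⟩
    have hF : Groth.Agent.Lib.T2H4.ArSingHessB.Ord 3 g.toMvPowerSeries := by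
      apply Groth.Agent.Lib.T2H4.ArSingHessB.ord_three_of_coeff <;> rw [hcoe] <;> assumption
    rintro (⟨n, ⟨e⟩⟩ | ⟨⟨e⟩⟩)
    · exact Groth.Agent.Lib.T2H4.ArSingHessB.not_twoGen _ hF
        (Groth.Agent.Lib.T2H4.ArSingHessB.TwoGen.of_equiv e.toRingEquiv
          (Groth.Agent.Lib.T2H4.ArSingHessB.twoGen_ring n))
    · exact Groth.Agent.Lib.T2H4.ArSingHessB.not_twoGen _ hF
        (Groth.Agent.Lib.T2H4.ArSingHessB.TwoGen.of_equiv e.toRingEquiv
          Groth.Agent.Lib.T2H4.ArSingHessB.twoGen_dbl)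
  · intro hno
    by_contra hne
    apply hno
    obtain ⟨t, ht⟩ := Groth.Agent.Lib.T2H4.ArSingHessA.exists_shear h2 g hne
    obtain ⟨g1, hg1⟩ : ∃ g1, MvPolynomial.aeval (Groth.Agent.Lib.T2H4.ArSingHessA.shear t) g = g1 :=
      ⟨_, rfl⟩
    rw [hg1] at ht
    have h0 : MvPowerSeries.coeff 0 g1.toMvPowerSeries = 0 := by
      rw [hcoe, ← hg1, Groth.Agent.Lib.T2H4.ArSingHessA.coeff_zero_shear]
      exact h00
    have hcl := Groth.Agent.Lib.T2H4.ArSingHessC.classify h2 g1.toMvPowerSeries h0 (by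
      rw [hcoe, hcoe]
      exact ht)
    have E : (MvPowerSeries (Fin 2) k ⧸ Ideal.span {g.toMvPowerSeries}) ≃ₐ[k]
        (MvPowerSeries (Fin 2) k ⧸ Ideal.span {g1.toMvPowerSeries}) :=
      Groth.Agent.Lib.T2H4.ArSingHessC.quotEquivOfEq (Groth.Agent.Lib.T2H4.ArSingHessA.Phi t)
        g.toMvPowerSeries g1.toMvPowerSeries (by
          rw [← hg1]
          exact congrArg (fun x => Ideal.span {x})
            (Groth.Agent.Lib.T2H4.ArSingHessA.Phi_coe t g).symm)
    rcases hcl with ⟨n, ⟨e⟩⟩ | ⟨⟨e⟩⟩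
    · exact Or.inl ⟨n, ⟨E.trans e⟩⟩
    · exact Or.inr ⟨E.trans e⟩

end Groth.Agent.S14311
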