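import Groth.Statements.S14352
import Groth.Agent.S5007
import Groth.Agent.Lib.T2H3UnramGeomFib

set_option autoImplicit false
set_option linter.style.haveILetI false
universe u
open Mor
open Groth.Agent.Lib.T2H3.UnramGeomFib
open CategoryTheory CategoryTheory.Limits AlgebraicGeometry

namespace Groth.Agent.S14352

open CategoryTheory CategoryTheory.Limits AlgebraicGeometry in
/-- A morphism of schemes f : X → S which is locally of finite presentation is unramified (formally
unramified) if and only if all its geometric fibres are reduced with discrete underlying space: for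
every algebraically closed field K and every S-point Spec K → S, the fibre product X ×_S Spec K is a
reduced scheme whose topological space is discrete. -/
theorem result {X S : Scheme.{u}} (f : X ⟶ S)
    [LocallyOfFinitePresentation f] :
    FormallyUnramified f ↔
      ∀ (K : Type u) [Field K] [IsAlgClosed K] (s : Spec (CommRingCat.of K) ⟶ S),
        IsReduced (pullback f s) ∧ DiscreteTopology ↥(pullback f s) := by
  constructor
  · intro hf K _ _ s
    haveI : FormallyUnramified (pullback.snd f s) :=
      MorphismProperty.pullback_snd (P := @FormallyUnramified) f s hf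
    exact isReduced_and_discrete_of_formallyUnramified (pullback.snd f s)
  · intro H
    rw [Groth.Agent.S5007.result (𝟙 S) f f (Category.comp_id f)]
    intro s
    let K := AlgebraicClosure (S.residueField s)
    let j : Spec (CommRingCat.of K) ⟶ Spec (S.residueField s) :=
      Spec.map (CommRingCat.ofHom (algebraMap (S.residueField s) K))
    let e : (𝟙 S : S ⟶ S).fiber s ⟶ Spec (S.residueField s) :=
      pullback.snd (𝟙 S) (S.fromSpecResidueField s)
    haveI : IsIso e := inferInstanceAs (IsIso (pullback.snd (𝟙 S) (S.fromSpecResidueField s)))
    let q : Spec (CommRingCat.of K) ⟶ (𝟙 S : S ⟶ S).fiber s := j ≫ inv e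
    let sbar : Spec (CommRingCat.of K) ⟶ S := j ≫ S.fromSpecResidueField s
    have hq : q ≫ (𝟙 S : S ⟶ S).fiberι s = sbar := by
      have h1 : inv e ≫ pullback.fst (𝟙 S) (S.fromSpecResidueField s) =
          S.fromSpecResidueField s := by
        rw [IsIso.inv_comp_eq]
        have := pullback.condition (f := 𝟙 S) (g := S.fromSpecResidueField s)
        rw [Category.comp_id] at this
        exact this
      change (j ≫ inv e) ≫ pullback.fst (𝟙 S) (S.fromSpecResidueField s) = _
      rw [Category.assoc, h1]
    obtain ⟨hred, hdisc⟩ := H K sbar
    haveI := hred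
    haveI := hdisc
    have hfu : FormallyUnramified (pullback.snd f sbar) :=
      formallyUnramified_of_isReduced_of_discrete (pullback.snd f sbar)
    let l : pullback f sbar ⟶ pullback f ((𝟙 S : S ⟶ S).fiberι s) :=
      pullback.lift (pullback.fst f sbar) (pullback.snd f sbar ≫ q)
        (by rw [Category.assoc, hq]; exact pullback.condition)
    have hl1 : l ≫ pullback.fst f ((𝟙 S : S ⟶ S).fiberι s) = pullback.fst f sbar :=
      pullback.lift_fst _ _ _
    have hl2 : l ≫ pullback.snd f ((𝟙 S : S ⟶ S).fiberι s) = pullback.snd f sbar ≫ q :=
      pullback.lift_snd _ _ _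
    have big : IsPullback (l ≫ pullback.fst f ((𝟙 S : S ⟶ S).fiberι s)) (pullback.snd f sbar) f
        (q ≫ (𝟙 S : S ⟶ S).fiberι s) := by
      rw [hl1, hq]
      exact IsPullback.of_hasPullback f sbar
    have left : IsPullback l (pullback.snd f sbar)
        (pullback.snd f ((𝟙 S : S ⟶ S).fiberι s)) q :=
      IsPullback.of_right big hl2 (IsPullback.of_hasPullback f ((𝟙 S : S ⟶ S).fiberι s))
    have hj1 : Flat j := by
      rw [HasRingHomProperty.Spec_iff (P := @Flat)]
      exact RingHom.Flat.of_isField (Field.toIsField _) _
    have hj2 : Surjective j := by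
      refine ⟨fun x => ?_⟩
      haveI : Subsingleton (Spec (S.residueField s)) :=
        inferInstanceAs (Subsingleton (PrimeSpectrum (S.residueField s)))
      haveI : Nonempty (Spec (CommRingCat.of K)) :=
        inferInstanceAs (Nonempty (PrimeSpectrum K))
      exact ⟨Classical.arbitrary _, Subsingleton.elim _ _⟩
    have hq1 : Flat q := inferInstance
    have hq2 : Surjective q := inferInstance
    have hq3 : QuasiCompact q := inferInstance
    exact MorphismProperty.DescendsAlong.of_isPullback (P := @FormallyUnramified)
      (Q := @Surjective ⊓ @Flat ⊓ @QuasiCompact) left.flip ⟨⟨hq2, hq1⟩, hq3⟩ hfu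

end Groth.Agent.S14352
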