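import Groth.Statements.S14364
import Groth.Agent.Lib.T2H1LpullOpen

set_option autoImplicit false
universe u
open CategoryTheory CategoryTheory.Limits AlgebraicGeometry
attribute [local instance] HasDerivedCategory.standard
open CxOX

namespace Groth.Agent.S14364

/-- Let f : X ⟶ Y be a finite-type morphism between Noetherian schemes, U ⊆ Y an open subscheme with
closed complement Z, and Z' = f⁻¹(Z), the closed complement of f⁻¹(U) in X. For every K in D(O_X)
with quasi-coherent cohomology sheaves, the morphism Rf_*(RΓ_{Z'}(K) ⟶ K) factors through the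
canonical morphism RΓ_Z(Rf_* K) ⟶ Rf_* K, and every morphism Rf_* RΓ_{Z'}(K) ⟶ RΓ_Z(Rf_* K) giving
such a factorisation is an isomorphism; this is the isomorphism Rf_* RΓ_{Z'} ≅ RΓ_Z Rf_*.
(Throughout, RΓ with support is the total right derived functor of the sheaf of sections supported
in the closed subset. The published statement derives instead the functor of sections killed by some
power of a defining ideal; on complexes with quasi-coherent cohomology sheaves over a Noetherian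
scheme the two derived functors agree.) -/
theorem result {X Y : Scheme.{u}} [IsNoetherian X] [IsNoetherian Y]
    (f : X ⟶ Y) [LocallyOfFiniteType f] (U : Y.Opens)
    [CxOX.HasRgammaZ U.ι] [CxOX.HasRgammaZ (f ⁻¹ᵁ U).ι] [DCoh.HasRpush f]
    (K : DCoh.D X) (hK : DCoh.IsQCohD K) :
    (∃ α : (DCoh.Rpush f).obj ((CxOX.RgammaZ (f ⁻¹ᵁ U).ι).obj K) ⟶ (CxOX.RgammaZ U.ι).obj ((DCoh.Rpush f).obj K),
        α ≫ (CxOX.RgammaZToId U.ι).app ((DCoh.Rpush f).obj K) =
          (DCoh.Rpush f).map ((CxOX.RgammaZToId (f ⁻¹ᵁ U).ι).app K)) ∧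
    ∀ α : (DCoh.Rpush f).obj ((CxOX.RgammaZ (f ⁻¹ᵁ U).ι).obj K) ⟶ (CxOX.RgammaZ U.ι).obj ((DCoh.Rpush f).obj K),
        α ≫ (CxOX.RgammaZToId U.ι).app ((DCoh.Rpush f).obj K) =
          (DCoh.Rpush f).map ((CxOX.RgammaZToId (f ⁻¹ᵁ U).ι).app K) → IsIso α := by
  haveI := Groth.Agent.Lib.T2H1.RpushSupport.hasRpush (f ∣_ U)
  -- the two objects vanish on `U`
  have hA : IsZero ((DCoh.restrictD U.ι).obj
      ((DCoh.Rpush f).obj ((CxOX.RgammaZ (f ⁻¹ᵁ U).ι).obj K))) := by
    obtain ⟨θ⟩ := Groth.Agent.Lib.T2H1.RestrictPush.nonempty_restrictD_Rpush_iso (f := f) (V := U)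
    haveI : DCoh.HasLpull (f ∣_ U) := Groth.Agent.Lib.Helper1.Sky.hasLpull _
    obtain ⟨adj⟩ := Groth.Agent.Lib.T2H2.LpullAdj.nonempty_lpullAdj (f ∣_ U)
    refine IsZero.of_iso ?_ (θ.app _)
    exact Groth.Agent.Lib.T2H1.LpullOpen.isZero_rightAdjoint_obj adj
      (Groth.Agent.Lib.T2H1.RgammaSupp.isZero_restrictD_RgammaZ (f ⁻¹ᵁ U).ι K)
  have hB : IsZero ((DCoh.restrictD U.ι).obj
      ((CxOX.RgammaZ U.ι).obj ((DCoh.Rpush f).obj K))) :=
    Groth.Agent.Lib.T2H1.RgammaSupp.isZero_restrictD_RgammaZ U.ι _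
  have bijB := fun S hS => Groth.Agent.Lib.T2H1.LocCan.bijective_comp_RgammaZToId U
    ((DCoh.Rpush f).obj K) S hS
  have bijA := fun S hS =>
    Groth.Agent.Lib.T2H1.LpullOpen.bijective_comp_Rpush_map_RgammaZToId f U K S hS
  constructor
  · obtain ⟨α, hα⟩ := (bijB _ hA).2
      ((DCoh.Rpush f).map ((CxOX.RgammaZToId (f ⁻¹ᵁ U).ι).app K))
    exact ⟨α, hα⟩
  · intro α hα
    obtain ⟨β, hβ⟩ := (bijA _ hB).2 ((CxOX.RgammaZToId U.ι).app ((DCoh.Rpush f).obj K))
    dsimp only at hβ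
    have h1 : α ≫ β = 𝟙 _ := (bijA _ hA).1 (by
      dsimp only
      rw [Category.assoc, hβ, hα, Category.id_comp])
    have h2 : β ≫ α = 𝟙 _ := (bijB _ hB).1 (by
      dsimp only
      rw [Category.assoc, hα, hβ, Category.id_comp])
    exact ⟨β, h1, h2⟩

end Groth.Agent.S14364
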