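import Groth.Statements.S14372
import Mathlib

set_option autoImplicit false
universe u
open Fano

namespace Groth.Agent.S14372

open MvPolynomial

/-- membership in the `φ`-linear span of a finite family -/
def InM {P S ι : Type*} [CommRing P] [CommRing S] [Fintype ι] (φ : P →+* S) (t : ι → S)
    (p : S) : Prop :=
  ∃ c : ι → P, p = ∑ b, φ (c b) * t b

theorem InM.add {P S ι : Type*} [CommRing P] [CommRing S] [Fintype ι] {φ : P →+* S} {t : ι → S}
    {p q : S} (hp : InM φ t p) (hq : InM φ t q) : InM φ t (p + q) := by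
  obtain ⟨c, rfl⟩ := hp
  obtain ⟨d, rfl⟩ := hq
  exact ⟨fun b => c b + d b, by simp only [map_add, add_mul, Finset.sum_add_distrib]⟩

theorem InM.zero {P S ι : Type*} [CommRing P] [CommRing S] [Fintype ι] {φ : P →+* S}
    {t : ι → S} : InM φ t 0 :=
  ⟨fun _ => 0, by simp⟩

theorem InM.mul_left {P S ι : Type*} [CommRing P] [CommRing S] [Fintype ι] {φ : P →+* S}
    {t : ι → S} {p : S} (a : P) (hp : InM φ t p) : InM φ t (φ a * p) := by
  obtain ⟨c, rfl⟩ := hp
  exact ⟨fun b => a * c b, by simp only [map_mul, Finset.mul_sum, mul_assoc]⟩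

theorem InM.sum {P S ι κ : Type*} [CommRing P] [CommRing S] [Fintype ι] {φ : P →+* S}
    {t : ι → S} (s : Finset κ) (f : κ → S) (h : ∀ x ∈ s, InM φ t (f x)) :
    InM φ t (∑ x ∈ s, f x) :=
  Finset.sum_induction f (InM φ t) (fun _ _ => InM.add) InM.zero h

theorem InM.gen {P S ι : Type*} [CommRing P] [CommRing S] [Fintype ι] (φ : P →+* S)
    (t : ι → S) (b : ι) : InM φ t (t b) := by
  classical
  refine ⟨fun j => if j = b then 1 else 0, ?_⟩
  rw [Finset.sum_eq_single b]
  · simp
  · intro j _ hj
    simp [hj]
  · intro h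
    exact absurd (Finset.mem_univ b) h

theorem finite_of_span {A B : Type*} [CommRing A] [CommRing B] (f : A →+* B) {ι : Type*}
    [Fintype ι] (t : ι → B) (h : ∀ x : B, ∃ c : ι → A, x = ∑ i, f (c i) * t i) : f.Finite := by
  letI := f.toAlgebra
  have hspan : Submodule.span A (Set.range t) = ⊤ := by
    rw [eq_top_iff]
    intro x _
    obtain ⟨c, rfl⟩ := h x
    refine Submodule.sum_mem _ (fun i _ => ?_)
    have h1 : f (c i) * t i = c i • t i := by
      rw [Algebra.smul_def, RingHom.algebraMap_toAlgebra]
    rw [h1]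
    exact Submodule.smul_mem _ _ (Submodule.subset_span ⟨i, rfl⟩)
  exact Module.finite_def.mpr (hspan ▸ Submodule.fg_span (Set.finite_range t))

/-- monomials with all exponents `< N` -/
noncomputable def tfam (k : Type*) [CommRing k] (s N : ℕ) (β : Fin s → Fin N) :
    MvPolynomial (Fin s) k :=
  monomial (Finsupp.equivFunOnFinite.symm (fun i => (β i : ℕ))) 1

theorem tfam_eq (k : Type*) [CommRing k] (s N : ℕ) (α : Fin s →₀ ℕ) (h : ∀ i, α i < N) :
    monomial α (1 : k) = tfam k s N (fun i => ⟨α i, h i⟩) := by
  unfold tfam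
  congr 1
  ext i
  simp

theorem finite_of_pow_mem {k : Type*} [Field k] {s m : ℕ}
    (φ : MvPolynomial (Fin m) k →+* MvPolynomial (Fin s) k)
    (hφC : ∀ a : k, φ (C a) = C a)
    (d : Fin m → ℕ) (hd : ∀ j, 0 < d j) (hH : ∀ j, (φ (X j)).IsHomogeneous (d j))
    (N : ℕ) (hN : ∀ i : Fin s, (X i : MvPolynomial (Fin s) k) ^ N ∈
      Ideal.span (Set.range (fun j => φ (X j)))) :
    φ.Finite := by
  classical
  have key : ∀ e : ℕ, ∀ α : Fin s →₀ ℕ, α.degree = e →
      InM φ (tfam k s N) (monomial α 1) := by
    intro e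
    induction e using Nat.strong_induction_on with
    | _ e ih =>
      intro α hα
      by_cases hsmall : ∀ i, α i < N
      · rw [tfam_eq k s N α hsmall]
        exact InM.gen _ _ _
      · push Not at hsmall
        obtain ⟨i, hi⟩ := hsmall
        have hmemI : monomial α (1 : k) ∈ Ideal.span (Set.range (fun j => φ (X j))) := by
          have h1 : monomial α (1 : k) = X i ^ N * monomial (α - Finsupp.single i N) 1 := by
            rw [X_pow_eq_monomial, monomial_mul, one_mul,
              add_tsub_cancel_of_le (Finsupp.single_le_iff.mpr hi)]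
          rw [h1]
          exact Ideal.mul_mem_right _ _ (hN i)
        obtain ⟨c, hc⟩ := Ideal.mem_span_range_iff_exists_fun.mp hmemI
        have h2 : monomial α (1 : k) =
            ∑ j, homogeneousComponent e (c j * φ (X j)) := by
          have h3 := congrArg (homogeneousComponent e) hc
          rw [map_sum, homogeneousComponent_eq_self (isHomogeneous_monomial 1 hα)] at h3
          exact h3.symm
        rw [h2]
        refine InM.sum _ _ (fun j _ => ?_)
        have h3 : c j * φ (X j) = ∑ i ∈ Finset.range ((c j).totalDegree + 1),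
            homogeneousComponent i (c j) * φ (X j) := by
          rw [← Finset.sum_mul, sum_homogeneousComponent]
        rw [h3, map_sum]
        refine InM.sum _ _ (fun i _ => ?_)
        have hhom : (homogeneousComponent i (c j) * φ (X j)).IsHomogeneous (i + d j) :=
          (homogeneousComponent_isHomogeneous i (c j)).mul (hH j)
        rw [homogeneousComponent_of_mem hhom]
        split_ifs with hei
        · rw [mul_comm]
          refine InM.mul_left (X j) ?_
          rw [← support_sum_monomial_coeff (homogeneousComponent i (c j))]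
          refine InM.sum _ _ (fun v hv => ?_)
          have hv' : v.degree = i := by
            rw [support_homogeneousComponent, Finset.mem_filter] at hv
            exact hv.2
          have h4 : monomial v (coeff v (homogeneousComponent i (c j))) =
              φ (C (coeff v (homogeneousComponent i (c j)))) * monomial v 1 := by
            rw [hφC, C_mul_monomial, mul_one]
          rw [h4]
          exact InM.mul_left _ (ih i (by have := hd j; omega) v hv')
        · exact InM.zero
  refine finite_of_span φ (tfam k s N) (fun x => ?_)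
  show InM φ (tfam k s N) x
  rw [← support_sum_monomial_coeff x]
  refine InM.sum _ _ (fun v _ => ?_)
  have h4 : monomial v (coeff v x) = φ (C (coeff v x)) * monomial v 1 := by
    rw [hφC, C_mul_monomial, mul_one]
  rw [h4]
  exact InM.mul_left _ (key _ v rfl)

theorem ringKrullDim_le_of_isIntegral' {A B : Type*} [CommRing A] [CommRing B] (f : A →+* B)
    (hf : f.IsIntegral) : ringKrullDim B ≤ ringKrullDim A := by
  letI := f.toAlgebra
  refine Order.krullDim_le_of_strictMono (PrimeSpectrum.comap f) ?_
  intro p q hpq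
  have hlt : p.asIdeal < q.asIdeal := hpq
  obtain ⟨x, hxq, hxp⟩ := SetLike.exists_of_lt hlt
  have h1 := Ideal.comap_lt_comap_of_integral_mem_sdiff (R := A) hlt.le ⟨hxq, hxp⟩ (hf x)
  exact h1

theorem exists_pow_mem_of_only_zero {k : Type*} [Field k] [IsAlgClosed k] {s m : ℕ}
    (H : Fin m → MvPolynomial (Fin s) k)
    (h : ∀ c : Fin s → k, (∀ j, eval c (H j) = 0) → c = 0) :
    ∃ N : ℕ, ∀ i : Fin s, (X i : MvPolynomial (Fin s) k) ^ N ∈ Ideal.span (Set.range H) := by
  have hrad : ∀ i : Fin s, ∃ n : ℕ,
      (X i : MvPolynomial (Fin s) k) ^ n ∈ Ideal.span (Set.range H) := by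
    intro i
    rw [← Ideal.mem_radical_iff, ← vanishingIdeal_zeroLocus_eq_radical (K := k),
      mem_vanishingIdeal_iff]
    intro x hx
    have hx0 : x = 0 := h x (fun j => hx (H j) (Ideal.subset_span ⟨j, rfl⟩))
    rw [hx0]
    simp
  choose n hn using hrad
  exact ⟨Finset.univ.sup n, fun i =>
    Ideal.pow_mem_of_pow_mem _ (hn i) (Finset.le_sup (Finset.mem_univ i))⟩

/-- Fewer forms of positive degree than variables have a common nontrivial zero. -/
theorem common_zero {k : Type*} [Field k] [IsAlgClosed k] (s m : ℕ) (hms : m < s)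
    (H : Fin m → MvPolynomial (Fin s) k) (d : Fin m → ℕ) (hd : ∀ j, 0 < d j)
    (hH : ∀ j, (H j).IsHomogeneous (d j)) :
    ∃ c : Fin s → k, c ≠ 0 ∧ ∀ j, eval c (H j) = 0 := by
  by_contra hcon
  push Not at hcon
  have h : ∀ c : Fin s → k, (∀ j, eval c (H j) = 0) → c = 0 := by
    intro c hc
    by_contra hc0
    obtain ⟨j, hj⟩ := hcon c hc0
    exact hj (hc j)
  obtain ⟨N, hN⟩ := exists_pow_mem_of_only_zero H h
  have hφX : ∀ j, (aeval H : MvPolynomial (Fin m) k →ₐ[k] _).toRingHom (X j) = H j :=
    fun j => aeval_X H j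
  have hfin : (aeval H : MvPolynomial (Fin m) k →ₐ[k] MvPolynomial (Fin s) k).toRingHom.Finite := by
    refine finite_of_pow_mem _ (fun a => ?_) d hd (fun j => ?_) N ?_
    · exact (aeval H : MvPolynomial (Fin m) k →ₐ[k] _).commutes a
    · rw [hφX]; exact hH j
    · intro i
      have : (fun j => (aeval H : MvPolynomial (Fin m) k →ₐ[k] _).toRingHom (X j)) = H :=
        funext hφX
      rw [this]
      exact hN i
  have hdim := ringKrullDim_le_of_isIntegral' _ hfin.to_isIntegral
  rw [MvPolynomial.ringKrullDim_of_isNoetherianRing, MvPolynomial.ringKrullDim_of_isNoetherianRing,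
    ringKrullDim_eq_zero_of_field, zero_add, zero_add, Nat.card_fin, Nat.card_fin] at hdim
  have : s ≤ m := by exact_mod_cast hdim
  omega

theorem chain_rule {k : Type*} [CommRing k] {σ τ : Type*} [Fintype σ] [DecidableEq σ]
    (g : σ → MvPolynomial τ k) (b' : τ) (p : MvPolynomial σ k) :
    pderiv b' (aeval g p) = ∑ i, pderiv b' (g i) * aeval g (pderiv i p) := by
  induction p using MvPolynomial.induction_on with
  | C a => simp
  | add p q hp hq => simp only [map_add, hp, hq, mul_add, Finset.sum_add_distrib]
  | mul_X p j hp =>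
    have hterm : ∀ i, pderiv b' (g i) * aeval g (pderiv i (p * X j)) =
        pderiv b' (g i) * aeval g (pderiv i p) * g j +
          (if i = j then pderiv b' (g j) * aeval g p else 0) := by
      intro i
      rw [pderiv_mul, map_add, map_mul, map_mul, aeval_X, mul_add, mul_assoc]
      congr 1
      by_cases hij : i = j
      · rw [hij, if_pos rfl, pderiv_X_self, map_one, mul_one]
      · rw [if_neg hij, pderiv_X_of_ne (Ne.symm hij), map_zero, mul_zero, mul_zero]
    rw [Finset.sum_congr rfl (fun i _ => hterm i), Finset.sum_add_distrib, ← Finset.sum_mul,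
      Finset.sum_ite_eq', if_pos (Finset.mem_univ j), map_mul, aeval_X, pderiv_mul, hp]
    ring

theorem eval_aeval_lin {k : Type*} [Field k] {n s : ℕ} (u : Fin s → (Fin n → k))
    (c : Fin s → k) (p : MvPolynomial (Fin n) k) :
    eval c (aeval (fun i => ∑ a, C (u a i) * (X a : MvPolynomial (Fin s) k)) p) =
      eval (∑ a, c a • u a) p := by
  induction p using MvPolynomial.induction_on with
  | C a => simp
  | add p q hp hq => simp only [map_add, hp, hq]
  | mul_X p i hp =>
    simp only [map_mul, aeval_X, eval_X, hp]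
    congr 1
    simp only [map_sum, map_mul, eval_C, eval_X, Finset.sum_apply, Pi.smul_apply, smul_eq_mul]
    exact Finset.sum_congr rfl (fun a _ => mul_comm _ _)

theorem fano_core {k : Type*} [Field k] [IsAlgClosed k] (n d s : ℕ) (hd : 2 ≤ d)
    (f : MvPolynomial (Fin n) k) (hf : f.IsHomogeneous d)
    (u : Fin s → (Fin n → k)) (hli : LinearIndependent k u)
    (hU : ∀ c : Fin s → k, eval (∑ a, c a • u a) f = 0)
    (hsm : ∀ c : Fin s → k, c ≠ 0 → ∃ i, eval (∑ a, c a • u a) (pderiv i f) ≠ 0) :
    2 * s ≤ n := by
  classical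
  by_contra hcon
  rw [not_le] at hcon
  obtain ⟨g, hg⟩ : ∃ g : Fin n → MvPolynomial (Fin s) k,
      g = fun i => ∑ a, C (u a i) * (X a : MvPolynomial (Fin s) k) := ⟨_, rfl⟩
  have hg1 : ∀ i, (g i).IsHomogeneous 1 := by
    intro i
    rw [hg]
    exact IsHomogeneous.sum _ _ _ (fun a _ => isHomogeneous_C_mul_X _ _)
  have heval : ∀ (c : Fin s → k) (p : MvPolynomial (Fin n) k),
      eval c (aeval g p) = eval (∑ a, c a • u a) p := by
    intro c p
    rw [hg]
    exact eval_aeval_lin u c p
  have hΦf : aeval g f = 0 := by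
    apply MvPolynomial.funext
    intro c
    rw [heval, map_zero]
    exact hU c
  have hGhom : ∀ i, (aeval g (pderiv i f)).IsHomogeneous (d - 1) := by
    intro i
    have h1 := (hf.pderiv (i := i)).aeval g hg1
    rwa [one_mul] at h1
  have hgd : ∀ (b' : Fin s) (i : Fin n), pderiv b' (g i) = C (u b' i) := by
    intro b' i
    rw [hg]
    show pderiv b' (∑ a, C (u a i) * (X a : MvPolynomial (Fin s) k)) = C (u b' i)
    rw [map_sum, Finset.sum_eq_single b']
    · rw [pderiv_C_mul, pderiv_X_self, mul_one]
    · intro a _ ha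
      rw [pderiv_C_mul, pderiv_X_of_ne ha, mul_zero]
    · intro h
      exact absurd (Finset.mem_univ b') h
  have hrel : ∀ b' : Fin s, ∑ i, u b' i • aeval g (pderiv i f) = 0 := by
    intro b'
    have h1 := chain_rule g b' f
    rw [hΦf, map_zero] at h1
    simp only [hgd] at h1
    simp only [smul_eq_C_mul]
    exact h1.symm
  obtain ⟨L, hL⟩ : ∃ L : (Fin n → k) →ₗ[k] MvPolynomial (Fin s) k,
      ∀ w, L w = ∑ i, w i • aeval g (pderiv i f) :=
    ⟨Fintype.linearCombination k (fun i => aeval g (pderiv i f)),
      fun w => Fintype.linearCombination_apply k _ w⟩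
  have hker : Submodule.span k (Set.range u) ≤ LinearMap.ker L := by
    refine Submodule.span_le.mpr ?_
    rintro _ ⟨b', rfl⟩
    rw [SetLike.mem_coe, LinearMap.mem_ker, hL]
    exact hrel b'
  have hfr : Module.finrank k (Submodule.span k (Set.range u)) = s := by
    rw [finrank_span_eq_card hli, Fintype.card_fin]
  have hrn := LinearMap.finrank_range_add_finrank_ker L
  rw [Module.finrank_fin_fun] at hrn
  have hkerge : s ≤ Module.finrank k (LinearMap.ker L) := by
    have h := Submodule.finrank_mono hker
    omega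
  have hms : Module.finrank k (LinearMap.range L) < s := by omega
  have hHhom : ∀ j, ((Module.finBasis k (LinearMap.range L) j :
      MvPolynomial (Fin s) k)).IsHomogeneous (d - 1) := by
    intro j
    obtain ⟨w, hw⟩ := (Module.finBasis k (LinearMap.range L) j).2
    rw [← hw, hL]
    refine IsHomogeneous.sum _ _ _ (fun i _ => ?_)
    rw [smul_eq_C_mul]
    exact (hGhom i).C_mul _
  obtain ⟨c, hc0, hc⟩ := common_zero s _ hms
    (fun j => (Module.finBasis k (LinearMap.range L) j : MvPolynomial (Fin s) k))
    (fun _ => d - 1) (fun _ => by omega) hHhom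
  have hGc : ∀ i, eval c (aeval g (pderiv i f)) = 0 := by
    intro i
    have hGi : aeval g (pderiv i f) ∈ LinearMap.range L := by
      refine ⟨Pi.single i 1, ?_⟩
      rw [hL, Finset.sum_eq_single i]
      · rw [Pi.single_eq_same, one_smul]
      · intro j _ hji
        rw [Pi.single_eq_of_ne hji, zero_smul]
      · intro h
        exact absurd (Finset.mem_univ i) h
    have h3 := congrArg (fun y : ↥(LinearMap.range L) => (y : MvPolynomial (Fin s) k))
      ((Module.finBasis k (LinearMap.range L)).sum_repr ⟨_, hGi⟩)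
    simp only [Submodule.coe_sum, Submodule.coe_smul] at h3
    rw [← h3, map_sum]
    refine Finset.sum_eq_zero (fun j _ => ?_)
    rw [smul_eq_C_mul, map_mul, hc j, mul_zero]
  obtain ⟨i, hi⟩ := hsm c hc0
  apply hi
  rw [← heval]
  exact hGc i

/-- Over an algebraically closed field k of arbitrary characteristic, let f be a homogeneous form of
degree d ≥ 2 in n + 1 variables and U a linear subspace of k^(n+1) on which f vanishes, such that at
every nonzero vector of U some partial derivative of f does not vanish (the hypersurface f = 0 in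
P^n contains the r-plane P(U), r + 1 = dim U, and is smooth at every point of it). Then 2 · dim U ≤
n + 1, i.e. r ≤ (n − 1)/2. (The published statement assumes the hypersurface smooth everywhere; this
row assumes smoothness only along P(U).) -/
theorem result (k : Type u) [Field k] [IsAlgClosed k]
    (n d : ℕ) (hd : 2 ≤ d) (f : MvPolynomial (Fin (n + 1)) k) (hf : f.IsHomogeneous d)
    (U : Submodule k (Fin (n + 1) → k)) (hU : ∀ u ∈ U, MvPolynomial.eval u f = 0)
    (hsm : ∀ u ∈ U, u ≠ 0 → ∃ i : Fin (n + 1), MvPolynomial.eval u (MvPolynomial.pderiv i f) ≠ 0) :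
    2 * Module.finrank k ↥U ≤ n + 1 := by
  classical
  have hli : LinearIndependent k
      (fun a : Fin (Module.finrank k ↥U) => ((Module.finBasis k ↥U a : ↥U) : Fin (n + 1) → k)) :=
    (Module.finBasis k ↥U).linearIndependent.map' U.subtype (Submodule.ker_subtype U)
  have hmem : ∀ c : Fin (Module.finrank k ↥U) → k,
      (∑ a, c a • ((Module.finBasis k ↥U a : ↥U) : Fin (n + 1) → k)) ∈ U :=
    fun c => U.sum_mem (fun a _ => U.smul_mem _ (Module.finBasis k ↥U a).2)
  refine fano_core (n + 1) d (Module.finrank k ↥U) hd f hf _ hli (fun c => hU _ (hmem c))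
    (fun c hc0 => hsm _ (hmem c) (fun h0 => hc0 ?_))
  funext a
  exact Fintype.linearIndependent_iff.mp hli c h0 a

end Groth.Agent.S14372
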