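import Groth.Statements.S1440
import Groth.Agent.Lib.T2H3ComplDecomp

set_option autoImplicit false
set_option linter.style.haveILetI false
universe u
open FlatMor

namespace Groth.Agent.S1440

open AlgebraicGeometry CategoryTheory Limits in
/-- Let f : X → Y be locally of finite presentation with Y quasi-compact and quasi-separated, and assume
f is completely decomposed: every point y of Y is the image of a point x at which the residue field
extension is trivial. Then there are finitely many immersions Z_i → Y of finite presentation,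
jointly surjective, such that each base change X ×_Y Z_i → Z_i admits a section. -/
theorem result {X Y : Scheme.{u}} (f : X ⟶ Y) [LocallyOfFinitePresentation f] [CompactSpace ↑Y] [QuasiSeparatedSpace ↑Y]
    (hcd : ∀ y : Y, ∃ x : X, f x = y ∧ Function.Bijective (f.residueFieldMap x)) :
    ∃ (n : ℕ) (Z : Fin n → Scheme.{u}) (z : ∀ i, Z i ⟶ Y), (∀ y : Y, ∃ i, y ∈ Set.range ⇑(z i)) ∧
      ∀ i, IsImmersion (z i) ∧ LocallyOfFinitePresentation (z i) ∧ QuasiCompact (z i) ∧ QuasiSeparated (z i) ∧
        ∃ s : Z i ⟶ pullback f (z i), s ≫ pullback.snd f (z i) = 𝟙 (Z i) := by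
  obtain ⟨n, Z, z, σ, hcov, hZ⟩ :=
    Groth.Agent.Lib.T2H3.ComplDecomp.exists_finite_stratification f hcd
  refine ⟨n, Z, z, hcov, fun i => ?_⟩
  obtain ⟨h1, h2, h3, h4⟩ := hZ i
  haveI := h1
  haveI := h2
  refine ⟨h2, h3, inferInstance, inferInstance, pullback.lift (σ i) (𝟙 _) ?_, ?_⟩
  · rw [h4, Category.id_comp]
  · exact pullback.lift_snd _ _ _

end Groth.Agent.S1440
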