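import Groth.Statements.S14415
import Groth.Agent.Lib.Helper18FinFlat1
import Groth.Agent.Lib.Helper23AssAffine
import Groth.Agent.Lib.Helper2Push
import Groth.Agent.Lib.Helper28Normal
import Groth.Agent.Lib.T2H2AssFlat
import Groth.Agent.Lib.T2H2RegDimOne
import Groth.Agent.Lib.T2H2StalkLoc

set_option autoImplicit false
universe u
open CategoryTheory AlgebraicGeometry
open FlatMor

namespace Groth.Agent.S14415
open Groth.Agent.Lib.Helper2.LocFree Groth.Agent.Lib.Helper2.FlatOver Groth.Agent.Lib.Helper2.QCoh
open Groth.Agent.Helper18FinFlat Groth.Agent.Lib.Helper23.QCohLocal Groth.Agent.Lib.Helper2.FinPushFP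

/-- Let f : C → C' be a finite morphism of schemes, with C' locally Noetherian and all local rings of C'
regular of dimension at most one, such that every associated point x of C (a point whose maximal
ideal is an associated prime of O_{C,x}) maps to a point of C' whose local ring is zero-dimensional,
that is, to a generic point of an irreducible component of C'. Then f_* O_C is finite locally free.
(The published statement takes C' regular Noetherian of pure dimension one and C Noetherian of pure
dimension one without embedded points; these hypotheses imply that every associated point of C maps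
to a generic point of C'. This row assumes only that condition, allows C' locally Noetherian with
regular local rings of dimension at most one, and puts no condition on the dimension of C; the
argument is local on C'.) -/
theorem result
    (C C' : Scheme.{u}) (f : C ⟶ C') [IsFinite f] [IsLocallyNoetherian C']
    (hreg : ∀ y : C', IsRegularLocalRing (C'.presheaf.stalk y))
    (hdim : ∀ y : C', ringKrullDim (C'.presheaf.stalk y) ≤ 1)
    (hass : ∀ x : C, Curv2.IsAssPoint (Coh.structureModule C) x →
      ringKrullDim (C'.presheaf.stalk (f.base x)) = 0) :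
    FlatMod.IsFinLocFree ((Coh.push f).obj (Coh.structureModule C)) := by
  have lfp : LocallyOfFinitePresentation f :=
    LocallyOfFinitePresentation.iff_locallyOfFiniteType.2 inferInstance
  have hCN : IsLocallyNoetherian C := LocallyOfFiniteType.isLocallyNoetherian f
  have qc : ((Scheme.Modules.pushforward f).obj (Coh.structureModule C)).IsQuasicoherent :=
    isQuasicoherent_pushforward f _
  have : SheafOfModules.IsFinitePresentation (R := C.ringCatSheaf) (Coh.structureModule C) :=
    isFinitePresentation_structureModule C
  have fp : SheafOfModules.IsFinitePresentation (R := C'.ringCatSheaf)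
      ((Scheme.Modules.pushforward f).obj (Coh.structureModule C)) :=
    (isFinitePresentation_pushforward_iff f _).1 inferInstance
  intro y
  obtain ⟨W, hW, hyW, -⟩ := exists_isAffineOpen_mem_and_subset (x := y) (U := ⊤) trivial
  have hU : IsAffineOpen (f ⁻¹ᵁ W) := hW.preimage f
  have hflat : Module.Flat Γ(C', W)
      Γ((Scheme.Modules.pushforward f).obj (Coh.structureModule C), W) := by
    let _ : Algebra Γ(C', W) Γ(C, f ⁻¹ᵁ W) := (f.app W).hom.toAlgebra
    have hBN : IsNoetherianRing Γ(C, f ⁻¹ᵁ W) :=
      IsLocallyNoetherian.component_noetherian ⟨_, hU⟩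
    have : Module.Flat Γ(C', W) Γ(C, f ⁻¹ᵁ W) := by
      refine Groth.Agent.Lib.T2H2.AssFlat.flat_of_ass_minimal (fun p hp => ?_) (fun q hq => ?_)
      · have hpp : p.IsPrime := hp.isPrime
        obtain ⟨e⟩ := Groth.Agent.Lib.T2H2.StalkLoc.nonempty_stalk_fromSpec_ringEquiv hW ⟨p, hpp⟩
        have hr : IsRegularLocalRing (Localization.AtPrime p) :=
          @IsRegularLocalRing.of_ringEquiv _ _ (hreg _) _ _ e
        have hd : ringKrullDim (Localization.AtPrime p) ≤ 1 := by
          rw [← ringKrullDim_eq_of_ringEquiv e]
          exact hdim _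
        have hdom : IsDomain (Localization.AtPrime p) :=
          (Groth.Agent.Lib.Helper28.isDomain_and_isIntegrallyClosed_of_isRegularLocalRing_of_dim_le_one
            hr hd).1
        exact ⟨hdom, Groth.Agent.Lib.T2H2.RegDimOne.isPrincipalIdealRing_of_regular_dim_le_one _ hr hd⟩
      · have hqp : q.IsPrime := hq.isPrime
        set x : C := hU.fromSpec ⟨q, hqp⟩ with hxdef
        have hxU : x ∈ f ⁻¹ᵁ W := fromSpec_mem hU _
        have hpx : hU.primeIdealOf ⟨x, hxU⟩ = ⟨q, hqp⟩ := primeIdealOf_fromSpec hU _
        have hassx : Curv2.IsAssPoint (Coh.structureModule C) x := by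
          rw [Groth.Agent.Lib.Helper23.AssAffine.isAssPoint_iff_mem_associatedPrimes hU _ x hxU, hpx]
          change q ∈ associatedPrimes _ _
          rw [LinearEquiv.AssociatedPrimes.eq (Groth.Agent.Helper18Cart.strEquiv C (f ⁻¹ᵁ W))]
          exact hq
        have h0 := hass x hassx
        have hfx : f x ∈ W := hxU
        let _ := C'.presheaf.algebra_section_stalk ⟨f x, hfx⟩
        have h1 : IsLocalization.AtPrime (C'.presheaf.stalk (f x))
            (hW.primeIdealOf ⟨f x, hfx⟩).asIdeal := hW.isLocalization_stalk ⟨_, hfx⟩
        have h2 : hW.primeIdealOf ⟨f x, hfx⟩ = (hU.primeIdealOf ⟨x, hxU⟩).comap (f.app W).hom :=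
          Groth.Agent.Lib.Helper2.Push.primeIdealOf_map f hW hU x hfx
        rw [hpx] at h2
        have h3 : ringKrullDim (C'.presheaf.stalk (f x)) =
            ((hW.primeIdealOf ⟨f x, hfx⟩).asIdeal.height : WithBot ℕ∞) :=
          IsLocalization.AtPrime.ringKrullDim_eq_height _ _
        rw [h3, h2] at h0
        have h4 : (q.comap (algebraMap Γ(C', W) Γ(C, f ⁻¹ᵁ W))).height = 0 := by
          exact_mod_cast h0
        exact Ideal.height_eq_zero_iff.1 h4
    exact Module.Flat.of_linearEquiv (pushEquiv f W)
  have hfl : FlatMod.IsFlatAt ((Scheme.Modules.pushforward f).obj (Coh.structureModule C)) y :=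
    isFlatAt_of_flat_sections _ hW hflat y hyW
  obtain ⟨D, m, hyD, e⟩ := exists_restrict_iso_freeMod_of_isFlatAt _ y hfl
  exact ⟨D, m, hyD, e⟩

end Groth.Agent.S14415
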