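import Groth.Statements.S14444
import Mathlib
import Groth.Agent.Lib.T2H5BC0Main
-- import your own Groth.Agent.* helpers here

set_option autoImplicit false
universe u
open Coherent

namespace Groth.Agent.S14444

open AlgebraicGeometry CategoryTheory Scheme.Modules in
/-- Let η : Y → V be a proper morphism of finite presentation and L a quasi-coherent O_Y-module of
finite presentation, flat over V, with H^1(Y_v, L_v) = 0 for every point v of V (cohomology of the
restriction of L to the fibre Y_v). Then η_* L is finite locally free, and for every cartesian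
square with vertex X = U ×_V Y, projections f : X → Y and ζ : X → U, over a morphism φ : U → V, the
base change map φ^* η_* L → ζ_* f^* L — the map adjoint to η_*(ρ) : η_* L → η_* f_* f^* L = φ_* ζ_*
f^* L, where ρ : L → f_* f^* L is the unit — is an isomorphism. -/
theorem result {Y V : Scheme.{u}} (η : Y ⟶ V)
    [IsProper η] [LocallyOfFinitePresentation η] (L : Y.Modules) [Coh.IsQCoh L] (hfp : CohB1.IsFP L)
    (hfl : FlatMod.IsFlatOver η L) (h1 : ∀ v : V, Subsingleton (CohIII.fiberH η L v 1)) :
    FlatMod.IsFinLocFree ((pushforward η).obj L) ∧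
      ∀ ⦃X U : Scheme.{u}⦄ (f : X ⟶ Y) (ζ : X ⟶ U) (φ : U ⟶ V) (h : IsPullback f ζ η φ),
        IsIso (((pullbackPushforwardAdjunction φ).homEquiv ((pushforward η).obj L)
            ((pushforward ζ).obj ((pullback f).obj L))).symm
          ((pushforward η).map ((pullbackPushforwardAdjunction f).unit.app L) ≫
            (pushforwardComp f η).hom.app ((pullback f).obj L) ≫
            (pushforwardCongr h.w).hom.app ((pullback f).obj L) ≫
            (pushforwardComp ζ φ).inv.app ((pullback f).obj L))) := by
  have hgood : ∀ v : V, v ∈ Groth.Agent.Lib.T2H5.BC0Main.Good η L := fun v =>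
    Groth.Agent.Lib.T2H5.BC0Main.mem_good_of_fiberRank η L hfp hfl v
      (Groth.Agent.Lib.T2H5.LocMain.fiberRank_eq_zero_of_subsingleton η L v 1 (h1 v))
  have hq : L.IsQuasicoherent := Groth.Agent.Helper18Strict.isQCoh_of_isFP L hfp
  refine ⟨?_, ?_⟩
  · have hinj := Groth.Agent.Lib.T2H5.RpushClosed.hasInjectiveResolutions_modules Y
    exact Groth.Agent.Helper18PBUnit.isFinLocFree_of_iso
      (Groth.Agent.Lib.T2H5.LocMain.rpushZeroIso η L)
      (Groth.Agent.Lib.T2H5.LocMain.isFinLocFree_Rpush_of_adjacent η L hfp hfl 0 (fun y => h1 y)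
        (fun q hq' => absurd hq' (Nat.succ_ne_zero q)))
  · intro X U f ζ φ h
    exact Groth.Agent.Lib.T2H5.BC0Main.isIso_bcMap_of_good η L φ f ζ h (fun y => hgood (φ y))

end Groth.Agent.S14444
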