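import Groth.Statements.S14448
import Mathlib

set_option autoImplicit false
universe u
open Coherent

namespace Groth.Agent.S14448

open CategoryTheory

section Abstract

universe v₁ u₁
variable {AZ AY AX AW AV AU : Type u₁} [Category.{v₁} AZ] [Category.{v₁} AY] [Category.{v₁} AX]
  [Category.{v₁} AW] [Category.{v₁} AV] [Category.{v₁} AU]
  {Lg : AZ ⥤ AY} {Rg : AY ⥤ AZ} (adjg : Lg ⊣ Rg)
  {Lf : AY ⥤ AX} {Rf : AX ⥤ AY} (adjf : Lf ⊣ Rf)
  {Lfg : AZ ⥤ AX} {Rfg : AX ⥤ AZ} (adjfg : Lfg ⊣ Rfg)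
  {Lψ : AW ⥤ AV} {Rψ : AV ⥤ AW} (adjψ : Lψ ⊣ Rψ)
  {Lφ : AV ⥤ AU} {Rφ : AU ⥤ AV} (adjφ : Lφ ⊣ Rφ)
  {Lφψ : AW ⥤ AU} {Rφψ : AU ⥤ AW} (adjφψ : Lφψ ⊣ Rφψ)
  (Rζ : AZ ⥤ AW) (Rη : AY ⥤ AV) (Rξ : AX ⥤ AU)
  (cfg : Lg ⋙ Lf ≅ Lfg) (pfg : Rf ⋙ Rg ≅ Rfg)
  (hfg : conjugateEquiv (adjg.comp adjf) adjfg cfg.inv = pfg.hom)
  (cφψ : Lψ ⋙ Lφ ≅ Lφψ) (pφψ : Rφ ⋙ Rψ ≅ Rφψ)
  (hφψ : conjugateEquiv (adjψ.comp adjφ) adjφψ cφψ.inv = pφψ.hom)
  (e₁ : Rf ⋙ Rη ≅ Rξ ⋙ Rφ) (e₂ : Rg ⋙ Rζ ≅ Rη ⋙ Rψ) (e : Rfg ⋙ Rζ ≅ Rξ ⋙ Rφψ)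
  (hcomp : ∀ N : AX, Rζ.map (pfg.hom.app N) ≫ e.hom.app N ≫ pφψ.inv.app (Rξ.obj N) =
    e₂.hom.app (Rf.obj N) ≫ Rψ.map (e₁.hom.app N))

include hfg hφψ hcomp in
theorem abstract_pasting (L : AZ) :
    cφψ.hom.app (Rζ.obj L) ≫
        (adjφψ.homEquiv _ _).symm (Rζ.map (adjfg.unit.app L) ≫ e.hom.app (Lfg.obj L)) =
      Lφ.map ((adjψ.homEquiv _ _).symm (Rζ.map (adjg.unit.app L) ≫ e₂.hom.app (Lg.obj L))) ≫
        (adjφ.homEquiv _ _).symm (Rη.map (adjf.unit.app (Lg.obj L)) ≫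
          e₁.hom.app (Lf.obj (Lg.obj L))) ≫
        Rξ.map (cfg.hom.app L) := by
  -- the unit relation
  have hunit : adjfg.unit.app L = adjg.unit.app L ≫ Rg.map (adjf.unit.app (Lg.obj L)) ≫
      pfg.hom.app (Lf.obj (Lg.obj L)) ≫ Rfg.map (cfg.hom.app L) := by
    have h := unit_conjugateEquiv (adjg.comp adjf) adjfg cfg.inv L
    rw [hfg] at h
    have h' : adjfg.unit.app L = (adjg.comp adjf).unit.app L ≫ pfg.hom.app _ ≫
        Rfg.map (cfg.hom.app L) := by
      rw [← Category.assoc, h, Category.assoc, ← Functor.map_comp]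
      simp
    rw [h']
    simp
  -- the counit relation
  have hcounit : ∀ d : AU, Lφψ.map (pφψ.hom.app d) ≫ adjφψ.counit.app d =
      cφψ.inv.app (Rψ.obj (Rφ.obj d)) ≫ Lφ.map (adjψ.counit.app (Rφ.obj d)) ≫
        adjφ.counit.app d := by
    intro d
    have h := conjugateEquiv_counit (adjψ.comp adjφ) adjφψ cφψ.inv d
    rw [hφψ] at h
    rw [h]
    simp
  -- key identity on the pushforward side
  have key : Rζ.map (adjfg.unit.app L) ≫ e.hom.app (Lfg.obj L) ≫
        pφψ.inv.app (Rξ.obj (Lfg.obj L)) =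
      (Rζ.map (adjg.unit.app L) ≫ e₂.hom.app (Lg.obj L)) ≫
        Rψ.map ((Rη.map (adjf.unit.app (Lg.obj L)) ≫ e₁.hom.app (Lf.obj (Lg.obj L))) ≫
          Rφ.map (Rξ.map (cfg.hom.app L))) := by
    have n1 := e.hom.naturality (cfg.hom.app L)
    have n2 := pφψ.inv.naturality (Rξ.map (cfg.hom.app L))
    have n3 := e₂.hom.naturality (adjf.unit.app (Lg.obj L))
    simp only [Functor.comp_obj, Functor.comp_map] at n1 n2 n3
    rw [hunit]
    simp only [Functor.map_comp, Category.assoc]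
    rw [reassoc_of% n1, n2, ← Category.assoc (Rζ.map (pfg.hom.app _)),
      ← Category.assoc (Rζ.map (pfg.hom.app _) ≫ _), Category.assoc (Rζ.map (pfg.hom.app _)),
      hcomp, Category.assoc, reassoc_of% n3]
  -- left-hand side
  have hL : cφψ.hom.app (Rζ.obj L) ≫
        (adjφψ.homEquiv _ _).symm (Rζ.map (adjfg.unit.app L) ≫ e.hom.app (Lfg.obj L)) =
      Lφ.map (Lψ.map (Rζ.map (adjfg.unit.app L) ≫ e.hom.app (Lfg.obj L) ≫
        pφψ.inv.app (Rξ.obj (Lfg.obj L)))) ≫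
        Lφ.map (adjψ.counit.app (Rφ.obj (Rξ.obj (Lfg.obj L)))) ≫
        adjφ.counit.app (Rξ.obj (Lfg.obj L)) := by
    have hT : Rζ.map (adjfg.unit.app L) ≫ e.hom.app (Lfg.obj L) =
        (Rζ.map (adjfg.unit.app L) ≫ e.hom.app (Lfg.obj L) ≫
          pφψ.inv.app (Rξ.obj (Lfg.obj L))) ≫ pφψ.hom.app (Rξ.obj (Lfg.obj L)) := by
      simp
    rw [Adjunction.homEquiv_counit, hT, Functor.map_comp, Category.assoc, hcounit]
    have n := cφψ.hom.naturality (Rζ.map (adjfg.unit.app L) ≫ e.hom.app (Lfg.obj L) ≫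
          pφψ.inv.app (Rξ.obj (Lfg.obj L)))
    simp only [Functor.comp_obj, Functor.comp_map] at n
    rw [← reassoc_of% n]
    simp
  rw [hL, key]
  simp only [Adjunction.homEquiv_counit, Functor.map_comp, Category.assoc]
  have n4 := adjφ.counit.naturality (Rξ.map (cfg.hom.app L))
  have n5 := adjψ.counit.naturality ((Rη.map (adjf.unit.app (Lg.obj L)) ≫
    e₁.hom.app (Lf.obj (Lg.obj L))) ≫ Rφ.map (Rξ.map (cfg.hom.app L)))
  simp only [Functor.comp_obj, Functor.comp_map, Functor.id_obj, Functor.id_map,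
    Functor.map_comp, Category.assoc] at n4 n5
  have n5' := congrArg (fun m => Lφ.map m) n5
  simp only [Functor.map_comp] at n5'
  rw [← n4, reassoc_of% n5']

end Abstract

open AlgebraicGeometry CategoryTheory Scheme.Modules in
/-- Take two commutative squares of schemes side by side, f : X → Y over φ : U → V (vertical maps ξ : X
→ U and η : Y → V, f ≫ η = ξ ≫ φ) and g : Y → Z over ψ : V → W (vertical map ζ : Z → W, g ≫ ζ = η ≫
ψ), and an O_Z-module L. For a commutative square the base change map β_{f,φ}(M) : φ^* η_* M → ξ_*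
f^* M is the adjoint of η_*(unit) : η_* M → η_* f_* f^* M = φ_* ξ_* f^* M, and α denotes the
composition isomorphisms of module pullbacks. Then the composite of α_{φ,ψ}(ζ_* L) : φ^* ψ^* ζ_* L →
(φ ≫ ψ)^* ζ_* L with β_{f ≫ g, φ ≫ ψ}(L) equals the composite of φ^* β_{g,ψ}(L), β_{f,φ}(g^* L) and
ξ_* α_{f,g}(L), as maps φ^* ψ^* ζ_* L → ξ_* (f ≫ g)^* L. No cartesian or finiteness hypothesis is
made; the outer square is used through any proof hw of its commutativity. -/
theorem result {X Y Z U V W : Scheme.{u}} (f : X ⟶ Y) (g : Y ⟶ Z)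
    (ξ : X ⟶ U) (η : Y ⟶ V) (ζ : Z ⟶ W) (φ : U ⟶ V) (ψ : V ⟶ W)
    (h₁ : f ≫ η = ξ ≫ φ) (h₂ : g ≫ ζ = η ≫ ψ) (hw : (f ≫ g) ≫ ζ = ξ ≫ (φ ≫ ψ)) (L : Z.Modules) :
    (pullbackComp φ ψ).hom.app ((pushforward ζ).obj L) ≫
        (((pullbackPushforwardAdjunction (φ ≫ ψ)).homEquiv ((pushforward ζ).obj L)
            ((pushforward ξ).obj ((pullback (f ≫ g)).obj L))).symm
          ((pushforward ζ).map ((pullbackPushforwardAdjunction (f ≫ g)).unit.app L) ≫
            (pushforwardComp (f ≫ g) ζ).hom.app ((pullback (f ≫ g)).obj L) ≫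
            (pushforwardCongr hw).hom.app ((pullback (f ≫ g)).obj L) ≫
            (pushforwardComp ξ (φ ≫ ψ)).inv.app ((pullback (f ≫ g)).obj L))) =
      (pullback φ).map (((pullbackPushforwardAdjunction ψ).homEquiv ((pushforward ζ).obj L)
            ((pushforward η).obj ((pullback g).obj L))).symm
          ((pushforward ζ).map ((pullbackPushforwardAdjunction g).unit.app L) ≫
            (pushforwardComp g ζ).hom.app ((pullback g).obj L) ≫
            (pushforwardCongr h₂).hom.app ((pullback g).obj L) ≫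
            (pushforwardComp η ψ).inv.app ((pullback g).obj L))) ≫
        (((pullbackPushforwardAdjunction φ).homEquiv ((pushforward η).obj ((pullback g).obj L))
            ((pushforward ξ).obj ((pullback f).obj ((pullback g).obj L)))).symm
          ((pushforward η).map ((pullbackPushforwardAdjunction f).unit.app ((pullback g).obj L)) ≫
            (pushforwardComp f η).hom.app ((pullback f).obj ((pullback g).obj L)) ≫
            (pushforwardCongr h₁).hom.app ((pullback f).obj ((pullback g).obj L)) ≫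
            (pushforwardComp ξ φ).inv.app ((pullback f).obj ((pullback g).obj L)))) ≫
        (pushforward ξ).map ((pullbackComp f g).hom.app L) := by
  have hcompat : ∀ N : X.Modules,
      (pushforward ζ).map ((pushforwardComp f g).hom.app N) ≫
        (pushforwardComp (f ≫ g) ζ ≪≫ pushforwardCongr hw ≪≫
          (pushforwardComp ξ (φ ≫ ψ)).symm).hom.app N ≫
        (pushforwardComp φ ψ).inv.app ((pushforward ξ).obj N) =
      (pushforwardComp g ζ ≪≫ pushforwardCongr h₂ ≪≫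
          (pushforwardComp η ψ).symm).hom.app ((pushforward f).obj N) ≫
        (pushforward ψ).map ((pushforwardComp f η ≪≫ pushforwardCongr h₁ ≪≫
          (pushforwardComp ξ φ).symm).hom.app N) := by
    intro N
    apply Scheme.Modules.hom_ext
    intro U
    simp
    refine Eq.trans ?_ (N.presheaf.map_comp _ _)
    exact congrArg N.presheaf.map (Subsingleton.elim _ _)
  exact abstract_pasting (pullbackPushforwardAdjunction g) (pullbackPushforwardAdjunction f)
    (pullbackPushforwardAdjunction (f ≫ g)) (pullbackPushforwardAdjunction ψ)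
    (pullbackPushforwardAdjunction φ) (pullbackPushforwardAdjunction (φ ≫ ψ))
    (pushforward ζ) (pushforward η) (pushforward ξ)
    (pullbackComp f g) (pushforwardComp f g) (conjugateEquiv_pullbackComp_inv f g)
    (pullbackComp φ ψ) (pushforwardComp φ ψ) (conjugateEquiv_pullbackComp_inv φ ψ)
    (pushforwardComp f η ≪≫ pushforwardCongr h₁ ≪≫ (pushforwardComp ξ φ).symm)
    (pushforwardComp g ζ ≪≫ pushforwardCongr h₂ ≪≫ (pushforwardComp η ψ).symm)
    (pushforwardComp (f ≫ g) ζ ≪≫ pushforwardCongr hw ≪≫ (pushforwardComp ξ (φ ≫ ψ)).symm)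
    hcompat L

end Groth.Agent.S14448
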