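import Groth.Statements.S14460
import Groth.Agent.Lib.T2H7FreeAction

set_option autoImplicit false
universe u
open CategoryTheory CategoryTheory.Limits AlgebraicGeometry
open Pi1

namespace Groth.Agent.S14460

/-- Let Y → X be finite étale with Y nonempty and all geometric fibres of the same cardinality n, and
let a finite group G act on Y over X without fixed points (no point of Y with values in a field is
fixed by a non-identity element). Then G has at most n elements, and it has exactly n elements if
and only if the morphism from the disjoint union of copies of Y indexed by G to Y ×_X Y, given on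
the copy indexed by g by the identity and g, is an isomorphism. (For Y empty the bound fails, since
every finite group acts without fixed points on the empty cover, whose fibres have cardinality 0;
this row assumes Y nonempty.) -/
theorem result {X : Scheme.{u}} (Y : FEt.Cat X)
    [Nonempty ↥Y.left] (n : ℕ)
    (hn : ∀ (Ω : Type u) [Field Ω] [IsSepClosed Ω] (ξ : Spec (CommRingCat.of Ω) ⟶ X), Nat.card (FEt.fiberObj ξ Y) = n)
    (G : Type u) [Group G] [Finite G] (ρ : G →* Aut Y)
    (hfree : ∀ g : G, g ≠ 1 → ∀ (K : Type u) [Field K] (y : Spec (CommRingCat.of K) ⟶ Y.left),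
      y ≫ (ρ g).hom.left ≠ y) :
    Nat.card G ≤ n ∧
      (Nat.card G = n ↔ IsIso (Limits.Sigma.desc fun g : G =>
        pullback.lift (𝟙 Y.left) (ρ g).hom.left
          ((Category.id_comp Y.hom).trans (Over.w (ρ g).hom.hom).symm) : (∐ fun _ : G => Y.left) ⟶ pullback Y.hom Y.hom)) := by
  classical
  obtain ⟨y₀⟩ := ‹Nonempty ↥Y.left›
  let κ := Y.left.residueField y₀
  let Ω := AlgebraicClosure κ
  let s₀ : Spec (CommRingCat.of Ω) ⟶ Y.left :=
    Spec.map (CommRingCat.ofHom (algebraMap κ Ω)) ≫ Y.left.fromSpecResidueField y₀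
  have hinj := Groth.Agent.Lib.T2H7.FreeAction.orbit_injective Y ρ hfree s₀
  haveI := Groth.Agent.Lib.T2H7.FreeAction.finite_fiber Y (s₀ ≫ Y.hom)
  have hcard := hn Ω (s₀ ≫ Y.hom)
  have hle : Nat.card G ≤ n := by
    rw [← hcard]
    exact Nat.card_le_card_of_injective _ hinj
  refine ⟨hle, ?_, ?_⟩
  · intro hG
    change IsIso (Groth.Agent.Lib.T2H7.FreeAction.ups Y ρ)
    apply Groth.Agent.Lib.T2H7.FreeAction.isIso_ups_of_surjective Y ρ hfree
    apply Groth.Agent.Lib.T2H7.FreeAction.surjective_ups_of_orbit_surjective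
    intro Ω' _ _ s
    haveI := Groth.Agent.Lib.T2H7.FreeAction.finite_fiber Y (s ≫ Y.hom)
    exact ((Groth.Agent.Lib.T2H7.FreeAction.orbit_injective Y ρ hfree s).bijective_of_nat_card_le
      (by rw [hn Ω' (s ≫ Y.hom), hG])).2
  · intro hiso
    haveI : IsIso (Groth.Agent.Lib.T2H7.FreeAction.ups Y ρ) := hiso
    have hsurj := Groth.Agent.Lib.T2H7.FreeAction.orbit_surjective_of_isIso Y ρ s₀
    rw [← hcard]
    exact Nat.card_eq_of_bijective _ ⟨hinj, hsurj⟩

end Groth.Agent.S14460
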