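import Groth.Statements.S14493
import Groth.Agent.Lib.LeadIndCofInd
import Groth.Agent.Lib.LeadIndCofB

set_option autoImplicit false
universe v
open IndCof

namespace Groth.Agent.S14493

open CategoryTheory CategoryTheory.Limits in
/-- Let C be a small abelian category all of whose objects are Artinian and killed by some power of a
prime p. The ind-objects of cofinite type (those A in Ind C with every p^n-torsion sub-object A[p^n]
isomorphic to an object of C) form an abelian subcategory of Ind C: for a morphism f : A ⟶ B between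
ind-objects of cofinite type, the kernel and the cokernel of f in Ind C are of cofinite type. -/
theorem result {C : Type v} [SmallCategory C] [Abelian C]
    (hart : ∀ X : C, IsArtinianObject X) (p : ℕ) (hp : p.Prime)
    (htor : ∀ X : C, ∃ n : ℕ, (p ^ n) • 𝟙 X = 0)
    (A B : Ind C) (hA : ∀ n : ℕ, (Ind.yoneda (C := C)).essImage (kernel ((p ^ n) • 𝟙 A))) (hB : ∀ n : ℕ, (Ind.yoneda (C := C)).essImage (kernel ((p ^ n) • 𝟙 B))) (f : A ⟶ B) :
    (∀ n : ℕ, (Ind.yoneda (C := C)).essImage (kernel ((p ^ n) • 𝟙 (kernel f)))) ∧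
      (∀ n : ℕ, (Ind.yoneda (C := C)).essImage (kernel ((p ^ n) • 𝟙 (cokernel f)))) := by
  have hP := Groth.Agent.Lib.Lead.IndCof.ctx_ind hart
    (Groth.Agent.Lib.Lead.IndCof.htor_of_p p hp htor)
  have hPp := Groth.Agent.Lib.Lead.IndCof.pInd_ptors p htor
  have hcA := Groth.Agent.Lib.Lead.IndCof.cof_of_cof_p hP p hp hPp A hA
  have hcB := Groth.Agent.Lib.Lead.IndCof.cof_of_cof_p hP p hp hPp B hB
  exact ⟨fun n => Groth.Agent.Lib.Lead.IndCof.cof_kernel hP hcA hcB f (p ^ n) (pow_pos hp.pos n),
    fun n => Groth.Agent.Lib.Lead.IndCof.cof_cokernel hP hcA hcB f (p ^ n) (pow_pos hp.pos n)⟩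

end Groth.Agent.S14493
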