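import Groth.Statements.S14513
import Mathlib
import Groth.Agent.Lib.T2H6HurwE
import Groth.Agent.Lib.T2H6PosI
import Groth.Agent.Lib.T2H6CurveSmooth

set_option autoImplicit false
set_option linter.style.haveILetI false
universe u
open CategoryTheory CategoryTheory.Limits AlgebraicGeometry
open Curves

namespace Groth.Agent.S14513

/-- Let k be an algebraically closed field and f : X → Y a finite, separable morphism of smooth
projective curves over k (X, Y integral, proper and smooth over k, of dimension one; f sends the
generic point to the generic point and the extension K(X)/K(Y) is separable). If X and Y have the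
same genus g = dim_k H^1(O) and g ≥ 2, then f is an isomorphism. (The published statement also
asserts g(X) ≥ g(Y) and that equality holds exactly when f is an isomorphism, both curves are
projective lines, or both have genus one; this row states the equality case for genus at least two.) -/
theorem result (k : Type u) [Field k] [IsAlgClosed k]
    (X : Scheme.{u}) [X.Over (Spec (CommRingCat.of k))] [IsIntegral X] [IsProper (X ↘ (Spec (CommRingCat.of k)))] [Smooth (X ↘ (Spec (CommRingCat.of k)))] (hdimX : topologicalKrullDim X = 1)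
    (Y : Scheme.{u}) [Y.Over (Spec (CommRingCat.of k))] [IsIntegral Y] [IsProper (Y ↘ (Spec (CommRingCat.of k)))] [Smooth (Y ↘ (Spec (CommRingCat.of k)))] (hdimY : topologicalKrullDim Y = 1)
    (f : X ⟶ Y) [IsFinite f] (hf : f ≫ (Y ↘ (Spec (CommRingCat.of k))) = (X ↘ (Spec (CommRingCat.of k))))
    (e : f (genericPoint X) = genericPoint Y)
    (hg : Curv2.genus k X = Curv2.genus k Y) (h2 : 2 ≤ Curv2.genus k Y) :
    letI := ((Y.presheaf.stalkSpecializes (specializes_of_eq e) ≫ f.stalkMap (genericPoint X)).hom).toAlgebra
    Algebra.IsSeparable Y.functionField X.functionField → IsIso f := by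
  intro hsep
  have hregY : ∀ y : Y, IsRegularLocalRing (Y.presheaf.stalk y) :=
    Groth.Agent.Lib.T2H6.CurveSmooth.isRegularLocalRing_stalk k Y
  obtain ⟨n, hn, hEn, hle⟩ := Groth.Agent.Lib.T2H6.Hurw.euler_le_of_finite_separable k hdimY hregY f hf e hsep
  have h0X := Groth.Agent.Lib.T2H6.PosI.finrank_HH_zero_structureModule k X
  have h0Y := Groth.Agent.Lib.T2H6.PosI.finrank_HH_zero_structureModule k Y
  haveI : (Coh.structureModule X).IsQuasicoherent :=
    (Groth.Agent.Lib.T2H5.GenIsoF.isCoh_structureModule (Z := X)).1
  haveI : (Coh.structureModule Y).IsQuasicoherent :=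
    (Groth.Agent.Lib.T2H5.GenIsoF.isCoh_structureModule (Z := Y)).1
  have eX := Groth.Agent.Lib.T2H6.CurveRR.euler_eq_sub k hdimX (Coh.structureModule X)
  have eY := Groth.Agent.Lib.T2H6.CurveRR.euler_eq_sub k hdimY (Coh.structureModule Y)
  have hgX : (Curv2.genus k X : ℤ) = Module.finrank k (Coh.HH X (Coh.structureModule X) 1) := rfl
  have hgY : (Curv2.genus k Y : ℤ) = Module.finrank k (Coh.HH Y (Coh.structureModule Y) 1) := rfl
  rw [h0X, ← hgX] at eX
  rw [h0Y, ← hgY] at eY
  rw [eX, eY, hg] at hle
  have h2' : (2 : ℤ) ≤ (Curv2.genus k Y : ℤ) := by exact_mod_cast h2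
  have hn' : (1 : ℤ) ≤ (n : ℤ) := by exact_mod_cast hn
  have hn1 : (n : ℤ) ≤ 1 := by
    by_contra hcon
    rw [not_le] at hcon
    push_cast at hle
    nlinarith
  have hn1' : n = 1 := by omega
  rw [hn1'] at hEn
  exact Groth.Agent.Lib.T2H6.Hurw.isIso_of_rank_one f hEn

end Groth.Agent.S14513
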