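-- Statement S14519: birational morphisms of smooth curves are open immersions.
import Mathlib
import Groth.Statements.S14519
import Groth.Agent.S4809
import Groth.Agent.S1535
import Groth.Agent.Lib.Helper28Catenary
import Groth.Agent.Lib.T2H3BirCurve

set_option autoImplicit false
universe u
open CategoryTheory CategoryTheory.Limits AlgebraicGeometry
open Curves

namespace Groth.Agent.S14519

theorem result (k : Type u) [Field k] [IsAlgClosed k]
    (X Y : Scheme.{u}) [X.Over (Spec (CommRingCat.of k))] [Y.Over (Spec (CommRingCat.of k))]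
    [IsIntegral X] [IsSeparated (X ↘ (Spec (CommRingCat.of k)))] [LocallyOfFiniteType (X ↘ (Spec (CommRingCat.of k)))] [QuasiCompact (X ↘ (Spec (CommRingCat.of k)))] [Smooth (X ↘ (Spec (CommRingCat.of k)))] (hdimX : topologicalKrullDim X = 1)
    [IsIntegral Y] [IsSeparated (Y ↘ (Spec (CommRingCat.of k)))] [LocallyOfFiniteType (Y ↘ (Spec (CommRingCat.of k)))] [QuasiCompact (Y ↘ (Spec (CommRingCat.of k)))] [Smooth (Y ↘ (Spec (CommRingCat.of k)))] (hdimY : topologicalKrullDim Y = 1)
    (f : X ⟶ Y) (hf : f ≫ (Y ↘ (Spec (CommRingCat.of k))) = (X ↘ (Spec (CommRingCat.of k))))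
    (e : f (genericPoint X) = genericPoint Y)
    (hbir : Function.Bijective (Y.presheaf.stalkSpecializes (specializes_of_eq e) ≫ f.stalkMap (genericPoint X)).hom) :
    IsOpenImmersion f := by
  -- finiteness properties of `f`
  have hft : LocallyOfFiniteType (f ≫ (Y ↘ (Spec (CommRingCat.of k)))) := by rw [hf]; infer_instance
  have : LocallyOfFiniteType f := locallyOfFiniteType_of_comp f (Y ↘ (Spec (CommRingCat.of k)))
  have hsep : IsSeparated (f ≫ (Y ↘ (Spec (CommRingCat.of k)))) := by rw [hf]; infer_instance
  have : IsSeparated f := IsSeparated.of_comp f (Y ↘ (Spec (CommRingCat.of k)))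
  have : CompactSpace X := by
    have := QuasiCompact.compactSpace_of_compactSpace (X ↘ (Spec (CommRingCat.of k)))
    exact this
  have : IsNoetherian X :=
    { __ := LocallyOfFiniteType.isLocallyNoetherian (X ↘ (Spec (CommRingCat.of k))) }
  -- the generic stalk map is an isomorphism
  have hiso1 : IsIso (Y.presheaf.stalkSpecializes (specializes_of_eq e)) := by
    have hins : Inseparable (genericPoint Y) (f (genericPoint X)) := e ▸ Inseparable.refl _
    exact (Y.presheaf.stalkCongr hins).isIso_hom
  have hcomp : IsIso (Y.presheaf.stalkSpecializes (specializes_of_eq e) ≫ f.stalkMap (genericPoint X)) := by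
    have : IsIso ((forget CommRingCat).map
        (Y.presheaf.stalkSpecializes (specializes_of_eq e) ≫ f.stalkMap (genericPoint X))) :=
      (CategoryTheory.isIso_iff_bijective _).mpr hbir
    exact isIso_of_reflects_iso _ (forget CommRingCat)
  have hstalk : IsIso (f.stalkMap (genericPoint X)) :=
    IsIso.of_isIso_comp_left (Y.presheaf.stalkSpecializes (specializes_of_eq e)) (f.stalkMap (genericPoint X))
  have hsurj : Function.Surjective (f.stalkMap (genericPoint X)).hom :=
    (ConcreteCategory.bijective_of_isIso (f.stalkMap (genericPoint X))).2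
  have : LocallyQuasiFinite f :=
    Groth.Agent.Lib.T2H3.BirCurve.locallyQuasiFinite_of_dominant hdimX.le f e hsurj
  -- normality of `Y`
  have hN : ∀ y : Y, IsIntegrallyClosed (Y.presheaf.stalk y) := by
    intro y
    have := Groth.Agent.S1535.result k Y y
    exact Groth.Agent.Lib.Helper28.isIntegrallyClosed_of_isRegularLocalRing _
  exact (Groth.Agent.S4809.result hN f e hstalk).2 inferInstance

end Groth.Agent.S14519
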