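import Groth.Statements.S14521
import Mathlib
import Groth.Agent.Lib.T2H6FGABridge
import Groth.Agent.Lib.T2H6IntNumComp

set_option autoImplicit false
universe u
open CategoryTheory CategoryTheory.Limits AlgebraicGeometry
open Variety

namespace Groth.Agent.S14521

/-- Let k be an algebraically closed field, X a complete variety over k (reduced and proper over k) of
dimension at most d, L_1, …, L_r line bundles with tensor inverses M_1, …, M_r, and F a coherent
O_X-module whose support has dimension at most r. Let Y_1, …, Y_s be the r-dimensional irreducible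
components of Supp F, with generic points ξ_1, …, ξ_s (given as a finite set s of points: ξ ∈ s iff
ξ ∈ Supp F and the closure of ξ has dimension r), each Y_i with its reduced structure. Then
(L_1⋯L_r; F) = Σ_i length_{O_{X,ξ_i}}(F_{ξ_i}) · (L_1⋯L_r · Y_i), where all intersection numbers are
the alternating Euler-characteristic sums in the M_i (the prelude's FGA.intNum). -/
theorem result (k : Type u) [Field k] [IsAlgClosed k]
    (X : Scheme.{u}) [X.Over (Spec (CommRingCat.of k))] [IsReduced X] [IsProper (X ↘ (Spec (CommRingCat.of k)))] (d : ℕ) (hd : topologicalKrullDim X ≤ d)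
    {r : ℕ} (M : Fin r → X.Modules) (hM : ∀ i, PicF.IsInvertible (M i))
    (F : X.Modules) (hF : Coh.IsCoh F) (hsupp : topologicalKrullDim ↥(CohB1.support F) ≤ r)
    (s : Finset X) (hs : ∀ ξ : X, ξ ∈ s ↔ ξ ∈ CohB1.support F ∧ topologicalKrullDim ↥(closure ({ξ} : Set X)) = r) :
    FGA.intNum k X d M F =
      ∑ ξ ∈ s, ((Module.length (X.presheaf.stalk ξ) (F.presheaf.stalk ξ)).toNat : ℤ) *
        FGA.intNum k X d M (ClSub.quotMod (Scheme.IdealSheafData.vanishingIdeal ⟨closure ({ξ} : Set X), isClosed_closure⟩)) := by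
  obtain ⟨_, hfin, heq⟩ := Groth.Agent.Lib.T2H6.IntNumComp.good_inum k r M hM F hF hsupp
  rw [Groth.Agent.Lib.T2H6.FGABridge.intNum_eq k d hd M F, heq]
  unfold Groth.Agent.Lib.T2H6.CompSumGen.csum
  have hsub : Function.support (Groth.Agent.Lib.T2H6.CompSumGen.term r
      (fun ξ => Groth.Agent.Lib.T2H6.IntNum.inum k r M
        (ClSub.quotMod (Groth.Agent.Lib.T2H6.CompSumGen.clI ξ))) F) ⊆ ↑s := by
    intro ξ hξ
    have h1 := Groth.Agent.Lib.T2H6.CompSumGen.support_term_subset r _ F hξ
    exact (hs ξ).2 ⟨h1.2, h1.1⟩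
  rw [finsum_eq_sum_of_support_subset _ hsub, Finset.mul_sum]
  refine Finset.sum_congr rfl fun ξ hξ => ?_
  have hdim : Groth.Agent.Lib.T2H6.CompSumGen.DimPt r ξ := ((hs ξ).1 hξ).2
  rw [Groth.Agent.Lib.T2H6.CompSumGen.term_pos _ _ hdim,
    Groth.Agent.Lib.T2H6.FGABridge.intNum_eq k d hd M _, nsmul_eq_mul]
  unfold Groth.Agent.Lib.T2H5.GenIsoA.lenAt Groth.Agent.Lib.T2H6.CompSumGen.clI
  ring

end Groth.Agent.S14521
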