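import Groth.Statements.S14522
import Mathlib
import Groth.Agent.Lib.T2H6FGABridge
import Groth.Agent.Lib.T2H6TensorDeg
import Groth.Agent.Lib.T2H6CurveDeg
import Groth.Agent.Lib.T2H6INumSnoc
import Groth.Agent.Lib.T2H6CartierTor
import Groth.Agent.Lib.Helper18Cart1
import Groth.Agent.Lib.T2H6ParShC

set_option autoImplicit false
universe u
open CategoryTheory CategoryTheory.Limits AlgebraicGeometry
open Variety

namespace Groth.Agent.S14522

/-- Let k be an algebraically closed field, X an irreducible complete variety over k (integral and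
proper over k) of dimension at most d, L_1, …, L_r line bundles with tensor inverses M_1, …, M_r, F
a coherent O_X-module with dim Supp F ≤ r + 1, and D an effective Cartier divisor on X (a
quasi-coherent ideal I_D locally generated by one nonzerodivisor) whose support contains no
associated point of F. Then (L_1⋯L_r·O_X(D); F) = (L_1⋯L_r; F ⊗ O_D): with intersection numbers
written as the alternating Euler-characteristic sums in the inverses (the prelude's FGA.intNum), the
(r+1)-fold number of F in M_1, …, M_r, I_D equals the r-fold number of F ⊗ O_D in M_1, …, M_r (for r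
= 0 the right side is χ(F ⊗ O_D) = h^0(F ⊗ O_D)). -/
theorem result (k : Type u) [Field k] [IsAlgClosed k]
    (X : Scheme.{u}) [X.Over (Spec (CommRingCat.of k))] [IsIntegral X] [IsProper (X ↘ (Spec (CommRingCat.of k)))] (d : ℕ) (hd : topologicalKrullDim X ≤ d)
    {r : ℕ} (M : Fin r → X.Modules) (hM : ∀ i, PicF.IsInvertible (M i))
    (F : X.Modules) (hF : Coh.IsCoh F) (hsupp : topologicalKrullDim ↥(CohB1.support F) ≤ r + 1)
    (D : X.IdealSheafData) (hD : BlowUp.IsEffCartierIdeal D) (hass : ∀ x ∈ D.support, ¬ Curv2.IsAssPoint F x) :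
    FGA.intNum k X d (Fin.snoc M (ClSub.idealMod D)) F = FGA.intNum k X d M (CohB1.tensorMod F (ClSub.quotMod D)) := by
  haveI : IsNoetherian X := Groth.Agent.Lib.T2H6.CurveSatur.isNoetherian_of_proper k
  have hFq : F.IsQuasicoherent := hF.1
  have hI : PicF.IsInvertible (ClSub.idealMod D) := Groth.Agent.Helper18Cart.isInvertible_of_isEffCartier D hD
  have hΦ := Groth.Agent.Lib.T2H6.IntNum.isAddFn_inum k r M hM
  have hOc : Coh.IsCoh (Coh.structureModule X) := Groth.Agent.Lib.T2H5.GenIsoF.isCoh_structureModule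
  have hQc : Coh.IsCoh (ClSub.quotMod D) := Groth.Agent.Lib.T2H6.ParShC.isCoh_quotMod D
  have hIc : Coh.IsCoh (ClSub.idealMod D) := Groth.Agent.Lib.T2H6.CurveDeg.isCoh_of_isInvertible _ hI
  have hS := Groth.Agent.Lib.T2H6.CartierTor.shortExact_idealSC_tensor F D hD hass
  have hadd := hΦ.add _ hS
    (Groth.Agent.Lib.T2H6.TensorDeg.isCoh_tensor _ _ hIc hF)
    (Groth.Agent.Lib.T2H6.TensorDeg.isCoh_tensor _ _ hOc hF)
    (Groth.Agent.Lib.T2H6.TensorDeg.isCoh_tensor _ _ hQc hF)
  change Groth.Agent.Lib.T2H6.IntNum.inum k r M (CohB1.tensorMod (Coh.structureModule X) F) =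
    Groth.Agent.Lib.T2H6.IntNum.inum k r M (CohB1.tensorMod (ClSub.idealMod D) F) +
      Groth.Agent.Lib.T2H6.IntNum.inum k r M (CohB1.tensorMod (ClSub.quotMod D) F) at hadd
  have h1 : Groth.Agent.Lib.T2H6.IntNum.inum k r M (CohB1.tensorMod (Coh.structureModule X) F) =
      Groth.Agent.Lib.T2H6.IntNum.inum k r M F :=
    hΦ.iso (Groth.Agent.Lib.Helper23.TensorUnit.unitTensorIso F)
      (Groth.Agent.Lib.T2H6.TensorDeg.isCoh_tensor _ _ hOc hF)
  have h2 : Groth.Agent.Lib.T2H6.IntNum.inum k r M (CohB1.tensorMod (ClSub.idealMod D) F) =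
      Groth.Agent.Lib.T2H6.IntNum.inum k r M (CohB1.tensorMod F (ClSub.idealMod D)) :=
    hΦ.iso (Groth.Agent.Lib.T2H6.TensorPows.braidIso _ _)
      (Groth.Agent.Lib.T2H6.TensorDeg.isCoh_tensor _ _ hIc hF)
  have h3 : Groth.Agent.Lib.T2H6.IntNum.inum k r M (CohB1.tensorMod (ClSub.quotMod D) F) =
      Groth.Agent.Lib.T2H6.IntNum.inum k r M (CohB1.tensorMod F (ClSub.quotMod D)) :=
    hΦ.iso (Groth.Agent.Lib.T2H6.TensorPows.braidIso _ _)
      (Groth.Agent.Lib.T2H6.TensorDeg.isCoh_tensor _ _ hQc hF)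
  have h4 := Groth.Agent.Lib.T2H6.INumSnoc.inum_snoc k r (Fin.snoc M (ClSub.idealMod D)) F
  have h5 : (fun j : Fin r => (Fin.snoc M (ClSub.idealMod D) : Fin (r + 1) → X.Modules) j.castSucc) = M :=
    funext fun j => by simp
  have h6 : (Fin.snoc M (ClSub.idealMod D) : Fin (r + 1) → X.Modules) (Fin.last r) = ClSub.idealMod D := by
    simp
  rw [h5, h6] at h4
  rw [Groth.Agent.Lib.T2H6.FGABridge.intNum_eq k d hd, Groth.Agent.Lib.T2H6.FGABridge.intNum_eq k d hd, h4,
    pow_succ]
  rw [h1, h2, h3] at hadd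
  linear_combination ((-1 : ℤ) ^ r) * hadd

end Groth.Agent.S14522
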