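import Groth.Statements.S14596
import Groth.Agent.Lib.T2H7QuotFin

set_option autoImplicit false
universe u
open CategoryTheory MonoidalCategory CartesianMonoidalCategory MonObj GrpObj AlgebraicGeometry CategoryTheory.Limits
open AlgGrp

namespace Groth.Agent.S14596

/-- Let k be a perfect field, G a k-group scheme of finite type and r₀ : G⁰_red → G the reduced neutral
component of G, i.e. a homomorphism and closed immersion from a reduced k-group scheme whose image
is the connected component of the identity. Then the homogeneous space G/G⁰_red is finite, and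
G⁰_red is the smallest closed subgroup scheme H of G such that G/H is finite: every such H contains
G⁰_red. -/
theorem result (k : Type u) [Field k] [PerfectField k]
    (G G₀ : Over (Spec (CommRingCat.of k))) [GrpObj G] [GrpObj G₀] [LocallyOfFiniteType G.hom] [QuasiCompact G.hom]
    [LocallyOfFiniteType G₀.hom] [QuasiCompact G₀.hom]
    (r₀ : G₀ ⟶ G) [IsMonHom r₀] [IsClosedImmersion r₀.left] [IsReduced G₀.left] (t : ↥((𝟙_ (Over (Spec (CommRingCat.of k)))).left))
    (hr₀ : Set.range ⇑r₀.left.base = connectedComponent ((η[G]).left.base t)) :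
    (∀ (X : Over (Spec (CommRingCat.of k))) (a : AlgGrp.Action G X) (o : 𝟙_ (Over (Spec (CommRingCat.of k))) ⟶ X), AGF.IsQuotient r₀ X a o → IsFinite X.hom) ∧
    ∀ (H : Over (Spec (CommRingCat.of k))) [GrpObj H] (h : H ⟶ G) [IsMonHom h] [IsClosedImmersion h.left]
      (X : Over (Spec (CommRingCat.of k))) (a : AlgGrp.Action G X) (o : 𝟙_ (Over (Spec (CommRingCat.of k))) ⟶ X),
      AGF.IsQuotient h X a o → IsFinite X.hom → ∃ g : G₀ ⟶ H, g ≫ h = r₀ := by
  have hsub : Subsingleton (𝟙_ (Over (Spec (CommRingCat.of k)))).left :=
    inferInstanceAs (Subsingleton (Spec (CommRingCat.of k)))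
  have hcomp : CompactSpace G.left := QuasiCompact.compactSpace_of_compactSpace G.hom
  have hlnoeth : IsLocallyNoetherian G.left := LocallyOfFiniteType.isLocallyNoetherian G.hom
  have hnoeth : IsNoetherian G.left := { }
  have hnsp : TopologicalSpace.NoetherianSpace G.left := inferInstance
  constructor
  · rintro X a o ⟨hlft, -, hsurj, hq⟩
    have hopen : IsOpen (Set.range r₀.left) := by
      rw [hr₀]
      exact Groth.Agent.Lib.Helper14.isOpen_connectedComponent_of_noetherianSpace _
    have hfin : Finite X.left :=
      Groth.Agent.Lib.T2H7.QuotFin.finite_of_isOpen r₀ hopen (a.orbitMap o) hsurj.surj hq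
    exact Groth.Agent.Lib.T2H7.QuotFin.isFinite_of_finite X.hom
  · intro H _ h _ _ X a o hQ hfin
    obtain ⟨hlft, -, hsurj, hq⟩ := hQ
    have hdisc : DiscreteTopology X.left :=
      Groth.Agent.Lib.T2H7.QuotFin.discreteTopology_of_isFinite X.hom
    have hfib := Groth.Agent.Lib.T2H7.QuotFin.fibre_one_eq_range h (a.orbitMap o) hq t
    have hopen : IsOpen (Set.range h.left) := by
      rw [← hfib]
      exact (isOpen_discrete _).preimage (a.orbitMap o).left.continuous
    have hclopen : IsClopen (Set.range h.left) :=
      ⟨h.left.isClosedEmbedding.isClosed_range, hopen⟩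
    have hmem : (η[G]).left.base t ∈ Set.range h.left := by
      refine ⟨(η[H]).left t, ?_⟩
      change ((η[H]).left ≫ h.left) t = _
      rw [← Over.comp_left, IsMonHom.one_hom]
    have hsubset : Set.range r₀.left ⊆ Set.range h.left := by
      rw [hr₀]
      exact hclopen.connectedComponent_subset hmem
    obtain ⟨l, hl⟩ :=
      Groth.Agent.Lib.T2H7.QuotFin.exists_lift_of_range_subset_range r₀.left h.left hsubset
    refine ⟨Over.homMk l ?_, ?_⟩
    · rw [← Over.w h, ← Category.assoc, hl, Over.w r₀]
    · apply Over.OverMorphism.ext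
      rw [Over.comp_left]
      exact hl

end Groth.Agent.S14596
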