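import Groth.Statements.S14608
import Mathlib

set_option autoImplicit false
universe u v
open CAlg

namespace Groth.Agent.S14608

open TensorProduct

section bridge
variable {A : Type*} [CommRing A] (R : Type*) [CommRing R] [Algebra A R]
  (κ : Type*) [AddCommGroup κ] [Module A κ] [Module R κ] [IsScalarTower A R κ]
  {X Y : Type*} [AddCommGroup X] [Module A X] [AddCommGroup Y] [Module A Y]

lemma bridge_comm (g : X →ₗ[A] Y) (x : κ ⊗[R] (R ⊗[A] X)) :
    TensorProduct.AlgebraTensorModule.cancelBaseChange A R R κ Y
        ((g.baseChange R).lTensor κ x) =
      g.lTensor κ (TensorProduct.AlgebraTensorModule.cancelBaseChange A R R κ X x) := by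
  induction x using TensorProduct.induction_on with
  | zero => simp
  | add x y hx hy => simp only [map_add, hx, hy]
  | tmul c y =>
    induction y using TensorProduct.induction_on with
    | zero => simp
    | add y z hy hz => simp only [TensorProduct.tmul_add, map_add, hy, hz]
    | tmul r x => rfl

lemma bridge (g : X →ₗ[A] Y) :
    Function.Injective ((g.baseChange R).lTensor κ) ↔ Function.Injective (g.lTensor κ) := by
  constructor
  · intro h a b hab
    obtain ⟨a', rfl⟩ :=
      (TensorProduct.AlgebraTensorModule.cancelBaseChange A R R κ X).surjective a
    obtain ⟨b', rfl⟩ :=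
      (TensorProduct.AlgebraTensorModule.cancelBaseChange A R R κ X).surjective b
    rw [← bridge_comm, ← bridge_comm] at hab
    rw [h ((TensorProduct.AlgebraTensorModule.cancelBaseChange A R R κ Y).injective hab)]
  · intro h a b hab
    apply (TensorProduct.AlgebraTensorModule.cancelBaseChange A R R κ X).injective
    apply h
    rw [← bridge_comm, ← bridge_comm, hab]

end bridge

lemma exact_iff_inj {A : Type*} [CommRing A] (κ : Type*) [AddCommGroup κ] [Module A κ]
    {M F : Type*} [AddCommGroup M] [Module A M] [AddCommGroup F] [Module A F]
    (δ : M →ₗ[A] F) :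
    Function.Exact ((LinearMap.ker δ).subtype.lTensor κ) (δ.lTensor κ) ↔
      Function.Injective ((LinearMap.range δ).subtype.lTensor κ) := by
  have hex : Function.Exact (LinearMap.ker δ).subtype δ.rangeRestrict := by
    rw [LinearMap.exact_iff, LinearMap.ker_rangeRestrict, Submodule.range_subtype]
  have hπ : Function.Surjective δ.rangeRestrict := LinearMap.surjective_rangeRestrict δ
  have hex' := lTensor_exact κ hex hπ
  have hδ : δ.lTensor κ =
      (LinearMap.range δ).subtype.lTensor κ ∘ₗ δ.rangeRestrict.lTensor κ := by
    rw [← LinearMap.lTensor_comp]
    congr 1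
  constructor
  · intro hE
    rw [injective_iff_map_eq_zero]
    intro x hx
    obtain ⟨y, rfl⟩ := LinearMap.lTensor_surjective κ hπ x
    have h0 : δ.lTensor κ y = 0 := by rw [hδ]; exact hx
    obtain ⟨z, rfl⟩ := (hE y).mp h0
    exact hex'.apply_apply_eq_zero z
  · intro hinj y
    refine Iff.trans ?_ (hex' y)
    rw [hδ, LinearMap.comp_apply]
    constructor
    · intro h
      exact hinj (by rw [h, map_zero])
    · intro h
      rw [h, map_zero]

lemma inj_lTensor_residue_of_flat {R : Type*} [CommRing R] [IsLocalRing R]
    {N₁ N₂ N₃ : Type*} [AddCommGroup N₁] [Module R N₁] [AddCommGroup N₂] [Module R N₂]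
    [AddCommGroup N₃] [Module R N₃]
    {f : N₁ →ₗ[R] N₂} {g : N₂ →ₗ[R] N₃} (hfg : Function.Exact f g)
    (hg : Function.Surjective g) (hf : Function.Injective f) [Module.Flat R N₃] :
    Function.Injective (f.lTensor (IsLocalRing.ResidueField R)) := by
  apply lTensor_injective_of_exact_of_exact_of_rTensor_injective
    (LinearMap.exact_subtype_mkQ (IsLocalRing.maximalIdeal R)) (Submodule.mkQ_surjective _) hfg hg
  · exact Module.Flat.rTensor_preserves_injective_linearMap _ Subtype.val_injective
  · exact Module.Flat.lTensor_preserves_injective_linearMap _ hf

lemma projective_of_inj {R : Type*} [CommRing R] [IsLocalRing R]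
    {N₁ N₂ : Type*} [AddCommGroup N₁] [Module R N₁] [AddCommGroup N₂] [Module R N₂]
    [Module.Finite R N₁] [Module.Finite R N₂] [Module.Free R N₂]
    (f : N₁ →ₗ[R] N₂)
    (hf : Function.Injective (f.lTensor (IsLocalRing.ResidueField R))) :
    Module.Projective R N₁ := by
  obtain ⟨l', hl'⟩ :=
    (IsLocalRing.split_injective_iff_lTensor_residueField_injective f).mpr hf
  exact Module.Projective.of_split f l' hl'

open TensorProduct in
/-- Let A be a Noetherian ring, M a finitely generated A-module, F a finitely generated free A-module, δ
: M → F an A-linear map and p a prime of A with residue field κ(p). The following are equivalent: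
(a) the natural map (ker δ) ⊗ κ(p) → ker(δ ⊗ κ(p)) is surjective (its image is the whole kernel);
(b) that map is bijective; (c) (F / im δ) localized at p is a free module over the local ring A_p.
Moreover, if these hold then (im δ) localized at p is free over A_p. (The published statement takes
M to be the cokernel of a map of finitely generated free modules; over a Noetherian ring this is
every finitely generated M, which is what this row takes.) -/
theorem result (A : Type u) [CommRing A] [IsNoetherianRing A]
    (M : Type v) (F : Type v) [AddCommGroup M] [Module A M] [Module.Finite A M]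
    [AddCommGroup F] [Module A F] [Module.Finite A F] [Module.Free A F]
    (δ : M →ₗ[A] F) (p : Ideal A) [p.IsPrime] :
    [ Function.Exact (LinearMap.lTensor p.ResidueField (LinearMap.ker δ).subtype)
        (LinearMap.lTensor p.ResidueField δ),
      Function.Exact (LinearMap.lTensor p.ResidueField (LinearMap.ker δ).subtype)
        (LinearMap.lTensor p.ResidueField δ) ∧
        Function.Injective (LinearMap.lTensor p.ResidueField (LinearMap.ker δ).subtype),
      Module.Free (Localization.AtPrime p)
        (LocalizedModule p.primeCompl (F ⧸ LinearMap.range δ)) ].TFAE ∧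
    (Function.Exact (LinearMap.lTensor p.ResidueField (LinearMap.ker δ).subtype)
        (LinearMap.lTensor p.ResidueField δ) →
      Module.Free (Localization.AtPrime p)
        (LocalizedModule p.primeCompl (LinearMap.range δ))) := by
  set R := Localization.AtPrime p with hR
  set κ := p.ResidueField with hκ
  -- base changed maps
  have hι' : Function.Injective ((LinearMap.range δ).subtype.baseChange R) :=
    Module.Flat.lTensor_preserves_injective_linearMap (M := R) (LinearMap.range δ).subtype
      (Submodule.injective_subtype _)
  have hj' : Function.Injective ((LinearMap.ker δ).subtype.baseChange R) :=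
    Module.Flat.lTensor_preserves_injective_linearMap (M := R) (LinearMap.ker δ).subtype
      (Submodule.injective_subtype _)
  have hex1 : Function.Exact ((LinearMap.range δ).subtype.baseChange R)
      ((LinearMap.range δ).mkQ.baseChange R) :=
    lTensor_exact R (LinearMap.exact_subtype_mkQ (LinearMap.range δ))
      (Submodule.mkQ_surjective _)
  have hq' : Function.Surjective ((LinearMap.range δ).mkQ.baseChange R) :=
    LinearMap.lTensor_surjective R (Submodule.mkQ_surjective _)
  have hexA : Function.Exact (LinearMap.ker δ).subtype δ.rangeRestrict := by
    rw [LinearMap.exact_iff, LinearMap.ker_rangeRestrict, Submodule.range_subtype]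
  have hπ : Function.Surjective δ.rangeRestrict := LinearMap.surjective_rangeRestrict δ
  have hex2 : Function.Exact ((LinearMap.ker δ).subtype.baseChange R)
      (δ.rangeRestrict.baseChange R) :=
    lTensor_exact R hexA hπ
  have hπ' : Function.Surjective (δ.rangeRestrict.baseChange R) :=
    LinearMap.lTensor_surjective R hπ
  -- key consequences of injectivity of κ ⊗ ι
  have key : Function.Injective ((LinearMap.range δ).subtype.lTensor κ) →
      Module.Projective R (R ⊗[A] LinearMap.range δ) := by
    intro h
    exact projective_of_inj ((LinearMap.range δ).subtype.baseChange R)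
      ((bridge R κ (LinearMap.range δ).subtype).mpr h)
  refine ⟨?_, ?_⟩
  · tfae_have 2 → 1 := fun h => h.1
    tfae_have 1 → 3 := by
      intro ha
      have h1 : Function.Injective ((LinearMap.range δ).subtype.lTensor κ) :=
        (exact_iff_inj κ δ).mp ha
      have h2 := (bridge R κ (LinearMap.range δ).subtype).mpr h1
      have h3 : Module.Free R (R ⊗[A] (F ⧸ LinearMap.range δ)) :=
        Module.free_of_lTensor_residueField_injective _ _ hq' hex1 h2
      exact Module.Free.of_equiv
        (LocalizedModule.equivTensorProduct p.primeCompl (F ⧸ LinearMap.range δ)).symm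
    tfae_have 3 → 2 := by
      intro hc
      have h3 : Module.Free R (R ⊗[A] (F ⧸ LinearMap.range δ)) :=
        Module.Free.of_equiv
          (LocalizedModule.equivTensorProduct p.primeCompl (F ⧸ LinearMap.range δ))
      have h2 : Function.Injective
          (((LinearMap.range δ).subtype.baseChange R).lTensor κ) :=
        inj_lTensor_residue_of_flat hex1 hq' hι'
      have h1 := (bridge R κ (LinearMap.range δ).subtype).mp h2
      have hproj := key h1
      have h4 : Function.Injective
          (((LinearMap.ker δ).subtype.baseChange R).lTensor κ) :=
        inj_lTensor_residue_of_flat hex2 hπ' hj'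
      exact ⟨(exact_iff_inj κ δ).mpr h1, (bridge R κ (LinearMap.ker δ).subtype).mp h4⟩
    tfae_finish
  · intro ha
    have h1 : Function.Injective ((LinearMap.range δ).subtype.lTensor κ) :=
      (exact_iff_inj κ δ).mp ha
    have hproj := key h1
    have hfree : Module.Free R (R ⊗[A] LinearMap.range δ) :=
      Module.free_of_flat_of_isLocalRing
    exact Module.Free.of_equiv
      (LocalizedModule.equivTensorProduct p.primeCompl (LinearMap.range δ)).symm

end Groth.Agent.S14608
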