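import Groth.Statements.S14611
import Groth.Agent.Lib.Helper3FlatCx
import Groth.Agent.Lib.T2H4LocCrit


set_option autoImplicit false
universe u
open FlatCx

namespace Groth.Agent.S14611

open CategoryTheory CategoryTheory.Limits in
/-- Let A be a Noetherian ring, Q a cochain complex whose terms are finitely generated projective
A-modules, and d an integer such that H^p(Q) = 0 for every p < d and H^p(Q ⊗_A A/m) = 0 for every p
< d and every maximal ideal m of A. Then Q^d / im(Q^{d-1} → Q^d), the degree-d term of the
truncation τ_{≥ d} Q, is a projective A-module, so that τ_{≥ d} Q is again a complex of projective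
modules. (The published statement also asserts that Q → τ_{≥ d} Q is a quasi-isomorphism when H^p(Q)
= 0 for p < d; this row omits that clause.) -/
theorem result (A : Type u) [CommRing A] [IsNoetherianRing A]
    (Q : CochainComplex (ModuleCat.{u} A) ℤ)
    (hQ : ∀ i, Module.Finite A (Q.X i) ∧ Module.Projective A (Q.X i)) (d : ℤ)
    (h1 : ∀ p < d, IsZero (Q.homology p))
    (h2 : ∀ (m : Ideal A) [m.IsMaximal], ∀ p < d,
      IsZero ((CohIII.tensorObj Q (ModuleCat.of A (A ⧸ m))).homology p)) :
    Module.Projective A (Q.opcycles d) := by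
  have hflat : ∀ i, Module.Flat A (Q.X i) := fun i => by
    have := (hQ i).2
    infer_instance
  have : Module.Finite A (Q.X d) := (hQ d).1
  have hfin := Groth.Agent.Lib.Helper3.finite_opcycles Q d
  have : Module.FinitePresentation A (Q.opcycles d) := Module.finitePresentation_of_finite A _
  apply Groth.Agent.Lib.T2H4.LocCrit.projective_of_maximal
  intro I hI
  let S : ShortComplex (ModuleCat.{u} A) :=
    ShortComplex.mk (ModuleCat.ofHom I.subtype) (ModuleCat.ofHom (Submodule.mkQ I)) (by
      ext x
      exact (Submodule.Quotient.mk_eq_zero I).mpr x.2)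
  have hS : S.ShortExact := by
    have hmono : Mono S.f := (ModuleCat.mono_iff_injective _).mpr (Submodule.injective_subtype _)
    have hepi : Epi S.g := (ModuleCat.epi_iff_surjective _).mpr (Submodule.mkQ_surjective I)
    refine ShortComplex.ShortExact.mk' ?_ hmono hepi
    rw [ShortComplex.moduleCat_exact_iff]
    intro x hx
    exact ⟨⟨x, (Submodule.Quotient.mk_eq_zero I).mp hx⟩, rfl⟩
  have hepi : Epi ((CohIII.TFun Q (d - 1)).map S.g) := by
    have hz : IsZero ((CohIII.TFun Q (d - 1)).obj S.X₃) := h2 I (d - 1) (by omega)
    exact ⟨fun _ _ _ => hz.eq_of_src _ _⟩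
  have hmono := Groth.Agent.Lib.Helper3.mono_T_map_of_epi Q hflat S hS (d - 1) d (by simp) hepi
  have hm : Mono S.f := hS.mono_f
  have h3 := Groth.Agent.Lib.Helper3.mono_whiskerLeft_opcycles Q d (hflat _) S.f hmono
  exact (ModuleCat.mono_iff_injective _).mp h3

end Groth.Agent.S14611
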