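import Groth.Statements.S14624
import Groth.Agent.S9183
-- import your own Groth.Agent.* helpers here

set_option autoImplicit false
open CategoryTheory CategoryTheory.Limits
universe u
open Hensel

namespace Groth.Agent.S14624

/-- Let A be a commutative ring, m a proper ideal of A and Â the m-adic completion. Assume the
approximation property for polynomial systems: whenever finitely many polynomials over A in finitely
many variables have a common zero â in Â, then for every c there is a common zero a in A which
agrees with â in A/m^c. Let F be a functor from A-algebras (commutative rings under A) to sets which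
preserves filtered colimits, c a natural number and ξ ∈ F(Â). Then there is η ∈ F(A) whose image in
F(A/m^c) equals the image of ξ; here π is the A-algebra map Â → A/m^c (pinned by its underlying ring
map) and ρ the A-algebra map A → A/m^c. (The published statement takes for A the henselization at a
prime ideal of an algebra of finite type over a field or over an excellent discrete valuation ring,
for which the approximation property of polynomial systems is quoted; this row carries that property
as a hypothesis and draws the published conclusion for functors.) -/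
theorem result (A : Type u) [CommRing A]
    (m : Ideal A) (hm : m ≠ ⊤)
    (hAP : ∀ (k l c : ℕ) (f : Fin l → MvPolynomial (Fin k) A) (â : Fin k → AdicCompletion m A),
      (∀ i, MvPolynomial.aeval â (f i) = 0) →
      ∃ a : Fin k → A, (∀ i, MvPolynomial.eval a (f i) = 0) ∧
        ∀ j, Ideal.Quotient.mk (m ^ c) (a j) = AdicCompletion.evalₐ m c (â j))
    (F : Under (CommRingCat.of A) ⥤ Type u)
    (hF : ∀ (J : Type u) [SmallCategory J] [IsFiltered J], PreservesColimitsOfShape J F)
    (c : ℕ)
    (π : Under.mk (CommRingCat.ofHom (algebraMap A (AdicCompletion m A))) ⟶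
      Under.mk (CommRingCat.ofHom (algebraMap A (A ⧸ m ^ c))))
    (hπ : π.right = CommRingCat.ofHom
      (AdicCompletion.evalₐ m c : AdicCompletion m A →ₐ[A] A ⧸ m ^ c).toRingHom)
    (ρ : Under.mk (𝟙 (CommRingCat.of A)) ⟶ Under.mk (CommRingCat.ofHom (algebraMap A (A ⧸ m ^ c))))
    (ξ : F.obj (Under.mk (CommRingCat.ofHom (algebraMap A (AdicCompletion m A))))) :
    ∃ η : F.obj (Under.mk (𝟙 (CommRingCat.of A))), F.map ρ η = F.map π ξ := by
  classical
  obtain ⟨I, _, _, D, cc, hcc, hfp, ⟨e⟩⟩ := Groth.Agent.S9183.result A (AdicCompletion m A)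
  haveI := hF I
  have hcol : IsColimit (F.mapCocone cc) := isColimitOfPreserves F hcc
  obtain ⟨i, x, hx⟩ := Types.jointly_surjective_of_isColimit hcol (F.map e.inv ξ)
  -- the finitely presented algebra `B`
  set Bi := D.obj i with hBi
  letI : Algebra A Bi.right := Bi.hom.hom.toAlgebra
  have hfpi : Algebra.FinitePresentation A Bi.right := hfp i
  obtain ⟨k, f, hfs, hfk⟩ := Algebra.FinitePresentation.out (R := A) (A := Bi.right)
  obtain ⟨s, hs⟩ := hfk
  -- enumerate the generators of the kernel
  obtain ⟨l, g, hg⟩ : ∃ (l : ℕ) (g : Fin l → MvPolynomial (Fin k) A), Set.range g = (s : Set _) := by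
    refine ⟨s.card, fun j => (s.equivFin.symm j : MvPolynomial (Fin k) A), ?_⟩
    ext p
    constructor
    · rintro ⟨j, rfl⟩
      exact (s.equivFin.symm j).2
    · intro hp
      exact ⟨s.equivFin ⟨p, hp⟩, by simp⟩
  -- the map `B → Â`
  let φ : Bi ⟶ Under.mk (CommRingCat.ofHom (algebraMap A (AdicCompletion m A))) := cc.ι.app i ≫ e.hom
  have hφA : ∀ a : A, φ.right.hom (algebraMap A Bi.right a) = algebraMap A (AdicCompletion m A) a := by
    intro a
    have := Under.w φ
    have h2 := congrArg (fun t => t.hom a) this
    exact h2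
  let φa : Bi.right →ₐ[A] AdicCompletion m A := { φ.right.hom with commutes' := hφA }
  let â : Fin k → AdicCompletion m A := fun j => φa (f (MvPolynomial.X j))
  have hâ : ∀ p : MvPolynomial (Fin k) A, MvPolynomial.aeval â p = φa (f p) := by
    intro p
    have : (MvPolynomial.aeval â : MvPolynomial (Fin k) A →ₐ[A] _) = φa.comp f := by
      apply MvPolynomial.algHom_ext
      intro j
      simp [â]
    rw [this]; rfl
  have hzero : ∀ j, MvPolynomial.aeval â (g j) = 0 := by
    intro j
    rw [hâ]
    have hmem : g j ∈ RingHom.ker f.toRingHom := by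
      rw [← hs]
      apply Ideal.subset_span
      rw [← hg]
      exact ⟨j, rfl⟩
    have : f (g j) = 0 := hmem
    rw [this, map_zero]
  obtain ⟨a, ha0, hac⟩ := hAP k l c g â hzero
  have hker : RingHom.ker f.toRingHom ≤
      RingHom.ker (MvPolynomial.aeval a : MvPolynomial (Fin k) A →ₐ[A] A).toRingHom := by
    rw [← hs, Ideal.span_le]
    intro p hp
    rw [← hg] at hp
    obtain ⟨j, rfl⟩ := hp
    show MvPolynomial.aeval a (g j) = 0
    rw [MvPolynomial.aeval_eq_eval]
    exact ha0 j
  let ψ₀ : Bi.right →ₐ[A] A := AlgHom.liftOfSurjective f hfs (MvPolynomial.aeval a) hker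
  have hψ₀ : ∀ p, ψ₀ (f p) = MvPolynomial.aeval a p := fun p =>
    AlgHom.liftOfSurjective_apply f hfs (MvPolynomial.aeval a) hker p
  let ψ : Bi ⟶ Under.mk (𝟙 (CommRingCat.of A)) :=
    Under.homMk (CommRingCat.ofHom ψ₀.toRingHom) (by
      ext a'
      show ψ₀ (algebraMap A Bi.right a') = a'
      rw [ψ₀.commutes]; rfl)
  refine ⟨F.map ψ x, ?_⟩
  have hρ : ρ.right = CommRingCat.ofHom (algebraMap A (A ⧸ m ^ c)) := by
    have := Under.w ρ
    simpa using this
  have hkey : ((Algebra.ofId A (A ⧸ m ^ c)).comp (MvPolynomial.aeval a) :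
      MvPolynomial (Fin k) A →ₐ[A] (A ⧸ m ^ c)) =
      (AdicCompletion.evalₐ m c).comp (MvPolynomial.aeval â) := by
    apply MvPolynomial.algHom_ext
    intro j
    simp only [AlgHom.comp_apply, MvPolynomial.aeval_X]
    exact hac j
  have hcomp : ψ ≫ ρ = φ ≫ π := by
    apply Under.UnderMorphism.ext
    simp only [Under.comp_right]
    rw [hρ, hπ]
    ext b
    obtain ⟨p, rfl⟩ := hfs b
    have h1 := DFunLike.congr_fun hkey p
    simp only [AlgHom.comp_apply] at h1
    rw [hâ] at h1
    show algebraMap A (A ⧸ m ^ c) (ψ₀ (f p)) = AdicCompletion.evalₐ m c (φa (f p))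
    rw [hψ₀]
    exact h1
  have h3 : F.map (cc.ι.app i) x = F.map e.inv ξ := hx
  calc F.map ρ (F.map ψ x) = F.map (ψ ≫ ρ) x := by rw [F.map_comp]; rfl
    _ = F.map (φ ≫ π) x := by rw [hcomp]
    _ = F.map π (F.map e.hom (F.map (cc.ι.app i) x)) := by
        simp only [φ, F.map_comp]; rfl
    _ = F.map π ξ := by
        rw [h3]
        have : F.map e.hom (F.map e.inv ξ) = ξ := by
          rw [← types_comp_apply (F.map e.inv) (F.map e.hom), ← F.map_comp, e.inv_hom_id,
            F.map_id]; rfl
        rw [this]

end Groth.Agent.S14624
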