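import Groth.Statements.S14625
import Groth.Agent.Lib.T2H8MuConst

set_option autoImplicit false
open CategoryTheory AlgebraicGeometry
universe u
open EtBase

namespace Groth.Agent.S14625

open Polynomial IsLocalRing in
/-- a strictly henselian local ring in which `n` is invertible contains a root of the `n`-th
cyclotomic polynomial -/
theorem exists_cyclotomic_root (A : Type u) [CommRing A] [HenselianLocalRing A]
    [IsSepClosed (ResidueField A)] (n : ℕ) (hn : 1 ≤ n) (hu : IsUnit (n : A)) :
    ∃ z : A, aeval z (cyclotomic n ℤ) = 0 := by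
  have hnk : NeZero (n : ResidueField A) := ⟨by
    have := hu.map (residue A)
    rw [map_natCast] at this
    exact this.ne_zero⟩
  have hsep : (cyclotomic n (ResidueField A)).Separable := separable_cyclotomic n _
  have hdeg : (cyclotomic n (ResidueField A)).degree ≠ 0 := by
    rw [degree_cyclotomic]
    have : 0 < Nat.totient n := Nat.totient_pos.mpr (by omega)
    exact_mod_cast this.ne'
  obtain ⟨a₀, ha₀⟩ := IsSepClosed.exists_root _ hdeg hsep
  obtain ⟨b, rfl⟩ := residue_surjective a₀
  have hmap : (cyclotomic n A).map (residue A) = cyclotomic n (ResidueField A) := map_cyclotomic n _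
  have h1 : (cyclotomic n A).eval b ∈ maximalIdeal A := by
    rw [← residue_eq_zero_iff, ← eval₂_hom, ← Polynomial.eval_map, hmap]
    exact ha₀
  have h2 : IsUnit ((cyclotomic n A).derivative.eval b) := by
    apply IsUnit.of_map (residue A)
    rw [← eval₂_hom, ← Polynomial.eval_map, ← derivative_map, hmap]
    refine IsUnit.mk0 _ ?_
    have := hsep.eval₂_derivative_ne_zero (RingHom.id _) (x := residue A b) (by
      rw [eval₂_id]; exact ha₀)
    rwa [eval₂_id] at this
  obtain ⟨z, hz, -⟩ := HenselianLocalRing.is_henselian (cyclotomic n A) (cyclotomic.monic n A) b h1 h2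
  refine ⟨z, ?_⟩
  rw [aeval_def, eval₂_eq_eval_map, map_cyclotomic]
  exact hz

/-- Let A be a strictly henselian local ring, n ≥ 1 an integer invertible in A, and X a scheme over Spec
A. Then the étale sheaf μ_n of n-th roots of unity on X is isomorphic to the constant sheaf with
value ℤ/n. Only the existence of an isomorphism is asserted; it depends on the choice of a primitive
n-th root of unity in A. -/
theorem result (A : Type u) [CommRing A]
    (hA : EtCoh.IsStrictlyHenselianLocalRing A) (n : ℕ) (hn : 1 ≤ n) (hu : IsUnit (n : A))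
    (X : Scheme.{u}) (f : X ⟶ Spec (CommRingCat.of A)) :
    Nonempty (EtCoh.mu X n ≅ EtCoh.const X (ZMod n)) := by
  obtain ⟨hH, hS⟩ := hA
  obtain ⟨z, hz⟩ := exists_cyclotomic_root A n hn hu
  let ρ : A →+* Γ(X, ⊤) := f.appTop.hom.comp (Scheme.ΓSpecIso (CommRingCat.of A)).inv.hom
  refine Groth.Agent.Lib.T2H8.MuConst.nonempty_mu_iso_const X n hn ?_ (ρ z) ?_
  · have := hu.map ρ
    rwa [map_natCast] at this
  · have h := Polynomial.aeval_algHom_apply ρ.toIntAlgHom z (Polynomial.cyclotomic n ℤ)
    change Polynomial.aeval (ρ z) (Polynomial.cyclotomic n ℤ) = ρ (Polynomial.aeval z (Polynomial.cyclotomic n ℤ)) at h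
    rw [h, hz, map_zero]

end Groth.Agent.S14625
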