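import Groth.Statements.S14643
import Groth.Agent.Lib.T2H7ActQuot

set_option autoImplicit false
universe u
open CategoryTheory MonoidalCategory CartesianMonoidalCategory MonObj GrpObj AlgebraicGeometry CategoryTheory.Limits
open AlgGrp

namespace Groth.Agent.S14643

/-- Over a field k, let G be a smooth k-group scheme of finite type acting on a variety X (a separated,
geometrically integral k-scheme of finite type). Let n : N → G be the kernel of the action: a closed
subgroup scheme such that, for every k-scheme T, a T-point of G factors through N exactly when it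
acts as the identity on all points of X over T-schemes. Let π : G → Q be a homomorphism onto a
k-group scheme of finite type which is flat and surjective with kernel N (the quotient G/N). Then
there is a unique action of Q on X inducing the given one along π; this action of Q is faithful (a
T-point of Q acting as the identity on all points of X over T-schemes is the unit); and X is
homogeneous under G (surjective graph morphism (g, x) ↦ (x, g·x)) if and only if it is homogeneous
under Q, and almost homogeneous under G (dominant graph morphism) if and only if it is almost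
homogeneous under Q. -/
theorem result (k : Type u) [Field k]
    (G N Q X : Over (Spec (CommRingCat.of k))) [GrpObj G] [Smooth G.hom] [QuasiCompact G.hom]
    [IsSeparated X.hom] [LocallyOfFiniteType X.hom] [QuasiCompact X.hom] [GeometricallyIntegral X.hom] (a : AlgGrp.Action G X)
    [GrpObj N] (n : N ⟶ G) [IsMonHom n] [IsClosedImmersion n.left]
    (hN : ∀ (T : Over (Spec (CommRingCat.of k))) (g : T ⟶ G),
      (∃ m : T ⟶ N, m ≫ n = g) ↔
        ∀ (T' : Over (Spec (CommRingCat.of k))) (s : T' ⟶ T) (x : T' ⟶ X), CartesianMonoidalCategory.lift (s ≫ g) x ≫ a.act = x)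
    [GrpObj Q] [LocallyOfFiniteType Q.hom] [QuasiCompact Q.hom] (π : G ⟶ Q) [IsMonHom π] [Flat π.left] [Surjective π.left]
    (hker : AlgGrp.IsKernel n π) :
    (∃! b : AlgGrp.Action Q X, (π ▷ X) ≫ b.act = a.act) ∧
    ∀ b : AlgGrp.Action Q X, (π ▷ X) ≫ b.act = a.act →
      (∀ (T : Over (Spec (CommRingCat.of k))) (q : T ⟶ Q),
        (∀ (T' : Over (Spec (CommRingCat.of k))) (s : T' ⟶ T) (x : T' ⟶ X), CartesianMonoidalCategory.lift (s ≫ q) x ≫ b.act = x) → q = 1) ∧
      (Surjective (CartesianMonoidalCategory.lift (CartesianMonoidalCategory.snd G X) a.act).left ↔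
        Surjective (CartesianMonoidalCategory.lift (CartesianMonoidalCategory.snd Q X) b.act).left) ∧
      (IsDominant (CartesianMonoidalCategory.lift (CartesianMonoidalCategory.snd G X) a.act).left ↔
        IsDominant (CartesianMonoidalCategory.lift (CartesianMonoidalCategory.snd Q X) b.act).left) := by
  have hGfp : LocallyOfFinitePresentation G.hom := inferInstance
  have hπfp : LocallyOfFinitePresentation π.left := by
    refine Groth.Agent.Lib.Helper6.locallyOfFinitePresentation_of_comp (g := Q.hom) inferInstance ?_
    rw [Over.w π]
    exact hGfp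
  have hc : Groth.Agent.Lib.Helper12.QuotGrp.IsCov π :=
    Groth.Agent.Lib.Helper12.QuotGrp.IsCov.of_fppf π
  have hepi : Epi (π ▷ X) := (hc.whiskerRight X).epi
  have hNtriv : ∀ (T : Over (Spec (CommRingCat.of k))) (m : T ⟶ N) (x : T ⟶ X),
      CartesianMonoidalCategory.lift (m ≫ n) x ≫ a.act = x := by
    intro T m x
    have h1 := (hN T (m ≫ n)).1 ⟨m, rfl⟩ T (𝟙 T) x
    rw [Category.id_comp] at h1
    exact h1
  obtain ⟨b₀, hb₀⟩ := Groth.Agent.Lib.T2H7.ActQuot.exists_act_desc n π a hker hc hNtriv
  have hsurj : Surjective (π ▷ X).left :=
    Groth.Agent.Lib.Helper12.surjective_whiskerRight_left X π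
  refine ⟨⟨⟨b₀, Groth.Agent.Lib.T2H7.ActQuot.one_act_desc a hb₀,
    Groth.Agent.Lib.T2H7.ActQuot.mul_act_desc a hc hb₀⟩, hb₀, ?_⟩, ?_⟩
  · intro b' hb'
    obtain ⟨act', h1, h2⟩ := b'
    have : act' = b₀ := by
      rw [← cancel_epi (π ▷ X), hb₀]
      exact hb'
    subst this
    rfl
  · intro b hb
    have hg : CartesianMonoidalCategory.lift (CartesianMonoidalCategory.snd G X) a.act =
        (π ▷ X) ≫ CartesianMonoidalCategory.lift (CartesianMonoidalCategory.snd Q X) b.act :=
      Groth.Agent.Lib.T2H7.ActQuot.graph_comp π a hb
    have hgl : (CartesianMonoidalCategory.lift (CartesianMonoidalCategory.snd G X) a.act).left =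
        (π ▷ X).left ≫
          (CartesianMonoidalCategory.lift (CartesianMonoidalCategory.snd Q X) b.act).left := by
      rw [hg]
      rfl
    refine ⟨fun T q hq =>
      Groth.Agent.Lib.T2H7.ActQuot.faithful_desc n π a hker hN hb q hq, ?_, ?_⟩
    · rw [hgl]
      constructor
      · intro h
        exact Surjective.of_comp (π ▷ X).left _
      · intro h
        infer_instance
    · rw [hgl]
      constructor
      · intro h
        exact IsDominant.of_comp (π ▷ X).left _
      · intro h
        infer_instance

end Groth.Agent.S14643
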