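import Groth.Statements.S14652
import Mathlib

set_option autoImplicit false
universe u
open FiltBl

namespace Groth.Agent.S14652

noncomputable def psi (q : ℕ) (a : WithTop ℤ) : ℝ :=
  WithTop.recTopCoe 0 (fun n : ℤ => (2:ℝ) ^ (-(q:ℤ) * n)) a

theorem psi_top (q : ℕ) : psi q ⊤ = 0 := rfl
theorem psi_coe (q : ℕ) (n : ℤ) : psi q (n : WithTop ℤ) = (2:ℝ) ^ (-(q:ℤ) * n) := rfl

theorem psi_nonneg (q : ℕ) (a : WithTop ℤ) : 0 ≤ psi q a := by
  induction a using WithTop.recTopCoe with
  | top => rw [psi_top]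
  | coe n => rw [psi_coe]; positivity

theorem psi_eq_zero_iff (q : ℕ) (a : WithTop ℤ) : psi q a = 0 ↔ a = ⊤ := by
  induction a using WithTop.recTopCoe with
  | top => simp [psi_top]
  | coe n =>
    rw [psi_coe]
    constructor
    · intro h
      exact absurd h (zpow_ne_zero _ two_ne_zero)
    · intro h
      exact absurd h (WithTop.coe_ne_top)

theorem psi_add (q : ℕ) (a b : WithTop ℤ) : psi q (a + b) = psi q a * psi q b := by
  induction a using WithTop.recTopCoe with
  | top => rw [WithTop.top_add, psi_top, zero_mul]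
  | coe m =>
    induction b using WithTop.recTopCoe with
    | top => rw [WithTop.add_top, psi_top, mul_zero]
    | coe n =>
      rw [← WithTop.coe_add, psi_coe, psi_coe, psi_coe, ← zpow_add₀ (two_ne_zero' ℝ)]
      congr 1
      ring

theorem psi_anti (q : ℕ) {a b : WithTop ℤ} (h : a ≤ b) : psi q b ≤ psi q a := by
  induction b using WithTop.recTopCoe with
  | top => rw [psi_top]; exact psi_nonneg q a
  | coe n =>
    induction a using WithTop.recTopCoe with
    | top => exact absurd (top_le_iff.mp h) WithTop.coe_ne_top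
    | coe m =>
      rw [psi_coe, psi_coe]
      have h1 : m ≤ n := WithTop.coe_le_coe.mp h
      have h2 : (q:ℤ) * m ≤ (q:ℤ) * n := mul_le_mul_of_nonneg_left h1 (Int.natCast_nonneg q)
      exact zpow_le_zpow_right₀ one_le_two (by linarith)

theorem key_iff {q : ℕ} (hq : 0 < q) (p k : ℕ) (a : WithTop ℤ) :
    (((k * p : ℕ) : WithTop ℤ) ≤ (q : WithTop ℤ) * a) ↔ psi q a * ((2:ℝ) ^ p) ^ k ≤ 1 := by
  induction a using WithTop.recTopCoe with
  | top =>
    have hq0 : (q : WithTop ℤ) ≠ 0 := by
      exact_mod_cast hq.ne'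
    rw [WithTop.mul_top hq0, psi_top, zero_mul]
    simp
  | coe n =>
    have h1 : (((k * p : ℕ) : WithTop ℤ) ≤ (q : WithTop ℤ) * (n : WithTop ℤ)) ↔
        ((k * p : ℕ) : ℤ) ≤ (q : ℤ) * n := by
      have e1 : ((k * p : ℕ) : WithTop ℤ) = (((k * p : ℕ) : ℤ) : WithTop ℤ) := rfl
      have e2 : (q : WithTop ℤ) * (n : WithTop ℤ) = (((q:ℤ) * n : ℤ) : WithTop ℤ) := by
        norm_cast
      rw [e1, e2, WithTop.coe_le_coe]
    rw [h1, psi_coe, ← pow_mul, ← zpow_natCast, ← zpow_add₀ (two_ne_zero' ℝ),
      zpow_le_one_iff_right₀ one_lt_two]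
    push_cast
    constructor <;> intro h <;> linarith


theorem exists_abs (A K : Type*) [CommRing A] [IsDomain A] [Field K] [Algebra A K]
    [IsFractionRing A K] (v : AddValuation K (WithTop ℤ)) (q : ℕ) :
    ∃ N : AbsoluteValue A ℝ, IsNonarchimedean N ∧
      ∀ x, N x = psi q (v (algebraMap A K x)) := by
  have hna : ∀ x y : A, psi q (v (algebraMap A K (x + y))) ≤
      max (psi q (v (algebraMap A K x))) (psi q (v (algebraMap A K y))) := by
    intro x y
    rw [map_add]
    have h1 := AddValuation.map_add v (algebraMap A K x) (algebraMap A K y)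
    rcases le_total (v (algebraMap A K x)) (v (algebraMap A K y)) with h | h
    · rw [min_eq_left h] at h1
      exact (psi_anti q h1).trans (le_max_left _ _)
    · rw [min_eq_right h] at h1
      exact (psi_anti q h1).trans (le_max_right _ _)
  refine ⟨{ toFun := fun x => psi q (v (algebraMap A K x))
            map_mul' := fun x y => by rw [map_mul, AddValuation.map_mul, psi_add]
            nonneg' := fun x => psi_nonneg q _
            eq_zero' := fun x => by
              rw [psi_eq_zero_iff, AddValuation.top_iff,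
                map_eq_zero_iff _ (IsFractionRing.injective A K)]
            add_le' := fun x y => (hna x y).trans
              (max_le_add_of_nonneg (psi_nonneg q _) (psi_nonneg q _)) }, ?_, fun x => rfl⟩
  intro x y
  exact hna x y

theorem unitball_closed {A T : Type*} [CommRing A] [CommRing T] [Nontrivial T] [Algebra A T]
    (G : T → ℝ) [IsAbsoluteValue G] (hna : IsNonarchimedean G)
    (S : Subalgebra A T) (hS : ∀ s ∈ S, G s ≤ 1) (g : T) (hg : IsIntegral S g) : G g ≤ 1 := by
  by_contra hlt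
  rw [not_le] at hlt
  obtain ⟨P, hmon, hP⟩ := hg
  have hsum : ∀ (B : ℝ) (_ : 0 ≤ B) (s : Finset ℕ) (l : ℕ → T),
      (∀ j ∈ s, G (l j) ≤ B) → G (∑ j ∈ s, l j) ≤ B := by
    intro B hB s l hl
    refine Finset.sum_induction l (fun y => G y ≤ B)
      (fun a b ha hb => (hna a b).trans (max_le ha hb)) ?_ hl
    rw [IsAbsoluteValue.abv_zero G]
    exact hB
  have h2 : g ^ P.natDegree + ∑ j ∈ Finset.range P.natDegree,
      algebraMap S T (P.coeff j) * g ^ j = 0 := by
    have h3 : Polynomial.eval₂ (algebraMap S T) g (Polynomial.X ^ P.natDegree +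
        ∑ i ∈ Finset.range P.natDegree, Polynomial.C (P.coeff i) * Polynomial.X ^ i) = 0 := by
      rw [← hmon.as_sum]
      exact hP
    rw [Polynomial.eval₂_add, Polynomial.eval₂_pow, Polynomial.eval₂_X,
      Polynomial.eval₂_finsetSum] at h3
    simp only [Polynomial.eval₂_mul, Polynomial.eval₂_C, Polynomial.eval₂_pow,
      Polynomial.eval₂_X] at h3
    exact h3
  generalize P.natDegree = n at h2
  have hgn : g ^ n = -(∑ j ∈ Finset.range n, algebraMap S T (P.coeff j) * g ^ j) :=
    eq_neg_of_add_eq_zero_left h2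
  have hGn : G g ^ n = G (∑ j ∈ Finset.range n, algebraMap S T (P.coeff j) * g ^ j) := by
    rw [← IsAbsoluteValue.abv_pow G, hgn, IsAbsoluteValue.abv_neg G]
  cases n with
  | zero =>
    rw [pow_zero, Finset.range_zero, Finset.sum_empty, IsAbsoluteValue.abv_zero G] at hGn
    exact one_ne_zero hGn
  | succ m =>
    have hle : G (∑ j ∈ Finset.range (m + 1), algebraMap S T (P.coeff j) * g ^ j) ≤
        G g ^ m := by
      refine hsum _ (pow_nonneg (IsAbsoluteValue.abv_nonneg G g) m) _ _ (fun j hj => ?_)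
      rw [IsAbsoluteValue.abv_mul G, IsAbsoluteValue.abv_pow G]
      have h1 : G (algebraMap S T (P.coeff j)) ≤ 1 := hS _ (P.coeff j).2
      have h2' : G g ^ j ≤ G g ^ m :=
        pow_le_pow_right₀ hlt.le (Nat.lt_succ_iff.mp (Finset.mem_range.mp hj))
      calc G (algebraMap S T (P.coeff j)) * G g ^ j ≤ 1 * G g ^ m :=
            mul_le_mul h1 h2' (pow_nonneg (IsAbsoluteValue.abv_nonneg G g) j) zero_le_one
        _ = G g ^ m := one_mul _
    have hlt2 : G g ^ m < G g ^ (m + 1) := pow_lt_pow_right₀ hlt (Nat.lt_succ_self m)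
    rw [hGn] at hlt2
    exact absurd hle (not_le.mpr hlt2)

/-- Let A be a Noetherian integrally closed domain with fraction field K, let v_1, …, v_s be finitely
many valuations on K with values in ℤ ∪ {∞} (written additively) that are non-negative on A, and let
r_i = p_i / q_i be positive rationals (p_i, q_i positive integers). Let F be the filtration of
ideals of A given by F^k = {x ∈ A | q_i · v_i(x) ≥ k · p_i for every i}. Then the Rees algebra ⊕_{k
≥ 0} F^k X^k ⊆ A[X] is an integrally closed domain (it need not be Noetherian). -/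
theorem result (A K : Type u) [CommRing A] [IsDomain A]
    [IsNoetherianRing A] [IsIntegrallyClosed A] [Field K] [Algebra A K] [IsFractionRing A K]
    (ι : Type) [Finite ι] (v : ι → AddValuation K (WithTop ℤ))
    (hv : ∀ (i : ι) (x : A), 0 ≤ v i (algebraMap A K x)) (p q : ι → ℕ) (hp : ∀ i, 0 < p i)
    (hq : ∀ i, 0 < q i) (𝓕 : FiltBl.IdealFiltration A)
    (hF : ∀ (k : ℕ) (x : A), x ∈ 𝓕.F k ↔
      ∀ i, ((k * p i : ℕ) : WithTop ℤ) ≤ (q i : WithTop ℤ) * v i (algebraMap A K x)) :
    IsIntegrallyClosed 𝓕.rees := by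
  haveI hIC : IsIntegrallyClosedIn ↥𝓕.rees (Polynomial A) := by
    refine isIntegrallyClosedIn_iff.mpr ⟨fun a b h => Subtype.ext h, fun {x} hx => ?_⟩
    suffices hmem : x ∈ 𝓕.rees from ⟨⟨x, hmem⟩, rfl⟩
    show ∀ n, x.coeff n ∈ 𝓕.F n
    intro n
    rw [hF]
    intro i
    obtain ⟨N, hNna, hN⟩ := exists_abs A K (v i) (q i)
    have hc : (0:ℝ) < 2 ^ (p i) := by positivity
    haveI := Polynomial.gaussNorm_isAbsoluteValue hNna hc
    have hG : Polynomial.gaussNorm N (2 ^ p i) x ≤ 1 := by
      refine unitball_closed (Polynomial.gaussNorm N (2 ^ p i))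
        (Polynomial.isNonarchimedean_gaussNorm N hNna hc.le) 𝓕.rees ?_ x hx
      intro s hs
      obtain ⟨j, hj⟩ := Polynomial.exists_eq_gaussNorm N (2 ^ p i) s
      rw [hj, hN, ← key_iff (hq i)]
      exact (hF j (s.coeff j)).mp (hs j) i
    have h1 := (Polynomial.le_gaussNorm N x hc.le n).trans hG
    rw [hN, ← key_iff (hq i)] at h1
    exact h1
  exact IsIntegrallyClosed.of_isIntegrallyClosed_of_isIntegrallyClosedIn ↥𝓕.rees (Polynomial A)

end Groth.Agent.S14652
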