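import Groth.Statements.S14659
import Groth.Agent.Lib.LeadGUb

set_option autoImplicit false
universe u
open FiltBl

namespace Groth.Agent.S14659

/-- Let R be a Noetherian ℤ-graded commutative ring which is regular (every localization at a prime is a
regular local ring), whose degree-0 subring R_0 is a local ring, with R_1 ≠ 0 and with a homogeneous
unit in some positive degree; let N be the least positive degree in which R has a unit and t ∈ R_N a
unit (so that R_N = t · R_0). Then C = R/(t − 1)R is a regular local ring. -/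
theorem result (R : Type u) [CommRing R]
    [IsNoetherianRing R] (𝒜 : ℤ → AddSubgroup R) [GradedRing 𝒜]
    (hreg : ∀ (p : Ideal R) [p.IsPrime], IsRegularLocalRing (Localization.AtPrime p))
    [IsLocalRing (GrLC.deg0 𝒜)] (h1 : ∃ x ∈ 𝒜 1, x ≠ 0) (N : ℕ) (hN : 0 < N) (t : R)
    (ht : t ∈ 𝒜 (N : ℤ)) (htu : IsUnit t)
    (hmin : ∀ (n : ℤ), 0 < n → n < (N : ℤ) → ∀ s ∈ 𝒜 n, ¬ IsUnit s) :
    IsRegularLocalRing (R ⧸ Ideal.span {t - 1}) := by
  obtain ⟨v, rfl⟩ := htu
  have hm : ∀ (i j : ℤ), 0 < i → 0 < j → i + j = (N : ℤ) → ∀ a ∈ 𝒜 i, ∀ b ∈ 𝒜 j,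
      ∃ c : GrLC.deg0 𝒜, c ∈ IsLocalRing.maximalIdeal (GrLC.deg0 𝒜) ∧
        a * b = (c : R) * (v : R) := by
    intro i j hi hj hij a ha b hb
    have h1 := SetLike.GradedMul.mul_mem (SetLike.GradedMul.mul_mem ha hb)
      (Groth.Agent.Lib.LeadGU.inv_mem_of_mem v ht)
    have h2 : i + j + -(N : ℤ) = 0 := by rw [hij]; ring
    rw [h2] at h1
    have hc : a * b = a * b * ((v⁻¹ : Rˣ) : R) * (v : R) := by
      rw [mul_assoc, Units.inv_mul, mul_one]
    refine ⟨⟨_, h1⟩, ?_, hc⟩
    by_contra hnot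
    have hu : IsUnit (⟨_, h1⟩ : GrLC.deg0 𝒜) := by
      rw [IsLocalRing.mem_maximalIdeal, mem_nonunits_iff, not_not] at hnot
      exact hnot
    have hu' : IsUnit (a * b * ((v⁻¹ : Rˣ) : R)) := hu.map (GrLC.deg0 𝒜).subtype
    have hab : IsUnit (a * b) := by
      rw [hc]
      exact hu'.mul v.isUnit
    exact hmin i hi (by linarith) a ha (isUnit_of_mul_isUnit_left hab)
  exact (Groth.Agent.Lib.LeadGU.GUData.mk N hN v ht hm).isRegularLocalRing_quotient hreg

end Groth.Agent.S14659
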