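import Groth.Statements.S14675
import Mathlib
import Groth.Agent.Lib.T2H6SmCurveSplit

set_option autoImplicit false
universe u
open CategoryTheory CategoryTheory.Limits AlgebraicGeometry
open HilbD

namespace Groth.Agent.S14675

/-- Let S be a locally Noetherian scheme, f : C ⟶ S proper and smooth of relative dimension 1, d ≥ 0,
and D the closed subscheme of C defined by a quasi-coherent ideal sheaf I, with D ⟶ S finite locally
free of degree d (an effective relative Cartier divisor of constant degree d). Then D becomes a sum
of d sections after an fppf base change: there are b : S' ⟶ S flat, surjective and locally of finite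
presentation and sections σ_1, …, σ_d of the projection C ×_S S' ⟶ S' such that the ideal sheaf of D
×_S S' ⊆ C ×_S S' (the kernel ideal of the base change of D ⟶ C) is the product of the kernel ideal
sheaves of the σ_i. (The published statement is for a flat projective family whose geometric fibres
are connected regular curves; this row assumes properness and smoothness of relative dimension 1,
which is what the proof uses.) -/
theorem result {C S : Scheme.{u}} [IsLocallyNoetherian S]
    (f : C ⟶ S) [IsProper f] [SmoothOfRelativeDimension 1 f] (d : ℕ) (I : C.IdealSheafData)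
    (hD : Mor2.IsFinLocFreeOfDeg d (I.subschemeι ≫ f)) :
    ∃ (S' : Scheme.{u}) (b : S' ⟶ S), Flat b ∧ Surjective b ∧ LocallyOfFinitePresentation b ∧
      ∃ σ : Fin d → (S' ⟶ pullback f b), (∀ i, σ i ≫ pullback.snd f b = 𝟙 S') ∧
        (pullback.snd I.subschemeι (pullback.fst f b)).ker = ∏ i, (σ i).ker := by
  haveI : IsSeparated f := inferInstance
  obtain ⟨B', Y', b, p, g', hpb, hfl, hs, hfp, σ, hσ, hσ2⟩ :=
    Groth.Agent.Lib.T2H6.SmCurve.exists_sections d f I hD
  haveI : IsSeparated g' := MorphismProperty.of_isPullback hpb (inferInstance : IsSeparated f)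
  refine ⟨B', b, hfl, hs, hfp, fun i => σ i ≫ hpb.isoPullback.hom, fun i => ?_, ?_⟩
  · rw [Category.assoc, hpb.isoPullback_hom_snd, hσ i]
  · have h1 : (pullback.snd I.subschemeι (pullback.fst f b)).ker = I.comap (pullback.fst f b) := by
      have h1 := Scheme.IdealSheafData.ker_fst_of_isClosedImmersion I.subschemeι (pullback.fst f b)
      rw [Scheme.IdealSheafData.ker_subschemeι] at h1
      rw [← h1, ← pullbackSymmetry_hom_comp_fst, Scheme.Hom.ker_comp_of_isIso]
    have h2 : pullback.fst f b = hpb.isoPullback.inv ≫ p := by rw [hpb.isoPullback_inv_fst]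
    rw [h1, h2, Scheme.IdealSheafData.comap_comp, hσ2, Groth.Agent.Lib.T2H6.SmCurve.comap_prod]
    apply Finset.prod_congr rfl
    intro i _
    symm
    haveI := Groth.Agent.Lib.T2H6.SmCurve.isClosedImmersion_of_section g' (σ i) (hσ i)
    exact Groth.Agent.Lib.T2H6.SmCurve.ker_of_isPullback (σ i ≫ hpb.isoPullback.hom) (σ i) (𝟙 _)
      hpb.isoPullback.inv (IsPullback.of_vert_isIso ⟨by simp⟩)

end Groth.Agent.S14675
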