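import Groth.Statements.S14688
import Groth.Agent.Lib.T2H3GenericSection
import Groth.Agent.Lib.T2H3GenericIso
import Groth.Agent.Lib.T2H3SekSuwaSch
import Groth.Agent.Lib.Helper12Torsor

set_option autoImplicit false
universe u
open CategoryTheory AlgebraicGeometry
open SekSuwa

namespace Groth.Agent.S14688

/-- Let R be a discrete valuation ring of characteristic zero and residue characteristic p, n ≥ 1, λ ∈ R
satisfying the divisibility condition under which the finite flat R-group scheme G_{λ,n} (the kernel
of ψ on the one-parameter group with law s + t + λst, of order p^n) and its homomorphism α^{λ,n} to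
μ_{p^n} are defined, and X a normal integral scheme which is faithfully flat over Spec R. If an fppf
torsor P over X under G_{λ,n} becomes trivial after extension of the structure group along α^{λ,n} —
there is an fppf μ_{p^n}-torsor P' over X with an α^{λ,n}-equivariant X-morphism P → P', and P' has
a section over X — then P has a section over X. So H¹(X, G_{λ,n}) → H¹(X, μ_{p^n}) has trivial
kernel, and the groups H¹(X, G_{π^i,n}) for decreasing i form an increasing filtration of H¹(X,
μ_{p^n}). (The published statement is the filtration itself, for the commutative groups in question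
injectivity of these homomorphisms; the trivial-kernel assertion stated here is what the argument
establishes.) -/
theorem result (R : Type u) [CommRing R] [IsDomain R] [IsDiscreteValuationRing R] [CharZero R]
    (p : ℕ) [Fact p.Prime] [CharP (IsLocalRing.ResidueField R) p]
    (n : ℕ) (hn : 0 < n) (lam : R) (h : SekSuwa.DivCond lam (p ^ n))
    (X : Scheme.{u}) [IsIntegral X] (hX : Pi1.IsNormalScheme X)
    (f : X ⟶ Spec (CommRingCat.of R)) [Flat f] [Surjective f]
    (P : Over X) (a : AlgGrp.Action (Red.bc f (SekSuwa.GK R lam (p ^ n) h)) P)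
    (hP : NonAbH1.IsTorsorFor Scheme.fppfPrecoverage a)
    (P' : Over X) (a' : AlgGrp.Action (Red.bc f (Red.diag R (ZMod (p ^ n)))) P')
    (hP' : NonAbH1.IsTorsorFor Scheme.fppfPrecoverage a')
    (hpush : NonAbH1.IsPushforwardAlongSch ((Over.pullback f).map (SekSuwa.alphaN R lam (p ^ n) h)) a a')
    (htriv : NonAbH1.HasSectionOver P' (𝟙 X)) :
    NonAbH1.HasSectionOver P (𝟙 X) := by
  haveI : NeZero (p ^ n) := ⟨pow_ne_zero _ (Fact.out : p.Prime).ne_zero⟩
  have hlam : lam ≠ 0 := nonZeroDivisors.ne_zero h.nzd
  have hpn : 0 < p ^ n := pow_pos (Fact.out : p.Prime).pos _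
  obtain ⟨hps, R', hR', hsec⟩ := hP
  have hGfin : IsFinite (Red.bc f (SekSuwa.GK R lam (p ^ n) h)).hom :=
    Groth.Agent.Lib.T2H3.SekSuwaSch.isFinite_bc_GK R lam (p ^ n) h hpn f
  have hfin : IsFinite P.hom :=
    Groth.Agent.Lib.Helper12.of_mem_fpqcPrecoverage
      Groth.Agent.Lib.Helper12.descendsAlong_isFinite P.hom R'
      (Scheme.fppfPrecoverage_le_fpqcPrecoverage _ hR')
      (fun Y' f' hf' => Groth.Agent.Lib.Helper12.pullback_snd_of_hasSectionOver a (P := @IsFinite)
        hps hGfin f' (hsec f' hf'))
  obtain ⟨fpush, hf⟩ := hpush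
  obtain ⟨t, ht⟩ := htriv
  let j := X.fromSpecStalk (genericPoint X)
  let t' : Over.mk j ⟶ P' := Over.homMk (j ≫ t) (by
    change (j ≫ t) ≫ P'.hom = j
    rw [Category.assoc, ht, Category.comp_id])
  have hK : Scheme.fppfPrecoverage.toGrothendieck ≤ Scheme.fpqcTopology :=
    Precoverage.toGrothendieck_mono Scheme.fppfPrecoverage_le_fpqcPrecoverage
  obtain ⟨ψ, -⟩ := Groth.Agent.Lib.T2H3.GenericIso.exists_lift_of_bij (J := Scheme.fpqcTopology)
    ((Over.pullback f).map (SekSuwa.alphaN R lam (p ^ n) h)) hK
    (Over.mk j)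
    (fun T τ d' => Groth.Agent.Lib.T2H3.SekSuwaSch.existsUnique_bc_alphaN R lam (p ^ n) h f T
      (Groth.Agent.Lib.T2H3.SekSuwaSch.isUnit_fnHom_of_over_generic f lam hlam T τ) d')
    a a' hps hP'.1 ⟨R', hR', hsec⟩ fpush hf t'
  obtain ⟨s, hs⟩ :=
    Groth.Agent.Lib.T2H3.GenericSection.exists_section_of_isFinite_of_normal_of_generic
      (fun x => (hX x).2) P.hom ψ.left (Over.w ψ)
  exact ⟨s, hs⟩

end Groth.Agent.S14688
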