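import Groth.Statements.S14691
import Groth.Agent.Lib.T2H3DeligneSch

set_option autoImplicit false
universe u
open CategoryTheory AlgebraicGeometry
open SekSuwa

namespace Groth.Agent.S14691

open CategoryTheory.Abelian in
/-- an `Ext` group out of an object killed by `m` is killed by `m`. -/
theorem nsmul_ext_eq_zero {C : Type*} [Category C] [Abelian C] [HasExt C] {X Y : C} {n : ℕ}
    (m : ℕ) (hm : m • 𝟙 X = 0) (x : Ext X Y n) : m • x = 0 := by
  have h1 : x = (Ext.mk₀ (𝟙 X)).comp x (zero_add n) := (Ext.mk₀_id_comp x).symm
  rw [h1]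
  have h2 : m • (Ext.mk₀ (𝟙 X)).comp x (zero_add n) =
      (m • Ext.mk₀ (𝟙 X)).comp x (zero_add n) :=
    (map_nsmul (Ext.postcomp x X (zero_add n)) m (Ext.mk₀ (𝟙 X))).symm
  rw [h2]
  have h3 : m • Ext.mk₀ (𝟙 X) = Ext.mk₀ (m • 𝟙 X) :=
    (map_nsmul (Ext.addEquiv₀ (X := X) (Y := X)).symm m (𝟙 X)).symm
  rw [h3, hm, Ext.mk₀_zero, Ext.zero_comp]

/-- Let R be a discrete valuation ring of characteristic zero and residue characteristic p, and G a
commutative finite flat R-group scheme of order m (finite locally free of degree m over Spec R).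
Then the endomorphism of Ext¹(G, 𝔾_m) induced by the m-th power map of the multiplicative group —
that is, multiplication by m on this group — is zero. Here Ext¹ is taken between the abelian sheaves
of points of G and of the split multiplicative group on the big fppf site of Spec R. (The published
statement is made under a standing assumption that R contains a primitive p²-th root of unity; this
row does not assume it, the argument not using it.) -/
theorem result (R : Type u) [CommRing R] [IsDomain R] [IsDiscreteValuationRing R] [CharZero R]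
    (p : ℕ) [Fact p.Prime] [CharP (IsLocalRing.ResidueField R) p]
    (G : Over (Spec (CommRingCat.of R))) [GrpObj G] [IsCommMonObj G]
    (m : ℕ) (hG : Mor2.IsFinLocFreeOfDeg m G.hom)
    (x : CGrpSh.ExtS Scheme.fppfPrecoverage G (Red.diag R ℤ) 1) : m • x = 0 := by
  open MonoidalCategory CartesianMonoidalCategory MonObj GrpObj in
  have hpow : ∀ (T : Over (Spec (CommRingCat.of R))) (y : T ⟶ G), y ^ m = 1 := fun T y => by
    have h := Groth.Agent.Lib.T2H3.DeligneSch.pow_eq_one R G m hG
    rw [← Category.comp_id y, ← MonObj.comp_pow, h, MonObj.comp_one]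
  apply nsmul_ext_eq_zero
  apply Sheaf.hom_ext
  apply NatTrans.ext
  funext T
  apply AddCommGrpCat.ext
  intro y
  let ev : (CGrpSh.pts Scheme.fppfPrecoverage G ⟶ CGrpSh.pts Scheme.fppfPrecoverage G) →+
      ((CGrpSh.pts Scheme.fppfPrecoverage G).obj.obj T) :=
    { toFun := fun f => f.hom.app T y
      map_zero' := rfl
      map_add' := fun f g => rfl }
  change ev (m • 𝟙 _) = ev 0
  rw [map_nsmul, map_zero]
  change m • y = 0
  apply ULift.ext
  change m • y.down = 0
  have h := hpow (Opposite.unop T) y.down.toMul
  rw [← ofMul_toMul y.down, ← ofMul_pow, h]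
  rfl

end Groth.Agent.S14691
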