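import Groth.Statements.S14695
import Groth.Agent.Lib.T2H3GenericSection
import Groth.Agent.Lib.T2H3GenericIso
import Groth.Agent.Lib.Helper12Torsor

set_option autoImplicit false
universe u
open CategoryTheory AlgebraicGeometry
open NonAbH1

namespace Groth.Agent.S14695

/-- In the case where the morphism Y → X is the identity of X: let X be a normal integral scheme
(integral, with every local ring an integrally closed domain), G and G' X-group schemes which are
finite and flat over X, and g : G → G' a homomorphism which becomes an isomorphism after base change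
to the spectrum of the function field of X. If an fppf G-torsor P over X becomes trivial after
extension of the structure group along g — there is an fppf G'-torsor P' over X with a g-equivariant
X-morphism P → P', and P' has a section over X — then P has a section over X. (The published
statement takes G, G' commutative and all schemes Noetherian, allows also composition with the
pull-back along a morphism Y → X admitting a rational section, and is phrased as injectivity of
H¹(X, G) → H¹(Y, G'_Y); this row is the case where Y → X is the identity of X, as the trivial-kernel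
assertion the argument establishes, for which commutativity and the Noetherian condition are not
needed.) -/
theorem result {X : Scheme.{u}} [IsIntegral X]
    (hX : Pi1.IsNormalScheme X) (G G' : Over X) [GrpObj G] [GrpObj G']
    [IsFinite G.hom] [Flat G.hom] [IsFinite G'.hom] [Flat G'.hom]
    (g : G ⟶ G') [IsMonHom g]
    (hg : IsIso ((Over.pullback (X.fromSpecStalk (genericPoint X))).map g))
    (P : Over X) (a : AlgGrp.Action G P) (hP : NonAbH1.IsTorsorFor Scheme.fppfPrecoverage a)
    (P' : Over X) (a' : AlgGrp.Action G' P') (hP' : NonAbH1.IsTorsorFor Scheme.fppfPrecoverage a')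
    (hpush : NonAbH1.IsPushforwardAlongSch g a a') (htriv : NonAbH1.HasSectionOver P' (𝟙 X)) :
    NonAbH1.HasSectionOver P (𝟙 X) := by
  obtain ⟨hps, R, hR, hsec⟩ := hP
  have hfin : IsFinite P.hom :=
    Groth.Agent.Lib.Helper12.of_mem_fpqcPrecoverage
      Groth.Agent.Lib.Helper12.descendsAlong_isFinite P.hom R
      (Scheme.fppfPrecoverage_le_fpqcPrecoverage _ hR)
      (fun Y' f hf => Groth.Agent.Lib.Helper12.pullback_snd_of_hasSectionOver a (P := @IsFinite)
        hps inferInstance f (hsec f hf))
  obtain ⟨f, hf⟩ := hpush
  obtain ⟨t, ht⟩ := htriv
  let j := X.fromSpecStalk (genericPoint X)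
  let t' : Over.mk j ⟶ P' := Over.homMk (j ≫ t) (by
    change (j ≫ t) ≫ P'.hom = j
    rw [Category.assoc, ht, Category.comp_id])
  have hK : Scheme.fppfPrecoverage.toGrothendieck ≤ Scheme.fpqcTopology :=
    Precoverage.toGrothendieck_mono Scheme.fppfPrecoverage_le_fpqcPrecoverage
  obtain ⟨ψ, -⟩ := Groth.Agent.Lib.T2H3.GenericIso.exists_lift_of_bij (J := Scheme.fpqcTopology) g hK
    (Over.mk j) (Groth.Agent.Lib.T2H3.GenericIso.bij_of_isIso_pullback g j hg)
    a a' hps hP'.1 ⟨R, hR, hsec⟩ f hf t'
  obtain ⟨s, hs⟩ :=
    Groth.Agent.Lib.T2H3.GenericSection.exists_section_of_isFinite_of_normal_of_generic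
      (fun x => (hX x).2) P.hom ψ.left (Over.w ψ)
  exact ⟨s, hs⟩

end Groth.Agent.S14695
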