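import Groth.Statements.S14754
import Groth.Agent.Lib.T2H7SplitSeq

set_option autoImplicit false
universe u
open CategoryTheory CategoryTheory.Limits MonoidalCategory CartesianMonoidalCategory MonObj GrpObj AlgebraicGeometry
open AlgGrp

namespace Groth.Agent.S14754

/-- Over an algebraically closed field k, every exact sequence of split tori splits: if K, G, Q are
split tori over k, i : K → G a closed subgroup scheme which is the kernel of a flat surjective
homomorphism π : G → Q, then π has a section which is a homomorphism. -/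
theorem result (k : Type u) [Field k] [IsAlgClosed k]
    (K G Q : Over (Spec (CommRingCat.of k))) [GrpObj K] [GrpObj G] [GrpObj Q] (nK nG nQ : ℕ)
    (hK : Red.IsSplitTorusWith (Fin nK → ℤ) K) (hG : Red.IsSplitTorusWith (Fin nG → ℤ) G)
    (hQ : Red.IsSplitTorusWith (Fin nQ → ℤ) Q)
    (i : K ⟶ G) [IsMonHom i] [IsClosedImmersion i.left]
    (π : G ⟶ Q) [IsMonHom π] [Flat π.left] [Surjective π.left] (hker : AlgGrp.IsKernel i π) :
    ∃ s : Q ⟶ G, IsMonHom s ∧ s ≫ π = 𝟙 Q := by
  obtain ⟨eK, heK⟩ := (Groth.Agent.Lib.T2H7.GrpIsoBC.nonempty_grpIso_iff _ _).1 hK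
  obtain ⟨eG, heG⟩ := (Groth.Agent.Lib.T2H7.GrpIsoBC.nonempty_grpIso_iff _ _).1 hG
  obtain ⟨eQ, heQ⟩ := (Groth.Agent.Lib.T2H7.GrpIsoBC.nonempty_grpIso_iff _ _).1 hQ
  haveI : IsMonHom eK.hom := heK
  haveI : IsMonHom eG.hom := heG
  haveI : IsMonHom eQ.hom := heQ
  haveI : IsMonHom eK.inv := inferInstance
  haveI : IsMonHom eG.inv := inferInstance
  haveI : IsMonHom eQ.inv := inferInstance
  -- transported maps
  obtain ⟨i', hi'⟩ : ∃ i' : Red.DS (Spec (CommRingCat.of k)) (Fin nK → ℤ) ⟶
      Red.DS (Spec (CommRingCat.of k)) (Fin nG → ℤ), i' = eK.inv ≫ i ≫ eG.hom := ⟨_, rfl⟩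
  obtain ⟨π', hπ'⟩ : ∃ π' : Red.DS (Spec (CommRingCat.of k)) (Fin nG → ℤ) ⟶
      Red.DS (Spec (CommRingCat.of k)) (Fin nQ → ℤ), π' = eG.inv ≫ π ≫ eQ.hom := ⟨_, rfl⟩
  haveI : IsMonHom i' := by rw [hi']; infer_instance
  haveI : IsMonHom π' := by rw [hπ']; infer_instance
  haveI : Mono i.left := inferInstance
  haveI : Mono i := Over.mono_of_mono_left i
  haveI : Mono i' := by rw [hi']; infer_instance
  -- `π'` is an epimorphism
  haveI hAffG : IsAffine (Red.DS (Spec (CommRingCat.of k)) (Fin nG → ℤ)).left := by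
    haveI : IsAffine (Red.diag (ULift.{u} ℤ) (Fin nG → ℤ)).left :=
      inferInstanceAs (IsAffine (Spec _))
    show IsAffine (pullback _ _)
    infer_instance
  haveI hAffQ : IsAffine (Red.DS (Spec (CommRingCat.of k)) (Fin nQ → ℤ)).left := by
    haveI : IsAffine (Red.diag (ULift.{u} ℤ) (Fin nQ → ℤ)).left :=
      inferInstanceAs (IsAffine (Spec _))
    show IsAffine (pullback _ _)
    infer_instance
  have hπ'left : π'.left = eG.inv.left ≫ π.left ≫ eQ.hom.left := by
    rw [hπ']; rfl
  haveI : IsIso eG.inv.left := inferInstanceAs (IsIso ((Over.forget _).map eG.inv))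
  haveI : IsIso eQ.hom.left := inferInstanceAs (IsIso ((Over.forget _).map eQ.hom))
  haveI : Flat π'.left := by rw [hπ'left]; infer_instance
  haveI : Surjective π'.left := by rw [hπ'left]; infer_instance
  haveI : QuasiCompact π'.left := inferInstance
  haveI : Epi π'.left := inferInstance
  haveI : Epi π' := Over.epi_of_epi_left π'
  -- the kernel square
  have hker' : IsPullback i' (toUnit _) π' η[Red.DS (Spec (CommRingCat.of k)) (Fin nQ → ℤ)] := by
    refine IsPullback.of_iso hker eK eG (Iso.refl _) eQ ?_ ?_ ?_ ?_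
    · rw [hi', Iso.hom_inv_id_assoc]
    · exact toUnit_unique _ _
    · rw [hπ', Iso.hom_inv_id_assoc]
    · rw [Iso.refl_hom, Category.id_comp]
      exact IsMonHom.one_hom eQ.hom
  have hproj : ∀ L : Submodule ℤ (Fin nK → ℤ), Module.Projective ℤ L := fun L => inferInstance
  have hconn : ∀ e : k, IsIdempotentElem e → e = 0 ∨ e = 1 := by
    intro e he
    have h1 : e * (e - 1) = 0 := by
      rw [mul_sub, he.eq, _root_.mul_one, sub_self]
    rcases mul_eq_zero.1 h1 with h | h
    · exact Or.inl h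
    · exact Or.inr (sub_eq_zero.1 h)
  obtain ⟨s', hs'mon, hs'⟩ := Groth.Agent.Lib.T2H7.SplitSeq.exists_section hconn hproj i' π' hker'
  haveI : IsMonHom s' := hs'mon
  refine ⟨eQ.hom ≫ s' ≫ eG.inv, inferInstance, ?_⟩
  have h1 : eG.inv ≫ π = π' ≫ eQ.inv := by
    rw [hπ', Category.assoc, Category.assoc, Iso.hom_inv_id, Category.comp_id]
  rw [Category.assoc, Category.assoc, h1, ← Category.assoc s', hs', Category.id_comp,
    Iso.hom_inv_id]

end Groth.Agent.S14754
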