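import Groth.Statements.S14783
import Groth.Agent.Lib.T2H3SubtrLocClosed

set_option autoImplicit false
universe u
open CategoryTheory CategoryTheory.Limits AlgebraicGeometry
open Subtr

namespace Groth.Agent.S14783

/-- Let f : S' ⟶ S be a quasi-compact morphism of schemes every base change of which has the lifting
property for ordered pairs of points, and E ⊆ S any subset. For E to be both locally closed and
retrocompact it is necessary and sufficient that f⁻¹(E) be both. -/
theorem result {S' S : Scheme.{u}} (f : S' ⟶ S)
    [QuasiCompact f] (hf : Subtr.UnivSSubtrusive f) (E : Set S) :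
    (IsLocallyClosed E ∧ IsRetrocompact E) ↔
      (IsLocallyClosed (f ⁻¹' E) ∧ IsRetrocompact (f ⁻¹' E)) := by
  open Groth.Agent.Lib.T2H3.SubtrLocClosed Groth.Agent.Lib.T2H3.SubtrChain in
  constructor
  · rintro ⟨h1, h2⟩
    exact ⟨h1.preimage f.continuous, isRetrocompact_preimage f h1 h2⟩
  · rintro ⟨h1, h2⟩
    have hS : Subtr.IsSSubtrusive f := isSSubtrusive_of_univ hf
    have hsurj : Function.Surjective f := by
      intro s
      obtain ⟨x, -, -, hx, -⟩ := hS (specializes_rfl (x := s))
      exact ⟨x, hx⟩
    have himg : f '' (f ⁻¹' E) = E := Set.image_preimage_eq E hsurj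
    have hEpro : ProCons.IsProConstructible E := by
      rw [← himg]
      exact Groth.Agent.S3398.result f _
        (isProConstructible_of_isLocallyClosed_of_isRetrocompact h1 h2)
    refine ⟨isLocallyClosed_of_preimage f hf E h1 E hEpro subset_rfl subset_closure
      (fun p hp hp' => absurd hp hp'), ?_⟩
    intro U hUc hUo
    have h3 : IsCompact (f ⁻¹' E ∩ f ⁻¹' U) :=
      h2 (QuasiCompact.isCompact_preimage (f := f) U hUo hUc) (hUo.preimage f.continuous)
    have h4 : IsCompact (f '' (f ⁻¹' E ∩ f ⁻¹' U)) := h3.image f.continuous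
    rw [← Set.preimage_inter, Set.image_preimage_eq _ hsurj] at h4
    exact h4

end Groth.Agent.S14783
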