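import Groth.Statements.S14784
import Groth.Agent.Lib.T2H3SubtrLocClosed
import Groth.Agent.S3399

set_option autoImplicit false
universe u
open CategoryTheory CategoryTheory.Limits AlgebraicGeometry
open Subtr

namespace Groth.Agent.S14784

/-- Let f : S' ⟶ S be a morphism of schemes of finite presentation every base change of which has the
lifting property for ordered pairs of points, and E ⊆ S a subset. Then E is locally closed if and
only if f⁻¹(E) is locally closed. (The published statement is for algebraic spaces; this row is the
case of schemes.) -/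
theorem result {S' S : Scheme.{u}} (f : S' ⟶ S)
    [LocallyOfFinitePresentation f] [QuasiCompact f] [QuasiSeparated f]
    (hf : Subtr.UnivSSubtrusive f) (E : Set S) :
    IsLocallyClosed E ↔ IsLocallyClosed (f ⁻¹' E) := by
  open Groth.Agent.Lib.T2H3.SubtrLocClosed Groth.Agent.Lib.T2H3.SubtrChain
    Groth.Agent.Lib.T2H3.ProConsBasic in
  constructor
  · intro h
    exact h.preimage f.continuous
  · intro h
    have hE'O : closure (f ⁻¹' E) ∩ coborder (f ⁻¹' E) = f ⁻¹' E := closure_inter_coborder
    have hD : ProCons.IsIndConstructible (f '' (closure (f ⁻¹' E))ᶜ) :=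
      Groth.Agent.S3399.result f _ (isIndConstructible_of_isOpen isClosed_closure.isOpen_compl)
    have hP : ProCons.IsProConstructible ((f '' (closure (f ⁻¹' E))ᶜ)ᶜ ∩ closure E) :=
      isProConstructible_inter (Groth.Agent.Lib.Helper5.isProConstructible_compl hD)
        (isProConstructible_of_isClosed isClosed_closure)
    refine isLocallyClosed_of_preimage f hf E h _ hP ?_ Set.inter_subset_right ?_
    · intro e he
      refine ⟨?_, subset_closure he⟩
      rintro ⟨x, hx, rfl⟩
      exact hx (subset_closure (show x ∈ f ⁻¹' E from he))
    · intro p hp hpE x hx hxO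
      have hxcl : x ∈ closure (f ⁻¹' E) := by
        by_contra hxcl
        exact hp.1 ⟨x, hxcl, hx⟩
      have hxE : x ∈ f ⁻¹' E := hE'O ▸ ⟨hxcl, hxO⟩
      apply hpE
      rw [← hx]
      exact hxE

end Groth.Agent.S14784
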