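import Groth.Statements.S14818
import Mathlib
import Groth.Agent.Lib.T2H5NormAmpleD
import Groth.Agent.Lib.Helper23SecTw10
-- import your own Groth.Agent.* helpers here

set_option autoImplicit false
universe u
open CategoryTheory CategoryTheory.Limits AlgebraicGeometry
open PicF

namespace Groth.Agent.S14818
open Groth.Agent.Lib.Helper6 Groth.Agent.Lib.Helper23.SecTw Groth.Agent.Lib.Helper23.GenLocus
open Groth.Agent.Lib.Helper23.AmpleIso Groth.Agent.Lib.T2H4.CocycleMod Groth.Agent.Lib.T2H4.Cocycle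
open Groth.Agent.Lib.T2H3.NormQAff2 Groth.Agent.Lib.Helper23.PB Groth.Agent.Helper13PullbackUnit
open Groth.Agent.Lib.T2H5.NormAmple Groth.Agent.Lib.Helper23.Extend
open TopologicalSpace Opposite

/-- Let X be a connected locally Noetherian scheme, f : X' → X a finite locally free morphism of
constant degree d (a finite flat covering of X of degree d) and L an invertible O_X-module whose
pullback f^*L is isomorphic to O_{X'}. Then L^{⊗d} ≅ O_X; in particular L has finite order in Pic(X)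
dividing the degree of f. -/
theorem result (X X' : Scheme.{u})
    [IsLocallyNoetherian X] [ConnectedSpace X] (f : X' ⟶ X) (d : ℕ) (hf : Mor2.IsFinLocFreeOfDeg d f)
    (L : X.Modules) (hL : PicF.IsInvertible L)
    (htriv : Nonempty ((Scheme.Modules.pullback f).obj L ≅ Coh.structureModule X')) :
    Nonempty (CohB1.tensorPow L d ≅ Coh.structureModule X) := by
  classical
  obtain ⟨e⟩ := htriv
  have hπ : Mor2.IsFinLocFree f := hf.1
  haveI : IsFinite f := hπ.1
  haveI : L.IsQuasicoherent := isQuasicoherent_of_isInvertible L hL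
  obtain ⟨N₀, hdeg⟩ := exists_preNorm_deg f hπ
  choose W e₀ hxW hWaff he₀ using fun x : X => exists_affine_gen L hL x
  have hV : iSup W = ⊤ := by
    rw [eq_top_iff]
    intro x _
    exact Opens.mem_iSup.2 ⟨x, hxW x⟩
  let M : X'.Modules := (Scheme.Modules.pullback f).obj L
  let τ : Coh.structureModule X' ⟶ M := 𝟙 _ ≫ e.symm.hom
  have hτ : CohB1.genLocus M τ = ⊤ := by
    change CohB1.genLocus M (𝟙 _ ≫ e.symm.hom) = ⊤
    rw [genLocus_comp_iso, eq_top_iff]
    exact le_genLocus_of_isGen _ _ ⊤ (isGen_one ⊤)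
  let σ : X → (Coh.structureModule X' ⟶ M) := fun _ => τ
  have hle : ∀ i, f ⁻¹ᵁ (W i) ≤ CohB1.genLocus M (σ i) := fun i => by
    change _ ≤ CohB1.genLocus M τ
    rw [hτ]
    exact le_top
  choose u hu using fun i j : X => exists_transition' (e₀ i) (he₀ j)
  let P : X.Modules := CohB1.tensorPow L d
  let a₀ : ∀ t, Γ(P, W t) := fun t => pw L (W t) (e₀ t) d
  have ha₀ : ∀ t, IsGen P (W t) (a₀ t) := fun t => isGen_pw L (W t) (e₀ t) (he₀ t) d
  have ha₀tr : ∀ i j, res P (inf_le_left : W i ⊓ W j ≤ W i) (a₀ i) =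
      (u i j) ^ d • res P (inf_le_right : W i ⊓ W j ≤ W j) (a₀ j) := by
    intro i j
    change res (CohB1.tensorPow L d) _ (pw L (W i) (e₀ i) d) =
      (u i j) ^ d • res (CohB1.tensorPow L d) _ (pw L (W j) (e₀ j) d)
    rw [res_pw, res_pw, hu i j, pw_smul]
  let γ : ∀ t, Γ(M, f ⁻¹ᵁ (W t)) := fun t => unitSec f L le_rfl (e₀ t)
  have hγ : ∀ t, IsGen M (f ⁻¹ᵁ (W t)) (γ t) := fun t => isGen_unitSec f L (hWaff t) (e₀ t) (he₀ t)
  let c : ∀ i j, Γ(X', f ⁻¹ᵁ (W i ⊓ W j)) := fun i j => f.app (W i ⊓ W j) (u i j)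
  have hc : ∀ i j, res M (f.preimage_mono inf_le_left : f ⁻¹ᵁ (W i ⊓ W j) ≤ f ⁻¹ᵁ (W i)) (γ i) =
      c i j • res M (f.preimage_mono inf_le_right : f ⁻¹ᵁ (W i ⊓ W j) ≤ f ⁻¹ᵁ (W j)) (γ j) := by
    intro i j
    change res M _ (unitSec f L le_rfl (e₀ i)) = f.app (W i ⊓ W j) (u i j) • res M _ (unitSec f L le_rfl (e₀ j))
    rw [res_unitSec f L le_rfl (le_refl (f ⁻¹ᵁ (W i ⊓ W j))) inf_le_left (f.preimage_mono inf_le_left) (e₀ i),
      res_unitSec f L le_rfl (le_refl (f ⁻¹ᵁ (W i ⊓ W j))) inf_le_right (f.preimage_mono inf_le_right) (e₀ j),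
      hu i j, unitSec_smul, Scheme.Hom.appLE_eq_app]
  let w : ∀ t, Γ(X, W t) := fun t => N₀.norm (W t) (bcoef f M σ W γ hγ t)
  have hwu : ∀ t, IsUnit (w t) := fun t => (isUnit_bcoef f M σ W hle γ hγ t).map (N₀.norm (W t))
  have hcf : ∀ i j, cf f M σ W hle i j = 1 := by
    intro i j
    refine (coef_unique (isGen_eGen f M σ W hle j) le_rfl _ _ ?_).symm
    rw [one_smul, Groth.Agent.Lib.Helper23.SecTw.res_self]
    rfl
  have hrel : ∀ i j, resf (inf_le_left : W i ⊓ W j ≤ W i) (w i) * (u i j) ^ d =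
      resf (inf_le_right : W i ⊓ W j ≤ W j) (w j) := by
    intro i j
    have h := norm_rel f N₀ M σ W hle γ hγ c hc i j
    have h2 : N₀.norm (W i ⊓ W j) (c i j) = (u i j) ^ d :=
      hdeg (W i ⊓ W j) d (fun y _ => hf.2 y) (u i j)
    have h3 : nf f N₀ M σ W hle i j = 1 := by
      unfold nf
      rw [hcf, map_one]
    rw [h2, h3, resf_one, one_mul] at h
    exact h
  obtain ⟨Φ⟩ := exists_iso_of_units W hV (Coh.structureModule X) P (fun i => toS (W i) 1) a₀
    (fun i => isGen_one (W i)) ha₀ (fun i j => 1) (fun i j => (u i j) ^ d)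
    (fun i j => by
      rw [one_smul]
      exact ((map_toS (homOfLE (inf_le_left : W i ⊓ W j ≤ W i)) 1).trans (by rw [map_one])).trans
        ((map_toS (homOfLE (inf_le_right : W i ⊓ W j ≤ W j)) 1).trans (by rw [map_one])).symm)
    ha₀tr (fun t => (hwu t).unit) (fun i j => by
      rw [IsUnit.unit_spec, IsUnit.unit_spec, mul_one, mul_comm]
      exact hrel i j)
  exact ⟨Φ.symm⟩

end Groth.Agent.S14818
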