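import Groth.Statements.S14845
import Groth.Agent.Lib.T2H7HilbBasics

set_option autoImplicit false
open CategoryTheory CategoryTheory.Limits AlgebraicGeometry
universe u
open HilbD

namespace Groth.Agent.S14845

open Groth.Agent.Lib.T2H7.HilbBasics

/-- A finite locally free morphism of degree one is an isomorphism. -/
theorem isIso_of_deg_one {X Y : Scheme.{u}} (φ : X ⟶ Y) (h : Mor2.IsFinLocFreeOfDeg 1 φ) :
    IsIso φ := by
  obtain ⟨⟨h1, h2, h3⟩, hd⟩ := h
  rw [Scheme.Hom.isIso_iff_finrank_eq]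
  ext y
  exact hd y

theorem deg_one_of_isIso {X Y : Scheme.{u}} (φ : X ⟶ Y) [IsIso φ] :
    Mor2.IsFinLocFreeOfDeg 1 φ := by
  refine ⟨⟨inferInstance, inferInstance, inferInstance⟩, fun y => ?_⟩
  rw [Scheme.Hom.finrank_eq_one_of_isIso]
  rfl

set_option backward.isDefEq.respectTransparency false in
/-- The graph of a section `x : T ⟶ X` is the pullback of the diagonal. -/
theorem isPullback_graph {X S : Scheme.{u}} (f : X ⟶ S) {T : Over S} (g : T ⟶ Over.mk f) :
    IsPullback (pullback.lift g.left (𝟙 T.left) (by simpa using Over.w g) : T.left ⟶ PicF.XT f T)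
      g.left (PicF.XTmap f g)
      (pullback.lift (𝟙 X) (𝟙 X) (by simp) : X ⟶ PicF.XT f (Over.mk f)) := by
  have hR := isPullback_XTmap f g
  refine IsPullback.of_right ?_ ?_ hR.flip
  · have e1 : (pullback.lift g.left (𝟙 T.left) (by simpa using Over.w g) : T.left ⟶ PicF.XT f T) ≫
        PicF.XTproj f T = 𝟙 _ := by simp [PicF.XTproj]
    have e2 : (pullback.lift (𝟙 X) (𝟙 X) (by simp) : X ⟶ PicF.XT f (Over.mk f)) ≫
        PicF.XTproj f (Over.mk f) = 𝟙 _ := by simp [PicF.XTproj]
    rw [e1, e2]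
    exact IsPullback.id_horiz g.left
  · have h1 := XTmap_fst f g
    have h2 := XTmap_snd f g
    dsimp [PicF.XTproj] at h1 h2
    apply pullback.hom_ext
    · simp [h1]
    · simp [h2]
      exact Category.id_comp _

set_option backward.isDefEq.respectTransparency false in
theorem pull_secGraph {X S : Scheme.{u}} (f : X ⟶ S) [IsSeparated f] {T : Over S}
    (g : T ⟶ Over.mk f) :
    HilbD.pull f g (HilbD.secGraph f (Over.mk f) (𝟙 X) (Category.id_comp f)) =
      HilbD.secGraph f T g.left (Over.w g) := by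
  rw [pull_eq_comap]
  unfold HilbD.secGraph
  have hpb := isPullback_graph f g
  have hdiag : IsClosedImmersion (pullback.diagonal f) := inferInstance
  haveI : IsClosedImmersion (pullback.lift (𝟙 X) (𝟙 (Over.mk f).left) (by simp) :
      X ⟶ PicF.XT f (Over.mk f)) := hdiag
  rw [← Scheme.IdealSheafData.ker_fst_of_isClosedImmersion]
  have e : (pullback.lift g.left (𝟙 T.left) (by simpa using Over.w g) : T.left ⟶ PicF.XT f T) =
      hpb.isoPullback.hom ≫ pullback.fst _ _ := by simp
  rw [e, Scheme.Hom.ker_comp_of_isIso]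
  rfl

set_option backward.isDefEq.respectTransparency false in
theorem isClosedImmersion_graph {X S : Scheme.{u}} (f : X ⟶ S) [IsSeparated f] (T : Over S)
    (x : T.left ⟶ X) (hx : x ≫ f = T.hom) :
    IsClosedImmersion (pullback.lift x (𝟙 T.left) (by simpa using hx) : T.left ⟶ PicF.XT f T) := by
  have hpb := isPullback_graph f (T := T) (Over.homMk x hx)
  have hdiag : IsClosedImmersion (pullback.diagonal f) := inferInstance
  exact MorphismProperty.of_isPullback (P := @IsClosedImmersion) hpb.flip hdiag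

set_option backward.isDefEq.respectTransparency false in
theorem isIso_secGraph {X S : Scheme.{u}} (f : X ⟶ S) [IsSeparated f] (T : Over S)
    (x : T.left ⟶ X) (hx : x ≫ f = T.hom) :
    IsIso ((HilbD.secGraph f T x hx).subschemeι ≫ PicF.XTproj f T) := by
  unfold HilbD.secGraph
  haveI := isClosedImmersion_graph f T x hx
  have e1 : (pullback.lift x (𝟙 T.left) (by simpa using hx) : T.left ⟶ PicF.XT f T).ker.subschemeι =
      inv (pullback.lift x (𝟙 T.left) (by simpa using hx) : T.left ⟶ PicF.XT f T).toImage ≫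
        (pullback.lift x (𝟙 T.left) (by simpa using hx) : T.left ⟶ PicF.XT f T) := by
    rw [IsIso.eq_inv_comp]
    exact Scheme.Hom.toImage_imageι _
  rw [e1, Category.assoc]
  have e2 : (pullback.lift x (𝟙 T.left) (by simpa using hx) : T.left ⟶ PicF.XT f T) ≫
      PicF.XTproj f T = 𝟙 _ := by simp [PicF.XTproj]
  rw [e2, Category.comp_id]
  infer_instance

set_option backward.isDefEq.respectTransparency false in
theorem eq_of_le_secGraph {X S : Scheme.{u}} (f : X ⟶ S) {T : Over S}
    (I : (PicF.XT f T).IdealSheafData) [IsIso (I.subschemeι ≫ PicF.XTproj f T)]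
    (x : T.left ⟶ X) (hx : x ≫ f = T.hom) (h : I ≤ HilbD.secGraph f T x hx) :
    x = inv (I.subschemeι ≫ PicF.XTproj f T) ≫ I.subschemeι ≫ pullback.fst f T.hom := by
  unfold HilbD.secGraph at h
  have h' : I.subschemeι.ker ≤
      (pullback.lift x (𝟙 T.left) (by simpa using hx) : T.left ⟶ PicF.XT f T).ker := by
    rw [Scheme.IdealSheafData.ker_subschemeι]; exact h
  have hfac := IsClosedImmersion.lift_fac I.subschemeι _ h'
  have h1 : IsClosedImmersion.lift I.subschemeι _ h' ≫ (I.subschemeι ≫ PicF.XTproj f T) = 𝟙 _ := by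
    rw [← Category.assoc, hfac]; simp [PicF.XTproj]
  have h2 : IsClosedImmersion.lift I.subschemeι _ h' = inv (I.subschemeι ≫ PicF.XTproj f T) := by
    exact IsIso.eq_inv_of_inv_hom_id h1
  rw [← h2, ← Category.assoc, hfac]
  simp

set_option backward.isDefEq.respectTransparency false in
theorem secGraph_of_isIso {X S : Scheme.{u}} (f : X ⟶ S) {T : Over S}
    (I : (PicF.XT f T).IdealSheafData) [IsIso (I.subschemeι ≫ PicF.XTproj f T)]
    (hx : (inv (I.subschemeι ≫ PicF.XTproj f T) ≫ I.subschemeι ≫ pullback.fst f T.hom) ≫ f =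
      T.hom) :
    HilbD.secGraph f T (inv (I.subschemeι ≫ PicF.XTproj f T) ≫ I.subschemeι ≫
      pullback.fst f T.hom) hx = I := by
  unfold HilbD.secGraph
  have e : (pullback.lift (inv (I.subschemeι ≫ PicF.XTproj f T) ≫ I.subschemeι ≫
      pullback.fst f T.hom) (𝟙 T.left) (by simpa using hx) : T.left ⟶ PicF.XT f T) =
      inv (I.subschemeι ≫ PicF.XTproj f T) ≫ I.subschemeι := by
    apply pullback.hom_ext
    · simp
    · simp [PicF.XTproj]
  rw [e, Scheme.Hom.ker_comp_of_isIso, Scheme.IdealSheafData.ker_subschemeι]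

theorem result {X S : Scheme.{u}} (f : X ⟶ S) [IsSeparated f] :
    ∃ Δ : HilbD.Obj f 1 (Over.mk f),
      Δ.1 = HilbD.secGraph f (Over.mk f) (𝟙 X) (Category.id_comp f) ∧
      HilbD.IsUniversal f 1 (Over.mk f) Δ := by
  haveI := isIso_secGraph f (Over.mk f) (𝟙 X) (Category.id_comp f)
  refine ⟨⟨HilbD.secGraph f (Over.mk f) (𝟙 X) (Category.id_comp f), deg_one_of_isIso _⟩, rfl, ?_⟩
  intro T Z'
  haveI : IsIso (Z'.1.subschemeι ≫ PicF.XTproj f T) := isIso_of_deg_one _ Z'.2
  have hx : (inv (Z'.1.subschemeι ≫ PicF.XTproj f T) ≫ Z'.1.subschemeι ≫ pullback.fst f T.hom) ≫ f =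
      T.hom := by
    rw [Category.assoc, Category.assoc, pullback.condition, ← Category.assoc Z'.1.subschemeι,
      IsIso.inv_hom_id_assoc]
  refine ⟨Over.homMk _ hx, ?_, ?_⟩
  · dsimp only
    rw [pull_secGraph]
    exact secGraph_of_isIso f Z'.1 hx
  · intro g' hg'
    dsimp only at hg'
    rw [pull_secGraph] at hg'
    have := eq_of_le_secGraph f Z'.1 g'.left (Over.w g') hg'.ge
    ext1
    exact this

end Groth.Agent.S14845
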