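import Groth.Statements.S14861
import Mathlib

set_option autoImplicit false
universe u
open CAlg

namespace Groth.Agent.S14861

open WittVector

section Lemmas

variable (p : ℕ) [hp : Fact p.Prime]

theorem ghost_formula {R : Type*} [CommRing R] (x : WittVector p R) (n : ℕ) :
    ghostComponent n x = ∑ i ∈ Finset.range (n + 1), (p : R) ^ i * x.coeff i ^ p ^ (n - i) := by
  rw [ghostComponent_apply, aeval_wittPolynomial]

theorem pow_est (t k : ℕ) (ht : 1 ≤ t) : t + k ≤ t * p ^ k := by
  have h1 : k + 1 ≤ p ^ k := Nat.lt_pow_self hp.out.one_lt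
  have h2 : 1 * k ≤ t * k := Nat.mul_le_mul_right k ht
  calc t + k ≤ t * (k + 1) := by nlinarith
    _ ≤ t * p ^ k := Nat.mul_le_mul_left t h1

theorem term_mem {R : Type*} [CommRing R] (t i k : ℕ) (ht : 1 ≤ t) (y : R)
    (hy : y ∈ Ideal.span {(p : R) ^ t}) :
    (p : R) ^ i * y ^ p ^ k ∈ Ideal.span {(p : R) ^ (t + (i + k))} := by
  obtain ⟨c, rfl⟩ := Ideal.mem_span_singleton'.mp hy
  rw [Ideal.mem_span_singleton']
  have h := pow_est p t k ht
  obtain ⟨e, he⟩ := Nat.exists_eq_add_of_le h
  refine ⟨c ^ p ^ k * (p : R) ^ e, ?_⟩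
  rw [mul_pow, ← pow_mul, he]
  ring

theorem ghost_mem {R : Type*} [CommRing R] (d : WittVector p R) (s n : ℕ) (hs : 1 ≤ s)
    (hd : ∀ i ≤ n, d.coeff i ∈ Ideal.span {(p : R) ^ s}) :
    ghostComponent n d ∈ Ideal.span {(p : R) ^ (s + n)} := by
  rw [ghost_formula]
  apply Ideal.sum_mem
  intro i hi
  have hi' : i ≤ n := Nat.lt_succ_iff.mp (Finset.mem_range.mp hi)
  have h := term_mem p s i (n - i) hs (d.coeff i) (hd i hi')
  have e : i + (n - i) = n := by omega
  rwa [e] at h

theorem construct {R : Type*} [CommRing R]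
    (t : ℕ) (ht : 1 ≤ t) (b : ℕ → R) (m : ℕ)
    (hb : ∀ n < m, b n ∈ Ideal.span {(p : R) ^ (t + n)}) :
    ∃ e : ℕ → R, (∀ n < m, e n ∈ Ideal.span {(p : R) ^ t}) ∧
      ∀ n < m, ∑ i ∈ Finset.range (n + 1), (p : R) ^ i * e i ^ p ^ (n - i) = b n := by
  induction m with
  | zero =>
    exact ⟨fun _ => 0, fun n hn => absurd hn (Nat.not_lt_zero n),
      fun n hn => absurd hn (Nat.not_lt_zero n)⟩
  | succ m ih =>
    obtain ⟨e, he1, he2⟩ := ih (fun n hn => hb n (Nat.lt_succ_of_lt hn))
    have hsum : ∑ i ∈ Finset.range m, (p : R) ^ i * e i ^ p ^ (m - i) ∈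
        Ideal.span {(p : R) ^ (t + m)} := by
      apply Ideal.sum_mem
      intro i hi
      have hi' : i < m := Finset.mem_range.mp hi
      have h := term_mem p t i (m - i) ht (e i) (he1 i hi')
      have e' : i + (m - i) = m := by omega
      rwa [e'] at h
    have hdiff : b m - ∑ i ∈ Finset.range m, (p : R) ^ i * e i ^ p ^ (m - i) ∈
        Ideal.span {(p : R) ^ (t + m)} :=
      Ideal.sub_mem _ (hb m (Nat.lt_succ_self m)) hsum
    obtain ⟨c, hc⟩ := Ideal.mem_span_singleton'.mp hdiff
    refine ⟨Function.update e m (c * (p : R) ^ t), ?_, ?_⟩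
    · intro n hn
      by_cases hnm : n = m
      · rw [hnm, Function.update_self]
        exact Ideal.mul_mem_left _ _ (Ideal.mem_span_singleton_self _)
      · rw [Function.update_of_ne hnm]
        exact he1 n (by omega)
    · intro n hn
      by_cases hnm : n = m
      · rw [hnm, Finset.sum_range_succ, Nat.sub_self, pow_zero, pow_one, Function.update_self]
        have hcongr : ∑ i ∈ Finset.range m,
            (p : R) ^ i * Function.update e m (c * (p : R) ^ t) i ^ p ^ (m - i)
            = ∑ i ∈ Finset.range m, (p : R) ^ i * e i ^ p ^ (m - i) := by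
          apply Finset.sum_congr rfl
          intro i hi
          have hne : i ≠ m := (Finset.mem_range.mp hi).ne
          rw [Function.update_of_ne hne]
        rw [hcongr]
        have e1 : (p : R) ^ m * (c * (p : R) ^ t) = c * (p : R) ^ (t + m) := by ring
        rw [e1, hc]
        ring
      · have hn' : n < m := by omega
        rw [← he2 n hn']
        apply Finset.sum_congr rfl
        intro i hi
        have hne : i ≠ m := by
          have := Finset.mem_range.mp hi
          omega
        rw [Function.update_of_ne hne]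

theorem pow_torsion_free {R : Type*} [CommRing R] (hR : ∀ y : R, (p : R) * y = 0 → y = 0)
    (k : ℕ) (z : R) (hz : (p : R) ^ k * z = 0) : z = 0 := by
  induction k with
  | zero => simpa using hz
  | succ k ihk =>
    apply ihk
    apply hR
    rw [← mul_assoc, ← pow_succ']
    exact hz

theorem coeff_eq_of_ghost_eq {R : Type*} [CommRing R] (hR : ∀ y : R, (p : R) * y = 0 → y = 0)
    (x y : WittVector p R) (m : ℕ) (h : ∀ n < m, ghostComponent n x = ghostComponent n y) :
    ∀ n < m, x.coeff n = y.coeff n := by
  intro n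
  induction n using Nat.strong_induction_on with
  | _ n ih =>
    intro hn
    have h1 := h n hn
    rw [ghost_formula, ghost_formula, Finset.sum_range_succ, Finset.sum_range_succ,
      Nat.sub_self, pow_zero, pow_one, pow_one] at h1
    have hcongr : ∑ i ∈ Finset.range n, (p : R) ^ i * x.coeff i ^ p ^ (n - i) =
        ∑ i ∈ Finset.range n, (p : R) ^ i * y.coeff i ^ p ^ (n - i) := by
      apply Finset.sum_congr rfl
      intro i hi
      have hi' := Finset.mem_range.mp hi
      rw [ih i hi' (by omega)]
    rw [hcongr] at h1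
    have h2 : (p : R) ^ n * (x.coeff n - y.coeff n) = 0 := by
      rw [mul_sub, sub_eq_zero]
      exact add_left_cancel h1
    exact sub_eq_zero.mp (pow_torsion_free p hR n _ h2)

theorem coeff_sub_eq_zero {R : Type*} [CommRing R] (x y : WittVector p R) (m : ℕ)
    (h : ∀ i < m, x.coeff i = y.coeff i) : ∀ i < m, (x - y).coeff i = 0 := by
  have h1 : truncate m x = truncate m y := by
    apply TruncatedWittVector.ext
    intro i
    rw [coeff_truncate, coeff_truncate]
    exact h i i.isLt
  have h2 : x - y ∈ RingHom.ker (truncate (p := p) (R := R) m) := by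
    rw [RingHom.mem_ker, map_sub, h1, sub_self]
  exact (mem_ker_truncate m (x - y)).mp h2

theorem core {R : Type*} [CommRing R] (hR : ∀ y : R, (p : R) * y = 0 → y = 0)
    (a z : WittVector p R) (m u : ℕ)
    (hz : ∀ i < m, ((p : WittVector p R) ^ u * z - a).coeff i ∈ Ideal.span {(p : R) ^ (u + m)}) :
    ∃ x : WittVector p R, ∀ i < m, ((p : WittVector p R) ^ u * x - a).coeff i = 0 := by
  rcases Nat.eq_zero_or_pos m with hm | hm
  · exact ⟨0, fun i hi => absurd hi (by omega)⟩
  obtain ⟨d, hd⟩ : ∃ d, d = (p : WittVector p R) ^ u * z - a := ⟨_, rfl⟩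
  rw [← hd] at hz
  have hw : ∀ n, ∃ c : R, n < m → ghostComponent n d = c * (p : R) ^ (u + m + n) := by
    intro n
    by_cases hn : n < m
    · have h1 := ghost_mem p d (u + m) n (by omega) (fun i hi => hz i (by omega))
      obtain ⟨c, hc⟩ := Ideal.mem_span_singleton'.mp h1
      exact ⟨c, fun _ => hc.symm⟩
    · exact ⟨0, fun h => absurd h hn⟩
  choose c hc using hw
  obtain ⟨b, hb⟩ : ∃ b : ℕ → R, ∀ n, b n = c n * (p : R) ^ (m + n) :=
    ⟨fun n => c n * (p : R) ^ (m + n), fun n => rfl⟩
  obtain ⟨e, he1, he2⟩ := construct p m hm b m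
    (fun n hn => by
      rw [hb n]
      exact Ideal.mul_mem_left _ _ (Ideal.mem_span_singleton_self _))
  have hE : ∀ i, (WittVector.mk p e).coeff i = e i := fun i => rfl
  have hg : ∀ n < m, ghostComponent n ((p : WittVector p R) ^ u * WittVector.mk p e) =
      ghostComponent n d := by
    intro n hn
    rw [map_mul, map_pow, map_natCast, hc n hn, ghost_formula]
    simp only [hE]
    rw [he2 n hn, hb n]
    ring
  have hco := coeff_eq_of_ghost_eq p hR _ _ m hg
  refine ⟨z - WittVector.mk p e, ?_⟩
  have e1 : (p : WittVector p R) ^ u * (z - WittVector.mk p e) - a =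
      d - (p : WittVector p R) ^ u * WittVector.mk p e := by
    rw [hd]; ring
  rw [e1]
  exact coeff_sub_eq_zero p _ _ m (fun i hi => (hco i hi).symm)

end Lemmas


/-- Let p be a prime and R a commutative ring without p-torsion which is complete and separated for the
p-adic topology. Let a be a p-typical Witt vector over R and m, u natural numbers. Suppose that for
every s the equation p^u·x = a has a solution in the truncated Witt ring W_m(R/p^s R), i.e. there is
z ∈ W(R) such that the first m Witt components of p^u·z − a lie in p^s R. Then the equation has a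
solution in W_m(R): there is x ∈ W(R) such that the first m Witt components of p^u·x − a vanish.
(The published statement asks only that R have no p-torsion; R is moreover taken p-adically complete
and separated here, which is the standing situation of the surrounding argument and is what the
published proof uses when it passes to the limit over s.) -/
theorem result (p : ℕ) [Fact p.Prime] (R : Type u) [CommRing R]
    (hR : ∀ y : R, (p : R) * y = 0 → y = 0) [IsAdicComplete (Ideal.span {(p : R)}) R]
    (a : WittVector p R) (m u : ℕ)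
    (h : ∀ s : ℕ, ∃ z : WittVector p R, ∀ i < m, ((p : WittVector p R) ^ u * z - a).coeff i ∈ Ideal.span {(p : R) ^ s}) :
    ∃ x : WittVector p R, ∀ i < m, ((p : WittVector p R) ^ u * x - a).coeff i = 0 := by
  obtain ⟨z, hz⟩ := h (u + m)
  exact core p hR a z m u hz

end Groth.Agent.S14861
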