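import Groth.Statements.S14862
import Mathlib
import Groth.Agent.S14861

set_option autoImplicit false
universe u
open CAlg

namespace Groth.Agent.S14862

open WittVector

section Lemmas

variable (p : ℕ) [hp : Fact p.Prime]

theorem ghost_zero_of_coeff_zero {R : Type*} [CommRing R] (x : WittVector p R) (n : ℕ)
    (h : ∀ i ≤ n, x.coeff i = 0) : ghostComponent n x = 0 := by
  rw [Groth.Agent.S14861.ghost_formula]
  apply Finset.sum_eq_zero
  intro i hi
  have hi' : i ≤ n := Nat.lt_succ_iff.mp (Finset.mem_range.mp hi)
  rw [h i hi', zero_pow (pow_ne_zero _ hp.out.ne_zero), mul_zero]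

theorem mem_ker_of_pow_mul_mem {R : Type*} [CommRing R] (hR : ∀ y : R, (p : R) * y = 0 → y = 0)
    (u r : ℕ) (y : WittVector p R)
    (h : (p : WittVector p R) ^ u * y ∈ RingHom.ker (truncate (p := p) (R := R) r)) :
    y ∈ RingHom.ker (truncate (p := p) (R := R) r) := by
  rw [mem_ker_truncate] at h ⊢
  have hg : ∀ n < r, ghostComponent n y = ghostComponent n (0 : WittVector p R) := by
    intro n hn
    have h1 := ghost_zero_of_coeff_zero p _ n (fun i hi => h i (by omega))
    rw [map_mul, map_pow, map_natCast] at h1
    rw [map_zero]
    exact Groth.Agent.S14861.pow_torsion_free p hR u _ h1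
  intro i hi
  have h2 := Groth.Agent.S14861.coeff_eq_of_ghost_eq p hR y 0 r hg i hi
  rw [h2, zero_coeff]

theorem coeff_mem_of_mem_ker_map {R : Type*} [CommRing R] (I : Ideal R) (j : WittVector p R)
    (hj : j ∈ RingHom.ker (WittVector.map (p := p) (Ideal.Quotient.mk I))) (k : ℕ) :
    j.coeff k ∈ I := by
  rw [RingHom.mem_ker] at hj
  have h1 := congrArg (fun w => w.coeff k) hj
  simp only [map_coeff, zero_coeff] at h1
  exact Ideal.Quotient.eq_zero_iff_mem.mp h1

theorem coeff_eq_of_sub_mem {R : Type*} [CommRing R] (x y : WittVector p R) (r : ℕ)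
    (h : x - y ∈ RingHom.ker (truncate (p := p) (R := R) r)) :
    ∀ k < r, x.coeff k = y.coeff k := by
  rw [RingHom.mem_ker, map_sub, sub_eq_zero] at h
  intro k hk
  have h1 := congrArg (fun t => TruncatedWittVector.coeff ⟨k, hk⟩ t) h
  rw [coeff_truncate, coeff_truncate] at h1
  exact h1

end Lemmas


/-- Let p be a prime and S a commutative ring without p-torsion which is complete and separated for the
p-adic topology; write W = W(S) for the p-typical Witt vectors, I_r ⊆ W for the ideal of Witt
vectors whose first r components vanish (the image of the r-th iterate of the Verschiebung) and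
W(p^s S) ⊆ W for the ideal of Witt vectors all of whose components lie in p^s S (the kernel of W(S)
→ W(S/p^s S)). Then for every natural number u the ideal p^u W is closed for the linear topology on
W in which the ideals I_r + W(p^s S) form a neighbourhood basis of zero: the intersection over all r
and s of p^u W + I_r + W(p^s S) equals p^u W. (The published statement asks only that S have no
p-torsion; S is moreover taken p-adically complete and separated here, the case in which the result
is applied and through which the published proof goes.) -/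
theorem result (p : ℕ) [Fact p.Prime] (S : Type u) [CommRing S]
    (hS : ∀ y : S, (p : S) * y = 0 → y = 0) [IsAdicComplete (Ideal.span {(p : S)}) S] (u : ℕ) :
    (⨅ r : ℕ, ⨅ s : ℕ,
        Ideal.span {(p : WittVector p S) ^ u} ⊔ RingHom.ker (WittVector.truncate (p := p) (R := S) r) ⊔
          RingHom.ker (WittVector.map (p := p) (Ideal.Quotient.mk (Ideal.span {(p : S) ^ s})))) =
      Ideal.span {(p : WittVector p S) ^ u} := by
  apply le_antisymm
  · intro a ha
    have key : ∀ r : ℕ, ∃ x : WittVector p S, ∀ i < r,
        ((p : WittVector p S) ^ u * x - a).coeff i = 0 := by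
      intro r
      have h1 := (Ideal.mem_iInf.mp ((Ideal.mem_iInf.mp ha) r)) (u + r)
      obtain ⟨y, hy, j, hj, hyj⟩ := Submodule.mem_sup.mp h1
      obtain ⟨w, hw, i, hi, hwi⟩ := Submodule.mem_sup.mp hy
      obtain ⟨z, hz⟩ := Ideal.mem_span_singleton'.mp hw
      refine Groth.Agent.S14861.core p hS a z r u ?_
      intro k hk
      have e1 : (p : WittVector p S) ^ u * z - a = (-j) - i := by
        rw [← hyj, ← hwi, ← hz]; ring
      rw [e1]
      have h2 : ((-j) - i).coeff k = (-j).coeff k := by
        apply coeff_eq_of_sub_mem p _ _ r _ k hk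
        have e2 : (-j) - i - (-j) = -i := by ring
        rw [e2]
        exact neg_mem hi
      rw [h2]
      exact coeff_mem_of_mem_ker_map p _ (-j) (neg_mem hj) k
    choose x hx using key
    have hx' : ∀ r, (p : WittVector p S) ^ u * x r - a ∈
        RingHom.ker (truncate (p := p) (R := S) r) :=
      fun r => (mem_ker_truncate r _).mpr (hx r)
    have hmono : ∀ r r' : ℕ, r ≤ r' → RingHom.ker (truncate (p := p) (R := S) r') ≤
        RingHom.ker (truncate (p := p) (R := S) r) := by
      intro r r' hrr' w hw
      rw [mem_ker_truncate] at hw ⊢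
      intro i hi
      exact hw i (by omega)
    have hcompat : ∀ r r' : ℕ, r ≤ r' → ∀ k < r, (x r').coeff k = (x r).coeff k := by
      intro r r' hrr'
      apply coeff_eq_of_sub_mem p _ _ r
      apply mem_ker_of_pow_mul_mem p hS u r
      have e : (p : WittVector p S) ^ u * (x r' - x r) =
          ((p : WittVector p S) ^ u * x r' - a) - ((p : WittVector p S) ^ u * x r - a) := by ring
      rw [e]
      exact sub_mem (hmono r r' hrr' (hx' r')) (hx' r)
    obtain ⟨X, hX⟩ : ∃ X : WittVector p S, ∀ i, X.coeff i = (x (i + 1)).coeff i :=
      ⟨WittVector.mk p (fun i => (x (i + 1)).coeff i), fun i => rfl⟩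
    have hfinal : (p : WittVector p S) ^ u * X - a = 0 := by
      apply WittVector.ext
      intro n
      rw [zero_coeff]
      have hmem : X - x (n + 1) ∈ RingHom.ker (truncate (p := p) (R := S) (n + 1)) := by
        rw [mem_ker_truncate]
        apply Groth.Agent.S14861.coeff_sub_eq_zero p _ _ (n + 1)
        intro k hk
        rw [hX k]
        exact (hcompat (k + 1) (n + 1) (by omega) k (by omega)).symm
      have e : (p : WittVector p S) ^ u * X - a =
          (p : WittVector p S) ^ u * (X - x (n + 1)) +
            ((p : WittVector p S) ^ u * x (n + 1) - a) := by ring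
      have hmem2 : (p : WittVector p S) ^ u * X - a ∈
          RingHom.ker (truncate (p := p) (R := S) (n + 1)) := by
        rw [e]
        exact add_mem (Ideal.mul_mem_left _ _ hmem) (hx' (n + 1))
      exact (mem_ker_truncate (n + 1) _).mp hmem2 n (Nat.lt_succ_self n)
    rw [Ideal.mem_span_singleton']
    exact ⟨X, by rw [mul_comm]; exact sub_eq_zero.mp hfinal⟩
  · exact le_iInf fun r => le_iInf fun s => le_sup_of_le_left le_sup_left

end Groth.Agent.S14862
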