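import Groth.Statements.S16222
import Groth.Agent.Lib.T2H2DieuProj
import Groth.Agent.Lib.Helper24Dieu

set_option autoImplicit false
open TensorProduct
universe u v
open Disp

namespace Groth.Agent.S16222

open Groth.Agent.Lib.T2H2.DieuProj in
theorem aux_torsionFree {p : ℕ} [Fact p.Prime] {k : Type u} [CommRing k] [CharP k p] [PerfectRing k p]
    (M : Type v) [AddCommGroup M] [Module (WittVector p k) M] [Module.Projective (WittVector p k) M]
    (z : M) (hz : (p : WittVector p k) • z = 0) : z = 0 := by
  obtain ⟨s, hs⟩ := Module.projective_def'.mp (inferInstance : Module.Projective (WittVector p k) M)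
  have h1 : s z = 0 := by
    apply Finsupp.ext
    intro m
    have h2 : (p : WittVector p k) * (s z m) = 0 := by
      have := congrArg (fun t => t m) (show s ((p : WittVector p k) • z) = 0 by rw [hz, map_zero])
      simpa using this
    rw [Finsupp.zero_apply]
    exact Groth.Agent.Lib.Helper24Dieu.p_mul_eq_zero _ h2
  have h3 := LinearMap.congr_fun hs z
  rw [LinearMap.comp_apply, h1, map_zero] at h3
  exact h3.symm


/-- Let p be a prime and k a perfect ring of characteristic p, so that the Frobenius σ of W = W(k) is
bijective and W has no p-torsion. Let M be a projective Dieudonné module over k: a finitely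
generated projective W-module with a σ-semilinear F : M → M and a σ⁻¹-semilinear V : M → M such that
FV = VF = p. Then the reduction M/pM satisfies the level-one conditions: the preimage of pM under F
is VM + pM, the preimage of pM under V is FM + pM (so Ker F = Im V and Ker V = Im F on M/pM), and
M/VM, that is M/pM divided by the image of V, is a projective module over W/pW, which the first Witt
component identifies with k. -/
theorem result (p : ℕ) [Fact p.Prime] (k : Type u) [CommRing k]
    [CharP k p] [PerfectRing k p]
    (M : Type v) [AddCommGroup M] [Module (WittVector p k) M] [Module.Finite (WittVector p k) M] [Module.Projective (WittVector p k) M]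
    (F : M →ₛₗ[(WittVector.frobenius : WittVector p k →+* WittVector p k)] M)
    (V : M →ₛₗ[((WittVector.frobeniusEquiv p k).symm : WittVector p k →+* WittVector p k)] M)
    (hFV : ∀ m : M, F (V m) = (p : WittVector p k) • m) (hVF : ∀ m : M, V (F m) = (p : WittVector p k) • m) :
    ((Ideal.span {(p : WittVector p k)} • (⊤ : Submodule (WittVector p k) M)).comap F =
        Submodule.span (WittVector p k) (Set.range V) ⊔ Ideal.span {(p : WittVector p k)} • (⊤ : Submodule (WittVector p k) M) ∧
      (Ideal.span {(p : WittVector p k)} • (⊤ : Submodule (WittVector p k) M)).comap V =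
        Submodule.span (WittVector p k) (Set.range F) ⊔ Ideal.span {(p : WittVector p k)} • (⊤ : Submodule (WittVector p k) M)) ∧
    Module.Projective (WittVector p k ⧸ Ideal.span {(p : WittVector p k)})
      ((M ⧸ (Ideal.span {(p : WittVector p k)} • (⊤ : Submodule (WittVector p k) M))) ⧸
        Submodule.span (WittVector p k ⧸ Ideal.span {(p : WittVector p k)})
          (Set.range fun m : M => (Ideal.span {(p : WittVector p k)} • (⊤ : Submodule (WittVector p k) M)).mkQ (V m))) := by
  have hFp : ∀ y : M, F ((p : WittVector p k) • y) = (p : WittVector p k) • F y := by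
    intro y
    rw [map_smulₛₗ, map_natCast]
  have hVp : ∀ y : M, V ((p : WittVector p k) • y) = (p : WittVector p k) • V y := by
    intro y
    rw [map_smulₛₗ, map_natCast]
  have hmem := Groth.Agent.Lib.T2H2.DieuProj.mem_span_singleton_smul_top_iff (M := M)
    (p : WittVector p k)
  refine ⟨⟨?_, ?_⟩, ?_⟩
  · apply le_antisymm
    · intro x hx
      rw [Submodule.mem_comap, hmem] at hx
      obtain ⟨y, hy⟩ := hx
      have h1 : (p : WittVector p k) • (x - V y) = 0 := by
        rw [smul_sub, ← hVF x, hy, hVp, sub_self]
      have h2 := aux_torsionFree M _ h1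
      have h3 : x = V y := sub_eq_zero.mp h2
      rw [h3]
      exact Submodule.mem_sup_left (Submodule.subset_span ⟨y, rfl⟩)
    · apply sup_le
      · rw [Submodule.span_le]
        rintro _ ⟨y, rfl⟩
        rw [SetLike.mem_coe, Submodule.mem_comap, hFV]
        exact Submodule.smul_mem_smul (Ideal.mem_span_singleton_self _) Submodule.mem_top
      · intro x hx
        rw [hmem] at hx
        obtain ⟨y, rfl⟩ := hx
        rw [Submodule.mem_comap, hFp]
        exact Submodule.smul_mem_smul (Ideal.mem_span_singleton_self _) Submodule.mem_top
  · apply le_antisymm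
    · intro x hx
      rw [Submodule.mem_comap, hmem] at hx
      obtain ⟨y, hy⟩ := hx
      have h1 : (p : WittVector p k) • (x - F y) = 0 := by
        rw [smul_sub, ← hFV x, hy, hFp, sub_self]
      have h2 := aux_torsionFree M _ h1
      have h3 : x = F y := sub_eq_zero.mp h2
      rw [h3]
      exact Submodule.mem_sup_left (Submodule.subset_span ⟨y, rfl⟩)
    · apply sup_le
      · rw [Submodule.span_le]
        rintro _ ⟨y, rfl⟩
        rw [SetLike.mem_coe, Submodule.mem_comap, hVF]
        exact Submodule.smul_mem_smul (Ideal.mem_span_singleton_self _) Submodule.mem_top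
      · intro x hx
        rw [hmem] at hx
        obtain ⟨y, rfl⟩ := hx
        rw [Submodule.mem_comap, hVp]
        exact Submodule.smul_mem_smul (Ideal.mem_span_singleton_self _) Submodule.mem_top
  · -- projectivity of `M/pM` over `W/p`
    let e0 : (WittVector p k ⧸ Ideal.span {(p : WittVector p k)}) ⊗[WittVector p k] M ≃ₗ[WittVector p k]
        M ⧸ (Ideal.span {(p : WittVector p k)} • (⊤ : Submodule (WittVector p k) M)) :=
      TensorProduct.quotTensorEquivQuotSMul M (Ideal.span {(p : WittVector p k)})
    let e1 : (WittVector p k ⧸ Ideal.span {(p : WittVector p k)}) ⊗[WittVector p k] M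
        ≃ₗ[WittVector p k ⧸ Ideal.span {(p : WittVector p k)}]
        M ⧸ (Ideal.span {(p : WittVector p k)} • (⊤ : Submodule (WittVector p k) M)) :=
      LinearEquiv.extendScalarsOfSurjective
        (Ideal.Quotient.mk_surjective (I := Ideal.span {(p : WittVector p k)})) e0
    have hproj : Module.Projective (WittVector p k ⧸ Ideal.span {(p : WittVector p k)})
        (M ⧸ (Ideal.span {(p : WittVector p k)} • (⊤ : Submodule (WittVector p k) M))) :=
      Module.Projective.of_equiv e1
    obtain ⟨r, f, g, -, -, hfg⟩ := Module.Finite.exists_comp_eq_id_of_projective (WittVector p k) M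
    exact Groth.Agent.Lib.T2H2.DieuProj.projective_quotient_imV V F hFV hVF
      (fun I hI => Groth.Agent.Lib.T2H2.DieuProj.TF_of_retract _ I g f
        (fun m => LinearMap.congr_fun hfg m)
        (Groth.Agent.Lib.T2H2.DieuProj.TF_pi _ I r (Groth.Agent.Lib.T2H2.DieuProj.TF_self _ I hI)))

end Groth.Agent.S16222
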