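import Groth.Statements.S14863
import Groth.Agent.S16222
import Groth.Agent.S14858
import Groth.Agent.Lib.T2H2DieuProj
import Groth.Agent.Lib.Helper14Disp4

set_option autoImplicit false
universe u v
open Disp

namespace Groth.Agent.S14863

/-- Let p be a prime and k a perfect commutative ring of characteristic p, so that the Frobenius σ of W
= W(k) is an automorphism. Let M be a Dieudonné module over k, that is, a projective W-module of
finite type with a σ-semilinear operator F and a σ⁻¹-semilinear operator V such that FV = VF = p.
Then (M, VM, F, V⁻¹) is a 3n-display over k: there exists a 3n-display structure on the W-module M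
whose distinguished submodule is exactly the image of V, whose Frobenius operator is F, and whose
operator V⁻¹ sends V m to m for every m. (The published statement is the equivalence of the category
of 3n-displays over k with that of Dieudonné modules, displays corresponding to topologically
nilpotent V; this row is the passage from a Dieudonné module to a 3n-display.) -/
theorem result (p : ℕ) [Fact p.Prime] (k : Type u) [CommRing k]
    [CharP k p] [PerfectRing k p]
    (M : Type v) [AddCommGroup M] [Module (WittVector p k) M]
    [Module.Finite (WittVector p k) M] [Module.Projective (WittVector p k) M]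
    (F : M →ₛₗ[(WittVector.frobenius : WittVector p k →+* WittVector p k)] M)
    (V : M →ₛₗ[((WittVector.frobeniusEquiv p k).symm : WittVector p k →+* WittVector p k)] M)
    (hFV : ∀ m : M, F (V m) = (p : WittVector p k) • m) (hVF : ∀ m : M, V (F m) = (p : WittVector p k) • m) :
    ∃ D : W4c1extbt610.Display3n p k M,
      D.F = F ∧ (∀ x : M, x ∈ D.Q ↔ x ∈ Set.range V) ∧
        ∀ (m : M) (h : V m ∈ D.Q), D.Vinv ⟨V m, h⟩ = m := by
  classical
  have hVfs : ∀ (w : WittVector p k) (x : M), V (WittVector.frobenius w • x) = w • V x :=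
    Groth.Agent.Lib.T2H2.DieuProj.V_frobenius_smul V
  have hVinj : Function.Injective V := by
    intro a b hab
    have h1 : (p : WittVector p k) • (a - b) = 0 := by
      rw [← hFV (a - b), map_sub, hab, sub_self, map_zero]
    exact sub_eq_zero.mp (Groth.Agent.S16222.aux_torsionFree M _ h1)
  -- verschiebung w • x = V (w • F x)
  have hver : ∀ (w : WittVector p k) (x : M), WittVector.verschiebung w • x = V (w • F x) := by
    intro w x
    obtain ⟨w', rfl⟩ := (WittVector.frobenius_bijective p k).surjective w
    rw [WittVector.verschiebung_frobenius, hVfs, hVF, mul_smul]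
  let Q : Submodule (WittVector p k) M :=
    { carrier := Set.range V
      add_mem' := by
        rintro _ _ ⟨a, rfl⟩ ⟨b, rfl⟩
        exact ⟨a + b, map_add V a b⟩
      zero_mem' := ⟨0, map_zero V⟩
      smul_mem' := by
        rintro w _ ⟨m, rfl⟩
        exact ⟨WittVector.frobenius w • m, hVfs w m⟩ }
  have hQmem : ∀ x : M, x ∈ Q ↔ x ∈ Set.range V := fun x => Iff.rfl
  let Vinv_fun : Q → M := fun q => Classical.choose q.2
  have hspec : ∀ q : Q, V (Vinv_fun q) = q := fun q => Classical.choose_spec q.2
  let Vinv : Q →ₛₗ[(WittVector.frobenius : WittVector p k →+* WittVector p k)] M :=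
    { toFun := Vinv_fun
      map_add' := by
        intro a b
        apply hVinj
        rw [map_add, hspec, hspec, hspec]
        rfl
      map_smul' := by
        intro w q
        apply hVinj
        change V (Vinv_fun (w • q)) = V (WittVector.frobenius w • Vinv_fun q)
        rw [hspec, hVfs, hspec]
        rfl }
  have hVinvV : ∀ (m : M) (h : V m ∈ Q), Vinv ⟨V m, h⟩ = m := by
    intro m h
    apply hVinj
    exact hspec ⟨V m, h⟩
  -- `IV ≤ (p)` and `(p) ≤ IV`
  have hIVle : W4c1extbt610.IV p k ≤ Ideal.span {(p : WittVector p k)} := by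
    unfold W4c1extbt610.IV
    rw [Ideal.span_le]
    rintro _ ⟨w, rfl⟩
    obtain ⟨w', rfl⟩ := (WittVector.frobenius_bijective p k).surjective w
    rw [WittVector.verschiebung_frobenius]
    exact Ideal.mul_mem_left _ _ (Ideal.mem_span_singleton_self _)
  have hpIV : (p : WittVector p k) ∈ W4c1extbt610.IV p k := by
    have h1 := WittVector.verschiebung_frobenius (p := p) (1 : WittVector p k)
    rw [one_mul] at h1
    rw [← h1]
    exact W4c1extbt610.verschiebung_mem_IV p k _
  have hleIV : Ideal.span {(p : WittVector p k)} ≤ W4c1extbt610.IV p k :=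
    (Ideal.span_singleton_le_iff_mem _).mpr hpIV
  have hIVQ : W4c1extbt610.IV p k • (⊤ : Submodule (WittVector p k) M) ≤ Q := by
    rw [Submodule.smul_le]
    intro a ha x _
    have ha' := hIVle ha
    obtain ⟨c, rfl⟩ := Ideal.mem_span_singleton'.mp ha'
    rw [mul_smul, ← hVF x]
    exact Q.smul_mem c ⟨F x, rfl⟩
  -- the complement
  obtain ⟨-, hproj⟩ := Groth.Agent.S16222.result p k M F V hFV hVF
  obtain ⟨S, hS⟩ : ∃ S : Submodule (WittVector p k ⧸ Ideal.span {(p : WittVector p k)})
      (M ⧸ (Ideal.span {(p : WittVector p k)} • (⊤ : Submodule (WittVector p k) M))),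
      S = Submodule.span (WittVector p k ⧸ Ideal.span {(p : WittVector p k)})
        (Set.range fun m : M => (Ideal.span {(p : WittVector p k)} •
          (⊤ : Submodule (WittVector p k) M)).mkQ (V m)) := ⟨_, rfl⟩
  rw [← hS] at hproj
  have hmemS : ∀ t, t ∈ S ↔ ∃ x : M, (Ideal.span {(p : WittVector p k)} •
      (⊤ : Submodule (WittVector p k) M)).mkQ (V x) = t := by
    intro t
    rw [hS]
    exact Groth.Agent.Lib.T2H2.DieuProj.mem_imV V t
  clear hS
  obtain ⟨s, hs⟩ := Module.projective_lifting_property S.mkQ LinearMap.id
    (Submodule.mkQ_surjective _)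
  have hs' : ∀ c, S.mkQ (s c) = c := fun c => LinearMap.congr_fun hs c
  have hsm := Groth.Agent.Lib.T2H2.DieuProj.mk_smul' (p := p) (k := k) M
  let C : Submodule (WittVector p k) M :=
    { carrier := {m | (Ideal.span {(p : WittVector p k)} •
        (⊤ : Submodule (WittVector p k) M)).mkQ m ∈ LinearMap.range s}
      add_mem' := by
        intro a b ha hb
        change _ ∈ LinearMap.range s
        rw [map_add]
        exact Submodule.add_mem _ ha hb
      zero_mem' := by
        change _ ∈ LinearMap.range s
        rw [map_zero]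
        exact Submodule.zero_mem _
      smul_mem' := by
        intro w a ha
        change _ ∈ LinearMap.range s
        rw [map_smul, ← hsm]
        exact Submodule.smul_mem _ _ ha }
  have hCmem : ∀ m : M, m ∈ C ↔ (Ideal.span {(p : WittVector p k)} •
        (⊤ : Submodule (WittVector p k) M)).mkQ m ∈ LinearMap.range s := fun m => Iff.rfl
  have hC1 : Q ⊔ C = ⊤ := by
    rw [eq_top_iff]
    intro m _
    obtain ⟨t, ht⟩ : ∃ t, t = (Ideal.span {(p : WittVector p k)} •
      (⊤ : Submodule (WittVector p k) M)).mkQ m := ⟨_, rfl⟩
    have h1 : t - s (S.mkQ t) ∈ S := by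
      rw [← Submodule.Quotient.mk_eq_zero, Submodule.Quotient.mk_sub, sub_eq_zero]
      exact (hs' (S.mkQ t)).symm
    obtain ⟨x, hx⟩ := (hmemS _).mp h1
    have h2 : m = V x + (m - V x) := by abel
    rw [h2]
    refine Submodule.add_mem_sup ⟨x, rfl⟩ ?_
    rw [hCmem, map_sub, hx, ← ht]
    exact ⟨S.mkQ t, by abel⟩
  have hC2 : Q ⊓ C = W4c1extbt610.IV p k • (⊤ : Submodule (WittVector p k) M) := by
    apply le_antisymm
    · rintro m ⟨⟨x, rfl⟩, hmC⟩
      obtain ⟨c, hc⟩ := (hCmem _).mp hmC
      have h1 : S.mkQ ((Ideal.span {(p : WittVector p k)} •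
          (⊤ : Submodule (WittVector p k) M)).mkQ (V x)) = 0 :=
        (Submodule.Quotient.mk_eq_zero _).mpr ((hmemS _).mpr ⟨x, rfl⟩)
      have h2 : c = 0 := by
        rw [← hs' c, hc, h1]
      rw [h2, map_zero] at hc
      have h3 : V x ∈ Ideal.span {(p : WittVector p k)} • (⊤ : Submodule (WittVector p k) M) :=
        (Submodule.Quotient.mk_eq_zero _).mp hc.symm
      exact Submodule.smul_mono_left hleIV h3
    · refine le_inf hIVQ ?_
      intro m hm
      have h1 : m ∈ Ideal.span {(p : WittVector p k)} • (⊤ : Submodule (WittVector p k) M) :=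
        Submodule.smul_mono_left hIVle hm
      rw [hCmem]
      have h2 : (Ideal.span {(p : WittVector p k)} • (⊤ : Submodule (WittVector p k) M)).mkQ m = 0 :=
        (Submodule.Quotient.mk_eq_zero _).mpr h1
      rw [h2]
      exact Submodule.zero_mem _
  have hcompl : IsAdicComplete (Ideal.span {(p : k)}) k :=
    Groth.Agent.Lib.Helper14.Disp.isAdicComplete_of_pow_eq_zero (N := 1)
      (by rw [pow_one]; exact CharP.cast_eq_zero k p)
  have hnormal := Groth.Agent.S14858.result p k M Q ⟨C, hC1, hC2⟩
  refine ⟨{ Q := Q
            F := F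
            Vinv := Vinv
            finite := inferInstance
            projective := inferInstance
            IV_smul_le := hIVQ
            exists_normal := hnormal
            span_range_Vinv := ?_
            Vinv_verschiebung_smul := ?_ }, rfl, hQmem, hVinvV⟩
  · rw [eq_top_iff]
    intro m _
    exact Submodule.subset_span ⟨⟨V m, ⟨m, rfl⟩⟩, hVinvV m _⟩
  · intro w x
    apply hVinj
    change V (Vinv_fun _) = _
    rw [hspec]
    exact hver w x

end Groth.Agent.S14863
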