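import Groth.Statements.S14885
import Mathlib
import Groth.Agent.Lib.T1H4QuotRS
set_option backward.isDefEq.respectTransparency.types false

set_option autoImplicit false
universe u v
open CategoryTheory TopologicalSpace Opposite AlgebraicGeometry Topology
open AlgGrp

namespace Groth.Agent.S14885

/-- Let a group Γ act on a ringed space X (a topological space with a sheaf of rings) by automorphisms
τ_g, and let π : X → Y be a Γ-invariant morphism of ringed spaces which exhibits Y as the quotient
ringed space X/Γ: the underlying continuous map of π is a topological quotient map whose fibres are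
exactly the Γ-orbits, and for every open subset V of Y the ring map O_Y(V) → O_X(π⁻¹V) is injective
with image the sections s satisfying τ_g^♯(s) = s for all g. Then (Y, π) is a categorical quotient
for the action in the category of ringed spaces: every morphism of ringed spaces f : X → Z with f ∘
τ_g = f for all g (as morphisms of ringed spaces) factors uniquely as f = f̄ ∘ π. -/
theorem result (X Y : SheafedSpace CommRingCat.{u}) (Γ : Type v) [Group Γ]
    (τ : Γ →* Aut X) (π : X ⟶ Y) (hτ : ∀ g : Γ, (τ g).hom ≫ π = π)
    (h1 : IsQuotientMap π.hom.base)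
    (h2 : ∀ x x' : X, π.hom.base x = π.hom.base x' ↔ ∃ g : Γ, (τ g).hom.hom.base x = x')
    (h3 : ∀ V : Opens Y, Function.Injective (π.hom.c.app (op V)) ∧
      Set.range (π.hom.c.app (op V)) =
        {s | ∀ g : Γ, (τ g).hom.hom.c.app (op ((Opens.map π.hom.base).obj V)) s =
          X.presheaf.map (eqToHom (congrArg (fun f : X ⟶ Y => op ((Opens.map f.hom.base).obj V)) (hτ g).symm)) s})
    (Z : SheafedSpace CommRingCat.{u}) (f : X ⟶ Z) (hf : ∀ g : Γ, (τ g).hom ≫ f = f) :
    ∃! fbar : Y ⟶ Z, π ≫ fbar = f := by
  apply Groth.Agent.Lib.T1H4.QuotRS.existsUnique_desc π f h1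
  · intro x x' hx
    obtain ⟨g, rfl⟩ := (h2 x x').1 hx
    exact (congrArg (fun φ : X ⟶ Z => φ.hom.base x) (hf g)).symm
  · exact fun V => (h3 V).1
  · intro V W e t
    have hmem : X.presheaf.map (eqToHom (congrArg op e.symm)) (f.hom.c.app (op W) t) ∈
        Set.range (π.hom.c.app (op V)) := by
      rw [(h3 V).2]
      intro g
      have k := SheafedSpace.congr_hom_app (hf g) (op W)
      rw [SheafedSpace.comp_hom_c_app] at k
      have hy := congrArg (fun χ : Z.presheaf.obj (op W) ⟶ X.presheaf.obj
        (op ((Opens.map (τ g).hom.hom.base).obj ((Opens.map f.hom.base).obj W))) => χ t) k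
      exact Groth.Agent.Lib.T1H4.QuotRS.invariant_aux (τ g).hom _ _ _ _ hy
    obtain ⟨u, hu⟩ := hmem
    exact ⟨u, hu⟩

end Groth.Agent.S14885
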