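import Groth.Statements.S1493
import Groth.Agent.Lib.T2H2RegLCI

set_option autoImplicit false
universe u
attribute [local instance] HasDerivedCategory.standard
open FlatMor

namespace Groth.Agent.S1493

open AlgebraicGeometry CategoryTheory Limits in
/-- Let f : X → Y be locally of finite type with X and Y regular (locally Noetherian with regular local
rings). Then f is a local complete intersection morphism (affine-locally: local complete
intersection ring maps). -/
theorem result {X Y : Scheme.{u}} (f : X ⟶ Y) [LocallyOfFiniteType f] [IsLocallyNoetherian X] [IsLocallyNoetherian Y]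
    (hX : ∀ x : X, IsRegularLocalRing ↑(X.presheaf.stalk x)) (hY : ∀ y : Y, IsRegularLocalRing ↑(Y.presheaf.stalk y)) :
    (∀ (U : X.Opens) (V : Y.Opens) (hU : IsAffineOpen U) (hV : IsAffineOpen V) (hUV : U ≤ f ⁻¹ᵁ V),
        letI := (f.appLE V U hUV).hom.toAlgebra
        LCI.IsLCI Γ(Y, V) Γ(X, U)) := by
  intro U V hU hV hUV
  let _ := (f.appLE V U hUV).hom.toAlgebra
  have hft : (f.appLE V U hUV).hom.FiniteType := LocallyOfFiniteType.finiteType_appLE f hV hU hUV
  have hft' : Algebra.FiniteType Γ(Y, V) Γ(X, U) := hft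
  have hA : IsRegularRing Γ(Y, V) := Groth.Agent.Lib.T2H2.RegLCI.isRegularRing_of_stalks hV hY
  have hB : IsRegularRing Γ(X, U) := Groth.Agent.Lib.T2H2.RegLCI.isRegularRing_of_stalks hU hX
  obtain ⟨n, π, hπ⟩ := Algebra.FiniteType.iff_quotient_mvPolynomial''.mp hft'
  exact ⟨hft', n, π, hπ,
    Groth.Agent.Lib.T2H2.RegLCI.isKoszulRegularIdeal_ker π.toRingHom hπ⟩

end Groth.Agent.S1493
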