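import Groth.Statements.S1496
import Mathlib
import Groth.Agent.Lib.T2H6VAmpleG
import Groth.Agent.S9705

set_option autoImplicit false
universe u
attribute [local instance] HasDerivedCategory.standard
open FlatMor

namespace Groth.Agent.S1496

open AlgebraicGeometry CategoryTheory Limits in
/-- Let S be a scheme carrying an ample invertible sheaf and f : X → S a morphism. Then f is a closed
immersion into some projective space over S (f factors as a closed immersion X → Pⁿ_S followed by
the projection Pⁿ_S → S, for some n) if and only if f is proper and X carries an ample invertible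
sheaf; and the latter holds if and only if f is proper and some O_X-module is ample relative to f. -/
theorem result {X S : Scheme.{u}} (hS : ∃ N : S.Modules, CohB1.IsAmple N) (f : X ⟶ S) :
    ((∃ (n : ℕ) (i : X ⟶ CohB1.ProjSpaceOver n S), IsClosedImmersion i ∧ i ≫ pullback.snd (CohB1.ProjSpace.toSpec n (ULift.{u} ℤ)) (specULiftZIsTerminal.from S) = f) ↔
      (IsProper f ∧ ∃ L : X.Modules, CohB1.IsAmple L)) ∧
    ((IsProper f ∧ ∃ L : X.Modules, CohB1.IsAmple L) ↔ (IsProper f ∧ ∃ L : X.Modules, RelAmple.IsRelAmple f L)) := by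
  obtain ⟨N, hN⟩ := hS
  refine ⟨⟨?_, ?_⟩, ⟨?_, ?_⟩⟩
  · rintro ⟨n, i, himm, hcomp⟩
    let p : CohB1.ProjSpaceOver n S ⟶ S := pullback.snd (CohB1.ProjSpace.toSpec n (ULift.{u} ℤ))
        (specULiftZIsTerminal.from S)
    haveI hp : IsProper p := Groth.Agent.S9705.isProper_toBase n S
    have hcomp' : i ≫ p = f := hcomp
    refine ⟨?_, ?_⟩
    · rw [← hcomp']; infer_instance
    · exact Groth.Agent.Lib.T2H6.VAmpleG.exists_isAmple_of_immersion N hN n i
  · rintro ⟨hpf, L, hL⟩
    obtain ⟨n, i, himm, hcomp⟩ := Groth.Agent.Lib.T2H6.VAmpleG.exists_immersion_of_isAmple f L hL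
    refine ⟨n, i, ?_, hcomp⟩
    let p : CohB1.ProjSpaceOver n S ⟶ S := pullback.snd (CohB1.ProjSpace.toSpec n (ULift.{u} ℤ))
        (specULiftZIsTerminal.from S)
    haveI hp : IsProper p := Groth.Agent.S9705.isProper_toBase n S
    have hcomp' : i ≫ p = f := hcomp
    haveI : IsProper (i ≫ p) := by rw [hcomp']; exact hpf
    have h3 : IsProper i := IsProper.of_comp i p
    rw [IsClosedImmersion.iff_isProper_and_mono]
    exact ⟨h3, inferInstance⟩
  · rintro ⟨hpf, L, hL⟩
    exact ⟨hpf, L, Groth.Agent.Lib.T2H6.VAmpleG.isRelAmple_of_isAmple f L hL⟩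
  · rintro ⟨hpf, L, hL⟩
    obtain ⟨k, hk⟩ := Groth.Agent.Lib.T2H6.VAmpleG.exists_isAmple_of_isRelAmple N hN f L hL
    exact ⟨hpf, _, hk⟩

end Groth.Agent.S1496
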