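import Groth.Statements.S1497
import Mathlib
import Groth.Agent.Lib.T2H6VAmpleG
import Groth.Agent.S9705

set_option autoImplicit false
universe u
attribute [local instance] HasDerivedCategory.standard
open FlatMor

namespace Groth.Agent.S1497

open AlgebraicGeometry CategoryTheory Limits in
/-- Let S be a scheme with an ample invertible sheaf and f : X → S a morphism. Then f is a quasi-compact
immersion into some projective space P^n_S over S if and only if f is of finite type and X has an
ample invertible sheaf. -/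
theorem result {X S : Scheme.{u}} (hS : ∃ N : S.Modules, CohB1.IsAmple N) (f : X ⟶ S) :
    (∃ (n : ℕ) (i : X ⟶ CohB1.ProjSpaceOver n S), IsImmersion i ∧ QuasiCompact i ∧ i ≫ pullback.snd (CohB1.ProjSpace.toSpec n (ULift.{u} ℤ)) (specULiftZIsTerminal.from S) = f) ↔
      (LocallyOfFiniteType f ∧ QuasiCompact f ∧ ∃ L : X.Modules, CohB1.IsAmple L) := by
  obtain ⟨N, hN⟩ := hS
  constructor
  · rintro ⟨n, i, himm, hqc, hcomp⟩
    let p : CohB1.ProjSpaceOver n S ⟶ S := pullback.snd (CohB1.ProjSpace.toSpec n (ULift.{u} ℤ))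
        (specULiftZIsTerminal.from S)
    haveI hp : IsProper p := Groth.Agent.S9705.isProper_toBase n S
    have hcomp' : i ≫ p = f := hcomp
    refine ⟨?_, ?_, ?_⟩
    · rw [← hcomp']; infer_instance
    · rw [← hcomp']; infer_instance
    · exact Groth.Agent.Lib.T2H6.VAmpleG.exists_isAmple_of_immersion N hN n i
  · rintro ⟨hlft, hqc, L, hL⟩
    obtain ⟨n, i, himm, hcomp⟩ := Groth.Agent.Lib.T2H6.VAmpleG.exists_immersion_of_isAmple f L hL
    refine ⟨n, i, himm, ?_, hcomp⟩
    let p : CohB1.ProjSpaceOver n S ⟶ S := pullback.snd (CohB1.ProjSpace.toSpec n (ULift.{u} ℤ))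
        (specULiftZIsTerminal.from S)
    haveI hp : IsProper p := Groth.Agent.S9705.isProper_toBase n S
    have hcomp' : i ≫ p = f := hcomp
    haveI : QuasiCompact (i ≫ p) := by rw [hcomp']; exact hqc
    exact QuasiCompact.of_comp i p

end Groth.Agent.S1497
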