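import Groth.Statements.S14988
import Mathlib
import Groth.Agent.Lib.T2H5RegSES
import Groth.Agent.Lib.Helper1FLF1
import Groth.Agent.Lib.Helper1Sky9
import Groth.Agent.Lib.Helper21ModTensor3
-- import your own Groth.Agent.* helpers here

set_option autoImplicit false
universe u
open CategoryTheory CategoryTheory.Limits AlgebraicGeometry
open ResProp

namespace Groth.Agent.S14988

/-- In the case of schemes, let f : X ⟶ Y be a morphism of quasi-compact quasi-separated schemes. If
every quasi-coherent module on Y is a quotient of a direct sum of finite locally free modules (Y has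
the resolution property) and some family (W_i) of finite locally free modules on X is f-generating,
i.e. every quasi-coherent module on X is a quotient of a direct sum of modules W_i ⊗ f^*N with N
quasi-coherent on Y, then every quasi-coherent module on X is a quotient of a direct sum of finite
locally free modules (X has the resolution property). (The published statement is for quasi-compact
quasi-separated morphisms of algebraic stacks and assumes the family universally f-generating; this
row is the case of schemes and assumes the family only f-generating, which is what the argument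
uses.) -/
theorem result {X Y : Scheme.{u}}
    [CompactSpace X] [QuasiSeparatedSpace X] [CompactSpace Y] [QuasiSeparatedSpace Y] (f : X ⟶ Y)
    (hY : ∀ N : Y.Modules, Coh.IsQCoh N →
      ∃ (κ : Type u) (V : κ → Y.Modules) (π : (∐ V) ⟶ N), (∀ k, FlatMod.IsFinLocFree (V k)) ∧ Epi π)
    {ι : Type u} (W : ι → X.Modules) (hW : ∀ i, FlatMod.IsFinLocFree (W i))
    (hf : ∀ M : X.Modules, Coh.IsQCoh M →
      ∃ (κ : Type u) (j : κ → ι) (N : κ → Y.Modules)
        (π : (∐ fun k => CohB1.tensorMod (W (j k)) ((Scheme.Modules.pullback f).obj (N k))) ⟶ M),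
        (∀ k, Coh.IsQCoh (N k)) ∧ Epi π) :
    ∀ M : X.Modules, Coh.IsQCoh M →
      ∃ (κ : Type u) (E : κ → X.Modules) (π : (∐ E) ⟶ M), (∀ k, FlatMod.IsFinLocFree (E k)) ∧ Epi π := by
  classical
  intro M hM
  obtain ⟨κ, j, N, π, hN, hπ⟩ := hf M hM
  choose κ' V ρ hV hρ using fun k => hY (N k) (hN k)
  -- the functors `G k = W (j k) ⊗ f^*(-)`
  let G : κ → (Y.Modules ⥤ X.Modules) := fun k =>
    Scheme.Modules.pullback f ⋙ Groth.Agent.Lib.T2H5.RegSES.tl (W (j k))
  haveI hpc : PreservesColimitsOfSize.{u, u} (Scheme.Modules.pullback f) :=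
    (Scheme.Modules.pullbackPushforwardAdjunction f).leftAdjoint_preservesColimits
  haveI hGc : ∀ k, PreservesColimitsOfSize.{u, u} (G k) := fun k => by
    haveI : PreservesColimitsOfSize.{u, u} (Groth.Agent.Lib.T2H5.RegSES.tl (W (j k))) :=
      Groth.Agent.Lib.Helper21.ModTensor3.tL_preservesColimits X.sheaf (W (j k))
    exact comp_preservesColimits _ _
  let E : (Σ k : κ, κ' k) → X.Modules := fun p =>
    CohB1.tensorMod (W (j p.1)) ((Scheme.Modules.pullback f).obj (V p.1 p.2))
  let c : ∀ p : (Σ k : κ, κ' k), E p ⟶ M := fun p =>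
    (G p.1).map (Sigma.ι (V p.1) p.2 ≫ ρ p.1) ≫
      Sigma.ι (fun k => CohB1.tensorMod (W (j k)) ((Scheme.Modules.pullback f).obj (N k))) p.1 ≫ π
  refine ⟨(Σ k : κ, κ' k), E, Sigma.desc c, fun p => ?_, ?_⟩
  · exact Groth.Agent.Lib.Helper1.FLF.isFinLocFree_tensor _ _ (hW (j p.1))
      (Groth.Agent.Lib.Helper1.Sky.isFinLocFree_pullback f _ (hV p.1 p.2))
  · constructor
    intro Z a b hab
    haveI := hπ
    rw [← cancel_epi π]
    apply Sigma.hom_ext
    intro k
    -- `G k (ρ k)` is an epimorphism
    haveI : Epi (ρ k) := hρ k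
    haveI : Epi ((G k).map (ρ k)) := inferInstance
    change Sigma.ι (fun k => (G k).obj (N k)) k ≫ π ≫ a = Sigma.ι (fun k => (G k).obj (N k)) k ≫ π ≫ b
    rw [← cancel_epi ((G k).map (ρ k))]
    -- the maps `G k (ι l)` are jointly epimorphic
    have hcolim := isColimitOfPreserves (G k) (coproductIsCoproduct (V k))
    apply hcolim.hom_ext
    rintro ⟨l⟩
    change (G k).map (Sigma.ι (V k) l) ≫ _ = (G k).map (Sigma.ι (V k) l) ≫ _
    have h1 : ∀ z : M ⟶ Z, (G k).map (Sigma.ι (V k) l) ≫ (G k).map (ρ k) ≫
        Sigma.ι (fun k => (G k).obj (N k)) k ≫ π ≫ z = (Sigma.ι E ⟨k, l⟩ ≫ Sigma.desc c) ≫ z := by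
      intro z
      rw [Sigma.ι_desc]
      change _ = ((G k).map (Sigma.ι (V k) l ≫ ρ k) ≫ _ ≫ π) ≫ z
      rw [Functor.map_comp]
      simp only [Category.assoc]
      rfl
    rw [h1 a, h1 b, Category.assoc, Category.assoc, hab]

end Groth.Agent.S14988
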