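import Groth.Statements.S14989
import Mathlib
import Groth.Agent.Lib.T2H5FlatCover
import Groth.Agent.Lib.T2H5ExtSec2
import Groth.Agent.Lib.Helper23StalkLin
-- import your own Groth.Agent.* helpers here

set_option autoImplicit false
set_option linter.style.haveILetI false
universe u
open CategoryTheory CategoryTheory.Limits AlgebraicGeometry
open ResProp

namespace Groth.Agent.S14989

/-- In the case of schemes, on a Noetherian integral scheme Y with affine diagonal (any two affine opens
meet in an affine open) every coherent module is a quotient of a torsion-free coherent module,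
torsion-freeness meaning that each stalk is a torsion-free module over the local ring. (The
published statement is for Noetherian integral algebraic stacks with affine diagonal; this row is
the case of schemes.) -/
theorem result (Y : Scheme.{u}) [IsNoetherian Y] [IsIntegral Y]
    (hd : ∀ V W : Y.Opens, IsAffineOpen V → IsAffineOpen W → IsAffineOpen (V ⊓ W))
    (F : Y.Modules) (hF : Coh.IsCoh F) :
    ∃ (F' : Y.Modules) (π : F' ⟶ F), Coh.IsCoh F' ∧
      (∀ y : Y, NoZeroSMulDivisors ↥(Y.presheaf.stalk y) ↥(F'.presheaf.stalk y)) ∧ Epi π := by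
  classical
  haveI : F.IsQuasicoherent := hF.1
  haveI : SheafOfModules.IsFiniteType (R := Y.ringCatSheaf) F := hF.2
  obtain ⟨P, π, hPq, hPfl, hπ⟩ := Groth.Agent.Lib.T2H5.FlatCover.exists_flat_epi Y hd F hF.1
  haveI : P.IsQuasicoherent := hPq
  haveI := hπ
  obtain ⟨P', i, hi, hP'q, hP'ft, hepi⟩ := Groth.Agent.Lib.T2H5.ExtSec.exists_ft_sub_epi π
  refine ⟨P', i ≫ π, ⟨hP'q, hP'ft⟩, fun y => ?_, hepi⟩
  haveI := hi
  have hinj := Groth.Agent.Lib.Helper23.StalkLin.stalkLin_injective i y
  haveI : Module.Flat (Y.presheaf.stalk y) (P.presheaf.stalk y) := hPfl y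
  refine ⟨fun {c x} hcx => ?_⟩
  by_cases hc : c = 0
  · exact Or.inl hc
  · right
    apply hinj
    rw [map_zero]
    have h1 : c • Groth.Agent.Lib.Helper4.NormDelta.stalkLin i y x = 0 := by
      rw [← map_smul, hcx, map_zero]
    have hreg : IsSMulRegular (P.presheaf.stalk y) c :=
      Module.Flat.isSMulRegular_of_isRegular (IsRegular.of_ne_zero hc)
    exact hreg (by
      change c • Groth.Agent.Lib.Helper4.NormDelta.stalkLin i y x = c • 0
      rw [h1, smul_zero])

end Groth.Agent.S14989
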