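import Groth.Statements.S7168
import Groth.Agent.S6938
import Groth.Agent.S6935

set_option autoImplicit false
universe u
attribute [local instance] HasDerivedCategory.standard
open FlatMor

namespace Groth.Agent.S7168

/-- a pseudo-coherent ring map is of finite presentation -/
theorem finitePresentation_of_pcHom (A B : Type u) [CommRing A] [CommRing B] [Algebra A B]
    (h : MoreMor.IsPseudoCoherentHom A B) : Algebra.FinitePresentation A B := by
  obtain ⟨n, φ, hφ, hpc⟩ := h
  letI := φ.toRingHom.toAlgebra
  have h1 : DRing.IsPseudoCoherentModule (MvPolynomial (Fin n) A) (-1) B :=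
    Groth.Agent.S6938.isPC_of_pc' _ hpc (-1)
  have h2 : Module.FinitePresentation (MvPolynomial (Fin n) A) B :=
    ((Groth.Agent.S6935.result (MvPolynomial (Fin n) A) B).2).1 h1
  -- the kernel of `φ` is finitely generated
  let ψ : MvPolynomial (Fin n) A →ₗ[MvPolynomial (Fin n) A] B :=
    Algebra.linearMap (MvPolynomial (Fin n) A) B
  have hψ : Function.Surjective ψ := hφ
  have hker : (LinearMap.ker ψ).FG := Module.FinitePresentation.fg_ker ψ hψ
  have hker' : (RingHom.ker φ.toRingHom).FG := by
    have : (RingHom.ker φ.toRingHom) = LinearMap.ker ψ := by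
      ext x
      simp [ψ, RingHom.mem_ker, RingHom.algebraMap_toAlgebra]
    rw [this]
    exact hker
  exact Algebra.FinitePresentation.of_surjective (f := φ) hφ hker'

open AlgebraicGeometry CategoryTheory Limits in
/-- A pseudo-coherent morphism of schemes is locally of finite presentation. -/
theorem result {X S : Scheme.{u}} (f : X ⟶ S) (hf : MoreMor.IsPseudoCoherentMor f) :
    LocallyOfFinitePresentation f := by
  rw [HasRingHomProperty.iff_appLE (P := @LocallyOfFinitePresentation)]
  intro U V e
  have h := hf V.1 U.1 V.2 U.2 e
  letI := (f.appLE U.1 V.1 e).hom.toAlgebra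
  have := finitePresentation_of_pcHom _ _ h
  rw [RingHom.FinitePresentation]
  convert this

end Groth.Agent.S7168
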