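import Groth.Statements.S15070
import Groth.Agent.Lib.T2H3ReflexiveHom
import Groth.Agent.Lib.Helper6SmRegSch
import Groth.Agent.Lib.Helper7Dim
import Groth.Agent.Lib.T2H7ReflSyz
import Groth.Agent.Lib.Helper23StalkLin
import Groth.Agent.Lib.Helper2RankLoc
import Groth.Agent.S6872

set_option autoImplicit false
set_option linter.style.haveILetI false
universe u
open CategoryTheory CategoryTheory.Limits AlgebraicGeometry
open OrdSurf

namespace Groth.Agent.S15070

/-- Let k be an algebraically closed field of characteristic zero and X a smooth projective surface over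
k (an integral k-scheme, smooth over k, of dimension two, admitting a closed immersion over k into
some projective space P^n_k). Let N be a coherent O_X-module all of whose stalks are torsion-free
modules over the local rings, M a finite locally free O_X-module and φ : M → N an epimorphism of
O_X-modules. Then the kernel of φ is a finite locally free O_X-module. -/
theorem result (k : Type u) [Field k] [IsAlgClosed k] [CharZero k]
    (X : Scheme.{u}) [X.Over (Spec (CommRingCat.of k))] [IsIntegral X]
    [Smooth (X ↘ Spec (CommRingCat.of k))] (hdim : topologicalKrullDim X = 2)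
    (hproj : ∃ (n : ℕ) (ι : X ⟶ CohB1.ProjSpace n k), IsClosedImmersion ι ∧
      ι ≫ CohB1.ProjSpace.toSpec n k = X ↘ Spec (CommRingCat.of k))
    (N : X.Modules) (hN : Coh.IsCoh N) (hNtf : TorSh.IsTorsionFree N)
    (M : X.Modules) (hM : FlatMod.IsFinLocFree M) (φ : M ⟶ N) [Epi φ] :
    FlatMod.IsFinLocFree (kernel φ) := by
  haveI : IsLocallyNoetherian (Spec (CommRingCat.of k)) := inferInstance
  haveI : IsLocallyNoetherian X :=
    LocallyOfFiniteType.isLocallyNoetherian (X ↘ Spec (CommRingCat.of k))
  haveI hMfp : SheafOfModules.IsFinitePresentation (R := X.ringCatSheaf) M :=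
    Groth.Agent.Lib.Helper2.LocFree.isFP_of_isFinLocFree M hM
  have hMc : Coh.IsCoh M := ⟨inferInstance, inferInstance⟩
  obtain ⟨K, hK⟩ : ∃ K : X.Modules, K = kernel φ := ⟨_, rfl⟩
  have hKc : Coh.IsCoh K := hK ▸ Groth.Agent.Lib.T2H5.GenIsoB.isCoh_kernel φ hMc hN
  haveI : K.IsQuasicoherent := hKc.1
  haveI : SheafOfModules.IsFiniteType (R := X.ringCatSheaf) K := hKc.2
  haveI : SheafOfModules.IsFinitePresentation (R := X.ringCatSheaf) K :=
    Groth.Agent.Lib.T2H3.HomShQCoh.isFP_of_isCoh _ hKc
  rw [← hK]
  haveI : M.IsQuasicoherent := hMc.1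
  intro x
  apply Groth.Agent.Lib.Helper2.LocFree.exists_restrict_iso_freeMod_of_isFlatAt K x
  subst hK
  -- the stalk of the kernel is reflexive over a regular local ring of dimension ≤ 2
  haveI : IsRegularLocalRing (X.presheaf.stalk x) :=
    Groth.Agent.Lib.Helper6.SmRegSch.isRegularLocalRing_stalk_of_smooth_over_field k X
      (X ↘ Spec (CommRingCat.of k)) x
  have hd : ringKrullDim (X.presheaf.stalk x) ≤ 2 := by
    rw [ringKrullDim_stalk_eq_coheight, ← hdim,
      Groth.Agent.Lib.Helper7.topologicalKrullDim_eq_krullDim_points]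
    exact Order.coheight_le_krullDim x
  haveI : Module.Finite (X.presheaf.stalk x) ((kernel φ).presheaf.stalk x) :=
    Groth.Agent.Lib.T2H3.ReflexiveHom.finite_stalk_of_isCoh _ hKc x
  haveI : Module.Finite (X.presheaf.stalk x) (M.presheaf.stalk x) :=
    Groth.Agent.Lib.T2H3.ReflexiveHom.finite_stalk_of_isCoh _ hMc x
  haveI : Module.Finite (X.presheaf.stalk x) (N.presheaf.stalk x) :=
    Groth.Agent.Lib.T2H3.ReflexiveHom.finite_stalk_of_isCoh _ hN x
  haveI : Module.IsTorsionFree (X.presheaf.stalk x) (N.presheaf.stalk x) := hNtf x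
  haveI : Module.Free (X.presheaf.stalk x) (M.presheaf.stalk x) := by
    obtain ⟨U, n, hxU, ⟨e⟩⟩ := hM x
    exact (Groth.Agent.Lib.Helper2.RankLoc.fibreRank_eq_of_restrict_iso_freeMod U.ι M e ⟨x, hxU⟩).1
  let S : ShortComplex X.Modules := ShortComplex.mk (kernel.ι φ) φ (kernel.condition φ)
  have hS : S.ShortExact :=
    { exact := ShortComplex.exact_of_f_is_kernel S (kernelIsKernel φ)
      mono_f := (inferInstance : Mono (kernel.ι φ))
      epi_g := (inferInstance : Epi φ) }
  haveI : Mono S.f := hS.mono_f
  have hinj := Groth.Agent.Lib.Helper23.StalkLin.stalkLin_injective S.f x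
  have hex := Groth.Agent.Lib.Helper23.StalkLin.stalkLin_exact S hS x
  haveI : Module.IsReflexive (X.presheaf.stalk x) ((kernel φ).presheaf.stalk x) :=
    Groth.Agent.S6872.result (X.presheaf.stalk x)
      (Groth.Agent.Lib.Helper4.NormDelta.stalkLin S.f x)
      (Groth.Agent.Lib.Helper4.NormDelta.stalkLin S.g x) hinj hex
  haveI : Module.Projective (X.presheaf.stalk x) ((kernel φ).presheaf.stalk x) :=
    Groth.Agent.Lib.T2H7.ReflSyz.projective_of_isReflexive_of_regular_dim_le_two _ hd _
  exact (inferInstance : Module.Flat (X.presheaf.stalk x) ((kernel φ).presheaf.stalk x))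

end Groth.Agent.S15070
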