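import Groth.Statements.S15075
import Groth.Agent.Lib.T2H2OrdStalk

set_option autoImplicit false
universe u
open CategoryTheory CategoryTheory.Limits AlgebraicGeometry TopologicalSpace Opposite
open OrdSurf

namespace Groth.Agent.S15075
open Groth.Agent.Lib.T2H2.RatFun Groth.Agent.Lib.T2H2.OrdStalk

/-- Let k be an algebraically closed field of characteristic zero and X a smooth projective surface over
k (an integral k-scheme, smooth over k, of dimension two, admitting a closed immersion over k into
some projective space P^n_k), with generic point η. Let A be a sheaf of rings on X with a morphism φ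
: O_X → A of sheaves of rings with central image (a sheaf of O_X-algebras) whose generic stalk A_η
is a division ring, i.e. simple as a left module over itself. Let M and N be sheaves of A-modules
whose underlying O_X-modules (through φ) are coherent with torsion-free stalks, and whose generic
stalks M_η and N_η are simple A_η-modules (one-dimensional over the division ring A_η). Then every
nonzero morphism of sheaves of A-modules M → N is a monomorphism. (The published statement takes A
to be an order on X — coherent and torsion-free over O_X with A_η a central division algebra over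
k(X) — and M, N torsion-free A-modules of rank one; of these hypotheses only the ones listed are
assumed here, the others playing no role in the argument.) -/
theorem result (k : Type u) [Field k] [IsAlgClosed k] [CharZero k]
    (X : Scheme.{u}) [X.Over (Spec (CommRingCat.of k))] [IsIntegral X]
    [Smooth (X ↘ Spec (CommRingCat.of k))] (hdim : topologicalKrullDim X = 2)
    (hproj : ∃ (n : ℕ) (ι : X ⟶ CohB1.ProjSpace n k), IsClosedImmersion ι ∧
      ι ≫ CohB1.ProjSpace.toSpec n k = X ↘ Spec (CommRingCat.of k))
    (A : Sheaf (Opens.grothendieckTopology X) RingCat.{u}) (φ : X.ringCatSheaf ⟶ A)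
    (hcen : ∀ (U : (Opens X)ᵒᵖ) (s : X.ringCatSheaf.obj.obj U) (a : A.obj.obj U),
      φ.hom.app U s * a = a * φ.hom.app U s)
    (hAη : IsSimpleModule (↑(TopCat.Presheaf.stalk (C := RingCat.{u}) (X := X.carrier) A.obj (genericPoint X))) (↑(TopCat.Presheaf.stalk (C := RingCat.{u}) (X := X.carrier) A.obj (genericPoint X))))
    (M N : SheafOfModules.{u} A)
    (hMc : Coh.IsCoh (X := X) ((SheafOfModules.restrictScalars φ).obj M))
    (hNc : Coh.IsCoh (X := X) ((SheafOfModules.restrictScalars φ).obj N))
    (hMt : TorSh.IsTorsionFree (X := X) ((SheafOfModules.restrictScalars φ).obj M))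
    (hNt : TorSh.IsTorsionFree (X := X) ((SheafOfModules.restrictScalars φ).obj N))
    (hMη : IsSimpleModule (↑(TopCat.Presheaf.stalk (C := RingCat.{u}) (X := X.carrier) A.obj (genericPoint X))) (↑(TopCat.Presheaf.stalk (C := Ab.{u}) (X := X.carrier) M.val.presheaf (genericPoint X))))
    (hNη : IsSimpleModule (↑(TopCat.Presheaf.stalk (C := RingCat.{u}) (X := X.carrier) A.obj (genericPoint X))) (↑(TopCat.Presheaf.stalk (C := Ab.{u}) (X := X.carrier) N.val.presheaf (genericPoint X))))
    (ψ : M ⟶ N) (hψ : ψ ≠ 0) : Mono ψ := by
  have hMq : (und A φ M).IsQuasicoherent := hMc.1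
  have hNq : (und A φ N).IsQuasicoherent := hNc.1
  -- sections of torsion-free modules inject into the generic stalk; sections over opens missing η vanish
  have hinjM : ∀ (U : X.Opens) (hU : genericPoint X ∈ U),
      Function.Injective (TopCat.Presheaf.germ M.val.presheaf U (genericPoint X) hU) :=
    fun U hU => germ_genericPoint_injective (und A φ M) hMt hU
  have hinjN : ∀ (U : X.Opens) (hU : genericPoint X ∈ U),
      Function.Injective (TopCat.Presheaf.germ N.val.presheaf U (genericPoint X) hU) :=
    fun U hU => germ_genericPoint_injective (und A φ N) hNt hU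
  have hzero : ∀ (P : X.Modules) (U : X.Opens), genericPoint X ∉ U → ∀ t : Γ(P, U), t = 0 := by
    intro P U hU t
    apply Groth.Agent.Lib.Helper2.QcPush.section_eq_zero_of_germ
    intro x hx
    exact absurd (((genericPoint_spec X).mem_open_set_iff U.2).2 ⟨x, trivial, hx⟩) hU
  -- the kernel of the generic stalk map
  let K : Submodule (↑(TopCat.Presheaf.stalk (C := RingCat.{u}) (X := X.carrier) A.obj (genericPoint X)))
      (↑(TopCat.Presheaf.stalk (C := Ab.{u}) (X := X.carrier) M.val.presheaf (genericPoint X))) :=
    { carrier := {m | stalkMap A ψ (genericPoint X) m = 0}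
      add_mem' := fun {a b} ha hb => by
        change stalkMap A ψ (genericPoint X) (a + b) = 0
        rw [map_add, ha, hb, add_zero]
      zero_mem' := map_zero _
      smul_mem' := fun c m hm => by
        change stalkMap A ψ (genericPoint X) (c • m) = 0
        rw [stalkMap_smul, hm, smul_zero] }
  rcases eq_bot_or_eq_top K with hK | hK
  · -- injective generic stalk map
    have key1 : ∀ (U : (Opens X)ᵒᵖ) (s : M.val.obj U), (ψ.val.app U).hom s = 0 → s = 0 := by
      intro U s hs
      by_cases hU : genericPoint X ∈ U.unop
      · have h1 : TopCat.Presheaf.germ M.val.presheaf U.unop (genericPoint X) hU s ∈ K := by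
          change stalkMap A ψ (genericPoint X) _ = 0
          rw [stalkMap_germ]
          exact (congrArg _ hs).trans (map_zero _)
        rw [hK] at h1
        exact hinjM U.unop hU (((Submodule.mem_bot _).1 h1).trans (map_zero _).symm)
      · exact hzero (und A φ M) U.unop hU s
    let F := SheafOfModules.forget A ⋙ PresheafOfModules.toPresheaf A.obj
    have : Mono (F.map ψ) := by
      apply (config := { allowSynthFailures := true }) NatTrans.mono_of_mono_app
      intro U
      rw [AddCommGrpCat.mono_iff_injective, injective_iff_map_eq_zero]
      intro s hs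
      exact key1 U s hs
    exact F.mono_of_mono_map this
  · exfalso
    have key2 : ∀ (U : (Opens X)ᵒᵖ) (s : M.val.obj U), (ψ.val.app U).hom s = 0 := by
      intro U s
      by_cases hU : genericPoint X ∈ U.unop
      · have h1 : TopCat.Presheaf.germ M.val.presheaf U.unop (genericPoint X) hU s ∈ K := by
          rw [hK]; trivial
        have h2 : stalkMap A ψ (genericPoint X)
            (TopCat.Presheaf.germ M.val.presheaf U.unop (genericPoint X) hU s) = 0 := h1
        rw [stalkMap_germ] at h2
        exact hinjN U.unop hU (h2.trans (map_zero _).symm)
      · exact hzero (und A φ N) U.unop hU _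
    apply hψ
    let F := SheafOfModules.forget A ⋙ PresheafOfModules.toPresheaf A.obj
    apply F.map_injective
    ext U s
    exact key2 U s

end Groth.Agent.S15075
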