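import Groth.Statements.S15100
import Mathlib

set_option autoImplicit false
universe u
open TensorProduct
open CAlg

namespace Groth.Agent.S15100

theorem eq_zero_of_free {R F M : Type*} [CommRing R] [IsLocalRing R] [AddCommGroup F] [Module R F]
    [Module.Finite R F] [AddCommGroup M] [Module R M] [Module.Free R M]
    (β : F →ₗ[R] M) (hβ : Function.Surjective β) (v : F)
    (hker : LinearMap.ker β = Submodule.span R {v})
    (hv : v ∈ (IsLocalRing.maximalIdeal R • ⊤ : Submodule R F)) : v = 0 := by
  obtain ⟨s, hs⟩ := Module.projective_lifting_property β LinearMap.id hβ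
  have hs' : ∀ y, β (s y) = y := fun y => LinearMap.congr_fun hs y
  have htop : (⊤ : Submodule R F) ≤ LinearMap.range s := by
    apply Submodule.le_of_le_smul_of_le_jacobson_bot Module.Finite.fg_top
      (IsLocalRing.maximalIdeal_le_jacobson ⊥)
    intro x _
    have h1 : x - s (β x) ∈ LinearMap.ker β := by
      rw [LinearMap.mem_ker, map_sub, hs', sub_self]
    rw [hker] at h1
    have h2 : x - s (β x) ∈ (IsLocalRing.maximalIdeal R • ⊤ : Submodule R F) :=
      (Submodule.span_le.mpr (Set.singleton_subset_iff.mpr hv)) h1
    have : x = s (β x) + (x - s (β x)) := by abel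
    rw [this]
    exact Submodule.add_mem_sup ⟨_, rfl⟩ h2
  obtain ⟨y, rfl⟩ := htop (Submodule.mem_top (x := v))
  have h0 : β (s y) = 0 := by
    have : s y ∈ LinearMap.ker β := by rw [hker]; exact Submodule.mem_span_singleton_self _
    exact this
  rw [hs'] at h0
  rw [h0, map_zero]

theorem projective_of_unit {R F M : Type*} [CommRing R] [AddCommGroup F] [Module R F]
    [Module.Projective R F] [AddCommGroup M] [Module R M]
    (β : F →ₗ[R] M) (hβ : Function.Surjective β) (v : F)
    (hker : LinearMap.ker β = Submodule.span R {v}) (φ : F →ₗ[R] R) (hφ : IsUnit (φ v)) :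
    Module.Projective R M := by
  obtain ⟨c, hc⟩ := hφ.exists_left_inv
  have hβv : β v = 0 := by
    have : v ∈ LinearMap.ker β := by rw [hker]; exact Submodule.mem_span_singleton_self _
    exact this
  let ρ : F →ₗ[R] F := LinearMap.id - (LinearMap.toSpanSingleton R F v).comp (c • φ)
  have hρ : ∀ x, ρ x = x - (c * φ x) • v := fun x => by
    simp [ρ, LinearMap.toSpanSingleton_apply]
  have hρv : ρ v = 0 := by rw [hρ, hc, one_smul, sub_self]
  have hρker : LinearMap.ker β ≤ LinearMap.ker ρ := by
    rw [hker, Submodule.span_le, Set.singleton_subset_iff]; exact hρv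
  let s : M →ₗ[R] F :=
    (LinearMap.ker β).liftQ ρ hρker ∘ₗ (β.quotKerEquivOfSurjective hβ).symm.toLinearMap
  have hs : ∀ x, s (β x) = ρ x := by
    intro x
    have : (β.quotKerEquivOfSurjective hβ).symm (β x) = Submodule.Quotient.mk x := by
      rw [LinearEquiv.symm_apply_eq]; rfl
    simp only [s, LinearMap.comp_apply, LinearEquiv.coe_coe, this, Submodule.liftQ_apply]
  refine Module.Projective.of_split s β ?_
  ext y
  obtain ⟨x, rfl⟩ := hβ y
  rw [LinearMap.comp_apply, hs, hρ, map_sub, map_smul, hβv, smul_zero, sub_zero,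
    LinearMap.id_apply]

theorem ker_localized {A F M : Type*} [CommRing A] [AddCommGroup F] [Module A F]
    [AddCommGroup M] [Module A M] (S : Submonoid A) (β : F →ₗ[A] M) (v : F)
    (hker : LinearMap.ker β = Submodule.span A {v}) :
    LinearMap.ker (LocalizedModule.map S β) =
      Submodule.span (Localization S) {LocalizedModule.mk v 1} := by
  have hβv : β v = 0 := by
    have : v ∈ LinearMap.ker β := by rw [hker]; exact Submodule.mem_span_singleton_self _
    exact this
  apply le_antisymm
  · intro z hz
    induction z using LocalizedModule.induction_on with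
    | h x s =>
      rw [LinearMap.mem_ker, LocalizedModule.map_mk, ← LocalizedModule.zero_mk s,
        LocalizedModule.mk_eq] at hz
      obtain ⟨t, ht⟩ := hz
      have h1 : (t * s : S) • x ∈ LinearMap.ker β := by
        rw [LinearMap.mem_ker, Submonoid.smul_def, map_smul, Submonoid.coe_mul, mul_smul]
        have := ht
        simp only [smul_zero, Submonoid.smul_def] at this
        exact this
      rw [hker, Submodule.mem_span_singleton] at h1
      obtain ⟨c, hc⟩ := h1
      rw [Submodule.mem_span_singleton]
      refine ⟨Localization.mk c (t * s * s), ?_⟩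
      rw [LocalizedModule.mk_smul_mk, mul_one, hc, LocalizedModule.mk_cancel_common_left]
  · rw [Submodule.span_le, Set.singleton_subset_iff, SetLike.mem_coe, LinearMap.mem_ker,
      LocalizedModule.map_mk, hβv, LocalizedModule.zero_mk]


/-- Let V be a discrete valuation ring with uniformizer u and V → R → A commutative V-algebras with A an
R-algebra compatibly; assume A is a Noetherian local domain of Krull dimension 3 with u in its
maximal ideal, that Ω_{A/V} is a free A-module of rank 2 and that A ⊗_R Ω_{R/V} is a free A-module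
of rank 1. Suppose that on the special fibre Ω_{A/R} is locally free exactly away from the closed
point: for every prime P of A containing u other than the maximal ideal the localization (Ω_{A/R})_P
is free over A_P, while Ω_{A/R} is not free over A. Then Ω_{A/R} is not locally free on the generic
fibre: there is a prime Q of A not containing u with (Ω_{A/R})_Q not free over A_Q. (In the
published statement R is a regular local ring of dimension 2 and A a local ring of dimension 3, both
smooth over V, which yields the two freeness hypotheses used here, and the hypothesis is phrased as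
local freeness of Ω of the special fibre of A over that of R away from the closed point.) -/
theorem result
    (V R A : Type u) [CommRing V] [IsDomain V] [IsDiscreteValuationRing V] [CommRing R] [CommRing A]
    [IsDomain A] [IsNoetherianRing A] [IsLocalRing A]
    [Algebra V R] [Algebra V A] [Algebra R A] [IsScalarTower V R A]
    (u : V) (hu : Irreducible u) (huA : algebraMap V A u ∈ IsLocalRing.maximalIdeal A)
    (hdimA : ringKrullDim A = 3)
    (hΩA : Module.Free A (Ω[A⁄V])) (hrkA : Module.finrank A (Ω[A⁄V]) = 2)
    (hΩR : Module.Free A (A ⊗[R] Ω[R⁄V])) (hrkR : Module.finrank A (A ⊗[R] Ω[R⁄V]) = 1)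
    (h0 : ∀ P : PrimeSpectrum A, algebraMap V A u ∈ P.asIdeal → P.asIdeal ≠ IsLocalRing.maximalIdeal A →
      Module.Free (Localization.AtPrime P.asIdeal) (LocalizedModule P.asIdeal.primeCompl (Ω[A⁄R])))
    (hm : ¬ Module.Free A (Ω[A⁄R])) :
    ∃ Q : PrimeSpectrum A, algebraMap V A u ∉ Q.asIdeal ∧
      ¬ Module.Free (Localization.AtPrime Q.asIdeal) (LocalizedModule Q.asIdeal.primeCompl (Ω[A⁄R])) := by
  classical
  haveI := hΩA
  haveI := hΩR
  haveI : Module.Finite A (Ω[A⁄V]) := Module.finite_of_finrank_pos (by rw [hrkA]; norm_num)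
  haveI : Module.Finite A (A ⊗[R] Ω[R⁄V]) :=
    Module.finite_of_finrank_pos (by rw [hrkR]; norm_num)
  -- the presentation
  set α : A ⊗[R] Ω[R⁄V] →ₗ[A] Ω[A⁄V] := KaehlerDifferential.mapBaseChange V R A with hα
  set β : Ω[A⁄V] →ₗ[A] Ω[A⁄R] := KaehlerDifferential.map V R A A with hβdef
  have hβ : Function.Surjective β := KaehlerDifferential.map_surjective V R A
  have hex : Function.Exact α β := KaehlerDifferential.exact_mapBaseChange_map V R A
  haveI : Module.Finite A (Ω[A⁄R]) := Module.Finite.of_surjective β hβ
  let b₁ : Module.Basis (Fin 1) A (A ⊗[R] Ω[R⁄V]) := Module.finBasisOfFinrankEq A _ hrkR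
  let b₂ : Module.Basis (Fin 2) A (Ω[A⁄V]) := Module.finBasisOfFinrankEq A _ hrkA
  set v : Ω[A⁄V] := α (b₁ 0) with hvdef
  have hker : LinearMap.ker β = Submodule.span A {v} := by
    rw [hex.linearMap_ker_eq, LinearMap.range_eq_map, ← b₁.span_eq, Submodule.map_span]
    congr 1
    ext x
    simp only [Set.mem_image, Set.mem_range, Set.mem_singleton_iff]
    constructor
    · rintro ⟨_, ⟨i, rfl⟩, rfl⟩
      rw [Subsingleton.elim i 0]
    · rintro rfl
      exact ⟨_, ⟨0, rfl⟩, rfl⟩
  set a : A := b₂.repr v 0 with ha
  set b : A := b₂.repr v 1 with hb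
  have hvab : v = a • b₂ 0 + b • b₂ 1 := by
    conv_lhs => rw [← b₂.sum_repr v]
    rw [Fin.sum_univ_two]
  -- `v ≠ 0`
  have hv0 : v ≠ 0 := by
    intro h0v
    apply hm
    have hinj : Function.Injective β := by
      rw [← LinearMap.ker_eq_bot, hker, h0v]
      simp
    exact Module.Free.of_equiv (LinearEquiv.ofBijective β ⟨hinj, hβ⟩)
  have hnotunit : ∀ (i : Fin 2), b₂.repr v i ∈ IsLocalRing.maximalIdeal A := by
    intro i
    by_contra hi
    have hu : IsUnit (b₂.coord i v) := by
      rw [Module.Basis.coord_apply]
      exact IsLocalRing.notMem_maximalIdeal.mp hi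
    haveI : Module.Projective A (Ω[A⁄R]) := projective_of_unit β hβ v hker (b₂.coord i) hu
    haveI : Module.FinitePresentation A (Ω[A⁄R]) := Module.finitePresentation_of_projective A _
    exact hm Module.free_of_flat_of_isLocalRing
  set I : Ideal A := Ideal.span (({a, b} : Finset A) : Set A) with hI
  have haI : a ∈ I := Ideal.subset_span (by simp)
  have hbI : b ∈ I := Ideal.subset_span (by simp)
  have hIm : I ≤ IsLocalRing.maximalIdeal A := by
    rw [hI, Ideal.span_le]
    intro x hx
    simp only [Finset.coe_insert, Finset.coe_singleton, Set.mem_insert_iff,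
      Set.mem_singleton_iff] at hx
    rcases hx with rfl | rfl
    · exact hnotunit 0
    · exact hnotunit 1
  have hItop : I ≠ ⊤ := fun h => (IsLocalRing.maximalIdeal.isMaximal A).ne_top
    (top_le_iff.mp (h ▸ hIm))
  -- not free at primes containing `I`
  have not_free_at : ∀ (Q : Ideal A) [Q.IsPrime], I ≤ Q →
      ¬ Module.Free (Localization.AtPrime Q) (LocalizedModule Q.primeCompl (Ω[A⁄R])) := by
    intro Q _ hIQ hfree
    have hmem : (LocalizedModule.mk v 1 : LocalizedModule Q.primeCompl (Ω[A⁄V])) ∈
        (IsLocalRing.maximalIdeal (Localization.AtPrime Q) • ⊤ :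
          Submodule (Localization.AtPrime Q) (LocalizedModule Q.primeCompl (Ω[A⁄V]))) := by
      have h1 : (LocalizedModule.mk v 1 : LocalizedModule Q.primeCompl (Ω[A⁄V])) =
          algebraMap A (Localization.AtPrime Q) a •
            (LocalizedModule.mk (b₂ 0) 1 : LocalizedModule Q.primeCompl (Ω[A⁄V])) +
          algebraMap A (Localization.AtPrime Q) b •
            (LocalizedModule.mk (b₂ 1) 1 : LocalizedModule Q.primeCompl (Ω[A⁄V])) := by
        rw [algebraMap_smul, algebraMap_smul, LocalizedModule.smul'_mk, LocalizedModule.smul'_mk,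
          LocalizedModule.mk_add_mk, one_smul, one_smul, mul_one, ← hvab]
      rw [h1]
      refine Submodule.add_mem _ (Submodule.smul_mem_smul ?_ Submodule.mem_top)
        (Submodule.smul_mem_smul ?_ Submodule.mem_top)
      · exact (IsLocalization.AtPrime.to_map_mem_maximal_iff (Localization.AtPrime Q) Q a).mpr
          (hIQ haI)
      · exact (IsLocalization.AtPrime.to_map_mem_maximal_iff (Localization.AtPrime Q) Q b).mpr
          (hIQ hbI)
    haveI : Module.Free (Localization.AtPrime Q) (LocalizedModule Q.primeCompl (Ω[A⁄R])) := hfree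
    have h0 := eq_zero_of_free (LocalizedModule.map Q.primeCompl β)
      (LocalizedModule.map_surjective Q.primeCompl β hβ) (LocalizedModule.mk v 1)
      (ker_localized Q.primeCompl β v hker) hmem
    rw [← LocalizedModule.zero_mk (1 : Q.primeCompl), LocalizedModule.mk_eq] at h0
    obtain ⟨t, ht⟩ := h0
    simp only [one_smul, smul_zero, Submonoid.smul_def] at ht
    have ht0 : (t : A) ≠ 0 := fun h => t.2 (h ▸ Q.zero_mem)
    exact hv0 ((smul_eq_zero.mp ht).resolve_left ht0)
  obtain ⟨Q, hQ⟩ := Ideal.nonempty_minimalPrimes hItop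
  haveI hQp : Q.IsPrime := hQ.1.1
  have hIQ : I ≤ Q := hQ.1.2
  have hht : Q.height ≤ 2 := by
    have h1 := Ideal.height_le_card_of_mem_minimalPrimes_span_finset (s := {a, b}) hQ
    refine h1.trans ?_
    exact_mod_cast Finset.card_le_two
  have hQne : Q ≠ IsLocalRing.maximalIdeal A := by
    intro h
    have h3 : ((IsLocalRing.maximalIdeal A).height : WithBot ℕ∞) = 3 := by
      rw [IsLocalRing.maximalIdeal_height_eq_ringKrullDim, hdimA]
    rw [← h] at h3
    have h4 : Q.height = 3 := by
      rw [show (3 : WithBot ℕ∞) = ((3 : ℕ∞) : WithBot ℕ∞) from rfl] at h3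
      exact WithBot.coe_injective h3
    rw [h4] at hht
    exact absurd hht (by norm_num)
  refine ⟨⟨Q, hQp⟩, ?_, not_free_at Q hIQ⟩
  intro huQ
  exact not_free_at Q hIQ (h0 ⟨Q, hQp⟩ huQ hQne)

end Groth.Agent.S15100
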