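import Groth.Statements.S1512
import Groth.Agent.Lib.T2H2PerfSrc

set_option autoImplicit false
universe u
attribute [local instance] HasDerivedCategory.standard
open FlatMor

namespace Groth.Agent.S1512

open AlgebraicGeometry CategoryTheory Limits in
/-- Let a : X' → X be flat, surjective and locally of finite presentation and f : X → S. Then f is
perfect if and only if a ≫ f is. -/
theorem result {X X' S : Scheme.{u}} (f : X ⟶ S) (a : X' ⟶ X) [Flat a] [Surjective a] [LocallyOfFinitePresentation a] :
    MoreMor.IsPerfectMor f ↔ MoreMor.IsPerfectMor (a ≫ f) := by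
  constructor
  · intro hf
    exact Groth.Agent.Lib.T2H7.PerfLocal.perfMor_comp a f
      (Groth.Agent.Lib.T2H7.PerfKos.perfMor_of_flat_lfp a) hf
  · intro h
    exact Groth.Agent.Lib.T2H2.PerfSrc.perfMor_of_fppf_cover_source a f h

end Groth.Agent.S1512
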