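import Groth.Statements.S1527
import Mathlib
import Groth.Agent.S0047
import Groth.Agent.Lib.T2H5Dim0
import Groth.Agent.Lib.T2H5Dim0c
-- import your own Groth.Agent.* helpers here

set_option autoImplicit false
universe u
open CategoryTheory CategoryTheory.Limits AlgebraicGeometry
open Variety

namespace Groth.Agent.S1527

/-- On a proper scheme over a field, a coherent module whose support has dimension at most zero is
globally generated (a quotient of a free module). -/
theorem result (k : Type u) [Field k] (X : Scheme.{u}) [X.Over (Spec (CommRingCat.of k))] [IsProper (X ↘ (Spec (CommRingCat.of k)))]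
    (F : X.Modules) (hF : Coh.IsCoh F) (hsupp : topologicalKrullDim (CohB1.support F) ≤ 0) :
    Curv2.IsGloballyGenerated F := by
  have : IsLocallyNoetherian X :=
    LocallyOfFiniteType.isLocallyNoetherian (X ↘ (Spec (CommRingCat.of k)))
  have hZ : IsClosed (CohB1.support F) := Groth.Agent.S0020.result X F hF.2
  exact Groth.Agent.Lib.T2H5.Dim0.isGloballyGenerated_of_closed_points F hF
    (fun x hx => Groth.Agent.Lib.T2H5.Dim0.isClosed_singleton_of_mem _ hZ hsupp x hx)

end Groth.Agent.S1527
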