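-- Statement S15316: ArLef.NodeAlg.ringEquiv_stabilizes_or_switches
import Groth.Statements.S15316
import Mathlib
import Groth.Agent.Lib.T2H7NodeAlg

set_option autoImplicit false
universe u
open ArLef ArLef.NodeAlg

namespace Groth.Agent.S15316

open Groth.Agent.Lib.T2H7.NodeAlg in
/-- Let B be a discrete valuation ring with uniformizer π and N = B[[t, e]]/(te - π) the complete local
ring of a semi-stable arithmetic surface at a singular point of the closed fibre. A ring
automorphism σ of N with σ(π) associated to π (for instance a B-algebra automorphism, or one lying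
over an automorphism of B) either stabilizes the two branches, σ(t) = α t and σ(e) = β e for units
α, β, or switches them, σ(t) = α e and σ(e) = β t for units α, β. (The published setting has B
complete with algebraically closed residue field and σ linear over B or over an automorphism of B;
the argument uses only that σ(π) generates (π).) -/
theorem result (B : Type u) [CommRing B] [IsDomain B] [IsDiscreteValuationRing B] (π : B) (hπ : Irreducible π)
    (σ : ArLef.NodeAlg B π ≃+* ArLef.NodeAlg B π)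
    (hσ : Associated (σ (algebraMap B (ArLef.NodeAlg B π) π)) (algebraMap B (ArLef.NodeAlg B π) π)) :
    (∃ α β : (ArLef.NodeAlg B π)ˣ, σ (ArLef.NodeAlg.t π) = (α : ArLef.NodeAlg B π) * ArLef.NodeAlg.t π ∧ σ (ArLef.NodeAlg.e π) = (β : ArLef.NodeAlg B π) * ArLef.NodeAlg.e π) ∨
      (∃ α β : (ArLef.NodeAlg B π)ˣ, σ (ArLef.NodeAlg.t π) = (α : ArLef.NodeAlg B π) * ArLef.NodeAlg.e π ∧ σ (ArLef.NodeAlg.e π) = (β : ArLef.NodeAlg B π) * ArLef.NodeAlg.t π) := by
  haveI := isDomain_nodeAlg π hπ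
  have ht : Prime (ArLef.NodeAlg.t π) := var_prime π hπ 0
  have he : Prime (ArLef.NodeAlg.e π) := var_prime π hπ 1
  have hσt : Prime (σ (ArLef.NodeAlg.t π)) := (MulEquiv.prime_iff σ.toMulEquiv).mpr ht
  have hσe : Prime (σ (ArLef.NodeAlg.e π)) := (MulEquiv.prime_iff σ.toMulEquiv).mpr he
  have hte : ArLef.NodeAlg.t π * ArLef.NodeAlg.e π = algebraMap B (ArLef.NodeAlg B π) π :=
    Groth.Agent.Lib.Helper22.nodeAlg_t_mul_e π
  obtain ⟨u, hu⟩ := hσ
  have hprod : σ (ArLef.NodeAlg.t π) * σ (ArLef.NodeAlg.e π) * u =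
      ArLef.NodeAlg.t π * ArLef.NodeAlg.e π := by
    rw [← map_mul, hte, hu]
  have hdvd : ArLef.NodeAlg.t π ∣ σ (ArLef.NodeAlg.t π) * σ (ArLef.NodeAlg.e π) := by
    have h1 : ArLef.NodeAlg.t π ∣ σ (ArLef.NodeAlg.t π) * σ (ArLef.NodeAlg.e π) * u :=
      ⟨ArLef.NodeAlg.e π, hprod⟩
    exact (Units.dvd_mul_right).mp h1
  rcases ht.dvd_or_dvd hdvd with h | h
  · left
    obtain ⟨α, hα⟩ := (ht.dvd_prime_iff_associated hσt).mp h
    -- hα : t * α = σ t
    have hne : ArLef.NodeAlg.t π ≠ 0 := ht.ne_zero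
    have h2 : ArLef.NodeAlg.t π * ((α : ArLef.NodeAlg B π) * σ (ArLef.NodeAlg.e π) * u) =
        ArLef.NodeAlg.t π * ArLef.NodeAlg.e π := by
      rw [← hprod, ← hα]; ring
    have h3 := mul_left_cancel₀ hne h2
    refine ⟨α, (α * u)⁻¹, by rw [← hα, mul_comm], ?_⟩
    have hunit : (((α * u)⁻¹ : (ArLef.NodeAlg B π)ˣ) : ArLef.NodeAlg B π) *
        ((α : ArLef.NodeAlg B π) * u) = 1 := by
      rw [← Units.val_mul, Units.inv_mul]
    calc σ (ArLef.NodeAlg.e π)
        = (((α * u)⁻¹ : (ArLef.NodeAlg B π)ˣ) : ArLef.NodeAlg B π) *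
            ((α : ArLef.NodeAlg B π) * u) * σ (ArLef.NodeAlg.e π) := by rw [hunit, one_mul]
      _ = (((α * u)⁻¹ : (ArLef.NodeAlg B π)ˣ) : ArLef.NodeAlg B π) *
            ((α : ArLef.NodeAlg B π) * σ (ArLef.NodeAlg.e π) * u) := by ring
      _ = _ := by rw [h3]
  · right
    obtain ⟨β, hβ⟩ := (ht.dvd_prime_iff_associated hσe).mp h
    -- hβ : t * β = σ e
    have hne : ArLef.NodeAlg.t π ≠ 0 := ht.ne_zero
    have h2 : ArLef.NodeAlg.t π * (σ (ArLef.NodeAlg.t π) * (β : ArLef.NodeAlg B π) * u) =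
        ArLef.NodeAlg.t π * ArLef.NodeAlg.e π := by
      rw [← hprod, ← hβ]; ring
    have h3 := mul_left_cancel₀ hne h2
    refine ⟨(β * u)⁻¹, β, ?_, by rw [← hβ, mul_comm]⟩
    have hunit : (((β * u)⁻¹ : (ArLef.NodeAlg B π)ˣ) : ArLef.NodeAlg B π) *
        ((β : ArLef.NodeAlg B π) * u) = 1 := by
      rw [← Units.val_mul, Units.inv_mul]
    calc σ (ArLef.NodeAlg.t π)
        = (((β * u)⁻¹ : (ArLef.NodeAlg B π)ˣ) : ArLef.NodeAlg B π) *
            ((β : ArLef.NodeAlg B π) * u) * σ (ArLef.NodeAlg.t π) := by rw [hunit, one_mul]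
      _ = (((β * u)⁻¹ : (ArLef.NodeAlg B π)ˣ) : ArLef.NodeAlg B π) *
            (σ (ArLef.NodeAlg.t π) * (β : ArLef.NodeAlg B π) * u) := by ring
      _ = _ := by rw [h3]

end Groth.Agent.S15316
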