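-- Statement S15317: ArLef.NodeAlg.fixIdeal_eq_span_mul_maximal_of_stabilizes
import Groth.Statements.S15317
import Mathlib
import Groth.Agent.Lib.T2H7NodeAlg2

set_option autoImplicit false
set_option linter.style.haveILetI false
universe u
open ArLef ArLef.NodeAlg

namespace Groth.Agent.S15317

open Groth.Agent.Lib.T2H7.NodeAlg in
/-- Let B be a discrete valuation ring with uniformizer π, N = B[[t, e]]/(te - π), and σ a non-trivial
B-algebra automorphism of N stabilizing both branches of the closed fibre (σ(t) associated to t,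
σ(e) associated to e). Then the fixed-point ideal of σ, generated by all σ(r) - r, is g·(t, e) for a
non-zero g: the divisorial part of the fixed locus is cut out by g and its residual part is the
reduced closed point, of multiplicity one. (Stated in the complete local ring, where the published
argument takes place; the published setting has B complete with algebraically closed residue field.) -/
theorem result (B : Type u) [CommRing B] [IsDomain B] [IsDiscreteValuationRing B] (π : B) (hπ : Irreducible π)
    (σ : ArLef.NodeAlg B π ≃ₐ[B] ArLef.NodeAlg B π) (hσ : σ ≠ AlgEquiv.refl)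
    (ht : Associated (σ (ArLef.NodeAlg.t π)) (ArLef.NodeAlg.t π))
    (he : Associated (σ (ArLef.NodeAlg.e π)) (ArLef.NodeAlg.e π)) :
    ∃ g : ArLef.NodeAlg B π, g ≠ 0 ∧
      ArLef.fixIdeal σ = Ideal.span {g} * Ideal.span ({ArLef.NodeAlg.t π, ArLef.NodeAlg.e π} : Set (ArLef.NodeAlg B π)) := by
  haveI := isDomain_nodeAlg π hπ
  have hpt : Prime (ArLef.NodeAlg.t π) := var_prime π hπ 0
  have hpe : Prime (ArLef.NodeAlg.e π) := var_prime π hπ 1
  have hte : ArLef.NodeAlg.t π * ArLef.NodeAlg.e π = algebraMap B (ArLef.NodeAlg B π) π :=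
    Groth.Agent.Lib.Helper22.nodeAlg_t_mul_e π
  obtain ⟨u, hu⟩ := ht.symm
  obtain ⟨v, hv⟩ := he.symm
  -- hu : t * u = σ t,  hv : e * v = σ e
  set t := ArLef.NodeAlg.t π with ht_def
  set e := ArLef.NodeAlg.e π with he_def
  have huv : (u : ArLef.NodeAlg B π) * v = 1 := by
    have h1 : σ t * σ e = t * e := by
      rw [← map_mul, hte, AlgEquiv.commutes]
    rw [← hu, ← hv] at h1
    have h2 : (t * e) * ((u : ArLef.NodeAlg B π) * v) = (t * e) * 1 := by
      linear_combination h1
    exact mul_left_cancel₀ (mul_ne_zero hpt.ne_zero hpe.ne_zero) h2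
  have hfix : ArLef.fixIdeal (σ : ArLef.NodeAlg B π → ArLef.NodeAlg B π) =
      ArLef.fixIdeal ((σ : ArLef.NodeAlg B π ≃+* ArLef.NodeAlg B π) :
        ArLef.NodeAlg B π → ArLef.NodeAlg B π) := rfl
  have hcomm : ∀ b : B, (σ : ArLef.NodeAlg B π ≃+* ArLef.NodeAlg B π)
      (algebraMap B (ArLef.NodeAlg B π) b) - algebraMap B (ArLef.NodeAlg B π) b = 0 := by
    intro b
    have : (σ : ArLef.NodeAlg B π ≃+* ArLef.NodeAlg B π) (algebraMap B (ArLef.NodeAlg B π) b) =
        algebraMap B (ArLef.NodeAlg B π) b := AlgEquiv.commutes σ b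
    rw [this, sub_self]
  refine ⟨(u : ArLef.NodeAlg B π) - 1, ?_, ?_⟩
  · intro hg
    have hu1 : (u : ArLef.NodeAlg B π) = 1 := sub_eq_zero.mp hg
    have hv1 : (v : ArLef.NodeAlg B π) = 1 := by rw [hu1, one_mul] at huv; exact huv
    apply hσ
    ext x
    have h := fix_sub_mem_nodeAlg π hπ (σ : ArLef.NodeAlg B π ≃+* ArLef.NodeAlg B π) ⊥
      (fun b => by rw [hcomm b]; exact Ideal.zero_mem _)
      (by show σ t - t ∈ _; rw [← hu, hu1, mul_one, sub_self]; exact Ideal.zero_mem _)
      (by show σ e - e ∈ _; rw [← hv, hv1, mul_one, sub_self]; exact Ideal.zero_mem _) x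
    rw [Ideal.mem_bot, sub_eq_zero] at h
    exact h
  · have hspan : Ideal.span ({(u : ArLef.NodeAlg B π) - 1} : Set (ArLef.NodeAlg B π)) *
        Ideal.span ({t, e} : Set (ArLef.NodeAlg B π)) =
        Ideal.span ({((u : ArLef.NodeAlg B π) - 1) * t, ((u : ArLef.NodeAlg B π) - 1) * e} :
          Set (ArLef.NodeAlg B π)) := by
      rw [Ideal.span_mul_span', Set.singleton_mul, Set.image_pair]
    apply le_antisymm
    · rw [hfix]
      apply fixIdeal_le_nodeAlg π hπ
      · intro b
        rw [hcomm b]
        exact Ideal.zero_mem _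
      · show σ t - t ∈ _
        rw [hspan, ← hu]
        refine Ideal.subset_span ?_
        left
        ring
      · show σ e - e ∈ _
        rw [hspan, ← hv, Ideal.mem_span_pair]
        refine ⟨0, -v, ?_⟩
        have : (0 : ArLef.NodeAlg B π) * ((↑u - 1) * t) + -↑v * ((↑u - 1) * e) =
            e * v - e * (u * v) := by ring
        rw [this, huv]; ring
    · rw [hspan, Ideal.span_le]
      have h1 : σ t - t ∈ ArLef.fixIdeal (σ : ArLef.NodeAlg B π → ArLef.NodeAlg B π) :=
        Ideal.subset_span ⟨t, rfl⟩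
      have h2 : σ e - e ∈ ArLef.fixIdeal (σ : ArLef.NodeAlg B π → ArLef.NodeAlg B π) :=
        Ideal.subset_span ⟨e, rfl⟩
      intro y hy
      rcases hy with rfl | rfl
      · have : ((u : ArLef.NodeAlg B π) - 1) * t = σ t - t := by rw [← hu]; ring
        rw [this]; exact h1
      · have : ((u : ArLef.NodeAlg B π) - 1) * e = -u * (σ e - e) := by
          rw [← hv]
          have : -(u : ArLef.NodeAlg B π) * (e * ↑v - e) = e * u - e * (u * v) := by ring
          rw [this, huv]; ring
        rw [this]
        exact Ideal.mul_mem_left _ _ h2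

end Groth.Agent.S15317
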