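-- Statement S15318: ArLef.NodeAlg.fixIdeal_principal_of_switches
import Groth.Statements.S15318
import Mathlib
import Groth.Agent.Lib.T2H7NodeAlg2

set_option autoImplicit false
set_option linter.style.haveILetI false
universe u
open ArLef ArLef.NodeAlg

namespace Groth.Agent.S15318

open Groth.Agent.Lib.T2H7.NodeAlg in
/-- Let B be a discrete valuation ring with uniformizer π, N = B[[t, e]]/(te - π), and σ a B-algebra
automorphism of N switching the two branches of the closed fibre (σ(t) associated to e, σ(e)
associated to t). Then the fixed-point ideal of σ is principal, generated by an element h of order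
one (h is not in (t, e)²), and π is a non-zero-divisor modulo h: the fixed locus is a horizontal
regular divisor through the point with empty residual part. (Stated in the complete local ring,
where the published argument takes place; the published setting has B complete with algebraically
closed residue field.) -/
theorem result (B : Type u) [CommRing B] [IsDomain B] [IsDiscreteValuationRing B] (π : B) (hπ : Irreducible π)
    (σ : ArLef.NodeAlg B π ≃ₐ[B] ArLef.NodeAlg B π)
    (ht : Associated (σ (ArLef.NodeAlg.t π)) (ArLef.NodeAlg.e π))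
    (he : Associated (σ (ArLef.NodeAlg.e π)) (ArLef.NodeAlg.t π)) :
    ∃ h : ArLef.NodeAlg B π, ArLef.fixIdeal σ = Ideal.span {h} ∧
      h ∉ (Ideal.span ({ArLef.NodeAlg.t π, ArLef.NodeAlg.e π} : Set (ArLef.NodeAlg B π))) ^ 2 ∧
      IsSMulRegular (ArLef.NodeAlg B π ⧸ Ideal.span ({h} : Set (ArLef.NodeAlg B π))) π := by
  haveI := isDomain_nodeAlg π hπ
  haveI := span_isMaximal π hπ
  have hpt : Prime (ArLef.NodeAlg.t π) := var_prime π hπ 0
  have hpe : Prime (ArLef.NodeAlg.e π) := var_prime π hπ 1
  have hte : ArLef.NodeAlg.t π * ArLef.NodeAlg.e π = algebraMap B (ArLef.NodeAlg B π) π :=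
    Groth.Agent.Lib.Helper22.nodeAlg_t_mul_e π
  obtain ⟨u, hu⟩ := ht.symm
  obtain ⟨v, hv⟩ := he.symm
  -- hu : e * u = σ t,  hv : t * v = σ e
  set t := ArLef.NodeAlg.t π with ht_def
  set e := ArLef.NodeAlg.e π with he_def
  have huv : (u : ArLef.NodeAlg B π) * v = 1 := by
    have h1 : σ t * σ e = t * e := by
      rw [← map_mul, hte, AlgEquiv.commutes]
    rw [← hu, ← hv] at h1
    have h2 : (t * e) * ((u : ArLef.NodeAlg B π) * v) = (t * e) * 1 := by
      linear_combination h1
    exact mul_left_cancel₀ (mul_ne_zero hpt.ne_zero hpe.ne_zero) h2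
  refine ⟨t - e * u, ?_, ?_, ?_⟩
  · apply le_antisymm
    · have hfix : ArLef.fixIdeal (σ : ArLef.NodeAlg B π → ArLef.NodeAlg B π) =
          ArLef.fixIdeal ((σ : ArLef.NodeAlg B π ≃+* ArLef.NodeAlg B π) :
            ArLef.NodeAlg B π → ArLef.NodeAlg B π) := rfl
      rw [hfix]
      apply fixIdeal_le_nodeAlg π hπ
      · intro b
        have : (σ : ArLef.NodeAlg B π ≃+* ArLef.NodeAlg B π) (algebraMap B (ArLef.NodeAlg B π) b) =
            algebraMap B (ArLef.NodeAlg B π) b := AlgEquiv.commutes σ b
        rw [this, sub_self]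
        exact Ideal.zero_mem _
      · show σ t - t ∈ _
        rw [← hu, Ideal.mem_span_singleton]
        exact ⟨-1, by ring⟩
      · show σ e - e ∈ _
        rw [← hv, Ideal.mem_span_singleton]
        refine ⟨v, ?_⟩
        have : (t - e * ↑u) * ↑v = t * v - e * (u * v) := by ring
        rw [this, huv, mul_one]
    · rw [Ideal.span_singleton_le_iff_mem]
      have h1 : σ t - t ∈ ArLef.fixIdeal (σ : ArLef.NodeAlg B π → ArLef.NodeAlg B π) :=
        Ideal.subset_span ⟨t, rfl⟩
      have h2 : t - e * u = -(σ t - t) := by rw [← hu]; ring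
      rw [h2]
      exact neg_mem h1
  · intro hmem
    -- apply the branch killing e
    have hmap : ∀ x ∈ Ideal.span ({t, e} : Set (ArLef.NodeAlg B π)) ^ 2,
        PowerSeries.X ^ 2 ∣ branch π 0 x := by
      intro x hx
      have h1 : branch π 0 x ∈ Ideal.map (branch π 0) (Ideal.span ({t, e} : Set (ArLef.NodeAlg B π)) ^ 2) :=
        Ideal.mem_map_of_mem _ hx
      rw [Ideal.map_pow, Ideal.map_span] at h1
      have h2 : (branch π 0) '' ({t, e} : Set (ArLef.NodeAlg B π)) = {PowerSeries.X, 0} := by
        rw [Set.image_pair]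
        have h3 : branch π 0 t = PowerSeries.X := branch_var_self π 0
        have h4 : branch π 0 e = 0 := branch_var_other π 0
        rw [h3, h4]
      rw [h2] at h1
      have h5 : Ideal.span ({PowerSeries.X, 0} : Set (PowerSeries (B ⧸ Ideal.span ({π} : Set B)))) =
          Ideal.span {PowerSeries.X} := by
        apply le_antisymm
        · rw [Ideal.span_le]
          intro y hy
          rcases hy with rfl | rfl
          · exact Ideal.subset_span rfl
          · exact Ideal.zero_mem _
        · exact Ideal.span_mono (by intro y hy; exact Or.inl hy)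
      rw [h5, Ideal.span_singleton_pow, Ideal.mem_span_singleton] at h1
      exact h1
    have h6 := hmap _ hmem
    have h7 : branch π 0 (t - e * u) = PowerSeries.X := by
      have h3 : branch π 0 t = PowerSeries.X := branch_var_self π 0
      have h4 : branch π 0 e = 0 := branch_var_other π 0
      rw [map_sub, map_mul, h3, h4, zero_mul, sub_zero]
    rw [h7] at h6
    obtain ⟨q, hq⟩ := h6
    have h8 : (PowerSeries.X : PowerSeries (B ⧸ Ideal.span ({π} : Set B))) * 1 =
        PowerSeries.X * (PowerSeries.X * q) := by
      rw [mul_one, ← mul_assoc, ← pow_two]; exact hq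
    have h9 := mul_left_cancel₀ PowerSeries.X_ne_zero h8
    have : IsUnit (PowerSeries.X : PowerSeries (B ⧸ Ideal.span ({π} : Set B))) :=
      IsUnit.of_mul_eq_one _ h9.symm
    exact PowerSeries.X_prime.not_isUnit this
  · -- regularity of π modulo h
    have hnt : ¬ t ∣ t - e * u := by
      intro hd
      have h1 : t ∣ e * u := by
        have := dvd_sub (dvd_refl t) hd
        rwa [sub_sub_cancel] at this
      have h2 : t ∣ e := (Units.dvd_mul_right).mp h1
      have h3 : branch π 1 e = 0 := (branch_eq_zero_iff π 1 e).mpr h2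
      have h4 : branch π 1 e = PowerSeries.X := branch_var_self π 1
      rw [h4] at h3
      exact PowerSeries.X_ne_zero h3
    have hne : ¬ e ∣ t - e * u := by
      intro hd
      have h1 : e ∣ t := by
        have := dvd_add hd (Dvd.intro _ rfl : e ∣ e * u)
        rwa [sub_add_cancel] at this
      have h3 : branch π 0 t = 0 := (branch_eq_zero_iff π 0 t).mpr h1
      have h4 : branch π 0 t = PowerSeries.X := branch_var_self π 0
      rw [h4] at h3
      exact PowerSeries.X_ne_zero h3
    have hswap : ∀ (p : ArLef.NodeAlg B π), Prime p → ¬ p ∣ t - e * u →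
        ∀ x, p * x ∈ Ideal.span ({t - e * u} : Set (ArLef.NodeAlg B π)) →
          x ∈ Ideal.span ({t - e * u} : Set (ArLef.NodeAlg B π)) := by
      intro p hp hnd x hx
      rw [Ideal.mem_span_singleton] at hx ⊢
      obtain ⟨y, hy⟩ := hx
      have h1 : p ∣ (t - e * u) * y := ⟨x, hy.symm⟩
      rcases hp.dvd_or_dvd h1 with h | h
      · exact absurd h hnd
      · obtain ⟨y', rfl⟩ := h
        refine ⟨y', ?_⟩
        have h2 : p * x = p * ((t - e * u) * y') := by rw [hy]; ring
        exact mul_left_cancel₀ hp.ne_zero h2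
    intro x y hxy
    obtain ⟨x', rfl⟩ := Ideal.Quotient.mk_surjective x
    obtain ⟨y', rfl⟩ := Ideal.Quotient.mk_surjective y
    have h1 : (Ideal.Quotient.mk (Ideal.span ({t - e * u} : Set (ArLef.NodeAlg B π))))
        (algebraMap B (ArLef.NodeAlg B π) π * (x' - y')) = 0 := by
      have h2 : ∀ z : ArLef.NodeAlg B π,
          π • (Ideal.Quotient.mk (Ideal.span ({t - e * u} : Set (ArLef.NodeAlg B π)))) z =
          (Ideal.Quotient.mk (Ideal.span ({t - e * u} : Set (ArLef.NodeAlg B π))))
            (algebraMap B (ArLef.NodeAlg B π) π * z) := by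
        intro z
        rw [← Algebra.smul_def]
        rfl
      have h3 : π • (Ideal.Quotient.mk (Ideal.span ({t - e * u} : Set (ArLef.NodeAlg B π)))) x' =
          π • (Ideal.Quotient.mk (Ideal.span ({t - e * u} : Set (ArLef.NodeAlg B π)))) y' := hxy
      rw [mul_sub, map_sub, ← h2, ← h2, h3, sub_self]
    rw [Ideal.Quotient.eq_zero_iff_mem, ← hte, mul_assoc] at h1
    have h4 := hswap t hpt hnt _ h1
    have h5 := hswap e hpe hne _ h4
    rw [← sub_eq_zero, ← map_sub, Ideal.Quotient.eq_zero_iff_mem]
    exact h5

end Groth.Agent.S15318
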