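-- Statement S15320: ArLef.NodeAlg.length_quot_fixIdeal_of_switches
import Groth.Statements.S15320
import Mathlib
import Groth.Agent.Lib.T2H7NodeAlg3

set_option autoImplicit false
set_option linter.style.haveILetI false
universe u
open ArLef ArLef.NodeAlg

namespace Groth.Agent.S15320

open Groth.Agent.Lib.T2H7.NodeAlg in
/-- Let B be a discrete valuation ring with uniformizer π, N = B[[t, e]]/(te - π) the complete local
ring of a semi-stable arithmetic surface over B at a singular point x of the closed fibre, and σ a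
ring automorphism of N over an automorphism τ of B with v(τ(π) - π) = j ≥ 1, that is σ(π) = π + γ
π^j with γ a unit of B, and with σ(b) - b ∈ π^j N for every b ∈ B (automatic when B is totally
ramified over the fixed ring of τ, as in the published setting, where the residue field is
algebraically closed). If σ switches the two branches through x (σ(t) associated to e and σ(e) to
t), then the fixed-point ideal I of σ is contained in no proper principal ideal (x is not on the
divisorial part of the fixed locus) and N/I has length 2j - 1 (the multiplicity of x in the residual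
fixed-point scheme). -/
theorem result (B : Type u) [CommRing B] [IsDomain B] [IsDiscreteValuationRing B] (π : B) (hπ : Irreducible π)
    (j : ℕ) (hj : 1 ≤ j) (γ : B) (hγ : IsUnit γ)
    (σ : ArLef.NodeAlg B π ≃+* ArLef.NodeAlg B π)
    (hσB : ∀ b : B, σ (algebraMap B (ArLef.NodeAlg B π) b) - algebraMap B (ArLef.NodeAlg B π) b ∈
      Ideal.span ({algebraMap B (ArLef.NodeAlg B π) (π ^ j)} : Set (ArLef.NodeAlg B π)))
    (hσπ : σ (algebraMap B (ArLef.NodeAlg B π) π) = algebraMap B (ArLef.NodeAlg B π) (π + γ * π ^ j))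
    (ht : Associated (σ (ArLef.NodeAlg.t π)) (ArLef.NodeAlg.e π)) (he : Associated (σ (ArLef.NodeAlg.e π)) (ArLef.NodeAlg.t π)) :
    (∀ g : ArLef.NodeAlg B π, ArLef.fixIdeal σ ≤ Ideal.span ({g} : Set (ArLef.NodeAlg B π)) → IsUnit g) ∧
      Module.length (ArLef.NodeAlg B π) (ArLef.NodeAlg B π ⧸ ArLef.fixIdeal σ) = ((2 * j - 1 : ℕ) : ℕ∞) := by
  haveI := isDomain_nodeAlg π hπ
  haveI := isNoetherianRing_nodeAlg π hπ
  have hpt : Prime (ArLef.NodeAlg.t π) := var_prime π hπ 0
  have hpe : Prime (ArLef.NodeAlg.e π) := var_prime π hπ 1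
  have hte : ArLef.NodeAlg.t π * ArLef.NodeAlg.e π = algebraMap B (ArLef.NodeAlg B π) π :=
    Groth.Agent.Lib.Helper22.nodeAlg_t_mul_e π
  have hnet := not_e_dvd_t π hπ
  have h11 := iN_t_e π hπ
  obtain ⟨u, hu⟩ := ht.symm
  obtain ⟨v, hv⟩ := he.symm
  -- hu : e * u = σ t,  hv : t * v = σ e
  set t := ArLef.NodeAlg.t π with ht_def
  set e := ArLef.NodeAlg.e π with he_def
  set P := algebraMap B (ArLef.NodeAlg B π) π with hP
  set G := algebraMap B (ArLef.NodeAlg B π) γ with hG
  have hGu : IsUnit G := hγ.map _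
  obtain ⟨j', rfl⟩ : ∃ j', j = j' + 1 := ⟨j - 1, by omega⟩
  have hP0 : P ≠ 0 := by rw [← hte]; exact mul_ne_zero hpt.ne_zero hpe.ne_zero
  have huv : (u : ArLef.NodeAlg B π) * v = 1 + G * P ^ j' := by
    have h1 : σ t * σ e = P + G * P ^ (j' + 1) := by
      rw [← map_mul, hte, hσπ, map_add, map_mul, map_pow]
    rw [← hu, ← hv] at h1
    have h2 : P * ((u : ArLef.NodeAlg B π) * v) = P * (1 + G * P ^ j') := by
      rw [← hte] at h1 ⊢
      linear_combination h1
    exact mul_left_cancel₀ hP0 h2
  set h := t - e * u with hh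
  -- P ≡ u e² mod h
  have hPh : ∀ n : ℕ, P ^ n - ((u : ArLef.NodeAlg B π) * e ^ 2) ^ n ∈
      Ideal.span ({h} : Set (ArLef.NodeAlg B π)) := by
    intro n
    rw [Ideal.mem_span_singleton]
    have h1 : h ∣ P - (u : ArLef.NodeAlg B π) * e ^ 2 := ⟨e, by rw [hh, ← hte]; ring⟩
    exact h1.trans (sub_dvd_pow_sub_pow _ _ n)
  set J := Ideal.span ({h, e ^ (2 * (j' + 1) - 1)} : Set (ArLef.NodeAlg B π)) with hJ
  have hhJ : h ∈ J := Ideal.subset_span (by simp)
  have hspanh : Ideal.span ({h} : Set (ArLef.NodeAlg B π)) ≤ J :=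
    (Ideal.span_singleton_le_iff_mem _).mpr hhJ
  have heJ : e ^ (2 * (j' + 1) - 1) ∈ J := Ideal.subset_span (by simp)
  have hexp : 2 * (j' + 1) - 1 = 2 * j' + 1 := by omega
  -- P^j' * e ∈ J
  have hPe : P ^ j' * e ∈ J := by
    have h1 : P ^ j' * e = (P ^ j' - ((u : ArLef.NodeAlg B π) * e ^ 2) ^ j') * e +
        (u : ArLef.NodeAlg B π) ^ j' * e ^ (2 * j' + 1) := by ring
    rw [h1]
    refine Ideal.add_mem _ (Ideal.mul_mem_right _ _ (hspanh (hPh j'))) ?_
    rw [← hexp]
    exact Ideal.mul_mem_left _ _ heJ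
  have hPj : P ^ (j' + 1) ∈ J := by
    have : P ^ (j' + 1) = t * (P ^ j' * e) := by rw [pow_succ, ← hte]; ring
    rw [this]
    exact Ideal.mul_mem_left _ _ hPe
  have hfix : ArLef.fixIdeal σ = J := by
    apply le_antisymm
    · apply fixIdeal_le_nodeAlg π hπ
      · intro b
        have h1 := hσB b
        rw [map_pow] at h1
        exact (Ideal.span_singleton_le_iff_mem _).mpr hPj h1
      · show σ t - t ∈ J
        have : σ t - t = -h := by rw [← hu, hh]; ring
        rw [this]
        exact neg_mem hhJ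
      · show σ e - e ∈ J
        have : σ e - e = v * h + G * (P ^ j' * e) := by
          rw [← hv, hh]
          have : (v : ArLef.NodeAlg B π) * (t - e * u) + G * (P ^ j' * e) =
              t * v - e * (u * v) + G * P ^ j' * e := by ring
          rw [this, huv]; ring
        rw [this]
        exact Ideal.add_mem _ (Ideal.mul_mem_left _ _ hhJ) (Ideal.mul_mem_left _ _ hPe)
    · have h1 : σ t - t ∈ ArLef.fixIdeal σ := Ideal.subset_span ⟨t, rfl⟩
      have h2 : σ e - e ∈ ArLef.fixIdeal σ := Ideal.subset_span ⟨e, rfl⟩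
      have h3 : h ∈ ArLef.fixIdeal σ := by
        have : h = -(σ t - t) := by rw [← hu, hh]; ring
        rw [this]
        exact neg_mem h1
      have h4 : G * (P ^ j' * e) ∈ ArLef.fixIdeal σ := by
        have : G * (P ^ j' * e) = (σ e - e) - v * h := by
          rw [← hv, hh]
          have : t * (v : ArLef.NodeAlg B π) - e - v * (t - e * u) = e * (u * v) - e := by ring
          rw [this, huv]; ring
        rw [this]
        exact Ideal.sub_mem _ h2 (Ideal.mul_mem_left _ _ h3)
      have h5 : P ^ j' * e ∈ ArLef.fixIdeal σ := by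
        obtain ⟨G', hG'⟩ := hGu
        have : P ^ j' * e = ((G'⁻¹ : (ArLef.NodeAlg B π)ˣ) : ArLef.NodeAlg B π) * (G * (P ^ j' * e)) := by
          rw [← hG', ← mul_assoc, Units.inv_mul, one_mul]
        rw [this]
        exact Ideal.mul_mem_left _ _ h4
      have h6 : (u : ArLef.NodeAlg B π) ^ j' * e ^ (2 * j' + 1) ∈ ArLef.fixIdeal σ := by
        have : (u : ArLef.NodeAlg B π) ^ j' * e ^ (2 * j' + 1) =
            P ^ j' * e - (P ^ j' - ((u : ArLef.NodeAlg B π) * e ^ 2) ^ j') * e := by ring
        rw [this]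
        refine Ideal.sub_mem _ h5 (Ideal.mul_mem_right _ _ ?_)
        exact (Ideal.span_singleton_le_iff_mem _).mpr h3 (hPh j')
      have h7 : e ^ (2 * j' + 1) ∈ ArLef.fixIdeal σ := by
        have : e ^ (2 * j' + 1) = (((u ^ j')⁻¹ : (ArLef.NodeAlg B π)ˣ) : ArLef.NodeAlg B π) *
            ((u : ArLef.NodeAlg B π) ^ j' * e ^ (2 * j' + 1)) := by
          rw [← mul_assoc, ← Units.val_pow_eq_pow_val, Units.inv_mul, one_mul]
        rw [this]
        exact Ideal.mul_mem_left _ _ h6
      rw [hJ, Ideal.span_le]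
      intro y hy
      rcases hy with rfl | rfl
      · exact h3
      · rw [hexp]; exact h7
  have hneh : ¬ e ∣ h := by
    intro hd
    apply hnet
    have := dvd_add hd (Dvd.intro _ rfl : e ∣ e * u)
    rwa [hh, sub_add_cancel] at this
  refine ⟨?_, ?_⟩
  · intro g hg
    rw [hfix] at hg
    have h1 : g ∣ h := Ideal.mem_span_singleton.mp (hg hhJ)
    have h2 : g ∣ e ^ (2 * (j' + 1) - 1) := Ideal.mem_span_singleton.mp (hg heJ)
    obtain ⟨i, _, hi⟩ := (dvd_prime_pow hpe _).mp h2
    rcases Nat.eq_zero_or_pos i with rfl | hipos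
    · rw [pow_zero] at hi
      exact associated_one_iff_isUnit.mp hi
    · exfalso
      apply hneh
      have h3 : e ∣ e ^ i := dvd_pow_self e (by omega)
      exact (h3.trans hi.symm.dvd).trans h1
  · rw [hfix, hJ]
    change iN h (e ^ (2 * (j' + 1) - 1)) = _
    rw [iN_comm, iN_pow_left e h (isSMulRegular_of_prime_not_dvd hpe hneh), iN_comm]
    have h1 : iN h e = iN t e := by
      apply iN_congr_left
      rw [Ideal.mem_span_singleton]
      exact ⟨-u, by rw [hh]; ring⟩
    rw [h1, h11, mul_one]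

end Groth.Agent.S15320
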