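-- Statement S15321: ArLef.length_quot_fixIdeal_powerSeries_eq_mul
import Groth.Statements.S15321
import Mathlib
import Groth.Agent.Lib.T2H7PSFix

set_option autoImplicit false
set_option linter.style.haveILetI false
universe u
open ArLef

namespace Groth.Agent.S15321

open Groth.Agent.Lib.T2H7.NodeAlg Groth.Agent.Lib.T2H7.PSFix in
/-- In the case of a smooth point with the closed fibre outside the divisorial part, let B be a discrete
valuation ring with uniformizer π and residue field k, B[[t]] the complete local ring of a
semi-stable arithmetic surface over B at a point x where the closed fibre is smooth, and σ a ring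
automorphism of B[[t]] over an automorphism τ of B with v(τ(π) - π) = j ≥ 1, that is σ(π) = π + γ
π^j with γ a unit, and σ(b) - b ∈ π^j B[[t]] for all b ∈ B (automatic for B totally ramified over
the fixed ring of τ, as in the published setting). If π does not divide f = σ(t) - t (the closed
fibre is not in the divisorial part of the fixed locus near x), then the length of B[[t]] modulo the
fixed-point ideal of σ is j m, where m, the length of k[[t]]/(f mod π), is the multiplicity of x as
a fixed point of σ on the closed fibre. -/
theorem result (B : Type u) [CommRing B] [IsDomain B] [IsDiscreteValuationRing B] (π : B) (hπ : Irreducible π)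
    (j : ℕ) (hj : 1 ≤ j) (γ : B) (hγ : IsUnit γ)
    (σ : PowerSeries B ≃+* PowerSeries B)
    (hσB : ∀ b : B, σ (algebraMap B (PowerSeries B) b) - algebraMap B (PowerSeries B) b ∈
      Ideal.span ({algebraMap B (PowerSeries B) (π ^ j)} : Set (PowerSeries B)))
    (hσπ : σ (algebraMap B (PowerSeries B) π) = algebraMap B (PowerSeries B) (π + γ * π ^ j))
    (h0 : ¬ (algebraMap B (PowerSeries B) π ∣ σ PowerSeries.X - PowerSeries.X)) :
    Module.length (PowerSeries B) (PowerSeries B ⧸ ArLef.fixIdeal σ) =
      (j : ℕ∞) * Module.length (PowerSeries (IsLocalRing.ResidueField B)) (PowerSeries (IsLocalRing.ResidueField B) ⧸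
        Ideal.span ({PowerSeries.map (IsLocalRing.residue B) (σ PowerSeries.X - PowerSeries.X)} : Set (PowerSeries (IsLocalRing.ResidueField B)))) := by
  have hfix := fixIdeal_powerSeries_eq π j γ hγ σ hσB hσπ
  have hp : Prime (PowerSeries.C π : PowerSeries B) := prime_C π hπ
  have h0' : ¬ (PowerSeries.C π : PowerSeries B) ∣ σ PowerSeries.X - PowerSeries.X := h0
  rw [hfix, ← iN_C_eq π hπ]
  exact iN_pow_left _ _ (isSMulRegular_of_prime_not_dvd hp h0') j

end Groth.Agent.S15321
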