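-- Statement S15323: ArLef.NodeAlg.length_quot_fixIdeal_of_stabilizes
import Groth.Statements.S15323
import Mathlib
import Groth.Agent.Lib.T2H7NodeAlg3

set_option autoImplicit false
set_option linter.style.haveILetI false
universe u
open ArLef ArLef.NodeAlg

namespace Groth.Agent.S15323

open Groth.Agent.Lib.T2H7.NodeAlg in
/-- In the cases where the branches through the point do not lie in the divisorial part of the fixed
locus, let B be a discrete valuation ring with uniformizer π, N = B[[t, e]]/(te - π) the complete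
local ring of a semi-stable arithmetic surface over B at a singular point x of the closed fibre, and
σ a ring automorphism of N with σ(π) = π + γ π^j (γ a unit of B, j ≥ 1) and σ(b) - b ∈ π^j N for all
b ∈ B (σ lies over an automorphism τ of B with v(τ(π) - π) = j, B totally ramified over the fixed
ring as in the published setting). Suppose σ fixes the branches, σ(t) = α t and σ(e) = β e with
units α, β, and that t does not divide β - 1 and e does not divide α - 1. Then the length of N
modulo the fixed-point ideal of σ (the multiplicity of x in the residual fixed-point scheme) is j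
(s₁ + s₂) + 1, where s₁ = length N/(t, β - 1) and s₂ = length N/(e, α - 1) are the fixed-point
multiplicities of σ at x along the two branches, each lowered by one. -/
theorem result (B : Type u) [CommRing B] [IsDomain B] [IsDiscreteValuationRing B] (π : B) (hπ : Irreducible π)
    (j : ℕ) (hj : 1 ≤ j) (γ : B) (hγ : IsUnit γ)
    (σ : ArLef.NodeAlg B π ≃+* ArLef.NodeAlg B π)
    (hσB : ∀ b : B, σ (algebraMap B (ArLef.NodeAlg B π) b) - algebraMap B (ArLef.NodeAlg B π) b ∈
      Ideal.span ({algebraMap B (ArLef.NodeAlg B π) (π ^ j)} : Set (ArLef.NodeAlg B π)))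
    (hσπ : σ (algebraMap B (ArLef.NodeAlg B π) π) = algebraMap B (ArLef.NodeAlg B π) (π + γ * π ^ j))
    (α β : (ArLef.NodeAlg B π)ˣ) (ht : σ (ArLef.NodeAlg.t π) = (α : ArLef.NodeAlg B π) * ArLef.NodeAlg.t π) (he : σ (ArLef.NodeAlg.e π) = (β : ArLef.NodeAlg B π) * ArLef.NodeAlg.e π)
    (htb : ¬ (ArLef.NodeAlg.t π ∣ (β : ArLef.NodeAlg B π) - 1)) (hea : ¬ (ArLef.NodeAlg.e π ∣ (α : ArLef.NodeAlg B π) - 1)) :
    Module.length (ArLef.NodeAlg B π) (ArLef.NodeAlg B π ⧸ ArLef.fixIdeal σ) =
      (j : ℕ∞) * (Module.length (ArLef.NodeAlg B π) (ArLef.NodeAlg B π ⧸ Ideal.span ({ArLef.NodeAlg.t π, (β : ArLef.NodeAlg B π) - 1} : Set (ArLef.NodeAlg B π))) +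
        Module.length (ArLef.NodeAlg B π) (ArLef.NodeAlg B π ⧸ Ideal.span ({ArLef.NodeAlg.e π, (α : ArLef.NodeAlg B π) - 1} : Set (ArLef.NodeAlg B π)))) + 1 := by
  haveI := isDomain_nodeAlg π hπ
  haveI := isNoetherianRing_nodeAlg π hπ
  have hpt : Prime (ArLef.NodeAlg.t π) := var_prime π hπ 0
  have hpe : Prime (ArLef.NodeAlg.e π) := var_prime π hπ 1
  have hte : ArLef.NodeAlg.t π * ArLef.NodeAlg.e π = algebraMap B (ArLef.NodeAlg B π) π :=
    Groth.Agent.Lib.Helper22.nodeAlg_t_mul_e π
  have hnet := not_e_dvd_t π hπ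
  have hnte := not_t_dvd_e π hπ
  have h11 := iN_t_e π hπ
  set t := ArLef.NodeAlg.t π with ht_def
  set e := ArLef.NodeAlg.e π with he_def
  set P := algebraMap B (ArLef.NodeAlg B π) π with hP
  set G := algebraMap B (ArLef.NodeAlg B π) γ with hG
  have hGu : IsUnit G := hγ.map _
  obtain ⟨j', rfl⟩ : ∃ j', j = j' + 1 := ⟨j - 1, by omega⟩
  have hP0 : P ≠ 0 := by rw [← hte]; exact mul_ne_zero hpt.ne_zero hpe.ne_zero
  have hαβ : (α : ArLef.NodeAlg B π) * β = 1 + G * P ^ j' := by
    have h1 : σ t * σ e = P + G * P ^ (j' + 1) := by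
      rw [← map_mul, hte, hσπ, map_add, map_mul, map_pow]
    rw [ht, he] at h1
    have h2 : P * ((α : ArLef.NodeAlg B π) * β) = P * (1 + G * P ^ j') := by
      rw [← hte] at h1 ⊢
      linear_combination h1
    exact mul_left_cancel₀ hP0 h2
  set a := (α : ArLef.NodeAlg B π) - 1 with ha
  set b := (β : ArLef.NodeAlg B π) - 1 with hb
  have habG : a + b + a * b = G * P ^ j' := by
    rw [ha, hb]; linear_combination hαβ
  set J := Ideal.span ({a * t, b * e} : Set (ArLef.NodeAlg B π)) with hJ
  have hatJ : a * t ∈ J := Ideal.subset_span (by simp)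
  have hbeJ : b * e ∈ J := Ideal.subset_span (by simp)
  have hPj : P ^ (j' + 1) ∈ J := by
    have h1 : G * P ^ (j' + 1) ∈ J := by
      have : G * P ^ (j' + 1) = e * (a * t) + t * (b * e) + (a * t) * (b * e) := by
        rw [pow_succ, ← mul_assoc, ← habG, ← hte]; ring
      rw [this]
      exact Ideal.add_mem _ (Ideal.add_mem _ (Ideal.mul_mem_left _ _ hatJ)
        (Ideal.mul_mem_left _ _ hbeJ)) (Ideal.mul_mem_left _ _ hbeJ)
    obtain ⟨G', hG'⟩ := hGu
    have : P ^ (j' + 1) = ((G'⁻¹ : (ArLef.NodeAlg B π)ˣ) : ArLef.NodeAlg B π) * (G * P ^ (j' + 1)) := by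
      rw [← hG', ← mul_assoc, Units.inv_mul, one_mul]
    rw [this]
    exact Ideal.mul_mem_left _ _ h1
  have hfix : ArLef.fixIdeal σ = J := by
    apply le_antisymm
    · apply fixIdeal_le_nodeAlg π hπ
      · intro b0
        have h1 := hσB b0
        rw [map_pow] at h1
        exact (Ideal.span_singleton_le_iff_mem _).mpr hPj h1
      · show σ t - t ∈ J
        have : σ t - t = a * t := by rw [ht, ha]; ring
        rw [this]; exact hatJ
      · show σ e - e ∈ J
        have : σ e - e = b * e := by rw [he, hb]; ring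
        rw [this]; exact hbeJ
    · have h1 : σ t - t ∈ ArLef.fixIdeal σ := Ideal.subset_span ⟨t, rfl⟩
      have h2 : σ e - e ∈ ArLef.fixIdeal σ := Ideal.subset_span ⟨e, rfl⟩
      have h3 : σ t - t = a * t := by rw [ht, ha]; ring
      have h4 : σ e - e = b * e := by rw [he, hb]; ring
      rw [h3] at h1
      rw [h4] at h2
      rw [hJ, Ideal.span_le]
      intro y hy
      rcases hy with rfl | rfl
      · exact h1
      · exact h2
  rw [hfix]
  change iN (a * t) (b * e) = ((j' + 1 : ℕ) : ℕ∞) * (iN t b + iN e a) + 1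
  -- regularity facts
  have hntbe : ¬ t ∣ b * e := by
    intro h
    rcases hpt.dvd_or_dvd h with h | h
    · exact htb h
    · exact hnte h
  have hreg_t_be := isSMulRegular_of_prime_not_dvd hpt hntbe
  have hreg_e_t := isSMulRegular_of_prime_not_dvd hpe hnet
  have hreg_e_a := isSMulRegular_of_prime_not_dvd hpe hea
  -- first split
  have e1 : iN (a * t) (b * e) = iN t (b * e) + iN a (b * e) := by
    rw [mul_comm a t]; exact iN_mul_left t a (b * e) hreg_t_be
  have e2 : iN t (b * e) = 1 + iN t b := by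
    rw [iN_comm, mul_comm b e, iN_mul_left e b t hreg_e_t, iN_comm e t, h11, iN_comm b t]
  have e3 : iN a (b * e) = iN e a + iN b a := by
    rw [iN_comm, mul_comm b e, iN_mul_left e b a hreg_e_a]
  have e4 : iN b a = iN (P ^ j') a := by
    have h1 : iN (G * P ^ j') a = iN b a := by
      apply iN_congr_left
      rw [Ideal.mem_span_singleton]
      exact ⟨β, by rw [← habG, hb]; ring⟩
    rw [← h1]
    obtain ⟨G', hG'⟩ := hGu
    rw [← hG']
    exact iN_unit_mul_left G' _ _
  have e5 : iN (P ^ j') a = (j' : ℕ∞) * (iN t b + iN e a) := by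
    rcases Nat.eq_zero_or_pos j' with rfl | hj'
    · rw [pow_zero, iN_isUnit_left isUnit_one]; simp
    · have htP : t ∣ G * P ^ j' := by
        have : t ∣ P := ⟨e, hte.symm⟩
        exact Dvd.dvd.mul_left (this.trans (dvd_pow_self P (by omega))) G
      have hbα : b * α = G * P ^ j' - a := by rw [← habG, ha]; ring
      have hnta : ¬ t ∣ a := by
        intro h
        apply htb
        have h1 : t ∣ b * α := by rw [hbα]; exact dvd_sub htP h
        have : b = b * α * ((α⁻¹ : (ArLef.NodeAlg B π)ˣ) : ArLef.NodeAlg B π) := by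
          rw [mul_assoc, Units.mul_inv, mul_one]
        rw [this]
        exact Dvd.dvd.mul_right h1 _
      have hreg_t_a := isSMulRegular_of_prime_not_dvd hpt hnta
      have hreg_P_a : IsSMulRegular (ArLef.NodeAlg B π ⧸ Ideal.span ({a} : Set (ArLef.NodeAlg B π))) P := by
        rw [← hte]
        exact hreg_t_a.mul hreg_e_a
      rw [iN_pow_left P a hreg_P_a]
      congr 1
      rw [← hte, iN_mul_left t e a hreg_t_a]
      congr 1
      rw [iN_comm t a, iN_comm t b]
      have h1 : iN a t = iN ((((-α : (ArLef.NodeAlg B π)ˣ)) : ArLef.NodeAlg B π) * b) t := by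
        apply iN_congr_left
        rw [Ideal.mem_span_singleton]
        have : a - (((-α : (ArLef.NodeAlg B π)ˣ)) : ArLef.NodeAlg B π) * b = G * P ^ j' := by
          rw [Units.val_neg, ← habG, ha]; ring
        rw [this]; exact htP
      rw [h1]
      exact iN_unit_mul_left _ _ _
  rw [e1, e2, e3, e4, e5]
  push_cast
  ring

end Groth.Agent.S15323
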