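-- Statement S15325: ArLef.NodeAlg.length_quot_fixIdeal_add_one_eq_branches
import Groth.Statements.S15325
import Mathlib
import Groth.Agent.Lib.T2H7NodeField

set_option autoImplicit false
set_option linter.style.haveILetI false
universe u
open ArLef ArLef.NodeAlg

namespace Groth.Agent.S15325

open Groth.Agent.Lib.T2H7.NodeAlg Groth.Agent.Lib.T2H7.NodeField in
/-- Let k be a field, A = k[[t, e]]/(te) the complete local ring of a nodal curve at a node x, and σ a
k-algebra automorphism of A fixing the two branches, σ(t) = α t and σ(e) = β e with units α, β.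
Writing I for the fixed-point ideal of σ (generated by all σ(r) - r), the fixed-point multiplicity
length(A/I) of σ at x and the fixed-point multiplicities length(A/(I + (t))), length(A/(I + (e))) of
the automorphisms induced on the two branches satisfy length(A/I) + 1 = length(A/(I + (t))) +
length(A/(I + (e))), as extended natural numbers (both sides are infinite when σ fixes a branch
pointwise). (The published setting has k algebraically closed.) -/
theorem result (k : Type u) [Field k]
    (σ : ArLef.NodeAlg k 0 ≃ₐ[k] ArLef.NodeAlg k 0) (α β : (ArLef.NodeAlg k 0)ˣ)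
    (ht : σ (ArLef.NodeAlg.t (0 : k)) = (α : ArLef.NodeAlg k 0) * ArLef.NodeAlg.t (0 : k)) (he : σ (ArLef.NodeAlg.e (0 : k)) = (β : ArLef.NodeAlg k 0) * ArLef.NodeAlg.e (0 : k)) :
    Module.length (ArLef.NodeAlg k 0) (ArLef.NodeAlg k 0 ⧸ ArLef.fixIdeal σ) + 1 =
      Module.length (ArLef.NodeAlg k 0) (ArLef.NodeAlg k 0 ⧸ (ArLef.fixIdeal σ ⊔ Ideal.span ({ArLef.NodeAlg.t (0 : k)} : Set (ArLef.NodeAlg k 0)))) +
        Module.length (ArLef.NodeAlg k 0) (ArLef.NodeAlg k 0 ⧸ (ArLef.fixIdeal σ ⊔ Ideal.span ({ArLef.NodeAlg.e (0 : k)} : Set (ArLef.NodeAlg k 0)))) := by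
  set t := ArLef.NodeAlg.t (0 : k) with ht_def
  set e := ArLef.NodeAlg.e (0 : k) with he_def
  set a := (α : ArLef.NodeAlg k 0) - 1 with ha
  set b := (β : ArLef.NodeAlg k 0) - 1 with hb
  have hta : σ t - t = a * t := by rw [ht, ha]; ring
  have heb : σ e - e = b * e := by rw [he, hb]; ring
  set I := Ideal.span ({a * t, b * e} : Set (ArLef.NodeAlg k 0)) with hI
  have hatI : a * t ∈ I := Ideal.subset_span (by simp)
  have hbeI : b * e ∈ I := Ideal.subset_span (by simp)
  have hfix : ArLef.fixIdeal σ = I := by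
    apply le_antisymm
    · have h := fixIdeal_le_nodeField k (σ : ArLef.NodeAlg k 0 ≃+* ArLef.NodeAlg k 0) I
        (by
          intro c
          have : (σ : ArLef.NodeAlg k 0 ≃+* ArLef.NodeAlg k 0)
              (algebraMap k (ArLef.NodeAlg k 0) c) = algebraMap k (ArLef.NodeAlg k 0) c :=
            σ.commutes c
          rw [this, sub_self]; exact I.zero_mem)
        (by
          show σ t - t ∈ I
          rw [hta]; exact hatI)
        (by
          show σ e - e ∈ I
          rw [heb]; exact hbeI)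
      exact h
    · have h1 : σ t - t ∈ ArLef.fixIdeal σ := Ideal.subset_span ⟨t, rfl⟩
      have h2 : σ e - e ∈ ArLef.fixIdeal σ := Ideal.subset_span ⟨e, rfl⟩
      rw [hta] at h1
      rw [heb] at h2
      rw [hI, Ideal.span_le]
      intro y hy
      rcases hy with rfl | rfl
      · exact h1
      · exact h2
  rw [hfix]
  have h_inf : (I ⊔ Ideal.span ({t} : Set (ArLef.NodeAlg k 0))) ⊓
      (I ⊔ Ideal.span ({e} : Set (ArLef.NodeAlg k 0))) = I := by
    apply le_antisymm
    · intro x hx
      obtain ⟨hx1, hx2⟩ := hx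
      obtain ⟨i1, hi1, s1, hs1, rfl⟩ := Submodule.mem_sup.mp hx1
      obtain ⟨i2, hi2, s2, hs2, h12⟩ := Submodule.mem_sup.mp hx2
      obtain ⟨p1, q1, rfl⟩ := Ideal.mem_span_pair.mp hi1
      obtain ⟨p2, q2, rfl⟩ := Ideal.mem_span_pair.mp hi2
      obtain ⟨c1, rfl⟩ := Ideal.mem_span_singleton.mp hs1
      obtain ⟨c2, rfl⟩ := Ideal.mem_span_singleton.mp hs2
      have hz : p1 * (a * t) + q1 * (b * e) + t * c1 - (p2 * (a * t) + q1 * (b * e)) = 0 := by
        apply eq_zero_of_t_dvd_of_e_dvd k
        · exact ⟨(p1 - p2) * a + c1, by ring⟩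
        · refine ⟨(q2 - q1) * b + c2, ?_⟩
          rw [← h12]; ring
      rw [sub_eq_zero] at hz
      rw [hz]
      exact Ideal.add_mem _ (Ideal.mul_mem_left _ _ hatI) (Ideal.mul_mem_left _ _ hbeI)
    · exact le_inf le_sup_left le_sup_left
  have h_sup : (I ⊔ Ideal.span ({t} : Set (ArLef.NodeAlg k 0))) ⊔
      (I ⊔ Ideal.span ({e} : Set (ArLef.NodeAlg k 0))) = Ideal.span {t, e} := by
    have htm : t ∈ Ideal.span ({t, e} : Set (ArLef.NodeAlg k 0)) := Ideal.subset_span (by simp)
    have hem : e ∈ Ideal.span ({t, e} : Set (ArLef.NodeAlg k 0)) := Ideal.subset_span (by simp)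
    have hIle : I ≤ Ideal.span ({t, e} : Set (ArLef.NodeAlg k 0)) := by
      rw [hI, Ideal.span_le]
      intro y hy
      rcases hy with rfl | rfl
      · exact Ideal.mul_mem_left _ _ htm
      · exact Ideal.mul_mem_left _ _ hem
    apply le_antisymm
    · refine sup_le (sup_le hIle ?_) (sup_le hIle ?_)
      · exact (Ideal.span_singleton_le_iff_mem _).mpr htm
      · exact (Ideal.span_singleton_le_iff_mem _).mpr hem
    · rw [Ideal.span_le]
      intro y hy
      rcases hy with rfl | rfl
      · exact Ideal.mem_sup_left (Ideal.mem_sup_right (Ideal.mem_span_singleton_self _))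
      · exact Ideal.mem_sup_right (Ideal.mem_sup_right (Ideal.mem_span_singleton_self _))
  have h := length_quot_inf_add_sup (I ⊔ Ideal.span ({t} : Set (ArLef.NodeAlg k 0)))
    (I ⊔ Ideal.span ({e} : Set (ArLef.NodeAlg k 0)))
  rw [length_quot_congr h_inf, length_quot_congr h_sup, length_quot_span_t_e k] at h
  exact h

end Groth.Agent.S15325
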