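import Groth.Statements.S15331
import Mathlib
import Groth.Agent.Lib.T2H6CurveSub

set_option autoImplicit false
universe u
open CategoryTheory CategoryTheory.Limits AlgebraicGeometry
open VBCurve

namespace Groth.Agent.S15331

/-- Let X be a smooth proper integral curve (integral, smooth and proper of dimension one) over an
algebraically closed field k and E a finite locally free O_X-module of rank r ≥ 1. Then the degrees
of the finite locally free submodules F of E, of any rank r' (degree meaning χ(F) − r'·χ(O_X)), are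
bounded above. -/
theorem result (k : Type u) [Field k] [IsAlgClosed k] (X : Scheme.{u}) [X.Over (Spec (CommRingCat.of k))]
    [IsIntegral X] [IsProper (X ↘ Spec (CommRingCat.of k))] [Smooth (X ↘ Spec (CommRingCat.of k))]
    (hdim : topologicalKrullDim X = 1)
    (r : ℕ) (hr : 0 < r) (E : X.Modules) (hE : FlatMod.IsFinLocFreeOfRank r E) :
    ∃ N : ℤ, ∀ (F : X.Modules) (r' : ℕ) (i : F ⟶ E), Mono i → FlatMod.IsFinLocFreeOfRank r' F →
      Curv2.deg k X F r' ≤ N := by
  have hEc := Groth.Agent.Lib.T2H6.RankAdd.isCoh_of_isFinLocFreeOfRank E r hE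
  refine ⟨(Module.finrank k (Coh.HH X E 0) : ℤ) + (r : ℤ) * |Curv2.euler k X (Coh.structureModule X)|, ?_⟩
  intro F r' i hi hF
  haveI := hi
  haveI : F.IsQuasicoherent := (Groth.Agent.Lib.T2H6.RankAdd.isCoh_of_isFinLocFreeOfRank F r' hF).1
  have h := Groth.Agent.Lib.T2H6.CurveSub.euler_le_h0_of_mono k hdim hEc i
  have hrr : r' ≤ r := Groth.Agent.Lib.T2H6.CurveSub.rank_le_of_mono i r' r hF hE
  have hrr' : (r' : ℤ) ≤ (r : ℤ) := by exact_mod_cast hrr
  have h0 : (0 : ℤ) ≤ (r' : ℤ) := Int.natCast_nonneg _
  have habs := neg_abs_le (Curv2.euler k X (Coh.structureModule X))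
  have habs0 := abs_nonneg (Curv2.euler k X (Coh.structureModule X))
  unfold Curv2.deg
  nlinarith

end Groth.Agent.S15331
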