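import Groth.Statements.S15335
import Mathlib
import Groth.Agent.Lib.T2H6CurveSS2
import Groth.Agent.Lib.T2H6CurveSmooth

set_option autoImplicit false
universe u
open CategoryTheory CategoryTheory.Limits AlgebraicGeometry
open VBCurve

namespace Groth.Agent.S15335

/-- Let X be a smooth proper integral curve (integral, smooth and proper of dimension one) over an
algebraically closed field k, and E₁, E₂ finite locally free O_X-modules of ranks r₁ ≥ 1, r₂ ≥ 1.
The maximal slope of E₁ ⊕ E₂ is at most the larger of the maximal slopes of E₁ and E₂: if m₁, m₂ are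
rational numbers such that every finite locally free submodule of positive rank of E₁ (resp. E₂) has
slope deg/rank ≤ m₁ (resp. ≤ m₂), degree meaning χ − rank·χ(O_X), then every finite locally free
submodule F of the biproduct E₁ ⊞ E₂ of rank r' ≥ 1 has slope deg F / r' ≤ max(m₁, m₂). -/
theorem result (k : Type u) [Field k] [IsAlgClosed k] (X : Scheme.{u}) [X.Over (Spec (CommRingCat.of k))]
    [IsIntegral X] [IsProper (X ↘ Spec (CommRingCat.of k))] [Smooth (X ↘ Spec (CommRingCat.of k))]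
    (hdim : topologicalKrullDim X = 1)
    (r₁ r₂ : ℕ) (hr₁ : 0 < r₁) (hr₂ : 0 < r₂) (E₁ E₂ : X.Modules)
    (hE₁ : FlatMod.IsFinLocFreeOfRank r₁ E₁) (hE₂ : FlatMod.IsFinLocFreeOfRank r₂ E₂) (m₁ m₂ : ℚ)
    (h₁ : ∀ (G : X.Modules) (r' : ℕ) (i : G ⟶ E₁), Mono i → 0 < r' → FlatMod.IsFinLocFreeOfRank r' G →
      (Curv2.deg k X G r' : ℚ) / r' ≤ m₁)
    (h₂ : ∀ (G : X.Modules) (r' : ℕ) (i : G ⟶ E₂), Mono i → 0 < r' → FlatMod.IsFinLocFreeOfRank r' G →
      (Curv2.deg k X G r' : ℚ) / r' ≤ m₂)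
    (F : X.Modules) (r' : ℕ) (i : F ⟶ E₁ ⊞ E₂) (hi : Mono i) (hr' : 0 < r')
    (hF : FlatMod.IsFinLocFreeOfRank r' F) :
    (Curv2.deg k X F r' : ℚ) / r' ≤ max m₁ m₂ := by
  have hreg := Groth.Agent.Lib.T2H6.CurveSmooth.isRegularLocalRing_stalk k X
  haveI := hi
  obtain ⟨rK, rI, hK, hI, hrk, hdeg, hImono, j, hj, hjfac⟩ :=
    Groth.Agent.Lib.T2H6.CurveSS2.sub_ext_data k hdim hreg i (biprod.snd : E₁ ⊞ E₂ ⟶ E₂) r' r₂ hF hE₂
  -- the map from the kernel part to `E₁`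
  have hm : Mono (kernel.ι (biprod.snd : E₁ ⊞ E₂ ⟶ E₂) ≫ biprod.fst) := by
    refine Preadditive.mono_of_cancel_zero _ (fun {P} a ha => ?_)
    have h1 : a ≫ kernel.ι (biprod.snd : E₁ ⊞ E₂ ⟶ E₂) = 0 := by
      apply biprod.hom_ext
      · rw [Category.assoc, ha, zero_comp]
      · rw [Category.assoc, kernel.condition, comp_zero, zero_comp]
    rw [← cancel_mono (kernel.ι (biprod.snd : E₁ ⊞ E₂ ⟶ E₂)), h1, zero_comp]
  haveI : Mono (j ≫ kernel.ι (biprod.snd : E₁ ⊞ E₂ ⟶ E₂) ≫ biprod.fst) := mono_comp _ _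
  set M := max m₁ m₂ with hM
  have hKb : (Curv2.deg k X (kernel (i ≫ biprod.snd)) rK : ℚ) ≤ M * rK := by
    rcases Nat.eq_zero_or_pos rK with h0 | h0
    · subst h0
      rw [Groth.Agent.Lib.T2H6.CurveSS2.deg_eq_zero_of_rank_zero k _ hK]
      simp
    · have := h₁ _ rK (j ≫ kernel.ι (biprod.snd : E₁ ⊞ E₂ ⟶ E₂) ≫ biprod.fst) inferInstance h0 hK
      have hpos : (0 : ℚ) < (rK : ℚ) := by exact_mod_cast h0
      rw [div_le_iff₀ hpos] at this
      have hle : m₁ ≤ M := le_max_left _ _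
      nlinarith
  have hIb : (Curv2.deg k X (Abelian.image (i ≫ biprod.snd)) rI : ℚ) ≤ M * rI := by
    rcases Nat.eq_zero_or_pos rI with h0 | h0
    · subst h0
      rw [Groth.Agent.Lib.T2H6.CurveSS2.deg_eq_zero_of_rank_zero k _ hI]
      simp
    · have := h₂ _ rI (Abelian.image.ι (i ≫ biprod.snd)) hImono h0 hI
      have hpos : (0 : ℚ) < (rI : ℚ) := by exact_mod_cast h0
      rw [div_le_iff₀ hpos] at this
      have hle : m₂ ≤ M := le_max_right _ _
      nlinarith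
  have hpos : (0 : ℚ) < (r' : ℚ) := by exact_mod_cast hr'
  rw [div_le_iff₀ hpos, hdeg, hrk]
  push_cast
  linarith

end Groth.Agent.S15335
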