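import Groth.Statements.S15340
import Mathlib
import Groth.Agent.Lib.T2H6CurveSS
import Groth.Agent.Lib.T2H6CurveSmooth

set_option autoImplicit false
universe u
open CategoryTheory CategoryTheory.Limits AlgebraicGeometry
open VBCurve

namespace Groth.Agent.S15340

/-- Let X be a smooth proper integral curve (integral, smooth and proper of dimension one) over an
algebraically closed field k and E a finite locally free O_X-module of rank r ≥ 1 which is
slope-semistable and slope-stable (deg G · r ≤ deg E · r' for finite locally free submodules G of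
rank r' ≥ 1, strictly when r' < r; degree = χ − rank·χ(O_X)). Then E is indecomposable: it is
nonzero and whenever E ≅ E₁ ⊞ E₂ as O_X-modules, one of E₁, E₂ is zero. -/
theorem result (k : Type u) [Field k] [IsAlgClosed k] (X : Scheme.{u}) [X.Over (Spec (CommRingCat.of k))]
    [IsIntegral X] [IsProper (X ↘ Spec (CommRingCat.of k))] [Smooth (X ↘ Spec (CommRingCat.of k))]
    (hdim : topologicalKrullDim X = 1)
    (r : ℕ) (hr : 0 < r) (E : X.Modules) (hE : FlatMod.IsFinLocFreeOfRank r E)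
    (hEss : ModFun.IsSlopeSemistable k X E r) (hEst : ModFun.IsSlopeStable k X E r) :
    ¬ IsZero E ∧ ∀ (E₁ E₂ : X.Modules), Nonempty (E ≅ E₁ ⊞ E₂) → IsZero E₁ ∨ IsZero E₂ := by
  have hreg := Groth.Agent.Lib.T2H6.CurveSmooth.isRegularLocalRing_stalk k X
  have hendo : ∀ p : E ⟶ E, p ≠ 0 → IsIso p := fun p hp =>
    Groth.Agent.Lib.T2H6.CurveSS.isIso_of_stable k hdim hreg r r hr hr E E hE hE hEst hEst rfl p hp
  have hne : ¬ IsZero E := by
    intro hz
    obtain ⟨hf, hfin, hrk⟩ := Groth.Agent.Lib.T2H6.RankAdd.free_finite_stalk E r hE (genericPoint X)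
    haveI := hf
    haveI := hfin
    have h1 : (𝟙 E : E ⟶ E) = 0 := hz.eq_of_src _ _
    haveI : Subsingleton (E.presheaf.stalk (genericPoint X)) := by
      refine ⟨fun a b => ?_⟩
      have key : ∀ g : E.presheaf.stalk (genericPoint X), g = 0 := by
        intro g
        obtain ⟨U, hU, t, rfl⟩ := E.presheaf.exists_germ_eq g
        have h2 : t = 0 := by
          have h3 : (𝟙 E : E ⟶ E).app U t = (0 : E ⟶ E).app U t := by rw [h1]
          exact h3
        rw [h2, map_zero]
      rw [key a, key b]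
    have := (Module.finrank_eq_zero_iff_of_free (X.presheaf.stalk (genericPoint X))
      (E.presheaf.stalk (genericPoint X))).mpr inferInstance
    omega
  refine ⟨hne, ?_⟩
  rintro E₁ E₂ ⟨e⟩
  let p : E ⟶ E := e.hom ≫ biprod.fst ≫ biprod.inl ≫ e.inv
  let q : E ⟶ E := e.hom ≫ biprod.snd ≫ biprod.inr ≫ e.inv
  have hpq : p + q = 𝟙 E := by
    have : (biprod.fst ≫ biprod.inl + biprod.snd ≫ biprod.inr : E₁ ⊞ E₂ ⟶ E₁ ⊞ E₂) = 𝟙 _ :=
      biprod.total
    change e.hom ≫ biprod.fst ≫ biprod.inl ≫ e.inv + e.hom ≫ biprod.snd ≫ biprod.inr ≫ e.inv = 𝟙 E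
    rw [← Category.assoc biprod.fst, ← Category.assoc biprod.snd, ← Preadditive.comp_add,
      ← Preadditive.add_comp, this, Category.id_comp, e.hom_inv_id]
  have hpp : p ≫ p = p := by
    change (e.hom ≫ biprod.fst ≫ biprod.inl ≫ e.inv) ≫ (e.hom ≫ biprod.fst ≫ biprod.inl ≫ e.inv) =
      e.hom ≫ biprod.fst ≫ biprod.inl ≫ e.inv
    simp
  have h1 : biprod.inl ≫ e.inv ≫ p ≫ e.hom ≫ biprod.fst = 𝟙 E₁ := by
    change biprod.inl ≫ e.inv ≫ (e.hom ≫ biprod.fst ≫ biprod.inl ≫ e.inv) ≫ e.hom ≫ biprod.fst = _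
    simp
  have h2 : biprod.inr ≫ e.inv ≫ q ≫ e.hom ≫ biprod.snd = 𝟙 E₂ := by
    change biprod.inr ≫ e.inv ≫ (e.hom ≫ biprod.snd ≫ biprod.inr ≫ e.inv) ≫ e.hom ≫ biprod.snd = _
    simp
  by_cases hp : p = 0
  · left
    rw [IsZero.iff_id_eq_zero, ← h1, hp]
    simp
  · right
    haveI := hendo p hp
    have hp1 : p = 𝟙 E := by
      have := congrArg (fun t => inv p ≫ t) hpp
      simpa using this
    have hq : q = 0 := by
      rw [hp1] at hpq
      exact add_eq_left.mp hpq
    rw [IsZero.iff_id_eq_zero, ← h2, hq]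
    simp

end Groth.Agent.S15340
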