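import Groth.Statements.S15364
import Groth.Agent.Lib.T2H7MumF

set_option autoImplicit false
universe u
open CategoryTheory CategoryTheory.Limits MonoidalCategory CartesianMonoidalCategory AlgebraicGeometry
open AbSch

namespace Groth.Agent.S15364

/-- For an abelian scheme f : A → T (a commutative T-group scheme, proper and smooth over T with
geometrically connected fibres) and a commutative group scheme H finite and locally free over T, the
adjunction map H → f_* f^* H of fppf sheaves on T is an isomorphism, i.e. for every T-scheme U the
map H(U) → H(A ×_T U), s ↦ s ∘ pr, is bijective. This row states the case U = T, to which the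
general case reduces by base change: composition with the structure morphism A → T is a bijection
from the sections of H over T onto the T-morphisms A → H. The group structure of H plays no role and
is not assumed. (The published statement has an arbitrary base T; the published argument rests on
the rigidity lemma in its form for Noetherian schemes, so T is taken locally Noetherian here.) -/
theorem result {T : Scheme.{u}} [IsLocallyNoetherian T]
    (A : Over T) [GrpObj A] [IsCommMonObj A] [IsProper A.hom] [Smooth A.hom] [GeometricallyConnected A.hom]
    (H : Over T) [IsFinite H.hom] [Flat H.hom] [LocallyOfFinitePresentation H.hom] :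
    Function.Bijective fun s : (𝟙_ (Over T) ⟶ H) => toUnit A ≫ s := by
  classical
  constructor
  · intro s s' hss'
    have h1 : (MonObj.one : 𝟙_ (Over T) ⟶ A) ≫ toUnit A ≫ s =
        (MonObj.one : 𝟙_ (Over T) ⟶ A) ≫ toUnit A ≫ s' := by
      show (MonObj.one : 𝟙_ (Over T) ⟶ A) ≫ (fun s => toUnit A ≫ s) s = _
      rw [hss']
    rw [← Category.assoc, ← Category.assoc,
      toUnit_unique ((MonObj.one : 𝟙_ (Over T) ⟶ A) ≫ toUnit A) (𝟙 _),
      Category.id_comp, Category.id_comp] at h1
    exact h1
  · intro φ
    have h0 : ∀ t : T, Function.Bijective
        (pullback.snd A.hom (T.fromSpecResidueField t)).appTop.hom :=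
      fun t => Groth.Agent.Lib.T2H7.MumF.appTop_snd_bijective_of_smooth_of_geometricallyConnected
        A.hom t
    have hflat : Flat A.hom := inferInstance
    have hsep : IsSeparated H.hom := inferInstance
    have hall : ∀ x x' : A.left, A.hom.base x = A.hom.base x' →
        φ.left.base x = φ.left.base x' := by
      intro x x' hxx'
      have hconn := (A.hom.isConnected_preimage_singleton (A.hom.base x')).isPreconnected
      have hdisc := H.hom.isDiscrete_preimage_singleton (A.hom.base x')
      refine hconn.constant_of_mapsTo hdisc φ.left.continuous.continuousOn ?_ hxx' rfl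
      intro z hz
      show H.hom.base (φ.left.base z) = A.hom.base x'
      have h1 := congrArg (fun k : A.left ⟶ T => k.base z) (Over.w φ)
      simp only [Scheme.Hom.comp_base, TopCat.comp_app] at h1
      rw [h1]
      exact hz
    obtain ⟨t, ht, hφt⟩ := Groth.Agent.Lib.T2H7.MumF.exists_section_of_forall A.hom H.hom φ.left
      (Over.w φ) h0 hall
    have htw : t ≫ H.hom = (𝟙_ (Over T)).hom := by
      rw [ht, Over.tensorUnit_hom]
    refine ⟨Over.homMk t htw, ?_⟩
    apply Over.OverMorphism.ext
    show (toUnit A).left ≫ t = φ.left
    rw [Over.toUnit_left, hφt]

end Groth.Agent.S15364
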