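import Groth.Statements.S15415
import Groth.Agent.Lib.T2H2RedNormGal
import Groth.Agent.Lib.T2H2NDeuC

set_option autoImplicit false
universe u v w
open scoped TensorProduct
attribute [local instance] CSAGal.tensorAction GpH1.unitsAction
open GalCoh

namespace Groth.Agent.S15415

/-- For a central simple algebra over a field, the first Galois cohomology set of its norm-one group is
identified with the nonzero scalars modulo the reduced norms of units, by the boundary map of the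
sequence norm-one units → units → nonzero scalars. Finite-level form: let k be a field, K a finite
Galois extension of k whose Galois group acts on K ⊗_k A through the first factor, A a
finite-dimensional central simple k-algebra split by K, N the reduced norm of A over k and N_K the
reduced norm of K ⊗_k A over K. Then (i) every 1-cocycle a with values in the units of K ⊗_k A of
reduced norm one is of the form a σ = b⁻¹ · σ(b) for a unit b whose reduced norm is an element c of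
kˣ; and (ii) for units b, b' of K ⊗_k A with reduced norms c, c' in kˣ, the cocycles σ ↦ b⁻¹σ(b) and
σ ↦ b'⁻¹σ(b') are cohomologous through a unit of reduced norm one if and only if c' = N(x) · c for
some unit x of A. (Since K splits A the reduced norm N_K takes every value in kˣ, so (i) and (ii)
say that c ↦ class of b⁻¹σ(b), N_K b = c, is a well-defined bijection from kˣ/N(Aˣ) onto the
cohomology set of the norm-one units. The published statement is for the absolute Galois group of a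
field of characteristic different from 2, an assumption playing no role here; this row is the
finite-level form over a splitting field.) -/
theorem result
    (k : Type u) [Field k] (K : Type v) [Field K] [Algebra k K] [FiniteDimensional k K] [IsGalois k K]
    (A : Type w) [Ring A] [Algebra k A] [Algebra.IsCentral k A] [IsSimpleRing A] [FiniteDimensional k A]
    (hA : Curves.Splits k A K)
    (N : A →* k) (hN : CSAGal.IsRedNorm k A N)
    (NK : (K ⊗[k] A) →* K) (hNK : CSAGal.IsRedNorm K (K ⊗[k] A) NK) :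
    (∀ a : GpH1.OneCocycle (K ≃ₐ[k] K) (K ⊗[k] A)ˣ, (∀ σ, NK (a σ : K ⊗[k] A) = 1) →
        ∃ (c : kˣ) (b : (K ⊗[k] A)ˣ), NK (b : K ⊗[k] A) = algebraMap k K (c : k) ∧
          ∀ σ : K ≃ₐ[k] K, a σ = b⁻¹ * σ • b) ∧
    (∀ (c c' : kˣ) (b b' : (K ⊗[k] A)ˣ),
        NK (b : K ⊗[k] A) = algebraMap k K (c : k) → NK (b' : K ⊗[k] A) = algebraMap k K (c' : k) →
        ((∃ s : (K ⊗[k] A)ˣ, NK (s : K ⊗[k] A) = 1 ∧
            ∀ σ : K ≃ₐ[k] K, b'⁻¹ * σ • b' = s⁻¹ * (b⁻¹ * σ • b) * σ • s) ↔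
          ∃ x : Aˣ, (c' : k) = N (x : A) * (c : k))) := by
  have hsm : ∀ (σ : K ≃ₐ[k] K) (t : K ⊗[k] A), NK (σ • t) = σ (NK t) :=
    Groth.Agent.Lib.T2H2.RedNormGal.redNorm_smul NK hNK
  have h1x : ∀ x : A, NK ((1 : K) ⊗ₜ[k] x) = algebraMap k K (N x) :=
    Groth.Agent.Lib.T2H2.RedNormGal.redNorm_one_tmul N hN NK hNK
  have hval : ∀ (σ : K ≃ₐ[k] K) (u : (K ⊗[k] A)ˣ),
      ((σ • u : (K ⊗[k] A)ˣ) : K ⊗[k] A) = σ • (u : K ⊗[k] A) := fun _ _ => rfl
  have hNKinv : ∀ u : (K ⊗[k] A)ˣ, NK ((u⁻¹ : (K ⊗[k] A)ˣ) : K ⊗[k] A) = (NK (u : K ⊗[k] A))⁻¹ := by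
    intro u
    have h4 : NK ((u⁻¹ : (K ⊗[k] A)ˣ) : K ⊗[k] A) * NK (u : K ⊗[k] A) = 1 := by
      rw [← map_mul, Units.inv_mul, map_one]
    exact eq_inv_of_mul_eq_one_left h4
  have hNKne : ∀ u : (K ⊗[k] A)ˣ, NK (u : K ⊗[k] A) ≠ 0 := by
    intro u h0
    have h4 : NK ((u⁻¹ : (K ⊗[k] A)ˣ) : K ⊗[k] A) * NK (u : K ⊗[k] A) = 1 := by
      rw [← map_mul, Units.inv_mul, map_one]
    rw [h0, mul_zero] at h4
    exact zero_ne_one h4
  refine ⟨fun a ha => ?_, fun c c' b b' hb hb' => ⟨?_, ?_⟩⟩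
  · have htriv : GpH1.H1.IsTrivial (K ≃ₐ[k] K) (K ⊗[k] A)ˣ :=
      Groth.Agent.Lib.T2H2.NDeu.h1_units_trivial
    have h := htriv a.cl
    unfold GpH1.H1.pt at h
    rw [GpH1.OneCocycle.cl_eq_cl_iff] at h
    obtain ⟨b, hb⟩ := h
    have hb' : ∀ σ : K ≃ₐ[k] K, a σ = b⁻¹ * σ • b := by
      intro σ
      rw [hb σ]
      show b⁻¹ * 1 * σ • b = _
      rw [mul_one]
    have hfix : ∀ σ : K ≃ₐ[k] K, σ (NK (b : K ⊗[k] A)) = NK (b : K ⊗[k] A) := by
      intro σ
      have h2 := ha σ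
      rw [hb' σ, Units.val_mul, map_mul, hval, hsm, hNKinv] at h2
      have h3 := hNKne b
      field_simp at h2
      exact h2
    obtain ⟨c0, hc0⟩ := (IsGalois.mem_range_algebraMap_iff_fixed (NK (b : K ⊗[k] A))).2 hfix
    have hc0ne : c0 ≠ 0 := by
      rintro rfl
      rw [map_zero] at hc0
      exact hNKne b hc0.symm
    exact ⟨Units.mk0 c0 hc0ne, b, hc0.symm, hb'⟩
  · rintro ⟨s, hs1, hs⟩
    have hy : ∀ σ : K ≃ₐ[k] K, σ • (b * s * b'⁻¹) = b * s * b'⁻¹ := by
      intro σ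
      rw [smul_mul', smul_mul', smul_inv']
      have h5 : σ • s = (b⁻¹ * σ • b)⁻¹ * s * (b'⁻¹ * σ • b') := by
        rw [hs σ]
        group
      rw [h5]
      group
    have hyi : ∀ σ : K ≃ₐ[k] K, σ • (b * s * b'⁻¹)⁻¹ = (b * s * b'⁻¹)⁻¹ := by
      intro σ
      rw [smul_inv', hy]
    obtain ⟨x₀, hx₀⟩ := Groth.Agent.Lib.Helper23.exists_one_tmul_eq_of_fixed (k := k) (K := K)
      (((b * s * b'⁻¹ : (K ⊗[k] A)ˣ)) : K ⊗[k] A) (fun σ => by rw [← hval, hy])
    obtain ⟨x₁, hx₁⟩ := Groth.Agent.Lib.Helper23.exists_one_tmul_eq_of_fixed (k := k) (K := K)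
      (((b * s * b'⁻¹)⁻¹ : (K ⊗[k] A)ˣ) : K ⊗[k] A) (fun σ => by rw [← hval, hyi])
    have hinj := Groth.Agent.Lib.Helper23.one_tmul_injective (k := k) (K := K) (W := A)
    have h10 : x₁ * x₀ = 1 := by
      apply hinj
      show (1 : K) ⊗ₜ[k] (x₁ * x₀) = (1 : K) ⊗ₜ[k] (1 : A)
      have : ((1 : K) ⊗ₜ[k] x₁ : K ⊗[k] A) * ((1 : K) ⊗ₜ[k] x₀) = 1 := by
        rw [hx₀, hx₁, Units.inv_mul]
      rw [Algebra.TensorProduct.tmul_mul_tmul, mul_one] at this
      rw [this]
      rfl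
    have hNy : NK ((1 : K) ⊗ₜ[k] x₀) = algebraMap k K (c : k) * (algebraMap k K (c' : k))⁻¹ := by
      rw [hx₀, Units.val_mul, Units.val_mul, map_mul, map_mul, hs1, mul_one, hNKinv, hb, hb']
    rw [h1x] at hNy
    have hc'ne : algebraMap k K (c' : k) ≠ 0 := by
      rw [← hb']
      exact hNKne b'
    have h11 : N x₀ * (c' : k) = (c : k) := by
      apply (algebraMap k K).injective
      rw [map_mul, hNy, inv_mul_cancel_right₀ hc'ne]
    have hN10 : N x₁ * N x₀ = 1 := by rw [← map_mul, h10, map_one]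
    have h01 : x₀ * x₁ = 1 := by
      apply hinj
      show (1 : K) ⊗ₜ[k] (x₀ * x₁) = (1 : K) ⊗ₜ[k] (1 : A)
      have : ((1 : K) ⊗ₜ[k] x₀ : K ⊗[k] A) * ((1 : K) ⊗ₜ[k] x₁) = 1 := by
        rw [hx₀, hx₁, Units.mul_inv]
      rw [Algebra.TensorProduct.tmul_mul_tmul, mul_one] at this
      rw [this]
      rfl
    refine ⟨⟨x₁, x₀, h10, h01⟩, ?_⟩
    show (c' : k) = N x₁ * (c : k)
    rw [← h11, ← mul_assoc, hN10, one_mul]
  · rintro ⟨x, hx⟩
    let y : (K ⊗[k] A)ˣ :=
      Units.map ((Algebra.TensorProduct.includeRight : A →ₐ[k] K ⊗[k] A) : A →* K ⊗[k] A) x⁻¹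
    have hyv : (y : K ⊗[k] A) = (1 : K) ⊗ₜ[k] ((x⁻¹ : Aˣ) : A) := rfl
    have hyfix : ∀ σ : K ≃ₐ[k] K, σ • y = y := by
      intro σ
      apply Units.ext
      rw [hval, hyv, TensorProduct.smul_tmul', smul_one]
    refine ⟨b⁻¹ * y * b', ?_, fun σ => ?_⟩
    · rw [Units.val_mul, Units.val_mul, map_mul, map_mul, hNKinv, hb, hb', hyv, h1x, hx, map_mul]
      have hcne : algebraMap k K (c : k) ≠ 0 := by
        rw [← hb]
        exact hNKne b
      have hNx : N ((x⁻¹ : Aˣ) : A) * N (x : A) = 1 := by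
        rw [← map_mul, Units.inv_mul, map_one]
      have hNx' : algebraMap k K (N ((x⁻¹ : Aˣ) : A)) * algebraMap k K (N (x : A)) = 1 := by
        rw [← map_mul, hNx, map_one]
      calc (algebraMap k K (c : k))⁻¹ * algebraMap k K (N ((x⁻¹ : Aˣ) : A)) *
            (algebraMap k K (N (x : A)) * algebraMap k K (c : k))
          = (algebraMap k K (c : k))⁻¹ * (algebraMap k K (N ((x⁻¹ : Aˣ) : A)) *
            algebraMap k K (N (x : A))) * algebraMap k K (c : k) := by ring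
        _ = 1 := by rw [hNx', mul_one, inv_mul_cancel₀ hcne]
    · rw [smul_mul', smul_mul', smul_inv', hyfix]
      group

end Groth.Agent.S15415
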