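import Groth.Statements.S15435
import Groth.Agent.Lib.T2H3TilI

set_option autoImplicit false
set_option linter.style.haveILetI false
universe u
open GrSyz

namespace Groth.Agent.S15435

/-- Let k be a field, S = k[x_0, …, x_r] graded by degree, 𝔪 = (x_0, …, x_r), and M a finitely generated
ℤ-graded S-module; M̃ and the M(d)~ denote the O-modules on P^r_k associated with the pieces M_n, n
≥ 0 (they depend only on the pieces of large degree), with the canonical maps M_d → H^0(P^r_k,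
M(d)~); graded local cohomology is computed from any *injective resolution in the graded category;
let d ≥ 0. Then M is d-regular, that is H^0_𝔪(M) has no nonzero piece above degree d and H^i_𝔪(M)
vanishes in degree d − i + 1 for every i > 0, if and only if: (1) the sheaf M̃ is d-regular,
H^i(P^r_k, M̃(d − i)) = 0 for 1 ≤ i ≤ r; (2) H^0_𝔪(M) vanishes in every degree e > d; and (3) the
canonical map from M_d to the global sections of M(d)~ is surjective. (The published statement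
allows any integer d; it is stated here for d ≥ 0.) -/
theorem result (k : Type u) [Field k] (r : ℕ)
    (M : Type u) [AddCommGroup M] [Module k M] [Module (MvPolynomial (Fin (r + 1)) k) M]
    [IsScalarTower k (MvPolynomial (Fin (r + 1)) k) M] [Module.Finite (MvPolynomial (Fin (r + 1)) k) M]
    (ℳ : ℤ → Submodule k M) [DirectSum.Decomposition ℳ] [SetLike.GradedSMul (GrSyz.stdGr k (Fin (r + 1))) ℳ]
    [SetLike.GradedSMul (CohB1.polyGrading r k) (fun n : ℕ => ℳ (n : ℤ))]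
    (E : GrLC.StarInjRes (GrSyz.stdGr k (Fin (r + 1))) ℳ) (d : ℕ) :
    (GrLC.endDeg (E.Hgr (GrSyz.irrel (GrSyz.stdGr k (Fin (r + 1)))) 0) ≤ (((d : ℤ) : WithTop ℤ) : WithBot (WithTop ℤ)) ∧
        ∀ i : ℕ, 0 < i → E.Hcomp (GrSyz.irrel (GrSyz.stdGr k (Fin (r + 1)))) i ((d : ℤ) - (i : ℤ) + 1) = ⊥) ↔
      (Curv2.IsMRegular k r (GrTilde.tilde (CohB1.polyGrading r k) (fun n : ℕ => ℳ (n : ℤ)) 0) (d : ℤ) ∧
        (∀ e : ℤ, (d : ℤ) < e → E.Hcomp (GrSyz.irrel (GrSyz.stdGr k (Fin (r + 1)))) 0 e = ⊥) ∧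
        Function.Surjective (fun m : ↥(ℳ ((d : ℕ) : ℤ)) => GrTilde.globalOf (CohB1.polyGrading r k) (fun n : ℕ => ℳ (n : ℤ)) m)) := by
  classical
  have hHc : ∀ (i : ℕ) (j : ℤ),
      E.Hcomp (GrSyz.irrel (GrSyz.stdGr k (Fin (r + 1)))) i j = ⊥ ↔
        Groth.Agent.Lib.T2H3.EG.Van k r ℳ i j := by
    intro i j
    rw [Groth.Agent.Lib.T2H3.EG.van_iff_Hgr k r E i j]
    constructor
    · intro h
      change (E.Hcomp _ i j).toAddSubgroup = ⊥
      rw [h, Submodule.bot_toAddSubgroup]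
    · intro h
      apply Submodule.toAddSubgroup_injective
      rw [Submodule.bot_toAddSubgroup]
      exact h
  have hend : GrLC.endDeg (E.Hgr (GrSyz.irrel (GrSyz.stdGr k (Fin (r + 1)))) 0) ≤
        (((d : ℤ) : WithTop ℤ) : WithBot (WithTop ℤ)) ↔
      ∀ e : ℤ, (d : ℤ) < e → E.Hcomp (GrSyz.irrel (GrSyz.stdGr k (Fin (r + 1)))) 0 e = ⊥ := by
    rw [Groth.Agent.Lib.T2H3.EG.endDeg_le_iff']
    constructor
    · intro h e he
      rw [hHc, Groth.Agent.Lib.T2H3.EG.van_iff_Hgr k r E 0 e]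
      exact h e he
    · intro h e he
      rw [← Groth.Agent.Lib.T2H3.EG.van_iff_Hgr k r E 0 e, ← hHc]
      exact h e he
  constructor
  · rintro ⟨h0, h⟩
    have hreg := (Groth.Agent.Lib.T2H3.Reg.weak_iff_reg_le k r E (d : ℤ)).mp ⟨h0, h⟩
    obtain ⟨hs1, hs3⟩ := Groth.Agent.Lib.T2H3.Til.sheaf_of_isRegLE k r ℳ d hreg
    exact ⟨hs1, hend.mp h0, hs3⟩
  · rintro ⟨h1, h2, h3⟩
    refine ⟨hend.mpr h2, fun i hi => ?_⟩
    rw [hHc]
    exact Groth.Agent.Lib.T2H3.Til.van_of_sheaf k r ℳ d h1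
      (fun e he => (hHc 0 e).mp (h2 e he)) h3 i hi

end Groth.Agent.S15435
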