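import Groth.Statements.S1549
import Groth.Agent.Lib.T2H9GeomRedSmooth

set_option autoImplicit false
set_option linter.style.haveILetI false
set_option linter.unusedVariables false
universe u
open CategoryTheory CategoryTheory.Limits AlgebraicGeometry
open Variety

namespace Groth.Agent.S1549

/-- For a reduced scheme locally of finite type over k, being geometrically reduced is equivalent to
having a dense open subscheme that is smooth over k. -/
theorem result (k : Type u) [Field k] (X : Scheme.{u}) [X.Over (Spec (CommRingCat.of k))] [IsReduced X] [LocallyOfFiniteType (X ↘ (Spec (CommRingCat.of k)))] :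
    GeometricallyReduced (X ↘ (Spec (CommRingCat.of k))) ↔ ∃ U : X.Opens, Dense (U : Set X) ∧ Smooth (U.ι ≫ (X ↘ (Spec (CommRingCat.of k)))) := by
  constructor
  · intro h
    haveI : LocallyOfFinitePresentation (X ↘ (Spec (CommRingCat.of k))) := inferInstance
    exact ⟨(X ↘ (Spec (CommRingCat.of k))).smoothLocus,
      Groth.Agent.Lib.T2H9.GeomRedSmooth.dense_smoothLocus k X,
      Groth.Agent.Lib.T2H9.GenSmooth.smooth_smoothLocus_ι_comp _⟩
  · rintro ⟨U, hU, hsm⟩
    exact Groth.Agent.Lib.T2H9.GeomRedSmooth.geometricallyReduced_of_dense_smooth k X U hU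

end Groth.Agent.S1549
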