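import Groth.Statements.S1551
import Mathlib
import Groth.Agent.S1664
import Groth.Agent.Lib.T2H6AmpCurveF
import Groth.Agent.Lib.T2H6AffPtsB

set_option autoImplicit false
universe u
open CategoryTheory CategoryTheory.Limits AlgebraicGeometry
open Variety

namespace Groth.Agent.S1551

/-- A Noetherian separated scheme of dimension one has an ample invertible module. -/
theorem result (X : Scheme.{u}) [IsNoetherian X] [X.IsSeparated]
    (hdim : topologicalKrullDim X = 1) : ∃ L : X.Modules, CohB1.IsAmple L := by
  classical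
  apply Groth.Agent.S1664.result X
  intro x
  have hgfin : (Groth.Agent.Lib.T2H6.PicLift.genPts X).Finite := Groth.Agent.Lib.T2H6.PicLift.finite_genPts
  have hirr : ∀ U : X.Opens, IsCompact (U : Set X) → (irreducibleComponents (U : Set X)).Finite :=
    fun U _ => TopologicalSpace.NoetherianSpace.finite_irreducibleComponents
  obtain ⟨U, hU, hUs⟩ := Groth.Agent.Lib.T2H6.AffPts.exists_affine_of_separated X hirr
    (insert x hgfin.toFinset) (fun y _ => ⟨inferInstance,
      (Groth.Agent.Lib.Helper4.FibDim.ringKrullDim_stalk_le_topologicalKrullDim X y).trans hdim.le⟩)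
  have hxU : x ∈ U := hUs x (Finset.mem_insert_self _ _)
  have hgenU : Groth.Agent.Lib.T2H6.PicLift.genPts X ⊆ U := fun η hη =>
    hUs η (Finset.mem_insert_of_mem (hgfin.mem_toFinset.2 hη))
  obtain ⟨L, s, hL, hgg, hs⟩ :=
    Groth.Agent.Lib.T2H6.AmpCurve.exists_globallyGenerated_invertible_of_dim_le_one hdim.le U hU hgenU
  exact ⟨L, s, hL, hgg, hs ▸ hxU, hs ▸ hU⟩

end Groth.Agent.S1551
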