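import Groth.Statements.S15522
import Groth.Agent.Lib.T2H9CoreBC
import Groth.Agent.Lib.T2H9FibRank
import Groth.Agent.S2381
import Groth.Agent.S2406

set_option autoImplicit false
set_option linter.style.haveILetI false
set_option linter.unusedVariables false
universe u
attribute [local instance] HasDerivedCategory.standard
open Coherent

namespace Groth.Agent.S15522

open AlgebraicGeometry CategoryTheory in
/-- Let A be a reduced Noetherian ring, X a proper scheme over Spec A with structure morphism f, F a
coherent O_X-module flat over Spec A, and p a natural number such that the function y ↦ dim_{κ(y)}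
H^p(X_y, F_y) is locally constant on Spec A. For each q write T^q for the functor M ↦ H^q(X, f^*(M~)
⊗ F) from A-modules to abelian groups. Then T^p takes surjections to surjections, and so does
T^(p-1) when p ≥ 1; equivalently, every base-change map H^q(X, F) ⊗_A M → H^q(X, F ⊗_A M) is
bijective for q = p and q = p - 1. (The published statement also asserts that R^p f_*F is locally
free of finite rank; this row states the two exchange properties only, over an affine base.) -/
theorem result (A : Type u) [CommRing A]
    [IsNoetherianRing A] [IsReduced A] (X : Scheme.{u}) [X.Over (Spec (CommRingCat.of A))]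
    [IsProper (X ↘ Spec (CommRingCat.of A))] (F : X.Modules) (hF : Coh.IsCoh F)
    (hfl : FlatMod.IsFlatOver (X ↘ Spec (CommRingCat.of A)) F) (p : ℕ)
    (hconst : IsLocallyConstant (CohIII.fiberRank (X ↘ Spec (CommRingCat.of A)) F p)) :
    (CohIII.tensorAFunctor A F ⋙ CohIII.HAb X p).PreservesEpimorphisms ∧
      ∀ q : ℕ, q + 1 = p → (CohIII.tensorAFunctor A F ⋙ CohIII.HAb X q).PreservesEpimorphisms := by
  obtain ⟨P, h1, h2, h3, h4⟩ :=
    Groth.Agent.Lib.T2H9.CoreBC.exists_chain_bridge_bc A X F hF hfl
  have hP : ∀ i, Module.Finite A (P.X i) ∧ Module.Flat A (P.X i) := fun i =>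
    ⟨(h1 i).1, haveI := (h1 i).2; inferInstance⟩
  have hflat : ∀ i, Module.Flat A (P.X i) := fun i => (hP i).2
  have hfr : CohIII.fiberRank (X ↘ Spec (CommRingCat.of A)) F p = CohIII.dRank P (-(p : ℤ)) := by
    funext y
    exact Groth.Agent.Lib.T2H9.FibRank.fiberRank_eq_dRank A F P p
      (fun A' _ _ X' _ g' hsq => h4 A' X' g' hsq p) y
  have hlc : IsLocallyConstant (CohIII.dRank P (-(p : ℤ))) := hfr ▸ hconst
  obtain ⟨hm, he⟩ := (Groth.Agent.S2381.result P hP (-(p : ℤ))).2 inferInstance hlc
  obtain ⟨e⟩ := h3 p
  refine ⟨(Groth.Agent.Lib.T2H9.Bridge.preservesEpi_iff e).2 he, ?_⟩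
  intro q hq
  obtain ⟨eq⟩ := h3 q
  refine (Groth.Agent.Lib.T2H9.Bridge.preservesEpi_iff eq).2 ?_
  have hpq : -(p : ℤ) + 1 = -(q : ℤ) := by
    subst hq
    push_cast
    ring
  exact (Groth.Agent.S2406.result P hflat (-(q : ℤ)) (-(p : ℤ)) hpq).2 hm

end Groth.Agent.S15522
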