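import Groth.Statements.S15544
import Groth.Agent.S2431
import Groth.Agent.Lib.T2H9SteinNormal

set_option autoImplicit false
set_option linter.style.haveILetI false
set_option linter.unusedVariables false
open CategoryTheory AlgebraicGeometry
universe u
open Coherent

namespace Groth.Agent.S15544

/-- Let X and Y be integral schemes, Y locally Noetherian with all local rings integrally closed, and f
: X ⟶ Y a proper birational morphism (the generic point of X maps to that of Y and the stalk map
there is an isomorphism). Then every fibre of f is connected and nonempty. (The published statement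
takes X and Y Noetherian; over a locally Noetherian Y this is the same assertion fibre by fibre.) -/
theorem result {X Y : Scheme.{u}} [IsIntegral X]
    [IsIntegral Y] [IsLocallyNoetherian Y] (hY : Pi1.IsNormalScheme Y) (f : X ⟶ Y) [IsProper f]
    (hgen : f.base (genericPoint X) = genericPoint Y) (hbir : IsIso (f.stalkMap (genericPoint X)))
    (y : Y) : ConnectedSpace ↥(f.fiber y) := by
  have hdom : f.base (genericPoint X) ⤳ genericPoint Y := specializes_of_eq hgen
  have halg : ∀ x : X.functionField,
      (∃ p : Polynomial Y.functionField, p ≠ 0 ∧
        Polynomial.eval₂ (CohIII.stalkToFunctionField f (genericPoint Y) hdom) x p = 0) →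
      x ∈ Set.range (CohIII.stalkToFunctionField f (genericPoint Y) hdom) := by
    intro x _
    obtain ⟨w, hw⟩ := (ConcreteCategory.bijective_of_isIso (f.stalkMap (genericPoint X))).2 x
    have h' : genericPoint Y ⤳ f.base (genericPoint X) := specializes_of_eq hgen.symm
    refine ⟨(Y.presheaf.stalkSpecializes h').hom w, ?_⟩
    change (f.stalkMap (genericPoint X)).hom ((Y.presheaf.stalkSpecializes hdom).hom
      ((Y.presheaf.stalkSpecializes h').hom w)) = x
    have e : (Y.presheaf.stalkSpecializes hdom).hom ((Y.presheaf.stalkSpecializes h').hom w) = w := by
      have e1 := TopCat.Presheaf.stalkSpecializes_comp Y.presheaf hdom h'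
      have e2 : Y.presheaf.stalkSpecializes (hdom.trans h') = 𝟙 _ :=
        TopCat.Presheaf.stalkSpecializes_refl Y.presheaf _
      rw [e2] at e1
      exact congrArg (fun t => t.hom w) e1
    rw [e]
    exact hw
  have hiso := Groth.Agent.Lib.T2H9.SteinNormal.isIso_app f hdom hY halg
  exact (Groth.Agent.S2431.result f hiso).1 y

end Groth.Agent.S15544
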