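import Groth.Statements.S15550
import Groth.Agent.Lib.T2H4GrModGlue
import Groth.Agent.Lib.T2H2PunctD

set_option autoImplicit false
universe u
open CategoryTheory AlgebraicGeometry Opposite
open LocCoh

namespace Groth.Agent.S15550

open Groth.Agent.Lib.T2H4.GrModGlue Groth.Agent.Lib.T2H2.LowCechR Groth.Agent.Lib.T2H2.FlasqueKz
open TopologicalSpace

/-- homogeneous generators of positive degrees of the irrelevant ideal -/
theorem exists_gens {R σ : Type u} [CommRing R] [IsNoetherianRing R] [SetLike σ R]
    [AddSubgroupClass σ R] (𝒜 : ℕ → σ) [GradedRing 𝒜] :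
    ∃ fs : List R, (∀ f ∈ fs, ∃ d : ℕ, 0 < d ∧ f ∈ 𝒜 d) ∧
      Ideal.span {x : R | x ∈ fs} = (HomogeneousIdeal.irrelevant 𝒜).toIdeal := by
  classical
  set T : Set R := {x | ∃ d : ℕ, 0 < d ∧ x ∈ 𝒜 d} with hT
  have hspan : Ideal.span T = (HomogeneousIdeal.irrelevant 𝒜).toIdeal := by
    apply le_antisymm
    · rw [Ideal.span_le]
      rintro x ⟨d, hd, hx⟩
      change x ∈ HomogeneousIdeal.irrelevant 𝒜
      rw [HomogeneousIdeal.mem_irrelevant_iff, GradedRing.proj_apply,
        DirectSum.decompose_of_mem_ne 𝒜 hx (Nat.pos_iff_ne_zero.mp hd)]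
    · intro x hx
      rw [← DirectSum.sum_support_decompose 𝒜 x]
      refine Ideal.sum_mem _ (fun e _ => ?_)
      by_cases he : e = 0
      · subst he
        have h0 : (DirectSum.decompose 𝒜 x 0 : R) = 0 := by
          have := (HomogeneousIdeal.mem_irrelevant_iff 𝒜 x).mp hx
          rwa [GradedRing.proj_apply] at this
        rw [h0]
        exact Ideal.zero_mem _
      · exact Ideal.subset_span ⟨e, Nat.pos_of_ne_zero he, SetLike.coe_mem _⟩
  have hfg : (Ideal.span T).FG := IsNoetherian.noetherian _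
  obtain ⟨s', hs'T, hs'⟩ := (Submodule.fg_span_iff_fg_span_finset_subset T).mp hfg
  refine ⟨s'.toList, ?_, ?_⟩
  · intro f hf
    exact hs'T (Finset.mem_toList.mp hf)
  · rw [← hspan]
    have h1 : {x : R | x ∈ s'.toList} = (s' : Set R) := by
      ext x
      simp
    rw [h1]
    exact hs'.symm

/-- Let R be a Noetherian commutative ring, positively graded by additive subgroups R_d, with irrelevant
ideal R_+ and X = Proj R, and let M be a graded R-module which is the direct sum of its pieces M_i,
i ≥ 0 (non-negatively graded here). Consider the canonical map from M to the direct sum over all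
integers n of the groups of global sections Γ(X, M(n)~), which on M_i is m ↦ m/1. Its cokernel — the
quotient of that direct sum by the subgroup generated by the images of all the M_i — is isomorphic
to the first local cohomology module H^1_{R_+}(M) of M with support in R_+. Together with the
description of the kernel as H^0_{R_+}(M) this is the four-term exact sequence 0 → H^0_{R_+}(M) → M
→ ⊕_n Γ(X, M(n)~) → H^1_{R_+}(M) → 0. (The published statement's isomorphism is canonical and linear
over R_0; this row asserts only the existence of an additive isomorphism.) -/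
theorem result {R σ : Type u} [CommRing R] [IsNoetherianRing R] [SetLike σ R] [AddSubgroupClass σ R]
    (𝒜 : ℕ → σ) [GradedRing 𝒜] {M τ : Type u} [AddCommGroup M] [Module R M] [SetLike τ M] [AddSubgroupClass τ M]
    (ℳ : ℕ → τ) [SetLike.GradedSMul 𝒜 ℳ] [DirectSum.Decomposition ℳ] :
    Nonempty ((DirectSum ℤ (fun n : ℤ => ((GrMod.tilde 𝒜 ℳ n).val.obj (op ⊤) : Type u)) ⧸
        AddSubgroup.closure (⋃ i : ℕ, Set.range (fun m : ℳ i =>
          DirectSum.of (fun n : ℤ => ((GrMod.tilde 𝒜 ℳ n).val.obj (op ⊤) : Type u)) (i : ℤ)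
            (GrMod.alpha 𝒜 ℳ i m)))) ≃+
      LocCoh.H (HomogeneousIdeal.irrelevant 𝒜).toIdeal 1 M) := by
  obtain ⟨fs, hfs, hspan⟩ := exists_gens 𝒜
  let a : ULift.{u} (Fin fs.length) → R := fun i => fs.get i.down
  have hex : ∀ i, ∃ d : ℕ, 0 < d ∧ a i ∈ 𝒜 d := fun i => hfs _ (List.get_mem fs i.down)
  choose dg hdg ha using hex
  have hcov : (⊤ : (Proj 𝒜).Opens) ≤ iSup (UP 𝒜 a) := by
    intro y _
    rw [Opens.mem_iSup]
    by_contra hcon
    push Not at hcon
    have hmem : ∀ i, a i ∈ y.asHomogeneousIdeal := by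
      intro i
      by_contra h
      exact hcon i ((ProjectiveSpectrum.mem_basicOpen 𝒜 (a i) y).mpr h)
    apply y.not_irrelevant_le
    intro x hx
    have hx' : x ∈ (HomogeneousIdeal.irrelevant 𝒜).toIdeal := hx
    rw [← hspan] at hx'
    have hle : Ideal.span {x : R | x ∈ fs} ≤ y.asHomogeneousIdeal.toIdeal := by
      rw [Ideal.span_le]
      intro f hf
      obtain ⟨k, rfl⟩ := List.get_of_mem hf
      exact hmem ⟨k⟩
    exact hle hx'
  obtain ⟨e1⟩ := nonempty_quot_equiv 𝒜 ℳ a dg hdg ha hcov
  have hU : UU a = Ufs (φA R) fs := by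
    rw [Ufs_eq]
    apply le_antisymm
    · exact iSup_le fun i => le_iSup (fun j : Fin fs.length =>
        (AlgebraicGeometry.Spec (CommRingCat.of R)).basicOpen ((φA R) (fs.get j))) i.down
    · exact iSup_le fun j => le_iSup (UA a) (ULift.up j)
  obtain ⟨e2⟩ := Groth.Agent.Lib.T2H2.PunctD.nonempty_coker_equiv_lc R fs (ModuleCat.of R M)
  rw [hspan, ← hU] at e2
  exact ⟨e1.trans e2⟩

end Groth.Agent.S15550
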