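import Groth.Statements.S1557
import Mathlib
import Groth.Agent.Lib.T2H6TensorDeg

set_option autoImplicit false
universe u
open CategoryTheory CategoryTheory.Limits AlgebraicGeometry
open Variety

namespace Groth.Agent.S1557

/-- On a proper curve X over k with generic point ξ, for E finite locally free of rank n and F coherent
of generic rank r (the dimension of the stalk F_ξ over the field O_{X,ξ}), one has χ(X, E ⊗ F) = r ·
deg(E) + n · χ(X, F). -/
theorem result (k : Type u) [Field k] (X : Scheme.{u}) [X.Over (Spec (CommRingCat.of k))]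
    [IsIntegral X] [IsProper (X ↘ (Spec (CommRingCat.of k)))] (hdim : topologicalKrullDim X = 1)
    (n : ℕ) (E : X.Modules) (hE : FlatMod.IsFinLocFreeOfRank n E) (F : X.Modules) (hF : Coh.IsCoh F) :
    Curv2.euler k X (CohB1.tensorMod E F) =
      (Module.finrank (X.presheaf.stalk (genericPoint X)) (F.presheaf.stalk (genericPoint X)) : ℤ) * Curv2.deg k X E n +
        n * Curv2.euler k X F := by
  obtain ⟨ε⟩ := Groth.Agent.Lib.T2H6.TensorFree.nonempty_braidIso' E F
  have hEc := Groth.Agent.Lib.T2H6.RankAdd.isCoh_of_isFinLocFreeOfRank E n hE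
  rw [Groth.Agent.Lib.T2H6.HiggsCurve.euler_eq_of_iso k ε
    (Groth.Agent.Lib.T2H6.TensorDeg.isCoh_tensor E F hEc hF)]
  exact Groth.Agent.Lib.T2H6.TensorDeg.tensor_euler k hdim E n hE F hF

end Groth.Agent.S1557
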