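import Groth.Statements.S15584
import Groth.Agent.Lib.T2H2HermAlt
import Groth.Agent.Lib.Helper15QuadEtale

set_option autoImplicit false
universe u v
open RInv

namespace Groth.Agent.S15584

/-- Let `A` be a commutative ring with an involution `lam` whose fixed ring `B` is local; assume `lam`
is the identity modulo the Jacobson radical of `A`, that `2` is invertible in `A`, and that `h` is
an invertible `n × n` matrix with `h = -(lam h)ᵀ`. Then `n` is even and there is an invertible `v`
such that `(lam v)ᵀ h v` is a block sum of `2 × 2` blocks on the index pairs `{2k, 2k+1}`, each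
congruent to `[[0,1],[-1,0]]` modulo the Jacobson radical. (The published statement writes the
congruence with the plain transpose `vᵀ h v`; its proof computes the Gram matrix of the hermitian
form `(x, y) ↦ (lam x)ᵀ h y` in a new basis, which is `(lam v)ᵀ h v`, and that is what is stated
here.) -/
theorem result (B : Type u) (A : Type v) [CommRing B] [CommRing A]
    [Algebra B A] (lam : A ≃+* A) (hlam : Function.Involutive lam) (hB : RInv.IsFixedRing B A lam)
    [IsLocalRing B] (n : ℕ) (hid : ∀ a : A, lam a - a ∈ Ring.jacobson A) (h2 : IsUnit (2 : A))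
    (h : Matrix (Fin n) (Fin n) A) (hh : IsUnit h) (herm : -(h.map lam).transpose = h) :
    Even n ∧ ∃ v : Matrix (Fin n) (Fin n) A, IsUnit v ∧
      ∀ i j : Fin n,
        (i.val / 2 ≠ j.val / 2 → ((v.map lam).transpose * h * v) i j = 0) ∧
        (i.val / 2 = j.val / 2 → (Even i.val ↔ Even j.val) →
          ((v.map lam).transpose * h * v) i j ∈ Ring.jacobson A) ∧
        (i.val / 2 = j.val / 2 → Even i.val → ¬ Even j.val →
          ((v.map lam).transpose * h * v) i j - 1 ∈ Ring.jacobson A) ∧
        (i.val / 2 = j.val / 2 → ¬ Even i.val → Even j.val →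
          ((v.map lam).transpose * h * v) i j + 1 ∈ Ring.jacobson A) := by
  classical
  let _ : StarRing A :=
    { star := lam
      star_involutive := hlam
      star_mul := fun a b => by
        show lam (a * b) = lam b * lam a
        rw [map_mul, mul_comm]
      star_add := fun a b => map_add lam a b }
  have hstar : ∀ a : A, star a = lam a := fun _ => rfl
  have hnt : Nontrivial A := hB.1.nontrivial
  -- `A` is local
  have hloc : IsLocalRing A := by
    obtain ⟨M, hM⟩ := Ideal.exists_maximal A
    refine IsLocalRing.of_unique_max_ideal ⟨M, hM, fun N hN => ?_⟩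
    rcases Groth.Agent.Lib.Helper15.QuadEtale.maximal_orbit lam hlam hB M N with h1 | h1
    · exact h1
    · rw [h1]
      ext x
      rw [Ideal.mem_comap]
      have hx : lam x - x ∈ M := by
        have := hid x
        rw [← Ideal.jacobson_bot] at this
        exact (Ideal.mem_sInf.mp this) ⟨bot_le, hM⟩
      constructor
      · intro h3
        have := sub_mem h3 hx
        simpa using this
      · intro h3
        have := add_mem hx h3
        simpa using this
  have hanti : ∀ x : A, star x = -x → x ∈ Ring.jacobson A := by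
    intro x hx
    obtain ⟨c, hc⟩ := h2.exists_left_inv
    have h3 : lam x - x ∈ Ring.jacobson A := hid x
    rw [← hstar, hx] at h3
    have h4 : x = (-c) * (-x - x) := by
      calc x = (c * 2) * x := by rw [hc, one_mul]
        _ = (-c) * (-x - x) := by ring
    rw [h4]
    exact Ideal.mul_mem_left _ _ h3
  have hstep : ∀ P : Matrix (Fin 2) (Fin 2) A, Groth.Agent.Lib.T2H2.HermDiag.Herm (-1) P →
      IsUnit (P 0 1) → ∃ u : Matrix (Fin 2) (Fin 2) A, IsUnit u ∧
        Groth.Agent.Lib.T2H2.HermAlt.Good (Ring.jacobson A) (u.conjTranspose * P * u) := by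
    intro P hP hb
    obtain ⟨b', hb'⟩ := hb.exists_right_inv
    have h00 : P 0 0 ∈ Ring.jacobson A := hanti _ (by
      have := hP.apply 0 0
      rw [neg_one_mul] at this
      linear_combination this)
    have h11 : P 1 1 ∈ Ring.jacobson A := hanti _ (by
      have := hP.apply 1 1
      rw [neg_one_mul] at this
      linear_combination this)
    have h10 : P 1 0 = - star (P 0 1) := by
      have := hP.apply 1 0
      rwa [neg_one_mul] at this
    have hsb : star (P 0 1) * star b' = 1 := by rw [← star_mul', hb', star_one]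
    refine ⟨Matrix.diagonal ![1, b'], ?_, ?_⟩
    · rw [Matrix.isUnit_diagonal, Pi.isUnit_iff]
      intro i
      fin_cases i
      · exact isUnit_one
      · exact IsUnit.of_mul_eq_one _ (by rw [mul_comm]; exact hb')
    · intro i j
      refine ⟨?_, fun hne => absurd (by have := i.isLt; have := j.isLt; omega) hne⟩
      rw [Matrix.diagonal_conjTranspose, Matrix.mul_assoc, Matrix.diagonal_mul, Matrix.mul_diagonal]
      fin_cases i <;> fin_cases j
      · simpa [Groth.Agent.Lib.T2H2.HermAlt.jn] using h00
      · simp [Groth.Agent.Lib.T2H2.HermAlt.jn, hb']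
      · simp only [Groth.Agent.Lib.T2H2.HermAlt.jn]
        have h5 : star b' * (P 1 0 * 1) - (-1) = 0 := by
          rw [h10]
          linear_combination (-1 : A) * hsb
        have h6 : star b' * (P 1 0 * 1) - (-1) ∈ Ring.jacobson A := by
          rw [h5]
          exact zero_mem _
        simpa using h6
      · have : star b' * (P 1 1 * b') ∈ Ring.jacobson A :=
          Ideal.mul_mem_left _ _ (Ideal.mul_mem_right _ _ h11)
        simpa [Groth.Agent.Lib.T2H2.HermAlt.jn] using this
  have herm' : Groth.Agent.Lib.T2H2.HermDiag.Herm (-1 : A) h := by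
    show (-1 : A) • h.conjTranspose = h
    rw [neg_one_smul]
    exact herm
  obtain ⟨hev, v, hv, hgood⟩ :=
    Groth.Agent.Lib.T2H2.HermAlt.exists_good (Ring.jacobson A) hanti hstep n h hh herm'
  refine ⟨hev, v, hv, fun i j => ?_⟩
  obtain ⟨hg1, hg2⟩ := hgood i j
  have hg1' : ((v.map lam).transpose * h * v) i j -
      Groth.Agent.Lib.T2H2.HermAlt.jn (i : ℕ) (j : ℕ) ∈ Ring.jacobson A := hg1
  refine ⟨hg2, fun hij hpar => ?_, fun hij hi hj => ?_, fun hij hi hj => ?_⟩
  · have : (Groth.Agent.Lib.T2H2.HermAlt.jn (i : ℕ) (j : ℕ) : A) = 0 := by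
      unfold Groth.Agent.Lib.T2H2.HermAlt.jn
      rw [if_pos hij, if_neg, if_neg]
      · rintro ⟨h3, h4⟩
        have h5 : ¬ Even (i : ℕ) := by rw [Nat.even_iff]; omega
        have h6 : Even (j : ℕ) := by rw [Nat.even_iff]; omega
        exact h5 (hpar.mpr h6)
      · rintro ⟨h3, h4⟩
        have h5 : Even (i : ℕ) := by rw [Nat.even_iff]; omega
        have h6 : ¬ Even (j : ℕ) := by rw [Nat.even_iff]; omega
        exact h6 (hpar.mp h5)
    rw [this, sub_zero] at hg1'
    exact hg1'
  · have : (Groth.Agent.Lib.T2H2.HermAlt.jn (i : ℕ) (j : ℕ) : A) = 1 := by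
      unfold Groth.Agent.Lib.T2H2.HermAlt.jn
      rw [Nat.even_iff] at hi hj
      rw [if_pos hij, if_pos ⟨hi, by omega⟩]
    rw [this] at hg1'
    exact hg1'
  · have : (Groth.Agent.Lib.T2H2.HermAlt.jn (i : ℕ) (j : ℕ) : A) = -1 := by
      unfold Groth.Agent.Lib.T2H2.HermAlt.jn
      rw [Nat.even_iff] at hi hj
      rw [if_pos hij, if_neg (by omega), if_pos ⟨by omega, hj⟩]
    rw [this, sub_neg_eq_add] at hg1'
    exact hg1'

end Groth.Agent.S15584
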