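import Groth.Statements.S15595
import Mathlib
import Groth.Agent.Lib.Helper28FlatNormal
import Groth.Agent.Lib.Helper28RegLoc

set_option autoImplicit false
universe u
open TensorProduct
attribute [local instance] RingHom.ker_isPrime
open CAlg

namespace Groth.Agent.S15595

open IsLocalRing in
theorem aux (k K A : Type u) [Field k] [Field K] [Algebra k K] [CommRing A] [Algebra k A]
    [IsLocalRing A] [IsNoetherianRing A] (π : A →ₐ[k] k)
    (hπ : RingHom.ker π = IsLocalRing.maximalIdeal A)
    (B : Type u) [CommRing B] [Algebra A B] [Module.Flat A B]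
    {F : Type*} [FunLike F B K] [RingHomClass F B K]
    (πK : F) (hπK : ∀ a, πK (algebraMap A B a) = algebraMap k K (π a))
    (hker : RingHom.ker πK = (IsLocalRing.maximalIdeal A).map (algebraMap A B))
    [IsNoetherianRing (Localization.AtPrime (RingHom.ker πK))] :
    IsRegularLocalRing A ↔ IsRegularLocalRing (Localization.AtPrime (RingHom.ker πK)) := by
  have hflat : Module.Flat A (Localization.AtPrime (RingHom.ker πK)) :=
    Module.Flat.trans A B _
  have hloc : IsLocalHom (algebraMap A (Localization.AtPrime (RingHom.ker πK))) := by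
    refine ⟨fun a ha => ?_⟩
    rw [IsScalarTower.algebraMap_apply A B, IsLocalization.AtPrime.isUnit_to_map_iff _ (RingHom.ker πK),
      Ideal.mem_primeCompl_iff, RingHom.mem_ker, hπK] at ha
    have h1 : π a ≠ 0 := fun h => ha (by rw [h, map_zero])
    have h2 : a ∉ IsLocalRing.maximalIdeal A := by
      rw [← hπ, RingHom.mem_ker]; exact h1
    exact not_not.mp (fun h => h2 ((IsLocalRing.mem_maximalIdeal a).mpr h))
  have hmax : IsLocalRing.maximalIdeal (Localization.AtPrime (RingHom.ker πK)) =
      (IsLocalRing.maximalIdeal A).map (algebraMap A (Localization.AtPrime (RingHom.ker πK))) := by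
    have h1 := congrArg (Ideal.map (algebraMap B (Localization.AtPrime (RingHom.ker πK)))) hker
    rw [← Localization.AtPrime.map_eq_maximalIdeal, h1, Ideal.map_map,
      ← IsScalarTower.algebraMap_eq]
  constructor
  · intro hA
    letI : Field (Localization.AtPrime (RingHom.ker πK) ⧸
        IsLocalRing.maximalIdeal (Localization.AtPrime (RingHom.ker πK))) :=
      Ideal.Quotient.field _
    exact Groth.Agent.Lib.Helper28.isRegularLocalRing_of_flat_of_isRegularLocalRing_fibre
      (R := A) (S := Localization.AtPrime (RingHom.ker πK)) _ hmax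
  · intro hA'
    exact Groth.Agent.Lib.Helper28.isRegularLocalRing_of_flat_of_isLocalHom A
      (Localization.AtPrime (RingHom.ker πK))


/-- Let k ⊆ K be a field extension and A a Noetherian local k-algebra with residue field k, recorded by
a k-algebra map π : A → k whose kernel is the maximal ideal. Let π_K : K ⊗_k A → K be the induced
K-algebra map, m' its kernel, and A' the localization of K ⊗_k A at m'. Assume A' is Noetherian.
Then A is a regular local ring if and only if A' is a regular local ring. -/
theorem result (k K A : Type u) [Field k] [Field K]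
    [Algebra k K] [CommRing A] [Algebra k A] [IsLocalRing A] [IsNoetherianRing A]
    (π : A →ₐ[k] k) (hπ : RingHom.ker π = IsLocalRing.maximalIdeal A)
    [IsNoetherianRing (Localization.AtPrime (RingHom.ker
      ((Algebra.TensorProduct.rid k K K).toAlgHom.comp (Algebra.TensorProduct.map (AlgHom.id K K) π))))] :
    IsRegularLocalRing A ↔ IsRegularLocalRing (Localization.AtPrime (RingHom.ker
      ((Algebra.TensorProduct.rid k K K).toAlgHom.comp (Algebra.TensorProduct.map (AlgHom.id K K) π)))) := by
  letI : Algebra A (K ⊗[k] A) := Algebra.TensorProduct.rightAlgebra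
  haveI : IsScalarTower k A (K ⊗[k] A) := Algebra.TensorProduct.right_isScalarTower
  haveI hflat : Module.Flat A (K ⊗[k] A) :=
    Module.Flat.isBaseChange (R := k) (M := K) (S := A) (N := K ⊗[k] A)
      (Algebra.IsPushout.out (R := k) (S := A) (R' := K) (S' := K ⊗[k] A))
  have hsurj : Function.Surjective π := fun c => ⟨algebraMap k A c, by simp⟩
  refine aux k K A π hπ (K ⊗[k] A)
    ((Algebra.TensorProduct.rid k K K).toAlgHom.comp
      (Algebra.TensorProduct.map (AlgHom.id K K) π)) ?_ ?_
  · intro a
    show (Algebra.TensorProduct.rid k K K) ((Algebra.TensorProduct.map (AlgHom.id K K) π)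
      ((1 : K) ⊗ₜ[k] a)) = _
    rw [Algebra.TensorProduct.map_tmul, Algebra.TensorProduct.rid_tmul, Algebra.smul_def,
      AlgHom.id_apply, mul_one]
  · rw [← hπ]
    have h1 := Algebra.TensorProduct.lTensor_ker (R := k) (A := K) π hsurj
    have h2 : Ideal.map (algebraMap A (K ⊗[k] A)) (RingHom.ker π) =
        Ideal.map (Algebra.TensorProduct.includeRight : A →ₐ[k] K ⊗[k] A) (RingHom.ker π) := rfl
    rw [h2, ← h1]
    ext x
    simp only [RingHom.mem_ker]
    show (Algebra.TensorProduct.rid k K K) ((Algebra.TensorProduct.map (AlgHom.id K K) π) x) = 0 ↔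
      (Algebra.TensorProduct.map (AlgHom.id k K) π) x = 0
    rw [EmbeddingLike.map_eq_zero_iff]
    rfl

end Groth.Agent.S15595
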