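import Groth.Statements.S15754
import Groth.Agent.Lib.T2H2HorrG

set_option autoImplicit false
universe u
open TensorProduct
open CAlg

namespace Groth.Agent.S15754

/-- For an arbitrary commutative ring R, non-isomorphic finitely generated projective R-modules cannot
become isomorphic over the Laurent series ring R((t)): for an R-algebra L that is R-isomorphic to
R((t)), if L ⊗_R M ≅ L ⊗_R N as L-modules then M ≅ N. (L is R((t)) up to an R-algebra isomorphism;
it is kept abstract only so that the L-module structure on L ⊗_R M elaborates.) -/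
theorem result (R : Type u) [CommRing R]
    (L : Type u) [CommRing L] [Algebra R L] (eL : L ≃ₐ[R] LaurentSeries R)
    (M N : Type u) [AddCommGroup M] [Module R M] [Module.Finite R M] [Module.Projective R M]
    [AddCommGroup N] [Module R N] [Module.Finite R N] [Module.Projective R N]
    (e : L ⊗[R] M ≃ₗ[L] L ⊗[R] N) :
    Nonempty (M ≃ₗ[R] N) := by
  obtain ⟨n, ε, hε, ⟨θM⟩⟩ := Groth.Agent.Lib.T2H2.Horr.exists_idempotent (C := R) M
  obtain ⟨n', ε', hε', ⟨θN⟩⟩ := Groth.Agent.Lib.T2H2.Horr.exists_idempotent (C := R) N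
  obtain ⟨D⟩ := Groth.Agent.Lib.T2H2.Horr.rgBaseChange L hε
  obtain ⟨D'⟩ := Groth.Agent.Lib.T2H2.Horr.rgBaseChange L hε'
  let Θ := LinearEquiv.baseChange R L M _ θM
  let Θ' := LinearEquiv.baseChange R L N _ θN
  have hεA : ε.map (algebraMap R L) * ε.map (algebraMap R L) = ε.map (algebraMap R L) := by
    rw [← Matrix.map_mul, hε]
  have hεA' : ε'.map (algebraMap R L) * ε'.map (algebraMap R L) = ε'.map (algebraMap R L) := by
    rw [← Matrix.map_mul, hε']
  have h1 : Groth.Agent.Lib.T2H2.Horr.Isog (1 : L) (ε.map (algebraMap R L))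
      (ε'.map (algebraMap R L)) :=
    Groth.Agent.Lib.T2H2.Horr.Isog.of_rgEquiv hεA hεA'
      (((D.symm.trans Θ.symm).trans e).trans (Θ'.trans D'))
  have h2 := h1.map (eL : L →+* LaurentSeries R)
  have hmap : ∀ {k : Type} (δ : Matrix k k R),
      (δ.map (algebraMap R L)).map (eL : L →+* LaurentSeries R) =
      (δ.map (PowerSeries.C : R →+* PowerSeries R)).map
        (algebraMap (PowerSeries R) (LaurentSeries R)) := by
    intro k δ
    rw [Matrix.map_map, Matrix.map_map]
    refine Matrix.ext fun i j => ?_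
    simp only [Matrix.map_apply, Function.comp_apply]
    rw [LaurentSeries.coe_algebraMap]
    refine (eL.commutes _).trans ?_
    rw [HahnSeries.algebraMap_apply']
    rfl
  rw [hmap ε, hmap ε', map_one] at h2
  have hE : ε.map (PowerSeries.C : R →+* PowerSeries R) * ε.map (PowerSeries.C : R →+* PowerSeries R) =
      ε.map (PowerSeries.C : R →+* PowerSeries R) := by rw [← Matrix.map_mul, hε]
  have hE' : ε'.map (PowerSeries.C : R →+* PowerSeries R) *
      ε'.map (PowerSeries.C : R →+* PowerSeries R) =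
      ε'.map (PowerSeries.C : R →+* PowerSeries R) := by rw [← Matrix.map_mul, hε']
  obtain ⟨t, ht⟩ := Groth.Agent.Lib.T2H2.Horr.Isog.descend
    (Submonoid.powers (PowerSeries.X : PowerSeries R)) hE hE' (1 : LaurentSeries R) 1 1
    (by simp) h2
  rw [mul_one] at ht
  obtain ⟨j, hj⟩ := t.2
  rw [← hj] at ht
  obtain ⟨g, hg0, hg⟩ :=
    Groth.Agent.Lib.T2H2.Horr.isog_poly_of_isog_powerSeries ε ε' hε hε' j ht
  have h3 := Groth.Agent.Lib.T2H2.Horr.isog_one_of_isog_const_unitCoeff ε ε' hε hε' j g hg0 hg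
  obtain ⟨β⟩ := h3.rgEquiv
  exact ⟨(θM.trans β).trans θN.symm⟩

end Groth.Agent.S15754
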