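import Groth.Statements.S15791
-- import your own Groth.Agent.* helpers here

set_option autoImplicit false
universe u v
open WildQuot

namespace Groth.Agent.S15791


section helpers
variable {A : Type u} [CommRing A]

/-- The colength of an ideal. -/
noncomputable def colen (I : Ideal A) : ℕ∞ := Module.length A (A ⧸ I)

/-- Subadditivity of the colength along a product. -/
theorem length_mul_le (J : Ideal A) (a b : A) :
    colen (J ⊔ Ideal.span {a * b}) ≤
      colen (J ⊔ Ideal.span {a}) + colen (J ⊔ Ideal.span {b}) := by
  unfold colen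
  have h01 : J ⊔ Ideal.span {a * b} ≤ J ⊔ Ideal.span {a} := by
    refine sup_le le_sup_left ?_
    rw [Ideal.span_singleton_le_iff_mem]
    exact Ideal.mem_sup_right (Ideal.mul_mem_right _ _ (Ideal.mem_span_singleton_self a))
  -- the projection
  let g : (A ⧸ (J ⊔ Ideal.span {a * b})) →ₗ[A] (A ⧸ (J ⊔ Ideal.span {a})) :=
    Submodule.mapQ _ _ LinearMap.id (by simpa using h01)
  have hg : Function.Surjective g := by
    intro y
    obtain ⟨y, rfl⟩ := Submodule.Quotient.mk_surjective _ y
    exact ⟨Submodule.Quotient.mk y, rfl⟩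
  -- multiplication by a
  have h20 : J ⊔ Ideal.span {b} ≤ Submodule.comap (LinearMap.mulLeft A a) (J ⊔ Ideal.span {a * b}) := by
    refine sup_le ?_ ?_
    · intro x hx
      exact Ideal.mem_sup_left (Ideal.mul_mem_left _ _ hx)
    · rw [Ideal.span_le]
      intro x hx
      rw [Set.mem_singleton_iff] at hx
      subst hx
      exact Ideal.mem_sup_right (Ideal.mem_span_singleton_self _)
  let h : (A ⧸ (J ⊔ Ideal.span {b})) →ₗ[A] (A ⧸ (J ⊔ Ideal.span {a * b})) :=
    Submodule.mapQ _ _ (LinearMap.mulLeft A a) h20
  have hK : LinearMap.ker g ≤ LinearMap.range h := by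
    intro x hx
    obtain ⟨y, rfl⟩ := Submodule.Quotient.mk_surjective _ x
    have hy : y ∈ J ⊔ Ideal.span {a} := by
      have : g (Submodule.Quotient.mk y) = 0 := hx
      have h2 : (Submodule.Quotient.mk y : A ⧸ (J ⊔ Ideal.span {a})) = 0 := this
      exact (Submodule.Quotient.mk_eq_zero _).mp h2
    obtain ⟨j, hj, z, hz, rfl⟩ := Submodule.mem_sup.mp hy
    obtain ⟨c, rfl⟩ := Ideal.mem_span_singleton'.mp hz
    refine ⟨Submodule.Quotient.mk c, ?_⟩
    show Submodule.Quotient.mk (a * c) = Submodule.Quotient.mk (j + c * a)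
    rw [Submodule.Quotient.eq]
    have : a * c - (j + c * a) = -j := by ring
    rw [this]
    exact neg_mem (Ideal.mem_sup_left hj)
  have e1 := Module.length_eq_add_of_exact (LinearMap.ker g).subtype g
    (Submodule.subtype_injective _) hg (LinearMap.exact_subtype_ker_map g)
  have e2 : Module.length A (LinearMap.ker g) ≤ Module.length A (LinearMap.range h) :=
    Module.length_le_of_injective (Submodule.inclusion hK) (Submodule.inclusion_injective hK)
  have e3 : Module.length A (LinearMap.range h) ≤ Module.length A (A ⧸ (J ⊔ Ideal.span {b})) :=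
    Module.length_le_of_surjective h.rangeRestrict h.surjective_rangeRestrict
  rw [e1, add_comm]
  exact add_le_add le_rfl (e2.trans e3)

theorem length_prod_le {σ : Type v} (J : Ideal A) (f : σ → A) (s : Finset σ) :
    colen (J ⊔ Ideal.span {∏ x ∈ s, f x}) ≤
      ∑ x ∈ s, colen (J ⊔ Ideal.span {f x}) := by
  classical
  induction s using Finset.induction_on with
  | empty =>
    have : J ⊔ Ideal.span {(1 : A)} = ⊤ := by
      rw [Ideal.span_singleton_one, sup_top_eq]
    simp only [Finset.prod_empty, Finset.sum_empty, nonpos_iff_eq_zero]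
    rw [this]
    unfold colen
    rw [Module.length_eq_zero_iff]
    infer_instance
  | insert x s hx ih =>
    rw [Finset.prod_insert hx, Finset.sum_insert hx]
    exact (length_mul_le J (f x) _).trans (add_le_add le_rfl ih)

theorem length_tuple_le {σ : Type v} [Fintype σ] : ∀ (n : ℕ) (J : Ideal A) (f : Fin n → σ → A),
    colen (J ⊔ Ideal.span (Set.range fun i => ∏ x : σ, f i x)) ≤
      ∑ τ : Fin n → σ, colen (J ⊔ Ideal.span (Set.range fun i => f i (τ i)))
  | 0, J, f => by
    rw [Fintype.sum_unique]
    have h1 : (Set.range fun i : Fin 0 => ∏ x : σ, f i x) = ∅ := Set.range_eq_empty _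
    have h2 : ∀ τ : Fin 0 → σ, (Set.range fun i : Fin 0 => f i (τ i)) = ∅ :=
      fun τ => Set.range_eq_empty _
    rw [h1, h2]
  | n + 1, J, f => by
    have key : ∀ (x : Fin (n + 1) → A),
        J ⊔ Ideal.span (Set.range x) =
          (J ⊔ Ideal.span (Set.range (Fin.tail x))) ⊔ Ideal.span {x 0} := by
      intro x
      rw [Fin.range_fin_succ, Ideal.span_insert, sup_assoc, sup_comm (Ideal.span {x 0})]
    rw [key]
    have ih := length_tuple_le n (J ⊔ Ideal.span {∏ x : σ, f 0 x}) (fun i => f i.succ)
    have e0 : (J ⊔ Ideal.span (Set.range (Fin.tail fun i => ∏ x : σ, f i x))) ⊔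
          Ideal.span {∏ x : σ, f 0 x} =
        (J ⊔ Ideal.span {∏ x : σ, f 0 x}) ⊔
          Ideal.span (Set.range fun i : Fin n => ∏ x : σ, f i.succ x) := by
      rw [sup_assoc, sup_assoc, sup_comm (Ideal.span {_})]
      rfl
    rw [e0]
    refine ih.trans ?_
    rw [← (Fin.consEquiv (fun _ => σ)).sum_comp, Fintype.sum_prod_type, Finset.sum_comm]
    refine Finset.sum_le_sum fun τ' _ => ?_
    have e1 : (J ⊔ Ideal.span {∏ x : σ, f 0 x}) ⊔
          Ideal.span (Set.range fun i : Fin n => f i.succ (τ' i)) =
        (J ⊔ Ideal.span (Set.range fun i : Fin n => f i.succ (τ' i))) ⊔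
          Ideal.span {∏ x : σ, f 0 x} := by
      rw [sup_assoc, sup_assoc, sup_comm (Ideal.span {_})]
    rw [e1]
    refine (length_prod_le _ (f 0) Finset.univ).trans ?_
    refine Finset.sum_le_sum fun x _ => ?_
    rw [key]
    simp only [Fin.consEquiv, Equiv.coe_fn_mk]
    refine le_of_eq ?_
    congr 3

end helpers

/-- Let `A` be a regular local ring of Krull dimension `n` with maximal ideal `m`, let a finite group
`G` of order `g` act on `A` by ring automorphisms, and let `u_1, …, u_n` be an admissible regular
system of parameters: for every choice `σ_1, …, σ_n ∈ G`, the elements `σ_1 u_1, …, σ_n u_n`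
generate `m`. With `x_i = ∏_{σ ∈ G} σ u_i` the norms, the length of `A / (x_1, …, x_n)` is at most
`g ^ n`. (The published statement is for a complete regular local ring containing a `G`-fixed field
of representatives and asserts that the length equals `g ^ n`; this row states the upper bound for
any regular local ring.) -/
theorem result
    (A : Type u) [CommRing A] [IsRegularLocalRing A]
    (G : Type v) [Group G] [Fintype G] [MulSemiringAction G A]
    (n : ℕ) (hn : ringKrullDim A = n) (u : Fin n → A)
    (hu : ∀ τ : Fin n → G,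
      Ideal.span (Set.range fun i => τ i • u i) = IsLocalRing.maximalIdeal A) :
    Module.length A (A ⧸ Ideal.span (Set.range fun i => ∏ σ : G, σ • u i)) ≤
      (Fintype.card G ^ n : ℕ) := by
  have h := length_tuple_le (A := A) (σ := G) n ⊥ (fun i σ => σ • u i)
  simp only [bot_sup_eq] at h
  show colen _ ≤ _
  refine h.trans ?_
  have h1 : ∀ τ : Fin n → G,
      colen (Ideal.span (Set.range fun i => τ i • u i)) = 1 := by
    intro τ
    rw [hu τ]
    unfold colen
    have : IsSimpleModule A (A ⧸ IsLocalRing.maximalIdeal A) :=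
      isSimpleModule_iff_isCoatom.mpr (Ideal.isMaximal_def.mp inferInstance)
    exact Module.length_eq_one A _
  simp only [h1]
  rw [Finset.sum_const, Finset.card_univ, Fintype.card_pi_const]
  simp

end Groth.Agent.S15791
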