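import Groth.Statements.S15792
import Groth.Agent.Lib.T2H7UnipFlag

set_option autoImplicit false
universe u v
open WildQuot

namespace Groth.Agent.S15792


section helpers

open IsLocalRing

variable {A : Type u} [CommRing A] [IsLocalRing A]
  {G : Type v} [Group G] [MulSemiringAction G A]

theorem smul_mem_maximalIdeal (σ : G) {a : A} (ha : a ∈ maximalIdeal A) :
    σ • a ∈ maximalIdeal A := by
  rw [IsLocalRing.mem_maximalIdeal, mem_nonunits_iff] at ha ⊢
  intro h
  have h2 := h.map (MulSemiringAction.toRingHom G A σ⁻¹)
  exact ha (by simpa using h2)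

theorem le_comap_maximalIdeal (σ : G) :
    maximalIdeal A ≤ (maximalIdeal A).comap (MulSemiringAction.toRingHom G A σ).toIntAlgHom := by
  intro a ha
  exact smul_mem_maximalIdeal σ ha

variable (hres : ∀ (σ : G) (a : A), σ • a - a ∈ maximalIdeal A)

/-- The action of `σ` on the cotangent space, as a linear map over the residue field. -/
noncomputable def cotAct (hres : ∀ (σ : G) (a : A), σ • a - a ∈ maximalIdeal A) (σ : G) :
    CotangentSpace A →ₗ[ResidueField A] CotangentSpace A where
  toFun := Ideal.mapCotangent (maximalIdeal A) (maximalIdeal A)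
    (MulSemiringAction.toRingHom G A σ).toIntAlgHom (le_comap_maximalIdeal σ)
  map_add' := map_add _
  map_smul' := by
    intro c x
    obtain ⟨a, rfl⟩ := IsLocalRing.residue_surjective c
    obtain ⟨x, rfl⟩ := (maximalIdeal A).toCotangent_surjective x
    simp only [RingHom.id_apply]
    have e1 : (residue A a) • (maximalIdeal A).toCotangent x =
        (maximalIdeal A).toCotangent (a • x) := by
      rw [map_smul]
      exact (algebraMap_smul (ResidueField A) a ((maximalIdeal A).toCotangent x))
    rw [e1, Ideal.mapCotangent_toCotangent, Ideal.mapCotangent_toCotangent]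
    have e2 : (residue A a) • (maximalIdeal A).toCotangent
        (⟨(MulSemiringAction.toRingHom G A σ).toIntAlgHom x, le_comap_maximalIdeal σ x.2⟩ :
          maximalIdeal A) =
        (maximalIdeal A).toCotangent (a • (⟨(MulSemiringAction.toRingHom G A σ).toIntAlgHom x,
          le_comap_maximalIdeal σ x.2⟩ : maximalIdeal A)) := by
      rw [map_smul]
      exact (algebraMap_smul (ResidueField A) a _)
    rw [e2, Ideal.toCotangent_eq]
    show (σ • (a * (x : A)) - a * σ • (x : A)) ∈ maximalIdeal A ^ 2
    rw [smul_mul', ← sub_mul, pow_two]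
    exact Ideal.mul_mem_mul (hres σ a) (smul_mem_maximalIdeal σ x.2)

theorem cotAct_toCotangent (σ : G) (x : maximalIdeal A) :
    cotAct hres σ ((maximalIdeal A).toCotangent x) =
      (maximalIdeal A).toCotangent ⟨σ • (x : A), smul_mem_maximalIdeal σ x.2⟩ := rfl

/-- The representation of `G` on the cotangent space. -/
noncomputable def cotRep : Representation (ResidueField A) G (CotangentSpace A) where
  toFun := cotAct hres
  map_one' := by
    apply LinearMap.ext
    intro x
    obtain ⟨x, rfl⟩ := (maximalIdeal A).toCotangent_surjective x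
    rw [cotAct_toCotangent]
    simp
  map_mul' := by
    intro σ τ
    apply LinearMap.ext
    intro x
    obtain ⟨x, rfl⟩ := (maximalIdeal A).toCotangent_surjective x
    rw [Module.End.mul_apply, cotAct_toCotangent, cotAct_toCotangent, cotAct_toCotangent]
    congr 1
    ext
    simp [mul_smul]

theorem cotRep_toCotangent (σ : G) (x : maximalIdeal A) :
    cotRep hres σ ((maximalIdeal A).toCotangent x) =
      (maximalIdeal A).toCotangent ⟨σ • (x : A), smul_mem_maximalIdeal σ x.2⟩ := rfl

end helpers

/-- Let `A` be a regular local ring of Krull dimension `n` and prime characteristic `p`, and let a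
finite `p`-group `G` act on `A` by ring automorphisms inducing the identity on the residue field.
Then there is an admissible regular system of parameters: `u_1, …, u_n ∈ A` such that for every
choice `σ_1, …, σ_n ∈ G` the elements `σ_1 u_1, …, σ_n u_n` generate the maximal ideal. (The
published statement is for a complete regular local ring containing a field of representatives fixed
by `G`; this row drops completeness and asks only that `G` act trivially on the residue field.) -/
theorem result
    (p : ℕ) [Fact p.Prime] (A : Type u) [CommRing A] [IsRegularLocalRing A] [CharP A p]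
    (G : Type v) [Group G] [Finite G] [MulSemiringAction G A] (hG : IsPGroup p G)
    (hres : ∀ (σ : G) (a : A), σ • a - a ∈ IsLocalRing.maximalIdeal A)
    (n : ℕ) (hn : ringKrullDim A = n) :
    ∃ u : Fin n → A, ∀ τ : Fin n → G,
      Ideal.span (Set.range fun i => τ i • u i) = IsLocalRing.maximalIdeal A := by
  classical
  have hNoeth : IsNoetherianRing A := inferInstance
  -- the residue field has characteristic p
  have hpk : CharP (IsLocalRing.ResidueField A) p := by
    rw [CharP.charP_iff_prime_eq_zero (Fact.out : p.Prime)]
    have : (p : A) = 0 := CharP.cast_eq_zero A p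
    have h2 := congrArg (IsLocalRing.residue A) this
    rw [map_natCast, map_zero] at h2
    exact h2
  -- unipotence
  obtain ⟨a, ha⟩ := IsPGroup.iff_card.mp hG
  have hunip : ∀ σ : G, IsNilpotent (cotRep hres σ - 1) := by
    intro σ
    refine ⟨p ^ a, ?_⟩
    have h1 : ((Polynomial.X - 1 : Polynomial (IsLocalRing.ResidueField A)) ^ p ^ a) =
        Polynomial.X ^ p ^ a - 1 := by
      rw [sub_pow_char_pow, one_pow]
    have h2 := congrArg (Polynomial.aeval (cotRep hres σ)) h1
    simp only [map_pow, map_sub, Polynomial.aeval_X, map_one] at h2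
    rw [h2, ← map_pow]
    have h3 : σ ^ p ^ a = 1 := by
      rw [← ha]
      exact pow_card_eq_one'
    rw [h3, map_one, sub_self]
  have hfr : Module.finrank (IsLocalRing.ResidueField A) (IsLocalRing.CotangentSpace A) = n := by
    have h := (IsRegularLocalRing.iff_finrank_cotangentSpace (R := A)).mp inferInstance
    rw [hn] at h
    exact_mod_cast h
  obtain ⟨v, hv, htri⟩ := Groth.Agent.Lib.T2H7.UnipFlag.exists_flag (IsLocalRing.ResidueField A) G n
    (IsLocalRing.CotangentSpace A) (cotRep hres) hunip hfr
  choose u' hu' using fun i => (IsLocalRing.maximalIdeal A).toCotangent_surjective (v i)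
  refine ⟨fun i => (u' i : A), fun τ => ?_⟩
  have hspan := Groth.Agent.Lib.T2H7.UnipFlag.span_twisted_eq_top (IsLocalRing.ResidueField A) G
    (cotRep hres) v hv htri τ
  let s : Set (IsLocalRing.maximalIdeal A) :=
    Set.range fun i => (⟨τ i • (u' i : A), smul_mem_maximalIdeal (τ i) (u' i).2⟩ :
      IsLocalRing.maximalIdeal A)
  have himg : (IsLocalRing.maximalIdeal A).toCotangent '' s =
      Set.range fun i => cotRep hres (τ i) (v i) := by
    ext y
    constructor
    · rintro ⟨_, ⟨i, rfl⟩, rfl⟩
      refine ⟨i, ?_⟩
      show cotRep hres (τ i) (v i) = _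
      rw [← hu' i, cotRep_toCotangent]
    · rintro ⟨i, rfl⟩
      refine ⟨_, ⟨i, rfl⟩, ?_⟩
      show _ = cotRep hres (τ i) (v i)
      rw [← hu' i, cotRep_toCotangent]
  rw [← himg, IsLocalRing.CotangentSpace.span_image_eq_top_iff] at hspan
  have h4 := congrArg (Submodule.map (IsLocalRing.maximalIdeal A).subtype) hspan
  rw [Submodule.map_span, Submodule.map_top, Submodule.range_subtype] at h4
  refine Eq.trans ?_ h4
  show Submodule.span A _ = Submodule.span A _
  congr 1
  ext y
  constructor
  · rintro ⟨i, rfl⟩
    exact ⟨_, ⟨i, rfl⟩, rfl⟩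
  · rintro ⟨_, ⟨i, rfl⟩, rfl⟩
    exact ⟨i, rfl⟩

end Groth.Agent.S15792
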