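import Groth.Statements.S15793
import Groth.Agent.Lib.Helper5RLR

set_option autoImplicit false
universe u v w
open WildQuot

namespace Groth.Agent.S15793

/-- The group action preserves the maximal ideal. -/
private theorem smul_mem_max {A : Type u} [CommRing A] [IsLocalRing A] {G : Type w} [Group G]
    [MulSemiringAction G A] (σ : G) {x : A} (hx : x ∈ IsLocalRing.maximalIdeal A) :
    σ • x ∈ IsLocalRing.maximalIdeal A := by
  rw [IsLocalRing.mem_maximalIdeal, mem_nonunits_iff] at hx ⊢
  intro h
  apply hx
  have h2 : IsUnit (MulSemiringAction.toRingHom G A σ⁻¹ (σ • x)) := h.map _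
  simpa using h2

/-- Core step: if `σ` fixes `v` and the image of `k`, and `m = (z) + (v)`, then the ideal generated
by all `σ a - a` is contained in the ideal generated by the `σ z_i - z_i`. -/
private theorem diff_le {A : Type u} [CommRing A] [IsLocalRing A] [IsNoetherianRing A]
    {k : Type v} [Field k] [Algebra k A]
    (hk : Function.Surjective (IsLocalRing.residue A ∘ algebraMap k A))
    {G : Type w} [Group G] [MulSemiringAction G A] (σ : G)
    (hGk : ∀ (c : k), σ • algebraMap k A c = algebraMap k A c)
    (v : A) (hv : v ∈ IsLocalRing.maximalIdeal A) (hfix : σ • v = v)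
    {s : ℕ} (z : Fin s → A) (hz : ∀ i, z i ∈ IsLocalRing.maximalIdeal A)
    (hspan : Ideal.span (Set.range z) ⊔ Ideal.span {v} = IsLocalRing.maximalIdeal A) (a : A) :
    σ • a - a ∈ Ideal.span (Set.range fun i => σ • z i - z i) := by
  set m := IsLocalRing.maximalIdeal A with hm
  set J : Ideal A := Ideal.span (Set.range fun i => σ • z i - z i) with hJ
  set I : Ideal A := Ideal.span (Set.range fun a : A => σ • a - a) with hI
  have hmemI : ∀ a : A, σ • a - a ∈ I := fun a => Ideal.subset_span ⟨a, rfl⟩
  suffices hle : I ≤ J from hle (hmemI a)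
  have hJac : m ≤ (⊥ : Ideal A).jacobson := by
    rw [IsLocalRing.jacobson_eq_maximalIdeal ⊥ bot_ne_top]
  refine Submodule.le_of_le_smul_of_le_jacobson_bot (IsNoetherian.noetherian I) hJac ?_
  set K : Ideal A := J ⊔ m • I with hK
  -- every element of `m` has difference in `K`
  have key : ∀ x ∈ m, σ • x - x ∈ K := by
    have key' : ∀ x ∈ Ideal.span (Set.range z ∪ {v}), x ∈ m ∧ σ • x - x ∈ K := by
      intro x hx
      induction hx using Submodule.span_induction with
      | mem x hx =>
        rcases hx with ⟨i, rfl⟩ | hx
        · exact ⟨hz i, Submodule.mem_sup_left (Ideal.subset_span ⟨i, rfl⟩)⟩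
        · rw [Set.mem_singleton_iff] at hx
          subst hx
          refine ⟨hv, ?_⟩
          rw [hfix, sub_self]
          exact K.zero_mem
      | zero => exact ⟨m.zero_mem, by simp⟩
      | add x y _ _ hx hy =>
        refine ⟨m.add_mem hx.1 hy.1, ?_⟩
        have : σ • (x + y) - (x + y) = (σ • x - x) + (σ • y - y) := by
          rw [smul_add]; ring
        rw [this]
        exact K.add_mem hx.2 hy.2
      | smul b x _ hx =>
        refine ⟨m.mul_mem_left b hx.1, ?_⟩
        have : σ • (b • x) - b • x = (σ • b) * (σ • x - x) + x * (σ • b - b) := by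
          rw [smul_eq_mul, smul_mul']; ring
        rw [this]
        refine K.add_mem (K.mul_mem_left _ hx.2) (Submodule.mem_sup_right ?_)
        rw [← smul_eq_mul]
        exact Submodule.smul_mem_smul hx.1 (hmemI b)
    intro x hx
    rw [← hspan, ← Ideal.span_union] at hx
    exact (key' x hx).2
  intro y hy
  induction hy using Submodule.span_induction with
  | mem y hy =>
    obtain ⟨a, rfl⟩ := hy
    obtain ⟨c, hc⟩ := hk (IsLocalRing.residue A a)
    have hx : a - algebraMap k A c ∈ m := by
      rw [hm, ← Ideal.Quotient.eq_zero_iff_mem, map_sub, sub_eq_zero]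
      exact hc.symm
    have : σ • a - a = σ • (a - algebraMap k A c) - (a - algebraMap k A c) := by
      rw [smul_sub, hGk c]; ring
    change σ • a - a ∈ K
    rw [this]
    exact key _ hx
  | zero => exact K.zero_mem
  | add x y _ _ hx hy => exact K.add_mem hx hy
  | smul b x _ hx => exact K.smul_mem b hx

/-- Let `A` be a complete regular local ring of Krull dimension at least `2` and prime characteristic
`p`, with maximal ideal `m`; let `k` be a field with a ring map `k → A` whose composite with `A →
A/m` is onto (a field of representatives); let `G` be a group of order `p` acting on `A` by ring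
automorphisms that fix the image of `k`, ramified precisely at the origin: for every prime `P ≠ m`,
the inertia subgroup of `P` (the elements of `G` fixing every element of `A` modulo `P`) is trivial.
Then no element of `m` outside `m ^ 2` is fixed by every element of `G`; in particular the action is
not linear in any regular system of parameters. -/
theorem result
    (p : ℕ) [Fact p.Prime] (A : Type u) [CommRing A] [IsRegularLocalRing A] [CharP A p]
    [IsAdicComplete (IsLocalRing.maximalIdeal A) A] (hdim : 2 ≤ ringKrullDim A)
    (k : Type v) [Field k] [Algebra k A]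
    (hk : Function.Surjective (IsLocalRing.residue A ∘ algebraMap k A))
    (G : Type w) [Group G] [Finite G] [MulSemiringAction G A] (hcard : Nat.card G = p)
    (hGk : ∀ (σ : G) (c : k), σ • algebraMap k A c = algebraMap k A c)
    (hram : ∀ P : Ideal A, P.IsPrime → P ≠ IsLocalRing.maximalIdeal A → P.inertia G = ⊥)
    (v : A) (hv : v ∈ IsLocalRing.maximalIdeal A) (hv2 : v ∉ IsLocalRing.maximalIdeal A ^ 2) :
    ∃ σ : G, σ • v ≠ v := by
  classical
  by_contra hcon
  have hfix : ∀ σ : G, σ • v = v := by
    intro σ
    by_contra h
    exact hcon ⟨σ, h⟩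
  set m := IsLocalRing.maximalIdeal A with hm
  -- extend `v` to a minimal system of generators
  let y : Fin 1 → m := fun _ => ⟨v, hv⟩
  have hli : LinearIndependent (IsLocalRing.ResidueField A) (fun i => m.toCotangent (y i)) := by
    rw [linearIndependent_unique_iff]
    intro h0
    rw [Ideal.toCotangent_eq_zero] at h0
    exact hv2 h0
  obtain ⟨s, z, hs, hspan⟩ := Groth.Agent.Lib.Helper5.exists_extension_span_eq_maximalIdeal y hli
  have hry : (Set.range fun i => ((y i : m) : A)) = {v} := by
    ext t
    simp [y]
  rw [hry] at hspan
  have hdimA : ((1 + s : ℕ) : WithBot ℕ∞) = ringKrullDim A := by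
    rw [hs]
    exact IsRegularLocalRing.spanFinrank_maximalIdeal
  -- every element of `G` is trivial
  have htriv : ∀ σ : G, σ = 1 := by
    intro σ
    set z' : Fin s → A := fun i => (z i : A) with hz'
    have hzm : ∀ i, z' i ∈ m := fun i => (z i).2
    have hdiff := diff_le hk σ (hGk σ) v hv (hfix σ) z' hzm hspan
    set F : Finset A := Finset.univ.image (fun i => σ • z' i - z' i) with hF
    have hFJ : Ideal.span (F : Set A) = Ideal.span (Set.range fun i => σ • z' i - z' i) := by
      rw [hF, Finset.coe_image, Finset.coe_univ, Set.image_univ]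
    have hJm : Ideal.span (F : Set A) ≤ m := by
      rw [hFJ, Ideal.span_le]
      rintro _ ⟨i, rfl⟩
      exact m.sub_mem (smul_mem_max σ (hzm i)) (hzm i)
    obtain ⟨P, hP, hPm⟩ := Ideal.exists_minimalPrimes_le hJm
    have hPprime : P.IsPrime := hP.1.1
    have hht : P.height ≤ (s : ℕ∞) := by
      refine (Ideal.height_le_card_of_mem_minimalPrimes_span_finset hP).trans ?_
      have : F.card ≤ s := by
        refine Finset.card_image_le.trans ?_
        simp
      exact_mod_cast this
    have hPne : P ≠ m := by
      intro hPeq
      have h1 : (m.height : WithBot ℕ∞) = ringKrullDim A :=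
        IsLocalRing.maximalIdeal_height_eq_ringKrullDim
      rw [← hPeq, ← hdimA] at h1
      have h2 : P.height = ((1 + s : ℕ) : ℕ∞) := by exact_mod_cast h1
      rw [h2] at hht
      have : (1 + s : ℕ) ≤ s := by exact_mod_cast hht
      omega
    have hin := hram P hPprime hPne
    have hσ : σ ∈ P.inertia G := by
      rw [AddSubgroup.mem_inertia]
      intro a
      exact hP.1.2 (by rw [hFJ]; exact hdiff a)
    rw [hin] at hσ
    exact Subgroup.mem_bot.mp hσ
  have hsub : Subsingleton G := ⟨fun a b => by rw [htriv a, htriv b]⟩
  have h1 : Nat.card G = 1 := Nat.card_unique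
  rw [hcard] at h1
  exact (Fact.out : p.Prime).one_lt.ne' h1

end Groth.Agent.S15793
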