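import Groth.Statements.S15797
import Groth.Agent.Lib.Helper28Unmixed
import Groth.Agent.Lib.Helper5RLR3

set_option autoImplicit false
universe u v
open WildQuot

namespace Groth.Agent.S15797


section helpers
variable {A : Type u} [CommRing A]

/-- The colength of an ideal. -/
noncomputable def colen (I : Ideal A) : ℕ∞ := Module.length A (A ⧸ I)

/-- `a` is a nonzerodivisor modulo `I`. -/
def RegMod (I : Ideal A) (a : A) : Prop := ∀ y, a * y ∈ I → y ∈ I

/-- Superadditivity of the colength along a product with a regular factor. -/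
theorem add_le_length_mul (J : Ideal A) (a b : A) (ha : RegMod J a) :
    colen (J ⊔ Ideal.span {a}) + colen (J ⊔ Ideal.span {b}) ≤ colen (J ⊔ Ideal.span {a * b}) := by
  unfold colen
  have h01 : J ⊔ Ideal.span {a * b} ≤ J ⊔ Ideal.span {a} := by
    refine sup_le le_sup_left ?_
    rw [Ideal.span_singleton_le_iff_mem]
    exact Ideal.mem_sup_right (Ideal.mul_mem_right _ _ (Ideal.mem_span_singleton_self a))
  let g : (A ⧸ (J ⊔ Ideal.span {a * b})) →ₗ[A] (A ⧸ (J ⊔ Ideal.span {a})) :=
    Submodule.mapQ _ _ LinearMap.id (by simpa using h01)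
  have hg : Function.Surjective g := by
    intro y
    obtain ⟨y, rfl⟩ := Submodule.Quotient.mk_surjective _ y
    exact ⟨Submodule.Quotient.mk y, rfl⟩
  have h20 : J ⊔ Ideal.span {b} ≤ Submodule.comap (LinearMap.mulLeft A a) (J ⊔ Ideal.span {a * b}) := by
    refine sup_le ?_ ?_
    · intro x hx
      exact Ideal.mem_sup_left (Ideal.mul_mem_left _ _ hx)
    · rw [Ideal.span_le]
      intro x hx
      rw [Set.mem_singleton_iff] at hx
      subst hx
      exact Ideal.mem_sup_right (Ideal.mem_span_singleton_self _)
  let h : (A ⧸ (J ⊔ Ideal.span {b})) →ₗ[A] (A ⧸ (J ⊔ Ideal.span {a * b})) :=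
    Submodule.mapQ _ _ (LinearMap.mulLeft A a) h20
  have hrange : LinearMap.range h ≤ LinearMap.ker g := by
    rintro _ ⟨x, rfl⟩
    obtain ⟨y, rfl⟩ := Submodule.Quotient.mk_surjective _ x
    rw [LinearMap.mem_ker]
    show (Submodule.Quotient.mk (a * y) : A ⧸ (J ⊔ Ideal.span {a})) = 0
    rw [Submodule.Quotient.mk_eq_zero]
    exact Ideal.mem_sup_right (Ideal.mul_mem_right _ _ (Ideal.mem_span_singleton_self a))
  have hinj : Function.Injective h := by
    rw [← LinearMap.ker_eq_bot, LinearMap.ker_eq_bot']
    intro x hx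
    obtain ⟨y, rfl⟩ := Submodule.Quotient.mk_surjective _ x
    have h1 : (Submodule.Quotient.mk (a * y) : A ⧸ (J ⊔ Ideal.span {a * b})) = 0 := hx
    rw [Submodule.Quotient.mk_eq_zero] at h1
    obtain ⟨j, hj, z, hz, hjz⟩ := Submodule.mem_sup.mp h1
    obtain ⟨c, rfl⟩ := Ideal.mem_span_singleton'.mp hz
    have h2 : a * (y - c * b) ∈ J := by
      have : a * (y - c * b) = j := by
        rw [mul_sub, ← hjz]; ring
      rw [this]; exact hj
    have h3 := ha _ h2
    rw [Submodule.Quotient.mk_eq_zero]
    have : y = (y - c * b) + c * b := by ring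
    rw [this]
    exact add_mem (Ideal.mem_sup_left h3)
      (Ideal.mem_sup_right (Ideal.mul_mem_left _ _ (Ideal.mem_span_singleton_self b)))
  have e1 := Module.length_eq_add_of_exact (LinearMap.ker g).subtype g
    (Submodule.subtype_injective _) hg (LinearMap.exact_subtype_ker_map g)
  have e2 : Module.length A (LinearMap.range h) ≤ Module.length A (LinearMap.ker g) :=
    Module.length_le_of_injective (Submodule.inclusion hrange) (Submodule.inclusion_injective hrange)
  have e3 : Module.length A (A ⧸ (J ⊔ Ideal.span {b})) ≤ Module.length A (LinearMap.range h) := by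
    refine Module.length_le_of_injective h.rangeRestrict ?_
    intro x y hxy
    apply hinj
    exact congrArg Subtype.val hxy
  rw [e1, add_comm]
  exact add_le_add (e3.trans e2) le_rfl

theorem sum_le_length_prod {σ : Type v} (J : Ideal A) (f : σ → A) (s : Finset σ)
    (hf : ∀ x ∈ s, RegMod J (f x)) :
    ∑ x ∈ s, colen (J ⊔ Ideal.span {f x}) ≤ colen (J ⊔ Ideal.span {∏ x ∈ s, f x}) := by
  classical
  induction s using Finset.induction_on with
  | empty => simp
  | insert x s hx ih =>
    rw [Finset.prod_insert hx, Finset.sum_insert hx]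
    refine le_trans (add_le_add le_rfl (ih fun y hy => hf y (Finset.mem_insert_of_mem hy))) ?_
    exact add_le_length_mul J (f x) _ (hf x (Finset.mem_insert_self x s))

/-- The regularity oracle needed for the lower bound. -/
def Good {σ : Type v} [Fintype σ] (k : ℕ) (J : Ideal A) (f : Fin k → σ → A) : Prop :=
  ∀ w : Fin k → A, (∀ i, w i = ∏ x : σ, f i x ∨ ∃ y, w i = f i y) → ∀ (j : Fin k) (x : σ),
    RegMod (J ⊔ Ideal.span (Set.range (Function.update w j 0))) (f j x)

theorem good_succ {σ : Type v} [Fintype σ] {k : ℕ} {J : Ideal A} {f : Fin (k + 1) → σ → A}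
    (hG : Good (k + 1) J f) :
    Good k (J ⊔ Ideal.span {∏ x : σ, f 0 x}) (fun i => f i.succ) := by
  intro w' hw' j x
  have h := hG (Fin.cons (∏ x : σ, f 0 x) w')
    (by
      intro i
      refine Fin.cases ?_ (fun i => ?_) i
      · left; simp
      · simpa using hw' i) j.succ x
  rw [← Fin.cons_update, Fin.range_cons, Ideal.span_insert, ← sup_assoc] at h
  exact h

theorem good_zero {σ : Type v} [Fintype σ] {k : ℕ} {J : Ideal A} {f : Fin (k + 1) → σ → A}
    (hG : Good (k + 1) J f) (τ' : Fin k → σ) (x : σ) :
    RegMod (J ⊔ Ideal.span (Set.range fun i : Fin k => f i.succ (τ' i))) (f 0 x) := by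
  have h := hG (Fin.cons (∏ x : σ, f 0 x) (fun i : Fin k => f i.succ (τ' i)))
    (by
      intro i
      refine Fin.cases ?_ (fun i => ?_) i
      · left; simp
      · right; exact ⟨τ' i, by simp⟩) 0 x
  rw [Fin.update_cons_zero, Fin.range_cons, Ideal.span_insert,
    Ideal.span_singleton_eq_bot.mpr rfl, bot_sup_eq] at h
  exact h

theorem sum_le_length_tuple {σ : Type v} [Fintype σ] : ∀ (k : ℕ) (J : Ideal A) (f : Fin k → σ → A),
    Good k J f →
    ∑ τ : Fin k → σ, colen (J ⊔ Ideal.span (Set.range fun i => f i (τ i))) ≤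
      colen (J ⊔ Ideal.span (Set.range fun i => ∏ x : σ, f i x))
  | 0, J, f, _ => by
    rw [Fintype.sum_unique]
    have h1 : (Set.range fun i : Fin 0 => ∏ x : σ, f i x) = ∅ := Set.range_eq_empty _
    have h2 : ∀ τ : Fin 0 → σ, (Set.range fun i : Fin 0 => f i (τ i)) = ∅ :=
      fun τ => Set.range_eq_empty _
    rw [h1, h2]
  | k + 1, J, f, hG => by
    have key : ∀ (x : Fin (k + 1) → A),
        J ⊔ Ideal.span (Set.range x) =
          (J ⊔ Ideal.span (Set.range (Fin.tail x))) ⊔ Ideal.span {x 0} := by
      intro x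
      rw [Fin.range_fin_succ, Ideal.span_insert, sup_assoc, sup_comm (Ideal.span {x 0})]
    rw [key]
    have ih := sum_le_length_tuple k (J ⊔ Ideal.span {∏ x : σ, f 0 x}) (fun i => f i.succ)
      (good_succ hG)
    have e0 : (J ⊔ Ideal.span (Set.range (Fin.tail fun i => ∏ x : σ, f i x))) ⊔
          Ideal.span {∏ x : σ, f 0 x} =
        (J ⊔ Ideal.span {∏ x : σ, f 0 x}) ⊔
          Ideal.span (Set.range fun i : Fin k => ∏ x : σ, f i.succ x) := by
      rw [sup_assoc, sup_assoc, sup_comm (Ideal.span {_})]
      rfl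
    rw [e0]
    refine le_trans ?_ ih
    rw [← (Fin.consEquiv (fun _ => σ)).sum_comp, Fintype.sum_prod_type, Finset.sum_comm]
    refine Finset.sum_le_sum fun τ' _ => ?_
    have e1 : (J ⊔ Ideal.span {∏ x : σ, f 0 x}) ⊔
          Ideal.span (Set.range fun i : Fin k => f i.succ (τ' i)) =
        (J ⊔ Ideal.span (Set.range fun i : Fin k => f i.succ (τ' i))) ⊔
          Ideal.span {∏ x : σ, f 0 x} := by
      rw [sup_assoc, sup_assoc, sup_comm (Ideal.span {_})]
    rw [e1]
    refine le_trans ?_ (sum_le_length_prod _ (f 0) Finset.univ (fun x _ => good_zero hG τ' x))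
    refine Finset.sum_le_sum fun x _ => ?_
    rw [key]
    simp only [Fin.consEquiv, Equiv.coe_fn_mk]
    refine le_of_eq ?_
    congr 3

end helpers

/-- Let `A` be a regular local ring of Krull dimension `n` with maximal ideal `m` generated by `u_1, …,
u_n`, let a finite group `G` of order `g` act on `A` by ring automorphisms, and suppose `u` is
weakly admissible: for every choice `σ_1, …, σ_n ∈ G` the radical of `(σ_1 u_1, …, σ_n u_n)`
contains `m`. With `x_i = ∏_{σ ∈ G} σ u_i` the norms, the length of `A / (x_1, …, x_n)` is at least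
`g ^ n` (so the finite flat map from `k[[x_1, …, x_n]]` has degree at least `g ^ n`). (The published
statement is for a complete regular local ring containing a `G`-fixed field of representatives; this
row does not assume those.) -/
theorem result
    (A : Type u) [CommRing A] [IsRegularLocalRing A]
    (G : Type v) [Group G] [Fintype G] [MulSemiringAction G A]
    (n : ℕ) (hn : ringKrullDim A = n) (u : Fin n → A)
    (hu : Ideal.span (Set.range u) = IsLocalRing.maximalIdeal A)
    (hwa : ∀ τ : Fin n → G,
      IsLocalRing.maximalIdeal A ≤ (Ideal.span (Set.range fun i => τ i • u i)).radical) :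
    ((Fintype.card G ^ n : ℕ) : ℕ∞) ≤
      Module.length A (A ⧸ Ideal.span (Set.range fun i => ∏ σ : G, σ • u i)) := by
  classical
  have hCM : LocCoh.IsCohenMacaulayLocalRing A :=
    Groth.Agent.Lib.Helper5.isCohenMacaulayLocalRing_of_isRegularLocalRing A
  -- all conjugates lie in the maximal ideal
  have hmem : ∀ (i : Fin n) (σ : G), σ • u i ∈ IsLocalRing.maximalIdeal A := by
    intro i σ
    have hui : u i ∈ IsLocalRing.maximalIdeal A := hu ▸ Ideal.subset_span ⟨i, rfl⟩
    rw [IsLocalRing.mem_maximalIdeal, mem_nonunits_iff] at hui ⊢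
    intro h
    have h2 := h.map (MulSemiringAction.toRingHom G A σ⁻¹)
    exact hui (by simpa using h2)
  have hGood : Good (σ := G) n ⊥ (fun i σ => σ • u i) := by
    intro w hw j x
    obtain ⟨k, rfl⟩ : ∃ k, n = k + 1 := Nat.exists_eq_succ_of_ne_zero (Fin.pos j).ne'
    -- the list of the other generators
    let L : List A := List.ofFn (fun i : Fin k => w (j.succAbove i))
    have hL : Ideal.ofList L = ⊥ ⊔ Ideal.span (Set.range (Function.update w j 0)) := by
      rw [bot_sup_eq, Groth.Agent.Lib.Helper5.ofList_ofFn_eq_span_range]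
      refine le_antisymm (Ideal.span_le.mpr ?_) (Ideal.span_le.mpr ?_)
      · rintro _ ⟨i, rfl⟩
        refine Ideal.subset_span ⟨j.succAbove i, ?_⟩
        rw [Function.update_of_ne (Fin.succAbove_ne j i)]
      · rintro _ ⟨i, rfl⟩
        by_cases hij : i = j
        · subst hij
          simp
        · rw [Function.update_of_ne hij]
          obtain ⟨i', rfl⟩ := Fin.exists_succAbove_eq hij
          exact Ideal.subset_span ⟨i', rfl⟩
    rw [← hL]
    -- membership of the `w i` in the maximal ideal
    have hwm : ∀ i, w i ∈ IsLocalRing.maximalIdeal A := by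
      intro i
      rcases hw i with h | ⟨y, h⟩
      · rw [h]
        exact Ideal.prod_mem _ (Finset.mem_univ (1 : G)) (hmem i 1)
      · rw [h]; exact hmem i y
    let ys : List A := L ++ [x • u j]
    have hys_mem : ∀ y ∈ ys, y ∈ IsLocalRing.maximalIdeal A := by
      intro y hy
      rcases List.mem_append.mp hy with h | h
      · obtain ⟨i, rfl⟩ := (List.mem_ofFn' _ _).mp h
        exact hwm _
      · rw [List.mem_singleton] at h
        rw [h]; exact hmem j x
    have hys_len : ys.length = k + 1 := by simp [ys, L]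
    have hys_le : Ideal.ofList ys ≤ IsLocalRing.maximalIdeal A := by
      rw [Ideal.ofList, Ideal.span_le]
      intro y hy
      exact hys_mem y hy
    -- every prime containing `ys` is the maximal ideal
    have hprime : ∀ P : Ideal A, P.IsPrime → Ideal.ofList ys ≤ P → IsLocalRing.maximalIdeal A ≤ P := by
      intro P hP hle
      have hex : ∀ i : Fin (k + 1), ∃ y : G, y • u i ∈ P := by
        intro i
        by_cases hij : i = j
        · subst hij
          exact ⟨x, hle (Ideal.subset_span (by simp [ys]))⟩
        · obtain ⟨i', rfl⟩ := Fin.exists_succAbove_eq hij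
          have hwi : w (j.succAbove i') ∈ P :=
            hle (Ideal.subset_span (List.mem_append_left _ ((List.mem_ofFn' _ _).mpr ⟨i', rfl⟩)))
          rcases hw (j.succAbove i') with h | ⟨y, h⟩
          · rw [h] at hwi
            obtain ⟨y, -, hy⟩ := (Ideal.IsPrime.prod_mem_iff).mp hwi
            exact ⟨y, hy⟩
          · rw [h] at hwi
            exact ⟨y, hwi⟩
      choose τ hτ using hex
      refine (hwa τ).trans ?_
      rw [hP.radical_le_iff, Ideal.span_le]
      rintro _ ⟨i, rfl⟩
      exact hτ i
    have hht : (ys.length : ℕ∞) ≤ (Ideal.ofList ys).height := by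
      rw [Ideal.height_eq_inf_minimalPrimes]
      refine le_iInf₂ fun P hP => ?_
      have hPp : P.IsPrime := hP.1.1
      have hPm : P = IsLocalRing.maximalIdeal A :=
        le_antisymm (IsLocalRing.le_maximalIdeal hPp.ne_top) (hprime P hPp hP.1.2)
      rw [hPm, hys_len]
      have := IsLocalRing.maximalIdeal_height_eq_ringKrullDim (R := A)
      rw [hn] at this
      exact_mod_cast this.ge
    have hreg := (Groth.Agent.Lib.Helper28.isWeaklyRegular_of_length_le_height ys hys_mem hht).1
    have hreg2 := ((RingTheory.Sequence.isWeaklyRegular_append_iff A L [x • u j]).mp hreg).2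
    rw [RingTheory.Sequence.isWeaklyRegular_singleton_iff] at hreg2
    intro y hy
    have h0 : (x • u j) • (Submodule.Quotient.mk y : A ⧸ (Ideal.ofList L • ⊤ : Submodule A A)) =
        (x • u j) • 0 := by
      rw [smul_zero, ← Submodule.Quotient.mk_smul, Submodule.Quotient.mk_eq_zero, smul_eq_mul,
        smul_eq_mul, Ideal.mul_top]
      exact hy
    have h1 := hreg2 h0
    rw [Submodule.Quotient.mk_eq_zero, smul_eq_mul, Ideal.mul_top] at h1
    exact h1
  have h := sum_le_length_tuple (A := A) (σ := G) n ⊥ (fun i σ => σ • u i) hGood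
  simp only [bot_sup_eq] at h
  show _ ≤ colen _
  refine le_trans ?_ h
  have h1 : ∀ τ : Fin n → G,
      1 ≤ colen (Ideal.span (Set.range fun i => τ i • u i)) := by
    intro τ
    unfold colen
    rw [Order.one_le_iff_ne_zero, Ne, Module.length_eq_zero_iff, not_subsingleton_iff_nontrivial,
      Ideal.Quotient.nontrivial_iff]
    intro htop
    have hle : Ideal.span (Set.range fun i => τ i • u i) ≤ IsLocalRing.maximalIdeal A := by
      rw [Ideal.span_le]
      rintro _ ⟨i, rfl⟩
      exact hmem i (τ i)
    rw [htop] at hle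
    exact (IsLocalRing.maximalIdeal.isMaximal A).ne_top (top_le_iff.mp hle)
  calc ((Fintype.card G ^ n : ℕ) : ℕ∞) = ∑ _τ : Fin n → G, (1 : ℕ∞) := by
        rw [Finset.sum_const, Finset.card_univ, Fintype.card_pi_const]
        simp
    _ ≤ _ := Finset.sum_le_sum fun τ _ => h1 τ

end Groth.Agent.S15797
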