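import Groth.Statements.S15824
import Groth.Agent.Lib.T2H9CICM
import Groth.Agent.Lib.Helper5RegImm
import Groth.Agent.Lib.Helper28DepthLoc

set_option autoImplicit false
set_option linter.style.haveILetI false
universe u
open CategoryTheory AlgebraicGeometry
open RegImm

namespace Groth.Agent.S15824

/-- Let X be a locally Noetherian scheme all of whose local rings are Cohen–Macaulay, and i : Z → X a
closed immersion which is regular (around every point, on some affine open of X the ideal of Z is
generated by a regular sequence). Then Z has no embedded points (each associated point of Z is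
generic in an irreducible component): for every point z of Z, if the maximal ideal of O_{Z,z} is an
associated prime of O_{Z,z} (as a module over itself), then O_{Z,z} has Krull dimension 0. (The
published statement takes X Noetherian and Z a local complete intersection subscheme; the assertion
is local on X and uses only that the ideal of Z is locally generated by a regular sequence.) -/
theorem result {X Z : Scheme.{u}}
    [IsLocallyNoetherian X] (hCM : ∀ x : X, LocCoh.IsCohenMacaulayLocalRing (X.presheaf.stalk x))
    (i : Z ⟶ X) [IsClosedImmersion i] (hi : RegImm.IsRegularImmersion RegImm.Kind.regular i) (z : Z)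
    (hz : IsAssociatedPrime (IsLocalRing.maximalIdeal (Z.presheaf.stalk z)) (Z.presheaf.stalk z)) :
    ringKrullDim (Z.presheaf.stalk z) = 0 := by
  obtain ⟨-, hreg⟩ := hi
  obtain ⟨U, hzU, -, rs, hrsreg, hker⟩ := hreg z
  have hRegAt : Groth.Agent.Lib.Helper5.RegImm.RegAt i z :=
    ⟨U.1, U.2, hzU, rs, hrsreg, by rw [Scheme.Hom.ker_apply]; exact hker⟩
  obtain ⟨rs', hreg', hker'⟩ := Groth.Agent.Lib.Helper5.RegImm.stalkReg_of_regAt i z hRegAt
  have hsurj : Function.Surjective (i.stalkMap z).hom := i.stalkMap_surjective z
  haveI := hCM (i z)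
  have hne : Ideal.ofList rs' ≠ ⊤ := by
    rw [← hker']
    exact RingHom.ker_ne_top _
  have hmem : ∀ r ∈ rs', r ∈ IsLocalRing.maximalIdeal (X.presheaf.stalk (i z)) := fun r hr =>
    IsLocalRing.le_maximalIdeal hne (Ideal.subset_span hr)
  haveI hQ := Groth.Agent.Lib.T2H9.CICM.isCohenMacaulayLocalRing_quotient_ofList
    (X.presheaf.stalk (i z)) rs' hmem hreg'
  let e : (X.presheaf.stalk (i z) ⧸ Ideal.ofList rs') ≃+* Z.presheaf.stalk z :=
    (Ideal.quotEquivOfEq hker'.symm).trans (RingHom.quotientKerEquivOfSurjective hsurj)
  haveI hZ : LocCoh.IsCohenMacaulayLocalRing (Z.presheaf.stalk z) :=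
    Groth.Agent.Lib.Helper28.isCohenMacaulayLocalRing_of_ringEquiv e
  haveI : IsNoetherianRing (Z.presheaf.stalk z) := inferInstance
  have hd : LocCoh.depth (Z.presheaf.stalk z) (Z.presheaf.stalk z) = 0 :=
    Groth.Agent.Lib.Helper28.depth_eq_zero_iff.mpr hz
  have h1 := hZ.supportDim_eq_depth
  rw [Module.supportDim_self_eq_ringKrullDim, hd] at h1
  exact h1

end Groth.Agent.S15824
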