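import Groth.Statements.S15892
import Groth.Agent.Lib.T2H8CDExB
import Groth.Agent.Lib.T2H8CDExC
import Groth.Agent.Lib.T2H8CDExD

set_option autoImplicit false
universe u
open CartDual

namespace Groth.Agent.S15892

/-- Let R be a Noetherian ring and A', A, A'' commutative and cocommutative Hopf algebras over R, each
finitely generated and projective as an R-module (finite flat commutative R-groups G' = Spec A', G =
Spec A, G'' = Spec A''). Let f : A'' → A be a bialgebra homomorphism which is faithfully flat as a
ring map (the comorphism of a faithfully flat homomorphism π : G → G'') and g : A → A' a surjective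
bialgebra homomorphism whose kernel is the ideal of A generated by the image under f of the
augmentation ideal of A'' (the comorphism of a closed immersion ι : G' → G identifying G' with the
kernel of π), so that 1 → G' → G → G'' → 1 is a short exact sequence of finite flat R-groups. Then
the Cartier dual sequence 1 → G''^D → G^D → G'^D → 1 is again short exact: the transpose Hom_R(A',
R) → Hom_R(A, R) of g is a faithfully flat ring map between the dual Hopf algebras, and the
transpose Hom_R(A, R) → Hom_R(A'', R) of f is surjective with kernel the ideal generated by the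
image, under the transpose of g, of the augmentation ideal of Hom_R(A', R). -/
theorem result (R : Type u) [CommRing R] [IsNoetherianRing R]
    (A' A A'' : Type u) [CommRing A'] [HopfAlgebra R A'] [Coalgebra.IsCocomm R A'] [Module.Finite R A']
    [Module.Projective R A'] [CommRing A] [HopfAlgebra R A] [Coalgebra.IsCocomm R A] [Module.Finite R A]
    [Module.Projective R A] [CommRing A''] [HopfAlgebra R A''] [Coalgebra.IsCocomm R A''] [Module.Finite R A'']
    [Module.Projective R A''] (f : A'' →ₐc[R] A) (hf : (f : A'' →ₐ[R] A).toRingHom.FaithfullyFlat)
    (g : A →ₐc[R] A') (hg : Function.Surjective g)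
    (hker : RingHom.ker (g : A →ₐ[R] A') = Ideal.map (f : A'' →ₐ[R] A) (RingHom.ker (Bialgebra.counitAlgHom R A''))) :
    (CartDual.transpose R g : CartDual.D R A' →ₐ[R] CartDual.D R A).toRingHom.FaithfullyFlat ∧
      Function.Surjective (CartDual.transpose R f) ∧
      RingHom.ker (CartDual.transpose R f : CartDual.D R A →ₐ[R] CartDual.D R A'') =
        Ideal.map (CartDual.transpose R g : CartDual.D R A' →ₐ[R] CartDual.D R A)
          (RingHom.ker (Bialgebra.counitAlgHom R (CartDual.D R A'))) := by
  classical
  -- (a)
  obtain ⟨s, hs⟩ := Module.projective_lifting_property (g : A →ₐ[R] A').toLinearMap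
    (LinearMap.id : A' →ₗ[R] A') hg
  have hs' : ∀ a', g (s a') = a' := fun a' => LinearMap.congr_fun hs a'
  have ha := Groth.Agent.Lib.T2H8.CDEx.faithfullyFlat_of_retraction (CartDual.transpose R g)
    (CartDual.transposeLin R s) (fun x => by
      apply WithConv.ext
      apply LinearMap.ext
      intro a'
      change x (g (s a')) = x a'
      rw [hs'])
  refine ⟨ha, ?_, Groth.Agent.Lib.T2H8.CDEx.ker_transpose_eq f g hf hg hker ha⟩
  -- (b)
  obtain ⟨r, hr⟩ := Groth.Agent.Lib.T2H8.CDEx.exists_retraction_of_faithfullyFlat
    (f : A'' →ₐ[R] A) hf
  intro φ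
  refine ⟨CartDual.transposeLin R r φ, ?_⟩
  apply WithConv.ext
  apply LinearMap.ext
  intro c
  change φ (r ((f : A'' →ₐ[R] A) c)) = φ c
  rw [hr]

end Groth.Agent.S15892
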