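import Groth.Statements.S15939
import Mathlib

set_option autoImplicit false
universe u
open CAlg

namespace Groth.Agent.S15939

open Polynomial

section
variable {κ A : Type u} [Field κ] [CommRing A] [Algebra κ A]

lemma adjoin_eq_top (hbt : ∀ B : Subalgebra κ A, B = ⊥ ∨ B = ⊤) {y : A}
    (hy : y ∉ (⊥ : Subalgebra κ A)) : Algebra.adjoin κ {y} = ⊤ := by
  rcases hbt (Algebra.adjoin κ {y}) with h | h
  · exfalso
    apply hy
    rw [← h]
    exact Algebra.self_mem_adjoin_singleton κ y
  · exact h

lemma finite_of (hbt : ∀ B : Subalgebra κ A, B = ⊥ ∨ B = ⊤) (x : A)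
    (hx : x ∉ (⊥ : Subalgebra κ A)) : Module.Finite κ A := by
  have hint : IsIntegral κ x := by
    by_cases hx2 : x ^ 2 ∈ (⊥ : Subalgebra κ A)
    · obtain ⟨a, ha⟩ := Algebra.mem_bot.mp hx2
      refine ⟨X ^ 2 - C a, monic_X_pow_sub_C a two_ne_zero, ?_⟩
      rw [eval₂_sub, eval₂_pow, eval₂_X, eval₂_C, ha, sub_self]
    · have htop := adjoin_eq_top hbt hx2
      have hxm : x ∈ Algebra.adjoin κ {x ^ 2} := by
        rw [htop]
        trivial
      rw [Algebra.adjoin_singleton_eq_range_aeval] at hxm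
      obtain ⟨P, hP⟩ := (AlgHom.mem_range _).mp hxm
      have hQ : aeval x (expand κ 2 P - X) = 0 := by
        rw [map_sub, expand_aeval, aeval_X, hP, sub_self]
      have hQ0 : expand κ 2 P - X ≠ 0 := by
        intro h0
        have h1 : (expand κ 2 P - X).coeff 1 = -1 := by
          rw [coeff_sub, coeff_expand (by norm_num : 0 < 2), if_neg (by norm_num), coeff_X_one,
            zero_sub]
        rw [h0, coeff_zero] at h1
        exact one_ne_zero (neg_eq_zero.mp h1.symm)
      exact IsAlgebraic.isIntegral ⟨_, hQ0, hQ⟩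
  have hfg := hint.fg_adjoin_singleton
  rw [adjoin_eq_top hbt hx, Algebra.top_toSubmodule] at hfg
  exact Module.finite_def.mpr hfg

lemma lin_indep [Nontrivial A] {y : A} (hy : y ∉ (⊥ : Subalgebra κ A)) {α β : κ}
    (h : algebraMap κ A α + β • y = 0) : α = 0 ∧ β = 0 := by
  have hβ : β = 0 := by
    by_contra hβ
    apply hy
    rw [Algebra.mem_bot]
    refine ⟨-(β⁻¹ * α), ?_⟩
    have h1 : β • y = -algebraMap κ A α := eq_neg_of_add_eq_zero_right h
    have h2 : y = β⁻¹ • (β • y) := (inv_smul_smul₀ hβ y).symm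
    rw [h2, h1, map_neg, map_mul, Algebra.smul_def, mul_neg]
  refine ⟨?_, hβ⟩
  rw [hβ, zero_smul, add_zero] at h
  exact (map_eq_zero (algebraMap κ A)).mp h

lemma surj_of (hbt : ∀ B : Subalgebra κ A, B = ⊥ ∨ B = ⊤) {B : Type*} [Semiring B]
    [Algebra κ B] (φ : B →ₐ[κ] A) {y : A} (hy : y ∉ (⊥ : Subalgebra κ A))
    (hyr : y ∈ φ.range) : Function.Surjective φ := by
  rw [← AlgHom.range_eq_top]
  rcases hbt φ.range with h | h
  · exfalso
    apply hy
    rw [← h]
    exact hyr
  · exact h

lemma dual_case (hbt : ∀ B : Subalgebra κ A, B = ⊥ ∨ B = ⊤) [Nontrivial A] (ε : A)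
    (hε0 : ε ≠ 0) (hε2 : ε * ε = 0) : Nonempty (A ≃ₐ[κ] DualNumber κ) := by
  have hεn : ε ∉ (⊥ : Subalgebra κ A) := by
    intro hmem
    obtain ⟨a, ha⟩ := Algebra.mem_bot.mp hmem
    apply hε0
    have h1 : algebraMap κ A (a * a) = 0 := by rw [map_mul, ha, hε2]
    have ha0 : a = 0 := mul_self_eq_zero.mp ((map_eq_zero (algebraMap κ A)).mp h1)
    rw [← ha, ha0, map_zero]
  let φ : DualNumber κ →ₐ[κ] A :=
    DualNumber.lift (R := κ) (A := κ) (B := A)
      ⟨(Algebra.ofId κ A, ε), hε2, fun a => Commute.all _ _⟩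
  have hφ : ∀ z : DualNumber κ, φ z = algebraMap κ A z.fst + z.snd • ε := by
    intro z
    rw [Algebra.smul_def]
    rfl
  have hinj : Function.Injective φ := by
    rw [injective_iff_map_eq_zero]
    intro z hz
    rw [hφ] at hz
    obtain ⟨h1, h2⟩ := lin_indep hεn hz
    exact TrivSqZeroExt.ext h1 h2
  have hsurj : Function.Surjective φ := by
    apply surj_of hbt φ hεn
    refine (AlgHom.mem_range _).mpr ⟨DualNumber.eps, ?_⟩
    rw [hφ, DualNumber.fst_eps, DualNumber.snd_eps, map_zero, zero_add, one_smul]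
  exact ⟨(AlgEquiv.ofBijective φ ⟨hinj, hsurj⟩).symm⟩

lemma prod_case (hbt : ∀ B : Subalgebra κ A, B = ⊥ ∨ B = ⊤) [Nontrivial A] (e : A)
    (he0 : e ≠ 0) (he1 : e ≠ 1) (hee : e * e = e) : Nonempty (A ≃ₐ[κ] (κ × κ)) := by
  have hen : e ∉ (⊥ : Subalgebra κ A) := by
    intro hmem
    obtain ⟨a, ha⟩ := Algebra.mem_bot.mp hmem
    have h1 : algebraMap κ A (a * a - a) = 0 := by rw [map_sub, map_mul, ha, hee, sub_self]
    have h2 : a * a - a = 0 := (map_eq_zero (algebraMap κ A)).mp h1
    have h3 : a * (a - 1) = 0 := by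
      rw [← h2]
      ring
    rcases mul_eq_zero.mp h3 with h | h
    · apply he0
      rw [← ha, h, map_zero]
    · apply he1
      rw [← ha, sub_eq_zero.mp h, map_one]
  let ψ : κ × κ →ₐ[κ] A :=
    { toFun := fun z => algebraMap κ A z.1 * e + algebraMap κ A z.2 * (1 - e)
      map_one' := by
        show algebraMap κ A (1 : κ × κ).1 * e + algebraMap κ A (1 : κ × κ).2 * (1 - e) = 1
        rw [Prod.fst_one, Prod.snd_one, map_one]
        ring
      map_mul' := by
        intro z w
        show algebraMap κ A (z * w).1 * e + algebraMap κ A (z * w).2 * (1 - e) =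
          (algebraMap κ A z.1 * e + algebraMap κ A z.2 * (1 - e)) *
            (algebraMap κ A w.1 * e + algebraMap κ A w.2 * (1 - e))
        rw [Prod.fst_mul, Prod.snd_mul, map_mul, map_mul]
        linear_combination (-(algebraMap κ A z.1 * algebraMap κ A w.1 -
          algebraMap κ A z.1 * algebraMap κ A w.2 - algebraMap κ A z.2 * algebraMap κ A w.1 +
          algebraMap κ A z.2 * algebraMap κ A w.2)) * hee
      map_zero' := by
        show algebraMap κ A (0 : κ × κ).1 * e + algebraMap κ A (0 : κ × κ).2 * (1 - e) = 0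
        rw [Prod.fst_zero, Prod.snd_zero, map_zero]
        ring
      map_add' := by
        intro z w
        show algebraMap κ A (z + w).1 * e + algebraMap κ A (z + w).2 * (1 - e) =
          (algebraMap κ A z.1 * e + algebraMap κ A z.2 * (1 - e)) +
            (algebraMap κ A w.1 * e + algebraMap κ A w.2 * (1 - e))
        rw [Prod.fst_add, Prod.snd_add, map_add, map_add]
        ring
      commutes' := by
        intro r
        show algebraMap κ A r * e + algebraMap κ A r * (1 - e) = algebraMap κ A r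
        ring }
  have hψ : ∀ z : κ × κ, ψ z = algebraMap κ A z.1 * e + algebraMap κ A z.2 * (1 - e) :=
    fun z => rfl
  have hinj : Function.Injective ψ := by
    rw [injective_iff_map_eq_zero]
    intro z hz
    rw [hψ] at hz
    have h3 : algebraMap κ A z.2 + (z.1 - z.2) • e = 0 := by
      rw [← hz, Algebra.smul_def, map_sub]
      ring
    obtain ⟨h1, h2⟩ := lin_indep hen h3
    have h4 : z.1 = 0 := by
      rw [h1, sub_zero] at h2
      exact h2
    exact Prod.ext h4 h1
  have hsurj : Function.Surjective ψ := by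
    apply surj_of hbt ψ hen
    refine (AlgHom.mem_range _).mpr ⟨(1, 0), ?_⟩
    rw [hψ]
    show algebraMap κ A 1 * e + algebraMap κ A 0 * (1 - e) = e
    rw [map_one, map_zero]
    ring
  exact ⟨(AlgEquiv.ofBijective ψ ⟨hinj, hsurj⟩).symm⟩

end

lemma isField_of (A : Type*) [CommRing A] [Nontrivial A] [IsArtinianRing A]
    (hnil : ∀ ε : A, ε * ε = 0 → ε = 0) (hidem : ∀ e : A, e * e = e → e = 0 ∨ e = 1) :
    IsField A := by
  have hred : ∀ (n : ℕ) (y : A), y ^ n = 0 → y = 0 := by
    intro n
    induction n using Nat.strong_induction_on with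
    | _ n ih =>
      intro y hy
      rcases Nat.lt_or_ge n 2 with hlt | hge
      · interval_cases n
        · rw [pow_zero] at hy
          exact absurd hy one_ne_zero
        · rwa [pow_one] at hy
      · have hm : (n + 1) / 2 < n := by omega
        apply ih ((n + 1) / 2) hm
        apply hnil
        rw [← pow_add]
        obtain ⟨t, ht⟩ : ∃ t, (n + 1) / 2 + (n + 1) / 2 = n + t :=
          ⟨(n + 1) / 2 + (n + 1) / 2 - n, by omega⟩
        rw [ht, pow_add, hy, zero_mul]
  refine ⟨exists_pair_ne A, mul_comm, fun {y} hy => ?_⟩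
  obtain ⟨n, z, hz⟩ := IsArtinian.exists_pow_succ_smul_dvd y (1 : A)
  rw [smul_eq_mul, smul_eq_mul, mul_one] at hz
  have hz' : y ^ (n + 1) * z = y ^ n := hz
  have hk : ∀ k : ℕ, y ^ (n + k) * z ^ k = y ^ n := by
    intro k
    induction k with
    | zero => rw [add_zero, pow_zero, mul_one]
    | succ k ih =>
      calc y ^ (n + (k + 1)) * z ^ (k + 1) = (y ^ (n + 1) * z) * (y ^ k * z ^ k) := by ring
        _ = y ^ n * (y ^ k * z ^ k) := by rw [hz']
        _ = y ^ (n + k) * z ^ k := by ring
        _ = y ^ n := ih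
  have hee : (y ^ n * z ^ n) * (y ^ n * z ^ n) = y ^ n * z ^ n := by
    calc (y ^ n * z ^ n) * (y ^ n * z ^ n) = (y ^ (n + n) * z ^ n) * z ^ n := by ring
      _ = y ^ n * z ^ n := by rw [hk n]
  rcases hidem _ hee with h0 | h1
  · exfalso
    apply hy
    apply hred n y
    calc y ^ n = y ^ (n + n) * z ^ n := (hk n).symm
      _ = y ^ n * (y ^ n * z ^ n) := by ring
      _ = 0 := by rw [h0, mul_zero]
  · rcases Nat.eq_zero_or_pos n with hn0 | hnpos
    · subst hn0
      rw [zero_add, pow_one, pow_zero] at hz'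
      exact ⟨z, hz'⟩
    · refine ⟨y ^ (n - 1) * z ^ n, ?_⟩
      calc y * (y ^ (n - 1) * z ^ n) = y ^ (n - 1 + 1) * z ^ n := by ring
        _ = y ^ n * z ^ n := by rw [Nat.sub_add_cancel hnpos]
        _ = 1 := h1

lemma field_case (κ K : Type u) [Field κ] [Field K] [Algebra κ K] (hfin : Module.Finite κ K)
    (hbt : ∀ B : Subalgebra κ K, B = ⊥ ∨ B = ⊤) (hne : (⊥ : Subalgebra κ K) ≠ ⊤) :
    Algebra.IsSeparable κ K ∨ ∃ (p : ℕ) (a : κ), p.Prime ∧ CharP κ p ∧ (∀ b : κ, b ^ p ≠ a) ∧
      Nonempty (K ≃ₐ[κ] AdjoinRoot (X ^ p - C a)) := by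
  classical
  have := hfin
  obtain ⟨p, hp⟩ := CharP.exists κ
  rcases CharP.char_is_prime_or_zero κ p with hprime | hzero
  swap
  · left
    subst hzero
    have : CharZero κ := CharP.charP_to_charZero κ
    infer_instance
  · have : ExpChar κ p := ExpChar.prime hprime
    have : Fact p.Prime := ⟨hprime⟩
    rcases hbt (separableClosure κ K).toSubalgebra with hbot | htop
    swap
    · left
      rw [← IntermediateField.top_toSubalgebra, IntermediateField.toSubalgebra_inj] at htop
      exact (separableClosure.eq_top_iff κ K).mp htop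
    · right
      rw [← IntermediateField.bot_toSubalgebra, IntermediateField.toSubalgebra_inj] at hbot
      have : IsPurelyInseparable κ K := separableClosure.eq_bot_iff.mp hbot
      obtain ⟨x, hx⟩ : ∃ x : K, x ∉ (⊥ : Subalgebra κ K) := by
        by_contra hcon
        push Not at hcon
        exact hne (eq_top_iff.mpr fun x _ => hcon x)
      have hex := IsPurelyInseparable.pow_mem κ p x
      obtain ⟨n, hn, hmin⟩ : ∃ n, x ^ p ^ n ∈ (algebraMap κ K).range ∧
          ∀ m < n, x ^ p ^ m ∉ (algebraMap κ K).range :=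
        ⟨Nat.find hex, Nat.find_spec hex, fun m hm => Nat.find_min hex hm⟩
      have hn0 : n ≠ 0 := by
        intro h0
        rw [h0, pow_zero, pow_one] at hn
        obtain ⟨c, hc⟩ := RingHom.mem_range.mp hn
        exact hx (Algebra.mem_bot.mpr ⟨c, hc⟩)
      obtain ⟨k, hk⟩ := Nat.exists_eq_succ_of_ne_zero hn0
      have hyn : x ^ p ^ k ∉ (⊥ : Subalgebra κ K) := by
        intro hmem
        obtain ⟨c, hc⟩ := Algebra.mem_bot.mp hmem
        exact hmin k (by omega) (RingHom.mem_range.mpr ⟨c, hc⟩)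
      obtain ⟨a, ha⟩ : ∃ a, algebraMap κ K a = (x ^ p ^ k) ^ p := by
        rw [hk, Nat.succ_eq_add_one, pow_succ, pow_mul] at hn
        exact RingHom.mem_range.mp hn
      have hchar : CharP K p := charP_of_injective_algebraMap (algebraMap κ K).injective p
      have hpow : ∀ b : κ, b ^ p ≠ a := by
        intro b hb
        apply hyn
        have h0 : (x ^ p ^ k - algebraMap κ K b) ^ p = 0 := by
          rw [sub_pow_char, ← ha, ← map_pow, hb, sub_self]
        have h1 : x ^ p ^ k = algebraMap κ K b :=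
          sub_eq_zero.mp ((pow_eq_zero_iff hprime.ne_zero).mp h0)
        rw [h1]
        exact Subalgebra.algebraMap_mem _ b
      have hirr : Irreducible (X ^ p - C a : κ[X]) :=
        X_pow_sub_C_irreducible_of_prime hprime hpow
      have : Fact (Irreducible (X ^ p - C a : κ[X])) := ⟨hirr⟩
      let ψ : AdjoinRoot (X ^ p - C a : κ[X]) →ₐ[κ] K :=
        AdjoinRoot.liftAlgHom _ (Algebra.ofId κ K) (x ^ p ^ k) (by
          rw [eval₂_sub, eval₂_pow, eval₂_X, eval₂_C]
          show (x ^ p ^ k) ^ p - algebraMap κ K a = 0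
          rw [ha, sub_self])
      have hψinj : Function.Injective ψ := fun u v huv =>
        (RingHom.injective (ψ : AdjoinRoot (X ^ p - C a : κ[X]) →+* K)) huv
      have hψsurj : Function.Surjective ψ := by
        rw [← AlgHom.range_eq_top]
        rcases hbt ψ.range with h | h
        · exfalso
          apply hyn
          rw [← h]
          exact (AlgHom.mem_range _).mpr ⟨AdjoinRoot.root _, AdjoinRoot.liftAlgHom_root _ _ _ _⟩
        · exact h
      exact ⟨p, a, hprime, hp, hpow, ⟨(AlgEquiv.ofBijective ψ ⟨hψinj, hψsurj⟩).symm⟩⟩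

open Polynomial in
/-- Let κ be a field and A a commutative κ-algebra whose only κ-subalgebras are the image of κ and A
itself, these two being different. Then A is finite-dimensional over κ, and A is isomorphic as a
κ-algebra to the dual numbers over κ, or to κ × κ, or A is a field which is either separable over κ
or isomorphic to κ[X]/(X^p - a) with p the (positive) characteristic of κ and a an element of κ that
is not a p-th power. (The published statement also records that these four cases exclude one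
another; that part is not restated.) -/
theorem result (κ A : Type u) [Field κ] [CommRing A] [Algebra κ A]
    (h : IsSimpleOrder (Subalgebra κ A)) :
    FiniteDimensional κ A ∧
    (Nonempty (A ≃ₐ[κ] DualNumber κ) ∨ Nonempty (A ≃ₐ[κ] (κ × κ)) ∨
      (IsField A ∧ (Algebra.IsSeparable κ A ∨
        ∃ (p : ℕ) (a : κ), p.Prime ∧ CharP κ p ∧ (∀ b : κ, b ^ p ≠ a) ∧
          Nonempty (A ≃ₐ[κ] AdjoinRoot (X ^ p - C a))))) := by
  classical
  have hbt : ∀ B : Subalgebra κ A, B = ⊥ ∨ B = ⊤ := fun B => eq_bot_or_eq_top B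
  have hne : (⊥ : Subalgebra κ A) ≠ ⊤ := bot_ne_top
  have : Nontrivial A := by
    by_contra hcon
    rw [not_nontrivial_iff_subsingleton] at hcon
    apply hne
    ext x
    simp only [Algebra.mem_top, iff_true]
    have : x = algebraMap κ A 0 := Subsingleton.elim _ _
    rw [this]
    exact Subalgebra.algebraMap_mem _ _
  obtain ⟨x, hx⟩ : ∃ x : A, x ∉ (⊥ : Subalgebra κ A) := by
    by_contra hcon
    push Not at hcon
    exact hne (eq_top_iff.mpr fun x _ => hcon x)
  have hfin : Module.Finite κ A := finite_of hbt x hx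
  refine ⟨hfin, ?_⟩
  have : IsArtinianRing A := IsArtinianRing.of_finite κ A
  by_cases h1 : ∃ ε : A, ε ≠ 0 ∧ ε * ε = 0
  · obtain ⟨ε, hε0, hε2⟩ := h1
    exact Or.inl (dual_case hbt ε hε0 hε2)
  by_cases h2 : ∃ e : A, e ≠ 0 ∧ e ≠ 1 ∧ e * e = e
  · obtain ⟨e, he0, he1, hee⟩ := h2
    exact Or.inr (Or.inl (prod_case hbt e he0 he1 hee))
  push Not at h1 h2
  have hA : IsField A := isField_of A (fun ε hε => by_contra fun h => h1 ε h hε) (fun e hee => by
    by_contra hcon
    rw [not_or] at hcon
    exact h2 e hcon.1 hcon.2 hee)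
  refine Or.inr (Or.inr ⟨hA, ?_⟩)
  exact @field_case κ A _ hA.toField ‹Algebra κ A› hfin hbt hne

end Groth.Agent.S15939
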