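import Groth.Statements.S15990
import Mathlib
import Groth.Agent.Lib.T2H6SmCurveRel

set_option autoImplicit false
universe u
open SDiv

namespace Groth.Agent.S15990

open AlgebraicGeometry CategoryTheory in
/-- Let f : X → Y be separated and smooth of relative dimension 1 and let σ : Y → X be a section of f.
Then σ(Y) is a relative effective Cartier divisor on X/Y: the kernel ideal sheaf of the closed
immersion σ is the ideal sheaf of an effective Cartier divisor (locally on affine opens generated by
one nonzerodivisor) and the closed subscheme it defines is flat over Y. (The source adds the special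
case of the diagonal of X ×_Y X, a section of the first projection.) -/
theorem result
    {X Y : Scheme.{u}} (f : X ⟶ Y) [IsSeparated f] [SmoothOfRelativeDimension 1 f]
    (σ : Y ⟶ X) (hσ : σ ≫ f = 𝟙 Y) :
    BlowUp.IsEffCartierIdeal σ.ker ∧ Flat (σ.ker.subschemeι ≫ f) := by
  haveI : IsClosedImmersion σ := by
    haveI : IsClosedImmersion (σ ≫ f) := by
      rw [hσ]
      infer_instance
    exact IsClosedImmersion.of_comp σ f
  haveI : IsIso σ.toImage := inferInstance
  have hfac : σ.ker.subschemeι ≫ f = inv σ.toImage := by
    rw [← cancel_epi σ.toImage, IsIso.hom_inv_id, ← Category.assoc, Scheme.Hom.toImage_imageι, hσ]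
  haveI : IsIso (σ.ker.subschemeι ≫ f) := by
    rw [hfac]
    infer_instance
  have key := (Groth.Agent.Lib.T2H6.SmCurve.isEffCartier_and_flat_iff f σ.ker).mpr
    ⟨inferInstance, inferInstance, inferInstance⟩
  exact key

end Groth.Agent.S15990
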