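import Groth.Statements.S16002
import Mathlib
import Groth.Agent.Lib.T2H6HiggsCurve
import Groth.Agent.Lib.T2H6CurveSmooth

set_option autoImplicit false
open CategoryTheory AlgebraicGeometry CategoryTheory.Limits
open VBCurve

namespace Groth.Agent.S16002

/-- Let X be a smooth proper integral curve over the complex numbers and (L_i)_{i ∈ ι} a family of
invertible O_X-modules. A tuple is a finite locally free O_X-module E of rank r ≥ 1 with maps φ_i :
E → E ⊗ L_i; a submodule j : G → E (a monomorphism) is invariant when for every i some χ : G → G ⊗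
L_i followed by j ⊗ L_i equals j followed by φ_i; the tuple is semistable when deg G · r ≤ deg E · n
for every invariant finite locally free submodule G of rank n ≥ 1, degrees being χ − rank · χ(O_X).
If (E, φ) and (F, ψ) are semistable tuples of ranks r ≥ 1 and s ≥ 1 over the same family (L_i) and f
: E → F is a nonzero module map with f followed by ψ_i equal to φ_i followed by f ⊗ L_i for every i,
then the slope of E is at most that of F: deg E · s ≤ deg F · r. (The published lemma has finitely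
many pairwise commuting twisting maps and morphisms compatible up to one nonzero scalar; the
commutation is not used, the index set is arbitrary here, and the scalar case reduces to this one by
rescaling the ψ_i.) -/
theorem result
    (X : Scheme.{0}) [X.Over (Spec (CommRingCat.of ℂ))] [IsIntegral X]
    [IsProper (X ↘ Spec (CommRingCat.of ℂ))] [Smooth (X ↘ Spec (CommRingCat.of ℂ))]
    (hdim : topologicalKrullDim X = 1)
    (ι : Type) (L : ι → X.Modules) (hL : ∀ i, PicF.IsInvertible (L i))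
    (r s : ℕ) (hr : 0 < r) (hs : 0 < s)
    (E F : X.Modules) (hE : FlatMod.IsFinLocFreeOfRank r E) (hF : FlatMod.IsFinLocFreeOfRank s F)
    (φ : ∀ i, E ⟶ CohB1.tensorMod E (L i)) (ψ : ∀ i, F ⟶ CohB1.tensorMod F (L i))
    (hEss : (∀ (G : X.Modules) (n : ℕ) (j : G ⟶ E), Mono j → 0 < n → FlatMod.IsFinLocFreeOfRank n G →
      (∀ i, ∃ χ : G ⟶ CohB1.tensorMod G (L i), χ ≫ (CohB1.sheafifyMod X).map (MonoidalCategoryStruct.whiskerRight (C := CohB1.PMod X) j.val (CohB1.toPMod (L i))) = j ≫ φ i) →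
      Curv2.deg ℂ X G n * (r : ℤ) ≤ Curv2.deg ℂ X E r * (n : ℤ)))
    (hFss : (∀ (G : X.Modules) (n : ℕ) (j : G ⟶ F), Mono j → 0 < n → FlatMod.IsFinLocFreeOfRank n G →
      (∀ i, ∃ χ : G ⟶ CohB1.tensorMod G (L i), χ ≫ (CohB1.sheafifyMod X).map (MonoidalCategoryStruct.whiskerRight (C := CohB1.PMod X) j.val (CohB1.toPMod (L i))) = j ≫ ψ i) →
      Curv2.deg ℂ X G n * (s : ℤ) ≤ Curv2.deg ℂ X F s * (n : ℤ)))
    (f : E ⟶ F) (hf : ∀ i, f ≫ ψ i = φ i ≫ (CohB1.sheafifyMod X).map (MonoidalCategoryStruct.whiskerRight (C := CohB1.PMod X) f.val (CohB1.toPMod (L i)))) (hne : f ≠ 0) :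
    Curv2.deg ℂ X E r * (s : ℤ) ≤ Curv2.deg ℂ X F s * (r : ℤ) := by
  have hreg := Groth.Agent.Lib.T2H6.CurveSmooth.isRegularLocalRing_stalk ℂ X
  obtain ⟨rK, rI, hK, hI, hrk, hrIs, hdeg⟩ :=
    Groth.Agent.Lib.T2H6.CurveVB.ker_im_data ℂ hdim hreg f r s hE hF
  have hinst : ∀ i, PreservesFiniteLimits (Groth.Agent.Lib.T2H5.Twist.tr (L i)) := fun i =>
    Groth.Agent.Lib.T2H5.Twist.preservesFiniteLimits_tr (hL i)
  have hinst' : ∀ i, PreservesFiniteColimits (Groth.Agent.Lib.T2H5.Twist.tr (L i)) := fun i =>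
    Groth.Agent.Lib.T2H5.Twist.preservesFiniteColimits_tr (L i)
  have hrI0 : 0 < rI := by
    rcases Nat.eq_zero_or_pos rI with h0 | h0
    · exfalso
      subst h0
      exact hne (Groth.Agent.Lib.T2H6.CurveSS.eq_zero_of_isZero_image f
        (Groth.Agent.Lib.T2H6.CurveVB.isZero_of_rank_zero _ hI))
    · exact h0
  have hIm := hFss (Abelian.image f) rI (Abelian.image.ι f) inferInstance hrI0 hI (fun i => by
    haveI := hinst i
    haveI := hinst' i
    exact Groth.Agent.Lib.T2H6.Higgs.exists_lift_image (Groth.Agent.Lib.T2H5.Twist.tr (L i)) f (φ i) (ψ i) (hf i))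
  have hrk' : (r : ℤ) = (rK : ℤ) + (rI : ℤ) := by exact_mod_cast hrk
  have hrI0' : (0 : ℤ) < (rI : ℤ) := by exact_mod_cast hrI0
  have hs0 : (0 : ℤ) < (s : ℤ) := by exact_mod_cast hs
  have hr0 : (0 : ℤ) < (r : ℤ) := by exact_mod_cast hr
  rcases Nat.eq_zero_or_pos rK with h0 | h0
  · subst h0
    rw [Groth.Agent.Lib.T2H6.CurveSS2.deg_eq_zero_of_rank_zero ℂ _ hK, zero_add] at hdeg
    have : r = rI := by omega
    subst this
    rw [hdeg]
    exact hIm
  · have hKer := hEss (kernel f) rK (kernel.ι f) inferInstance h0 hK (fun i => by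
      haveI := hinst i
      haveI := hinst' i
      exact Groth.Agent.Lib.T2H6.Higgs.exists_lift_kernel (Groth.Agent.Lib.T2H5.Twist.tr (L i)) f (φ i) (ψ i) (hf i))
    have hK0 : (0 : ℤ) < (rK : ℤ) := by exact_mod_cast h0
    -- deg E * rI ≤ deg I * r
    have h1 : Curv2.deg ℂ X E r * (rI : ℤ) ≤ Curv2.deg ℂ X (Abelian.image f) rI * (r : ℤ) := by
      rw [hdeg, hrk'] at hKer
      rw [hdeg, hrk']
      ring_nf at hKer ⊢
      linarith
    have h2 : Curv2.deg ℂ X E r * (s : ℤ) * (rI : ℤ) ≤ Curv2.deg ℂ X F s * (r : ℤ) * (rI : ℤ) := by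
      have a1 := mul_le_mul_of_nonneg_right h1 hs0.le
      have a2 := mul_le_mul_of_nonneg_right hIm hr0.le
      linarith
    exact le_of_mul_le_mul_right h2 hrI0'

end Groth.Agent.S16002
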