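import Groth.Statements.S16008
import Groth.Agent.Lib.T2H9VBSlopeTw

set_option autoImplicit false
set_option linter.style.haveILetI false
set_option linter.unusedVariables false
open CategoryTheory AlgebraicGeometry CategoryTheory.Limits
open VBCurve

namespace Groth.Agent.S16008

/-- Let X be a smooth proper integral curve over the complex numbers, of genus g = dim H¹(O_X), E a
finite locally free O_X-module of rank r ≥ 1 and C an integer such that every finite locally free
submodule G of E of rank n ≥ 1 satisfies deg G · r ≤ (deg E + r·C) · n, that is, μ(G) ≤ μ(E) + C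
(degrees being χ − rank · χ(O_X)). Then H¹(X, E ⊗ N) vanishes for every invertible module N with deg
E + r · deg N > r(r − 1)·C + r(2g − 2), that is, whenever μ(E) + deg N > (r − 1)C + 2g − 2. (Only
the degree of the twisting line bundle enters, so any invertible N replaces the twist O_X(m). The
published argument, written for the twists E(m) by a degree-one polarisation, prints the threshold
as m ≥ μ(E) + (r − 1)C + 2g − 1; for E = O(−1) on the projective line and m = −2 that threshold is
met while H¹(O(−3)) ≠ 0. The degree count in the argument gives the threshold −μ(E) + (r − 1)C + 2g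
− 2 < m stated here.) -/
theorem result
    (X : Scheme.{0}) [X.Over (Spec (CommRingCat.of ℂ))] [IsIntegral X]
    [IsProper (X ↘ Spec (CommRingCat.of ℂ))] [Smooth (X ↘ Spec (CommRingCat.of ℂ))]
    (hdim : topologicalKrullDim X = 1)
    (r : ℕ) (hr : 0 < r) (E : X.Modules) (hE : FlatMod.IsFinLocFreeOfRank r E) (C : ℤ)
    (hC : ∀ (G : X.Modules) (n : ℕ) (j : G ⟶ E), Mono j → 0 < n → FlatMod.IsFinLocFreeOfRank n G →
      Curv2.deg ℂ X G n * (r : ℤ) ≤ (Curv2.deg ℂ X E r + (r : ℤ) * C) * (n : ℤ))
    (N : X.Modules) (hN : PicF.IsInvertible N)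
    (hbig : (r : ℤ) * ((r : ℤ) - 1) * C + (r : ℤ) * (2 * (Curv2.genus ℂ X : ℤ) - 2) <
      Curv2.deg ℂ X E r + (r : ℤ) * Curv2.deg ℂ X N 1) :
    Subsingleton (Coh.HH X (CohB1.tensorMod E N) 1) := by
  have hreg := fun x => Groth.Agent.Lib.T2H6.CurveSmooth.isRegularLocalRing_stalk ℂ X x
  have h0 := Groth.Agent.Lib.T2H6.PosI.finrank_HH_zero_structureModule ℂ X
  by_contra hns
  rw [not_subsingleton_iff_nontrivial] at hns
  obtain ⟨rK, K, i, hrk, hi, hK, hle⟩ :=
    Groth.Agent.Lib.T2H9.VBSlopeTw.exists_sub_of_h1_tensor ℂ hdim hreg h0 r E hE N hN hns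
  subst hrk
  by_cases hrK : rK = 0
  · subst hrK
    have hz := Groth.Agent.Lib.T2H6.CurveVB.isZero_of_rank_zero K hK
    have hdK : Curv2.deg ℂ X K 0 = 0 := by
      unfold Curv2.deg
      rw [Groth.Agent.Lib.T2H6.CurveSS2.euler_eq_zero_of_isZero ℂ K hz]
      simp
    rw [hdK] at hle
    push_cast at hbig
    linarith
  · have h := hC K rK i hi (Nat.pos_of_ne_zero hrK) hK
    push_cast at h hbig
    have hr0 : (0 : ℤ) ≤ (rK : ℤ) + 1 := by positivity
    have h2 := mul_le_mul_of_nonneg_left hle hr0
    push_cast at h2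
    nlinarith

end Groth.Agent.S16008
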