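import Groth.Statements.S16085
import Groth.Agent.Lib.T2H3Ref1Group

set_option autoImplicit false
set_option linter.style.haveILetI false
universe u
open CategoryTheory CategoryTheory.Limits AlgebraicGeometry TopologicalSpace
open SDiv

namespace Groth.Agent.S16085

/-- Let X be an integral locally Noetherian normal scheme. Sending (F, G) to the reflexive hull (F
⊗_{O_X} G)^** makes the isomorphism classes of rank one coherent reflexive O_X-modules into an
abelian group: on that set there are a commutative and associative composition law, a neutral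
element and inverses, such that the product of the classes of F and G is the class of the reflexive
hull of F ⊗_{O_X} G, the neutral element is the class of O_X, and the inverse of the class of F is
the class of its dual 𝓗om_{O_X}(F, O_X). -/
theorem result (X : Scheme.{u}) [IsIntegral X] [IsLocallyNoetherian X] (hX : Pi1.IsNormalScheme X) :
    ∃ (mul : {c : PicF.Cl X // ∃ F : X.Modules, PicF.cl F = c ∧ RefHull.IsRef1 F} →
          {c : PicF.Cl X // ∃ F : X.Modules, PicF.cl F = c ∧ RefHull.IsRef1 F} →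
            {c : PicF.Cl X // ∃ F : X.Modules, PicF.cl F = c ∧ RefHull.IsRef1 F})
      (one : {c : PicF.Cl X // ∃ F : X.Modules, PicF.cl F = c ∧ RefHull.IsRef1 F})
      (inv : {c : PicF.Cl X // ∃ F : X.Modules, PicF.cl F = c ∧ RefHull.IsRef1 F} →
          {c : PicF.Cl X // ∃ F : X.Modules, PicF.cl F = c ∧ RefHull.IsRef1 F}),
      (∀ a b, mul a b = mul b a) ∧ (∀ a b c, mul (mul a b) c = mul a (mul b c)) ∧ (∀ a, mul one a = a) ∧
        (∀ a, mul (inv a) a = one) ∧
        (∀ (F G : X.Modules) (hF : RefHull.IsRef1 F) (hG : RefHull.IsRef1 G),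
          (mul ⟨PicF.cl F, F, rfl, hF⟩ ⟨PicF.cl G, G, rfl, hG⟩).1 = PicF.cl (RefHull.ddual (CohB1.tensorMod F G))) ∧
        one.1 = PicF.cl (Coh.structureModule X) ∧
        (∀ (F : X.Modules) (hF : RefHull.IsRef1 F), (inv ⟨PicF.cl F, F, rfl, hF⟩).1 = PicF.cl (RefHull.dual F)) := by
  classical
  have hO : RefHull.IsRef1 (Coh.structureModule X) :=
    Groth.Agent.Lib.T2H3.Ref1Closure.isRef1_structureModule
  -- the inverse on all classes: the class of the dual
  let invCl : PicF.Cl X → PicF.Cl X :=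
    Quot.lift (fun F => PicF.cl (RefHull.dual F)) (by
      rintro F F' ⟨e⟩
      exact Quot.sound ⟨RefFun.homComapIso e _⟩)
  have hmulmem : ∀ a b : {c : PicF.Cl X // ∃ F : X.Modules, PicF.cl F = c ∧ RefHull.IsRef1 F},
      ∃ F : X.Modules, PicF.cl F = RefFun.refMulCl a.1 b.1 ∧ RefHull.IsRef1 F := by
    rintro ⟨_, F, rfl, hF⟩ ⟨_, G, rfl, hG⟩
    exact ⟨_, rfl, Groth.Agent.Lib.T2H3.Ref1Closure.isRef1_refTensor F G hF hG⟩
  have hinvmem : ∀ a : {c : PicF.Cl X // ∃ F : X.Modules, PicF.cl F = c ∧ RefHull.IsRef1 F},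
      ∃ F : X.Modules, PicF.cl F = invCl a.1 ∧ RefHull.IsRef1 F := by
    rintro ⟨_, F, rfl, hF⟩
    exact ⟨_, rfl, Groth.Agent.Lib.T2H3.Ref1Closure.isRef1_dual F hF⟩
  refine ⟨fun a b => ⟨RefFun.refMulCl a.1 b.1, hmulmem a b⟩,
    ⟨PicF.cl (Coh.structureModule X), _, rfl, hO⟩,
    fun a => ⟨invCl a.1, hinvmem a⟩, ?_, ?_, ?_, ?_, ?_, rfl, ?_⟩
  · rintro ⟨_, F, rfl, hF⟩ ⟨_, G, rfl, hG⟩
    apply Subtype.ext
    exact Quot.sound (Groth.Agent.Lib.T2H3.Ref1Group.refTensor_comm hX F G hF hG)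
  · rintro ⟨_, F, rfl, hF⟩ ⟨_, G, rfl, hG⟩ ⟨_, H, rfl, hH⟩
    apply Subtype.ext
    exact Quot.sound (Groth.Agent.Lib.T2H3.Ref1Group.refTensor_assoc hX F G H hF hG hH)
  · rintro ⟨_, F, rfl, hF⟩
    apply Subtype.ext
    exact Quot.sound (Groth.Agent.Lib.T2H3.Ref1Group.refTensor_unit hX F hF)
  · rintro ⟨_, F, rfl, hF⟩
    apply Subtype.ext
    exact Quot.sound (Groth.Agent.Lib.T2H3.Ref1Group.refTensor_dual hX F hF)
  · intro F G hF hG
    rfl
  · intro F hF
    rfl

end Groth.Agent.S16085
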