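import Groth.Statements.S16086
import Groth.Agent.Lib.T2H4Ref1Iso

set_option autoImplicit false
universe u
open CategoryTheory CategoryTheory.Limits AlgebraicGeometry TopologicalSpace
open SDiv

namespace Groth.Agent.S16086

/-- The class map is well defined and injective: fix a scheme X that is integral, normal and locally
Noetherian, and write η for its generic point; suppose F and G are rank one coherent reflexive
O_X-modules and let s ∈ F_η and t ∈ G_η be nonzero rational sections. At a point x of codimension 1
the stalks F_x, G_x are free of rank one over the discrete valuation ring O_{X,x}, so s and t have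
orders ord_{x,F}(s), ord_{x,G}(t). Then F ≅ G if and only if the Weil divisors of s and t are
linearly equivalent: for some nonzero rational function f one has ord_{x,F}(s) = ord_{x,G}(t) +
ord_x(f) at every point x of codimension 1. -/
theorem result (X : Scheme.{u}) [IsIntegral X] [IsLocallyNoetherian X]
    (hX : Pi1.IsNormalScheme X) (F G : X.Modules) (hF : RefHull.IsRef1 F) (hG : RefHull.IsRef1 G)
    (s : Cyc.secFibre F (genericPoint ↥X)) (hs : s ≠ 0) (t : Cyc.secFibre G (genericPoint ↥X)) (ht : t ≠ 0) :
    Nonempty (F ≅ G) ↔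
      ∃ f : ↑X.functionField, f ≠ 0 ∧
        ∀ (x : ↥X), Order.coheight x = 1 →
          Cyc.secOrdAt F (genericPoint ↥X) x ((genericPoint_spec ↥X).specializes (Set.mem_univ x)) s =
            Cyc.secOrdAt G (genericPoint ↥X) x ((genericPoint_spec ↥X).specializes (Set.mem_univ x)) t +
              Scheme.ord f x := by
  obtain ⟨s₀, rfl⟩ := Submodule.Quotient.mk_surjective _ s
  obtain ⟨t₀, rfl⟩ := Submodule.Quotient.mk_surjective _ t
  have hs₀ : s₀ ≠ 0 := by
    rintro rfl
    exact hs rfl
  have ht₀ : t₀ ≠ 0 := by
    rintro rfl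
    exact ht rfl
  constructor
  · rintro ⟨e⟩
    obtain ⟨f, hf, h⟩ := Groth.Agent.Lib.T2H4.Ref1Iso.exists_ord_of_iso hX F G hF hG e s₀ hs₀ t₀ ht₀
    exact ⟨f, hf, fun x hx => h x hx⟩
  · rintro ⟨f, hf, h⟩
    exact Groth.Agent.Lib.T2H4.Ref1Iso.nonempty_iso_of_ord hX F G hF hG s₀ hs₀ t₀ ht₀ f hf
      (fun x hx => h x hx)

end Groth.Agent.S16086
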