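import Groth.Statements.S16124
import Groth.Agent.Lib.T2H7GQuotA
import Groth.Agent.Lib.Helper23SecTw9

set_option autoImplicit false
universe u
open CategoryTheory MonoidalCategory CartesianMonoidalCategory MonObj GrpObj AlgebraicGeometry CategoryTheory.Limits
open AlgGrp

namespace Groth.Agent.S16124

/-- Over an algebraically closed field k, let X be a quasi-projective variety (a reduced separated
k-scheme, quasi-projective over k) with an action of a finite group Γ by k-automorphisms. Then X is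
covered by Γ-stable affine open subschemes: every point x of X lies in an affine open U with σ⁻¹(U)
= U for every σ in Γ. -/
theorem result (k : Type u) [Field k] [IsAlgClosed k]
    (X : Over (Spec (CommRingCat.of k))) [IsReduced X.left] [IsSeparated X.hom] (hX : RelProj.IsQuasiProjective X.hom)
    (Γgrp : Type u) [Group Γgrp] [Finite Γgrp] (ρ : Γgrp →* Aut X.left)
    (hρ : ∀ σ : Γgrp, (ρ σ).hom ≫ X.hom = X.hom) (x : ↥X.left) :
    ∃ U : X.left.Opens, x ∈ U ∧ IsAffineOpen U ∧ ∀ σ : Γgrp, (ρ σ).hom ⁻¹ᵁ U = U := by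
  obtain ⟨-, -, L, hL⟩ := hX
  have hL' := hL.2 ⟨⊤, isAffineOpen_top _⟩
  set W₀ : X.left.Opens := X.hom ⁻¹ᵁ (⊤ : (Spec (CommRingCat.of k)).Opens) with hW₀
  have : CompactSpace ↥(W₀ : Scheme.{u}) := hL'.2.1
  have hmemW₀ : ∀ y : X.left, y ∈ W₀ := fun _ => trivial
  let Z : Set X.left := Set.range fun σ : Γgrp => (ρ σ).hom x
  have hZ : Z.Finite := Set.finite_range _
  have hZ' : (W₀.ι ⁻¹' Z).Finite := hZ.preimage W₀.ι.isOpenEmbedding.injective.injOn
  obtain ⟨n, s, hZs, -, haff⟩ :=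
    Groth.Agent.Lib.Helper23.SecTw.exists_affine_genLocus_of_finite _ hL' (W₀.ι ⁻¹' Z) hZ' ⊤
      (fun _ _ => trivial)
  have hU₀ : IsAffineOpen (W₀.ι ''ᵁ (CohB1.genLocus _ s)) := haff.image_of_isOpenImmersion _
  have horb : ∀ σ : Γgrp, (ρ σ).hom x ∈ W₀.ι ''ᵁ (CohB1.genLocus _ s) := by
    intro σ
    refine ⟨⟨(ρ σ).hom x, hmemW₀ _⟩, hZs ?_, rfl⟩
    exact ⟨σ, rfl⟩
  obtain ⟨W, hWinv, hWaff, hxW⟩ :=
    Groth.Agent.Lib.T2H7.GQuotA.exists_invariant_affine ρ x _ hU₀ horb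
  exact ⟨W, hxW, hWaff, fun σ => hWinv.preimage_eq σ⟩

end Groth.Agent.S16124
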