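import Groth.Statements.S16137
import Mathlib
import Groth.Agent.Lib.T2H6CurveSS
import Groth.Agent.Lib.T2H6CurveSmooth

set_option autoImplicit false
universe u
open CategoryTheory CategoryTheory.Limits AlgebraicGeometry
open VBCurve

namespace Groth.Agent.S16137

/-- Let k be an algebraically closed field of characteristic zero and X a smooth proper geometrically
connected curve over k (topological dimension one) of genus at least 2 (the text's standing setting:
a smooth projective complex curve of genus at least 2). Let 0 → F → E → G → 0 be a short exact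
sequence of O_X-modules in which E is finite locally free of rank r ≥ 1 and slope-stable (deg F' · r
< deg E · r' for every finite locally free submodule F' of E of rank r' with 0 < r' < r). Then
Hom(G, F) = 0: every morphism from the quotient G to the submodule F is zero. (The published
statement writes the conclusion as h^0(G^* ⊗ F) = 0.) -/
theorem result (k : Type u) [Field k] [IsAlgClosed k] [CharZero k]
    (X : Scheme.{u}) [X.Over (Spec (CommRingCat.of k))]
    [IsProper (X ↘ Spec (CommRingCat.of k))] [Smooth (X ↘ Spec (CommRingCat.of k))]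
    [GeometricallyConnected (X ↘ Spec (CommRingCat.of k))] (hdim : topologicalKrullDim ↥X = 1)
    (hg : 2 ≤ Curv2.genus k X)
    (T : ShortComplex X.Modules) (hT : T.ShortExact)
    (r : ℕ) (hr : 0 < r) (hE : FlatMod.IsFinLocFreeOfRank r T.X₂)
    (hst : ModFun.IsSlopeStable k X T.X₂ r)
    (φ : T.X₃ ⟶ T.X₁) : φ = 0 := by
  haveI : IsIntegral X := Groth.Agent.Lib.T2H6.CurveSmooth.isIntegral_of_geometricallyConnected k X
  have hreg := Groth.Agent.Lib.T2H6.CurveSmooth.isRegularLocalRing_stalk k X
  haveI := hT.mono_f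
  haveI := hT.epi_g
  by_contra hφ
  have hψ : T.g ≫ φ ≫ T.f ≠ 0 := by
    intro h
    apply hφ
    have h1 : φ ≫ T.f = 0 := by
      rw [← cancel_epi T.g, h, comp_zero]
    rw [← cancel_mono T.f, h1, zero_comp]
  haveI := Groth.Agent.Lib.T2H6.CurveSS.isIso_of_stable k hdim hreg r r hr hr T.X₂ T.X₂ hE hE hst hst rfl
    (T.g ≫ φ ≫ T.f) hψ
  have hsq : (T.g ≫ φ ≫ T.f) ≫ (T.g ≫ φ ≫ T.f) = 0 := by
    simp only [Category.assoc]
    rw [T.zero_assoc]
    simp
  apply hψ
  calc T.g ≫ φ ≫ T.f = inv (T.g ≫ φ ≫ T.f) ≫ ((T.g ≫ φ ≫ T.f) ≫ (T.g ≫ φ ≫ T.f)) := by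
        rw [IsIso.inv_hom_id_assoc]
    _ = 0 := by rw [hsq, comp_zero]

end Groth.Agent.S16137
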