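import Groth.Statements.S16162
import Mathlib

set_option autoImplicit false
open CategoryTheory MonoidalCategory CartesianMonoidalCategory MonObj GrpObj AlgebraicGeometry
universe u
open MadRed

namespace Groth.Agent.S16162

/-- Let S be a scheme, G a group scheme over S, and X an S-scheme with an action of G making X → S a
principal G-bundle (a torsor in the representable fppf sense: X → S surjective, flat and locally of
finite presentation, and G ×_S X → X ×_S X, (g, x) ↦ (g·x, x), an isomorphism). Let P be a closed
subset of X stable under the action: the action map sends into P every point of G ×_S X whose second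
projection lies in P. Then the image of P in S is closed, and P is the full preimage of its image.
(The source works with varieties over the complex numbers and an affine algebraic group; the
assertion holds over any base. Its second assertion, that P → image is again a principal bundle for
the induced reduced structures, then comes from base change and is not part of this row.) -/
theorem result {S : Scheme.{u}}
    {G X : Over S} [GrpObj G] (a : AlgGrp.Action G X) (ha : RedSub.IsTorsor a)
    (P : Set X.left) (hP : IsClosed P)
    (hstab : ∀ w : (G ⊗ X).left, (snd G X).left.base w ∈ P → a.act.left.base w ∈ P) :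
    IsClosed (X.hom.base '' P) ∧ X.hom.base ⁻¹' (X.hom.base '' P) = P := by
  obtain ⟨hsurj, hflat, hlfp, hiso⟩ := ha
  haveI := hflat
  haveI := hlfp
  haveI := hiso
  have hsat : X.hom.base ⁻¹' (X.hom.base '' P) = P := by
    apply Set.Subset.antisymm
    · rintro x' ⟨x, hxP, hxx'⟩
      have hfst : (fst X X).left = Limits.pullback.fst X.hom X.hom := rfl
      have hsnd : (snd X X).left = Limits.pullback.snd X.hom X.hom := rfl
      obtain ⟨z, hz1, hz2⟩ := Scheme.Pullback.exists_preimage_pullback (f := X.hom) (g := X.hom)
        x' x hxx'.symm
      haveI : IsIso (lift a.act (snd G X)).left := by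
        have : (lift a.act (snd G X)).left = (Over.forget S).map (lift a.act (snd G X)) := rfl
        rw [this]; exact Functor.map_isIso (Over.forget S) _
      obtain ⟨w, hw⟩ := (lift a.act (snd G X)).left.surjective z
      have e1 : a.act.left w = x' := by
        have : a.act.left = (lift a.act (snd G X)).left ≫ (fst X X).left := by
          rw [← Over.comp_left, lift_fst]
        rw [this, Scheme.Hom.comp_apply, hw, hfst]
        exact hz1
      have e2 : (snd G X).left w = x := by
        have : (snd G X).left = (lift a.act (snd G X)).left ≫ (snd X X).left := by
          rw [← Over.comp_left, lift_snd]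
        rw [this, Scheme.Hom.comp_apply, hw, hsnd]
        exact hz2
      have := hstab w (by rw [e2]; exact hxP)
      change a.act.left w ∈ P at this
      rwa [e1] at this
    · intro x hx
      exact ⟨x, hx, rfl⟩
  refine ⟨?_, hsat⟩
  have hopen : IsOpenMap X.hom.base := X.hom.isOpenMap
  have hcompl : (X.hom.base '' P)ᶜ = X.hom.base '' Pᶜ := by
    ext y
    constructor
    · intro hy
      obtain ⟨x, rfl⟩ := hsurj.surj y
      refine ⟨x, fun hxP => hy ⟨x, hxP, rfl⟩, rfl⟩
    · rintro ⟨x, hxP, rfl⟩ hy
      apply hxP
      rw [← hsat]
      exact hy
  rw [← isOpen_compl_iff, hcompl]
  exact hopen _ hP.isOpen_compl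

end Groth.Agent.S16162
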