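import Groth.Statements.S16212
import Groth.Agent.Lib.T2H7FinFixB
import Groth.Agent.Lib.T2H7FixSmG

set_option autoImplicit false
universe u v
open CategoryTheory AlgebraicGeometry
open AlgGrp

namespace Groth.Agent.S16212

/-- Let S be a scheme, X an S-scheme that is smooth, separated and of finite presentation over S, and G
a finite group whose order is invertible on S (a unit among the global functions of S) acting on X
by S-automorphisms. Then the scheme of G-fixed points of X, namely any S-scheme Z with an S-morphism
ι to X that is itself fixed by every element of G (ι followed by the automorphism of each g equals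
ι) and such that an S-morphism T → X is fixed by every element of G exactly when it factors through
ι, and then uniquely, is a closed subscheme of X (ι is a closed immersion) which is smooth and of
finite presentation over S (smooth, quasi-compact and quasi-separated). The published statement
assumes X only smooth and of finite presentation over S; this row also assumes X separated over S. -/
theorem result (S : Scheme.{u})
    (X : Over S) [Smooth X.hom] [QuasiCompact X.hom] [IsSeparated X.hom]
    (G : Type v) [Group G] [Finite G] (ρ : G →* Aut X)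
    (hG : IsUnit (Nat.card G : Γ(S, ⊤)))
    (Z : Over S) (ι : Z ⟶ X) (hι : ∀ g : G, ι ≫ (ρ g).hom = ι)
    (hZ : ∀ (T : Over S) (t : T ⟶ X), (∀ g : G, t ≫ (ρ g).hom = t) ↔ ∃! t' : T ⟶ Z, t' ≫ ι = t) :
    IsClosedImmersion ι.left ∧ Smooth Z.hom ∧ QuasiCompact Z.hom ∧ QuasiSeparated Z.hom := by
  have hσ : ∀ g h : G, (ρ (g * h)).hom = (ρ h).hom ≫ (ρ g).hom := by
    intro g h
    rw [map_mul]
    rfl
  have hXfp : LocallyOfFinitePresentation X.hom := inferInstance
  have hXft : LocallyOfFiniteType X.hom := inferInstance
  -- `ι` is a monomorphism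
  have hmono : Mono ι := by
    refine ⟨fun {T} a b hab => ?_⟩
    have hfix : ∀ g : G, (a ≫ ι) ≫ (ρ g).hom = a ≫ ι := by
      intro g
      rw [Category.assoc, hι g]
    obtain ⟨t', -, huniq⟩ := (hZ T (a ≫ ι)).1 hfix
    rw [huniq a rfl, huniq b hab.symm]
  have hZ1 : ∀ (T : Over S) (t : T ⟶ X), (∃ t' : T ⟶ Z, t' ≫ ι = t) ↔
      ∀ g : G, t ≫ (ρ g).hom = t := by
    intro T t
    constructor
    · rintro ⟨t', rfl⟩ g
      rw [Category.assoc, hι g]
    · intro h
      exact ((hZ T t).1 h).exists
  obtain ⟨C, c, hc, hcfp, hC⟩ :=
    Groth.Agent.Lib.T2H7.FinFixB.exists_closed_finFix (G := G) (fun g => (ρ g).hom)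
  have hcmono : Mono c := by
    have : Mono c.left := by
      have := hc
      infer_instance
    have : Mono ((Over.forget S).map c) := this
    exact (Over.forget S).mono_of_mono_map inferInstance
  have hcl : IsClosedImmersion ι.left :=
    Groth.Agent.Lib.T2H7.FinFixB.isClosedImmersion_of_rep_eq ι c
      (fun T t => ∀ g : G, t ≫ (ρ g).hom = t) hZ1 hC hc
  have hCfp : LocallyOfFinitePresentation C.hom := by
    have h3 : c.left ≫ X.hom = C.hom := Over.w c
    rw [← h3]
    have := hcfp
    infer_instance
  have hZfp : LocallyOfFinitePresentation Z.hom :=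
    Groth.Agent.Lib.T2H7.FixSmG.lfp_of_rep_eq ι c
      (fun T t => ∀ g : G, t ≫ (ρ g).hom = t) hZ1 hC hCfp
  have hsm : Smooth Z.hom :=
    Groth.Agent.Lib.T2H7.FinFixB.smooth_finFix (fun g => (ρ g).hom) hσ inferInstance ι hcl hZfp hι
      (fun T t h => (hZ1 T t).2 h) hG
  have hw : ι.left ≫ X.hom = Z.hom := Over.w ι
  refine ⟨hcl, hsm, ?_, ?_⟩
  · rw [← hw]
    infer_instance
  · rw [← hw]
    infer_instance

end Groth.Agent.S16212
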