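import Groth.Statements.S1622
import Groth.Agent.Lib.T2H7BlowRLR

set_option autoImplicit false
universe u
open CategoryTheory CategoryTheory.Limits AlgebraicGeometry
open Resolve

namespace Groth.Agent.S1622

/-- Let A be a regular local ring of dimension two and b : X → Spec A a blowing up of Spec A in the
maximal ideal (characterised by its universal property). Then X is irreducible and all of its local
rings are regular. -/
theorem result (A : Type u) [CommRing A] [IsRegularLocalRing A] (hA : ringKrullDim A = 2)
    (X : Scheme.{u}) (b : X ⟶ Spec (CommRingCat.of A)) (hb : BlowUp.IsBlowUp b (Curv2.idealSheaf A (IsLocalRing.maximalIdeal A))) :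
    IrreducibleSpace X ∧ ∀ x : X, IsRegularLocalRing (X.presheaf.stalk x) := by
  have hd : ringKrullDim A = ((2 : ℕ) : WithBot ℕ∞) := by rw [hA]; rfl
  exact ⟨Groth.Agent.Lib.T2H7.BlowRLR.irreducibleSpace_of_isBlowUp A 2 hd (by norm_num) X b hb,
    fun x => Groth.Agent.Lib.T2H7.BlowRLR.isRegularLocalRing_stalk A 2 hd X b hb x⟩

end Groth.Agent.S1622
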