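import Groth.Statements.S16221
import Groth.Agent.Lib.T2H2DieuProj

set_option autoImplicit false
universe u v
open Disp

namespace Groth.Agent.S16221

theorem aux_mk_smul {W : Type*} [CommRing W] (I : Ideal W) {M : Type*} [AddCommGroup M] [Module W M]
    (w : W) (t : M ⧸ (I • (⊤ : Submodule W M))) : (Ideal.Quotient.mk I w) • t = w • t := by
  have : (Ideal.Quotient.mk I w) = w • (1 : W ⧸ I) := by rw [Algebra.smul_def, mul_one]; rfl
  rw [this, smul_assoc, one_smul]

/-- reduction modulo `I ⊇ J` of a finite projective `W/J`-module is projective over `W/I` -/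
theorem aux_projective_mod {W : Type*} [CommRing W] (J I : Ideal W) (hJI : J ≤ I) (M : Type*)
    [AddCommGroup M] [Module W M] [Module (W ⧸ J) M] [IsScalarTower W (W ⧸ J) M]
    [Module.Finite (W ⧸ J) M] [Module.Projective (W ⧸ J) M] :
    Module.Projective (W ⧸ I) (M ⧸ (I • (⊤ : Submodule W M))) := by
  classical
  obtain ⟨r, f, g, -, -, hfg⟩ := Module.Finite.exists_comp_eq_id_of_projective (W ⧸ J) M
  let τ : (W ⧸ J) →ₗ[W] (W ⧸ I) := (Ideal.Quotient.factorₐ W hJI).toLinearMap
  let i₀ : M →ₗ[W] (Fin r → W ⧸ I) :=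
    (LinearMap.pi fun j => τ ∘ₗ (LinearMap.proj (R := W) (φ := fun _ : Fin r => W ⧸ J) j)) ∘ₗ
      (g.restrictScalars W)
  have hker : I • (⊤ : Submodule W M) ≤ LinearMap.ker i₀ := by
    rw [Submodule.smul_le]
    intro a ha m _
    rw [LinearMap.mem_ker, map_smul]
    funext j
    rw [Pi.smul_apply, Pi.zero_apply, Algebra.smul_def]
    have : algebraMap W (W ⧸ I) a = 0 := Ideal.Quotient.eq_zero_iff_mem.mpr ha
    rw [this, zero_mul]
  let i₁ : (M ⧸ (I • (⊤ : Submodule W M))) →ₗ[W] (Fin r → W ⧸ I) :=
    (I • (⊤ : Submodule W M)).liftQ i₀ hker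
  let i : (M ⧸ (I • (⊤ : Submodule W M))) →ₗ[W ⧸ I] (Fin r → W ⧸ I) :=
    LinearMap.extendScalarsOfSurjective (Ideal.Quotient.mk_surjective (I := I)) i₁
  let s : (Fin r → W ⧸ I) →ₗ[W ⧸ I] (M ⧸ (I • (⊤ : Submodule W M))) :=
    Fintype.linearCombination (W ⧸ I)
      (fun j => (I • (⊤ : Submodule W M)).mkQ (f (Pi.single j 1)))
  apply Module.Projective.of_split i s
  apply LinearMap.ext
  intro t
  obtain ⟨m, rfl⟩ := Submodule.mkQ_surjective _ t
  have hw : ∀ j, ∃ w : W, Ideal.Quotient.mk J w = g m j := fun j => Ideal.Quotient.mk_surjective _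
  choose w hw using hw
  have hi : ∀ j, i ((I • (⊤ : Submodule W M)).mkQ m) j = Ideal.Quotient.mk I (w j) := by
    intro j
    change τ (g m j) = _
    rw [← hw j]
    rfl
  rw [LinearMap.comp_apply, LinearMap.id_apply]
  change Fintype.linearCombination (W ⧸ I) _ _ = _
  rw [Fintype.linearCombination_apply]
  have hterm : ∀ j, i ((I • (⊤ : Submodule W M)).mkQ m) j •
      (I • (⊤ : Submodule W M)).mkQ (f (Pi.single j 1)) =
      (I • (⊤ : Submodule W M)).mkQ (f (Pi.single j (g m j))) := by
    intro j
    rw [hi j, aux_mk_smul, ← map_smul, ← algebraMap_smul (W ⧸ J) (w j) (f (Pi.single j 1)),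
      ← map_smul]
    congr 2
    funext l
    rw [Pi.smul_apply]
    by_cases hl : l = j
    · subst hl
      rw [Pi.single_eq_same, Pi.single_eq_same, smul_eq_mul, mul_one, ← hw l]
      rfl
    · rw [Pi.single_eq_of_ne hl, Pi.single_eq_of_ne hl, smul_zero]
  rw [Finset.sum_congr rfl (fun j _ => hterm j), ← map_sum, ← map_sum]
  congr 1
  have h1 : (∑ j, Pi.single j (g m j) : Fin r → W ⧸ J) = g m := Finset.univ_sum_single (g m)
  rw [h1]
  exact LinearMap.congr_fun hfg m


/-- Let p be a prime and k a perfect ring of characteristic p, so that the Frobenius σ of W = W(k) is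
bijective, W has no p-torsion and W/p^n W = W_n(k) (the ideal p^n W is the kernel of the truncation
to length n). Let n ≥ 2 and let M be a truncated Dieudonné module of level n over k: a W-module on
which W acts through W/p^n W, finitely generated and projective over W/p^n W, with a σ-semilinear F
: M → M and a σ⁻¹-semilinear V : M → M such that FV = VF = p. Then M/VM is a projective k-module;
here VM ⊇ VFM = pM, and the statement is made for the W/pW-module obtained from M/pM by dividing out
the image of V, W/pW being identified with k by the first Witt component. -/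
theorem result (p : ℕ) [Fact p.Prime] (k : Type u) [CommRing k]
    [CharP k p] [PerfectRing k p] (n : ℕ) (hn : 2 ≤ n)
    (M : Type v) [AddCommGroup M] [Module (WittVector p k) M]
    [Module (WittVector p k ⧸ Ideal.span {(p : WittVector p k) ^ n}) M] [IsScalarTower (WittVector p k) (WittVector p k ⧸ Ideal.span {(p : WittVector p k) ^ n}) M]
    [Module.Finite (WittVector p k ⧸ Ideal.span {(p : WittVector p k) ^ n}) M] [Module.Projective (WittVector p k ⧸ Ideal.span {(p : WittVector p k) ^ n}) M]
    (F : M →ₛₗ[(WittVector.frobenius : WittVector p k →+* WittVector p k)] M)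
    (V : M →ₛₗ[((WittVector.frobeniusEquiv p k).symm : WittVector p k →+* WittVector p k)] M)
    (hFV : ∀ m : M, F (V m) = (p : WittVector p k) • m) (hVF : ∀ m : M, V (F m) = (p : WittVector p k) • m) :
    Module.Projective (WittVector p k ⧸ Ideal.span {(p : WittVector p k)})
      ((M ⧸ (Ideal.span {(p : WittVector p k)} • (⊤ : Submodule (WittVector p k) M))) ⧸
        Submodule.span (WittVector p k ⧸ Ideal.span {(p : WittVector p k)})
          (Set.range fun m : M => (Ideal.span {(p : WittVector p k)} • (⊤ : Submodule (WittVector p k) M)).mkQ (V m))) := by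
  have hfinW : Module.Finite (WittVector p k) M :=
    Module.Finite.trans (WittVector p k ⧸ Ideal.span {(p : WittVector p k) ^ n}) M
  have hJI : Ideal.span {(p : WittVector p k) ^ n} ≤ Ideal.span {(p : WittVector p k)} := by
    rw [Ideal.span_singleton_le_iff_mem]
    have : (p : WittVector p k) ^ n = (p : WittVector p k) ^ (n - 1) * (p : WittVector p k) := by
      rw [← pow_succ, Nat.sub_add_cancel (by omega)]
    rw [this]
    exact Ideal.mul_mem_left _ _ (Ideal.mem_span_singleton_self _)
  have hproj : Module.Projective (WittVector p k ⧸ Ideal.span {(p : WittVector p k)})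
      (M ⧸ (Ideal.span {(p : WittVector p k)} • (⊤ : Submodule (WittVector p k) M))) :=
    aux_projective_mod _ _ hJI M
  obtain ⟨r, f, g, -, -, hfg⟩ := Module.Finite.exists_comp_eq_id_of_projective
    (WittVector p k ⧸ Ideal.span {(p : WittVector p k) ^ n}) M
  exact Groth.Agent.Lib.T2H2.DieuProj.projective_quotient_imV V F hFV hVF
    (fun I hI => Groth.Agent.Lib.T2H2.DieuProj.TF_of_retract _ I
      (g.restrictScalars (WittVector p k)) (f.restrictScalars (WittVector p k))
      (fun m => LinearMap.congr_fun hfg m)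
      (Groth.Agent.Lib.T2H2.DieuProj.TF_pi _ I r
        (Groth.Agent.Lib.T2H2.DieuProj.TF_quotient_pow _ I hI n hn)))

end Groth.Agent.S16221
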