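import Groth.Statements.S16225
import Mathlib

set_option autoImplicit false
open scoped TensorProduct
universe u v
open CAlg

namespace Groth.Agent.S16225

/-- Let p be a prime, n a natural number and R → R' a faithfully flat homomorphism of commutative rings
in which p is nilpotent. Regard W_n(R') and W_n(R' ⊗_R R') as W_n(R)-algebras through the
componentwise maps induced by R → R' and R → R' ⊗_R R', and let ψ₁, ψ₂ : W_n(R') → W_n(R' ⊗_R R') be
the componentwise maps induced by the two inclusions of R' (these are W_n(R)-algebra maps). Then for
every flat W_n(R)-module M the sequence 0 → M → M ⊗_{W_n(R)} W_n(R') ⇉ M ⊗_{W_n(R)} W_n(R' ⊗_R R')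
is exact: m ↦ m ⊗ 1 is injective and its image is the equalizer of id ⊗ ψ₁ and id ⊗ ψ₂. (This is the
beginning, in degrees 0 and 1, of a complex continued by the higher tensor powers of R', which the
published proof asserts to be exact throughout; W_n(R) → W_n(R') is not flat in general, so this is
not faithfully flat descent.) -/
theorem result (p : ℕ) [Fact p.Prime] (n : ℕ)
    (R R' : Type u) [CommRing R] [CommRing R'] [Algebra R R'] [Module.FaithfullyFlat R R']
    (hp : IsNilpotent (p : R))
    [Algebra (TruncatedWittVector p n R) (TruncatedWittVector p n R')]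
    (h₁ : algebraMap (TruncatedWittVector p n R) (TruncatedWittVector p n R') = WittGrp.truncMap p n (algebraMap R R'))
    [Algebra (TruncatedWittVector p n R) (TruncatedWittVector p n (TensorProduct R R' R'))]
    (h₂ : algebraMap (TruncatedWittVector p n R) (TruncatedWittVector p n (TensorProduct R R' R')) =
      WittGrp.truncMap p n (algebraMap R (TensorProduct R R' R')))
    (ψ₁ ψ₂ : TruncatedWittVector p n R' →ₐ[TruncatedWittVector p n R] TruncatedWittVector p n (TensorProduct R R' R'))
    (hψ₁ : (ψ₁ : TruncatedWittVector p n R' →+* TruncatedWittVector p n (TensorProduct R R' R')) =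
      WittGrp.truncMap p n (Algebra.TensorProduct.includeLeftRingHom : R' →+* TensorProduct R R' R'))
    (hψ₂ : (ψ₂ : TruncatedWittVector p n R' →+* TruncatedWittVector p n (TensorProduct R R' R')) =
      WittGrp.truncMap p n ((Algebra.TensorProduct.includeRight : R' →ₐ[R] TensorProduct R R' R') : R' →+* TensorProduct R R' R'))
    (M : Type v) [AddCommGroup M] [Module (TruncatedWittVector p n R) M] [Module.Flat (TruncatedWittVector p n R) M] :
    Function.Injective (fun m : M => m ⊗ₜ[TruncatedWittVector p n R] (1 : TruncatedWittVector p n R')) ∧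
      ∀ x : M ⊗[TruncatedWittVector p n R] TruncatedWittVector p n R',
        LinearMap.lTensor M ψ₁.toLinearMap x = LinearMap.lTensor M ψ₂.toLinearMap x →
          x ∈ Set.range (fun m : M => m ⊗ₜ[TruncatedWittVector p n R] (1 : TruncatedWittVector p n R')) := by
  classical
  -- coefficientwise descriptions
  have hA : ∀ (a : TruncatedWittVector p n R) (i : Fin n),
      (algebraMap (TruncatedWittVector p n R) (TruncatedWittVector p n R') a).coeff i =
        algebraMap R R' (a.coeff i) := by
    intro a i
    rw [h₁, WittGrp.coeff_truncMap]
  have h1 : ∀ (b : TruncatedWittVector p n R') (i : Fin n),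
      (ψ₁ b).coeff i = (b.coeff i) ⊗ₜ[R] (1 : R') := by
    intro b i
    have : ψ₁ b = WittGrp.truncMap p n
        (Algebra.TensorProduct.includeLeftRingHom : R' →+* TensorProduct R R' R') b := by
      rw [← hψ₁]; rfl
    rw [this, WittGrp.coeff_truncMap]
    rfl
  have h2 : ∀ (b : TruncatedWittVector p n R') (i : Fin n),
      (ψ₂ b).coeff i = (1 : R') ⊗ₜ[R] (b.coeff i) := by
    intro b i
    have : ψ₂ b = WittGrp.truncMap p n
        ((Algebra.TensorProduct.includeRight : R' →ₐ[R] TensorProduct R R' R') :
          R' →+* TensorProduct R R' R') b := by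
      rw [← hψ₂]; rfl
    rw [this, WittGrp.coeff_truncMap]
    rfl
  have heff : Algebra.IsEffective R R' := Algebra.IsEffective.of_faithfullyFlat R R'
  have hinjR : Function.Injective (algebraMap R R') := FaithfulSMul.algebraMap_injective R R'
  -- the basic exact sequence
  have hinj : Function.Injective (Algebra.linearMap (TruncatedWittVector p n R)
      (TruncatedWittVector p n R')) := by
    intro a a' haa'
    apply TruncatedWittVector.ext
    intro i
    apply hinjR
    rw [← hA, ← hA]
    exact congrArg (fun t => t.coeff i) haa'
  have hexact : Function.Exact (Algebra.linearMap (TruncatedWittVector p n R)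
      (TruncatedWittVector p n R')) (ψ₁.toLinearMap - ψ₂.toLinearMap) := by
    intro b
    constructor
    · intro hb
      rw [LinearMap.sub_apply, sub_eq_zero] at hb
      have hb' : ψ₁ b = ψ₂ b := hb
      have hc : ∀ i : Fin n, ∃ a : R, algebraMap R R' a = b.coeff i := by
        intro i
        have h3 : Algebra.TensorProduct.includeLeftSubRight R R' (b.coeff i) = 0 := by
          rw [Algebra.TensorProduct.includeLeftSubRight_apply, sub_eq_zero, ← h1, ← h2, hb']
        obtain ⟨a, ha⟩ := (heff (b.coeff i)).mp h3
        exact ⟨a, ha⟩
      choose a ha using hc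
      refine ⟨TruncatedWittVector.mk p a, ?_⟩
      apply TruncatedWittVector.ext
      intro i
      change (algebraMap (TruncatedWittVector p n R) (TruncatedWittVector p n R')
        (TruncatedWittVector.mk p a)).coeff i = _
      rw [hA, TruncatedWittVector.coeff_mk, ha]
    · rintro ⟨a, rfl⟩
      rw [LinearMap.sub_apply, sub_eq_zero]
      change ψ₁ (algebraMap (TruncatedWittVector p n R) (TruncatedWittVector p n R') a) =
        ψ₂ (algebraMap (TruncatedWittVector p n R) (TruncatedWittVector p n R') a)
      rw [AlgHom.commutes, AlgHom.commutes]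
  have hmk : ∀ m : M, m ⊗ₜ[TruncatedWittVector p n R] (1 : TruncatedWittVector p n R') =
      (LinearMap.lTensor M (Algebra.linearMap (TruncatedWittVector p n R)
        (TruncatedWittVector p n R'))) ((TensorProduct.rid (TruncatedWittVector p n R) M).symm m) := by
    intro m
    rw [TensorProduct.rid_symm_apply, LinearMap.lTensor_tmul, Algebra.linearMap_apply, map_one]
  constructor
  · intro m m' hmm'
    simp only [hmk] at hmm'
    have := Module.Flat.lTensor_preserves_injective_linearMap (M := M) _ hinj hmm'
    exact (TensorProduct.rid (TruncatedWittVector p n R) M).symm.injective this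
  · intro x hx
    have hex := Module.Flat.lTensor_exact M hexact
    have hx0 : (LinearMap.lTensor M (ψ₁.toLinearMap - ψ₂.toLinearMap)) x = 0 := by
      rw [LinearMap.lTensor_sub, LinearMap.sub_apply, hx, sub_self]
    obtain ⟨y, rfl⟩ := (hex x).mp hx0
    refine ⟨TensorProduct.rid (TruncatedWittVector p n R) M y, ?_⟩
    change _ ⊗ₜ[TruncatedWittVector p n R] (1 : TruncatedWittVector p n R') = _
    rw [hmk, LinearEquiv.symm_apply_apply]

end Groth.Agent.S16225
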