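import Groth.Statements.S16240
import Groth.Agent.Lib.Helper2LocFree
import Groth.Agent.Lib.Helper23FinPres
import Groth.Agent.Lib.Helper23FinType
import Groth.Agent.Lib.Helper23FinTypeLocal
import Groth.Agent.Lib.Helper23QCohAbelian
import Groth.Agent.Lib.Helper4FibDimL
import Groth.Agent.Lib.Helper2FibreCrit2
import Groth.Agent.Lib.Helper1KBC2
import Groth.Agent.Lib.T2H7SyzCA
import Groth.Agent.Lib.T2H7PdTorC
import Groth.Agent.S0563

set_option autoImplicit false
universe u
open CategoryTheory CategoryTheory.Limits AlgebraicGeometry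
open Coh

namespace Groth.Agent.S16240

/-- Let X be a Noetherian scheme all of whose local rings are regular, of (topological Krull) dimension
at most m, and let S be an exact sequence of O_X-modules G ⟶ E_m ⟶ ⋯ ⟶ E_1 ⟶ F with m + 2 terms (G
in position 0, F in position m + 1), injective at the first map and surjective at the last, in which
F is coherent and E_1, …, E_m are finite locally free. Then G is finite locally free. (The source
asks for p + 1 vector bundles with p ≥ dim X − 1, i.e. at least dim X of them, and finite dimension;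
here m bounds the dimension.) -/
theorem result (X : Scheme.{u}) [IsNoetherian X]
    (hreg : ∀ x : X, IsRegularLocalRing (X.presheaf.stalk x)) (m : ℕ)
    (hdim : topologicalKrullDim ↥X ≤ (m : WithBot ℕ∞))
    (S : ComposableArrows X.Modules (m + 1)) (hS : S.Exact)
    (hmono : Mono (S.map' 0 1 (Nat.zero_le 1) (Nat.le_add_left 1 m)))
    (hepi : Epi (S.map' m (m + 1) (Nat.le_succ m) (le_refl (m + 1))))
    (hE : ∀ i : Fin m, FlatMod.IsFinLocFree (S.obj ⟨i.1 + 1, Nat.succ_lt_succ (Nat.lt_succ_of_lt i.2)⟩))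
    (hF : Coh.IsCoh (S.obj (Fin.last (m + 1)))) :
    FlatMod.IsFinLocFree (S.obj 0) := by
  have hqc : ∀ (i : ℕ) (_ : 1 ≤ i) (hi : i ≤ m + 1), (S.obj' i hi).IsQuasicoherent ∧
      SheafOfModules.IsFiniteType (R := X.ringCatSheaf) (S.obj' i hi) := by
    intro i h1 hi
    obtain ⟨j, rfl⟩ : ∃ j, i = j + 1 := ⟨i - 1, by omega⟩
    by_cases hj : j = m
    · subst hj
      exact hF
    · have hjm : j < m := by omega
      have hfp := Groth.Agent.Lib.Helper2.LocFree.isFP_of_isFinLocFree _ (hE ⟨j, hjm⟩)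
      exact ⟨inferInstance, inferInstance⟩
  have hG : (S.obj' 0 (Nat.zero_le _)).IsQuasicoherent ∧
      SheafOfModules.IsFiniteType (R := X.ringCatSheaf) (S.obj' 0 (Nat.zero_le _)) := by
    cases m with
    | zero =>
      have hiso : IsIso (S.map' 0 1 (Nat.zero_le 1) (Nat.le_add_left 1 0)) := isIso_of_mono_of_epi _
      obtain ⟨hq, hft⟩ := hqc 1 le_rfl le_rfl
      have e : S.obj' 0 (Nat.zero_le _) ≅ S.obj' 1 le_rfl := @asIso _ _ _ _ _ hiso
      exact ⟨(SheafOfModules.isQuasicoherent X.ringCatSheaf).prop_of_iso e.symm hq,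
        Groth.Agent.Lib.Helper23.FinType.isFiniteType_of_iso e.symm⟩
    | succ n =>
      obtain ⟨hq1, hft1⟩ := hqc 1 le_rfl (by omega)
      obtain ⟨hq2, -⟩ := hqc 2 (by omega) (by omega)
      have hk : IsLimit (KernelFork.ofι (S.map' 0 1 (Nat.zero_le 1) (Nat.le_add_left 1 (n + 1)))
          (hS.toIsComplex.zero 0 (by omega))) :=
        (hS.exact 0 (by omega)).fIsKernel
      have e : S.obj' 0 (Nat.zero_le _) ≅ kernel (S.map' 1 2 (by omega) (by omega)) :=
        IsLimit.conePointUniqueUpToIso hk (limit.isLimit _)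
      have hqk := Groth.Agent.Lib.Helper23.QCohLocal.isQuasicoherent_kernel
        (S.map' 1 2 (by omega) (by omega))
      have hq0 : (S.obj' 0 (Nat.zero_le _)).IsQuasicoherent :=
        (SheafOfModules.isQuasicoherent X.ringCatSheaf).prop_of_iso e.symm hqk
      exact ⟨hq0, Groth.Agent.Lib.Helper23.FinType.isFiniteType_of_mono
        (S.map' 0 1 (Nat.zero_le 1) (Nat.le_add_left 1 (n + 1)))⟩
  obtain ⟨hGq, hGft⟩ := hG
  have hGfp := Groth.Agent.Lib.Helper23.FinType.isFinitePresentation_of_isFiniteType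
    (S.obj' 0 (Nat.zero_le _))
  intro x
  have hfl : FlatMod.IsFlatAt (S.obj' 0 (Nat.zero_le _)) x := by
    unfold FlatMod.IsFlatAt
    have hreg' := hreg x
    have hdle : ringKrullDim (X.presheaf.stalk x) ≤ m :=
      (Groth.Agent.Lib.Helper4.FibDim.ringKrullDim_stalk_le_topologicalKrullDim X x).trans hdim
    have hne : ringKrullDim (X.presheaf.stalk x) ≠ ⊤ := ringKrullDim_ne_top
    have hne' : ringKrullDim (X.presheaf.stalk x) ≠ ⊥ := ringKrullDim_ne_bot
    obtain ⟨d', hd'⟩ := WithBot.ne_bot_iff_exists.mp hne'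
    have hd'top : d' ≠ ⊤ := by
      rintro rfl
      exact hne hd'.symm
    obtain ⟨d, hdd⟩ := ENat.ne_top_iff_exists.mp hd'top
    have hdim' : ringKrullDim (X.presheaf.stalk x) = (d : ℕ) := by
      rw [← hd', ← hdd]
      rfl
    have hdm : d ≤ m := by
      rw [hdim'] at hdle
      exact_mod_cast hdle
    let T : ComposableArrows (ModuleCat.{u} (Groth.Agent.Lib.Helper1.Sky.Ox x)) (m + 1) :=
      S ⋙ Groth.Agent.Lib.Helper1.Sky.stalkFun x
    have hT : T.Exact :=
      Groth.Agent.Lib.T2H7.SyzCA.exact_comp (Groth.Agent.Lib.Helper1.Sky.stalkFun x) S hS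
    have hmonoT : Mono (T.map' 0 1 (by omega) (by omega)) :=
      (Groth.Agent.Lib.Helper1.Sky.stalkFun x).map_mono _
    have hepiT : Epi (T.map' m (m + 1) (by omega) (by omega)) :=
      (Groth.Agent.Lib.Helper1.Sky.stalkFun x).map_epi _
    have hP : ∀ (i : ℕ) (_ : 1 ≤ i) (hi : i ≤ m),
        Projective (T.obj' i (by omega)) := by
      intro i h1 hi
      obtain ⟨hq, hft⟩ := hqc i h1 (by omega)
      obtain ⟨j, rfl⟩ : ∃ j, i = j + 1 := ⟨i - 1, by omega⟩
      have hflat : FlatMod.IsFlatAt (S.obj' (j + 1) (by omega)) x :=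
        Groth.Agent.Lib.Helper2.LocFree.isFlat_of_isFinLocFree _ (hE ⟨j, by omega⟩) x
      unfold FlatMod.IsFlatAt at hflat
      have hfin : Module.Finite (X.presheaf.stalk x) ((S.obj' (j + 1) (by omega)).presheaf.stalk x) :=
        Groth.Agent.Lib.Helper2.FibreCrit.finite_stalk _ x
      have hfree : Module.Free (X.presheaf.stalk x) ((S.obj' (j + 1) (by omega)).presheaf.stalk x) :=
        Module.free_of_flat_of_isLocalRing
      exact Groth.Agent.Lib.T2H7.PdTorC.projective_of_module_projective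
        (R := X.presheaf.stalk x) ((S.obj' (j + 1) (by omega)).presheaf.stalk x)
    have hpd0 := Groth.Agent.S0563.result (X.presheaf.stalk x) d hdim'
      ((S.obj (Fin.last (m + 1))).presheaf.stalk x)
    have hpd : HasProjectiveDimensionLT
        (T.obj' (m + 1) (by omega)) (m + 1) :=
      hasProjectiveDimensionLT_of_ge (ModuleCat.of (X.presheaf.stalk x)
        ((S.obj (Fin.last (m + 1))).presheaf.stalk x)) (d + 1) (m + 1) (by omega)
    have hproj := Groth.Agent.Lib.T2H7.SyzCA.projective_left m T hT hmonoT hepiT hP hpd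
    have hmp : Module.Projective (X.presheaf.stalk x) ((S.obj' 0 (Nat.zero_le _)).presheaf.stalk x) :=
      (IsProjective.iff_projective (ModuleCat.of (X.presheaf.stalk x)
        ((S.obj' 0 (Nat.zero_le _)).presheaf.stalk x))).mpr hproj
    infer_instance
  obtain ⟨D, r, hxD, e⟩ :=
    Groth.Agent.Lib.Helper2.LocFree.exists_restrict_iso_freeMod_of_isFlatAt (S.obj' 0 (Nat.zero_le _)) x hfl
  exact ⟨D, r, hxD, e⟩

end Groth.Agent.S16240
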