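import Groth.Statements.S16245
import Groth.Agent.Lib.T2H7WeilClosed

set_option autoImplicit false
universe u
open CategoryTheory CategoryTheory.Limits AlgebraicGeometry
open SDiv
namespace Groth.Agent.S16245
open Groth.Agent.Lib.T2H7.WeilClosed in
/-- Let f : X → S be a morphism of schemes, D ⊆ X an effective Cartier divisor with ideal sheaf 𝓘, and
D' ⊆ X a closed subscheme with ideal sheaf 𝓘' such that D' → S is finite, flat and locally of finite
presentation (finite locally free). Then there is a closed subscheme Z ⊆ S such that a morphism g :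
T → S factors through Z exactly when, on X ×_S T, the inverse image ideal of 𝓘 is contained in the
inverse image ideal of 𝓘', that is, the pull-back of D' is a closed subscheme of the pull-back of D.
This universal property determines Z, and compatibility of Z with base change follows from it. (In
the source X is a family of elliptic curves and D, D' are relative effective Cartier divisors, D'
then being finite locally free over S; the argument uses only the hypotheses stated here.) -/
theorem result
    {X S : Scheme.{u}} (f : X ⟶ S) (𝓘 𝓘' : X.IdealSheafData) (hD : BlowUp.IsEffCartierIdeal 𝓘)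
    [IsFinite (𝓘'.subschemeι ≫ f)] [Flat (𝓘'.subschemeι ≫ f)]
    [LocallyOfFinitePresentation (𝓘'.subschemeι ≫ f)] :
    ∃ 𝓩 : S.IdealSheafData, ∀ (T : Scheme.{u}) (g : T ⟶ S),
      (∃ t : T ⟶ 𝓩.subscheme, t ≫ 𝓩.subschemeι = g) ↔
        𝓘.comap (pullback.fst f g) ≤ 𝓘'.comap (pullback.fst f g) := by
  obtain ⟨𝓩, h𝓩⟩ := exists_weilIdeal (𝓘'.subschemeι ≫ f) (𝓘.comap 𝓘'.subschemeι)
  refine ⟨𝓩, fun T g => ?_⟩
  have H1 : IsPullback (pullback.fst (pullback.fst f g) 𝓘'.subschemeι)
      (pullback.snd (pullback.fst f g) 𝓘'.subschemeι) (pullback.fst f g) 𝓘'.subschemeι :=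
    IsPullback.of_hasPullback _ _
  have H2 : IsPullback (pullback.fst f g) (pullback.snd f g) f g := IsPullback.of_hasPullback _ _
  have H : IsPullback (pullback.snd (pullback.fst f g) 𝓘'.subschemeι)
      (pullback.fst (pullback.fst f g) 𝓘'.subschemeι ≫ pullback.snd f g) (𝓘'.subschemeι ≫ f) g :=
    H1.flip.paste_vert H2
  rw [exists_lift_iff_comap_eq_bot, Scheme.IdealSheafData.ker_subschemeι, h𝓩 g _ _ H,
    ← Scheme.IdealSheafData.comap_comp, ← pullback.condition, Scheme.IdealSheafData.comap_comp,
    eq_bot_iff, ← Scheme.IdealSheafData.le_map_iff_comap_le, Scheme.IdealSheafData.map_bot,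
    Scheme.IdealSheafData.ker_fst_of_isClosedImmersion, Scheme.IdealSheafData.ker_subschemeι]
end Groth.Agent.S16245
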