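import Groth.Statements.S16324
import Groth.Agent.Lib.T2H3EGJ

set_option autoImplicit false
set_option linter.style.haveILetI false
universe u
open GrSyz

namespace Groth.Agent.S16324

/-- Let k be an algebraically closed field of characteristic zero, S = k[x_0, …, x_n] graded by degree,
𝔪 = (x_0, …, x_n), and M a finitely generated ℤ-graded S-module which is Cohen–Macaulay: the Krull
dimension of its support equals its 𝔪-depth. Let F be a minimal graded free resolution of M of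
length exactly ℓ (F_ℓ ≠ 0, F_i = 0 for i > ℓ; so ℓ = pd M) and let ρ be its regularity: every basis
vector of F_i has degree at most ρ + i, with equality for some i and some basis vector (so ρ = reg
M). Let P be the Hilbert polynomial of M, i.e. a polynomial over ℚ with dim_k M_d = P(d) for all
sufficiently large d. Then dim_k M_d ≠ P(d) for d = ρ + ℓ − n − 1: the bound d ≥ reg M + pd M − n
beyond which the Hilbert function agrees with the Hilbert polynomial is sharp for Cohen–Macaulay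
modules. (Part (1) of the published statement, the agreement for d ≥ reg M + pd M − n, follows from
the agreement for d at least the largest generator degree minus n and is not restated.) -/
theorem result (k : Type u) [Field k] [IsAlgClosed k] [CharZero k] (n : ℕ)
    (M : Type u) [AddCommGroup M] [Module k M] [Module (MvPolynomial (Fin (n + 1)) k) M]
    [IsScalarTower k (MvPolynomial (Fin (n + 1)) k) M] [Module.Finite (MvPolynomial (Fin (n + 1)) k) M]
    (ℳ : ℤ → Submodule k M) [DirectSum.Decomposition ℳ] [SetLike.GradedSMul (GrSyz.stdGr k (Fin (n + 1))) ℳ]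
    (hCM : Module.supportDim (MvPolynomial (Fin (n + 1)) k) M = ((LocCoh.idealDepth (GrSyz.irrel (GrSyz.stdGr k (Fin (n + 1)))).toIdeal M : ℕ∞) : WithBot ℕ∞))
    (F : GrSyz.FreeRes (GrSyz.stdGr k (Fin (n + 1))) ℳ) (hF : F.IsMinimal (GrSyz.irrel (GrSyz.stdGr k (Fin (n + 1)))).toIdeal)
    (ℓ : ℕ) (hℓ : F.HasLengthLE ℓ) (hℓ' : F.rk ℓ ≠ 0)
    (ρ : ℤ) (hρ : F.IsGenLE ρ) (hρ' : ∃ (i : ℕ) (b : Fin (F.rk i)), F.deg i b = ρ + i)
    (P : Polynomial ℚ) (hP : ∃ d₁ : ℤ, ∀ d : ℤ, d₁ ≤ d → ((Module.finrank k ↥(ℳ d) : ℤ) : ℚ) = P.eval (d : ℚ)) :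
    ((Module.finrank k ↥(ℳ (ρ + ℓ - n - 1)) : ℤ) : ℚ) ≠ P.eval ((ρ + ℓ - n - 1 : ℤ) : ℚ) := by
  classical
  open Groth.Agent.Lib.T2H3.EG in
  have h1 := Groth.Agent.S16323.result k n M ℳ F hF ℓ hℓ hℓ'
  have hℓn : ℓ ≤ n + 1 := by
    have h2 : (ℓ : ℕ∞) ≤ ((n + 1 : ℕ) : ℕ∞) := h1 ▸ le_self_add
    exact_mod_cast h2
  have hD : LocCoh.idealDepth (GrSyz.irrel (GrSyz.stdGr k (Fin (n + 1)))).toIdeal M =
      ((n + 1 - ℓ : ℕ) : ℕ∞) := by
    have h2 : ((n + 1 : ℕ) : ℕ∞) = (ℓ : ℕ∞) + ((n + 1 - ℓ : ℕ) : ℕ∞) := by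
      rw [← Nat.cast_add]
      congr 1
      omega
    rw [h2] at h1
    exact ENat.add_right_injective_of_ne_top (ENat.natCast_ne_top ℓ) h1
  have hreg : GrSyz.IsRegLE (GrSyz.stdGr k (Fin (n + 1))) ℳ
      (GrSyz.irrel (GrSyz.stdGr k (Fin (n + 1)))).toIdeal ρ :=
    (isGenLE_iff_isRegLE k n ℳ F hF ρ).1 hρ
  have hnreg : ¬ GrSyz.IsRegLE (GrSyz.stdGr k (Fin (n + 1))) ℳ
      (GrSyz.irrel (GrSyz.stdGr k (Fin (n + 1)))).toIdeal (ρ - 1) := by
    intro h
    have h' := (isGenLE_iff_isRegLE k n ℳ F hF (ρ - 1)).2 h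
    obtain ⟨i, b, hb⟩ := hρ'
    have h3 := h' i b
    omega
  have hmain := finrank_ne_eval_of_cm k n ℳ hCM (n + 1 - ℓ) hD ρ hreg hnreg P hP
  have he : (ρ + ℓ - n - 1 : ℤ) = ρ - ((n + 1 - ℓ : ℕ) : ℤ) := by omega
  rw [he]
  exact hmain

end Groth.Agent.S16324
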