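import Groth.Statements.S6649
import Mathlib
import Groth.Agent.S0212
import Groth.Agent.S0214
import Groth.Agent.Lib.Helper4DimFormulaW

set_option autoImplicit false
set_option linter.style.haveILetI false
open CategoryTheory CategoryTheory.Limits AlgebraicGeometry Opposite
universe u
open Curves

namespace Groth.Agent.S6649

/-- The systems version `IsCi` implies the single-form version `IsCr`. -/
theorem isCr_of_isCi (K : Type u) [Field K] (r : ℕ) (h : Curves.IsCi K r) : Curves.IsCr K r := by
  intro n d f hf hd hdn
  obtain ⟨a, ha, hz⟩ := h 1 n (fun _ => f) (fun _ => d) (fun _ => hf) (fun _ => hd) (by simpa using hdn)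
  exact ⟨a, ha, hz 0⟩

/-- For a curve C over an algebraically closed field k (C integral of dimension one, separated and of
finite type over k) the Brauer group of the function field of C is zero: every finite-dimensional
central division algebra over the function field has dimension one. -/
theorem result (k : Type u) [Field k] [IsAlgClosed k] (C : Scheme.{u})
    (f : C ⟶ Spec (CommRingCat.of k)) [IsSeparated f] [LocallyOfFiniteType f] [QuasiCompact f] [IsIntegral C]
    (hdim : topologicalKrullDim ↥C = 1)
    (D : Type u) [DivisionRing D] [Algebra ↑C.functionField D] [Algebra.IsCentral ↑C.functionField D]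
    [FiniteDimensional ↑C.functionField D] : Module.finrank ↑C.functionField D = 1 := by
  classical
  letI : C.Over (Spec (CommRingCat.of k)) := ⟨f⟩
  haveI : LocallyOfFiniteType (C ↘ Spec (CommRingCat.of k)) := ‹LocallyOfFiniteType f›
  letI := Curv2.resAlgebra k C
  letI := Curv2.stalkAlgebra k C
  -- transcendence degree of the residue field at the generic point
  have h1 := Groth.Agent.Lib.Helper4.DimFormula.topologicalKrullDim_eq_trdegNat_genericPoint k (Y := C)
  rw [hdim] at h1
  have h2 : Groth.Agent.Lib.Helper4.VarDim.trdegNat k C (genericPoint C) = 1 := by
    have : ((1 : ℕ) : WithBot ℕ∞) = ((Groth.Agent.Lib.Helper4.VarDim.trdegNat k C (genericPoint C) : ℕ) : WithBot ℕ∞) := by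
      exact_mod_cast h1
    exact_mod_cast this.symm
  have h3 : Algebra.trdeg k (C.residueField (genericPoint C)) = 1 := by
    rw [Groth.Agent.Lib.Helper4.VarDim.trdeg_eq_trdegNat k C (genericPoint C), h2]
    simp
  -- the stalk at the generic point is a field, hence isomorphic to its residue field
  have hbij : Function.Bijective (C.residue (genericPoint C)).hom := by
    refine ⟨RingHom.injective _, ?_⟩
    exact Ideal.Quotient.mk_surjective
  let e : C.functionField ≃ₐ[k] C.residueField (genericPoint C) :=
    AlgEquiv.ofBijective
      { toRingHom := (C.residue (genericPoint C)).hom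
        commutes' := fun r => rfl } hbij
  have h4 : Algebra.trdeg k C.functionField = ((1 : ℕ) : Cardinal) := by
    rw [e.trdeg_eq, h3]; simp
  have hCi := Groth.Agent.S0212.result k C.functionField 1 h4
  exact Groth.Agent.S0214.result C.functionField (isCr_of_isCi _ 1 hCi) D

end Groth.Agent.S6649
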