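import Groth.Statements.S16345
import Mathlib
import Groth.Agent.Lib.T2H6AffComplC
import Groth.Agent.Lib.Helper11SmInt
import Groth.Agent.Lib.LeadCotSmSch

set_option autoImplicit false
universe u
open KatoHom

namespace Groth.Agent.S16345

open AlgebraicGeometry CategoryTheory in
/-- Let X be a connected scheme, proper and smooth of relative dimension d ≥ 2 over a field L, and let D
⊆ X be a closed subscheme, smooth of relative dimension d − 1 over L (a smooth divisor), whose
complement in X is an affine open subset. Then D is connected (in particular non-empty). -/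
theorem result
    {L : Type u} [Field L] {X D : Scheme.{u}} (f : X ⟶ Spec (CommRingCat.of L)) (i : D ⟶ X)
    [IsProper f] (d : ℕ) (hd : 1 < d) [SmoothOfRelativeDimension d f]
    [IsClosedImmersion i] [SmoothOfRelativeDimension (d - 1) (i ≫ f)]
    [ConnectedSpace X] (U : X.Opens) (hU : IsAffineOpen U)
    (hDU : Set.range i.base = (U : Set X)ᶜ) : ConnectedSpace D := by
  haveI : Smooth f := SmoothOfRelativeDimension.smooth d f
  haveI : IsLocallyNoetherian X := LocallyOfFiniteType.isLocallyNoetherian f
  haveI : CompactSpace X := QuasiCompact.compactSpace_of_compactSpace f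
  haveI : IsNoetherian X := {}
  haveI : AlgebraicGeometry.IsIntegral X :=
    Groth.Agent.Lib.Helper11SmInt.isIntegral_of_connected_of_isDomain_stalk
      (fun x => Groth.Agent.Lib.Helper11SmInt.isDomain_stalk_of_smooth L f x)
  have hdimX : (2 : WithBot ℕ∞) ≤ topologicalKrullDim X := by
    have h1 := Groth.Agent.Lib.LeadCotSmSch.dim_irreducibleComponents_of_smoothOfRelativeDimension
      f d Set.univ (by rw [irreducibleComponents_eq_singleton]; rfl)
    have h2 : topologicalKrullDim ↥(Set.univ : Set X) = topologicalKrullDim X :=
      IsHomeomorph.topologicalKrullDim_eq _ (Homeomorph.Set.univ X).isHomeomorph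
    rw [← h2, h1]
    exact_mod_cast hd
  have hconn : _root_.IsConnected ((U : Set X)ᶜ) := by
    by_cases hne : (U : Set X).Nonempty
    · exact Groth.Agent.Lib.T2H6.AffCompl.isConnected_compl_affineOpen L f hdimX U hU hne
    · rw [Set.not_nonempty_iff_eq_empty] at hne
      rw [hne, Set.compl_empty]
      exact isConnected_univ
  rw [← hDU] at hconn
  haveI : ConnectedSpace ↥(Set.range i.base) := isConnected_iff_connectedSpace.mp hconn
  exact Groth.Agent.Lib.T2H6.NegVan.connectedSpace_of_range_eq
    (Subtype.val : ↥(Set.range i.base) → X) i.base continuous_subtype_val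
    i.isEmbedding.isInducing Subtype.range_val

end Groth.Agent.S16345
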