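import Groth.Statements.S1639
import Mathlib
import Groth.Agent.Lib.T2H5NormAmpleB
import Groth.Agent.S9815
-- import your own Groth.Agent.* helpers here

set_option autoImplicit false
universe u
open CategoryTheory CategoryTheory.Limits AlgebraicGeometry
open Divisors

namespace Groth.Agent.S1639

/-- Let π : X → Y be finite and surjective, with Y integral and normal. If X has an ample invertible
module then so does Y. -/
theorem result {X Y : Scheme.{u}} (π : X ⟶ Y) [IsFinite π] [Surjective π]
    [IsIntegral Y] (hY : Pi1.IsNormalScheme Y) (L : X.Modules) (hL : CohB1.IsAmple L) :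
    ∃ M : Y.Modules, CohB1.IsAmple M := by
  obtain ⟨ξ, hξ⟩ := π.surjective (genericPoint Y)
  set I := Scheme.IdealSheafData.vanishingIdeal (TopologicalSpace.Closeds.closure ({ξ} : Set X))
  let Z := I.subscheme
  let ι : Z ⟶ X := I.subschemeι
  haveI : IsIntegral Z := Groth.Agent.Lib.T2H3.NormQAff2.isIntegral_subscheme_closure ξ
  haveI : CompactSpace X := hL.2.1
  haveI : CompactSpace Z := by
    have hce : Topology.IsClosedEmbedding ι.base := ι.isClosedEmbedding
    exact hce.compactSpace
  have hLZ : CohB1.IsAmple ((Scheme.Modules.pullback ι).obj L) :=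
    Groth.Agent.S9815.result ι ι.isEmbedding L hL
  have hr : Set.range ι = closure ({ξ} : Set X) :=
    Groth.Agent.Lib.Helper11RedCl.range_subschemeι_vanishingIdeal _
  obtain ⟨z, hz⟩ : ξ ∈ Set.range ι := by rw [hr]; exact subset_closure rfl
  haveI : Surjective (ι ≫ π) := by
    constructor
    have hclosed : IsClosed (Set.range (ι ≫ π)) := (ι ≫ π).isClosedMap.isClosed_range
    have hmem : genericPoint Y ∈ Set.range (ι ≫ π) := ⟨z, by
      rw [Scheme.Hom.comp_apply, hz, hξ]⟩
    have hsub : closure ({genericPoint Y} : Set Y) ⊆ Set.range (ι ≫ π) :=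
      hclosed.closure_subset_iff.mpr (Set.singleton_subset_iff.mpr hmem)
    rw [(genericPoint_spec Y).def] at hsub
    intro y
    exact hsub (Set.mem_univ y)
  obtain ⟨d, ⟨N⟩⟩ := Groth.Agent.Lib.T2H3.NormNormal.hasNorm (ι ≫ π) hY
  exact Groth.Agent.Lib.T2H5.NormAmple.exists_ample_of_preNorm (ι ≫ π) (ι ≫ π).surjective
    (Groth.Agent.Lib.T2H3.NormQAff2.PreNorm.ofNormOfDegree N) _ hLZ

end Groth.Agent.S1639
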