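import Groth.Statements.S16433
import Groth.Agent.Lib.T2H1NormalInter
import Groth.Agent.Lib.Helper3HzP

set_option autoImplicit false
universe u
open EGA4loc

namespace Groth.Agent.S16433

/-- Let A be an excellent normal local domain and S a strict henselization of A; let D be an
A-subalgebra of S which is a local ring dominated by S (the inclusion is a local homomorphism) and
an integrally closed domain. Then D is a directed union of local etale extensions of A: every finite
subset of D is contained in an A-subalgebra D' of S with D' contained in D, D' a local ring whose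
inclusion into S is local, and D' an essentially etale local A-algebra (a localization of an etale
A-algebra at a prime over the maximal ideal). -/
theorem result
    (A S : Type u) [CommRing A] [IsLocalRing A] [IsDomain A] [IsIntegrallyClosed A]
    (hA : EGA4.IsExcellent A) [CommRing S] [IsLocalRing S] [Algebra A S] [IsLocalHom (algebraMap A S)]
    [Hensel.IsStrictHenselization A S] (D : Subalgebra A S) [IsLocalRing D]
    [IsLocalHom (algebraMap D S)] [IsDomain D] [IsIntegrallyClosed D]
    (s : Finset S) (hs : (s : Set S) ⊆ (D : Set S)) :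
    ∃ D' : Subalgebra A S, D' ≤ D ∧ (s : Set S) ⊆ (D' : Set S) ∧
      ∃ _ : IsLocalRing D', IsLocalHom (algebraMap D' S) ∧ EGA4loc.IsEssentiallyEtale A D' := by
  classical
  open Groth.Agent.Lib.Helper3 Groth.Agent.Lib.Helper3.Sh Groth.Agent.Lib.T2H1.EssEtInter
    Groth.Agent.Lib.T2H1.NormalInter in
  obtain ⟨hAN, -, -, -⟩ := hA
  haveI := hAN
  obtain ⟨Ω, _, _, _, _, _, ⟨e⟩⟩ := HzP.sh_exists_model A S
  haveI : IsDomain S := ((HzP.sh_normal_iff A S).mp ⟨inferInstance, inferInstance⟩).1
  obtain ⟨i, hi⟩ := exists_stage e s
  haveI hlocE : IsLocalHom (algebraMap (ρ e i).range S) := isLocalHom_range e i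
  haveI : IsIntegrallyClosed (ρ e i).range := isIntegrallyClosed_range e i
  haveI hlocC : IsLocalHom (algebraMap ↥(D ⊓ (ρ e i).range) S) := isLocalHom_inf D (ρ e i).range
  haveI hC : IsLocalRing ↥(D ⊓ (ρ e i).range) := isLocalRing_of_isLocalHom (D ⊓ (ρ e i).range)
  haveI : IsIntegrallyClosed ↥(D ⊓ (ρ e i).range) := isIntegrallyClosed_inf D (ρ e i).range
  refine ⟨D ⊓ (ρ e i).range, inf_le_left, fun x hx => ⟨hs hx, hi x hx⟩, hC, hlocC, ?_⟩
  exact isEssentiallyEtale_of_le_range e i (D ⊓ (ρ e i).range) inf_le_right

end Groth.Agent.S16433
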