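import Groth.Statements.S16441
import Groth.Agent.Lib.T2H1EssEtInter
import Groth.Agent.Lib.Helper3HzP

set_option autoImplicit false
universe u
open EGA4loc

namespace Groth.Agent.S16441

/-- Let A be a reduced local ring with finitely many minimal prime ideals, S a strict henselization of
A, and D an A-subalgebra of S which is a local ring dominated by S (local inclusion). Then the total
ring of fractions K_D of D is finitely generated over that of A — there is a finite subset t of K_D
such that every element of K_D, multiplied by (the image of) some non-zero-divisor of A, is a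
polynomial expression in t with coefficients from A — if and only if D is contained in some
A-subalgebra E of S which is a local ring and an essentially etale local A-algebra (a localization
of an etale A-algebra at a prime over the maximal ideal). -/
theorem result
    (A S : Type u) [CommRing A] [IsLocalRing A] [IsReduced A] (hmin : (minimalPrimes A).Finite)
    [CommRing S] [IsLocalRing S] [Algebra A S] [IsLocalHom (algebraMap A S)]
    [Hensel.IsStrictHenselization A S] (D : Subalgebra A S) [IsLocalRing D]
    [IsLocalHom (algebraMap D S)] :
    (∃ t : Finset (FractionRing D), ∀ x : FractionRing D, ∃ a ∈ nonZeroDivisors A,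
        algebraMap A (FractionRing D) a * x ∈ Algebra.adjoin A (t : Set (FractionRing D))) ↔
      ∃ E : Subalgebra A S, D ≤ E ∧ ∃ _ : IsLocalRing E, EGA4loc.IsEssentiallyEtale A E := by
  classical
  obtain ⟨Ω, _, _, _, _, _, ⟨e⟩⟩ := Groth.Agent.Lib.Helper3.HzP.sh_exists_model A S
  haveI : Module.FaithfullyFlat A S := Groth.Agent.Lib.Helper3.HzP.sh_faithfullyFlat A S
  constructor
  · rintro ⟨t, ht⟩
    obtain ⟨i, hi⟩ := Groth.Agent.Lib.T2H1.EssEtInter.le_range_of_fg hmin D e t ht
    obtain ⟨hloc, hE⟩ := Groth.Agent.Lib.T2H1.EssEtInter.range_isEssentiallyEtale e i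
    exact ⟨_, hi, hloc, hE⟩
  · rintro ⟨E, hDE, _, hE⟩
    haveI := Groth.Agent.Lib.T2H1.EssEtFrac.flat A E hE
    haveI := Groth.Agent.Lib.T2H1.EssEtFrac.quasiFinite A E hE
    obtain ⟨t, ht⟩ := Groth.Agent.Lib.T2H1.EssEtInter.exists_finset_span_of_injective A E hmin
      (Subalgebra.inclusion hDE) (Subalgebra.inclusion_injective hDE)
    refine ⟨t, fun x => ?_⟩
    obtain ⟨a, ha, hx⟩ := ht x
    exact ⟨a, ha, Algebra.span_le_adjoin A _ hx⟩

end Groth.Agent.S16441
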