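import Groth.Statements.S16442
import Groth.Agent.Lib.Helper3HzP

set_option autoImplicit false
universe u
open EGA4loc

namespace Groth.Agent.S16442

/-- Let A be a reduced local ring with finitely many minimal prime ideals, S a strict henselization of
A, and D an A-subalgebra of S which is a local ring dominated by S (local inclusion) and essentially
of finite type over A. Then D is contained in some A-subalgebra E of S which is a local ring and an
essentially etale local A-algebra. -/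
theorem result
    (A S : Type u) [CommRing A] [IsLocalRing A] [IsReduced A] (hmin : (minimalPrimes A).Finite)
    [CommRing S] [IsLocalRing S] [Algebra A S] [IsLocalHom (algebraMap A S)]
    [Hensel.IsStrictHenselization A S] (D : Subalgebra A S) [IsLocalRing D]
    [IsLocalHom (algebraMap D S)] [Algebra.EssFiniteType A D] :
    ∃ E : Subalgebra A S, D ≤ E ∧ ∃ _ : IsLocalRing E, EGA4loc.IsEssentiallyEtale A E := by
  classical
  obtain ⟨Ω, _, _, _, _, _, ⟨e⟩⟩ := Groth.Agent.Lib.Helper3.HzP.sh_exists_model A S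
  obtain ⟨s, hs⟩ := (inferInstance : Algebra.EssFiniteType A D).cond
  obtain ⟨i, x', hx'⟩ := Groth.Agent.Lib.Helper3.Sh.exists_ofL_fin
    (fun k : Fin s.card => e (((s.equivFin.symm k : s) : D) : S))
  have hinj : Function.Injective (Groth.Agent.Lib.Helper3.Sh.ofL i) := by
    letI := (Groth.Agent.Lib.Helper3.Sh.ofL i).toAlgebra
    haveI : Module.Flat i.L (Groth.Agent.Lib.Helper3.Sh.Rsh A Ω) :=
      Groth.Agent.Lib.Helper3.Sh.flat_over_L i
    haveI : IsLocalHom (algebraMap i.L (Groth.Agent.Lib.Helper3.Sh.Rsh A Ω)) :=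
      inferInstanceAs (IsLocalHom (Groth.Agent.Lib.Helper3.Sh.ofL i))
    haveI : Module.FaithfullyFlat i.L (Groth.Agent.Lib.Helper3.Sh.Rsh A Ω) :=
      Module.FaithfullyFlat.of_flat_of_isLocalHom
    exact FaithfulSMul.algebraMap_injective i.L (Groth.Agent.Lib.Helper3.Sh.Rsh A Ω)
  let ρ : i.L →ₐ[A] S := (e.symm : Groth.Agent.Lib.Helper3.Sh.Rsh A Ω →ₐ[A] S).comp
    (Groth.Agent.Lib.Helper3.Sh.ofLₐ i)
  have hρ : ∀ l : i.L, ρ l = e.symm (Groth.Agent.Lib.Helper3.Sh.ofL i l) := fun l => rfl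
  have hρinj : Function.Injective ρ := by
    intro l₁ l₂ h
    rw [hρ, hρ] at h
    exact hinj (e.symm.injective h)
  have hρunit : ∀ l : i.L, IsUnit (ρ l) → IsUnit l := by
    intro l hl
    have h1 : IsUnit (e (ρ l)) := hl.map e
    rw [hρ, AlgEquiv.apply_symm_apply] at h1
    exact (isUnit_map_iff (Groth.Agent.Lib.Helper3.Sh.ofL i) l).1 h1
  let E : Subalgebra A S := ρ.range
  let eE : i.L ≃ₐ[A] E := AlgEquiv.ofInjective ρ hρinj
  have hsE : ∀ t ∈ s, ((t : D) : S) ∈ E := by
    intro t ht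
    refine ⟨x' (s.equivFin ⟨t, ht⟩), ?_⟩
    show ρ (x' (s.equivFin ⟨t, ht⟩)) = _
    rw [hρ, hx', Equiv.symm_apply_apply, AlgEquiv.symm_apply_apply]
  have hadj : Algebra.adjoin A (s : Set D) ≤ E.comap D.val :=
    Algebra.adjoin_le (fun t ht => hsE t ht)
  refine ⟨E, ?_, eE.toRingEquiv.isLocalRing, ?_⟩
  · intro d hd
    haveI := hs
    obtain ⟨⟨x, y⟩, hxy⟩ := IsLocalization.surj
      ((IsUnit.submonoid D).comap (algebraMap (Algebra.adjoin A (s : Set D)) D)) (⟨d, hd⟩ : D)
    have hxE : ((x : D) : S) ∈ E := hadj x.2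
    have hyE : (((y : Algebra.adjoin A (s : Set D)) : D) : S) ∈ E := hadj (y : Algebra.adjoin A (s : Set D)).2
    have hyu : IsUnit ((y : Algebra.adjoin A (s : Set D)) : D) := y.2
    obtain ⟨l, hl⟩ := hyE
    have hlu : IsUnit l := hρunit l (by
      rw [show ρ l = _ from hl]
      exact hyu.map D.val)
    obtain ⟨l', hl'⟩ := hlu.exists_right_inv
    have h1 : d * (((y : Algebra.adjoin A (s : Set D)) : D) : S) = ((x : D) : S) :=
      congrArg (fun z : D => (z : S)) hxy
    have h2 : d = ((x : D) : S) * ρ l' := by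
      rw [← h1, mul_assoc, ← show ρ l = _ from hl, ← map_mul, hl', map_one, mul_one]
    rw [h2]
    exact E.mul_mem hxE ⟨l', rfl⟩
  · obtain ⟨C, _, _, q, _, hEt, hq, ⟨e'⟩⟩ := i.isEssentiallyEtale
    exact ⟨C, inferInstance, inferInstance, q, inferInstance, hEt, hq, ⟨eE.symm.trans e'⟩⟩

end Groth.Agent.S16442
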