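import Groth.Statements.S16490
import Groth.Agent.Lib.T2H3ReflNormal
import Groth.Agent.Lib.Helper23StalkLin

set_option autoImplicit false
set_option linter.style.haveILetI false
universe u
open CategoryTheory CategoryTheory.Limits AlgebraicGeometry TopologicalSpace
open VBPn

namespace Groth.Agent.S16490

/-- Let X be an integral locally Noetherian scheme all of whose local rings are regular, and let 0 → F →
E → Q → 0 be a short exact sequence of coherent O_X-modules in which E is reflexive (the canonical
map E → E^** is an isomorphism) and Q is torsion-free (every stalk Q_x is a torsion-free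
O_{X,x}-module). Then F is normal: for all open subsets V ⊆ U of X such that every point of U not in
V has local ring of dimension at least 2, the restriction map F(U) → F(V) is bijective. The
published statement is for coherent analytic sheaves on a complex manifold, a sheaf being called
normal when for every open U and every analytic subset A ⊆ U of codimension at least 2 the
restriction F(U) → F(U ∖ A) is bijective; this row is its statement for coherent sheaves on a
regular integral locally Noetherian scheme, with normality phrased through open subsets V ⊆ U whose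
complement in U consists of points with local ring of dimension at least 2, where the same argument
applies. -/
theorem result (X : Scheme.{u}) [IsIntegral X] [IsLocallyNoetherian X]
    (hreg : ∀ x : X, IsRegularLocalRing (X.presheaf.stalk x)) (S : ShortComplex X.Modules) (hS : S.ShortExact)
    (hF : Coh.IsCoh S.X₁) (hE : Coh.IsCoh S.X₂) (hQ : Coh.IsCoh S.X₃)
    (hErefl : RefHull.IsReflexive S.X₂) (hQtf : TorSh.IsTorsionFree S.X₃) :
    (∀ (U V : X.Opens) (hVU : V ≤ U), (∀ x : X, x ∈ U → x ∉ V → (2 : WithBot ℕ∞) ≤ ringKrullDim (X.presheaf.stalk x)) →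
        Function.Bijective (S.X₁.presheaf.map (homOfLE hVU).op)) := by
  haveI : S.X₁.IsQuasicoherent := hF.1
  haveI : SheafOfModules.IsFiniteType (R := X.ringCatSheaf) S.X₁ := hF.2
  rw [Groth.Agent.Lib.T2H3.NormalSh.normal_iff_depth S.X₁]
  intro x hdim
  haveI := hreg x
  haveI := hS.mono_f
  haveI : Module.Finite (X.presheaf.stalk x) (S.X₁.presheaf.stalk x) :=
    Groth.Agent.Lib.T2H3.ReflexiveHom.finite_stalk_of_isCoh _ hF x
  haveI : Module.Finite (X.presheaf.stalk x) (S.X₂.presheaf.stalk x) :=
    Groth.Agent.Lib.T2H3.ReflexiveHom.finite_stalk_of_isCoh _ hE x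
  haveI : Module.Finite (X.presheaf.stalk x) (S.X₃.presheaf.stalk x) :=
    Groth.Agent.Lib.T2H3.ReflexiveHom.finite_stalk_of_isCoh _ hQ x
  have hE2 : (2 : ℕ∞) ≤ LocCoh.depth (X.presheaf.stalk x) (S.X₂.presheaf.stalk x) :=
    Groth.Agent.Lib.T2H3.ReflNormal.depth_ge_two_of_isReflexiveAt hreg S.X₂ hE x
      ((Groth.Agent.Lib.T2H3.Reflexive.isReflexive_iff_forall_isReflexiveAt S.X₂ hE).mp hErefl x) hdim
  haveI : Module.IsTorsionFree (X.presheaf.stalk x) (S.X₃.presheaf.stalk x) := hQtf x
  have hQ1 : (1 : ℕ∞) ≤ LocCoh.depth (X.presheaf.stalk x) (S.X₃.presheaf.stalk x) :=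
    Groth.Agent.Lib.T2H3.ReflNormal.one_le_depth_of_isTorsionFree _
      (Groth.Agent.Lib.T2H3.ReflNormal.maximalIdeal_ne_bot_of_one_le_dim _
        (le_trans (by norm_num) hdim)) _
  have hinj := Groth.Agent.Lib.Helper23.StalkLin.stalkLin_injective S.f x
  have hex := Groth.Agent.Lib.Helper23.StalkLin.stalkLin_exact S hS x
  let e : S.X₁.presheaf.stalk x ≃ₗ[X.presheaf.stalk x]
      LinearMap.ker (Groth.Agent.Lib.Helper4.NormDelta.stalkLin S.g x) :=
    (LinearEquiv.ofInjective (Groth.Agent.Lib.Helper4.NormDelta.stalkLin S.f x) hinj).trans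
      (LinearEquiv.ofEq _ _ (LinearMap.exact_iff.mp hex).symm)
  unfold LocCoh.depth at hE2 hQ1 ⊢
  rw [Groth.Agent.Lib.Helper28.idealDepth_congr e _]
  exact (Groth.Agent.Lib.Helper28.idealDepth_ker _ (Groth.Agent.Lib.Helper4.NormDelta.stalkLin S.g x)).2
    hE2 hQ1

end Groth.Agent.S16490
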