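import Groth.Statements.S16491
import Groth.Agent.Lib.T2H3RankOneUFD
import Groth.Agent.Lib.T2H3RankOneGeom
import Groth.Agent.Lib.T2H3ReflexiveHom
import Groth.Agent.Lib.T2H4RegUFD
import Groth.Agent.Lib.Helper2RankLoc

set_option autoImplicit false
set_option linter.style.haveILetI false
universe u
open CategoryTheory CategoryTheory.Limits AlgebraicGeometry TopologicalSpace
open VBPn

namespace Groth.Agent.S16491

/-- Let X be an integral locally Noetherian scheme all of whose local rings are regular, and F a
coherent O_X-module which is reflexive (the canonical map F → F^** is an isomorphism) and of rank 1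
(F restricts to an invertible module on some dense open subset of X). Then F is invertible: every
point has an open neighbourhood on which F is isomorphic to the structure sheaf. The published
statement is for reflexive coherent analytic sheaves of rank 1 on a complex manifold; this row is
its statement on a regular integral locally Noetherian scheme, whose local rings are factorial as
the argument requires. -/
theorem result (X : Scheme.{u}) [IsIntegral X] [IsLocallyNoetherian X]
    (hreg : ∀ x : X, IsRegularLocalRing (X.presheaf.stalk x)) (F : X.Modules) (hF : Coh.IsCoh F)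
    (hrefl : RefHull.IsReflexive F) (hrk : RefHull.GenInvertible F) :
    PicF.IsInvertible F := by
  haveI : F.IsQuasicoherent := hF.1
  haveI : SheafOfModules.IsFiniteType (R := X.ringCatSheaf) F := hF.2
  haveI : SheafOfModules.IsFinitePresentation (R := X.ringCatSheaf) F :=
    Groth.Agent.Lib.T2H3.HomShQCoh.isFP_of_isCoh F hF
  intro x
  haveI hreflx : Module.IsReflexive (X.presheaf.stalk x) (F.presheaf.stalk x) :=
    (Groth.Agent.Lib.T2H3.Reflexive.isReflexive_iff_forall_isReflexiveAt F hF).mp hrefl x
  haveI : Module.Finite (X.presheaf.stalk x) (F.presheaf.stalk x) :=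
    Groth.Agent.Lib.T2H3.ReflexiveHom.finite_stalk_of_isCoh F hF x
  obtain ⟨hnt, H1⟩ := Groth.Agent.Lib.T2H3.RankOneGeom.stalk_data F hrk x
  haveI := hnt
  haveI := hreg x
  haveI : UniqueFactorizationMonoid (X.presheaf.stalk x) :=
    Groth.Agent.Lib.T2H4.RegUFD.uniqueFactorizationMonoid_of_isRegularLocalRing _
  obtain ⟨e⟩ := Groth.Agent.Lib.T2H3.RankOneUFD.nonempty_linearEquiv_of_isReflexive
    (R := X.presheaf.stalk x) (F.presheaf.stalk x) H1
  haveI hfree : Module.Free (X.presheaf.stalk x) (F.presheaf.stalk x) := Module.Free.of_equiv e.symm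
  have hflat : FlatMod.IsFlatAt F x := Module.Flat.of_free
  obtain ⟨D, m, hxD, ⟨ε⟩⟩ :=
    Groth.Agent.Lib.Helper2.LocFree.exists_restrict_iso_freeMod_of_isFlatAt F x hflat
  obtain ⟨-, hrk'⟩ :=
    Groth.Agent.Lib.Helper2.RankLoc.fibreRank_eq_of_restrict_iso_freeMod D.ι F ε ⟨x, hxD⟩
  have h1 : Module.finrank (X.presheaf.stalk x) (F.presheaf.stalk x) = 1 := by
    rw [e.finrank_eq, Module.finrank_self]
  have hm : m = 1 := by
    rw [← hrk', ← h1]
    exact Module.finrank_baseChange (R := IsLocalRing.ResidueField (X.presheaf.stalk x))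
      (S := X.presheaf.stalk x) (M' := F.presheaf.stalk x)
  subst hm
  exact ⟨D, hxD, ⟨ε ≪≫ (Limits.coproductUniqueIso
    (fun _ : Fin 1 => Coh.structureModule (↑D : Scheme.{u})))⟩⟩

end Groth.Agent.S16491
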