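import Groth.Statements.S1652
import Mathlib
import Groth.Agent.Lib.T2H6CurveDeg
import Groth.Agent.Lib.T2H6TensorDeg
import Groth.Agent.Lib.T2H6HiggsCurve
import Groth.Agent.Lib.T2H6CurveSS2

set_option autoImplicit false
universe u
open CategoryTheory CategoryTheory.Limits AlgebraicGeometry
open Variety

namespace Groth.Agent.S1652

/-- On a proper curve over a field, if L and M are invertible modules with L ⊗ M ≅ O_X and both L and M
have a nonzero global section, then L is isomorphic to the structure sheaf. -/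
theorem result (k : Type u) [Field k] (X : Scheme.{u}) [X.Over (Spec (CommRingCat.of k))]
    [IsIntegral X] [IsProper (X ↘ (Spec (CommRingCat.of k)))] (hdim : topologicalKrullDim X = 1)
    (L M : X.Modules) (hL : PicF.IsInvertible L) (hM : PicF.IsInvertible M) (hLM : ClSub.IsInverseOf L M)
    (s : Coh.structureModule X ⟶ L) (hs : s ≠ 0) (t : Coh.structureModule X ⟶ M) (ht : t ≠ 0) :
    Nonempty (L ≅ Coh.structureModule X) := by
  haveI := Groth.Agent.Lib.T2H6.CurveDeg.isLocallyNoetherian (X := X) k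
  obtain ⟨e⟩ := hLM
  have hL1 := Groth.Agent.Lib.Helper23.SecTw.isFinLocFreeOfRank_one_of_isInvertible L hL
  have hM1 := Groth.Agent.Lib.Helper23.SecTw.isFinLocFreeOfRank_one_of_isInvertible M hM
  have hLc := Groth.Agent.Lib.T2H6.CurveDeg.isCoh_of_isInvertible L hL
  have hMc := Groth.Agent.Lib.T2H6.CurveDeg.isCoh_of_isInvertible M hM
  have h1 := Groth.Agent.Lib.T2H6.TensorDeg.tensor_euler k hdim M 1 hM1 L hLc
  rw [Groth.Agent.Lib.T2H6.CurveSS2.grank_of_isFinLocFreeOfRank L 1 hL1,
    Groth.Agent.Lib.T2H6.HiggsCurve.euler_eq_of_iso k e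
      (Groth.Agent.Lib.T2H6.TensorDeg.isCoh_tensor L M hLc hMc)] at h1
  have h2 := Groth.Agent.Lib.T2H6.CurveDeg.deg_nonneg k hdim M hM t ht
  have h3 : Curv2.deg k X L 1 ≤ 0 := by
    unfold Curv2.deg
    push_cast at h1 ⊢
    linarith
  haveI := Groth.Agent.Lib.T2H6.CurveDeg.isIso_of_deg_nonpos k hdim L hL s hs h3
  exact ⟨(asIso s).symm⟩

end Groth.Agent.S1652
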