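import Groth.Statements.S16548
import Mathlib
import Groth.Agent.Lib.T2H3StalkSmooth
import Groth.Agent.Lib.T2H3ResSep
import Groth.Agent.Lib.Helper19FSField
import Groth.Agent.Lib.Helper7Cartier2

set_option autoImplicit false
set_option linter.style.haveILetI false
universe u
open CategoryTheory CategoryTheory.Limits AlgebraicGeometry
attribute [local instance] Curv2.resAlgebra
open Curves

namespace Groth.Agent.S16548

/-- Let k be a field, X and Y smooth over k of relative dimension one (not necessarily proper), f : X ->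
Y a finite k-morphism and x a closed point of X, with y = f(x). Suppose f is tamely ramified at x:
m_y O_{X,x} = m_x^e for an integer e ≥ 2 prime to the characteristic of k, and κ(x) is separable
over κ(y). Then κ(x) is separable over k. (Consequently the field generated over k by the residue
fields of all such points is Galois over k.) -/
theorem result (k : Type u) [Field k]
    (X Y : Scheme.{u}) [X.Over (Spec (CommRingCat.of k))] [Y.Over (Spec (CommRingCat.of k))]
    [SmoothOfRelativeDimension 1 (X ↘ Spec (CommRingCat.of k))]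
    [SmoothOfRelativeDimension 1 (Y ↘ Spec (CommRingCat.of k))]
    (f : X ⟶ Y) [IsFinite f] (hf : f ≫ (Y ↘ Spec (CommRingCat.of k)) = X ↘ Spec (CommRingCat.of k))
    (x : X) (hx : IsClosed ({x} : Set X)) (e : ℕ)
    (he : (IsLocalRing.maximalIdeal (Y.presheaf.stalk (f.base x))).map (f.stalkMap x).hom =
      IsLocalRing.maximalIdeal (X.presheaf.stalk x) ^ e)
    (h2 : 2 ≤ e) (hp : ¬ ringChar k ∣ e)
    (hsep : @Algebra.IsSeparable (Y.residueField (f.base x)) (X.residueField x) _ _
      (f.residueFieldMap x).hom.toAlgebra) :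
    Algebra.IsSeparable k (X.residueField x) := by
  haveI hsmX : Smooth (X ↘ Spec (CommRingCat.of k)) := SmoothOfRelativeDimension.smooth 1 _
  haveI hlfpX : LocallyOfFinitePresentation (X ↘ Spec (CommRingCat.of k)) := inferInstance
  haveI hlftX : LocallyOfFiniteType (X ↘ Spec (CommRingCat.of k)) := inferInstance
  letI algkB : Algebra k (X.presheaf.stalk x) := Curv2.stalkAlgebra k X x
  letI algkA : Algebra k (Y.presheaf.stalk (f x)) := Curv2.stalkAlgebra k Y (f x)
  letI algAB : Algebra (Y.presheaf.stalk (f x)) (X.presheaf.stalk x) :=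
    (f.stalkMap x).hom.toAlgebra
  haveI : IsScalarTower k (Y.presheaf.stalk (f x)) (X.presheaf.stalk x) :=
    IsScalarTower.of_algebraMap_eq'
      (Groth.Agent.Lib.T2H3.StalkSmooth.stalkMap_comp_stalkMap k X Y f hf x).symm
  haveI hloc : IsLocalHom (algebraMap (Y.presheaf.stalk (f x)) (X.presheaf.stalk x)) :=
    inferInstanceAs (IsLocalHom (f.stalkMap x).hom)
  haveI hfsB : Algebra.FormallySmooth k (X.presheaf.stalk x) := by
    have hmem : x ∈ (X ↘ Spec (CommRingCat.of k)).smoothLocus := by
      rw [Scheme.Hom.smoothLocus_eq_top]; trivial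
    exact (Groth.Agent.Lib.T2H3.StalkSmooth.mem_smoothLocus_iff_formallySmooth_stalk k X x).mp hmem
  have hle : (IsLocalRing.maximalIdeal (Y.presheaf.stalk (f x))).map
      (algebraMap (Y.presheaf.stalk (f x)) (X.presheaf.stalk x)) ≤
      IsLocalRing.maximalIdeal (X.presheaf.stalk x) ^ 2 := by
    have h := he
    change (IsLocalRing.maximalIdeal (Y.presheaf.stalk (f x))).map
      (algebraMap (Y.presheaf.stalk (f x)) (X.presheaf.stalk x)) = _ at h
    rw [h]
    exact Ideal.pow_le_pow_right h2
  haveI hsep' : Algebra.IsSeparable (IsLocalRing.ResidueField (Y.presheaf.stalk (f x)))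
      (IsLocalRing.ResidueField (X.presheaf.stalk x)) := by
    have hinst2 : (f.residueFieldMap x).hom.toAlgebra =
        (IsLocalRing.ResidueField.instAlgebra :
          Algebra (IsLocalRing.ResidueField (Y.presheaf.stalk (f x)))
          (IsLocalRing.ResidueField (X.presheaf.stalk x))) :=
      Algebra.algebra_ext _ _ (fun r => rfl)
    exact Eq.mp (congrArg (fun inst => @Algebra.IsSeparable
      (IsLocalRing.ResidueField (Y.presheaf.stalk (f x)))
      (IsLocalRing.ResidueField (X.presheaf.stalk x)) _ _ inst) hinst2) hsep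
  haveI : Algebra.FormallyEtale (IsLocalRing.ResidueField (Y.presheaf.stalk (f x)))
      (IsLocalRing.ResidueField (X.presheaf.stalk x)) := Algebra.FormallyEtale.of_isSeparable _ _
  haveI : Algebra.FormallySmooth (IsLocalRing.ResidueField (Y.presheaf.stalk (f x)))
      (IsLocalRing.ResidueField (X.presheaf.stalk x)) := inferInstance
  haveI hfsκ : Algebra.FormallySmooth k (IsLocalRing.ResidueField (X.presheaf.stalk x)) :=
    Groth.Agent.Lib.T2H3.ResSep.formallySmooth_residueField_of_map_le_sq k
      (Y.presheaf.stalk (f x)) (X.presheaf.stalk x) hle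
  haveI hgr : Algebra.IsGeometricallyReduced k (IsLocalRing.ResidueField (X.presheaf.stalk x)) :=
    Groth.Agent.Lib.Helper19.PBasis.formallySmooth_field_iff.mp hfsκ
  haveI halg : Algebra.IsAlgebraic k (IsLocalRing.ResidueField (X.presheaf.stalk x)) :=
    Groth.Agent.Lib.T2H3.StalkSmooth.isAlgebraic_residueField_of_isClosed k X x hx
  haveI heftB : Algebra.EssFiniteType k (X.presheaf.stalk x) :=
    Groth.Agent.Lib.T2H3.StalkSmooth.essFiniteType_stalk k X x
  haveI heftκ : Algebra.EssFiniteType k (IsLocalRing.ResidueField (X.presheaf.stalk x)) :=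
    Algebra.EssFiniteType.comp k (X.presheaf.stalk x) _
  have hres : Algebra.IsSeparable k (IsLocalRing.ResidueField (X.presheaf.stalk x)) :=
    Groth.Agent.Lib.Helper7.ExalLib.isSeparable_of_isGeometricallyReduced_of_isAlgebraic
  have hinst : Curv2.resAlgebra k X x =
      (inferInstance : Algebra k (IsLocalRing.ResidueField (X.presheaf.stalk x))) :=
    Algebra.algebra_ext _ _ (fun r => rfl)
  rw [hinst]
  exact hres

end Groth.Agent.S16548
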