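import Groth.Statements.S16576
import Groth.Agent.Lib.T2H2DualDepth

set_option autoImplicit false
universe u
open CAlg

namespace Groth.Agent.S16576

/-- Let A → B be a flat local homomorphism of Noetherian local rings and let Â, B̂ be their completions
at the maximal ideals. If every irreducible component of Spec Â has dimension at least 2, then every
irreducible component of Spec B̂ has dimension at least 2. (This is the c_2 condition in its
completed form; globally: the preimage of a c_2 closed subset under a flat morphism of Noetherian
schemes is c_2, in particular the condition is invariant under Zariski and étale localization.) -/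
theorem result
    (A B : Type u) [CommRing A] [CommRing B] [IsNoetherianRing A] [IsNoetherianRing B]
    [IsLocalRing A] [IsLocalRing B] (f : A →+* B) [IsLocalHom f] (hf : f.Flat)
    (hA : ∀ q ∈ minimalPrimes (AdicCompletion (IsLocalRing.maximalIdeal A) A), (2 : WithBot ℕ∞) ≤ ringKrullDim (AdicCompletion (IsLocalRing.maximalIdeal A) A ⧸ q)) :
    ∀ q ∈ minimalPrimes (AdicCompletion (IsLocalRing.maximalIdeal B) B), (2 : WithBot ℕ∞) ≤ ringKrullDim (AdicCompletion (IsLocalRing.maximalIdeal B) B ⧸ q) := by
  let _ : Algebra A B := f.toAlgebra
  have hloc : IsLocalHom (algebraMap A B) := ‹IsLocalHom f›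
  have hflatAB : Module.Flat A B := hf
  obtain ⟨alg, -, hlocc, hflat⟩ :=
    Groth.Agent.Lib.Helper28.exists_algebra_adicCompletion_of_isLocalHom A B
  have hflatc := hflat hflatAB
  have hNA : IsNoetherianRing (AdicCompletion (IsLocalRing.maximalIdeal A) A) :=
    Groth.Agent.Lib.Helper19.isNoetherianRing_adicCompletion _
  have hNB : IsNoetherianRing (AdicCompletion (IsLocalRing.maximalIdeal B) B) :=
    Groth.Agent.Lib.Helper19.isNoetherianRing_adicCompletion _
  have hcomplA := Groth.Agent.Lib.Helper28.isAdicComplete_maximalIdeal_adicCompletion A
  exact Groth.Agent.Lib.T2H2.DualDepth.two_le_ringKrullDim_quotient_of_flat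
    (AdicCompletion (IsLocalRing.maximalIdeal A) A) (AdicCompletion (IsLocalRing.maximalIdeal B) B) hA

end Groth.Agent.S16576
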