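import Groth.Statements.S16615
import Groth.Agent.Lib.T2H7QtBcC

set_option autoImplicit false
open CategoryTheory MonoidalCategory CartesianMonoidalCategory MonObj GrpObj AlgebraicGeometry
universe u
open SGA3x

namespace Groth.Agent.S16615

/-- Over an arbitrary scheme S, the quotient Q = T/H of an S-torus T by a subgroup scheme H of (finite)
multiplicative type, when represented by an S-group Q with a homomorphism q : T ⟶ Q which is an fppf
covering identifying T ×_S H with T ×_Q T, is again a torus. -/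
theorem result {S : Scheme.{u}} {T H Q : Over S} [GrpObj T] [GrpObj H]
    [GrpObj Q] (hT : Red.IsTorus T) (i : H ⟶ T) [IsMonHom i] [Mono i] (hH : SGA3x.IsMultTypeFT H)
    (q : T ⟶ Q) [IsMonHom q] (hq : RedSub.IsQuotient i q) : Red.IsTorus Q := by
  obtain ⟨S', f, hfl, hsj, hcov, hloc⟩ := hT
  refine ⟨S', f, hfl, hsj, hcov, ?_⟩
  intro s'
  obtain ⟨U₀, hsU₀, r, hr⟩ := hloc s'
  obtain ⟨W, hzW, r', hr'⟩ := Groth.Agent.Lib.T2H7.QtBc.quot_local_gen i hH q hq (U₀.ι ≫ f) r hr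
    (⟨s', hsU₀⟩ : U₀.toScheme)
  refine ⟨U₀.ι ''ᵁ W, ⟨⟨s', hsU₀⟩, hzW, rfl⟩, r', ?_⟩
  have hd : (U₀.ι.isoImage W).inv ≫ (W.ι ≫ U₀.ι ≫ f) = (U₀.ι ''ᵁ W).ι ≫ f := by
    rw [← Category.assoc W.ι, ← Category.assoc, Scheme.Hom.isoImage_inv_ι]
  exact Groth.Agent.Lib.T2H7.ToriMono.split_of_comp (U₀.ι.isoImage W).inv (W.ι ≫ U₀.ι ≫ f) hd Q
    (Fin r' → ℤ) hr'

end Groth.Agent.S16615
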