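import Groth.Statements.S16616
import Groth.Agent.Lib.T2H7QtBcC

set_option autoImplicit false
open CategoryTheory MonoidalCategory CartesianMonoidalCategory MonObj GrpObj AlgebraicGeometry
universe u
open SGA3x

namespace Groth.Agent.S16616

/-- Over an arbitrary scheme S, let T be a locally split S-torus (Zariski-locally on S isomorphic to
split tori), H a subgroup scheme of T of (finite) multiplicative type and q : T ⟶ Q a homomorphism
presenting Q as the fppf quotient T/H. Then Q is a locally split torus. -/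
theorem result {S : Scheme.{u}} {T H Q : Over S} [GrpObj T]
    [GrpObj H] [GrpObj Q] (hT : (∀ s : ↥S, ∃ U : S.Opens, s ∈ U ∧ ∃ r : ℕ, Red.IsSplitTorusWith (Fin r → ℤ) (Red.bc U.ι T)))
    (i : H ⟶ T) [IsMonHom i] [Mono i] (hH : SGA3x.IsMultTypeFT H) (q : T ⟶ Q) [IsMonHom q]
    (hq : RedSub.IsQuotient i q) :
    (∀ s : ↥S, ∃ U : S.Opens, s ∈ U ∧ ∃ r : ℕ, Red.IsSplitTorusWith (Fin r → ℤ) (Red.bc U.ι Q)) := by
  intro s
  obtain ⟨U₀, hsU₀, r, hr⟩ := hT s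
  obtain ⟨W, hzW, r', hr'⟩ := Groth.Agent.Lib.T2H7.QtBc.quot_local_gen i hH q hq U₀.ι r hr
    (⟨s, hsU₀⟩ : U₀.toScheme)
  refine ⟨U₀.ι ''ᵁ W, ⟨⟨s, hsU₀⟩, hzW, rfl⟩, r', ?_⟩
  have hd : (U₀.ι.isoImage W).inv ≫ (W.ι ≫ U₀.ι) = (U₀.ι ''ᵁ W).ι :=
    Scheme.Hom.isoImage_inv_ι _ _
  exact Groth.Agent.Lib.T2H7.ToriMono.split_of_comp (U₀.ι.isoImage W).inv (W.ι ≫ U₀.ι) hd Q
    (Fin r' → ℤ) hr'

end Groth.Agent.S16616
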