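import Groth.Statements.S16617
import Groth.Agent.Lib.T2H7QuotSplitC

set_option autoImplicit false
open CategoryTheory MonoidalCategory CartesianMonoidalCategory MonObj GrpObj AlgebraicGeometry
universe u
open SGA3x

namespace Groth.Agent.S16617

/-- Let S be a connected scheme, T ≅ D_S(ℤ^r) a split S-torus, H a subgroup scheme of T of (finite)
multiplicative type and q : T ⟶ Q a homomorphism presenting Q as the fppf quotient T/H. Then Q is a
split torus of rank at most r. -/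
theorem result {S : Scheme.{u}} [ConnectedSpace ↥S]
    {T H Q : Over S} [GrpObj T] [GrpObj H] [GrpObj Q] (r : ℕ) (hT : Red.IsSplitTorusWith (Fin r → ℤ) T)
    (i : H ⟶ T) [IsMonHom i] [Mono i] (hH : SGA3x.IsMultTypeFT H) (q : T ⟶ Q) [IsMonHom q]
    (hq : RedSub.IsQuotient i q) : ∃ r' : ℕ, r' ≤ r ∧ Red.IsSplitTorusWith (Fin r' → ℤ) Q := by
  obtain ⟨e, hemon⟩ := (Groth.Agent.Lib.T2H7.GrpIsoBC.nonempty_grpIso_iff _ _).1 hT
  haveI := hemon
  haveI : IsMonHom e.symm.hom := by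
    rw [Iso.symm_hom]; infer_instance
  have hq₁ : RedSub.IsQuotient (i ≫ e.hom) (e.symm.hom ≫ q) := by
    refine Groth.Agent.Lib.T2H7.QuotSplit.isQuotient_of_iso i q hq e.symm (Iso.refl H)
      (i ≫ e.hom) ?_
    rw [Iso.symm_hom, Category.assoc, Iso.hom_inv_id, Category.comp_id, Iso.refl_hom,
      Category.id_comp]
  obtain ⟨K, ⟨e₁⟩⟩ := Groth.Agent.Lib.T2H7.QuotSplit.quot_split (i ≫ e.hom) hH
    (e.symm.hom ≫ q) hq₁
  obtain ⟨r', hr', ⟨e₂⟩⟩ := Groth.Agent.Lib.T2H7.QuotSplit.split_of_subgroup S r K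
  exact ⟨r', hr', ⟨e₁ ≪≫ e₂⟩⟩

end Groth.Agent.S16617
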