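import Groth.Statements.S16620
import Groth.Agent.Lib.T2H7ImgSplit

set_option autoImplicit false
open CategoryTheory MonoidalCategory CartesianMonoidalCategory MonObj GrpObj AlgebraicGeometry
universe u
open SGA3x

namespace Groth.Agent.S16620

/-- Let S be a connected, normal, locally Noetherian scheme, T an S-torus and T₀ ⟶ T its unique maximal
split subtorus, i.e. a split subtorus through which every split subtorus of T factors. Then every
cocharacter λ : 𝔾_m ⟶ T over S factors through T₀; this is the equality X_*(T₀)(S) = X_*(T)(S) of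
groups of cocharacters defined over S. -/
theorem result {S : Scheme.{u}} [ConnectedSpace ↥S]
    [IsLocallyNoetherian S] (hnorm : ∀ x : ↥S, IsDomain (S.presheaf.stalk x) ∧ IsIntegrallyClosed (S.presheaf.stalk x))
    {T T₀ : Over S} [GrpObj T] [GrpObj T₀] (hT : Red.IsTorus T) (j₀ : T₀ ⟶ T) [IsMonHom j₀] [Mono j₀] (r₀ : ℕ)
    (hT₀ : Red.IsSplitTorusWith (Fin r₀ → ℤ) T₀)
    (hmax : ∀ (T' : Over S) [GrpObj T'] (j' : T' ⟶ T) [IsMonHom j'] [Mono j'] (r' : ℕ),
      Red.IsSplitTorusWith (Fin r' → ℤ) T' → ∃ g : T' ⟶ T₀, g ≫ j₀ = j')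
    (lam : Red.Gm S ⟶ T) [IsMonHom lam] : ∃ mu : Red.Gm S ⟶ T₀, mu ≫ j₀ = lam := by
  have hG : SGA3x.IsMultTypeFT T := by
    obtain ⟨S', f, hfl, hsj, hcov, hloc⟩ := hT
    refine ⟨S', f, hfl, hsj, hcov, fun s' => ?_⟩
    obtain ⟨U, hU, r, hr⟩ := hloc s'
    exact ⟨U, hU, Fin r → ℤ, inferInstance, Module.Finite.iff_addGroup_fg.mp inferInstance, hr⟩
  haveI : AddGroup.FG ℤ := Module.Finite.iff_addGroup_fg.mp inferInstance
  obtain ⟨K, dInc, mbar, hdInc, hmbarmon, hmbarmono, hmbar⟩ :=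
    Groth.Agent.Lib.T2H7.ImgSplit.image_split hG lam
  haveI := hmbarmon
  haveI := hmbarmono
  obtain ⟨r'', hT''⟩ := Groth.Agent.Lib.T2H7.ImgSplit.split_of_subgroup_free (S := S) ℤ K
  obtain ⟨g, hg⟩ := hmax (Red.DS S K) mbar r'' hT''
  exact ⟨dInc ≫ g, by rw [Category.assoc, hg, hmbar]⟩

end Groth.Agent.S16620
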