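import Groth.Statements.S16627
import Mathlib
import Groth.Agent.Lib.T2H5Twist
import Groth.Agent.Lib.T2H5HHSub
import Groth.Agent.Lib.Helper23TensorQCoh
import Groth.Agent.S0022
-- import your own Groth.Agent.* helpers here

set_option autoImplicit false
universe u
open Variety

namespace Groth.Agent.S16627

open Groth.Agent.Lib.T2H5.Twist Groth.Agent.Lib.T2H5.HHSub in
open AlgebraicGeometry CategoryTheory CategoryTheory.Limits in
/-- Let k be a field, F a coherent module on projective n-space P^n_k which is m-regular, and ι : F ⊗
O(-1) → F a monomorphism of O-modules (such as multiplication by a linear form that is a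
nonzerodivisor on F, i.e. a hyperplane avoiding the associated points of F). Then the cokernel of ι
— the restriction of F to the hyperplane, as a module on P^n_k — is again m-regular. (Stated for an
arbitrary monomorphism F(-1) → F and an arbitrary ground field.) -/
theorem result (k : Type u) [Field k] (n : ℕ)
    (F : (CohB1.ProjSpace n k).Modules) (hF : Coh.IsCoh F) (m : ℤ) (hreg : Curv2.IsMRegular k n F m)
    (ι : CohB1.tensorMod F (Twist.twistProjSpace n k (-1)) ⟶ F) [Mono ι] :
    Curv2.IsMRegular k n (cokernel ι) m := by
  intro i hi hin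
  have hS : (ShortComplex.mk ι (cokernel.π ι) (cokernel.condition ι)).ShortExact :=
    { exact := ShortComplex.exact_cokernel ι }
  have hS' := shortExact_map_tw n k (m - i) _ hS
  refine subsingleton_X₃ _ hS' i (hreg i hi hin) ?_
  -- the first term is `F(m - i - 1)`
  let e : ((ShortComplex.mk ι (cokernel.π ι) (cokernel.condition ι)).map (tw n k (m - i))).X₁ ≅
      CohB1.tensorMod F (Twist.twistProjSpace n k (m - (i + 1 : ℕ))) :=
    (twAdd n k (-1) (m - i) (m - (i + 1 : ℕ)) (by push_cast; omega)).app F
  refine Groth.Agent.Lib.T2H5.PnStruct.subsingleton_HH_of_iso e.symm (i + 1) ?_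
  by_cases h : i + 1 ≤ n
  · exact hreg (i + 1) (by omega) h
  · haveI : F.IsQuasicoherent := hF.1
    haveI : (Twist.twistProjSpace n k (m - (i + 1 : ℕ))).IsQuasicoherent :=
      (Groth.Agent.Lib.T2H5.PnFinite.isCoh_twist n k (m - (i + 1 : ℕ))).1
    haveI : Coh.IsQCoh (CohB1.tensorMod F (Twist.twistProjSpace n k (m - (i + 1 : ℕ)))) :=
      Groth.Agent.Lib.Helper23.TensorQCoh.isQuasicoherent_tensorMod _ _
    exact Groth.Agent.S0022.result n k _ (i + 1) (by omega)

end Groth.Agent.S16627
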