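import Mathlib
import Groth.Statements.S16675
import Groth.Agent.Lib.Helper11KerPair

set_option autoImplicit false
universe u
open CategoryTheory CategoryTheory.Limits MonoidalCategory CartesianMonoidalCategory MonObj GrpObj AlgebraicGeometry
open AbVar

namespace Groth.Agent.S16675

theorem result (k : Type u) [Field k]
    (X Y : Over (Spec (CommRingCat.of k)))
    [GrpObj X] [IsProper X.hom] [GeometricallyIntegral X.hom]
    [GrpObj Y] [IsProper Y.hom] [GeometricallyIntegral Y.hom]
    (f : X ⟶ Y) [IsMonHom f] [IsFinite f.left] [Flat f.left] [Surjective f.left]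
    (N : Over (Spec (CommRingCat.of k))) (i : N ⟶ X) (hN : AlgGrp.IsKernel i f) :
    Etale f.left ↔ Etale N.hom := by
  have hNhom : N.hom = (toUnit N).left := by
    have := Over.w (toUnit N)
    rw [← this]
    exact (Category.comp_id _).symm
  constructor
  · intro hf
    have sq : IsPullback i.left (toUnit N).left f.left (η[Y]).left := hN.map (Over.forget _)
    rw [hNhom]
    exact MorphismProperty.of_isPullback (P := @Etale) sq hf
  · intro hNe
    have sq0 : IsPullback (fst X N).left (snd X N).left X.hom N.hom :=
      IsPullback.of_hasPullback X.hom N.hom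
    have hfst : Etale (fst X N).left :=
      MorphismProperty.of_isPullback (P := @Etale) sq0.flip hNe
    have sq : IsPullback (fst X N).left ((X ◁ i) ≫ μ[X]).left f.left f.left :=
      (Groth.Agent.Lib.Helper11KerPair.isPullback_of_isKernel i f hN).map (Over.forget _)
    exact MorphismProperty.of_isPullback_of_descendsAlong (P := @Etale)
      (Q := @Surjective ⊓ @Flat ⊓ @QuasiCompact) sq
      ⟨⟨inferInstance, inferInstance⟩, inferInstance⟩ hfst

end Groth.Agent.S16675
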