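import Mathlib
import Groth.Statements.S16676
import Groth.Agent.Lib.Helper11KerPair

set_option autoImplicit false
universe u
open CategoryTheory CategoryTheory.Limits MonoidalCategory CartesianMonoidalCategory MonObj GrpObj AlgebraicGeometry
open AbVar

namespace Groth.Agent.S16676

/-- a morphism with a surjective section is universally injective -/
theorem universallyInjective_of_surjective_section {X Y : Scheme.{u}} (p : X ⟶ Y) (s : Y ⟶ X)
    (hs : s ≫ p = 𝟙 Y) [Surjective s] : UniversallyInjective p := by
  rw [universallyInjective_eq]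
  intro X' Y' g b p' sq
  have hw : (𝟙 Y') ≫ b = (b ≫ s) ≫ p := by rw [Category.assoc, hs, Category.comp_id, Category.id_comp]
  have h1 : sq.lift (𝟙 Y') (b ≫ s) hw ≫ p' = 𝟙 Y' := sq.lift_fst _ _ _
  have h2 : sq.lift (𝟙 Y') (b ≫ s) hw ≫ g = b ≫ s := sq.lift_snd _ _ _
  have big : IsPullback (sq.lift (𝟙 Y') (b ≫ s) hw ≫ p') b b (s ≫ p) := by
    rw [h1, hs]; exact IsPullback.id_horiz b
  have sq' : IsPullback (sq.lift (𝟙 Y') (b ≫ s) hw) b g s := IsPullback.of_right big h2 sq
  have hsurj : Surjective (sq.lift (𝟙 Y') (b ≫ s) hw) :=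
    MorphismProperty.of_isPullback (P := @Surjective) sq'.flip inferInstance
  show Function.Injective p'
  intro x y hxy
  obtain ⟨a, rfl⟩ := (sq.lift (𝟙 Y') (b ≫ s) hw).surjective x
  obtain ⟨c, rfl⟩ := (sq.lift (𝟙 Y') (b ≫ s) hw).surjective y
  have e : ∀ a, p' (sq.lift (𝟙 Y') (b ≫ s) hw a) = a := by
    intro a
    rw [← Scheme.Hom.comp_apply, h1]; rfl
  rw [e, e] at hxy
  rw [hxy]

theorem result (k : Type u) [Field k]
    (X Y : Over (Spec (CommRingCat.of k)))
    [GrpObj X] [IsProper X.hom] [GeometricallyIntegral X.hom]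
    [GrpObj Y] [IsProper Y.hom] [GeometricallyIntegral Y.hom]
    (f : X ⟶ Y) [IsMonHom f] [IsFinite f.left] [Flat f.left] [Surjective f.left]
    (N : Over (Spec (CommRingCat.of k))) (i : N ⟶ X) (hN : AlgGrp.IsKernel i f) :
    UniversallyInjective f.left ↔ ConnectedSpace ↥N.left := by
  have hNhom : N.hom = (toUnit N).left := by
    have := Over.w (toUnit N)
    rw [← this]
    exact (Category.comp_id _).symm
  have sqN : IsPullback i.left (toUnit N).left f.left (η[Y]).left := hN.map (Over.forget _)
  -- the unit point of N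
  have hw : η[X] ≫ f = 𝟙 _ ≫ η[Y] := by rw [IsMonHom.one_hom, Category.id_comp]
  have he : hN.lift η[X] (𝟙 _) hw ≫ toUnit N = 𝟙 _ := hN.lift_snd _ _ _
  have he' : (hN.lift η[X] (𝟙 _) hw).left ≫ N.hom = 𝟙 _ := by
    rw [hNhom]
    exact congrArg (fun m => m.left) he
  haveI : Nonempty ↥(Spec (CommRingCat.of k)) :=
    inferInstanceAs (Nonempty (PrimeSpectrum k))
  haveI : Subsingleton ↥(Spec (CommRingCat.of k)) :=
    inferInstanceAs (Subsingleton (PrimeSpectrum k))
  haveI : Nonempty ↥(𝟙_ (Over (Spec (CommRingCat.of k)))).left :=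
    inferInstanceAs (Nonempty (PrimeSpectrum k))
  haveI hne : Nonempty ↥N.left := ⟨(hN.lift η[X] (𝟙 _) hw).left (Classical.arbitrary _)⟩
  constructor
  · intro hf
    have hNi : UniversallyInjective N.hom := by
      rw [hNhom]
      exact MorphismProperty.of_isPullback (P := @UniversallyInjective) sqN hf
    haveI : Subsingleton ↥N.left := N.hom.injective.subsingleton
    exact { toPreconnectedSpace := inferInstance, toNonempty := hne }
  · intro hconn
    have hNfin : IsFinite N.hom := by
      rw [hNhom]
      exact MorphismProperty.of_isPullback (P := @IsFinite) sqN inferInstance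
    haveI : DiscreteTopology ↥N.left := by
      haveI : DiscreteTopology ↥(Spec (CommRingCat.of k)) :=
        inferInstanceAs (DiscreteTopology (PrimeSpectrum k))
      have h := N.hom.isDiscrete_preimage (s := Set.univ) (isDiscrete_univ_iff.2 inferInstance)
      rw [Set.preimage_univ] at h
      exact isDiscrete_univ_iff.1 h
    haveI : Subsingleton ↥N.left := PreconnectedSpace.trivial_of_discrete
    haveI : Surjective (hN.lift η[X] (𝟙 _) hw).left :=
      ⟨fun x => ⟨Classical.arbitrary _, Subsingleton.elim _ _⟩⟩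
    have hNi : UniversallyInjective N.hom :=
      universallyInjective_of_surjective_section N.hom _ he'
    have sq0 : IsPullback (fst X N).left (snd X N).left X.hom N.hom :=
      IsPullback.of_hasPullback X.hom N.hom
    have hfst : UniversallyInjective (fst X N).left :=
      MorphismProperty.of_isPullback (P := @UniversallyInjective) sq0.flip hNi
    have sq : IsPullback (fst X N).left ((X ◁ i) ≫ μ[X]).left f.left f.left :=
      (Groth.Agent.Lib.Helper11KerPair.isPullback_of_isKernel i f hN).map (Over.forget _)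
    exact MorphismProperty.of_isPullback_of_descendsAlong (P := @UniversallyInjective)
      (Q := @Surjective ⊓ @Flat ⊓ @QuasiCompact) sq
      ⟨⟨inferInstance, inferInstance⟩, inferInstance⟩ hfst

end Groth.Agent.S16676
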