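import Groth.Statements.S16697
import Mathlib
import Groth.Agent.Lib.T2H6WNASep

set_option autoImplicit false
universe u
open AlgSt AlgSt.IsWellNighAffine

namespace Groth.Agent.S16697

open CategoryTheory AlgebraicGeometry in
/-- A well-nigh affine algebraic stack is quasi-compact, quasi-DM over `S` and separated over `S` (for
`S = Spec ℤ` these are the absolute notions of the published statement). The characterisation by
presentations `[U/R]` with `U`, `R` affine and `s`, `t` finite locally free is not stated. -/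
theorem result (S : Scheme.{u}) (𝒳 : AlgSt.Cat S)
    (h𝒳 : AlgSt.IsAlgStack Scheme.fppfPrecoverage 𝒳) (hw : AlgSt.IsWellNighAffine 𝒳) :
    AlgSt.IsQuasiCompact 𝒳 ∧ AlgSt.IsQuasiDMOver 𝒳 ∧ AlgSt.IsSeparatedOver 𝒳 := by
  obtain ⟨U, x, hU, hx⟩ := hw
  have hx₁ : AlgSt.RepByAlgSpWith AlgSp.IsSurjectiveMor x :=
    Groth.Agent.Lib.Helper15PtsTop.repByAlgSpWith_mono
      (inf_le_left.trans (inf_le_left.trans inf_le_left)) hx
  have hx₂ : AlgSt.RepByAlgSpWith (AlgSp.LocP @Flat) x :=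
    Groth.Agent.Lib.Helper15PtsTop.repByAlgSpWith_mono
      (inf_le_left.trans (inf_le_left.trans inf_le_right)) hx
  have hx₃ : AlgSt.RepByAlgSpWith AlgSp.IsFiniteMor x :=
    Groth.Agent.Lib.Helper15PtsTop.repByAlgSpWith_mono (inf_le_left.trans inf_le_right) hx
  have hx₄ : AlgSt.RepByAlgSpWith (AlgSp.LocP @LocallyOfFinitePresentation) x :=
    Groth.Agent.Lib.Helper15PtsTop.repByAlgSpWith_mono inf_le_right hx
  exact ⟨Groth.Agent.Lib.T2H6.WNASep.isQuasiCompact_of_chart h𝒳 hU x hx₁,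
    Groth.Agent.Lib.T2H6.WNASep.isQuasiDMOver_of_chart h𝒳 x hx₂ hx₄ hx₁ hx₃,
    Groth.Agent.Lib.T2H6.WNASep.isSeparatedOver_of_chart h𝒳 hU x hx₂ hx₄ hx₁ hx₃⟩

end Groth.Agent.S16697
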