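import Groth.Statements.S16761
import Mathlib
import Groth.Agent.Lib.T2H5BC0MainB
-- import your own Groth.Agent.* helpers here

set_option autoImplicit false
universe u
open Coherent

namespace Groth.Agent.S16761

open AlgebraicGeometry CategoryTheory CategoryTheory.Limits in
/-- Let f : X → S be proper and of finite presentation, F an O_X-module of finite presentation which is
flat over S, and d a natural number with dim X_s ≤ d for all s. Then the set S' of points s with
H^j(X_s, F_s) = 0 for all j ≥ 1 is open, and over every open U ⊆ S' the sheaves R^j f_* F (j ≥ 1)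
restrict to zero, f_* F restricts to a finite locally free module, and the formation of f_* F
commutes with base change: for every cartesian square with base a morphism g : T → S whose image
lies in U, with f' : X ×_S T → T and g' : X ×_S T → X the projections, the base change map g^* f_* F
→ f'_* g'^* F is an isomorphism. (The published statement asks only that f be proper; without finite
presentation the assertions on f_* F fail — for a finite flat morphism which is not of finite
presentation and F = O_X the direct image f_* O_X need not be finite locally free — and the argument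
runs through cohomology and base change for morphisms of finite presentation, so f is taken of
finite presentation here. Higher direct images are right derived functors of f_* on O_X-modules,
with injective resolutions carried as an instance argument.) -/
theorem result {X S : Scheme.{u}} (f : X ⟶ S)
    [IsProper f] [LocallyOfFinitePresentation f] [HasInjectiveResolutions X.Modules]
    (F : X.Modules) (hF : CohB1.IsFP F) (hfl : FlatMod.IsFlatOver f F)
    (d : ℕ) (hd : ∀ s : S, topologicalKrullDim ↥(f.fiber s) ≤ d) :
    IsOpen {s : S | ∀ j : ℕ, 1 ≤ j → Subsingleton (CohIII.fiberH f F s j)} ∧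
      ∀ U : S.Opens, (U : Set S) ⊆ {s : S | ∀ j : ℕ, 1 ≤ j → Subsingleton (CohIII.fiberH f F s j)} →
        (∀ j : ℕ, 1 ≤ j → IsZero (((Coh.Rpush f j).obj F).restrict U.ι)) ∧
          FlatMod.IsFinLocFree (((Coh.push f).obj F).restrict U.ι) ∧
            ∀ (T X' : Scheme.{u}) (g : T ⟶ S) (f' : X' ⟶ T) (g' : X' ⟶ X) (hsq : IsPullback g' f' f g),
              Set.range g.base ⊆ (U : Set S) → IsIso (CohBC.bc0 f g f' g' hsq.w F) := by
  have hq : F.IsQuasicoherent := Groth.Agent.Helper18Strict.isQCoh_of_isFP F hF
  refine ⟨Groth.Agent.Lib.T2H5.BC0MainB.isOpen_fibre_vanishing f F hF hfl d hd, ?_⟩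
  intro U hU
  have hgood : (U : Set S) ⊆ Groth.Agent.Lib.T2H5.BC0Main.Good f F := fun s hs =>
    Groth.Agent.Lib.T2H5.BC0Main.mem_good_of_fiberRank f F hF hfl s
      (Groth.Agent.Lib.T2H5.LocMain.fiberRank_eq_zero_of_subsingleton f F s 1 (hU hs 1 le_rfl))
  refine ⟨fun j hj => ?_, ?_, ?_⟩
  · exact Groth.Agent.Lib.T2H5.BC0MainB.isZero_Rpush_restrict f F hF hfl j U (fun s hs =>
      Groth.Agent.Lib.T2H5.LocMain.fiberRank_eq_zero_of_subsingleton f F s j (hU hs j hj))
  · exact Groth.Agent.Lib.T2H5.BC0Main.isFinLocFree_push_restrict f F hF U hgood
  · intro T X' g f' g' hsq hrange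
    exact Groth.Agent.Lib.T2H5.BC0Main.isIso_bcMap_of_good f F g g' f' hsq
      (fun y => hgood (hrange ⟨y, rfl⟩))

end Groth.Agent.S16761
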