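import Groth.Statements.S16771
import Groth.Agent.Lib.T2H7WeilClosedFP

set_option autoImplicit false
open CategoryTheory MonoidalCategory CartesianMonoidalCategory MonObj GrpObj AlgebraicGeometry
universe u
open SGA3x

namespace Groth.Agent.S16771

/-- Let G be an affine group scheme of finite presentation over a scheme S, Y ⊆ G a closed subscheme
which is finite, flat and of finite presentation over S, and Y' ⊆ G a closed subscheme of finite
presentation over S. Then the transporter of Y into Y' (points g of G such that g y g⁻¹ is a point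
of Y' for every point y of Y after any base change) is representable by a closed subscheme of G of
finite presentation over S. -/
theorem result {S : Scheme.{u}} (G Y Y' : Over S) [GrpObj G]
    (hGa : IsAffineHom G.hom) (hGfp : LocallyOfFinitePresentation G.hom)
    (y : Y ⟶ G) (hy : IsClosedImmersion y.left) (hYf : IsFinite Y.hom) (hYfl : Flat Y.hom)
    (hYfp : LocallyOfFinitePresentation Y.hom)
    (y' : Y' ⟶ G) (hy' : IsClosedImmersion y'.left) (hY'fp : LocallyOfFinitePresentation Y'.hom) :
    ∃ (C : Over S) (c : C ⟶ G), IsClosedImmersion c.left ∧ LocallyOfFinitePresentation C.hom ∧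
      ∀ (X : Over S) (g : X ⟶ G), (∃ z : X ⟶ C, z ≫ c = g) ↔
        ∀ (X' : Over S) (x : X' ⟶ X) (a : X' ⟶ Y), ∃ a' : X' ⟶ Y', (x ≫ g) * (a ≫ y) * (x ≫ g)⁻¹ = a' ≫ y' := by
  obtain ⟨conj, hconj⟩ : ∃ conj : G ⊗ Y ⟶ G, conj = fst G Y * (snd G Y ≫ y) * (fst G Y)⁻¹ :=
    ⟨_, rfl⟩
  have hy'fp : LocallyOfFinitePresentation y'.left :=
    Groth.Agent.Lib.Helper6.locallyOfFinitePresentation_of_comp (g := G.hom) inferInstance
      (by rw [Over.w y']; exact hY'fp)
  obtain ⟨C, c, hc, hfp, hC⟩ := Groth.Agent.Lib.T2H7.WeilClosed.exists_closed_right_fp G Y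
    (Limits.pullback.fst conj.left y'.left)
  have hcfp : LocallyOfFinitePresentation c.left :=
    hfp (MorphismProperty.of_isPullback (IsPullback.of_hasPullback conj.left y'.left).flip
      hy'fp)
  refine ⟨C, c, hc, ?_, fun X g => ?_⟩
  · rw [← Over.w c]
    infer_instance
  rw [hC X g]
  have hgc : (g ▷ Y) ≫ conj = (fst X Y ≫ g) * (snd X Y ≫ y) * (fst X Y ≫ g)⁻¹ := by
    rw [hconj, MonObj.comp_mul, MonObj.comp_mul, GrpObj.comp_inv]
    simp only [whiskerRight_fst, whiskerRight_snd_assoc]
  constructor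
  · rintro ⟨l, hl⟩ X' x a
    have hm : (l ≫ Limits.pullback.snd conj.left y'.left) ≫ Y'.hom = (X ⊗ Y).hom := by
      calc (l ≫ Limits.pullback.snd conj.left y'.left) ≫ Y'.hom
          = l ≫ Limits.pullback.snd conj.left y'.left ≫ y'.left ≫ G.hom := by
            rw [Category.assoc, Over.w y']
        _ = l ≫ Limits.pullback.fst conj.left y'.left ≫ conj.left ≫ G.hom := by
            rw [← Category.assoc (Limits.pullback.snd conj.left y'.left),
              ← Limits.pullback.condition, Category.assoc]
        _ = (l ≫ Limits.pullback.fst conj.left y'.left) ≫ (G ⊗ Y).hom := by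
            rw [Over.w conj, Category.assoc]
        _ = (X ⊗ Y).hom := by rw [hl, Over.w (g ▷ Y)]
    refine ⟨lift x a ≫ Over.homMk (l ≫ Limits.pullback.snd conj.left y'.left) hm, ?_⟩
    have h1 : (Over.homMk (l ≫ Limits.pullback.snd conj.left y'.left) hm : X ⊗ Y ⟶ Y') ≫ y' =
        (g ▷ Y) ≫ conj := by
      ext1
      change (l ≫ Limits.pullback.snd conj.left y'.left) ≫ y'.left = (g ▷ Y).left ≫ conj.left
      rw [Category.assoc, ← Limits.pullback.condition, ← Category.assoc, hl]
    rw [Category.assoc, h1, hgc, MonObj.comp_mul, MonObj.comp_mul, GrpObj.comp_inv]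
    simp
  · intro h
    obtain ⟨a', ha'⟩ := h (X ⊗ Y) (fst X Y) (snd X Y)
    rw [← hgc] at ha'
    refine ⟨Limits.pullback.lift (g ▷ Y).left a'.left ?_, Limits.pullback.lift_fst _ _ _⟩
    rw [← Over.comp_left, ← Over.comp_left, ha']
end Groth.Agent.S16771
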