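import Groth.Statements.S1678
import Groth.Agent.S1676
import Groth.Agent.S2886
import Groth.Agent.S1661

set_option autoImplicit false
universe u
open CategoryTheory CategoryTheory.Limits AlgebraicGeometry TopologicalSpace
open SDiv

namespace Groth.Agent.S1678

/-- Let X ⟶ S be smooth and let i : Y ⟶ X and j : Y ⟶ S be closed immersions with i ≫ (X ⟶ S) = j. If j
is a regular closed immersion then so is i. -/
theorem result {X Y S : Scheme.{u}} (p : X ⟶ S) [Smooth p] (i : Y ⟶ X) (j : Y ⟶ S)
    [IsClosedImmersion i] [IsClosedImmersion j] (h : i ≫ p = j) (hj : Mor2.IsRegularClosedImmersion j) :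
    Mor2.IsRegularClosedImmersion i := by
  have hflat : Flat p := inferInstance
  have hsnd : Mor2.IsRegularClosedImmersion (pullback.snd j p) := Groth.Agent.S2886.result j p hj
  have hsndcl : IsClosedImmersion (pullback.snd j p) := hsnd.1
  let s : Y ⟶ pullback j p := pullback.lift (𝟙 Y) i (by rw [Category.id_comp, h])
  have hs1 : s ≫ pullback.fst j p = 𝟙 Y := pullback.lift_fst _ _ _
  have hs2 : s ≫ pullback.snd j p = i := pullback.lift_snd _ _ _
  have hscl : IsClosedImmersion s := by
    have : IsClosedImmersion (s ≫ pullback.snd j p) := by rw [hs2]; infer_instance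
    exact IsClosedImmersion.of_comp_isClosedImmersion s (pullback.snd j p)
  have hsreg : Mor2.IsRegularClosedImmersion s :=
    Groth.Agent.S1676.result (pullback.fst j p) s hs1
  rw [← hs2]
  exact Groth.Agent.S1661.result s (pullback.snd j p) hsreg hsnd

end Groth.Agent.S1678
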