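import Groth.Statements.S16833
import Groth.Agent.S10649
import Groth.Agent.S10555
import Groth.Agent.S10279
import Groth.Agent.S9925
import Groth.Agent.Lib.Helper15PtsTop

set_option autoImplicit false
universe u
open AlgSp

namespace Groth.Agent.S16833

open CategoryTheory AlgebraicGeometry in
/-- Let p : U → X and f : X → Y be morphisms of algebraic spaces over a scheme S with p etale and
surjective and f separated. If the composite U → Y is finite, then f is finite. -/
theorem result {S : Scheme.{u}}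
    {U X Y : AlgSp.Space S} (p : U ⟶ X) (f : X ⟶ Y)
    (hp : AlgSp.IsEtaleMor p.hom) (hps : AlgSp.IsSurjectiveMor p.hom)
    (hf : AlgSp.IsSeparatedMor f.hom) (h : AlgSp.IsFiniteMor (p ≫ f).hom) :
    AlgSp.IsFiniteMor f.hom := by
  classical
  have hT := Groth.Agent.S10649.result (p ≫ f)
  have h2 : AlgSp.IsProperMor (p ≫ f).hom ∧
      AlgSp.LocP (@LocallyQuasiFinite ⊓ @LocallyOfFiniteType) (p ≫ f).hom :=
    (hT.out 0 1).1 h
  -- local quasi-finiteness descends along the etale covering `p`
  have hcov : AlgSp.IsEtCover (S := S) (fun _ : PUnit.{u+1} => U.obj) (fun _ => p.hom) :=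
    ⟨fun _ => hp, fun x => ⟨PUnit.unit, hps x⟩⟩
  have hlqf : AlgSp.LocP (@LocallyQuasiFinite ⊓ @LocallyOfFiniteType) f.hom :=
    (Groth.Agent.S10555.result S (fun _ : PUnit.{u+1} => U.obj) (fun _ => p.hom) X.property
      (fun _ => U.property) hcov f.hom Y.property).2 (fun _ => h2.2)
  have hlft : AlgSp.LocP @LocallyOfFiniteType f.hom :=
    Groth.Agent.Lib.Helper15PtsTop.locP_mono (fun _ _ _ hg => hg.2) hlqf
  have huc : AlgSp.IsUnivClosedMor f.hom :=
    Groth.Agent.S10279.result p (p ≫ f) f rfl h2.1.2.2 hps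
  have hprop : AlgSp.IsProperMor f.hom := ⟨hf, ⟨hlft, Groth.Agent.S9925.result f huc⟩, huc⟩
  have hT' := Groth.Agent.S10649.result f
  have h3 : AlgSp.IsProperMor f.hom ∧
      AlgSp.LocP (@LocallyQuasiFinite ⊓ @LocallyOfFiniteType) f.hom := ⟨hprop, hlqf⟩
  exact (hT'.out 1 0).1 h3

end Groth.Agent.S16833
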