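import Groth.Statements.S16834
import Groth.Agent.Lib.T2H1AffDesc2
import Groth.Agent.Lib.T2H1ConnComp

set_option autoImplicit false
universe u
open CategoryTheory CategoryTheory.Limits AlgebraicGeometry
open AlgSp

namespace Groth.Agent.S16834

/-- Let k be a field with algebraic closure k̄ and X an algebraic space over Spec k which is
quasi-separated over k and whose structure morphism is locally of finite type. If the base change X
×_k Spec k̄ (product with h_{Spec k̄} in fppf sheaves over Spec k) is isomorphic to h_T for an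
affine scheme T over k, then X is isomorphic to h_U for an affine scheme U over k. -/
theorem result (k : Type u) [Field k]
    (X : AlgSp.Space (Spec (CommRingCat.of k))) (hqs : AlgSp.IsQuasiSeparatedSp X.obj)
    (hlft : ∀ q : X.obj ⟶ (AlgSp.yon (Spec (CommRingCat.of k))).obj (Over.mk (𝟙 _)),
      AlgSp.LocP @LocallyOfFiniteType q)
    (kbar : Type u) [Field kbar] [Algebra k kbar] [IsAlgClosure k kbar]
    (T : Over (Spec (CommRingCat.of k))) (hT : IsAffine T.left)
    (e : X.obj ⨯ (AlgSp.yon (Spec (CommRingCat.of k))).obj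
        (Over.mk (Spec.map (CommRingCat.ofHom (algebraMap k kbar)))) ≅
      (AlgSp.yon (Spec (CommRingCat.of k))).obj T) :
    ∃ (U : Over (Spec (CommRingCat.of k))), IsAffine U.left ∧
      Nonempty (X.obj ≅ (AlgSp.yon (Spec (CommRingCat.of k))).obj U) := by
  classical
  let S := Spec (CommRingCat.of k)
  let Z : Over S := Over.mk (𝟙 S)
  let Z'' : Over S := Over.mk (Spec.map (CommRingCat.ofHom (algebraMap k kbar)))
  let π : Z'' ⟶ Z := Over.homMk (Spec.map (CommRingCat.ofHom (algebraMap k kbar))) (by simp [Z, Z''])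
  have hZ : IsAffine Z.left := by
    show IsAffine (Spec (CommRingCat.of k))
    infer_instance
  have hZ'' : IsAffine Z''.left := by
    show IsAffine (Spec (CommRingCat.of kbar))
    infer_instance
  have hfl : Flat π.left := by
    show Flat (Spec.map (CommRingCat.ofHom (algebraMap k kbar)))
    rw [HasRingHomProperty.Spec_iff (P := @Flat)]
    simp only [CommRingCat.hom_ofHom]
    rw [RingHom.flat_algebraMap_iff]
    infer_instance
  have hs : Surjective π.left := by
    show Surjective (Spec.map (CommRingCat.ofHom (algebraMap k kbar)))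
    constructor
    intro y
    obtain ⟨x⟩ : Nonempty (Spec (CommRingCat.of kbar)) := inferInstance
    exact ⟨x, Subsingleton.elim _ _⟩
  let w : T ⟶ Z'' := (AlgSp.yon S).preimage (e.inv ≫ prod.snd)
  have hw : (AlgSp.yon S).map w = e.inv ≫ prod.snd := (AlgSp.yon S).map_preimage _
  let ψ : X.obj ⟶ (AlgSp.yon S).obj Z := (Groth.Agent.Lib.T2H1.ConnComp.isTerminal_yon_mkId S).from _
  have sq0 := Groth.Agent.Lib.T2H1.ConnComp.isPullback_prod X.obj ((AlgSp.yon S).obj Z'')
  have hπ : (AlgSp.yon S).map π = (Groth.Agent.Lib.T2H1.ConnComp.isTerminal_yon_mkId S).from _ :=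
    (Groth.Agent.Lib.T2H1.ConnComp.isTerminal_yon_mkId S).hom_ext _ _
  have sq : IsPullback (e.inv ≫ prod.fst) ((AlgSp.yon S).map w) ψ ((AlgSp.yon S).map π) := by
    rw [hw, hπ]
    exact IsPullback.of_iso sq0 e (Iso.refl _) (Iso.refl _) (Iso.refl _)
      (by simp only [Iso.refl_hom, Category.comp_id, Iso.hom_inv_id_assoc]; rfl)
      (by simp only [Iso.refl_hom, Category.comp_id, Iso.hom_inv_id_assoc]; rfl)
      (by simp only [Iso.refl_hom, Category.comp_id, Category.id_comp]; rfl)
      (by simp only [Iso.refl_hom, Category.comp_id, Category.id_comp]; rfl)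
  obtain ⟨W, i, c, q, hW, -, -, -⟩ :=
    Groth.Agent.Lib.T2H1.AffDesc.exists_iso_of_affine X.property hZ hZ'' hT π hfl hs w ψ
      (e.inv ≫ prod.fst) sq
  exact ⟨W, hW, ⟨q⟩⟩

end Groth.Agent.S16834
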