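import Groth.Statements.S1688
import Groth.Agent.Lib.Helper2LocFree
import Groth.Agent.Lib.Helper23FinPres
import Groth.Agent.Lib.Helper4FibDimL
import Groth.Agent.Lib.T2H2RegDimOne

set_option autoImplicit false
universe u
open CategoryTheory CategoryTheory.Limits AlgebraicGeometry TopologicalSpace
open SDiv

namespace Groth.Agent.S1688

/-- Let X be a locally Noetherian integral scheme of dimension at most 1 all of whose local rings are
regular, and F a coherent module on X. Then F is torsion free (every stalk is a torsion-free module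
over the local ring) if and only if F is finite locally free. -/
theorem result (X : Scheme.{u}) [IsIntegral X] [IsLocallyNoetherian X] (hreg : ∀ x : ↥X, IsRegularLocalRing (X.presheaf.stalk x))
    (hdim : topologicalKrullDim ↥X ≤ 1) (F : X.Modules) (hF : Coh.IsCoh F) :
    (∀ x : ↥X, NoZeroSMulDivisors (X.presheaf.stalk x) (F.presheaf.stalk x)) ↔ FlatMod.IsFinLocFree F := by
  obtain ⟨hq, hft⟩ := hF
  have : F.IsQuasicoherent := hq
  have : SheafOfModules.IsFiniteType (R := X.ringCatSheaf) F := hft
  have := Groth.Agent.Lib.Helper23.FinType.isFinitePresentation_of_isFiniteType F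
  have hpid : ∀ x : X, IsPrincipalIdealRing (X.presheaf.stalk x) := fun x =>
    Groth.Agent.Lib.T2H2.RegDimOne.isPrincipalIdealRing_of_regular_dim_le_one _ (hreg x)
      ((Groth.Agent.Lib.Helper4.FibDim.ringKrullDim_stalk_le_topologicalKrullDim X x).trans hdim)
  constructor
  · intro h x
    have hfl : FlatMod.IsFlatAt F x := by
      unfold FlatMod.IsFlatAt
      have := hpid x
      have := h x
      have : Module.IsTorsionFree (X.presheaf.stalk x) (F.presheaf.stalk x) :=
        Module.isTorsionFree_iff_smul_eq_zero.2 (fun r m hrm => smul_eq_zero.1 hrm)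
      infer_instance
    obtain ⟨D, m, hxD, e⟩ :=
      Groth.Agent.Lib.Helper2.LocFree.exists_restrict_iso_freeMod_of_isFlatAt F x hfl
    exact ⟨D, m, hxD, e⟩
  · intro h x
    obtain ⟨U, n, hxU, ⟨e⟩⟩ := h x
    have hfl : FlatMod.IsFlatAt F x :=
      Groth.Agent.Lib.Helper2.LocFree.isFlatAt_of_restrict_iso_freeMod U.ι F e ⟨x, hxU⟩
    unfold FlatMod.IsFlatAt at hfl
    have : Module.IsTorsionFree (X.presheaf.stalk x) (F.presheaf.stalk x) := inferInstance
    exact ⟨fun {r m} hrm => Module.isTorsionFree_iff_smul_eq_zero.1 this r m hrm⟩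

end Groth.Agent.S1688
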