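import Groth.Statements.S1689
import Groth.Agent.Lib.Helper2LocFree
import Groth.Agent.Lib.Helper23FinPres
import Groth.Agent.Lib.Helper4FibDimL
import Groth.Agent.Lib.Helper2FibreCrit2
import Groth.Agent.Lib.T2H7ReflSyz

set_option autoImplicit false
universe u
open CategoryTheory CategoryTheory.Limits AlgebraicGeometry TopologicalSpace
open SDiv

namespace Groth.Agent.S1689

/-- Let X be a locally Noetherian scheme of dimension at most 2 all of whose local rings are regular,
and F a coherent module on X. Then F is reflexive (every stalk is a reflexive module over the local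
ring) if and only if F is finite locally free. -/
theorem result (X : Scheme.{u}) [IsLocallyNoetherian X]
    (hreg : ∀ x : ↥X, IsRegularLocalRing (X.presheaf.stalk x)) (hdim : topologicalKrullDim ↥X ≤ 2) (F : X.Modules)
    (hF : Coh.IsCoh F) : (∀ x : ↥X, Module.IsReflexive (X.presheaf.stalk x) (F.presheaf.stalk x)) ↔ FlatMod.IsFinLocFree F := by
  obtain ⟨hq, hft⟩ := hF
  have : F.IsQuasicoherent := hq
  have : SheafOfModules.IsFiniteType (R := X.ringCatSheaf) F := hft
  have := Groth.Agent.Lib.Helper23.FinType.isFinitePresentation_of_isFiniteType F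
  constructor
  · intro h x
    have hfl : FlatMod.IsFlatAt F x := by
      unfold FlatMod.IsFlatAt
      have := hreg x
      have hfin : Module.Finite (X.presheaf.stalk x) (F.presheaf.stalk x) :=
        Groth.Agent.Lib.Helper2.FibreCrit.finite_stalk F x
      have := h x
      have hd : ringKrullDim (X.presheaf.stalk x) ≤ 2 :=
        (Groth.Agent.Lib.Helper4.FibDim.ringKrullDim_stalk_le_topologicalKrullDim X x).trans hdim
      have := Groth.Agent.Lib.T2H7.ReflSyz.projective_of_isReflexive_of_regular_dim_le_two
        (X.presheaf.stalk x) hd (F.presheaf.stalk x)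
      infer_instance
    obtain ⟨D, m, hxD, e⟩ :=
      Groth.Agent.Lib.Helper2.LocFree.exists_restrict_iso_freeMod_of_isFlatAt F x hfl
    exact ⟨D, m, hxD, e⟩
  · intro h x
    obtain ⟨U, n, hxU, ⟨e⟩⟩ := h x
    have hfl : FlatMod.IsFlatAt F x :=
      Groth.Agent.Lib.Helper2.LocFree.isFlatAt_of_restrict_iso_freeMod U.ι F e ⟨x, hxU⟩
    unfold FlatMod.IsFlatAt at hfl
    have hfin : Module.Finite (X.presheaf.stalk x) (F.presheaf.stalk x) :=
      Groth.Agent.Lib.Helper2.FibreCrit.finite_stalk F x
    have : Module.Free (X.presheaf.stalk x) (F.presheaf.stalk x) :=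
      Module.free_of_flat_of_isLocalRing
    infer_instance

end Groth.Agent.S1689
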