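import Groth.Statements.S16951
import Mathlib
import Groth.Agent.Lib.T2H5FibTrivJ
-- import your own Groth.Agent.* helpers here

set_option autoImplicit false
universe u
open PicF

namespace Groth.Agent.S16951

open AlgebraicGeometry CategoryTheory Scheme.Modules in
/-- Let f : X → S be a proper flat morphism of locally Noetherian schemes whose fibres are geometrically
integral, and let L be an invertible O_X-module with an inverse M (an isomorphism L ⊗ M ≅ O_X). Then
the following are equivalent: (a) L ≅ f^* L₀ for some invertible O_S-module L₀; (b) for N = L and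
for N = M, at every point s of S the space H^0(X_s, N|_{X_s}) of sections over the scheme-theoretic
fibre is nonzero and the degree-0 base change map of the fibre square, κ(s)^* f_* N → (X_s → Spec
κ(s))_* (N|_{X_s}), is an epimorphism. When this holds, dim_{κ(s)} H^0(X_s, N|_{X_s}) = 1 for every
s and both N, the counit f^* f_* L → L is an isomorphism, and any invertible L₀ with L ≅ f^* L₀ is
isomorphic to f_* L. -/
theorem result
    {X S : Scheme.{u}} (f : X ⟶ S) [IsProper f] [Flat f] [IsLocallyNoetherian X] [IsLocallyNoetherian S]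
    [GeometricallyIntegral f] (L M : X.Modules) (hL : PicF.IsInvertible L)
    (hM : Nonempty (CohB1.tensorMod L M ≅ Coh.structureModule X)) :
    ((∃ L₀ : S.Modules, PicF.IsInvertible L₀ ∧ Nonempty (L ≅ (pullback f).obj L₀)) ↔
      ((∀ s : S, Nontrivial (CohIII.fiberH f L s 0)) ∧ (∀ s : S, Nontrivial (CohIII.fiberH f M s 0)) ∧
        (∀ s : S, Epi (CohBC.bc0 f (S.fromSpecResidueField s) (f.fiberToSpecResidueField s) (f.fiberι s) (f.fiber_fac s) L)) ∧ (∀ s : S, Epi (CohBC.bc0 f (S.fromSpecResidueField s) (f.fiberToSpecResidueField s) (f.fiberι s) (f.fiber_fac s) M)))) ∧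
    (((∀ s : S, Nontrivial (CohIII.fiberH f L s 0)) ∧ (∀ s : S, Nontrivial (CohIII.fiberH f M s 0)) ∧
        (∀ s : S, Epi (CohBC.bc0 f (S.fromSpecResidueField s) (f.fiberToSpecResidueField s) (f.fiberι s) (f.fiber_fac s) L)) ∧ (∀ s : S, Epi (CohBC.bc0 f (S.fromSpecResidueField s) (f.fiberToSpecResidueField s) (f.fiberι s) (f.fiber_fac s) M))) →
      (∀ s : S, CohIII.fiberRank f L 0 s = 1 ∧ CohIII.fiberRank f M 0 s = 1) ∧
      IsIso ((pullbackPushforwardAdjunction f).counit.app L) ∧
      ∀ L₀ : S.Modules, PicF.IsInvertible L₀ → Nonempty (L ≅ (pullback f).obj L₀) →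
        Nonempty (L₀ ≅ (pushforward f).obj L)) := by
  haveI : AlgebraicGeometry.LocallyOfFinitePresentation f := inferInstance
  have hgeo : ∀ (K : Type u) [Field K] (x : AlgebraicGeometry.Spec (CommRingCat.of K) ⟶ S),
      AlgebraicGeometry.IsIntegral (CategoryTheory.Limits.pullback f x) :=
    fun K _ x => AlgebraicGeometry.pullback_of_geometrically
      (AlgebraicGeometry.GeometricallyIntegral.geometrically_isIntegral (f := f)) K x
  have hint : ∀ y : S, AlgebraicGeometry.IsIntegral (f.fiber y) := fun y =>
    hgeo (S.residueField y) (S.fromSpecResidueField y)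
  have hH : ∀ s : S, Function.Bijective (f.fiberToSpecResidueField s).appTop.hom := by
    intro s
    haveI := hgeo (AlgebraicClosure (S.residueField s)) (AlgebraicGeometry.Spec.map (CommRingCat.ofHom
      (algebraMap (S.residueField s) (AlgebraicClosure (S.residueField s)))) ≫
        S.fromSpecResidueField s)
    exact Groth.Agent.Lib.T2H5.UnitPush.appTop_bijective_of_reduced_connected f s
      inferInstance inferInstance
  obtain ⟨ε⟩ := hM
  have hsq : ∀ s : S, CategoryTheory.IsPullback (f.fiberι s) (f.fiberToSpecResidueField s) f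
      (S.fromSpecResidueField s) := fun s => CategoryTheory.IsPullback.of_hasPullback _ _
  obtain ⟨h1, h2⟩ := Groth.Agent.Lib.T2H5.FibTriv.descent_iff_of_epi f L M hL ε hH hint hsq
  refine ⟨h1, fun hb => ?_⟩
  obtain ⟨h3, h4, h5⟩ := h2 hb
  exact ⟨h3, h5, fun L₀ hL₀ ⟨ψ⟩ =>
    Groth.Agent.Lib.T2H5.FibTriv.nonempty_iso_push_of_pullback f L hH L₀ hL₀ ψ⟩

end Groth.Agent.S16951
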