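import Groth.Statements.S17020
import Groth.Agent.Lib.T2H9ModelTensor

set_option autoImplicit false
set_option linter.style.haveILetI false
set_option linter.unusedVariables false
universe u
open CategoryTheory CategoryTheory.Limits AlgebraicGeometry
open scoped TensorProduct
open Models

namespace Groth.Agent.S17020

/-- Let R be a discrete valuation ring with algebraically closed residue field and f : X → Spec R a
proper flat morphism whose generic fibre (base change to the fraction field of R) is smooth of
relative dimension 1 and connected and whose special fibre (base change to the residue field) is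
connected and reduced; let ξ be the generic point of an irreducible component of the special fibre
and B a discrete valuation ring given with an isomorphism from the local ring of X at ξ under which
R → B is the map induced by f. Then for F the algebraic closure of the fraction field of R, the ring
F ⊗_R B is a field. (The published setting takes everything essentially of finite type over a field
of characteristic zero; the printed argument does not use this and it is not imposed here.) -/
theorem result
    (R : Type u) [CommRing R] [IsDomain R] [IsDiscreteValuationRing R]
    [IsAlgClosed (IsLocalRing.ResidueField R)]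
    (X : Scheme.{u}) (f : X ⟶ Spec (CommRingCat.of R)) [IsProper f] [Flat f]
    (XK : Scheme.{u}) (gK : XK ⟶ X) (fK : XK ⟶ Spec (CommRingCat.of (FractionRing R)))
    (hK : IsPullback gK fK f (Spec.map (CommRingCat.ofHom (algebraMap R (FractionRing R)))))
    [SmoothOfRelativeDimension 1 fK] [ConnectedSpace XK]
    (Xs : Scheme.{u}) (gs : Xs ⟶ X) (fs : Xs ⟶ Spec (CommRingCat.of (IsLocalRing.ResidueField R)))
    (hs : IsPullback gs fs f (Spec.map (CommRingCat.ofHom (IsLocalRing.residue R))))
    [ConnectedSpace Xs] [IsReduced Xs]
    (ξ : Xs) (hξ : closure ({ξ} : Set Xs) ∈ irreducibleComponents Xs)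
    (B : Type u) [CommRing B] [IsDomain B] [IsDiscreteValuationRing B] [Algebra R B]
    (e : X.presheaf.stalk (gs.base ξ) ≅ CommRingCat.of B)
    (he : e.hom.hom.comp ((X.presheaf.germ ⊤ (gs.base ξ) trivial).hom.comp (Coh.toGlobal f)) =
      algebraMap R B) :
    IsField (AlgebraicClosure (FractionRing R) ⊗[R] B) := by
  have hB := Groth.Agent.Lib.T2H9.ModelTensor.maximalIdeal_eq R X f Xs gs fs hs ξ B e he hξ
  haveI hdom : IsDomain (TensorProduct R B (AlgebraicClosure (FractionRing R))) :=
    Groth.Agent.Lib.T2H9.ModelTensor.isDomain_tensor_field R X f Xs gs fs hs ξ B e he XK gK fK hK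
      (AlgebraicClosure (FractionRing R))
  have hinjF : Function.Injective (algebraMap R (AlgebraicClosure (FractionRing R))) := by
    rw [IsScalarTower.algebraMap_eq R (FractionRing R) (AlgebraicClosure (FractionRing R))]
    exact (algebraMap (FractionRing R) (AlgebraicClosure (FractionRing R))).injective.comp
      (IsFractionRing.injective R (FractionRing R))
  have halg : ∀ x : AlgebraicClosure (FractionRing R), IsAlgebraic R x := fun x =>
    (IsFractionRing.isAlgebraic_iff R (FractionRing R) (AlgebraicClosure (FractionRing R))).mpr
      (Algebra.IsAlgebraic.isAlgebraic x)
  have hfield := Groth.Agent.Lib.T2H9.ModelDVR.isField_tensor_of_isAlgebraic R B hB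
    (AlgebraicClosure (FractionRing R)) hinjF halg
  exact MulEquiv.isField hfield
    (Algebra.TensorProduct.comm R (AlgebraicClosure (FractionRing R)) B).toRingEquiv.toMulEquiv

end Groth.Agent.S17020
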