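import Groth.Statements.S17181
import Groth.Agent.Lib.T2H3ConnPullback

set_option autoImplicit false
set_option linter.style.haveILetI false
universe u
open CategoryTheory CategoryTheory.Limits AlgebraicGeometry
open FBase

namespace Groth.Agent.S17181

open Groth.Agent.Lib.T2H3.Birat Groth.Agent.Lib.T2H3.ConnPullback in
/-- base change of a flat morphism with geometrically irreducible generic fibre along a
generalizing morphism from an irreducible scheme is irreducible. -/
theorem irreducibleSpace_pullback {X C C' : Scheme.{u}} (f : X ⟶ C) (g : C' ⟶ C) [Flat f]
    (hg : GeneralizingMap g) [IrreducibleSpace C] [IrreducibleSpace C']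
    [GeometricallyIrreducible (f.fiberToSpecResidueField (genericPoint C))] :
    IrreducibleSpace ↥(pullback f g) := by
  let f' := pullback.snd f g
  haveI : Flat f' := inferInstance
  have hgen' : GeneralizingMap f' := Flat.generalizingMap f'
  let η' : C' := genericPoint C'
  have hη' : g η' = genericPoint C := by
    have h1 : η' ∈ genericPoints C' := by
      rw [genericPoints_eq_singleton]; rfl
    have h2 := map_mem_genericPoints g hg h1
    rw [genericPoints_eq_singleton] at h2
    exact h2
  haveI : GeometricallyIrreducible (f.fiberToSpecResidueField (g η')) := by
    rw [hη']; infer_instance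
  haveI : IrreducibleSpace ↥(f'.fiber η') :=
    GeometricallyIrreducible.geometrically_irreducibleSpace
      (f := f.fiberToSpecResidueField (g η')) _ _ _
      (isPullback_fiberToSpecResidueField_of_isPullback (IsPullback.of_hasPullback f g) η')
  have hirr : IsIrreducible (f' ⁻¹' {η'}) := by
    rw [← f'.range_fiberι η', ← Set.image_univ]
    exact (IrreducibleSpace.isIrreducible_univ _).image _ (f'.fiberι _).continuous.continuousOn
  have hcl : closure (f' ⁻¹' {η'}) = Set.univ := by
    rw [Set.eq_univ_iff_forall]
    intro x
    obtain ⟨ξ, hξ, hξx⟩ := exists_genericPoint_specializes (pullback f g) x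
    have h1 := map_mem_genericPoints f' hgen' hξ
    rw [genericPoints_eq_singleton] at h1
    have h2 : ξ ∈ f' ⁻¹' {η'} := h1
    exact closure_mono (Set.singleton_subset_iff.mpr h2) (specializes_iff_mem_closure.mp hξx)
  have h3 := hirr.closure
  rw [hcl] at h3
  exact (irreducibleSpace_def _).mpr h3

/-- Let k be a field, C an irreducible k-scheme which is geometrically irreducible over k, and f : X → C
a flat k-morphism locally of finite type with X irreducible. If the generic fibre of f is
geometrically irreducible over the residue field of the generic point of C, then X is geometrically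
irreducible over k. (The published setting is a regular proper surface mapping onto a smooth
projective geometrically irreducible curve with smooth projective geometrically irreducible generic
fibre; the printed argument uses only the hypotheses kept here.) -/
theorem result (k : Type u) [Field k]
    (X C : Scheme.{u}) [X.Over (Spec (CommRingCat.of k))] [C.Over (Spec (CommRingCat.of k))]
    (f : X ⟶ C) [f.IsOver (Spec (CommRingCat.of k))] [IrreducibleSpace X] [IrreducibleSpace C]
    [GeometricallyIrreducible (C ↘ Spec (CommRingCat.of k))] [Flat f] [LocallyOfFiniteType f]
    [GeometricallyIrreducible (f.fiberToSpecResidueField (genericPoint C))] :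
    GeometricallyIrreducible (X ↘ Spec (CommRingCat.of k)) := by
  have hs : X ↘ Spec (CommRingCat.of k) = f ≫ (C ↘ Spec (CommRingCat.of k)) :=
    (comp_over f _).symm
  rw [hs]
  refine ⟨geometrically_iff_of_isClosedUnderIsomorphisms.mpr fun K _ y ↦ ?_⟩
  rw [← (pullbackRightPullbackFstIso (C ↘ Spec (CommRingCat.of k)) y f).hom.homeomorph.irreducibleSpace_iff]
  haveI : IrreducibleSpace ↥(pullback (C ↘ Spec (CommRingCat.of k)) y) :=
    GeometricallyIrreducible.geometrically_irreducibleSpace _ _ _ (.of_hasPullback _ _)
  haveI : Flat y := by
    obtain ⟨φ, rfl⟩ := Spec.map_surjective y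
    rw [HasRingHomProperty.Spec_iff (P := @Flat)]
    algebraize [φ.hom]
    change Module.Flat k K
    infer_instance
  haveI : Flat (pullback.fst (C ↘ Spec (CommRingCat.of k)) y) := inferInstance
  exact irreducibleSpace_pullback f (pullback.fst (C ↘ Spec (CommRingCat.of k)) y)
    (Flat.generalizingMap _)

end Groth.Agent.S17181
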