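import Groth.Statements.S17273
import Mathlib
import Groth.Agent.Lib.T2H6EtAtlas
import Groth.Agent.Lib.Helper17StkFp
import Groth.Agent.S12780
import Groth.Agent.S10544
import Groth.Agent.Lib.Helper15DiagDescent

set_option autoImplicit false
open CategoryTheory AlgebraicGeometry
universe u
open AlgSt

namespace Groth.Agent.S17273

/-- Let S be a scheme and let 𝒳, 𝒴, 𝒵 be Deligne–Mumford stacks over (Sch/S) for the etale topology
(stacks in groupoids whose diagonal is representable by algebraic spaces, with a smooth surjective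
atlas from a scheme and an etale surjective atlas from a scheme, both representable by algebraic
spaces), with functors f : 𝒳 → 𝒵 and g : 𝒴 → 𝒵 over (Sch/S). Then the 2-fibre product 𝒳 ×_𝒵 𝒴 over
(Sch/S) is a Deligne–Mumford stack for the etale topology. -/
theorem result (S : Scheme.{u}) (𝒳 𝒴 𝒵 : AlgSt.Cat S)
    (h𝒳 : AlgSt.IsDM Scheme.etalePrecoverage 𝒳) (h𝒴 : AlgSt.IsDM Scheme.etalePrecoverage 𝒴)
    (h𝒵 : AlgSt.IsDM Scheme.etalePrecoverage 𝒵)
    (f : 𝒳 ⥤ᵇ 𝒵) (g : 𝒴 ⥤ᵇ 𝒵) :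
    AlgSt.IsDM Scheme.etalePrecoverage (FibCat.fp f g) := by
  have hQ : Groth.Agent.Lib.Helper15RepComp.CompCond (AlgSp.IsEtaleMor (S := S)) :=
    Groth.Agent.S12780.Aux.compCond_of_local _
      (fun _ _ _ _ _ _ a b ha hb U φ hφ => by
        have := hb (φ ≫ a) (ha φ hφ)
        simpa using this)
      (Groth.Agent.Lib.Helper15DiagDescent.isLocalOnBase_fppf_of_fpqc _ (Groth.Agent.S10544.result S))
  exact ⟨⟨Groth.Agent.Lib.Helper17.isStack_fp f g _ h𝒳.1.isStack h𝒴.1.isStack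
      (Groth.Agent.Lib.Helper17.IsStack.isPrestack _ h𝒵.1.isStack),
    Groth.Agent.Lib.Helper15DiagOfComp.repByAlgSp1_diag_toSelf_fp h𝒳.1.isStack.1 h𝒴.1.isStack.1
      h𝒵.1.isStack.1 h𝒳.1.diag h𝒴.1.diag h𝒵.1.diag f g,
    Groth.Agent.Lib.T2H6.EtAtlas.hasAtlas_fp (AlgSp.LocP @Smooth)
      Groth.Agent.Lib.Helper15Atlas.compCond_smooth
      Groth.Agent.Lib.Helper15Atlas.locP_smooth_of_etale_surjective
      h𝒳.1.isStack.1 h𝒴.1.isStack.1 h𝒵.1.isStack.1 h𝒵.1.diag h𝒳.1.atlas h𝒴.1.atlas f g⟩,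
    Groth.Agent.Lib.T2H6.EtAtlas.hasAtlas_fp AlgSp.IsEtaleMor hQ
      Groth.Agent.Lib.Helper15Atlas.isEtaleMor_of_etale_surjective
      h𝒳.1.isStack.1 h𝒴.1.isStack.1 h𝒵.1.isStack.1 h𝒵.1.diag h𝒳.2 h𝒴.2 f g⟩

end Groth.Agent.S17273
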