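import Groth.Statements.S17289
import Mathlib
import Groth.Agent.Lib.T2H4GrSymE
import Groth.Agent.Lib.Helper2LocFree
import Groth.Agent.Lib.Helper23PB
import Groth.Agent.Lib.Helper23AmpleIso
set_option backward.isDefEq.respectTransparency.types false

set_option autoImplicit false
universe u
open CategoryTheory CategoryTheory.Limits AlgebraicGeometry TopologicalSpace
open Variety

namespace Groth.Agent.S17289

/-- Suppose X is a proper scheme over a field k, and E, F are finite locally free O_X-modules with E → F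
surjective. Assume E is ample, meaning that the fundamental module O(1) of the projective bundle
P(E) = Proj(Sym E) → X is ample (for any relative-Proj data of the graded symmetric algebra of E
with its O(1)); then F is ample in the same sense. (The source states this for proper algebraic
spaces over k, together with the analogous assertion for nef modules; this is the ample assertion in
the case of schemes.) -/
theorem result (k : Type u) [Field k] (X : Scheme.{u})
    [X.Over (Spec (CommRingCat.of k))] [IsProper (X ↘ (Spec (CommRingCat.of k)))] (E F : X.Modules)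
    (hE : FlatMod.IsFinLocFree E) (hF : FlatMod.IsFinLocFree F) (φ : E ⟶ F) [Epi φ]
    (hample : ∀ (𝒮 : RelProj.QCGrAlg X) (j : E ⟶ 𝒮.toModule) (P : Scheme.{u}) (p : P ⟶ X)
        (chart : ∀ (U : X.Opens) (hU : IsAffineOpen U),
          (((p ⁻¹ᵁ U : P.Opens) : Scheme.{u}) ≅ Proj (𝒮.deg U hU)))
        (O1 : P.Modules)
        (lam : ∀ (U : X.Opens) (hU : IsAffineOpen U),
          O1 ⟶ (Scheme.Modules.pushforward (RelProj.emb p chart U hU)).obj (GrTwist.twist (𝒮.deg U hU) 1)),
        RelProj.IsGrSymAlg E 𝒮 j → RelProj.IsRelProj 𝒮 p chart → RelProj.IsRelTwist 𝒮 p chart 1 O1 lam →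
        CohB1.IsAmple O1) :
    ∀ (𝒮 : RelProj.QCGrAlg X) (j : F ⟶ 𝒮.toModule) (P : Scheme.{u}) (p : P ⟶ X)
      (chart : ∀ (U : X.Opens) (hU : IsAffineOpen U),
        (((p ⁻¹ᵁ U : P.Opens) : Scheme.{u}) ≅ Proj (𝒮.deg U hU)))
      (O1 : P.Modules)
      (lam : ∀ (U : X.Opens) (hU : IsAffineOpen U),
        O1 ⟶ (Scheme.Modules.pushforward (RelProj.emb p chart U hU)).obj (GrTwist.twist (𝒮.deg U hU) 1)),
      RelProj.IsGrSymAlg F 𝒮 j → RelProj.IsRelProj 𝒮 p chart → RelProj.IsRelTwist 𝒮 p chart 1 O1 lam →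
      CohB1.IsAmple O1 := by
  intro 𝒮 j P p chart O1 lam hj hP hO1
  haveI hfpE : SheafOfModules.IsFinitePresentation (R := X.ringCatSheaf) E :=
    Groth.Agent.Lib.Helper2.LocFree.isFP_of_isFinLocFree E hE
  haveI hfpF : SheafOfModules.IsFinitePresentation (R := X.ringCatSheaf) F :=
    Groth.Agent.Lib.Helper2.LocFree.isFP_of_isFinLocFree F hF
  have hEq : Coh.IsQCoh E := inferInstance
  have hFq : Coh.IsQCoh F := inferInstance
  haveI : E.IsQuasicoherent := hEq
  have hPE := Groth.Agent.Helper13ProjBC.isRelProj_relProj (Groth.Agent.Lib.T2H4.GrSym.grSymAlg E)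
  obtain ⟨O1E, lamE, hO1E⟩ := Groth.Agent.Lib.Helper2.RelTwistExist.exists_isRelTwist _ _ hPE 1
  have hampE : CohB1.IsAmple O1E :=
    hample (Groth.Agent.Lib.T2H4.GrSym.grSymAlg E) (Groth.Agent.Lib.T2H4.GrSym.jGr E) _ _ _ O1E lamE
      (Groth.Agent.Lib.T2H4.GrSym.isGrSymAlg E) hPE hO1E
  obtain ⟨h, hci, -, ⟨Φ⟩⟩ := Groth.Agent.Lib.T2H4.GrSym.exists_closedImmersion_of_epi E F hEq hFq φ 𝒮 j hj p chart hP
    O1 lam hO1 (Groth.Agent.Lib.T2H4.GrSym.grSymAlg E) (Groth.Agent.Lib.T2H4.GrSym.jGr E)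
    (Groth.Agent.Lib.T2H4.GrSym.isGrSymAlg E) _ _ hPE O1E lamE hO1E
    (fun 𝒰 ψ h1 => Groth.Agent.Lib.T2H4.GrSym.isGradedHom_of_deg_one E 𝒰 ψ h1)
  haveI := hci
  exact Groth.Agent.Lib.Helper23.AmpleIso.isAmple_of_iso Φ
    (Groth.Agent.Lib.Helper23.PB.isAmple_pullback_of_isAffineHom h O1E hampE)

end Groth.Agent.S17289
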