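import Groth.Statements.S17310
import Groth.Agent.Lib.T2H3CurveGeomFib
import Groth.Agent.Lib.Helper12Reduced
import Groth.Agent.Lib.Helper3FibDimBC

set_option autoImplicit false
set_option linter.style.haveILetI false
universe u
open CurvSt

namespace Groth.Agent.S17310

open CategoryTheory AlgebraicGeometry in
/-- Let X be a proper scheme of dimension at most 1 over a field k with structure morphism p, and Spec k
→ S a point of the base. The classifying object of X in the stack of curves over S lies in the open
substack of curves with geometrically reduced, connected fibres of dimension 1 — by definition: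
every geometric fibre of h_X → h_{Spec k}, realised as a scheme over an algebraically closed field
through a cartesian square of sheaves, is reduced, connected and of Krull dimension 1 — if and only
if X is geometrically reduced and geometrically connected over k and has Krull dimension 1. -/
theorem result (S : Scheme.{u}) (k : Type u) [Field k] (t : Spec (CommRingCat.of k) ⟶ S)
    (X : Scheme.{u}) (p : X ⟶ Spec (CommRingCat.of k)) [IsProper p] (hdim : topologicalKrullDim ↥X ≤ 1) :
    CurvSt.GeomFib (fun _ _ _ X' _ _ => IsReduced X' ∧ ConnectedSpace ↥X' ∧ topologicalKrullDim ↥X' = 1) ((CurvSt.toSpFam S 0).obj ⟨Over.mk t, X, p, Fin.elim0, fun i => i.elim0⟩) ↔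
      GeometricallyReduced p ∧ GeometricallyConnected p ∧ topologicalKrullDim ↥X = 1 := by
  rw [Groth.Agent.Lib.T2H3.CurveGeomFib.geomFib_toSpFam_iff S k t X p
    (fun _ _ _ X' _ => IsReduced X' ∧ ConnectedSpace ↥X' ∧ topologicalKrullDim ↥X' = 1)]
  constructor
  · intro h
    refine ⟨⟨fun K _ y Z fst snd hsq => ?_⟩, ⟨fun K _ y Z fst snd hsq => ?_⟩, ?_⟩
    · haveI : IsReduced (Limits.pullback snd (Groth.Agent.Lib.T2H3.CurveGeomFib.toAlgClosure K)) :=
        (h (AlgebraicClosure K) _ _ _ _
          (Groth.Agent.Lib.T2H3.CurveGeomFib.isPullback_algClosure hsq)).1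
      exact Groth.Agent.Lib.Helper12.Reduced.isReduced_of_flat_of_surjective
        (Limits.pullback.fst snd (Groth.Agent.Lib.T2H3.CurveGeomFib.toAlgClosure K))
    · haveI : ConnectedSpace
          ↥(Limits.pullback snd (Groth.Agent.Lib.T2H3.CurveGeomFib.toAlgClosure K)) :=
        (h (AlgebraicClosure K) _ _ _ _
          (Groth.Agent.Lib.T2H3.CurveGeomFib.isPullback_algClosure hsq)).2.1
      exact (Limits.pullback.fst snd
        (Groth.Agent.Lib.T2H3.CurveGeomFib.toAlgClosure K)).surjective.connectedSpace
        (Limits.pullback.fst snd (Groth.Agent.Lib.T2H3.CurveGeomFib.toAlgClosure K)).continuous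
    · have h1 := (h (AlgebraicClosure k) (Groth.Agent.Lib.T2H3.CurveGeomFib.toAlgClosure k) _ _ _
        (IsPullback.of_hasPullback p (Groth.Agent.Lib.T2H3.CurveGeomFib.toAlgClosure k))).2.2
      rw [← h1]
      exact (Groth.Agent.Lib.Helper3.FibDimBC.topologicalKrullDim_pullback_field k
        (AlgebraicClosure k) p).symm
  · rintro ⟨h1, h2, h3⟩ Ω _ _ τ X' q i₀ hsq
    refine ⟨h1.geometrically_isReduced τ i₀ q hsq, h2.geometrically_connectedSpace τ i₀ q hsq, ?_⟩
    obtain ⟨φ, rfl⟩ := Spec.map_surjective τ
    algebraize [φ.hom]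
    rw [← h3]
    exact Groth.Agent.Lib.Helper3.FibDimBC.topologicalKrullDim_eq_of_isPullback_field k Ω p q i₀ hsq

end Groth.Agent.S17310
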