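import Groth.Statements.S17354
import Groth.Agent.Lib.T2H2AzInvQuad
import Groth.Agent.Lib.T2H2AzInvStd

set_option autoImplicit false
universe u v w
open scoped TensorProduct
open AzInv

namespace Groth.Agent.S17354

/-- Let `R` be a quadratic etale `S`-algebra with an involution `lam` whose fixed ring is exactly `S`
(the unramified case), and assume that units have square roots locally for the etale topology of `S`
(every unit of an etale `S`-algebra becomes a square in some etale faithfully flat extension). Then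
every `lam`-involution `t` of an Azumaya `R`-algebra `A` of degree `n ≥ 1` has the same type as the
involution `lam` of `R` itself: for some positive sizes `m`, `m'` the matrix algebras of size `m`
over `A` and of size `m'` over `R`, with the involutions induced by `t` and by `lam`, become
isomorphic as `R`-algebras with involution after an etale faithfully flat base change of `S`; in
other words there is a single type. (The source states this for an exact quotient of a locally
ringed topos with involution; the row is the affine case `Spec R → Spec S`, with etale coverings of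
`Spec S` replaced by a single etale faithfully flat `S`-algebra.) -/
theorem result (S : Type u) (R : Type v) [CommRing S] [CommRing R] [Algebra S R]
    (lam : R ≃ₐ[S] R) (hlam : ∀ r, lam (lam r) = r) (hfix : RInv.IsFixedRing S R lam.toRingEquiv)
    (hq : RInv.IsQuadEtale S R)
    (hsq : ∀ (S₁ : Type u) [CommRing S₁] [Algebra S S₁] [Algebra.Etale S S₁] (x : S₁ˣ),
      ∃ (S₂ : Type u) (_ : CommRing S₂) (_ : Algebra S₁ S₂) (_ : Algebra.Etale S₁ S₂)
        (_ : Module.FaithfullyFlat S₁ S₂) (y : S₂), y * y = algebraMap S₁ S₂ ↑x)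
    (A : Type w) [Ring A] [Algebra S A] [Algebra R A] [IsScalarTower S R A]
    (n : ℕ) (hn : 0 < n) (hA : AzInv.IsAzumayaDeg R A n) (t : AzInv.LamInv R A lam) :
    AzInv.SameType S lam t (AzInv.LamInv.self lam hlam) := by
  obtain ⟨S', _, _, _, hff, e, he, het⟩ :=
    Groth.Agent.Lib.T2H2.AzInvQuad.main lam hlam hfix t hq n hA
  refine ⟨1, n, one_pos, hn, S', inferInstance, inferInstance, inferInstance, hff, ?_⟩
  -- adapted matrix units in `S' ⊗ M_1(A)`
  let φ : A →ₐ[S] Matrix (Fin 1) (Fin 1) A :=
    ((Groth.Agent.Lib.T2H2.AzInvStd.oneEquiv R A).restrictScalars S : A ≃ₐ[S] _)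
  let Φ : S' ⊗[S] A →ₐ[S] S' ⊗[S] Matrix (Fin 1) (Fin 1) A :=
    Algebra.TensorProduct.map (AlgHom.id S S') φ
  have he₁ : Groth.Agent.Lib.T2H2.MatUnits.IsMatUnits (fun i j => Φ (e i j)) :=
    he.map Φ.toRingHom
  have het₁ : ∀ i j, (t.matrix (Fin 1)).bc S lam S' (Φ (e i j)) = Φ (e j i) := by
    intro i j
    rw [← Groth.Agent.Lib.T2H2.AzInvIso.map_bc_right lam t (t.matrix (Fin 1)) φ
      (fun a => (Groth.Agent.Lib.T2H2.AzInvStd.matrix_oneEquiv t a).symm), het]
  -- adapted matrix units in `S' ⊗ M_n(R)`
  have he₂ : Groth.Agent.Lib.T2H2.MatUnits.IsMatUnits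
      (fun i j => (1 : S') ⊗ₜ[S] (Matrix.single i j (1 : R) : Matrix (Fin n) (Fin n) R)) :=
    (Groth.Agent.Lib.T2H2.MatUnits.isMatUnits_single R n).map
      (Algebra.TensorProduct.includeRight :
        Matrix (Fin n) (Fin n) R →ₐ[S] S' ⊗[S] Matrix (Fin n) (Fin n) R).toRingHom
  have het₂ : ∀ i j, ((AzInv.LamInv.self lam hlam).matrix (Fin n)).bc S lam S'
      ((1 : S') ⊗ₜ[S] (Matrix.single i j (1 : R) : Matrix (Fin n) (Fin n) R)) =
      (1 : S') ⊗ₜ[S] (Matrix.single j i (1 : R) : Matrix (Fin n) (Fin n) R) := by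
    intro i j
    rw [AzInv.LamInv.bc_tmul, Groth.Agent.Lib.T2H2.AzInvStd.matrix_self_single]
  exact Groth.Agent.Lib.T2H2.AzInvIso.exists_iso_of_adapted lam (t.matrix (Fin 1))
    ((AzInv.LamInv.self lam hlam).matrix (Fin n)) n hn
    (Groth.Agent.Lib.T2H2.AzInvStd.isAzumayaDeg_one hA)
    (Groth.Agent.Lib.T2H2.AzInvStd.isAzumayaDeg_matrix R n hn) _ he₁ het₁ _ he₂ het₂

end Groth.Agent.S17354
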