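import Groth.Statements.S17363
import Groth.Agent.Lib.T2H2Herm22
import Groth.Agent.Lib.Helper15QuadEtale

set_option autoImplicit false
universe u v
open scoped TensorProduct
open RInv

namespace Groth.Agent.S17363

section inner

variable {B : Type u} {A : Type v} [CommRing B] [CommRing A] [Algebra B A]
  (lam : A ≃ₐ[B] A) (hlam : ∀ a, lam (lam a) = a)

include hlam in
theorem involutive_congr' (L : Type*) [CommRing L] [Algebra B L] :
    Function.Involutive
      (Algebra.TensorProduct.congr (AlgEquiv.refl : L ≃ₐ[L] L) lam : L ⊗[B] A ≃ₐ[L] L ⊗[B] A) := by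
  intro x
  induction x using TensorProduct.induction_on with
  | zero => simp
  | tmul b r => simp [hlam]
  | add x y hx hy => rw [map_add, map_add, hx, hy]

include hlam in
/-- the computation over one localisation -/
theorem exists_v (B' : Type u) [CommRing B'] [Algebra B B'] (g X₀ : B') (T₀ s₀ hf₀ κ₀ : B)
    (a b d : A) (ha : lam a = -a) (hd : lam d = -d)
    (hT₀ : algebraMap B A T₀ = b + lam b)
    (hs₀ : algebraMap B A s₀ = (b + lam b) * (b + lam b) + 4 * a * d)
    (hhf₀ : 2 * hf₀ = 1)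
    (hκ₀ : 2 * (a * d + b * lam b) * algebraMap B A κ₀ = 1)
    (hX₀ : X₀ * X₀ = algebraMap B B' s₀) (hg : g = algebraMap B B' T₀ + X₀)
    (L : Type u) [CommRing L] [Algebra B' L] [Algebra B L] [IsScalarTower B B' L]
    [IsLocalization.Away g L] :
    ∃ v : Matrix (Fin 2) (Fin 2) (L ⊗[B] A), IsUnit v ∧
      (v.map (Algebra.TensorProduct.congr (AlgEquiv.refl : L ≃ₐ[L] L) lam)).transpose *
        (Matrix.of ![![a, b], ![-lam b, d]]).map
          (Algebra.TensorProduct.includeRight : A →ₐ[B] L ⊗[B] A) * v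
        = (Matrix.of ![![(0 : A), 1], ![-1, 0]]).map
          (Algebra.TensorProduct.includeRight : A →ₐ[B] L ⊗[B] A) := by
  let lamC : L ⊗[B] A ≃ₐ[L] L ⊗[B] A :=
    Algebra.TensorProduct.congr (AlgEquiv.refl : L ≃ₐ[L] L) lam
  let _ : StarRing (L ⊗[B] A) :=
    { star := lamC
      star_involutive := involutive_congr' lam hlam L
      star_mul := fun x y => by
        show lamC (x * y) = lamC y * lamC x
        rw [map_mul, mul_comm]
      star_add := fun x y => map_add lamC x y }
  let ι : A →ₐ[B] L ⊗[B] A := Algebra.TensorProduct.includeRight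
  let lft : L →ₐ[B] L ⊗[B] A := Algebra.TensorProduct.includeLeft
  have hsι : ∀ x : A, star (ι x) = ι (lam x) := by
    intro x
    show lamC ((1 : L) ⊗ₜ[B] x) = (1 : L) ⊗ₜ[B] lam x
    simp [lamC]
  have hsl : ∀ y : L, star (lft y) = lft y := by
    intro y
    show lamC (y ⊗ₜ[B] (1 : A)) = y ⊗ₜ[B] (1 : A)
    simp [lamC]
  have hιB : ∀ x : B, ι (algebraMap B A x) = lft (algebraMap B L x) := by
    intro x
    rw [AlgHom.commutes, AlgHom.commutes]
  have R1 : lft (IsLocalization.Away.invSelf g) *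
      (ι b + star (ι b) + lft (algebraMap B' L X₀)) = 1 := by
    rw [hsι, ← map_add, ← hT₀, hιB, ← map_add, ← map_mul,
      IsScalarTower.algebraMap_apply B B' L, ← map_add, ← hg, mul_comm,
      IsLocalization.Away.mul_invSelf, map_one]
  have R2 : lft (algebraMap B' L X₀) * lft (algebraMap B' L X₀)
      = (ι b + star (ι b)) * (ι b + star (ι b)) + 4 * ι a * ι d := by
    rw [hsι, ← map_mul, ← map_mul, hX₀, ← IsScalarTower.algebraMap_apply B B' L, ← hιB, hs₀]
    simp only [map_add, map_mul, map_ofNat]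
  have R3 : 2 * (ι a * ι d + ι b * star (ι b)) * ι (algebraMap B A κ₀) = 1 := by
    rw [hsι]
    have := congrArg ι hκ₀
    simpa only [map_add, map_mul, map_ofNat, map_one] using this
  have hhf : 2 * ι (algebraMap B A hf₀) = 1 := by
    have := congrArg (fun x => ι (algebraMap B A x)) hhf₀
    simpa only [map_mul, map_ofNat, map_one] using this
  have shf : star (ι (algebraMap B A hf₀)) = ι (algebraMap B A hf₀) := by
    rw [hιB, hsl]
  obtain ⟨v, hv, hvh⟩ := Groth.Agent.Lib.T2H2.Herm22.exists_normalize (ι a) (ι b) (ι d)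
    (lft (algebraMap B' L X₀)) (lft (IsLocalization.Away.invSelf g)) (ι (algebraMap B A κ₀))
    (ι (algebraMap B A hf₀)) (by rw [hsι, ha, map_neg]) (by rw [hsι, hd, map_neg]) (hsl _)
    hhf shf R1 R2 R3
  refine ⟨v, hv, ?_⟩
  have h1 : (Matrix.of ![![a, b], ![-lam b, d]]).map ι = !![ι a, ι b; -star (ι b), ι d] := by
    ext i j
    fin_cases i <;> fin_cases j <;> simp [hsι]
  have h2 : (Matrix.of ![![(0 : A), 1], ![-1, 0]]).map ι = !![0, 1; -1, 0] := by
    ext i j
    fin_cases i <;> fin_cases j <;> simp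
  rw [h1, h2]
  exact hvh

end inner

/-- Let `A` be a commutative ring with an involution `lam` whose fixed ring `B` is local; assume that
`lam` is the identity modulo the Jacobson radical of `A`, that `2` is a unit of `A`, and that `h` is
an invertible `2 × 2` matrix over `A` with `h = -(lam h)ᵀ` whose entries are congruent modulo the
Jacobson radical to those of the matrix with rows `(0, 1)`, `(-1, 0)`. Then there are units `s, t`
of `B`, finitely many elements `f_i` of `B' = B[X, Y]/(X² - s, Y² - t)` (`B` with square roots of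
`s` and `t` adjoined) that generate the unit ideal, and for every `i` an invertible `2 × 2` matrix
`v` over `B'_{f_i} ⊗_B A` (that is, `A` with the two square roots adjoined, localised at `f_i`;
`lam` extends so as to fix the square roots) such that `(lam v)ᵀ h v` is the matrix with rows `(0,
1)`, `(-1, 0)`. (The published statement writes the congruence with the plain transpose `vᵀ h v`,
which fails in general: for a field `k` of characteristic not `2`, the ring `A` of formal power
series in `y` over `k`, with `B` its subring of series in `y²`, `lam y = -y` and `h` with rows `(y,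
1)`, `(-1, y)`, satisfies every hypothesis, while `vᵀ h v` equal to the matrix with rows `(0, 1)`,
`(-1, 0)` would, added to its transpose, give `2y · vᵀ v = 0` and hence `det v = 0` over a nonzero
ring in which `y` is not a zero divisor. The proof computes the Gram matrix of the hermitian form
`(a, b) ↦ (lam a)ᵀ h b` in a new basis, which is `(lam v)ᵀ h v`, and that is what is stated here.) -/
theorem result (B : Type u) (A : Type v) [CommRing B] [CommRing A]
    [Algebra B A] (lam : A ≃ₐ[B] A) (hlam : ∀ a, lam (lam a) = a) (hB : RInv.IsFixedRing B A lam.toRingEquiv)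
    [IsLocalRing B] (hid : ∀ a : A, lam a - a ∈ Ring.jacobson A) (h2 : IsUnit (2 : A))
    (h : Matrix (Fin 2) (Fin 2) A) (hh : IsUnit h) (herm : -(h.map lam).transpose = h)
    (hJ : ∀ i j : Fin 2, h i j - Matrix.of ![![(0 : A), 1], ![-1, 0]] i j ∈ Ring.jacobson A) :
    ∃ (s t : Bˣ) (r : ℕ) (f : Fin r → (MvPolynomial (Fin 2) B ⧸ Ideal.span ({MvPolynomial.X 0 ^ 2 - MvPolynomial.C (s : B), MvPolynomial.X 1 ^ 2 - MvPolynomial.C (t : B)} : Set (MvPolynomial (Fin 2) B)))),
      Ideal.span (Set.range f) = ⊤ ∧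
      ∀ i : Fin r, ∃ v : Matrix (Fin 2) (Fin 2) (Localization.Away (f i) ⊗[B] A), IsUnit v ∧
        (v.map (Algebra.TensorProduct.congr (AlgEquiv.refl : Localization.Away (f i) ≃ₐ[Localization.Away (f i)] Localization.Away (f i)) lam)).transpose * h.map (Algebra.TensorProduct.includeRight : A →ₐ[B] Localization.Away (f i) ⊗[B] A) * v
          = (Matrix.of ![![(0 : A), 1], ![-1, 0]]).map (Algebra.TensorProduct.includeRight : A →ₐ[B] Localization.Away (f i) ⊗[B] A) := by
  classical
  have hinv : Function.Involutive lam.toRingEquiv := hlam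
  -- entries
  have ha : lam (h 0 0) = -h 0 0 := by
    have := congrFun (congrFun herm 0) 0
    simp only [Matrix.neg_apply, Matrix.transpose_apply, Matrix.map_apply] at this
    linear_combination (-1 : A) * this
  have hd : lam (h 1 1) = -h 1 1 := by
    have := congrFun (congrFun herm 1) 1
    simp only [Matrix.neg_apply, Matrix.transpose_apply, Matrix.map_apply] at this
    linear_combination (-1 : A) * this
  have h10 : h 1 0 = -lam (h 0 1) := by
    have := congrFun (congrFun herm 1) 0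
    simp only [Matrix.neg_apply, Matrix.transpose_apply, Matrix.map_apply] at this
    exact this.symm
  have hheq : h = Matrix.of ![![h 0 0, h 0 1], ![-lam (h 0 1), h 1 1]] := by
    ext i j
    fin_cases i <;> fin_cases j <;> simp [h10]
  -- radical facts
  have haJ : h 0 0 ∈ Ring.jacobson A := by simpa using hJ 0 0
  have hbJ : h 0 1 - 1 ∈ Ring.jacobson A := by simpa using hJ 0 1
  have hlamJ : ∀ x ∈ Ring.jacobson A, lam x ∈ Ring.jacobson A := by
    intro x hx
    have := add_mem (hid x) hx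
    simpa using this
  have hunitJ : ∀ (w x : A), IsUnit w → x ∈ Ring.jacobson A → IsUnit (w + x) := by
    intro w x hw hx
    obtain ⟨w', hw'⟩ := hw.exists_right_inv
    rw [← Ideal.jacobson_bot, Ideal.mem_jacobson_bot] at hx
    have h1 := hx w'
    have h3 : w + x = w * (x * w' + 1) := by
      calc w + x = w + x * (w * w') := by rw [hw', mul_one]
        _ = w * (x * w' + 1) := by ring
    rw [h3]
    exact hw.mul h1
  have hT : IsUnit (h 0 1 + lam (h 0 1)) := by
    have h3 : h 0 1 + lam (h 0 1) = 2 + ((h 0 1 - 1) + lam (h 0 1 - 1)) := by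
      rw [map_sub, map_one]; ring
    rw [h3]
    exact hunitJ _ _ h2 (add_mem hbJ (hlamJ _ hbJ))
  have hs : IsUnit ((h 0 1 + lam (h 0 1)) * (h 0 1 + lam (h 0 1)) + 4 * h 0 0 * h 1 1) := by
    refine hunitJ _ _ (hT.mul hT) ?_
    rw [mul_assoc, mul_comm 4, mul_assoc]
    exact Ideal.mul_mem_right _ _ haJ
  have hδ : IsUnit (h 0 0 * h 1 1 + h 0 1 * lam (h 0 1)) := by
    have h3 := (Matrix.isUnit_iff_isUnit_det h).mp hh
    rw [Matrix.det_fin_two, h10] at h3
    have h4 : h 0 0 * h 1 1 - h 0 1 * -lam (h 0 1) = h 0 0 * h 1 1 + h 0 1 * lam (h 0 1) := by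
      ring
    rw [h4] at h3
    exact h3
  -- descend to `B`
  obtain ⟨T₀, hT₀⟩ : ∃ T₀ : B, algebraMap B A T₀ = h 0 1 + lam (h 0 1) :=
    (hB.2 _).mp (by
      show lam (h 0 1 + lam (h 0 1)) = _
      rw [map_add, hlam, add_comm])
  obtain ⟨s₀, hs₀⟩ : ∃ s₀ : B, algebraMap B A s₀ =
      (h 0 1 + lam (h 0 1)) * (h 0 1 + lam (h 0 1)) + 4 * h 0 0 * h 1 1 :=
    (hB.2 _).mp (by
      show lam ((h 0 1 + lam (h 0 1)) * (h 0 1 + lam (h 0 1)) + 4 * h 0 0 * h 1 1) = _
      simp only [map_add, map_mul, map_ofNat, hlam, ha, hd]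
      ring)
  obtain ⟨δ₀, hδ₀⟩ : ∃ δ₀ : B, algebraMap B A δ₀ = h 0 0 * h 1 1 + h 0 1 * lam (h 0 1) :=
    (hB.2 _).mp (by
      show lam (h 0 0 * h 1 1 + h 0 1 * lam (h 0 1)) = _
      simp only [map_add, map_mul, hlam, ha, hd]
      ring)
  have hunitB : ∀ x : B, IsUnit (algebraMap B A x) → IsUnit x := fun x hx =>
    Groth.Agent.Lib.Helper15.QuadEtale.isUnit_of_isUnit_algebraMap lam.toRingEquiv hB x hx
  have hT₀u : IsUnit T₀ := hunitB _ (hT₀ ▸ hT)
  have hs₀u : IsUnit s₀ := hunitB _ (hs₀ ▸ hs)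
  have hδ₀u : IsUnit δ₀ := hunitB _ (hδ₀ ▸ hδ)
  have h2B : IsUnit (2 : B) := hunitB _ (by rw [map_ofNat]; exact h2)
  obtain ⟨hf₀, hhf₀⟩ := h2B.exists_right_inv
  obtain ⟨κ₀, hκ₀⟩ := (h2B.mul hδ₀u).exists_right_inv
  have hκ₀' : 2 * (h 0 0 * h 1 1 + h 0 1 * lam (h 0 1)) * algebraMap B A κ₀ = 1 := by
    rw [← hδ₀, ← map_ofNat (algebraMap B A) 2, ← map_mul, ← map_mul, hκ₀, map_one]
  -- the ring with square roots
  let I : Ideal (MvPolynomial (Fin 2) B) :=
    Ideal.span ({MvPolynomial.X 0 ^ 2 - MvPolynomial.C ((hs₀u.unit : Bˣ) : B),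
      MvPolynomial.X 1 ^ 2 - MvPolynomial.C (((1 : Bˣ) : Bˣ) : B)} : Set (MvPolynomial (Fin 2) B))
  let ξ : MvPolynomial (Fin 2) B ⧸ I := Ideal.Quotient.mk I (MvPolynomial.X 0)
  have hξ : ξ * ξ = algebraMap B (MvPolynomial (Fin 2) B ⧸ I) s₀ := by
    have h3 : Ideal.Quotient.mk I (MvPolynomial.X 0 ^ 2) =
        Ideal.Quotient.mk I (MvPolynomial.C s₀) := by
      rw [Ideal.Quotient.eq]
      exact Ideal.subset_span (Set.mem_insert _ _)
    rw [map_pow, pow_two] at h3
    rw [h3]
    rfl
  let f : Fin 2 → MvPolynomial (Fin 2) B ⧸ I :=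
    ![algebraMap B (MvPolynomial (Fin 2) B ⧸ I) T₀ + ξ,
      algebraMap B (MvPolynomial (Fin 2) B ⧸ I) T₀ + -ξ]
  refine ⟨hs₀u.unit, 1, 2, f, ?_, fun i => ?_⟩
  · have h3 : f 0 + f 1 ∈ Ideal.span (Set.range f) :=
      add_mem (Ideal.subset_span ⟨0, rfl⟩) (Ideal.subset_span ⟨1, rfl⟩)
    have h4 : f 0 + f 1 = algebraMap B (MvPolynomial (Fin 2) B ⧸ I) (2 * T₀) := by
      simp only [f, Matrix.cons_val_zero, Matrix.cons_val_one, map_mul, map_ofNat]
      ring
    rw [h4] at h3
    exact Ideal.eq_top_of_isUnit_mem _ h3 ((h2B.mul hT₀u).map _)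
  · have key : ∀ X₀ : MvPolynomial (Fin 2) B ⧸ I,
        X₀ * X₀ = algebraMap B (MvPolynomial (Fin 2) B ⧸ I) s₀ →
        f i = algebraMap B (MvPolynomial (Fin 2) B ⧸ I) T₀ + X₀ →
        ∃ v : Matrix (Fin 2) (Fin 2) (Localization.Away (f i) ⊗[B] A), IsUnit v ∧
          (v.map (Algebra.TensorProduct.congr (AlgEquiv.refl : Localization.Away (f i) ≃ₐ[Localization.Away (f i)] Localization.Away (f i)) lam)).transpose *
            h.map (Algebra.TensorProduct.includeRight : A →ₐ[B] Localization.Away (f i) ⊗[B] A) * v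
          = (Matrix.of ![![(0 : A), 1], ![-1, 0]]).map
            (Algebra.TensorProduct.includeRight : A →ₐ[B] Localization.Away (f i) ⊗[B] A) := by
      intro X₀ hX₀ hfi
      have := exists_v lam hlam (MvPolynomial (Fin 2) B ⧸ I) (f i) X₀ T₀ s₀ hf₀ κ₀
        (h 0 0) (h 0 1) (h 1 1) ha hd hT₀ hs₀ hhf₀ hκ₀' hX₀ hfi (Localization.Away (f i))
      rw [← hheq] at this
      exact this
    fin_cases i
    · exact key ξ hξ rfl
    · exact key (-ξ) (by rw [← hξ]; ring) rfl

end Groth.Agent.S17363
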