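import Groth.Statements.S17364
import Groth.Agent.Lib.T2H2SpreadD

set_option autoImplicit false
universe u v
open scoped TensorProduct
open RInv

namespace Groth.Agent.S17364

/-- Let `A` be a commutative ring with an involution `lam` whose fixed ring is `B`, let `ε = ±1`, and
let `h, h'` be invertible `n × n` matrices over `A` with `h = ε (lam h)ᵀ` and `h' = ε (lam h')ᵀ`.
Let `p` be a prime of `B` and suppose there are units `s_1, …, s_l` of the local ring `B_p`,
elements `f_1, …, f_r` of `B_p[X_1, …, X_l]/(X_k² - s_k)` (square roots of the `s_k` adjoined)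
generating the unit ideal, and for each `i` an invertible matrix `v` over `C ⊗_B A` for the
localisation `C` of that ring at `f_i` (any `B`-algebra with the universal property of that
localisation) (`lam` extended so as to fix the square roots and `B_p`) with `(lam v)ᵀ h v = h'`.
Then there is `b ∉ p` in `B` such that the same kind of data exists with `B_p` replaced by `B_b`:
units of `B_b`, a finite family generating the unit ideal of `B_b[X_1, …, X_l]/(X_k² - s_k)`, and
invertible matrices over the corresponding localisations tensored with `A` congruating `h` to `h'`. -/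
theorem result (B : Type u) (A : Type v) [CommRing B] [CommRing A]
    [Algebra B A] (lam : A ≃ₐ[B] A) (hlam : ∀ a, lam (lam a) = a) (hB : RInv.IsFixedRing B A lam.toRingEquiv)
    (n : ℕ) (ε : A) (hε : ε = 1 ∨ ε = -1) (h h' : Matrix (Fin n) (Fin n) A) (hh : IsUnit h) (hh' : IsUnit h')
    (herm : ε • (h.map lam).transpose = h) (herm' : ε • (h'.map lam).transpose = h')
    (p : Ideal B) [p.IsPrime]
    (hdata : (∃ (l : ℕ) (s : Fin l → (Localization.AtPrime p)ˣ) (r : ℕ) (f : Fin r → (MvPolynomial (Fin l) (Localization.AtPrime p) ⧸ Ideal.span (Set.range fun k : Fin l => MvPolynomial.X k ^ 2 - MvPolynomial.C (s k : Localization.AtPrime p)))),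
        Ideal.span (Set.range f) = ⊤ ∧
        ∀ (i : Fin r) (C : Type u) [CommRing C] [Algebra B C]
          [Algebra (MvPolynomial (Fin l) (Localization.AtPrime p) ⧸ Ideal.span (Set.range fun k : Fin l => MvPolynomial.X k ^ 2 - MvPolynomial.C (s k : Localization.AtPrime p))) C]
          [IsScalarTower B (MvPolynomial (Fin l) (Localization.AtPrime p) ⧸ Ideal.span (Set.range fun k : Fin l => MvPolynomial.X k ^ 2 - MvPolynomial.C (s k : Localization.AtPrime p))) C]
          [IsLocalization.Away (f i) C],
          ∃ v : Matrix (Fin n) (Fin n) (C ⊗[B] A), IsUnit v ∧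
            (v.map (Algebra.TensorProduct.congr (AlgEquiv.refl : C ≃ₐ[C] C) lam)).transpose * h.map (Algebra.TensorProduct.includeRight : A →ₐ[B] C ⊗[B] A) * v = h'.map (Algebra.TensorProduct.includeRight : A →ₐ[B] C ⊗[B] A))) :
    ∃ b : B, b ∉ p ∧
      (∃ (l : ℕ) (s : Fin l → (Localization.Away b)ˣ) (r : ℕ) (f : Fin r → (MvPolynomial (Fin l) (Localization.Away b) ⧸ Ideal.span (Set.range fun k : Fin l => MvPolynomial.X k ^ 2 - MvPolynomial.C (s k : Localization.Away b)))),
        Ideal.span (Set.range f) = ⊤ ∧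
        ∀ (i : Fin r) (C : Type u) [CommRing C] [Algebra B C]
          [Algebra (MvPolynomial (Fin l) (Localization.Away b) ⧸ Ideal.span (Set.range fun k : Fin l => MvPolynomial.X k ^ 2 - MvPolynomial.C (s k : Localization.Away b))) C]
          [IsScalarTower B (MvPolynomial (Fin l) (Localization.Away b) ⧸ Ideal.span (Set.range fun k : Fin l => MvPolynomial.X k ^ 2 - MvPolynomial.C (s k : Localization.Away b))) C]
          [IsLocalization.Away (f i) C],
          ∃ v : Matrix (Fin n) (Fin n) (C ⊗[B] A), IsUnit v ∧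
            (v.map (Algebra.TensorProduct.congr (AlgEquiv.refl : C ≃ₐ[C] C) lam)).transpose * h.map (Algebra.TensorProduct.includeRight : A →ₐ[B] C ⊗[B] A) * v = h'.map (Algebra.TensorProduct.includeRight : A →ₐ[B] C ⊗[B] A)) := by
  classical
  obtain ⟨l, s, r, f, hf, hv⟩ := hdata
  obtain ⟨b₀, hb₀, s', lam0, hs⟩ := Groth.Agent.Lib.T2H2.Spread.exists_units_away p s
  obtain ⟨φ, γ, c₁, c, c', hc₁, hc, hc', hφ, hsum⟩ :=
    Groth.Agent.Lib.T2H2.Spread.exists_partition p (fun k => (s k : Localization.AtPrime p))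
      (Submonoid.powers b₀) lam0 (fun k => (s' k : Localization.Away b₀)) hs f hf
  have hE := fun i : Fin r =>
    Groth.Agent.Lib.T2H2.Spread.lemmaE p (fun k => (s k : Localization.AtPrime p))
      (Submonoid.powers b₀) lam0 (fun k => (s' k : Localization.Away b₀)) hs
      (Groth.Agent.Lib.T2H2.Spread.SqRing l (Localization.Away b₀)
        (fun k => (s' k : Localization.Away b₀)))
      (AlgHom.id B _) A lam (φ i) (f i) c₁ (hφ i) (Localization.Away (f i)) h h'
      (hv i (Localization.Away (f i)))
  choose m₀ hm₀P hm₀ using hE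
  set b : B := b₀ * c₁ * c * c' * ∏ i, m₀ i with hb
  have hbP : b ∈ p.primeCompl :=
    mul_mem (mul_mem (mul_mem (mul_mem hb₀ hc₁) hc) hc') (prod_mem (fun i _ => hm₀P i))
  -- units in `D = B_b`
  have hub : IsUnit (algebraMap B (Localization.Away b) b) :=
    IsLocalization.Away.algebraMap_isUnit b
  have hdiv : ∀ x : B, x ∣ b → IsUnit (algebraMap B (Localization.Away b) x) := fun x hx =>
    isUnit_of_dvd_unit (map_dvd (algebraMap B (Localization.Away b)) hx) hub
  have hb₀d : b₀ ∣ b := ⟨c₁ * c * c' * ∏ i, m₀ i, by rw [hb]; ring⟩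
  have hcd : c ∣ b := ⟨b₀ * c₁ * c' * ∏ i, m₀ i, by rw [hb]; ring⟩
  have hc'd : c' ∣ b := ⟨b₀ * c₁ * c * ∏ i, m₀ i, by rw [hb]; ring⟩
  have hmd : ∀ i, m₀ i ∣ b := fun i =>
    Dvd.dvd.mul_left (Finset.dvd_prod_of_mem _ (Finset.mem_univ i)) _
  -- the map `B_{b₀} → B_b`
  let ρ : Localization.Away b₀ →ₐ[B] Localization.Away b :=
    IsLocalization.liftAlgHom (M := Submonoid.powers b₀)
      (f := Algebra.ofId B (Localization.Away b)) (by
        rintro ⟨y, j, rfl⟩
        simpa using (hdiv b₀ hb₀d).pow j)
  let s'' : Fin l → (Localization.Away b)ˣ := fun k => Units.map (ρ : _ →* _) (s' k)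
  have hs'' : ∀ k, ((s'' k : (Localization.Away b)ˣ) : Localization.Away b)
      = ρ (s' k : Localization.Away b₀) := fun k => rfl
  -- the map `Q₀ → Q_D`
  let π : Groth.Agent.Lib.T2H2.Spread.SqRing l (Localization.Away b₀)
        (fun k => (s' k : Localization.Away b₀))
      →ₐ[B] Groth.Agent.Lib.T2H2.Spread.SqRing l (Localization.Away b)
        (fun k => (s'' k : Localization.Away b)) :=
    Groth.Agent.Lib.T2H2.Spread.SqRing.liftAlgHom _
      ((IsScalarTower.toAlgHom B (Localization.Away b) _).comp ρ)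
      (fun k => Groth.Agent.Lib.T2H2.Spread.SqRing.xbar _ k)
      (fun k => by
        rw [Groth.Agent.Lib.T2H2.Spread.SqRing.xbar_sq]
        rfl)
  -- units in `Q_D`
  have hdivQ : ∀ x : B, x ∣ b →
      IsUnit (algebraMap B (Groth.Agent.Lib.T2H2.Spread.SqRing l (Localization.Away b)
        (fun k => (s'' k : Localization.Away b))) x) := fun x hx => by
    rw [IsScalarTower.algebraMap_apply B (Localization.Away b)]
    exact (hdiv x hx).map _
  refine ⟨b, hbP, l, s'', r, fun i => π (φ i), ?_, ?_⟩
  · -- unit ideal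
    have h1 := congrArg π hsum
    rw [map_mul, AlgHom.commutes, AlgHom.commutes, map_sum] at h1
    have h2 : IsUnit (∑ i, π (γ i * φ i)) := by
      have h3 := hdivQ c' hc'd
      rw [← h1] at h3
      exact isUnit_of_mul_isUnit_right h3
    refine Ideal.eq_top_of_isUnit_mem _ ?_ h2
    refine Ideal.sum_mem _ (fun i _ => ?_)
    rw [map_mul]
    exact Ideal.mul_mem_left _ _ (Ideal.subset_span ⟨i, rfl⟩)
  · intro i C' _ _ _ _ _
    refine hm₀ i C' ((IsScalarTower.toAlgHom B
      (Groth.Agent.Lib.T2H2.Spread.SqRing l (Localization.Away b)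
        (fun k => (s'' k : Localization.Away b))) C').comp π) ?_ ?_
    · exact IsLocalization.Away.algebraMap_isUnit (π (φ i))
    · rw [IsScalarTower.algebraMap_apply B (Groth.Agent.Lib.T2H2.Spread.SqRing l
        (Localization.Away b) (fun k => (s'' k : Localization.Away b))) C']
      exact (hdivQ (m₀ i) (hmd i)).map _

end Groth.Agent.S17364
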