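import Groth.Statements.S17428
import Mathlib.RingTheory.AdicCompletion.AsTensorProduct

set_option autoImplicit false
universe u
open FrobAlg TensorProduct

namespace Groth.Agent.S17428

section aux

variable (p : ℕ) [Fact p.Prime] (A : Type u) [CommRing A] [CharP A p]

/-- The identity map `Twist p A → A`, semilinear over Frobenius. -/
noncomputable def untw : Twist p A →ₛₗ[frobenius A p] A where
  toFun t := (toTwist p A).symm t
  map_add' x y := map_add _ x y
  map_smul' a t := by
    change (toTwist p A).symm (algebraMap A (Twist p A) a * t) = frobenius A p a * _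
    rw [map_mul, algebraMap_twist, RingEquiv.symm_apply_apply, frobenius_def]

theorem untw_apply (t : Twist p A) : untw p A t = (toTwist p A).symm t := rfl

variable (I : Ideal A)

/-- `I^n • ⊤` in the twist is closed under arbitrary multiplications. -/
theorem mul_mem_J (n : ℕ) (s t : Twist p A) (ht : t ∈ (I ^ n • ⊤ : Submodule A (Twist p A))) :
    s * t ∈ (I ^ n • ⊤ : Submodule A (Twist p A)) := by
  refine Submodule.smul_induction_on ht (fun a ha t' _ => ?_) (fun x y hx hy => ?_)
  · rw [mul_smul_comm]
    exact Submodule.smul_mem_smul ha Submodule.mem_top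
  · rw [mul_add]; exact add_mem hx hy

theorem J_le (n : ℕ) :
    (I ^ n • ⊤ : Submodule A (Twist p A)) ≤
      Submodule.comap (untw p A) (I ^ n • ⊤ : Submodule A A) := by
  intro t ht
  refine Submodule.smul_induction_on ht (fun a ha t' _ => ?_) (fun x y hx hy => add_mem hx hy)
  rw [Submodule.mem_comap, map_smulₛₗ]
  rw [smul_eq_mul, Ideal.mul_top]
  exact Ideal.mul_mem_right _ _ (by
    rw [frobenius_def]; exact Ideal.pow_mem_of_mem _ ha p (Fact.out : p.Prime).pos)

/-- The comparison map on the `n`-th truncations. -/
noncomputable def phi (n : ℕ) :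
    (Twist p A ⧸ (I ^ n • ⊤ : Submodule A (Twist p A))) →ₛₗ[frobenius A p]
      (A ⧸ (I ^ n • ⊤ : Submodule A A)) :=
  Submodule.mapQ _ _ (untw p A) (J_le p A I n)

theorem phi_mk (n : ℕ) (t : Twist p A) :
    phi p A I n (Submodule.Quotient.mk t) = Submodule.Quotient.mk ((toTwist p A).symm t) := rfl

/-- `I^n • ⊤` as an ideal of the twist. -/
def JIdeal (n : ℕ) : Ideal (Twist p A) where
  carrier := (I ^ n • ⊤ : Submodule A (Twist p A))
  add_mem' := fun ha hb => add_mem ha hb
  zero_mem' := zero_mem _
  smul_mem' := fun c a ha => mul_mem_J p A I n c a ha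

theorem mem_JIdeal (n : ℕ) (t : Twist p A) :
    t ∈ JIdeal p A I n ↔ t ∈ (I ^ n • ⊤ : Submodule A (Twist p A)) := Iff.rfl

/-- cofinality -/
theorem exists_pow_le [IsNoetherianRing A] (n : ℕ) :
    ∃ m, n ≤ m ∧ ∀ a ∈ I ^ m, toTwist p A a ∈ (I ^ n • ⊤ : Submodule A (Twist p A)) := by
  have hrad : I ^ n ≤ (Ideal.comap (toTwist p A : A →+* Twist p A) (JIdeal p A I n)).radical := by
    intro a ha
    refine ⟨p, ?_⟩
    rw [Ideal.mem_comap, mem_JIdeal]
    have : (toTwist p A : A →+* Twist p A) (a ^ p) = a • (1 : Twist p A) := by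
      rw [Algebra.smul_def, mul_one, algebraMap_twist]; rfl
    rw [this]
    exact Submodule.smul_mem_smul ha Submodule.mem_top
  obtain ⟨k, hk⟩ := Ideal.exists_pow_le_of_le_radical_of_fg hrad
    (IsNoetherian.noetherian (I ^ n))
  refine ⟨max n (n * k), le_max_left _ _, fun a ha => ?_⟩
  have h1 : I ^ (max n (n * k)) ≤ I ^ (n * k) := Ideal.pow_le_pow_right (le_max_right _ _)
  have h2 : a ∈ (I ^ n) ^ k := by rw [← pow_mul]; exact h1 ha
  exact hk h2

end aux

section main

variable (p : ℕ) [Fact p.Prime] (A : Type u) [CommRing A] [CharP A p]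

theorem relFrob_tmul (B : Type u) [CommRing B] [Algebra A B] [CharP B p] (b : B) (t : Twist p A) :
    relFrob p A B (b ⊗ₜ[A] t) = b ^ p * algebraMap A B ((toTwist p A).symm t) := by
  unfold relFrob
  simp only [RingHom.coe_comp, Function.comp_apply, AlgHom.toRingHom_eq_coe, RingHom.coe_coe,
    Algebra.TensorProduct.lift_tmul]
  rfl

variable (I : Ideal A) [CharP (AdicCompletion I A) p]

theorem val_pow (b : AdicCompletion I A) (k n : ℕ) : (b ^ k).val n = (b.val n) ^ k := by
  induction k with
  | zero => simp [AdicCompletion.val_one]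
  | succ k ih => rw [pow_succ, pow_succ, AdicCompletion.val_mul, ih]

theorem key (z : AdicCompletion I A ⊗[A] Twist p A) (n : ℕ) :
    (relFrob p A (AdicCompletion I A) z).val n =
      phi p A I n ((AdicCompletion.ofTensorProduct I (Twist p A) z).val n) := by
  induction z using TensorProduct.induction_on with
  | zero => simp
  | add x y hx hy =>
    rw [map_add, map_add, AdicCompletion.val_add_apply, AdicCompletion.val_add_apply, map_add,
      hx, hy]
  | tmul b t =>
    rw [relFrob_tmul, AdicCompletion.ofTensorProduct_tmul, AdicCompletion.smul_eval,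
      AdicCompletion.val_mul, val_pow]
    obtain ⟨a₀, ha₀⟩ := Submodule.Quotient.mk_surjective _ (b.val n)
    rw [← ha₀, AdicCompletion.algebraMap_apply, AdicCompletion.of_apply, AdicCompletion.of_apply,
      Submodule.mkQ_apply, Submodule.mkQ_apply]
    have h1 : (Submodule.Quotient.mk a₀ : A ⧸ (I ^ n • ⊤ : Ideal A)) •
        (Submodule.Quotient.mk t : Twist p A ⧸ (I ^ n • ⊤ : Submodule A (Twist p A))) =
        Submodule.Quotient.mk (a₀ • t) := by
      rw [Submodule.Quotient.mk_smul]; rfl
    rw [h1, phi_mk]
    have h2 : (toTwist p A).symm (a₀ • t) = a₀ ^ p * (toTwist p A).symm t := by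
      rw [Algebra.smul_def, algebraMap_twist, map_mul, RingEquiv.symm_apply_apply]
    rw [h2, Algebra.algebraMap_self, RingHom.id_apply]
    rfl

theorem finite_twist (hF : (frobenius A p).Finite) : Module.Finite A (Twist p A) := hF

theorem relFrob_injective [IsNoetherianRing A] (hF : (frobenius A p).Finite) :
    Function.Injective (relFrob p A (AdicCompletion I A)) := by
  have := finite_twist p A hF
  rw [injective_iff_map_eq_zero]
  intro z hz
  apply (AdicCompletion.ofTensorProduct_bijective_of_finite_of_isNoetherian I (Twist p A)).1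
  rw [map_zero]
  apply AdicCompletion.ext
  intro n
  obtain ⟨m, hnm, hm⟩ := exists_pow_le p A I n
  rw [← AdicCompletion.transitionMap_comp_eval_apply I (Twist p A) hnm]
  obtain ⟨t, ht⟩ := Submodule.Quotient.mk_surjective _
    ((AdicCompletion.ofTensorProduct I (Twist p A) z).val m)
  have hk := key p A I z m
  rw [hz, ← ht, phi_mk, AdicCompletion.val_zero_apply, eq_comm,
    Submodule.Quotient.mk_eq_zero, smul_eq_mul, Ideal.mul_top] at hk
  have h3 := hm _ hk
  rw [RingEquiv.apply_symm_apply] at h3
  rw [← ht, AdicCompletion.val_zero_apply]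
  change Submodule.Quotient.mk t = 0
  rwa [Submodule.Quotient.mk_eq_zero]

theorem sub_mem_pow_min (g : AdicCompletion.AdicCauchySequence I A) (a b : ℕ) :
    g a - g b ∈ I ^ (min a b) := by
  have key : ∀ a b : ℕ, a ≤ b → g a - g b ∈ I ^ a := by
    intro a b hab
    have h := g.property hab
    rw [SModEq.sub_mem, smul_eq_mul, Ideal.mul_top] at h
    exact h
  rcases le_total a b with hab | hab
  · rw [min_eq_left hab]; exact key a b hab
  · rw [min_eq_right hab, ← neg_sub]; exact neg_mem (key b a hab)

theorem relFrob_surjective [IsNoetherianRing A] (hF : (frobenius A p).Finite) :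
    Function.Surjective (relFrob p A (AdicCompletion I A)) := by
  have := finite_twist p A hF
  intro y
  obtain ⟨g, rfl⟩ := AdicCompletion.mk_surjective I A y
  choose m hnm hm using exists_pow_le p A I
  have hJmono : ∀ {n n' : ℕ}, n ≤ n' → (I ^ n' • ⊤ : Submodule A (Twist p A)) ≤ I ^ n • ⊤ :=
    fun h => Submodule.smul_mono_left (Ideal.pow_le_pow_right h)
  have hf : AdicCompletion.IsAdicCauchy I (Twist p A) (fun n => toTwist p A (g (m n))) := by
    intro n n' hnn'
    rw [SModEq.sub_mem, ← map_sub]
    have h1 := sub_mem_pow_min A I g (m n) (m n')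
    rcases le_total (m n) (m n') with h | h
    · rw [min_eq_left h] at h1
      exact hm n _ h1
    · rw [min_eq_right h] at h1
      exact hJmono hnn' (hm n' _ h1)
  obtain ⟨z, hz⟩ := (AdicCompletion.ofTensorProduct_bijective_of_finite_of_isNoetherian I
    (Twist p A)).2 (AdicCompletion.mk I (Twist p A) ⟨_, hf⟩)
  refine ⟨z, ?_⟩
  apply AdicCompletion.ext
  intro n
  rw [key, hz, AdicCompletion.mk_apply_coe, AdicCompletion.mk_apply_coe, Submodule.mkQ_apply,
    Submodule.mkQ_apply, phi_mk]
  change Submodule.Quotient.mk ((toTwist p A).symm (toTwist p A (g (m n)))) = _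
  rw [RingEquiv.symm_apply_apply]
  exact AdicCompletion.AdicCauchySequence.mk_eq_mk (hnm n) g

end main

/-- Let p be a prime, A a regular local ring of characteristic p whose absolute Frobenius a ↦ a^p is a
finite ring homomorphism, I an ideal of A and Â the I-adic completion of A. Then Spec Â → Spec A is
relatively perfect: the relative Frobenius Â ⊗_{A,Frob} A → Â, b ⊗ a ↦ b^p a, is bijective. (Â is
also flat over A since A is Noetherian, so the morphism is flat and relatively perfect. The instance
hypothesis that Â has characteristic p holds as soon as I ≠ A.) -/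
theorem result (p : ℕ) [Fact p.Prime]
    (A : Type u) [CommRing A] [IsRegularLocalRing A] [CharP A p] (hF : (frobenius A p).Finite)
    (I : Ideal A) [CharP (AdicCompletion I A) p] :
    Function.Bijective (FrobAlg.relFrob p A (AdicCompletion I A)) := by
  exact ⟨relFrob_injective p A I hF, relFrob_surjective p A I hF⟩

end Groth.Agent.S17428
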