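import Groth.Statements.S1745
import Groth.Agent.Lib.T2H2InjBC
import Groth.Agent.S0307
import Groth.Agent.S0306
import Groth.Agent.S0304
import Groth.Agent.S0300

set_option autoImplicit false
universe u
open scoped TensorProduct
open InjHull

namespace Groth.Agent.S1745

/-- Let A → B be a flat homomorphism of Noetherian rings such that for every prime q of B with
contraction p, the ideal p B_q equals the maximal ideal q B_q of B_q (for instance an étale map).
Then for every injective A-module I the B-module B ⊗_A I is injective. -/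
theorem result (A B : Type u) [CommRing A] [CommRing B] [Algebra A B] [IsNoetherianRing A] [IsNoetherianRing B] [Module.Flat A B] (h : ∀ q : PrimeSpectrum B, Ideal.map (algebraMap B (Localization.AtPrime q.asIdeal)) ((q.asIdeal.comap (algebraMap A B)).map (algebraMap A B)) = IsLocalRing.maximalIdeal (Localization.AtPrime q.asIdeal)) (I : Type u) [AddCommGroup I] [Module A I] [Module.Injective A I] : Module.Injective B (B ⊗[A] I) := by
  classical
  obtain ⟨ι, E, hint, hE⟩ := Groth.Agent.S0307.result A I inferInstance
  let eI : DirectSum ι (fun i => E i) ≃ₗ[A] I :=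
    LinearEquiv.ofBijective (DirectSum.coeLinearMap E) hint
  have hEi : ∀ i, Module.Injective B (B ⊗[A] E i) := by
    intro i
    obtain ⟨hind, hinj⟩ := hE i
    have hnt : Nontrivial (E i) := hind.1
    obtain ⟨p, hp, f, hfinj⟩ := Groth.Agent.S0306.exists_prime_embedding (R := A) (E i)
    have hrange : LinearMap.range f ≠ ⊥ := by
      intro h0
      rw [LinearMap.range_eq_bot] at h0
      have h1 : f 1 = f 0 := by rw [h0]; rfl
      exact one_ne_zero (hfinj h1)
    have hull : InjHull.IsInjectiveHull f :=
      ⟨⟨hfinj, fun N hN => (Groth.Agent.S0304.result A (E i) hind hinj).1 N _ hN hrange⟩, hinj⟩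
    exact Groth.Agent.Lib.T2H2.InjBC.lemmaR A B h p (E i) f hull
  have hsum : Module.Injective B (DirectSum ι (fun i => B ⊗[A] E i)) :=
    Groth.Agent.S0300.result B (fun i => B ⊗[A] E i) hEi
  let e2 : B ⊗[A] I ≃ₗ[B] DirectSum ι (fun i => B ⊗[A] E i) :=
    (TensorProduct.AlgebraTensorModule.congr (LinearEquiv.refl B B) eI.symm) ≪≫ₗ
      TensorProduct.directSumRight A B B (fun i => E i)
  exact Groth.Agent.Lib.T2H2.InjBC.injective_of_linearEquiv
    (Q := DirectSum ι (fun i => B ⊗[A] E i)) e2.symm

end Groth.Agent.S1745
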