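import Groth.Statements.S17512
import Mathlib

set_option autoImplicit false
set_option linter.unusedSectionVars false
set_option linter.style.haveILetI false
universe u
open ThetaRep
open scoped commutatorElement

namespace Groth.Agent.S17512

section

variable {k : Type u} [Field k] {Γ : Type u} [Group Γ] (ι : kˣ →* Γ)
  (hι : Function.Injective ι) (hcent : ι.range = Subgroup.center Γ)
  (hcomm : commutator Γ ≤ ι.range)

include hcent in
theorem central_comm {z : Γ} (hz : z ∈ ι.range) (g : Γ) : g * z = z * g := by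
  rw [hcent] at hz
  exact Subgroup.mem_center_iff.1 hz g

include hcomm in
theorem comm_mem (x y : Γ) : ⁅x, y⁆ ∈ ι.range :=
  hcomm (Subgroup.commutator_mem_commutator (Subgroup.mem_top x) (Subgroup.mem_top y))

include hcent hcomm in
theorem comm_mul_right (x y y' : Γ) : ⁅x, y * y'⁆ = ⁅x, y⁆ * ⁅x, y'⁆ := by
  have hc := central_comm ι hcent (comm_mem ι hcomm x y') y⁻¹
  simp only [commutatorElement_def] at hc ⊢
  calc x * (y * y') * x⁻¹ * (y * y')⁻¹
      = x * y * x⁻¹ * ((x * y' * x⁻¹ * y'⁻¹) * y⁻¹) := by group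
    _ = x * y * x⁻¹ * (y⁻¹ * (x * y' * x⁻¹ * y'⁻¹)) := by rw [hc]
    _ = x * y * x⁻¹ * y⁻¹ * (x * y' * x⁻¹ * y'⁻¹) := by group

include hcent hcomm in
theorem comm_mul_left (x x' y : Γ) : ⁅x * x', y⁆ = ⁅x, y⁆ * ⁅x', y⁆ := by
  have hc := central_comm ι hcent (comm_mem ι hcomm x' y) x⁻¹
  have hc2 := central_comm ι hcent (comm_mem ι hcomm x' y) (x * y * x⁻¹ * y⁻¹)
  simp only [commutatorElement_def] at hc hc2 ⊢
  calc x * x' * y * (x * x')⁻¹ * y⁻¹
      = x * ((x' * y * x'⁻¹ * y⁻¹) * (y * x⁻¹ * y⁻¹)) := by group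
    _ = x * ((y * x⁻¹ * y⁻¹) * (x' * y * x'⁻¹ * y⁻¹)) := by
        rw [central_comm ι hcent (by simpa [commutatorElement_def] using comm_mem ι hcomm x' y)
          (y * x⁻¹ * y⁻¹)]
    _ = x * y * x⁻¹ * y⁻¹ * (x' * y * x'⁻¹ * y⁻¹) := by group

/-- the commutator pairing valued in `kˣ`, in the second variable -/
noncomputable def cHom (x : Γ) : Γ →* kˣ :=
  (MonoidHom.ofInjective hι).symm.toMonoidHom.comp
    { toFun := fun y => (⟨⁅x, y⁆, comm_mem ι hcomm x y⟩ : ι.range)
      map_one' := Subtype.ext (commutatorElement_one_right x)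
      map_mul' := fun y y' => Subtype.ext (comm_mul_right ι hcent hcomm x y y') }

theorem ι_cHom (x y : Γ) : ι (cHom ι hι hcent hcomm x y) = ⁅x, y⁆ :=
  MonoidHom.apply_ofInjective_symm hι _

theorem cHom_eq_one_iff (x y : Γ) : cHom ι hι hcent hcomm x y = 1 ↔ x * y = y * x := by
  rw [← hι.eq_iff, ι_cHom, map_one, commutatorElement_eq_one_iff_commute]
  exact Iff.rfl

theorem cHom_mul_left (x x' y : Γ) :
    cHom ι hι hcent hcomm (x * x') y = cHom ι hι hcent hcomm x y * cHom ι hι hcent hcomm x' y := by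
  apply hι
  rw [map_mul, ι_cHom, ι_cHom, ι_cHom, comm_mul_left ι hcent hcomm]

theorem cHom_one_left (y : Γ) : cHom ι hι hcent hcomm 1 y = 1 := by
  rw [cHom_eq_one_iff]; simp

include hcent in
theorem normal_range : ι.range.Normal := by
  rw [hcent]; infer_instance

end

section Quot

variable {k : Type u} [Field k] {Γ : Type u} [Group Γ] (ι : kˣ →* Γ)
  (hι : Function.Injective ι) (hcent : ι.range = Subgroup.center Γ)
  (hcomm : commutator Γ ≤ ι.range) [hn : ι.range.Normal]

include hcomm in
theorem mk_mul_comm (a b : Γ ⧸ ι.range) : a * b = b * a := by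
  induction a using QuotientGroup.induction_on with
  | _ x =>
    induction b using QuotientGroup.induction_on with
    | _ y =>
      rw [← QuotientGroup.mk_mul, ← QuotientGroup.mk_mul, QuotientGroup.eq]
      have h := comm_mem ι hcomm y⁻¹ x⁻¹
      rw [commutatorElement_def] at h
      simpa [mul_assoc] using h

/-- the quotient is commutative -/
@[reducible]
noncomputable def commGroupK : CommGroup (Γ ⧸ ι.range) :=
  { (inferInstance : Group (Γ ⧸ ι.range)) with
    mul_comm := mk_mul_comm ι hcomm }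

/-- the pairing descended in the second variable -/
noncomputable def cK (x : Γ) : (Γ ⧸ ι.range) →* kˣ :=
  QuotientGroup.lift ι.range (cHom ι hι hcent hcomm x) (by
    intro z hz
    rw [MonoidHom.mem_ker, cHom_eq_one_iff]
    exact central_comm ι hcent hz x)

theorem cK_mk (x y : Γ) : cK ι hι hcent hcomm x (y : Γ ⧸ ι.range) = cHom ι hι hcent hcomm x y :=
  rfl

/-- the pairing descended in both variables -/
noncomputable def cKK : (Γ ⧸ ι.range) →* ((Γ ⧸ ι.range) →* kˣ) :=
  QuotientGroup.lift ι.range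
    { toFun := cK ι hι hcent hcomm
      map_one' := by
        apply QuotientGroup.monoidHom_ext
        apply MonoidHom.ext
        intro y
        change cK ι hι hcent hcomm 1 (y : Γ ⧸ ι.range) = 1
        rw [cK_mk, cHom_one_left]
      map_mul' := fun x x' => by
        apply QuotientGroup.monoidHom_ext
        apply MonoidHom.ext
        intro y
        change cK ι hι hcent hcomm (x * x') (y : Γ ⧸ ι.range) =
          cK ι hι hcent hcomm x (y : Γ ⧸ ι.range) * cK ι hι hcent hcomm x' (y : Γ ⧸ ι.range)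
        rw [cK_mk, cK_mk, cK_mk, cHom_mul_left] }
    (by
      intro z hz
      rw [MonoidHom.mem_ker]
      apply QuotientGroup.monoidHom_ext
      apply MonoidHom.ext
      intro y
      change cK ι hι hcent hcomm z (y : Γ ⧸ ι.range) = 1
      rw [cK_mk, (cHom_eq_one_iff ι hι hcent hcomm z y).2 (central_comm ι hcent hz y).symm])

theorem cKK_mk_mk (x y : Γ) :
    cKK ι hι hcent hcomm (x : Γ ⧸ ι.range) (y : Γ ⧸ ι.range) = cHom ι hι hcent hcomm x y :=
  rfl

theorem cKK_injective : Function.Injective (cKK ι hι hcent hcomm) := by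
  rw [injective_iff_map_eq_one]
  intro a ha
  induction a using QuotientGroup.induction_on with
  | _ x =>
    rw [QuotientGroup.eq_one_iff, hcent, Subgroup.mem_center_iff]
    intro y
    have h1 : cKK ι hι hcent hcomm (x : Γ ⧸ ι.range) (y : Γ ⧸ ι.range) = 1 := by
      rw [ha]; rfl
    rw [cKK_mk_mk, cHom_eq_one_iff] at h1
    exact h1.symm

end Quot

section Count

variable {k : Type u} [Field k] [IsAlgClosed k] {Γ : Type u} [Group Γ] (ι : kˣ →* Γ)
  (hι : Function.Injective ι) (hcent : ι.range = Subgroup.center Γ)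
  (hcomm : commutator Γ ≤ ι.range) [hn : ι.range.Normal] [Finite (Γ ⧸ ι.range)]
  (hcop : (Nat.card (Γ ⧸ ι.range)).Coprime (ringExpChar k))

include hcop in
theorem natCast_ne_zero {n : ℕ} (hn0 : n ≠ 0) (hdvd : n ∣ Nat.card (Γ ⧸ ι.range)) :
    ((n : ℕ) : k) ≠ 0 := by
  have hc : n.Coprime (ringExpChar k) := Nat.Coprime.coprime_dvd_left hdvd hcop
  have hE : ExpChar k (ringExpChar k) := inferInstance
  revert hc hE
  generalize ringExpChar k = q
  intro hc hE
  cases hE with
  | zero => exact Nat.cast_ne_zero.2 hn0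
  | prime hq =>
    intro h0
    have := (CharP.cast_eq_zero_iff k q n).1 h0
    have h1 : q ∣ Nat.gcd n q := Nat.dvd_gcd this dvd_rfl
    rw [hc] at h1
    exact hq.one_lt.ne' (Nat.dvd_one.1 h1)

include hι hcent hcomm hcop in
theorem index_eq (H : Subgroup Γ) (hH : ι.range ≤ H) :
    ι.range.index =
      ι.range.relIndex (Subgroup.centralizer (H : Set Γ)) * ι.range.relIndex H := by
  letI : CommGroup (Γ ⧸ ι.range) := commGroupK ι hcomm
  have hexp : ((Monoid.exponent (Γ ⧸ ι.range) : ℕ) : k) ≠ 0 :=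
    natCast_ne_zero ι hcop Monoid.exponent_ne_zero_of_finite Group.exponent_dvd_nat_card
  haveI : NeZero ((Monoid.exponent (Γ ⧸ ι.range) : ℕ) : k) := ⟨hexp⟩
  haveI : HasEnoughRootsOfUnity k (Monoid.exponent (Γ ⧸ ι.range)) := inferInstance
  have hcard : Nat.card ((Γ ⧸ ι.range) →* kˣ) = Nat.card (Γ ⧸ ι.range) :=
    CommGroup.card_monoidHom_of_hasEnoughRootsOfUnity _ k
  haveI : Finite ((Γ ⧸ ι.range) →* kˣ) :=
    Nat.finite_of_card_ne_zero (by rw [hcard]; exact Nat.card_pos.ne')
  have hB : Function.Surjective (cKK ι hι hcent hcomm) :=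
    ((cKK_injective ι hι hcent hcomm).bijective_of_nat_card_le hcard.le).2
  set Hbar : Subgroup (Γ ⧸ ι.range) := H.map (QuotientGroup.mk' ι.range) with hHbar
  set φ : (Γ ⧸ ι.range) →* (Hbar →* kˣ) :=
    (MonoidHom.domRestrictHom Hbar kˣ).comp (cKK ι hι hcent hcomm) with hφdef
  have hφ : Function.Surjective φ := (MonoidHom.domRestrict_surjective k Hbar).comp hB
  have hφapp : ∀ (x h : Γ) (hh : (h : Γ ⧸ ι.range) ∈ Hbar),
      φ (x : Γ ⧸ ι.range) ⟨(h : Γ ⧸ ι.range), hh⟩ = cHom ι hι hcent hcomm x h := fun x h hh => rfl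
  have hker : φ.ker = (Subgroup.centralizer (H : Set Γ)).map (QuotientGroup.mk' ι.range) := by
    ext a
    induction a using QuotientGroup.induction_on with
    | _ x =>
      rw [MonoidHom.mem_ker, Subgroup.mem_map]
      constructor
      · intro hx
        refine ⟨x, ?_, rfl⟩
        rw [Subgroup.mem_centralizer_iff]
        intro h hh
        have hh' : (h : Γ ⧸ ι.range) ∈ Hbar := Subgroup.mem_map_of_mem _ hh
        have h1 := hφapp x h hh'
        rw [hx] at h1
        exact ((cHom_eq_one_iff ι hι hcent hcomm x h).1 h1.symm).symm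
      · rintro ⟨x', hx', hxx'⟩
        change ((x' : Γ ⧸ ι.range)) = (x : Γ ⧸ ι.range) at hxx'
        rw [← hxx']
        apply MonoidHom.ext
        rintro ⟨hb, hhb⟩
        obtain ⟨h, hh, rfl⟩ := Subgroup.mem_map.1 hhb
        refine (hφapp x' h hhb).trans ?_
        change cHom ι hι hcent hcomm x' h = 1
        rw [cHom_eq_one_iff]
        exact ((Subgroup.mem_centralizer_iff.1 hx') h hh).symm
  have h1 := Subgroup.card_eq_card_quotient_mul_card_subgroup φ.ker
  have hexpH : HasEnoughRootsOfUnity k (Monoid.exponent Hbar) :=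
    HasEnoughRootsOfUnity.of_dvd k (Monoid.exponent_submonoid_dvd Hbar.toSubmonoid)
  have h2 : Nat.card ((Γ ⧸ ι.range) ⧸ φ.ker) = Nat.card Hbar := by
    rw [Nat.card_congr (QuotientGroup.quotientKerEquivOfSurjective φ hφ).toEquiv,
      CommGroup.card_monoidHom_of_hasEnoughRootsOfUnity]
  rw [Subgroup.index_eq_card, h1, h2, hker, hHbar, ← Subgroup.relIndex_ker, ← Subgroup.relIndex_ker,
    QuotientGroup.ker_mk', mul_comm]

end Count

theorem result
    (k : Type u) [Field k] [IsAlgClosed k]
    (Γ : Type u) [Group Γ] (ι : kˣ →* Γ) (hι : Function.Injective ι)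
    (hcent : ι.range = Subgroup.center Γ) (hcomm : commutator Γ ≤ ι.range)
    [Finite (Γ ⧸ ι.range)] (hcop : (Nat.card (Γ ⧸ ι.range)).Coprime (ringExpChar k))
    (H : Subgroup Γ) (hH : ι.range ≤ H) :
    List.TFAE [
      IsMulCommutative H ∧ ∀ H' : Subgroup Γ, IsMulCommutative H' → H ≤ H' → H' = H,
      IsMulCommutative H ∧ (ι.range.relIndex H) ^ 2 = ι.range.index,
      H = Subgroup.centralizer (H : Set Γ)] := by
  haveI hn : ι.range.Normal := normal_range ι hcent
  have hidx := index_eq ι hι hcent hcomm hcop H hH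
  have hfin : ι.range.index ≠ 0 := by
    rw [Subgroup.index_eq_card]; exact Nat.card_pos.ne'
  tfae_have 1 → 3 := by
    rintro ⟨hc, hmax⟩
    apply le_antisymm
    · exact Subgroup.le_centralizer_iff_isMulCommutative.2 hc
    · intro x hx
      have hS : ∀ a ∈ ((H : Set Γ) ∪ {x}), ∀ b ∈ ((H : Set Γ) ∪ {x}), a * b = b * a := by
        rintro a (ha | ha) b (hb | hb)
        · have := hc.is_comm.comm (⟨a, ha⟩ : H) ⟨b, hb⟩
          exact congrArg Subtype.val this
        · rw [Set.mem_singleton_iff] at hb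
          subst hb
          exact (Subgroup.mem_centralizer_iff.1 hx) a ha
        · rw [Set.mem_singleton_iff] at ha
          subst ha
          exact ((Subgroup.mem_centralizer_iff.1 hx) b hb).symm
        · rw [Set.mem_singleton_iff] at ha hb
          rw [ha, hb]
      have hcl : IsMulCommutative (Subgroup.closure ((H : Set Γ) ∪ {x})) :=
        Subgroup.isMulCommutative_closure hS
      have hle : H ≤ Subgroup.closure ((H : Set Γ) ∪ {x}) := fun a ha =>
        Subgroup.subset_closure (Or.inl ha)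
      have := hmax _ hcl hle
      rw [← this]
      exact Subgroup.subset_closure (Or.inr rfl)
  tfae_have 3 → 1 := by
    intro h3
    have hc : IsMulCommutative H := Subgroup.le_centralizer_iff_isMulCommutative.1 h3.le
    refine ⟨hc, fun H' hH' hle => le_antisymm ?_ hle⟩
    calc H' ≤ Subgroup.centralizer (H' : Set Γ) :=
          Subgroup.le_centralizer_iff_isMulCommutative.2 hH'
      _ ≤ Subgroup.centralizer (H : Set Γ) := Subgroup.centralizer_le hle
      _ = H := h3.symm
  tfae_have 3 → 2 := by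
    intro h3
    have hc : IsMulCommutative H := Subgroup.le_centralizer_iff_isMulCommutative.1 h3.le
    refine ⟨hc, ?_⟩
    rw [hidx, ← h3, sq]
  tfae_have 2 → 3 := by
    rintro ⟨hc, hsq⟩
    have hHC : H ≤ Subgroup.centralizer (H : Set Γ) :=
      Subgroup.le_centralizer_iff_isMulCommutative.2 hc
    have hne : ι.range.relIndex H ≠ 0 := by
      intro h0
      rw [h0] at hidx
      exact hfin (by rw [hidx, mul_zero])
    have h1 : ι.range.relIndex H = ι.range.relIndex (Subgroup.centralizer (H : Set Γ)) := by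
      have : ι.range.relIndex H * ι.range.relIndex H =
          ι.range.relIndex (Subgroup.centralizer (H : Set Γ)) * ι.range.relIndex H := by
        rw [← sq, hsq, hidx]
      exact Nat.eq_of_mul_eq_mul_right (Nat.pos_of_ne_zero hne) this
    have h2 := Subgroup.relIndex_mul_relIndex ι.range H (Subgroup.centralizer (H : Set Γ)) hH hHC
    rw [← h1] at h2
    have h3 : H.relIndex (Subgroup.centralizer (H : Set Γ)) = 1 := by
      have : ι.range.relIndex H * H.relIndex (Subgroup.centralizer (H : Set Γ)) =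
          ι.range.relIndex H * 1 := by rw [h2, mul_one]
      exact Nat.eq_of_mul_eq_mul_left (Nat.pos_of_ne_zero hne) this
    exact le_antisymm hHC (Subgroup.relIndex_eq_one.1 h3)
  tfae_finish

end Groth.Agent.S17512
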