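import Groth.Statements.S17593
import Groth.Agent.Lib.Helper3FlatOpenFP

set_option autoImplicit false
universe u
open Hensel

namespace Groth.Agent.S17593

open Groth.Agent.Lib.Helper3.FlatOpen

/-- flatness of the local ring, in the two models -/
theorem flat_atPrime_of_flat_localizedModule {A R : Type u} [CommRing A] [CommRing R] [Algebra A R]
    (q : Ideal R) [q.IsPrime] (h : Module.Flat A (LocalizedModule q.primeCompl R)) :
    Module.Flat A (Localization.AtPrime q) := by
  let e : LocalizedModule q.primeCompl R ≃ₗ[R] Localization.AtPrime q :=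
    IsLocalizedModule.iso q.primeCompl (Algebra.linearMap R (Localization.AtPrime q))
  exact Module.Flat.of_linearEquiv (e.restrictScalars A).symm

theorem flat_localizedModule_of_flat_atPrime {A R : Type u} [CommRing A] [CommRing R] [Algebra A R]
    (q : Ideal R) [q.IsPrime] (h : Module.Flat A (Localization.AtPrime q)) :
    Module.Flat A (LocalizedModule q.primeCompl R) := by
  let e : LocalizedModule q.primeCompl R ≃ₗ[R] Localization.AtPrime q :=
    IsLocalizedModule.iso q.primeCompl (Algebra.linearMap R (Localization.AtPrime q))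
  exact Module.Flat.of_linearEquiv (e.restrictScalars A)

/-- Suppose (A, I) is a Henselian pair, and R is an A-algebra of finite presentation for which A → R is
flat at each prime of R that contains IR. Then there is an étale R-algebra R' such that R/IR →
R'/IR' is bijective and A → R' is flat. -/
theorem result (A : Type u) [CommRing A] (I : Ideal A) [HenselianRing A I]
    (R : Type u) [CommRing R] [Algebra A R] [Algebra.FinitePresentation A R]
    (h : ∀ (p : Ideal R) [p.IsPrime], I.map (algebraMap A R) ≤ p → Module.Flat A (Localization.AtPrime p))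
    : ∃ (R' : Type u) (_ : CommRing R') (_ : Algebra R R') (_ : Algebra A R') (_ : IsScalarTower A R R'),
      Algebra.Etale R R' ∧
      Function.Bijective (Ideal.quotientMap ((I.map (algebraMap A R)).map (algebraMap R R'))
        (algebraMap R R') Ideal.le_comap_map) ∧ Module.Flat A R' := by
  classical
  set K : Ideal R := I.map (algebraMap A R) with hK
  -- the flat locus is open
  have hopen : IsOpen {q : PrimeSpectrum R |
      Module.Flat A (LocalizedModule q.asIdeal.primeCompl R)} :=
    isOpen_flatLocus_of_finitePresentation (R := A) (S := R) (M := R)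
  obtain ⟨J, hJ⟩ := (PrimeSpectrum.isClosed_iff_zeroLocus_ideal _).1 hopen.isClosed_compl
  -- `K ⊔ J = ⊤`
  have htop : K ⊔ J = ⊤ := by
    by_contra hne
    obtain ⟨m, hm, hle⟩ := Ideal.exists_le_maximal _ hne
    have hmJ : (⟨m, hm.isPrime⟩ : PrimeSpectrum R) ∈ PrimeSpectrum.zeroLocus (J : Set R) := by
      rw [PrimeSpectrum.mem_zeroLocus]
      exact fun y hy => (le_sup_right.trans hle) hy
    rw [← hJ] at hmJ
    apply hmJ
    have := hm.isPrime
    exact flat_localizedModule_of_flat_atPrime m (h m (le_sup_left.trans hle))
  obtain ⟨x, hx, j, hj, hxj⟩ := Submodule.mem_sup.1 ((Ideal.eq_top_iff_one _).1 htop)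
  -- primes not containing `j` are in the flat locus
  have hflatq : ∀ (q : Ideal R) [q.IsPrime], j ∉ q → Module.Flat A (Localization.AtPrime q) := by
    intro q _ hjq
    apply flat_atPrime_of_flat_localizedModule
    by_contra hnf
    have : (⟨q, inferInstance⟩ : PrimeSpectrum R) ∈
        ({q : PrimeSpectrum R | Module.Flat A (LocalizedModule q.asIdeal.primeCompl R)})ᶜ := hnf
    rw [hJ, PrimeSpectrum.mem_zeroLocus] at this
    exact hjq (this hj)
  have hj1 : ∀ n : ℕ, j ^ n - 1 ∈ K := by
    intro n
    have h1 : j - 1 ∈ K := by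
      have : j - 1 = -x := by rw [← hxj]; ring
      rw [this]; exact K.neg_mem hx
    exact Ideal.mem_of_dvd K (sub_one_dvd_pow_sub_one j n) h1 |> fun h => by simpa using h
  refine ⟨Localization.Away j, inferInstance, inferInstance, inferInstance, inferInstance,
    inferInstance, ⟨?_, ?_⟩, ?_⟩
  · -- injective
    rw [injective_iff_map_eq_zero]
    intro y hy
    obtain ⟨r, rfl⟩ := Ideal.Quotient.mk_surjective y
    rw [Ideal.quotientMap_mk, Ideal.Quotient.eq_zero_iff_mem,
      IsLocalization.mem_map_algebraMap_iff (Submonoid.powers j)] at hy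
    obtain ⟨⟨⟨a, ha⟩, ⟨s, n, rfl⟩⟩, hys⟩ := hy
    simp only at hys
    rw [← map_mul] at hys
    obtain ⟨⟨t, m, rfl⟩, hc⟩ := (IsLocalization.eq_iff_exists (Submonoid.powers j) _).1 hys
    simp only at hc
    rw [Ideal.Quotient.eq_zero_iff_mem]
    -- `j^m * (r * j^n) = j^m * a ∈ K`, and `j^(m+n) ≡ 1`
    have h1 : j ^ (m + n) * r ∈ K := by
      have : j ^ (m + n) * r = j ^ m * (r * j ^ n) := by ring
      rw [this, hc]
      exact K.mul_mem_left _ ha
    have h2 : (j ^ (m + n) - 1) * r ∈ K := K.mul_mem_right _ (hj1 _)
    have : r = j ^ (m + n) * r - (j ^ (m + n) - 1) * r := by ring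
    rw [this]
    exact K.sub_mem h1 h2
  · -- surjective
    intro y
    obtain ⟨y, rfl⟩ := Ideal.Quotient.mk_surjective y
    obtain ⟨r, ⟨s, n, rfl⟩, rfl⟩ := IsLocalization.exists_mk'_eq (Submonoid.powers j) y
    refine ⟨Ideal.Quotient.mk K r, ?_⟩
    rw [Ideal.quotientMap_mk, Ideal.Quotient.eq]
    -- `r/1 - r/j^n = (r (j^n - 1))/j^n`
    have hunit : IsUnit (algebraMap R (Localization.Away j) (j ^ n)) :=
      IsLocalization.map_units _ (⟨j ^ n, n, rfl⟩ : Submonoid.powers j)
    have key : (algebraMap R (Localization.Away j) r -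
        IsLocalization.mk' (Localization.Away j) r (⟨j ^ n, n, rfl⟩ : Submonoid.powers j)) *
        algebraMap R (Localization.Away j) (j ^ n) =
        algebraMap R (Localization.Away j) ((j ^ n - 1) * r) := by
      rw [sub_mul, IsLocalization.mk'_spec, ← map_mul, ← map_sub]
      congr 1; ring
    have hmem : algebraMap R (Localization.Away j) ((j ^ n - 1) * r) ∈
        K.map (algebraMap R (Localization.Away j)) :=
      Ideal.mem_map_of_mem _ (K.mul_mem_right _ (hj1 n))
    rw [← key] at hmem
    obtain ⟨u, hu⟩ := hunit
    have := Ideal.mul_mem_right (↑u⁻¹ : Localization.Away j) _ hmem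
    rwa [mul_assoc, ← hu, Units.mul_inv, mul_one] at this
  · -- flatness
    refine Module.flat_of_isLocalized_maximal (Localization.Away j) (Localization.Away j)
      (fun P _ => Localization.AtPrime P)
      (fun P _ => Algebra.linearMap (Localization.Away j) (Localization.AtPrime P)) ?_
    intro P hP
    have hPprime := hP.isPrime
    have hjP : j ∉ P.comap (algebraMap R (Localization.Away j)) := by
      intro hmem
      exact hPprime.ne_top (Ideal.eq_top_of_isUnit_mem _ hmem
        (IsLocalization.map_units _ (⟨j, 1, pow_one j⟩ : Submonoid.powers j)))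
    have hfl := hflatq (P.comap (algebraMap R (Localization.Away j))) hjP
    let e := IsLocalization.localizationLocalizationAtPrimeIsoLocalization (Submonoid.powers j) P
    exact Module.Flat.of_linearEquiv ((e.toLinearEquiv.restrictScalars A)).symm

end Groth.Agent.S17593
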