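import Groth.Statements.S17615
import Groth.Agent.S17593
import Groth.Agent.Lib.Helper26PairHzMore
import Groth.Agent.Lib.Helper12Flat

set_option autoImplicit false
universe u
open Hensel

namespace Groth.Agent.S17615

open Groth.Agent.Lib.Helper26.PairHz

/-- primes containing `K` lift along a map inducing a bijection modulo `K`. -/
theorem exists_prime_comap_eq {R B : Type u} [CommRing R] [CommRing B] (φ : R →+* B) (K : Ideal R)
    (hbij : Function.Bijective (Ideal.quotientMap (K.map φ) φ Ideal.le_comap_map))
    (p : Ideal R) [hp : p.IsPrime] (hKp : K ≤ p) :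
    ∃ P : Ideal B, P.IsPrime ∧ P.comap φ = p := by
  let e : (R ⧸ K) ≃+* (B ⧸ K.map φ) := RingEquiv.ofBijective _ hbij
  have he : ∀ x : R, e (Ideal.Quotient.mk K x) = Ideal.Quotient.mk (K.map φ) (φ x) := fun x => by
    simp [e]
  have hpbar : (p.map (Ideal.Quotient.mk K)).IsPrime :=
    Ideal.map_isPrime_of_surjective Ideal.Quotient.mk_surjective (by simpa using hKp)
  refine ⟨((p.map (Ideal.Quotient.mk K)).comap (e.symm : (B ⧸ K.map φ) →+* (R ⧸ K))).comap
    (Ideal.Quotient.mk (K.map φ)), inferInstance, ?_⟩
  ext x
  simp only [Ideal.mem_comap]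
  have : (e.symm : (B ⧸ K.map φ) →+* (R ⧸ K)) (Ideal.Quotient.mk (K.map φ) (φ x)) =
      Ideal.Quotient.mk K x := by
    rw [← he]; simp
  rw [this, Ideal.mem_quotient_iff_mem hKp]

/-- Let (A, I) be a Henselian pair and let B be a Henselization of the pair (R₀, IR₀) for a finitely
presented A-algebra R₀ (so A → B is a Henselian finitely presented map of Henselian pairs). If B is
flat over A, then there are a finitely presented A-algebra S that is flat over A and an S-algebra
structure on B compatible with that of A for which B is a Henselization of the pair (S, IS). -/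
theorem result (A : Type u) [CommRing A]
    (I : Ideal A) [HenselianRing A I]
    (R₀ : Type u) [CommRing R₀] [Algebra A R₀] [Algebra.FinitePresentation A R₀]
    (B : Type u) [CommRing B] [Algebra R₀ B] [Algebra A B] [IsScalarTower A R₀ B]
    (hB : Hens2.IsPairHenselization R₀ (I.map (algebraMap A R₀)) B) [Module.Flat A B] :
    ∃ (S : Type u) (_ : CommRing S) (_ : Algebra A S) (_ : Algebra S B) (_ : IsScalarTower A S B),
      Algebra.FinitePresentation A S ∧ Module.Flat A S ∧
      Hens2.IsPairHenselization S (I.map (algebraMap A S)) B := by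
  classical
  set K : Ideal R₀ := I.map (algebraMap A R₀) with hK
  have hflatRB : Module.Flat R₀ B := flat_of_isPairHenselization hB
  have hbij := quotientMap_pow_bijective hB 1
  rw [pow_one] at hbij
  -- step A: `A → R₀` is flat at the primes containing `K`
  have hA : ∀ (p : Ideal R₀) [p.IsPrime], K ≤ p → Module.Flat A (Localization.AtPrime p) := by
    intro p _ hKp
    obtain ⟨P, hP, hPp⟩ := exists_prime_comap_eq (algebraMap R₀ B) K hbij p hKp
    have hover : P.LiesOver p := ⟨hPp.symm⟩
    letI := Localization.AtPrime.algebraOfLiesOver p P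
    have hloc : IsLocalHom (algebraMap (Localization.AtPrime p) (Localization.AtPrime P)) := by
      rw [Localization.AtPrime.IsLiesOverAlgebra.algebraMap_eq]
      infer_instance
    have hff : Module.FaithfullyFlat (Localization.AtPrime p) (Localization.AtPrime P) :=
      Module.FaithfullyFlat.of_flat_of_isLocalHom
    exact Groth.Agent.Lib.Helper12.flat_of_faithfullyFlat_of_flat_comp A (Localization.AtPrime p)
      (Localization.AtPrime P)
  obtain ⟨R', _, _, _, _, hEt, hbij', hflat'⟩ := Groth.Agent.S17593.result A I R₀ hA
  have hC : IsNbhd K R' := IsNbhd.of_quotientMap_bijective hbij'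
  obtain ⟨ρ, -⟩ := exists_algHom_of_nbhd hB hC
  letI algR'B : Algebra R' B := ρ.toRingHom.toAlgebra
  have tower : IsScalarTower R₀ R' B :=
    IsScalarTower.of_algebraMap_eq (fun r => (ρ.commutes r).symm)
  have towerA : IsScalarTower A R' B := by
    refine IsScalarTower.of_algebraMap_eq (fun a => ?_)
    rw [IsScalarTower.algebraMap_apply A R₀ B, IsScalarTower.algebraMap_apply R₀ R' B,
      ← IsScalarTower.algebraMap_apply A R₀ R']
  have hfp : Algebra.FinitePresentation A R' := Algebra.FinitePresentation.trans A R₀ R'
  refine ⟨R', inferInstance, inferInstance, algR'B, towerA, hfp, hflat', ?_⟩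
  have := isPairHenselization_of_nbhd hB hC
  rwa [hK, Ideal.map_map, ← IsScalarTower.algebraMap_eq] at this

end Groth.Agent.S17615
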