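import Groth.Statements.S17639
import Groth.Agent.Lib.T2H1SuppHom

set_option autoImplicit false
universe u
open CategoryTheory CategoryTheory.Limits AlgebraicGeometry
attribute [local instance] HasDerivedCategory.standard
open Dual3

namespace Groth.Agent.S17639

/-- Let f : X ⟶ Y be a separated morphism of finite type of Noetherian schemes, factored as f = f̄ ∘ j
with j : X ⟶ X̄ an open immersion and f̄ : X̄ ⟶ Y proper. Let Z ⊆ Y be a closed subset with open
complement U, and Z' ⊆ X a closed subset which is proper over Y and contained in f⁻¹(Z); such a Z'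
has closed image in X̄, and it is given here as Z' = j⁻¹(X̄ ∖ W) for an open W ⊆ X̄ with X̄ ∖ W ⊆
j(X) and f⁻¹(U) ⊆ j⁻¹(W). Let Rf̄_* and Rj_* exist and preserve complexes with quasi-coherent
cohomology, let a be a right adjoint of Rf̄_* on D_qc with its adjunction (whose counit is the trace
map of f̄), let an adjunction j^* ⊣ Rj_* be given, put f^!G = (a G)|_X, and let θ : RΓ_{Z'}(j^* aG)
⟶ j^*RΓ_{j(Z')}(aG) be the comparison morphism compatible with the two maps to j^*(aG), the unit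
RΓ_{j(Z')}(aG) ⟶ Rj_* j^* RΓ_{j(Z')}(aG) being an isomorphism. Then for every F in D(O_X) with
quasi-coherent cohomology sheaves, bounded above and supported on Z', and every G in D_qc(O_Y),
bounded below with cohomology supported on Z, the map sending φ : F ⟶ RΓ_{Z'}(f^!G) to the composite
Rf̄_* Rj_* F ⟶ Rf̄_* Rj_* RΓ_{Z'}(f^!G) ⟶ Rf̄_* Rj_* j^* RΓ_{j(Z')}(aG) ⟶ Rf̄_* RΓ_{j(Z')}(aG) ⟶
Rf̄_*(aG) ⟶ G (Rf̄_*Rj_* of φ and θ, inverse of the unit, the canonical map out of RΓ, the trace) is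
a bijection from Hom(F, RΓ_{Z'} f^!G) onto Hom(Rf_* F, G), with Rf_* computed as Rf̄_* ∘ Rj_*: the
functor Rf_* is left adjoint to RΓ_{Z'} f^! on these objects. (Throughout, RΓ with support is the
total right derived functor of the sheaf of sections supported in the closed subset. The published
statement derives instead the functor of sections killed by some power of a defining ideal; on
complexes with quasi-coherent cohomology sheaves over a Noetherian scheme the two derived functors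
agree.) -/
theorem result {X Y : Scheme.{u}} [IsNoetherian X] [IsNoetherian Y]
    (f : X ⟶ Y) [IsSeparated f] [LocallyOfFiniteType f] (c : DEt.Compactification f)
    (U : Y.Opens) (W : c.Xbar.Opens) (hW : (W : Set c.Xbar)ᶜ ⊆ Set.range c.j.base) (hZ : f ⁻¹ᵁ U ≤ c.j ⁻¹ᵁ W)
    [DCoh.HasRpush c.fbar] [DCoh.HasRpush c.j] (hfbar : DCoh.RpushPreservesQCoh c.fbar) (hj : DCoh.RpushPreservesQCoh c.j)
    (a : DCoh.DQCoh Y ⥤ DCoh.DQCoh c.Xbar) (adj : DCoh.RpushQ c.fbar hfbar ⊣ a)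
    (adjj : DCoh.restrictD c.j ⊣ DCoh.Rpush c.j)
    [CxOX.HasRgammaZ W.ι] [CxOX.HasRgammaZ (c.j ⁻¹ᵁ W).ι]
    (G : DCoh.DQCoh Y) (n : ℤ) (hGn : DerivedCategory.IsGE G.obj n) (hGZ : CxOX.IsSuppD U.ι G.obj)
    (θ : (CxOX.RgammaZ (c.j ⁻¹ᵁ W).ι).obj ((Dual3.shriekC c a).obj G) ⟶
      (DCoh.restrictD c.j).obj ((CxOX.RgammaZ W.ι).obj (a.obj G).obj))
    (hθ : θ ≫ (DCoh.restrictD c.j).map ((CxOX.RgammaZToId W.ι).app (a.obj G).obj) =
      (CxOX.RgammaZToId (c.j ⁻¹ᵁ W).ι).app ((Dual3.shriekC c a).obj G))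
    [IsIso (adjj.unit.app ((CxOX.RgammaZ W.ι).obj (a.obj G).obj))]
    (F : DCoh.D X) (hF : DCoh.IsQCohD F) (m : ℤ) (hFm : DerivedCategory.IsLE F m)
    (hFZ : CxOX.IsSuppD (c.j ⁻¹ᵁ W).ι F) :
    Function.Bijective (fun φ : F ⟶ (CxOX.RgammaZ (c.j ⁻¹ᵁ W).ι).obj ((Dual3.shriekC c a).obj G) =>
      (DCoh.Rpush c.fbar).map ((DCoh.Rpush c.j).map (φ ≫ θ) ≫
          inv (adjj.unit.app ((CxOX.RgammaZ W.ι).obj (a.obj G).obj)) ≫
          (CxOX.RgammaZToId W.ι).app (a.obj G).obj) ≫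
        (adj.counit.app G).hom) := by
  -- `F` vanishes on `j⁻¹ W`
  have hF0 : IsZero ((DCoh.restrictD (c.j ⁻¹ᵁ W).ι).obj F) := by
    refine Groth.Agent.Lib.T2H1.SuppPush.isZero_restrictD _ F (fun i x hx hxs => ?_)
    exact hFZ i hxs ⟨⟨x, hx⟩, rfl⟩
  -- `Rj_* F` vanishes on `W`
  have hS0 : IsZero ((DCoh.restrictD W.ι).obj ((DCoh.Rpush c.j).obj F)) := by
    refine Groth.Agent.Lib.T2H1.SuppPush.isZero_restrictD W _ (fun i y hyW => ?_)
    refine Groth.Agent.Lib.T2H1.RpushSupport.not_mem_support_HD_Rpush c.j W F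
      (fun k x hx hxs => ?_) i y hyW
    exact hFZ k hxs ⟨⟨x, hx⟩, rfl⟩
  let Ψ : (F ⟶ (CxOX.RgammaZ (c.j ⁻¹ᵁ W).ι).obj ((Dual3.shriekC c a).obj G)) →
      ((DCoh.Rpush c.j).obj F ⟶ (a.obj G).obj) := fun φ =>
    (DCoh.Rpush c.j).map (φ ≫ θ) ≫
      inv (adjj.unit.app ((CxOX.RgammaZ W.ι).obj (a.obj G).obj)) ≫
      (CxOX.RgammaZToId W.ι).app (a.obj G).obj
  have hΨ : Function.Bijective Ψ := by
    have h1 := Groth.Agent.Lib.T2H1.SuppHom.bijective_comp_unit c.j adjj W hW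
      ((DCoh.Rpush c.j).obj F) (a.obj G).obj hS0
    have h2 := Groth.Agent.Lib.T2H1.LocCan.bijective_comp_RgammaZToId (c.j ⁻¹ᵁ W)
      ((Dual3.shriekC c a).obj G) F hF0
    haveI := Groth.Agent.Lib.T2H1.RgammaSupp.isIso_counit c.j adjj
    have h3 : Function.Bijective (fun ψ : F ⟶ (Dual3.shriekC c a).obj G =>
        (DCoh.Rpush c.j).map ψ) :=
      (adjj.fullyFaithfulROfIsIsoCounit).map_bijective _ _
    have key : (fun χ : (DCoh.Rpush c.j).obj F ⟶ (a.obj G).obj =>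
          χ ≫ adjj.unit.app (a.obj G).obj) ∘ Ψ =
        (fun ψ : F ⟶ (Dual3.shriekC c a).obj G => (DCoh.Rpush c.j).map ψ) ∘
          (fun φ : F ⟶ (CxOX.RgammaZ (c.j ⁻¹ᵁ W).ι).obj ((Dual3.shriekC c a).obj G) =>
            φ ≫ (CxOX.RgammaZToId (c.j ⁻¹ᵁ W).ι).app ((Dual3.shriekC c a).obj G)) := by
      funext φ
      have hnat := adjj.unit.naturality ((CxOX.RgammaZToId W.ι).app (a.obj G).obj)
      dsimp at hnat
      dsimp only [Function.comp_apply, Ψ]
      rw [Category.assoc, Category.assoc, hnat, IsIso.inv_hom_id_assoc, ← Functor.map_comp,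
        Category.assoc, hθ]
    exact (Function.Bijective.of_comp_iff' h1 Ψ).1 (key ▸ h3.comp h2)
  -- the adjunction on `D_QCoh`
  let P : DCoh.DQCoh c.Xbar := ⟨(DCoh.Rpush c.j).obj F, hj F hF⟩
  have h4 : Function.Bijective (fun ξ : (DCoh.Rpush c.j).obj F ⟶ (a.obj G).obj =>
      (DCoh.Rpush c.fbar).map ξ ≫ (adj.counit.app G).hom) := by
    have e1 : Function.Bijective (fun ξ : (DCoh.Rpush c.j).obj F ⟶ (a.obj G).obj =>
        (ObjectProperty.homMk ξ : P ⟶ a.obj G)) :=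
      ⟨fun x y h => congrArg InducedCategory.Hom.hom h, fun g => ⟨g.hom, rfl⟩⟩
    have e2 := (adj.homEquiv P G).symm.bijective
    have e3 : Function.Bijective (fun g : (DCoh.RpushQ c.fbar hfbar).obj P ⟶ G => g.hom) :=
      ⟨fun x y h => ObjectProperty.hom_ext _ h, fun g => ⟨ObjectProperty.homMk g, rfl⟩⟩
    have hfun : (fun ξ : (DCoh.Rpush c.j).obj F ⟶ (a.obj G).obj =>
        (DCoh.Rpush c.fbar).map ξ ≫ (adj.counit.app G).hom) =
        (fun g : (DCoh.RpushQ c.fbar hfbar).obj P ⟶ G => g.hom) ∘ (adj.homEquiv P G).symm ∘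
          (fun ξ : (DCoh.Rpush c.j).obj F ⟶ (a.obj G).obj =>
            (ObjectProperty.homMk ξ : P ⟶ a.obj G)) := by
      funext ξ
      dsimp only [Function.comp_apply]
      rw [Adjunction.homEquiv_counit]
      rfl
    rw [hfun]
    exact e3.comp (e2.comp e1)
  exact h4.comp hΨ

end Groth.Agent.S17639
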