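import Groth.Statements.S17642
import Groth.Agent.Lib.T2H6VAmpleG
import Groth.Agent.Lib.T2H6PnSmooth
import Groth.Agent.Lib.Helper23AmpleIso
import Groth.Agent.S9705

set_option autoImplicit false
universe u
open CategoryTheory AlgebraicGeometry
open DerSch

namespace Groth.Agent.S17642

/-- Consider Noetherian schemes X and Y together with a morphism f : X ⟶ Y that is locally of finite
type. Given affine open subsets U ⊆ X and V ⊆ Y such that f(U) ⊆ V, the restriction of f to U can be
written as a composite U ⟶ W ⟶ P ⟶ Y in which the first map U ⟶ W is an open immersion, the middle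
map W ⟶ P is a closed immersion, and the last map P ⟶ Y is both smooth and proper. In the published
section every morphism is taken to be separated as a standing convention; since the printed proof
never uses this, no separatedness hypothesis appears here. -/
theorem result {X Y : Scheme.{u}}
    [IsNoetherian X] [IsNoetherian Y] (f : X ⟶ Y) [LocallyOfFiniteType f]
    (U : X.Opens) (hU : IsAffineOpen U) (V : Y.Opens) (hV : IsAffineOpen V) (hUV : U ≤ f ⁻¹ᵁ V) :
    ∃ (W P : Scheme.{u}) (g : (U : Scheme.{u}) ⟶ W) (h : W ⟶ P) (k : P ⟶ Y),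
      IsOpenImmersion g ∧ IsClosedImmersion h ∧ Smooth k ∧ IsProper k ∧ g ≫ h ≫ k = U.ι ≫ f := by
  haveI : IsAffine (U : Scheme.{u}) := hU
  have hL : CohB1.IsAmple (Coh.structureModule (U : Scheme.{u})) :=
    (Groth.Agent.Lib.Helper23.AmpleIso.isQuasiAffine_iff_isAmple_structureModule _).1 inferInstance
  obtain ⟨n, i, hi, hcomp⟩ :=
    Groth.Agent.Lib.T2H6.VAmpleG.exists_immersion_of_isAmple (U.ι ≫ f) _ hL
  haveI hprop : IsProper (CohB1.ProjSpaceOver.toBase n Y) := Groth.Agent.S9705.isProper_toBase n Y
  haveI hsm : Smooth (CohB1.ProjSpaceOver.toBase n Y) := by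
    haveI := Groth.Agent.Lib.T2H6.PnSmooth.smooth_projSpace_toSpec n (ULift.{u} ℤ)
    unfold CohB1.ProjSpaceOver.toBase
    exact MorphismProperty.pullback_snd (P := @Smooth) _ _ this
  have hcomp' : i ≫ CohB1.ProjSpaceOver.toBase n Y = U.ι ≫ f := hcomp
  haveI : QuasiCompact (i ≫ CohB1.ProjSpaceOver.toBase n Y) := by
    rw [hcomp']
    infer_instance
  haveI : QuasiCompact i := QuasiCompact.of_comp i (CohB1.ProjSpaceOver.toBase n Y)
  obtain ⟨W, g, h, hg, hh, hfac⟩ := (IsImmersion.isImmersion_iff_exists_of_quasiCompact (f := i)).1 hi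
  refine ⟨W, CohB1.ProjSpaceOver n Y, g, h, CohB1.ProjSpaceOver.toBase n Y, hg, hh, hsm, hprop, ?_⟩
  rw [← Category.assoc, hfac]
  exact hcomp'

end Groth.Agent.S17642
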