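import Groth.Statements.S17659
import Mathlib
import Groth.Agent.Lib.T2H6DegComp
import Groth.Agent.Lib.Helper4IsolFib
import Groth.Agent.Lib.T2H6FieldBC2
import Groth.Agent.Lib.T2H6TensorPows

set_option autoImplicit false
universe u
open CategoryTheory CategoryTheory.Limits AlgebraicGeometry
open CIDisc

namespace Groth.Agent.S17659

/-- Let X be a proper scheme over a field k all of whose irreducible components have dimension one, E a
finite locally free O_X-module of constant rank n and F a coherent O_X-module. Then χ(X, E ⊗ F) =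
Σ_Z r_Z(F) · deg(E|_{Z_red}) + n · χ(X, F), the sum running over the irreducible components Z of X,
where r_Z(F) is the length of the stalk of F at the generic point ξ_Z of Z as a module over
O_{X,ξ_Z}, and Z_red is Z with its reduced induced structure (the closed subscheme cut out by the
radical of the ideal of the component). The Noetherian hypothesis on X is a consequence of
properness over k and is stated for convenience. -/
theorem result (k : Type u) [Field k] (X : Scheme.{u}) [X.Over (Spec (CommRingCat.of k))]
    [IsProper (X ↘ (Spec (CommRingCat.of k)))] [IsNoetherian X]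
    (hdim : ∀ Z ∈ irreducibleComponents (X : Type u), topologicalKrullDim Z = 1)
    (n : ℕ) (E : X.Modules) (hE : FlatMod.IsFinLocFreeOfRank n E) (F : X.Modules) (hF : Coh.IsCoh F) :
    Curv2.euler k X (CohB1.tensorMod E F) =
      (∑ᶠ Z : irreducibleComponents (X : Type u),
        ((Module.length (X.presheaf.stalk Z.2.1.genericPoint) (F.presheaf.stalk Z.2.1.genericPoint)).toNat : ℤ) *
          @Curv2.deg k _ (X.irreducibleComponentIdeal Z.1 Z.2).radical.subscheme
            ⟨(X.irreducibleComponentIdeal Z.1 Z.2).radical.subschemeι ≫ (X ↘ (Spec (CommRingCat.of k)))⟩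
            ((Scheme.Modules.pullback (X.irreducibleComponentIdeal Z.1 Z.2).radical.subschemeι).obj E) n) +
        (n : ℤ) * Curv2.euler k X F := by
  have hdim1 : topologicalKrullDim X ≤ 1 :=
    Groth.Agent.Lib.Helper4.IsolFib.topologicalKrullDim_le_of_forall_irreducibleComponents 1
      (fun C hC => (hdim C hC).le)
  have key := Groth.Agent.Lib.T2H6.DegComp.psi_eq_compSum X k hdim1 n E hE F hF
  unfold Groth.Agent.Lib.T2H6.TensorDeg.psi at key
  have hb : Curv2.euler k X (CohB1.tensorMod E F) = Curv2.euler k X (CohB1.tensorMod F E) :=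
    Groth.Agent.Lib.T2H6.FieldBC.euler_eq_of_iso k X (Groth.Agent.Lib.T2H6.TensorPows.braidIso E F)
  have h2 : Curv2.euler k X (CohB1.tensorMod F E) =
      Groth.Agent.Lib.T2H6.DegComp.compSum X (Groth.Agent.Lib.T2H6.DegComp.degComp X k E n) F +
        (n : ℤ) * Curv2.euler k X F := by linarith
  rw [hb, h2]
  congr 1
  unfold Groth.Agent.Lib.T2H6.DegComp.compSum
  refine finsum_congr fun Z => ?_
  rw [if_pos (hdim Z.1 Z.2)]
  unfold Groth.Agent.Lib.T2H6.DegComp.lenZ Groth.Agent.Lib.T2H5.GenIsoA.lenAt Groth.Agent.Lib.T2H6.DegComp.degComp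
  rfl

end Groth.Agent.S17659
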