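import Mathlib
import Groth.Statements.S17661
import Groth.Agent.Lib.Helper22ThickAffine

set_option autoImplicit false
universe u
open CategoryTheory CategoryTheory.Limits AlgebraicGeometry
open Ribbon

namespace Groth.Agent.S17661

theorem exists_hom_appTop {C D : Scheme.{u}} [IsAffine D] (φ : Γ(D, ⊤) ⟶ Γ(C, ⊤)) :
    ∃ r : C ⟶ D, r.appTop = φ := by
  refine ⟨C.toSpecΓ ≫ Spec.map φ ≫ D.isoSpec.inv, ?_⟩
  simp [Scheme.isoSpec]

theorem result (k : Type u) [Field k] (C : Scheme.{u}) [C.Over (Spec (CommRingCat.of k))]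
    [LocallyOfFiniteType (C ↘ (Spec (CommRingCat.of k)))]
    (I : C.IdealSheafData) (hI : I ^ 2 = ⊥) [IsAffine I.subscheme] [ConnectedSpace I.subscheme]
    [Smooth (I.subschemeι ≫ (C ↘ (Spec (CommRingCat.of k))))]
    (hconormal : PicF.IsInvertible ((Scheme.Modules.pullback I.subschemeι).obj (ClSub.idealMod I))) :
    ∃ r : C ⟶ I.subscheme, I.subschemeι ≫ r = 𝟙 I.subscheme ∧
      r ≫ I.subschemeι ≫ (C ↘ (Spec (CommRingCat.of k))) = C ↘ (Spec (CommRingCat.of k)) := by
  have hsupp : I.support = ⊤ := by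
    rw [← I.support_pow 2 two_ne_zero, hI, Scheme.IdealSheafData.support_bot]
  have hsurj : Function.Surjective I.subschemeι := by
    rw [← Set.range_eq_univ, I.range_subschemeι, hsupp]; rfl
  haveI : IsAffine C :=
    Groth.Agent.Lib.Helper22.ThickAffine.isAffine_of_thickening I.subschemeι hsurj
  set s := C ↘ (Spec (CommRingCat.of k)) with hs
  -- rings
  have hπ : Function.Surjective I.subschemeι.appTop.hom :=
    (IsClosedImmersion.isAffine_surjective_of_isAffine I.subschemeι).2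
  have hker : RingHom.ker I.subschemeι.appTop.hom = I.ideal ⟨⊤, isAffineOpen_top C⟩ :=
    I.ker_subschemeι_app ⟨⊤, isAffineOpen_top C⟩
  have hnil : (RingHom.ker I.subschemeι.appTop.hom) ^ 2 = ⊥ := by
    rw [hker]
    have := congrArg (fun J : C.IdealSheafData => J.ideal ⟨⊤, isAffineOpen_top C⟩) hI
    simpa using this
  -- algebra structures
  let e : k →+* Γ(Spec (CommRingCat.of k), ⊤) := (Scheme.ΓSpecIso (CommRingCat.of k)).inv.hom
  letI algB : Algebra k Γ(C, ⊤) := (s.appTop.hom.comp e).toAlgebra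
  letI algA : Algebra k Γ(I.subscheme, ⊤) := ((I.subschemeι ≫ s).appTop.hom.comp e).toAlgebra
  have hsm0 : ((I.subschemeι ≫ s).appTop.hom.comp e).Smooth := by
    have h1 : (I.subschemeι ≫ s).appTop.hom.Smooth := by
      have := (I.subschemeι ≫ s).smooth_appLE (isAffineOpen_top _) (isAffineOpen_top _) le_top
      have e' : (I.subschemeι ≫ s).appLE ⊤ ⊤ le_top = (I.subschemeι ≫ s).appTop :=
        Scheme.Hom.appLE_eq_app (I.subschemeι ≫ s)
      rwa [e'] at this
    have h2 : e.Smooth := RingHom.Smooth.of_bijective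
      (ConcreteCategory.bijective_of_isIso (Scheme.ΓSpecIso (CommRingCat.of k)).inv)
    exact h2.comp h1
  haveI hsm : Algebra.Smooth k Γ(I.subscheme, ⊤) := hsm0
  let πa : Γ(C, ⊤) →ₐ[k] Γ(I.subscheme, ⊤) :=
    { I.subschemeι.appTop.hom with
      commutes' := fun c => by
        change I.subschemeι.appTop.hom (s.appTop.hom (e c)) = (I.subschemeι ≫ s).appTop.hom (e c)
        rw [Scheme.Hom.comp_appTop]
        rfl }
  have hπa : Function.Surjective πa := hπ
  have hnil' : IsNilpotent (RingHom.ker (πa : Γ(C, ⊤) →+* Γ(I.subscheme, ⊤))) := ⟨2, hnil⟩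
  let l := Algebra.FormallySmooth.liftOfSurjective (AlgHom.id k Γ(I.subscheme, ⊤)) πa hπa hnil'
  have hl : ∀ x, πa (l x) = x := fun x =>
    Algebra.FormallySmooth.liftOfSurjective_apply (AlgHom.id k Γ(I.subscheme, ⊤)) πa hπa hnil' x
  obtain ⟨r, hr⟩ := exists_hom_appTop (C := C) (D := I.subscheme) (CommRingCat.ofHom l.toRingHom)
  refine ⟨r, ext_of_isAffine ?_, ext_of_isAffine ?_⟩
  · rw [Scheme.Hom.comp_appTop, hr]
    ext x
    exact hl x
  · rw [Scheme.Hom.comp_appTop, Scheme.Hom.comp_appTop, hr]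
    ext x
    obtain ⟨c, rfl⟩ : ∃ c, e c = x :=
      (ConcreteCategory.bijective_of_isIso (Scheme.ΓSpecIso (CommRingCat.of k)).inv).2 x
    change l (I.subschemeι.appTop.hom (s.appTop.hom (e c))) = s.appTop.hom (e c)
    have h1 : I.subschemeι.appTop.hom (s.appTop.hom (e c)) = algebraMap k Γ(I.subscheme, ⊤) c := by
      change _ = (I.subschemeι ≫ s).appTop.hom (e c)
      rw [Scheme.Hom.comp_appTop]
      rfl
    rw [h1, l.commutes]
    rfl

end Groth.Agent.S17661
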