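import Groth.Statements.S1767
import Groth.Agent.Lib.T2H1RpushShift

set_option autoImplicit false
universe u
open CategoryTheory CategoryTheory.Limits AlgebraicGeometry
attribute [local instance] HasDerivedCategory.standard
open Dual

namespace Groth.Agent.S1767

/-- Let f : X → Y be a morphism between quasi-compact quasi-separated schemes. Assume the derived direct
image Rf_* exists and preserves quasi-coherence of cohomology sheaves (both known results), so that
it restricts to a functor D_QCoh(O_X) → D_QCoh(O_Y), and let a : D_QCoh(O_Y) → D_QCoh(O_X) be a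
right adjoint of this restricted functor. Then there is an integer N ≥ 0 such that for every K in
D_QCoh(O_Y) and every integer c, if H^i(K) = 0 for all i ≤ c then H^i(a(K)) = 0 for all i ≤ c − N;
in particular a sends bounded-below objects to bounded-below objects. -/
theorem result (X Y : Scheme.{u}) [CompactSpace X] [QuasiSeparatedSpace X] [CompactSpace Y] [QuasiSeparatedSpace Y] (f : X ⟶ Y) [DCoh.HasRpush f] (h : ∀ K : DCoh.D X, DCoh.IsQCohD K → DCoh.IsQCohD ((DCoh.Rpush f).obj K)) (a : DCoh.DQCoh Y ⥤ DCoh.DQCoh X) (adj : (ObjectProperty.lift DCoh.IsQCohD (ObjectProperty.ι DCoh.IsQCohD ⋙ DCoh.Rpush f) (fun K => h K.obj K.property)) ⊣ a) : ∃ N : ℕ, ∀ (K : DCoh.DQCoh Y) (c : ℤ), (∀ i : ℤ, i ≤ c → IsZero (DCoh.HD K.obj i)) → ∀ i : ℤ, i ≤ c - N → IsZero (DCoh.HD (a.obj K).obj i) := by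
  classical
  obtain ⟨N₀, hN₀⟩ := Groth.Agent.Lib.T2H2.QcRpush.exists_bdd_of_qcqs
    Groth.Agent.Lib.T2H1.RpushShift.relMV f
  refine ⟨N₀.toNat, fun K c hK => ?_⟩
  have hN : N₀ ≤ (N₀.toNat : ℤ) := Int.self_le_toNat N₀
  set N : ℤ := (N₀.toNat : ℤ) with hNdef
  let t := (DerivedCategory.TStructure.t : Triangulated.TStructure (DCoh.D X))
  let A : DCoh.D X := (a.obj K).obj
  have hA : DCoh.IsQCohD A := (a.obj K).property
  let m : ℤ := c - N + 1
  let T : DCoh.D X := (t.truncLT m).obj A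
  have hT : DCoh.IsQCohD T := Groth.Agent.Lib.T2H1.RpushShift.isQCohD_truncLT A hA m
  let T' : DCoh.DQCoh X := ⟨T, hT⟩
  haveI : T.IsLE (m - 1) := by dsimp [T]; infer_instance
  -- `K` is `≥ c + 1`
  haveI hKge : K.obj.IsGE (c + 1) := by
    rw [DerivedCategory.isGE_iff]
    intro i hi
    exact hK i (by lia)
  -- `Rf_* T` is `≤ c - 1`
  haveI hle : ((DCoh.Rpush f).obj T).IsLE (m - 1 + N₀ - 1) :=
    Groth.Agent.Lib.T2H1.RpushShift.isLE_Rpush_of_bdd f N₀ hN₀ T hT (m - 1)
  -- morphisms `F T' ⟶ K` are all equal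
  haveI hsub : Subsingleton
      ((ObjectProperty.lift DCoh.IsQCohD (ObjectProperty.ι DCoh.IsQCohD ⋙ DCoh.Rpush f)
        (fun K => h K.obj K.property)).obj T' ⟶ K) := by
    refine ⟨fun g₁ g₂ => ?_⟩
    apply ObjectProperty.hom_ext
    have h1 : g₁.hom = 0 :=
      DerivedCategory.TStructure.t.zero_of_isLE_of_isGE g₁.hom (m - 1 + N₀ - 1) (c + 1)
        (by lia) hle hKge
    have h2 : g₂.hom = 0 :=
      DerivedCategory.TStructure.t.zero_of_isLE_of_isGE g₂.hom (m - 1 + N₀ - 1) (c + 1)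
        (by lia) hle hKge
    rw [h1, h2]
  haveI hsub' : Subsingleton (T' ⟶ a.obj K) := (adj.homEquiv T' K).symm.subsingleton
  -- hence `τ_{<m} A ⟶ A` vanishes
  have hι : (t.truncLTι m).app A = 0 := by
    have h1 : (ObjectProperty.homMk ((t.truncLTι m).app A) : T' ⟶ a.obj K) =
        ObjectProperty.homMk (0 : T ⟶ A) := Subsingleton.elim _ _
    exact congrArg InducedCategory.Hom.hom h1
  have hz : IsZero T := by
    rw [IsZero.iff_id_eq_zero]
    refine t.to_truncLT_obj_ext ?_
    rw [hι, comp_zero, comp_zero]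
  haveI : A.IsGE m := (t.isGE_iff_isZero_truncLT_obj m A).2 hz
  intro i hi
  exact DerivedCategory.isZero_of_isGE A m i (by lia)

end Groth.Agent.S1767
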