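import Groth.Statements.S17685
import Groth.Agent.Lib.T2H7WeilClosedOver
import Groth.Agent.Lib.Helper11FixGen

set_option autoImplicit false
open CategoryTheory MonoidalCategory CartesianMonoidalCategory MonObj GrpObj AlgebraicGeometry
universe u
open AlgGrp

namespace Groth.Agent.S17685

/-- Let S be a scheme, F an S-scheme that is finite locally free over S (finite, flat and locally of
finite presentation) with a section e of F over S which is a surjective closed immersion (an
infinitesimal pointed S-scheme), and X an S-scheme with an action of the pointed scheme F, i.e. an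
S-morphism F ×_S X → X through which e acts as the identity. Then the subfunctor of F-fixed points
of X, whose T-points are the T-points x of X with g · x_{T'} = x_{T'} for every S-scheme T' over T
and every T'-point g of F, is represented by a closed subscheme of X. (The source allows F and X to
be algebraic spaces over S; this row is the case of schemes.) -/
theorem result (S : Scheme.{u})
    (F X : Over S) (e : 𝟙_ (Over S) ⟶ F) (act : F ⊗ X ⟶ X) (he : (e ▷ X) ≫ act = (λ_ X).hom)
    [IsFinite F.hom] [Flat F.hom] [LocallyOfFinitePresentation F.hom]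
    [IsClosedImmersion e.left] [Surjective e.left] :
    ∃ (Z : Scheme.{u}) (i : Z ⟶ X.left), IsClosedImmersion i ∧
      ∀ (T : Over S) (x : T ⟶ X), (∃ y : T.left ⟶ Z, y ≫ i = x.left) ↔
        ∀ (T' : Over S) (t : T' ⟶ T) (g : T' ⟶ F), lift g (t ≫ x) ≫ act = t ≫ x := by
  -- every open of `X` is stable under the action
  have hstab : ∀ U : X.left.Opens, (snd F X).left ⁻¹ᵁ U ≤ act.left ⁻¹ᵁ U := by
    intro U w hw
    haveI : Surjective (e ▷ X).left := Groth.Agent.Lib.Helper12.surjective_whiskerRight_left X e
    obtain ⟨w', rfl⟩ := (e ▷ X).left.surjective w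
    have h1 : (e ▷ X).left ≫ act.left = ((λ_ X).hom).left := by
      rw [← Over.comp_left, he]
    have h2 : (e ▷ X).left ≫ (snd F X).left = ((λ_ X).hom).left := by
      rw [← Over.comp_left, whiskerRight_snd, leftUnitor_hom]
    change act.left ((e ▷ X).left w') ∈ U
    change (snd F X).left ((e ▷ X).left w') ∈ U at hw
    rw [← Scheme.Hom.comp_apply, h1]
    rwa [← Scheme.Hom.comp_apply, h2] at hw
  haveI : IsClosedImmersion (Limits.equalizer.ι act.left (snd F X).left) :=
    Groth.Agent.Lib.Helper11FixGen.isClosedImmersion_equalizer_of_stable _ _ hstab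
  obtain ⟨C, c, hc, hC⟩ := Groth.Agent.Lib.T2H7.WeilClosedOver.exists_closed_left X F
    (Limits.equalizer.ι act.left (snd F X).left)
  refine ⟨C.left, c.left, hc, fun T x => ?_⟩
  have hiff : (∃ y : T.left ⟶ C.left, y ≫ c.left = x.left) ↔ ∃ z : T ⟶ C, z ≫ c = x := by
    constructor
    · rintro ⟨y, hy⟩
      refine ⟨Over.homMk y ?_, ?_⟩
      · rw [← Over.w c, ← Category.assoc, hy, Over.w x]
      · ext1
        exact hy
    · rintro ⟨z, rfl⟩
      exact ⟨z.left, rfl⟩
  rw [hiff, hC T x]
  have hiff2 : (∃ l : (F ⊗ T).left ⟶ Limits.equalizer act.left (snd F X).left,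
      l ≫ Limits.equalizer.ι act.left (snd F X).left = (F ◁ x).left) ↔
      (F ◁ x) ≫ act = snd F T ≫ x := by
    constructor
    · rintro ⟨l, hl⟩
      ext1
      rw [Over.comp_left, Over.comp_left, ← hl, Category.assoc, Limits.equalizer.condition,
        ← Category.assoc, hl, ← Over.comp_left, whiskerLeft_snd, Over.comp_left]
    · intro h
      refine ⟨Limits.equalizer.lift (F ◁ x).left ?_, Limits.equalizer.lift_ι _ _⟩
      rw [← Over.comp_left, h, ← Over.comp_left, whiskerLeft_snd]
  rw [hiff2]
  constructor
  · intro h T' t g
    have := congrArg (fun φ => lift g t ≫ φ) h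
    simpa using this
  · intro h
    have := h (F ⊗ T) (snd F T) (fst F T)
    rw [← this]
    congr 1
end Groth.Agent.S17685
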