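import Groth.Statements.S17688
import Groth.Agent.Lib.T2H3DensityExt

set_option autoImplicit false
universe u
open CategoryTheory CategoryTheory.Limits AlgebraicGeometry MonObj
open Neron

namespace Groth.Agent.S17688

/-- Let R be a discrete valuation ring whose fraction field K has characteristic p > 0, and let U be a
flat, separated, commutative group scheme over Spec R whose generic fibre U_K is annihilated by a
power p^N of p (in the group of endomorphisms of U_K as a K-scheme, the p^N-th power of the identity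
is the unit). Then for every prime ℓ invertible in R the ℓ-th power map of U (the ℓ-th power of the
identity in the group of R-morphisms U → U) is an isomorphism. -/
theorem result
    (R : Type u) [CommRing R] [IsDomain R] [IsDiscreteValuationRing R]
    (p : ℕ) (hp : p.Prime) [CharP (FractionRing R) p]
    (U : Over (Spec (CommRingCat.of R))) [GrpObj U] [IsCommMonObj U] [Flat U.hom] [IsSeparated U.hom]
    (N : ℕ) (hN : (𝟙 (Red.bc (Neron.genPt R) U) : Red.bc (Neron.genPt R) U ⟶ Red.bc (Neron.genPt R) U) ^ (p ^ N) = 1)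
    (ℓ : ℕ) (hℓ : ℓ.Prime) (hℓu : IsUnit (ℓ : R)) :
    IsIso ((𝟙 U : U ⟶ U) ^ ℓ) := by
  haveI : IsSchemeTheoreticallyDominant (Neron.genPt R) :=
    Groth.Agent.Lib.T2H3.DensityExt.specMap_dominant _ (IsFractionRing.injective R (FractionRing R))
  -- the `p^N`-th power of the identity of `U` is trivial, by density of the generic fibre
  have h1 : (𝟙 U : U ⟶ U) ^ (p ^ N) = 1 := by
    apply Groth.Agent.Lib.T2H3.DensityExt.over_ext (Neron.genPt R)
    have e1 : (Over.pullback (Neron.genPt R)).map ((𝟙 U : U ⟶ U) ^ (p ^ N)) =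
        ((Over.pullback (Neron.genPt R)).map (𝟙 U)) ^ (p ^ N) :=
      map_pow ((Over.pullback (Neron.genPt R)).homMonoidHom (X := U) (M := U)) (𝟙 U) (p ^ N)
    have e2 : (Over.pullback (Neron.genPt R)).map (1 : U ⟶ U) = 1 :=
      map_one ((Over.pullback (Neron.genPt R)).homMonoidHom (X := U) (M := U))
    rw [e1, e2, CategoryTheory.Functor.map_id]
    exact hN
  -- `ℓ` is prime to `p`
  have hpℓ : Nat.Coprime ℓ (p ^ N) := by
    apply Nat.Coprime.pow_right
    rw [Nat.coprime_primes hℓ hp]
    rintro rfl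
    have hK : ((ℓ : ℕ) : FractionRing R) = 0 := CharP.cast_eq_zero _ _
    have hR : ((ℓ : ℕ) : R) = 0 := by
      apply IsFractionRing.injective R (FractionRing R)
      rw [map_natCast, map_zero]
      exact hK
    rw [hR] at hℓu
    exact not_isUnit_zero hℓu
  -- Bezout
  have hk : p ^ N ≠ 0 := pow_ne_zero _ hp.ne_zero
  obtain ⟨m, -, hm⟩ := Nat.exists_mul_mod_eq_of_coprime 1 hpℓ hk
  have h2 : (𝟙 U : U ⟶ U) ^ (ℓ * m) = 𝟙 U := by
    rw [pow_eq_pow_mod (ℓ * m) h1, hm, ← pow_eq_pow_mod 1 h1, pow_one]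
  refine ⟨(𝟙 U : U ⟶ U) ^ m, ?_, ?_⟩
  · rw [MonObj.comp_pow, Category.comp_id, ← pow_mul, h2]
  · rw [MonObj.comp_pow, Category.comp_id, ← pow_mul, mul_comm, h2]

end Groth.Agent.S17688
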