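import Groth.Statements.S17730
import Mathlib
import Groth.Agent.Lib.T2H1ShQuotPrime
import Groth.Agent.Lib.Helper4Unibranch
import Groth.Agent.S13199

set_option autoImplicit false
universe u
open Hensel

namespace Groth.Agent.S17730

open IsLocalRing in
/-- Let R be a Noetherian local ring which is strictly henselian (henselian with separably closed
residue field), Δ a prime element of R, R' a smooth R-algebra, q a prime ideal of R' containing the
image of the maximal ideal of R, and T a strict henselization of the localization R'_q. Then the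
image of Δ in T is a prime element of T. (This is the published statement, that a prime element of
the étale local ring of the base at a geometric point remains prime in the étale local ring of a
smooth scheme over it at a geometric point above, written for the base the spectrum of R; the
published hypothesis that the base be smooth-factorial, meaning that all its smooth schemes are
locally factorial, is not used by the argument and is omitted; R is taken Noetherian, which the
published statement does not state and the argument requires.) -/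
theorem result
    (R R' T : Type u) [CommRing R] [IsNoetherianRing R] [HenselianLocalRing R]
    [IsSepClosed (ResidueField R)]
    [CommRing R'] [Algebra R R'] [Algebra.Smooth R R']
    (q : Ideal R') [q.IsPrime] (hq : (maximalIdeal R).map (algebraMap R R') ≤ q)
    [CommRing T] [IsLocalRing T] [Algebra (Localization.AtPrime q) T]
    [IsLocalHom (algebraMap (Localization.AtPrime q) T)]
    [Hensel.IsStrictHenselization (Localization.AtPrime q) T]
    (Δ : R) (hΔ : Prime Δ) :
    Prime (algebraMap (Localization.AtPrime q) T
      (algebraMap R' (Localization.AtPrime q) (algebraMap R R' Δ))) := by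
  classical
  -- the base ring modulo Δ
  let I₀ : Ideal R := Ideal.span {Δ}
  haveI hI₀prime : I₀.IsPrime := (Ideal.span_singleton_prime hΔ.ne_zero).mpr hΔ
  haveI : IsDomain (R ⧸ I₀) := Ideal.Quotient.isDomain I₀
  haveI hloc₁ : IsLocalRing (R ⧸ I₀) :=
    IsLocalRing.of_surjective' (Ideal.Quotient.mk I₀) Ideal.Quotient.mk_surjective
  haveI : HenselianLocalRing (R ⧸ I₀) := Groth.Agent.S13598.henselian_quotient I₀
  haveI : IsSepClosed (ResidueField (R ⧸ I₀)) := by
    haveI := Groth.Agent.Lib.Helper3.ShQuot.isLocalHom_mk I₀
    exact Groth.Agent.Lib.Helper3.ShQuot.isSepClosed_of_ringEquiv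
      (RingEquiv.ofBijective _ (Groth.Agent.Lib.Helper3.ShQuot.residue_map_mk_bijective I₀))
  have hΔm : Δ ∈ maximalIdeal R := (mem_maximalIdeal Δ).mpr hΔ.not_unit
  -- the smooth algebra modulo Δ
  let I' : Ideal R' := I₀.map (algebraMap R R')
  haveI : Algebra.Smooth (R ⧸ I₀) (R' ⧸ I') :=
    Algebra.Smooth.of_equiv (Algebra.TensorProduct.quotIdealMapEquivQuotTensor R' I₀).symm
  have hΔq : algebraMap R R' Δ ∈ q := hq (Ideal.mem_map_of_mem _ hΔm)
  have hI'q : I' ≤ q := by
    rw [Ideal.map_le_iff_le_comap, Ideal.span_le]
    intro x hx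
    rw [Set.mem_singleton_iff] at hx
    subst hx
    exact hΔq
  let q₁ : Ideal (R' ⧸ I') := q.map (Ideal.Quotient.mk I')
  haveI hq₁prime : q₁.IsPrime :=
    Ideal.map_isPrime_of_surjective Ideal.Quotient.mk_surjective (by rw [Ideal.mk_ker]; exact hI'q)
  have hmemq₁ : ∀ r : R', Ideal.Quotient.mk I' r ∈ q₁ ↔ r ∈ q := by
    intro r
    constructor
    · intro h
      obtain ⟨r', hr', hrr'⟩ := (Ideal.mem_map_iff_of_surjective _ Ideal.Quotient.mk_surjective).mp h
      have : r - r' ∈ I' := by
        rw [← Ideal.Quotient.eq]; exact hrr'.symm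
      have h2 := q.add_mem (hI'q this) hr'
      rwa [sub_add_cancel] at h2
    · intro h
      exact Ideal.mem_map_of_mem _ h
  have hq₁ : (maximalIdeal (R ⧸ I₀)).map (algebraMap (R ⧸ I₀) (R' ⧸ I')) ≤ q₁ := by
    rw [Ideal.map_le_iff_le_comap]
    intro x hx
    obtain ⟨r, rfl⟩ := Ideal.Quotient.mk_surjective x
    have hr : r ∈ maximalIdeal R := by
      rw [mem_maximalIdeal, mem_nonunits_iff]
      intro hu
      exact ((mem_maximalIdeal _).mp hx) (hu.map _)
    rw [Ideal.mem_comap]
    show Ideal.Quotient.mk I' (algebraMap R R' r) ∈ q₁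
    rw [hmemq₁]
    exact hq (Ideal.mem_map_of_mem _ hr)
  obtain ⟨hD, hGU⟩ := Groth.Agent.S13199.result (R ⧸ I₀) (R' ⧸ I') q₁ hq₁
  -- the localization modulo Δ
  let J : Ideal (Localization.AtPrime q) := I'.map (algebraMap R' (Localization.AtPrime q))
  have hsub : Algebra.algebraMapSubmonoid (R' ⧸ I') q.primeCompl = q₁.primeCompl := by
    ext x
    constructor
    · rintro ⟨r, hr, rfl⟩
      show Ideal.Quotient.mk I' r ∉ q₁
      rw [hmemq₁]
      exact hr
    · intro hx
      obtain ⟨r, rfl⟩ := Ideal.Quotient.mk_surjective x
      refine ⟨r, ?_, rfl⟩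
      show r ∉ q
      rw [← hmemq₁]
      exact hx
  haveI hlocJ : IsLocalization q₁.primeCompl (Localization.AtPrime q ⧸ J) :=
    hsub ▸ (inferInstance : IsLocalization (Algebra.algebraMapSubmonoid (R' ⧸ I') q.primeCompl)
      (Localization.AtPrime q ⧸ I'.map (algebraMap R' (Localization.AtPrime q))))
  let e : Localization.AtPrime q₁ ≃ₐ[R' ⧸ I'] (Localization.AtPrime q ⧸ J) :=
    IsLocalization.algEquiv q₁.primeCompl _ _
  haveI : IsLocalRing (Localization.AtPrime q ⧸ J) := e.toRingEquiv.isLocalRing
  haveI : IsDomain (Localization.AtPrime q ⧸ J) :=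
    e.symm.toRingEquiv.toMulEquiv.isDomain (Localization.AtPrime q₁)
  have hGUJ : CAlg2.IsGeomUnibranch (Localization.AtPrime q ⧸ J) :=
    Groth.Agent.Lib.Helper4.Unibranch.isGeomUnibranch_of_ringEquiv e.toRingEquiv hGU
  have hJtop : J ≠ ⊤ := by
    intro h
    have : Subsingleton (Localization.AtPrime q ⧸ J) := Ideal.Quotient.subsingleton_iff.mpr h
    exact not_subsingleton _ this
  have hprime : (J.map (algebraMap (Localization.AtPrime q) T)).IsPrime :=
    Groth.Agent.Lib.T2H1.ShQuotPrime.isPrime_map_of_gu_domain J hJtop hGUJ
  -- the extended ideal is generated by the image of Δ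
  have hJT : J.map (algebraMap (Localization.AtPrime q) T) =
      Ideal.span {algebraMap (Localization.AtPrime q) T
        (algebraMap R' (Localization.AtPrime q) (algebraMap R R' Δ))} := by
    show ((I₀.map (algebraMap R R')).map (algebraMap R' (Localization.AtPrime q))).map
      (algebraMap (Localization.AtPrime q) T) = _
    rw [Ideal.map_span, Set.image_singleton, Ideal.map_span, Set.image_singleton, Ideal.map_span,
      Set.image_singleton]
  rw [hJT] at hprime
  -- nonvanishing by faithful flatness
  have hne : algebraMap (Localization.AtPrime q) T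
      (algebraMap R' (Localization.AtPrime q) (algebraMap R R' Δ)) ≠ 0 := by
    haveI : Module.Flat R (Localization.AtPrime q) :=
      Module.Flat.trans R R' (Localization.AtPrime q)
    haveI : IsLocalHom (algebraMap R (Localization.AtPrime q)) := by
      refine ⟨fun r hr => ?_⟩
      by_contra hnu
      have hrm : r ∈ maximalIdeal R := (mem_maximalIdeal r).mpr hnu
      have h1 : algebraMap R R' r ∈ q := hq (Ideal.mem_map_of_mem _ hrm)
      have h2 : algebraMap R' (Localization.AtPrime q) (algebraMap R R' r) ∈
          maximalIdeal (Localization.AtPrime q) :=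
        (IsLocalization.AtPrime.to_map_mem_maximal_iff (Localization.AtPrime q) q _).mpr h1
      rw [← IsScalarTower.algebraMap_apply] at h2
      exact (mem_maximalIdeal _).mp h2 hr
    haveI : Module.FaithfullyFlat R (Localization.AtPrime q) :=
      Module.FaithfullyFlat.of_flat_of_isLocalHom
    haveI : Module.FaithfullyFlat (Localization.AtPrime q) T :=
      Groth.Agent.Lib.Helper3.HzP.sh_faithfullyFlat _ _
    have hinj1 : Function.Injective (algebraMap R (Localization.AtPrime q)) :=
      FaithfulSMul.algebraMap_injective _ _
    have hinj2 : Function.Injective (algebraMap (Localization.AtPrime q) T) :=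
      FaithfulSMul.algebraMap_injective _ _
    rw [← IsScalarTower.algebraMap_apply R R' (Localization.AtPrime q)]
    intro h0
    exact hΔ.ne_zero (hinj1 (hinj2 (by rw [h0, map_zero, map_zero])))
  exact (Ideal.span_singleton_prime hne).mp hprime

end Groth.Agent.S17730
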