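import Groth.Statements.S17803
import Groth.Agent.Lib.T2H1ComplReg
import Groth.Agent.Lib.Helper7ExcLoc
import Groth.Agent.Lib.Helper7NormLoc
import Groth.Agent.Lib.Helper7CplDom
import Groth.Agent.Lib.Helper6NormInt
import Groth.Agent.Lib.Helper28WeakKrull7
import Groth.Agent.S0600

set_option autoImplicit false
universe u
open EGA4

namespace Groth.Agent.S17803

/-- Let A be an excellent normal domain which is a quotient of a regular ring, I an ideal of A and f ∈
A. Then the I-adic completion of the localization A_f is a normal ring (its localization at every
prime ideal is an integrally closed domain), and it is a quotient of a regular ring. -/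
theorem result (A : Type u) [CommRing A] [IsDomain A] [IsIntegrallyClosed A] (hexc : EGA4.IsExcellent A) (hreg : ∃ (R : Type u) (_ : CommRing R) (_ : IsRegularRing R) (φ : R →+* A), Function.Surjective φ) (I : Ideal A) (f : A) : EGA4.IsNormalRing (AdicCompletion (I.map (algebraMap A (Localization.Away f))) (Localization.Away f)) ∧ ∃ (R' : Type u) (_ : CommRing R') (_ : IsRegularRing R') (ψ : R' →+* AdicCompletion (I.map (algebraMap A (Localization.Away f))) (Localization.Away f)), Function.Surjective ψ := by
  classical
  haveI := hexc.1
  have hG : CAlg.IsGRing A := hexc.2.2.1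
  have hGS : CAlg.IsGRing (Localization.Away f) :=
    Groth.Agent.Lib.Helper7.ExcLoc.isGRing_localization A hG (Submonoid.powers f)
  haveI : IsNoetherianRing (Localization.Away f) := hGS.1
  set J := I.map (algebraMap A (Localization.Away f)) with hJ
  haveI : IsNoetherianRing (AdicCompletion J (Localization.Away f)) :=
    Groth.Agent.Lib.Helper19.isNoetherianRing_adicCompletion J
  refine ⟨?_, ?_⟩
  · have hreg' : CAlg.IsRegularHom (Localization.Away f) (AdicCompletion J (Localization.Away f)) :=
      Groth.Agent.S0600.result (Localization.Away f) hGS J
    have hnh : EGA4.IsNormalHom (Localization.Away f) (AdicCompletion J (Localization.Away f)) :=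
      Groth.Agent.Lib.Helper7.NormLoc.isNormalHom_of_isRegularHom hreg'
    have hA : EGA4.IsNormalRing A :=
      Groth.Agent.Lib.Helper7.CplDom.isNormalRing_of_isIntegrallyClosed A
    have hS : EGA4.IsNormalRing (Localization.Away f) :=
      Groth.Agent.Lib.Helper6.NormInt.isNormalRing_of_isLocalization (Submonoid.powers f) _ hA
    have h1 := Groth.Agent.Lib.Helper28.WeakKrull.isNormalRing_tensor_of_isNormalHom
      (Localization.Away f) (AdicCompletion J (Localization.Away f)) (Localization.Away f) hnh hS
    exact Groth.Agent.Lib.Helper6.SepNorm.isNormalRing_of_ringEquiv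
      (Algebra.TensorProduct.rid (Localization.Away f) (AdicCompletion J (Localization.Away f))
        (AdicCompletion J (Localization.Away f))).toRingEquiv h1
  · obtain ⟨R, _, hR, φ, hφ⟩ := hreg
    obtain ⟨g, hg⟩ := hφ f
    haveI : IsRegularRing (Localization.Away g) :=
      Groth.Agent.Lib.Helper19.GR.isRegularRing_of_isLocalization (Submonoid.powers g)
    haveI : IsLocalization.Away (φ g) (Localization.Away f) := by rw [hg]; infer_instance
    let π : Localization.Away g →+* Localization.Away f :=
      IsLocalization.Away.map (Localization.Away g) (Localization.Away f) φ g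
    have hu : ∀ r : R, π (algebraMap R (Localization.Away g) r) =
        algebraMap A (Localization.Away f) (φ r) := fun r => IsLocalization.map_eq _ r
    have hπ : Function.Surjective π := by
      intro y
      obtain ⟨⟨a, ⟨_, n, rfl⟩⟩, hy⟩ := IsLocalization.surj (Submonoid.powers f) y
      simp only at hy
      obtain ⟨a', rfl⟩ := hφ a
      refine ⟨IsLocalization.mk' (Localization.Away g) a' (⟨g ^ n, n, rfl⟩ : Submonoid.powers g), ?_⟩
      have hunit : IsUnit (algebraMap A (Localization.Away f) (f ^ n)) :=
        IsLocalization.map_units (Localization.Away f) (⟨f ^ n, n, rfl⟩ : Submonoid.powers f)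
      apply hunit.mul_left_injective
      simp only
      have h3 : algebraMap A (Localization.Away f) (f ^ n) =
          π (algebraMap R (Localization.Away g) (g ^ n)) := by rw [hu, map_pow φ, hg]
      rw [hy, h3, ← map_mul]
      have h4 : IsLocalization.mk' (Localization.Away g) a' (⟨g ^ n, n, rfl⟩ : Submonoid.powers g) *
          algebraMap R (Localization.Away g) (g ^ n) = algebraMap R (Localization.Away g) a' :=
        IsLocalization.mk'_spec (Localization.Away g) a' (⟨g ^ n, n, rfl⟩ : Submonoid.powers g)
      rw [h4, hu]
    exact Groth.Agent.Lib.T2H1.ComplReg.exists_regular_surjective_adicCompletion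
      (Localization.Away g) (Localization.Away f) π hπ J

end Groth.Agent.S17803
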