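import Groth.Statements.S17807
import Groth.Agent.Lib.T2H9RatTwistB

set_option autoImplicit false
set_option linter.style.haveILetI false
set_option linter.unusedVariables false
universe u
open CategoryTheory CategoryTheory.Limits AlgebraicGeometry
open JacVar

namespace Groth.Agent.S17807

/-- Let C be a smooth proper geometrically connected curve of genus g > 0 over a field k with a
k-rational point, and let L be an invertible module on C with h¹(C, L) > 0. Under these hypotheses,
C contains some nonempty open U with the following property: whenever Q is a k-rational point of C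
and M is an invertible module satisfying M ⊗ I_Q ≅ L (so M is L(Q)), one has h¹(C, M) = h¹(C, L) − 1
if Q belongs to U, and h¹(C, M) = h¹(C, L) if Q does not. (The published statement is phrased for
all closed points Q; for a closed point of degree d > 1 the drop can exceed one, so this row states
it for k-rational points Q.) -/
theorem result (k : Type u) [Field k]
    (C : Scheme.{u}) [C.Over (Spec (CommRingCat.of k))]
    [IsProper (C ↘ Spec (CommRingCat.of k))] [Smooth (C ↘ Spec (CommRingCat.of k))] [GeometricallyConnected (C ↘ Spec (CommRingCat.of k))]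
    (hdim : topologicalKrullDim ↥C = 1)
    (hg : 0 < Curv2.genus k C)
    (σ₀ : Spec (CommRingCat.of k) ⟶ C) (hσ₀ : σ₀ ≫ (C ↘ Spec (CommRingCat.of k)) = 𝟙 _)
    (L : C.Modules) (hL : PicF.IsInvertible L) (hL1 : 0 < Module.finrank k (Coh.HH C L 1)) :
    ∃ U : C.Opens, (U : Set ↥C).Nonempty ∧
      ∀ (σ : Spec (CommRingCat.of k) ⟶ C) (hσ : σ ≫ (C ↘ Spec (CommRingCat.of k)) = 𝟙 _) (M : C.Modules) (hM : PicF.IsInvertible M)
        (hML : Nonempty (CohB1.tensorMod M (ClSub.idealMod σ.ker) ≅ L)),
        ((∀ p, σ.base p ∈ U) → Module.finrank k (Coh.HH C M 1) = Module.finrank k (Coh.HH C L 1) - 1) ∧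
        ((∀ p, σ.base p ∉ U) → Module.finrank k (Coh.HH C M 1) = Module.finrank k (Coh.HH C L 1)) := by
  haveI : ConnectedSpace C :=
    AlgebraicGeometry.GeometricallyConnected.connectedSpace_of_subsingleton
      (C ↘ Spec (CommRingCat.of k))
  haveI : IsIntegral C := Groth.Agent.Lib.T2H6.CurveSmooth.isIntegral_of_connected k C
  have hreg : ∀ x : C, IsRegularLocalRing (C.presheaf.stalk x) := fun x =>
    Groth.Agent.Lib.T2H6.CurveSmooth.isRegularLocalRing_stalk k C x
  have h0 : Module.finrank k (Coh.HH C (Coh.structureModule C) 0) = 1 :=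
    (Groth.Agent.Lib.T2H9.CurvH0.main k C).1.2 inferInstance
  obtain ⟨U, hU, h⟩ := Groth.Agent.Lib.T2H9.RatTwist.exists_open_h1_twist k hdim hreg h0 L hL hL1
  refine ⟨U, hU, fun σ hσ M hM hML => ?_⟩
  obtain ⟨h1, h2⟩ := h σ hσ M hM hML
  exact ⟨fun hp => h1 (hp (IsLocalRing.closedPoint k)), fun hp => h2 (hp (IsLocalRing.closedPoint k))⟩

end Groth.Agent.S17807
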