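import Groth.Statements.S17854
import Groth.Agent.Lib.T2H9EtChart

set_option autoImplicit false
set_option linter.style.haveILetI false
open TensorProduct
universe u
open EtAlg

namespace Groth.Agent.S17854

open Groth.Agent.Lib.T2H9.EtChart

/-- the residue field at a maximal ideal over the closed point of a local ring with finite residue
field is finite -/
theorem finite_quotient (k : Type u) [CommRing k] [IsLocalRing k]
    [Finite (IsLocalRing.ResidueField k)]
    (R : Type u) [CommRing R] [Algebra k R] [Algebra.FiniteType k R]
    (m : Ideal R) [m.IsMaximal] (hm : m.comap (algebraMap k R) = IsLocalRing.maximalIdeal k) :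
    Finite (R ⧸ m) := by
  let ψ : IsLocalRing.ResidueField k →+* R ⧸ m :=
    Ideal.quotientMap m (algebraMap k R) (by rw [hm])
  letI : Algebra (IsLocalRing.ResidueField k) (R ⧸ m) := ψ.toAlgebra
  haveI : IsScalarTower k (IsLocalRing.ResidueField k) (R ⧸ m) :=
    IsScalarTower.of_algebraMap_eq (fun x => rfl)
  haveI : Algebra.FiniteType k (R ⧸ m) :=
    Algebra.FiniteType.of_surjective (Ideal.Quotient.mkₐ k m) Ideal.Quotient.mk_surjective
  haveI : Algebra.FiniteType (IsLocalRing.ResidueField k) (R ⧸ m) :=
    Algebra.FiniteType.of_restrictScalars_finiteType k _ _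
  letI : Field (R ⧸ m) := Ideal.Quotient.field m
  haveI : Module.Finite (IsLocalRing.ResidueField k) (R ⧸ m) :=
    finite_of_finite_type_of_isJacobsonRing _ _
  exact Module.finite_of_finite (IsLocalRing.ResidueField k)

/-- the arithmetic of the finite residue field, lifted to `R` -/
theorem exists_card (R : Type u) [CommRing R] (m : Ideal R) [m.IsMaximal] [Finite (R ⧸ m)] :
    ∃ N : ℕ, (N : R) ∈ m ∧ (∀ r : R, r - r ^ N ∈ m) ∧
      ∀ y : R ⧸ m, y ^ N = y := by
  letI : Field (R ⧸ m) := Ideal.Quotient.field m
  letI : Fintype (R ⧸ m) := Fintype.ofFinite _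
  refine ⟨Fintype.card (R ⧸ m), ?_, ?_, fun y => FiniteField.pow_card y⟩
  · rw [← Ideal.Quotient.eq_zero_iff_mem, map_natCast]
    exact Nat.cast_card_eq_zero (R ⧸ m)
  · intro r
    rw [← Ideal.Quotient.eq_zero_iff_mem, map_sub, map_pow, FiniteField.pow_card, sub_self]

/-- a ring hom to a finite field whose image contains a generator of the units is surjective -/
theorem surjective_of_generator {A B : Type u} [CommRing A] [Field B] [Finite B]
    (φ : A →+* B) (u : Bˣ) (hu : ∀ x : Bˣ, x ∈ Subgroup.zpowers u) (a : A) (ha : φ a = u) :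
    Function.Surjective φ := by
  intro y
  by_cases hy : y = 0
  · exact ⟨0, by simp [hy]⟩
  · obtain ⟨j, hj⟩ := (mem_powers_iff_mem_zpowers (x := u)).mpr (hu (Units.mk0 y hy))
    refine ⟨a ^ j, ?_⟩
    have := congrArg Units.val hj
    simp only [Units.val_pow_eq_pow_val, Units.val_mk0] at this
    rw [map_pow, ha, this]

/-- In the case of a base with finite residue field, let k be a local ring whose residue field is
finite, R a finitely presented k-algebra and m a maximal ideal of R over the maximal ideal of k such
that R is smooth over k at m of relative dimension d > 0 (the module of Kähler differentials of R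
over k has rank d at m). Then there are g ∉ m and an étale k-algebra homomorphism φ : k[x₁, …, x_d]
→ R[1/g] which induces an isomorphism of residue fields at m, i.e. k[x₁, …, x_d] → R[1/g]/m R[1/g]
is surjective. The published statement is for any local ring k; this row takes the residue field of
k finite. -/
theorem result
    (k : Type u) [CommRing k] [IsLocalRing k] [Finite (IsLocalRing.ResidueField k)]
    (R : Type u) [CommRing R] [Algebra k R] [Algebra.FinitePresentation k R]
    (m : Ideal R) [m.IsMaximal] (hm : m.comap (algebraMap k R) = IsLocalRing.maximalIdeal k)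
    [Algebra.IsSmoothAt k m] (d : ℕ) (hd : 0 < d)
    (hdim : Module.finrank (R ⧸ m) ((R ⧸ m) ⊗[R] KaehlerDifferential k R) = d) :
    ∃ g : R, g ∉ m ∧ ∃ φ : MvPolynomial (Fin d) k →ₐ[k] Localization.Away g,
      φ.toRingHom.Etale ∧
      Function.Surjective
        ((Ideal.Quotient.mk (m.map (algebraMap R (Localization.Away g)))).comp φ.toRingHom) := by
  haveI : Finite (R ⧸ m) := finite_quotient k R m hm
  obtain ⟨N, hN, hpow, hyN⟩ := exists_card R m
  obtain ⟨f, hfm, hli, hsp⟩ :=
    exists_basis_omega0 k m hN hpow d ((finrank_fibre_eq k m).trans hdim)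
  letI : Field (R ⧸ m) := Ideal.Quotient.field m
  obtain ⟨u, hu⟩ := IsCyclic.exists_generator (α := (R ⧸ m)ˣ)
  obtain ⟨t, ht⟩ := Ideal.Quotient.mk_surjective (u : R ⧸ m)
  -- the coordinates
  let F : Fin d → R := fun i => f i + t ^ N
  have hFf : (fun i => omega0 k m (F i)) = fun i => omega0 k m (f i) := by
    funext i
    simp only [F]
    rw [omega0_add, omega0_pow k m hN, add_zero]
  have hbij := dMap_bijective_of_basis k m F (hFf ▸ hli) (hFf ▸ hsp)
  have hFu : ∀ i, Ideal.Quotient.mk m (F i) = u := by
    intro i
    simp only [F, map_add, map_pow, ht, hyN]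
    rw [Ideal.Quotient.eq_zero_iff_mem.mpr (hfm i), zero_add]
  -- the polynomial ring acts on `R`
  let φ₀ : MvPolynomial (Fin d) k →ₐ[k] R := MvPolynomial.aeval F
  letI algPR : Algebra (MvPolynomial (Fin d) k) R := φ₀.toRingHom.toAlgebra
  haveI : IsScalarTower k (MvPolynomial (Fin d) k) R :=
    IsScalarTower.of_algebraMap_eq' φ₀.comp_algebraMap.symm
  haveI : IsScalarTower (MvPolynomial (Fin d) k) R (Localization.AtPrime m) := inferInstance
  haveI : IsScalarTower k (MvPolynomial (Fin d) k) (Localization.AtPrime m) :=
    IsScalarTower.to₁₂₄ _ _ R _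
  haveI : Algebra.FormallyEtale (MvPolynomial (Fin d) k) (Localization.AtPrime m) := by
    apply formallyEtale_of_dMap_bijective
    convert hbij using 3
    funext i
    rw [IsScalarTower.algebraMap_apply (MvPolynomial (Fin d) k) R (Localization.AtPrime m)]
    congr 1
    exact MvPolynomial.aeval_X F i
  haveI : Algebra.IsEtaleAt (MvPolynomial (Fin d) k) m := this
  haveI : Algebra.FinitePresentation (MvPolynomial (Fin d) k) R :=
    Algebra.FinitePresentation.of_restrict_scalars_finitePresentation k _ _
  obtain ⟨g, hg, hE⟩ := Algebra.exists_etale_of_isEtaleAt (R := MvPolynomial (Fin d) k) m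
  haveI : IsScalarTower (MvPolynomial (Fin d) k) R (Localization.Away g) := inferInstance
  haveI : IsScalarTower k (MvPolynomial (Fin d) k) (Localization.Away g) :=
    IsScalarTower.to₁₂₄ _ _ R _
  refine ⟨g, hg, IsScalarTower.toAlgHom k (MvPolynomial (Fin d) k) (Localization.Away g), ?_, ?_⟩
  · exact RingHom.etale_algebraMap.mpr hE
  · -- surjectivity on the residue field
    have hdisj : Disjoint (Submonoid.powers g : Set R) (m : Set R) :=
      (Ideal.disjoint_powers_iff_notMem_of_isPrime _).mpr hg
    haveI hI : (m.map (algebraMap R (Localization.Away g))).IsPrime :=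
      IsLocalization.isPrime_of_isPrime_disjoint (.powers g) _ _ inferInstance hdisj
    have hunder : (m.map (algebraMap R (Localization.Away g))).under R = m :=
      IsLocalization.under_map_of_isPrime_disjoint (.powers g) _ inferInstance hdisj
    have hsurj1 := IsLocalization.surjective_quotientMap_of_maximal_of_localization
      (Submonoid.powers g) (Localization.Away g)
      (I := m.map (algebraMap R (Localization.Away g))) (J := m) (H := hunder.ge)
      (by rw [hunder]; infer_instance)
    have hsurj2 : Function.Surjective ((Ideal.Quotient.mk m).comp φ₀.toRingHom) := by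
      refine surjective_of_generator _ u hu (MvPolynomial.X ⟨0, hd⟩) ?_
      simp only [RingHom.comp_apply]
      rw [← hFu ⟨0, hd⟩]
      congr 1
      exact MvPolynomial.aeval_X F _
    intro y
    obtain ⟨z, rfl⟩ := hsurj1 y
    obtain ⟨p, rfl⟩ := hsurj2 z
    refine ⟨p, ?_⟩
    simp only [RingHom.comp_apply, Ideal.quotientMap_mk]
    rfl

end Groth.Agent.S17854
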