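import Groth.Statements.S17860
import Groth.Agent.Lib.T2H2GenCover

set_option autoImplicit false
open CategoryTheory AlgebraicGeometry
universe u
open Algz

namespace Groth.Agent.S17860

/-- Let `R` be a commutative ring and `M` a finite `R`-module. Suppose `Spec R` is covered by opens `U
0, …, U (m-1)` (not necessarily affine) such that over each `U i` the restriction of the associated
sheaf of modules `M~` is a quotient of the free module of rank `n` (it is generated by `n` sections
over `U i`). Then `M` is generated by `n * m` elements. -/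
theorem result (R : CommRingCat.{u}) (M : ModuleCat.{u} R)
    [Module.Finite R M] (n m : ℕ) (U : Fin m → (Spec R).Opens) (hU : ⨆ i, U i = ⊤)
    (hgen : ∀ i, ∃ φ : FlatMod.freeMod (↑(U i)) n ⟶ (AlgebraicGeometry.tilde M).restrict (U i).ι, Epi φ) :
    ∃ s : Fin (n * m) → M, Submodule.span R (Set.range s) = ⊤ := by
  classical
  have hT : ∀ i, ∃ T : Set (R × (Fin n → M)),
      Groth.Agent.Lib.T2H2.GenCover.GenData (R := R) M n T ∧
        ∀ p : PrimeSpectrum R, p ∈ U i → ∃ a ∈ T, a.1 ∉ p.asIdeal := by
    intro i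
    obtain ⟨φ, hφ⟩ := hgen i
    exact Groth.Agent.Lib.T2H2.GenCover.exists_genData M (U i) φ
  choose T hT hcov using hT
  apply Groth.Agent.Lib.T2H2.GenCover.exists_generators (R := R) m M n T hT
  intro p hp _
  have h1 : (⟨p, hp⟩ : PrimeSpectrum R) ∈ (⨆ i, U i : (Spec R).Opens) := by
    rw [hU]
    trivial
  obtain ⟨i, hi⟩ := TopologicalSpace.Opens.mem_iSup.1 h1
  obtain ⟨a, ha, hap⟩ := hcov i ⟨p, hp⟩ hi
  exact ⟨i, a, ha, hap⟩

end Groth.Agent.S17860
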