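import Groth.Statements.S1798
import Groth.Agent.Lib.T2H2LocFreeAnn

set_option autoImplicit false
universe u
open CategoryTheory AlgebraicGeometry
open LocCoh

namespace Groth.Agent.S1798

/-- Let A be a ring, J ⊆ I finitely generated ideals, U the open complement of V(I) in Spec A and p ≥ 0.
If some power of J kills H^p(U, O_U), then for each finite locally free O_U-module F some power of J
kills H^p(U, F). -/
theorem result (A : Type u) [CommRing A] (J I : Ideal A) (hJI : J ≤ I) (hJ : J.FG) (hI : I.FG) (p n : ℕ) (hO : ∀ a ∈ J ^ n, ∀ x : Coh.HH (↑(LocCoh.puncturedOpen A I)) (Coh.structureModule (↑(LocCoh.puncturedOpen A I))) p, a • x = 0) (F : (↑(LocCoh.puncturedOpen A I) : Scheme.{u}).Modules) (hF : FlatMod.IsFinLocFree F) : ∃ m : ℕ, ∀ a ∈ J ^ m, ∀ x : Coh.HH (↑(LocCoh.puncturedOpen A I)) F p, a • x = 0 := by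
  classical
  let Ac : CommRingCat.{u} := CommRingCat.of A
  let U : (Spec Ac).Opens := LocCoh.puncturedOpen A I
  -- compactness
  have hUc : IsCompact (U : Set (Spec Ac)) :=
    (PrimeSpectrum.isCompact_isOpen_iff_ideal.mpr ⟨I, hI, rfl⟩).1
  have : CompactSpace (U : Scheme.{u}) := isCompact_iff_compactSpace.mp hUc
  have : QuasiCompact U.ι := inferInstance
  -- the scalar action
  have hsmul : ∀ (G : (U : Scheme.{u}).Modules) (a : A) (x : Coh.HH (U : Scheme.{u}) G p),
      a • x = Groth.Agent.Lib.T2H2.LocFreeAnn.gl Ac U a • x := fun _ _ _ => rfl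
  -- basic opens of elements of `I` lie in `U`
  have hle : ∀ g ∈ I, PrimeSpectrum.basicOpen g ≤ U := by
    intro g hg x hx hxI
    exact hx (hxI hg)
  -- the exponents
  have key : ∀ g ∈ I, ∃ N : ℕ, ∀ c ∈ J ^ n, ∀ x : Coh.HH (U : Scheme.{u}) F p, (c * g ^ N) • x = 0 := by
    intro g hg
    obtain ⟨N, hN⟩ := Groth.Agent.Lib.T2H2.LocFreeAnn.exists_pow_smul_eq_zero Ac U hUc F hF p g (hle g hg)
    exact ⟨N, fun c hc x => (hsmul F _ x).trans
      (hN c (fun y => (hsmul _ c y).symm.trans (hO c hc y)) x)⟩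
  choose! Nf hNf using key
  let 𝔟 : Ideal A := Ideal.span {b | ∃ g ∈ I, b = g ^ (Nf g)}
  have hrad : I ≤ 𝔟.radical := fun g hg => ⟨Nf g, Ideal.subset_span ⟨g, hg, rfl⟩⟩
  obtain ⟨k, hk⟩ := Ideal.exists_pow_le_of_le_radical_of_fg hrad hI
  refine ⟨n + k, ?_⟩
  let Ann : Ideal A := Module.annihilator A (Coh.HH (U : Scheme.{u}) F p)
  have h1 : J ^ n * 𝔟 ≤ Ann := by
    rw [Ideal.mul_le]
    intro c hc b hb
    refine Submodule.span_induction (p := fun b _ => c * b ∈ Ann) ?_ ?_ ?_ ?_ hb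
    · rintro _ ⟨g, hg, rfl⟩
      exact Module.mem_annihilator.2 (hNf g hg c hc)
    · rw [mul_zero]
      exact Ann.zero_mem
    · intro x y _ _ hx hy
      rw [mul_add]
      exact Ann.add_mem hx hy
    · intro a x _ hx
      rw [smul_eq_mul, mul_left_comm]
      exact Ann.mul_mem_left a hx
  intro a ha x
  have h2 : a ∈ Ann := by
    rw [pow_add] at ha
    exact h1 (Ideal.mul_mono le_rfl ((Ideal.pow_right_mono hJI k).trans hk) ha)
  exact Module.mem_annihilator.1 h2 x

end Groth.Agent.S1798
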