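import Groth.Statements.S17987
import Groth.Agent.Lib.T2H7UltraRoots
import Groth.Agent.S17983

set_option autoImplicit false
universe u
open scoped Classical
open WeilNum

namespace Groth.Agent.S17987

/-- Let p be a prime, e ≥ 1 and q = p^e, and let (π_i) be a finite family of nonreal Weil q-numbers: π_i
lies in a field K_i of characteristic zero, is integral over ℤ with minimal polynomial P_i, every
complex root of P_i has absolute value √q, and no complex root of P_i is real; in particular deg P_i
= 2d_i is even. Call π_i ordinary when exactly half of the roots of P_i in an algebraic closure of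
ℚ_p, counted with multiplicity, are p-adic units (have absolute value 1). Then all π_i are ordinary
if and only if p does not divide ∏_i a_{d_i}, the product of the middle coefficients of the P_i
(this product is the value at F = V = 0 of the symmetric polynomial h_w of the family). -/
theorem result (p e : ℕ) [Fact p.Prime] (he : 0 < e)
    (ι : Type) [Fintype ι] (K : ι → Type u) [∀ i, Field (K i)] [∀ i, CharZero (K i)] (π : ∀ i, K i)
    (hint : ∀ i, IsIntegral ℤ (π i))
    (hweil : ∀ i, ∀ z ∈ (minpoly ℤ (π i)).aroots ℂ, ‖z‖ = Real.sqrt ((p : ℝ) ^ e))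
    (hnr : ∀ i, ∀ z ∈ (minpoly ℤ (π i)).aroots ℂ, z.im ≠ 0) :
    (∀ i, 2 * Multiset.card (((minpoly ℤ (π i)).aroots (PadicAlgCl p)).filter (fun z => ‖z‖ = 1)) = (minpoly ℤ (π i)).natDegree) ↔
      ¬ ((p : ℤ) ∣ ∏ i, (minpoly ℤ (π i)).coeff ((minpoly ℤ (π i)).natDegree / 2)) := by
  have hp : Prime (p : ℤ) := Nat.prime_iff_prime_int.mp Fact.out
  have key : ∀ i, (2 * Multiset.card (((minpoly ℤ (π i)).aroots (PadicAlgCl p)).filter
      (fun z => ‖z‖ = 1)) = (minpoly ℤ (π i)).natDegree) ↔
      ¬ ((p : ℤ) ∣ (minpoly ℤ (π i)).coeff ((minpoly ℤ (π i)).natDegree / 2)) := by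
    intro i
    obtain ⟨hev, hsym⟩ := Groth.Agent.S17983.result p e he (K i) (π i) (hint i) (hweil i) (hnr i)
    obtain ⟨hA, hB⟩ := Groth.Agent.Lib.T2H7.UltraRoots.dvd_coeff_of_lt p (minpoly ℤ (π i))
      (minpoly.monic (hint i))
    set P := minpoly ℤ (π i) with hP
    set n := P.natDegree with hn
    set u := Multiset.card ((P.aroots (PadicAlgCl p)).filter (fun z => ‖z‖ = 1)) with hu
    obtain ⟨d, hd⟩ := hev
    have hd2 : n / 2 = d := by omega
    rw [hd2] at hsym ⊢
    have hC : ∀ m < d, (p : ℤ) ∣ P.coeff m := by
      intro m hm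
      have h1 := hsym (d - m) (by omega)
      have h2 : d - (d - m) = m := by omega
      rw [h2] at h1
      rw [h1]
      refine Dvd.dvd.mul_right ?_ _
      exact dvd_pow_self _ (Nat.mul_ne_zero he.ne' (by omega))
    have hun : u ≤ n := by
      refine le_trans (Multiset.card_le_card (Multiset.filter_le _ _)) ?_
      refine le_trans (Polynomial.card_roots' _) ?_
      exact Polynomial.natDegree_map_le
    have hud : u ≤ d := by
      by_contra hlt
      exact hB (hC _ (by omega))
    constructor
    · intro h2u
      have : n - u = d := by omega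
      rw [this] at hB
      exact hB
    · intro hnd
      have h3 : ¬ (d < n - u) := fun hlt => hnd (hA d hlt)
      omega
  constructor
  · intro hall hdvd
    obtain ⟨i, _, hi⟩ := (Prime.dvd_finsetProd_iff hp _).mp hdvd
    exact (key i).mp (hall i) hi
  · intro hnd i
    refine (key i).mpr fun hi => hnd ?_
    exact Dvd.dvd.trans hi (Finset.dvd_prod_of_mem _ (Finset.mem_univ i))

end Groth.Agent.S17987
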