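import Groth.Statements.S1799
import Groth.Agent.Lib.T2H4FBC3

set_option autoImplicit false
universe u
open CategoryTheory
attribute [local instance] HasDerivedCategory.standard
open Dual2

namespace Groth.Agent.S1799

/-- Let A → B → C be ring maps of finite type between Noetherian rings, where each upper shriek φ^!(K)
is formed from a presentation ψ : P = (base)[x_1, …, x_n] → (target) as RHom_P(target, K ⊗^L P)[n],
the derived base change functors being assumed to exist and RHom_P(target, −) being given as a right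
adjoint of restriction of scalars. Then for every K in D(A) which is bounded below, the upper shriek
of K along A → C is isomorphic to the upper shriek along B → C of the upper shriek along A → B of K. -/
theorem result (A B C : Type u) [CommRing A] [CommRing B] [CommRing C] [IsNoetherianRing A] [IsNoetherianRing B] [IsNoetherianRing C] [Algebra A B] [Algebra B C] [Algebra A C] [IsScalarTower A B C] (n : ℕ) (ψ : MvPolynomial (Fin n) A →ₐ[A] B) (hψ : Function.Surjective ψ) [DRing.HasLBaseChange (algebraMap A (MvPolynomial (Fin n) A))] (Rψ : Dual.D (MvPolynomial (Fin n) A) ⥤ Dual.D B) (adj : DRing.restrictD ψ.toRingHom ⊣ Rψ) (m : ℕ) (χ : MvPolynomial (Fin m) B →ₐ[B] C) (hχ : Function.Surjective χ) [DRing.HasLBaseChange (algebraMap B (MvPolynomial (Fin m) B))] (Rχ : Dual.D (MvPolynomial (Fin m) B) ⥤ Dual.D C) (adjχ : DRing.restrictD χ.toRingHom ⊣ Rχ) (k : ℕ) (θ : MvPolynomial (Fin k) A →ₐ[A] C) (hθ : Function.Surjective θ) [DRing.HasLBaseChange (algebraMap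 A (MvPolynomial (Fin k) A))] (Rθ : Dual.D (MvPolynomial (Fin k) A) ⥤ Dual.D C) (adjθ : DRing.restrictD θ.toRingHom ⊣ Rθ) (K : Dual.D A) (c : ℤ) (hK : ∀ i : ℤ, i < c → Subsingleton (Dual.HD A K i)) : Nonempty (Dual2.shriekVia k Rθ K ≅ Dual2.shriekVia m Rχ (Dual2.shriekVia n Rψ K)) := by
  
  classical
  haveI hGE : K.IsGE c := by
    rw [DerivedCategory.isGE_iff]
    intro j hj
    have := hK j hj
    exact ModuleCat.isZero_of_subsingleton _
  have h1 := Groth.Agent.Lib.T2H4.Koszul.isRHom_of_adj adj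
    (((DRing.LBaseChange (algebraMap A (MvPolynomial (Fin n) A))).obj K)⟦(n : ℤ)⟧)
  obtain ⟨e2⟩ := Groth.Agent.Lib.T2H4.Koszul.nonempty_rightAdj_shift_iso ψ.toRingHom Rψ adj
    ((DRing.LBaseChange (algebraMap A (MvPolynomial (Fin n) A))).obj K) (n : ℤ)
  have hZ0 := Groth.Agent.Lib.T2H4.Koszul.isRHom_of_adj adjχ
    (((DRing.LBaseChange (algebraMap B (MvPolynomial (Fin m) B))).obj
      (Dual2.shriekVia n Rψ K))⟦(m : ℤ)⟧)
  have hZ := hZ0.of_iso_target ((shiftFunctor (Dual.D (MvPolynomial (Fin m) B)) (m : ℤ)).mapIso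
    ((DRing.LBaseChange (algebraMap B (MvPolynomial (Fin m) B))).mapIso e2.symm))
  obtain ⟨Ξ, hΞ, hR⟩ := Groth.Agent.Lib.T2H4.FBC.isRHom_comp_poly A B C n ψ hψ m χ hχ K c _ h1 _ hZ
  have h4 := Groth.Agent.Lib.T2H4.Koszul.isRHom_of_adj adjθ
    (((DRing.LBaseChange (algebraMap A (MvPolynomial (Fin k) A))).obj K)⟦(k : ℤ)⟧)
  obtain ⟨e4⟩ := Groth.Agent.Lib.T2H4.FBC.isRHom_indep A (m + n) Ξ hΞ k θ hθ K _ _ hR h4
  obtain ⟨e5⟩ := Groth.Agent.Lib.T2H4.Koszul.nonempty_rightAdj_shift_iso θ.toRingHom Rθ adjθ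
    ((DRing.LBaseChange (algebraMap A (MvPolynomial (Fin k) A))).obj K) (k : ℤ)
  obtain ⟨e6⟩ := Groth.Agent.Lib.T2H4.Koszul.nonempty_rightAdj_shift_iso χ.toRingHom Rχ adjχ
    ((DRing.LBaseChange (algebraMap B (MvPolynomial (Fin m) B))).obj
      (Dual2.shriekVia n Rψ K)) (m : ℤ)
  exact ⟨e5.symm ≪≫ e4.symm ≪≫ e6⟩

end Groth.Agent.S1799
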