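import Groth.Statements.S1800
import Groth.Agent.Lib.T2H4FBC2

set_option autoImplicit false
universe u
open CategoryTheory
open scoped TensorProduct
attribute [local instance] HasDerivedCategory.standard
open Dual2

namespace Groth.Agent.S1800

/-- Let R → R' be a flat homomorphism of Noetherian rings, R → A a ring map of finite type with A
Noetherian, and A' = R' ⊗_R A with the induced map R' → A'; each upper shriek φ^!(K) is formed from
a presentation ψ : P = (base)[x_1, …, x_n] → (target) as RHom_P(target, K ⊗^L P)[n], the derived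
base change functors being assumed to exist and RHom_P(target, −) being given as a right adjoint of
restriction of scalars. Assuming also the derived base change functors D(A) → D(A') and D(R) → D(R')
exist, for every K in D(R) which is bounded below the base change to A' of the upper shriek of K
along R → A is isomorphic to the upper shriek along R' → A' of the base change of K to R'. -/
theorem result (R R' A : Type u) [CommRing R] [CommRing R'] [CommRing A] [IsNoetherianRing R] [IsNoetherianRing R'] [IsNoetherianRing A] [Algebra R R'] [Module.Flat R R'] [Algebra R A] [IsNoetherianRing (R' ⊗[R] A)] (n : ℕ) (ψ : MvPolynomial (Fin n) R →ₐ[R] A) (hψ : Function.Surjective ψ) [DRing.HasLBaseChange (algebraMap R (MvPolynomial (Fin n) R))] (Rψ : Dual.D (MvPolynomial (Fin n) R) ⥤ Dual.D A) (adj : DRing.restrictD ψ.toRingHom ⊣ Rψ) (m : ℕ) (ψ' : MvPolynomial (Fin m) R' →ₐ[R'] (R' ⊗[R] A)) (hψ' : Function.Surjective ψ') [DRing.HasLBaseChange (algebraMap R' (MvPolynomial (Fin m) R'))] (Rψ'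 : Dual.D (MvPolynomial (Fin m) R') ⥤ Dual.D (R' ⊗[R] A)) (adj' : DRing.restrictD ψ'.toRingHom ⊣ Rψ') [DRing.HasLBaseChange (Algebra.TensorProduct.includeRight : A →ₐ[R] R' ⊗[R] A).toRingHom] [DRing.HasLBaseChange (algebraMap R R')] (K : Dual.D R) (c : ℤ) (hK : ∀ i : ℤ, i < c → Subsingleton (Dual.HD R K i)) : Nonempty ((DRing.LBaseChange (Algebra.TensorProduct.includeRight : A →ₐ[R] R' ⊗[R] A).toRingHom).obj (Dual2.shriekVia n Rψ K) ≅ Dual2.shriekVia m Rψ' ((DRing.LBaseChange (algebraMap R R')).obj K)) := by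
  
  classical
  letI : Algebra A (R' ⊗[R] A) := Algebra.TensorProduct.rightAlgebra
  haveI : IsScalarTower R A (R' ⊗[R] A) := Algebra.TensorProduct.right_isScalarTower
  haveI : Algebra.IsPushout R A R' (R' ⊗[R] A) := TensorProduct.isPushout'
  haveI hGE : K.IsGE c := by
    rw [DerivedCategory.isGE_iff]
    intro j hj
    have := hK j hj
    exact ModuleCat.isZero_of_subsingleton _
  have h1 := Groth.Agent.Lib.T2H4.Koszul.isRHom_of_adj adj
    (((DRing.LBaseChange (algebraMap R (MvPolynomial (Fin n) R))).obj K)⟦(n : ℤ)⟧)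
  have h2 := Groth.Agent.Lib.T2H4.FBC.isRHom_shriek_flat_bc R R' A (R' ⊗[R] A) n ψ hψ K c _ h1
  have h3 := Groth.Agent.Lib.T2H4.Koszul.isRHom_of_adj adj'
    (((DRing.LBaseChange (algebraMap R' (MvPolynomial (Fin m) R'))).obj
      ((DRing.LBaseChange (algebraMap R R')).obj K))⟦(m : ℤ)⟧)
  obtain ⟨e1⟩ := Groth.Agent.Lib.T2H4.FBC.isRHom_indep R' n
    (Groth.Agent.Lib.T2H4.FBC.bcPres R R' A (R' ⊗[R] A) n ψ)
    (Groth.Agent.Lib.T2H4.FBC.bcPres_surjective R R' A (R' ⊗[R] A) n ψ hψ) m ψ' hψ'
    ((DRing.LBaseChange (algebraMap R R')).obj K) _ _ h2 h3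
  obtain ⟨e2⟩ := Groth.Agent.Lib.T2H4.Koszul.nonempty_rightAdj_shift_iso ψ.toRingHom Rψ adj
    ((DRing.LBaseChange (algebraMap R (MvPolynomial (Fin n) R))).obj K) (n : ℤ)
  obtain ⟨e3⟩ := Groth.Agent.Lib.T2H4.Koszul.nonempty_rightAdj_shift_iso ψ'.toRingHom Rψ' adj'
    ((DRing.LBaseChange (algebraMap R' (MvPolynomial (Fin m) R'))).obj
      ((DRing.LBaseChange (algebraMap R R')).obj K)) (m : ℤ)
  exact ⟨(DRing.LBaseChange (Algebra.TensorProduct.includeRight : A →ₐ[R] R' ⊗[R] A).toRingHom).mapIso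
    e2.symm ≪≫ e1 ≪≫ e3⟩

end Groth.Agent.S1800
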