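import Groth.Statements.S18026
import Groth.Agent.S17447
import Groth.Agent.Lib.T2H3GenericTorsor

set_option autoImplicit false
universe u
open Hensel

namespace Groth.Agent.S18026

open AlgebraicGeometry CategoryTheory in
/-- Let `A` be a henselian discrete valuation ring and `f : T ⟶ Spec A` an étale surjective morphism of
schemes. Then some open subscheme `U` of `T` is finite over `Spec A` and still maps onto it; in
particular `U → Spec A` is a finite étale cover sitting inside `T` as an open subscheme (étaleness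
of the restriction is automatic, and surjectivity records that `U` meets the closed fibre). (The
published statement asks for an open component of `T` finite étale over `Spec A`; when `T` is not
separated — two copies of `Spec A` glued along the generic point — no open and closed subset of `T`
is finite over `Spec A`, while the published proof constructs an open subscheme, the spectrum of the
local ring of `T` at a point of the closed fibre; so this row asks only for an open subscheme.) -/
theorem result
    (A : Type u) [CommRing A] [IsDomain A] [IsDiscreteValuationRing A] [HenselianLocalRing A]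
    (T : Scheme.{u}) (f : T ⟶ Spec (CommRingCat.of A)) [Etale f] [Surjective f] :
    ∃ U : T.Opens, IsFinite (U.ι ≫ f) ∧ Surjective (U.ι ≫ f) := by
  obtain ⟨t, ht⟩ := f.surjective (IsLocalRing.closedPoint A)
  obtain ⟨V, hV, htV⟩ : ∃ V : T.Opens, IsAffineOpen V ∧ t ∈ V := by
    obtain ⟨_, ⟨V, hV, rfl⟩, htV, -⟩ := T.isBasis_affineOpens.exists_subset_of_mem_open
      (Set.mem_univ t) isOpen_univ
    exact ⟨V, hV, htV⟩
  haveI : IsAffine (V : Scheme.{u}) := hV
  haveI : Etale (V.ι ≫ f) := inferInstance
  haveI : LocallyQuasiFinite (V.ι ≫ f) :=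
    Groth.Agent.Lib.T2H3.GenericTorsor.locallyQuasiFinite_of_etale (V.ι ≫ f)
  haveI : IsAffineHom (V.ι ≫ f) := inferInstance
  obtain ⟨W, ⟨hWcl, hWfin, hWs⟩, -⟩ := Groth.Agent.S17447.result A (V.ι ≫ f)
  have htW : (⟨t, htV⟩ : (V : Scheme.{u})) ∈ W := hWs _ ht
  have hιeq : (V.ι ''ᵁ W).ι ≫ f = (V.ι.isoImage W).inv ≫ W.ι ≫ V.ι ≫ f := by
    rw [← Category.assoc W.ι, ← Scheme.Hom.isoImage_hom_ι V.ι W, Category.assoc,
      Iso.inv_hom_id_assoc]
  have hfin : IsFinite ((V.ι ''ᵁ W).ι ≫ f) := by
    rw [hιeq]
    infer_instance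
  refine ⟨V.ι ''ᵁ W, hfin, ?_⟩
  have hopen : IsOpen (Set.range ((V.ι ''ᵁ W).ι ≫ f)) :=
    ((V.ι ''ᵁ W).ι ≫ f).isOpenMap.isOpen_range
  have htU : t ∈ V.ι ''ᵁ W := ⟨⟨t, htV⟩, htW, rfl⟩
  have hcl : IsLocalRing.closedPoint A ∈ Set.range ((V.ι ''ᵁ W).ι ≫ f) := ⟨⟨t, htU⟩, ht⟩
  constructor
  intro p
  exact (IsLocalRing.specializes_closedPoint p).mem_open hopen hcl

end Groth.Agent.S18026
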