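import Groth.Statements.S18027
import Groth.Agent.S5341
import Groth.Agent.Lib.Helper25IdComp
import Groth.Agent.Lib.T2H7OrbDim
import Groth.Agent.Lib.Helper3DimCons
import Groth.Agent.Lib.Helper7TopDim

set_option autoImplicit false
universe u
open CategoryTheory MonoidalCategory CartesianMonoidalCategory MonObj GrpObj AlgebraicGeometry CategoryTheory.Limits
open AlgGrp

namespace Groth.Agent.S18027

/-- Let `k` be a field and `u : G ⟶ H` a homomorphism of smooth `k`-group schemes which is a closed
immersion, where `G` and `H` have the same dimension. Then `u` carries the connected component of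
the identity of `G` onto the connected component of the identity of `H`; as `u` is a closed
immersion and `H` is reduced, `u` therefore restricts to an isomorphism between the identity
components. (The second printed assertion, on the groups of components, is not included.) -/
theorem result (k : Type u) [Field k]
    (G H : Over (Spec (CommRingCat.of k))) [GrpObj G] [GrpObj H]
    [Smooth G.hom] [Smooth H.hom] (u : G ⟶ H) [IsMonHom u] [IsClosedImmersion u.left]
    (hdim : topologicalKrullDim ↥G.left = topologicalKrullDim ↥H.left)
    (t : ↥((𝟙_ (Over (Spec (CommRingCat.of k)))).left)) :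
    ⇑u.left.base '' connectedComponent (η[G].left.base t) = connectedComponent (η[H].left.base t) := by
  obtain ⟨eG, heG⟩ : ∃ e : G.left, e = η[G].left.base t := ⟨_, rfl⟩
  obtain ⟨eH, heH⟩ : ∃ e : H.left, e = η[H].left.base t := ⟨_, rfl⟩
  rw [← heG, ← heH]
  have hsub : ∀ t' : ↥(Spec (CommRingCat.of k)), t' = t :=
    fun t' => Subsingleton.elim (α := ↥(Spec (CommRingCat.of k))) t' t
  have heq : u.left.base eG = eH := by
    rw [heG, heH]
    change (η[G].left ≫ u.left) t = _
    rw [← Over.comp_left, IsMonHom.one_hom]
  have heG' : eG = Groth.Agent.Lib.Helper25.IdComp.ePt G := by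
    rw [heG]; unfold Groth.Agent.Lib.Helper25.IdComp.ePt
    exact congrArg _ (hsub _).symm
  have heH' : eH = Groth.Agent.Lib.Helper25.IdComp.ePt H := by
    rw [heH]; unfold Groth.Agent.Lib.Helper25.IdComp.ePt
    exact congrArg _ (hsub _).symm
  have hCG : IsIrreducible (connectedComponent eG) := by
    rw [heG']; exact Groth.Agent.Lib.Helper25.IdComp.isIrreducible_connectedComponent_ePt G
  have hCH : IsIrreducible (connectedComponent eH) := by
    rw [heH']; exact Groth.Agent.Lib.Helper25.IdComp.isIrreducible_connectedComponent_ePt H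
  -- components are irreducible components
  have hmem : ∀ {T : Type u} [TopologicalSpace T] (e : T), IsIrreducible (connectedComponent e) →
      connectedComponent e ∈ irreducibleComponents T := by
    intro T _ e he
    refine ⟨he, fun s hs hsub' => ?_⟩
    exact hs.isPreirreducible.isPreconnected.subset_connectedComponent (hsub' mem_connectedComponent)
  have hdimG : topologicalKrullDim ↥(connectedComponent eG) = topologicalKrullDim ↥G.left :=
    (Groth.Agent.S5341.result k G).1 _ (hmem eG hCG)
  have hdimH : topologicalKrullDim ↥(connectedComponent eH) = topologicalKrullDim ↥H.left :=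
    (Groth.Agent.S5341.result k H).1 _ (hmem eH hCH)
  -- the image
  obtain ⟨Z, hZ⟩ : ∃ Z : Set H.left, Z = ⇑u.left.base '' connectedComponent eG := ⟨_, rfl⟩
  rw [← hZ]
  have hemb : Topology.IsClosedEmbedding u.left.base := u.left.isClosedEmbedding
  have hZirr : IsIrreducible Z := by
    rw [hZ]; exact hCG.image _ hemb.continuous.continuousOn
  have hZcl : IsClosed Z := by
    rw [hZ]; exact hemb.isClosedMap _ isClosed_connectedComponent
  have hZsub : Z ⊆ connectedComponent eH := by
    apply hZirr.isPreirreducible.isPreconnected.subset_connectedComponent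
    rw [hZ]
    exact ⟨eG, mem_connectedComponent, heq⟩
  have hdimZ : topologicalKrullDim ↥Z = topologicalKrullDim ↥H.left := by
    rw [← hdim, ← hdimG, hZ]
    exact (IsHomeomorph.topologicalKrullDim_eq _
      (hemb.isEmbedding.homeomorphImage (connectedComponent eG)).isHomeomorph).symm
  -- finiteness of the dimension
  letI : H.left.Over (Spec (CommRingCat.of k)) := ⟨H.hom⟩
  haveI : LocallyOfFiniteType (H.left ↘ Spec (CommRingCat.of k)) :=
    (inferInstance : LocallyOfFiniteType H.hom)
  have hfin : topologicalKrullDim ↥H.left < ⊤ := by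
    rw [← (Groth.Agent.S5341.result k H).2 eH]
    obtain ⟨_, ⟨U, hU, rfl⟩, hxU, -⟩ := H.left.isBasis_affineOpens.exists_subset_of_mem_open
      (Set.mem_univ eH) isOpen_univ
    replace hU : IsAffineOpen U := hU
    refine lt_of_le_of_lt (Groth.Agent.Lib.Helper7.TopDim.localDim_le eH U hxU) ?_
    haveI : CompactSpace ↥(Scheme.Opens.toScheme U) := isCompact_iff_compactSpace.mp hU.isCompact
    exact Groth.Agent.Lib.Helper3.DimCons.topologicalKrullDim_lt_top_of_lft_field k ((Scheme.Opens.ι U) ≫ H.hom)
  by_contra hne
  obtain ⟨O, hO⟩ : ∃ O : Set H.left, O = connectedComponent eH \ Z := ⟨_, rfl⟩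
  have hOne : O.Nonempty := by
    rw [hO, Set.nonempty_iff_ne_empty]
    intro h
    rw [Set.sdiff_eq_empty] at h
    exact hne (Set.Subset.antisymm hZsub h)
  have hOlc : IsLocallyClosed O := by
    rw [hO]
    exact ⟨Zᶜ, connectedComponent eH, hZcl.isOpen_compl, isClosed_connectedComponent,
      by rw [Set.inter_comm]; rfl⟩
  have hclO : closure O = connectedComponent eH := by
    apply Set.Subset.antisymm
    · apply closure_minimal _ isClosed_connectedComponent
      rw [hO]; exact Set.sdiff_subset
    · have h1 := subset_closure_inter_of_isPreirreducible_of_isOpen (U := Zᶜ) hCH.isPreirreducible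
        hZcl.isOpen_compl (by
          obtain ⟨x, hx⟩ := hOne
          rw [hO] at hx
          exact ⟨x, hx.1, hx.2⟩)
      rw [hO]
      exact h1
  have hbd : closure O \ O = Z := by
    rw [hclO, hO]
    ext x
    simp only [Set.mem_sdiff, not_and, not_not]
    constructor
    · rintro ⟨h1, h2⟩; exact h2 h1
    · intro hx; exact ⟨hZsub hx, fun _ => hx⟩
  have h1 := Groth.Agent.Lib.T2H7.OrbDim.topologicalKrullDim_boundary_add_one_le k H.left O hOlc
  rw [hbd, hdimZ] at h1
  have h2 : topologicalKrullDim ↥O ≤ topologicalKrullDim ↥H.left :=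
    topologicalKrullDim_subspace_le _ _
  have h3 : topologicalKrullDim ↥H.left + 1 ≤ topologicalKrullDim ↥H.left := h1.trans h2
  haveI : Nonempty ↥H.left := ⟨eH⟩
  have h4 : (0 : WithBot ℕ∞) ≤ topologicalKrullDim ↥H.left :=
    Groth.Agent.Lib.Helper7.TopDim.topologicalKrullDim_nonneg
  generalize topologicalKrullDim ↥H.left = d at h3 h4 hfin
  induction d using WithBot.recBotCoe with
  | bot => exact absurd h4 (by simp)
  | coe d =>
    induction d using ENat.recTopCoe with
    | top => exact absurd hfin (lt_irrefl _)
    | coe d =>
      have : ((d : ℕ∞) : WithBot ℕ∞) + 1 = (((d + 1 : ℕ) : ℕ∞) : WithBot ℕ∞) := by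
        push_cast; rfl
      rw [this, WithBot.coe_le_coe] at h3
      have h5 : d + 1 ≤ d := by exact_mod_cast h3
      omega

end Groth.Agent.S18027
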