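import Groth.Statements.S18063
import Groth.Agent.Lib.T2H3DensityExt

set_option autoImplicit false
universe u
open CategoryTheory MonoidalCategory CartesianMonoidalCategory MonObj GrpObj AlgebraicGeometry CategoryTheory.Limits
open AlgGrp

namespace Groth.Agent.S18063

/-- A is a discrete valuation ring, K denotes its field of fractions and k its residue field, and G is
an A-group scheme that is flat, separated and of finite presentation. If the generic fibre G_K is
commutative, then the special fibre G_k is commutative. (The published statement does not require G
separated over A, and its proof argues by density of the generic fibre; without separatedness the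
conclusion fails: gluing copies of Spec A indexed by a finite non-abelian group along their common
generic point gives a flat group scheme of finite presentation over A whose generic fibre is the
trivial group and whose special fibre is that non-abelian constant group. So G is taken separated
here.) -/
theorem result (A : Type u) [CommRing A] [IsDomain A] [IsDiscreteValuationRing A]
    (K : Type u) [Field K] [Algebra A K] [IsFractionRing A K]
    (G : Over (Spec (CommRingCat.of A))) [GrpObj G] [Flat G.hom] [LocallyOfFinitePresentation G.hom] [QuasiCompact G.hom]
    [IsSeparated G.hom] [IsCommMonObj (Red.bc (Spec.map (CommRingCat.ofHom (algebraMap A K))) G)] :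
    IsCommMonObj (Red.bc (Spec.map (CommRingCat.ofHom (algebraMap A (IsLocalRing.ResidueField A)))) G) := by
  haveI : IsSchemeTheoreticallyDominant (Spec.map (CommRingCat.ofHom (algebraMap A K))) :=
    Groth.Agent.Lib.T2H3.DensityExt.specMap_dominant _ (IsFractionRing.injective A K)
  haveI : Flat (G ⊗ G).hom := by
    rw [Over.tensorObj_hom]; infer_instance
  have hcomm : IsCommMonObj G := by
    constructor
    have h1 : (fst G G : G ⊗ G ⟶ G) * snd G G = snd G G * fst G G := by
      apply Groth.Agent.Lib.T2H3.DensityExt.over_ext (Spec.map (CommRingCat.ofHom (algebraMap A K)))
      rw [Functor.map_mul, Functor.map_mul]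
      exact mul_comm _ _
    have h2 : (fst G G : G ⊗ G ⟶ G) * snd G G = μ := by
      rw [Hom.mul_def, lift_fst_snd, Category.id_comp]
    have h3 : (snd G G : G ⊗ G ⟶ G) * fst G G = (β_ G G).hom ≫ μ := by
      rw [Hom.mul_def]
      congr 1
    rw [← h3, ← h1, h2]
  infer_instance

end Groth.Agent.S18063
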