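import Groth.Statements.S18082
import Groth.Agent.Lib.T2H3GenericWords

set_option autoImplicit false
universe u
open CategoryTheory MonoidalCategory CartesianMonoidalCategory MonObj GrpObj AlgebraicGeometry CategoryTheory.Limits
open AlgGrp

namespace Groth.Agent.S18082

/-- A is a discrete valuation ring, with K denoting its field of fractions and k its residue field, and
G is an A-group scheme that is flat, separated and of finite presentation. If the generic fibre G_K
is nilpotent then the special fibre G_k is nilpotent; if G_K is solvable then G_k is solvable. (The
published statement does not require G separated over A; gluing copies of Spec A indexed by a finite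
non-nilpotent, resp. non-solvable, group along their common generic point gives a flat group scheme
of finite presentation with trivial generic fibre and that constant group as special fibre, so G is
taken separated here, the case covered by the density argument of the published proof.) -/
theorem result (A : Type u) [CommRing A] [IsDomain A] [IsDiscreteValuationRing A]
    (K : Type u) [Field K] [Algebra A K] [IsFractionRing A K]
    (G : Over (Spec (CommRingCat.of A))) [GrpObj G] [Flat G.hom] [LocallyOfFinitePresentation G.hom] [QuasiCompact G.hom]
    [IsSeparated G.hom] :
    (AGF.IsNilpotentGrp (Red.bc (Spec.map (CommRingCat.ofHom (algebraMap A K))) G) → AGF.IsNilpotentGrp (Red.bc (Spec.map (CommRingCat.ofHom (algebraMap A (IsLocalRing.ResidueField A)))) G)) ∧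
    (Red.IsSolvableGrp (Red.bc (Spec.map (CommRingCat.ofHom (algebraMap A K))) G) → Red.IsSolvableGrp (Red.bc (Spec.map (CommRingCat.ofHom (algebraMap A (IsLocalRing.ResidueField A)))) G)) := by
  have hdom : IsSchemeTheoreticallyDominant (Spec.map (CommRingCat.ofHom (algebraMap A K))) :=
    Groth.Agent.Lib.T2H3.DensityExt.specMap_dominant _ (IsFractionRing.injective A K)
  constructor
  · rintro ⟨n, hn⟩
    refine ⟨n, fun X' => ?_⟩
    rw [← Subgroup.lowerCentralSeries_eq_bot_iff_upperCentralSeries_eq_top]
    refine Groth.Agent.Lib.T2H3.GenericWords.lowerCentralSeries_eq_bot_bc G _ n ?_ X'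
    refine Groth.Agent.Lib.T2H3.GenericWords.lowerCentralSeries_eq_bot_of_generic G
      (Spec.map (CommRingCat.ofHom (algebraMap A K))) n ?_
    intro X
    rw [Subgroup.lowerCentralSeries_eq_bot_iff_upperCentralSeries_eq_top]
    exact hn X
  · rintro ⟨n, hn⟩
    refine ⟨n, fun X' => ?_⟩
    refine Groth.Agent.Lib.T2H3.GenericWords.derivedSeries_eq_bot_bc G _ n ?_ X'
    exact Groth.Agent.Lib.T2H3.GenericWords.derivedSeries_eq_bot_of_generic G
      (Spec.map (CommRingCat.ofHom (algebraMap A K))) n hn

end Groth.Agent.S18082
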