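import Groth.Statements.S18128
import Mathlib
import Groth.Agent.S2064

set_option autoImplicit false
universe u
open CAlg

namespace Groth.Agent.S18128
open Groth.Agent.Lib.Helper28

theorem subsingleton_of_depth {R : Type u} [CommRing R] [IsLocalRing R] [IsNoetherianRing R]
    (M : Type u) [AddCommGroup M] [Module R M] [Module.Finite R M]
    (h1 : 1 ≤ LocCoh.idealDepth (IsLocalRing.maximalIdeal R) M)
    (hloc : ∀ (x : M) (p : Ideal R), p.IsPrime → p ≠ IsLocalRing.maximalIdeal R →
      ∃ s : R, s ∉ p ∧ s • x = 0) : Subsingleton M := by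
  by_contra hne
  rw [not_subsingleton_iff_nontrivial] at hne
  have hIM : IsLocalRing.maximalIdeal R • (⊤ : Submodule R M) ≠ ⊤ := by
    intro htop
    have := Submodule.eq_bot_of_le_smul_of_le_jacobson_bot (IsLocalRing.maximalIdeal R)
      (⊤ : Submodule R M) Module.Finite.fg_top (le_of_eq htop.symm)
      (by rw [IsLocalRing.jacobson_eq_maximalIdeal ⊥ bot_ne_top])
    exact top_ne_bot this
  obtain ⟨r, hr, hreg⟩ := (one_le_idealDepth_iff hIM).mp h1
  obtain ⟨p, hp⟩ := associatedPrimes.nonempty R M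
  obtain ⟨hprime, x, hx⟩ := (isAssociatedPrime_iff).mp hp
  have hx0 : x ≠ 0 := by
    rintro rfl
    apply hprime.ne_top
    rw [hx, Ideal.eq_top_iff_one, Submodule.mem_colon_singleton]
    simp
  by_cases hpm : p = IsLocalRing.maximalIdeal R
  · have : r ∈ p := hpm ▸ hr
    rw [hx, Submodule.mem_colon_singleton, Submodule.mem_bot] at this
    exact hx0 (hreg (by simpa using this))
  · obtain ⟨s, hs, hsx⟩ := hloc x p hprime hpm
    apply hs
    rw [hx, Submodule.mem_colon_singleton, hsx]
    exact Submodule.zero_mem _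


section Loc
variable {R : Type u} [CommRing R] (p : Ideal R) [p.IsPrime]

/-- a vector that dies in the localization is killed by some `s ∉ p`. -/
theorem exists_smul_eq_zero {a : ℕ} (z : Fin a → R)
    (hz : ∀ k, algebraMap R (Localization.AtPrime p) (z k) = 0) :
    ∃ s : R, s ∉ p ∧ s • z = 0 := by
  have : ∀ k, ∃ t : p.primeCompl, (t : R) * z k = 0 := fun k =>
    (IsLocalization.map_eq_zero_iff p.primeCompl (Localization.AtPrime p) (z k)).mp (hz k)
  choose t ht using this
  refine ⟨∏ k, (t k : R), ?_, ?_⟩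
  · exact (Submonoid.prod_mem p.primeCompl (fun k _ => (t k).2) : _ ∈ p.primeCompl)
  · funext k
    rw [Pi.smul_apply, smul_eq_mul, Pi.zero_apply, ← Finset.prod_erase_mul _ _ (Finset.mem_univ k),
      mul_assoc, ht k, mul_zero]

theorem loc_zero {a b : ℕ} (A1 : Matrix (Fin a) (Fin b) R)
    (hex : LinearMap.ker ((A1.map (algebraMap R (Localization.AtPrime p))).mulVecLin) = ⊥)
    (z : Fin b → R) (hz : A1.mulVec z = 0) : ∃ s : R, s ∉ p ∧ s • z = 0 := by
  apply exists_smul_eq_zero p z
  have h1 : (algebraMap R (Localization.AtPrime p)) ∘ z ∈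
      LinearMap.ker ((A1.map (algebraMap R (Localization.AtPrime p))).mulVecLin) := by
    rw [LinearMap.mem_ker, Matrix.mulVecLin_apply]
    funext i
    rw [← RingHom.map_mulVec, hz]
    simp
  rw [hex, Submodule.mem_bot] at h1
  exact fun k => congrFun h1 k

theorem loc_mem {a b c : ℕ} (A1 : Matrix (Fin a) (Fin b) R) (A2 : Matrix (Fin b) (Fin c) R)
    (hex : LinearMap.ker ((A1.map (algebraMap R (Localization.AtPrime p))).mulVecLin) =
      LinearMap.range ((A2.map (algebraMap R (Localization.AtPrime p))).mulVecLin))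
    (z : Fin b → R) (hz : A1.mulVec z = 0) :
    ∃ s : R, s ∉ p ∧ s • z ∈ LinearMap.range A2.mulVecLin := by
  have h1 : (algebraMap R (Localization.AtPrime p)) ∘ z ∈
      LinearMap.ker ((A1.map (algebraMap R (Localization.AtPrime p))).mulVecLin) := by
    rw [LinearMap.mem_ker, Matrix.mulVecLin_apply]
    funext i
    rw [← RingHom.map_mulVec, hz]
    simp
  rw [hex] at h1
  obtain ⟨w, hw⟩ := h1
  obtain ⟨s, hs⟩ := IsLocalization.exist_integer_multiples_of_finite p.primeCompl w
  choose w0 hw0 using hs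
  -- `algebraMap (s z - A2 w0) = 0`
  have h2 : ∀ k, algebraMap R (Localization.AtPrime p)
      (((s : R) • z - A2.mulVec w0) k) = 0 := by
    intro k
    rw [Pi.sub_apply, map_sub, RingHom.map_mulVec, Pi.smul_apply, smul_eq_mul, map_mul]
    have e1 : (algebraMap R (Localization.AtPrime p)) ∘ w0 = (s : R) • w := by
      funext j
      rw [Function.comp_apply, hw0 j, Pi.smul_apply]
    rw [e1, Matrix.mulVec_smul, Pi.smul_apply, Algebra.smul_def]
    have e2 := congrFun hw k
    rw [Matrix.mulVecLin_apply] at e2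
    rw [e2, Function.comp_apply, sub_self]
  obtain ⟨t, ht, htz⟩ := exists_smul_eq_zero p _ h2
  refine ⟨t * s, ?_, ?_⟩
  · exact (p.primeCompl.mul_mem ht s.2 : _ ∈ p.primeCompl)
  · refine ⟨t • w0, ?_⟩
    rw [Matrix.mulVecLin_apply, Matrix.mulVec_smul, mul_smul]
    rw [smul_sub, sub_eq_zero] at htz
    exact htz.symm

end Loc

section Main

variable {R : Type u} [CommRing R]

/-- the boundaries of the truncated complex. -/
noncomputable def Bdy (e : ℕ) (n : ℕ → ℕ) (A : (i : ℕ) → Matrix (Fin (n i)) (Fin (n (i + 1))) R)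
    (j : ℕ) : Submodule R (Fin (n j) → R) :=
  if j < e then LinearMap.range (A j).mulVecLin else ⊥

theorem Bdy_of_lt (e : ℕ) (n : ℕ → ℕ) (A : (i : ℕ) → Matrix (Fin (n i)) (Fin (n (i + 1))) R)
    (j : ℕ) (h : j < e) : Bdy e n A j = LinearMap.range (A j).mulVecLin := if_pos h

theorem Bdy_of_ge (e : ℕ) (n : ℕ → ℕ) (A : (i : ℕ) → Matrix (Fin (n i)) (Fin (n (i + 1))) R)
    (j : ℕ) (h : e ≤ j) : Bdy e n A j = ⊥ := if_neg (by omega)

variable [IsLocalRing R] [IsNoetherianRing R]

theorem depth_Bdy (e : ℕ) (n : ℕ → ℕ) (A : (i : ℕ) → Matrix (Fin (n i)) (Fin (n (i + 1))) R)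
    (hF : ∀ j, (e : ℕ∞) ≤ LocCoh.idealDepth (IsLocalRing.maximalIdeal R) (Fin (n j) → R))
    (i : ℕ)
    (hex : ∀ j, i < j → j < e → LinearMap.ker (A j).mulVecLin = Bdy e n A (j + 1)) :
    ∀ l j, i < j → e ≤ j + l →
      ((j + 1 : ℕ) : ℕ∞) ≤ LocCoh.idealDepth (IsLocalRing.maximalIdeal R) (Bdy e n A j) := by
  intro l
  induction l with
  | zero =>
    intro j hj hje
    rw [Bdy_of_ge e n A j (by omega), idealDepth_eq_top_of_subsingleton]
    exact le_top
  | succ l ih =>
    intro j hj hje
    by_cases hje' : e ≤ j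
    · rw [Bdy_of_ge e n A j hje', idealDepth_eq_top_of_subsingleton]
      exact le_top
    · have hje'' : j < e := by omega
      rw [Bdy_of_lt e n A j hje'']
      have h1 := ih (j + 1) (by omega) (by omega)
      rw [← hex j hj hje''] at h1
      have h2 := Groth.Agent.S2064.depth_range (IsLocalRing.maximalIdeal R) (A j).mulVecLin
      refine le_trans (le_min ?_ (Groth.Agent.S2064.enat_le_sub_one h1)) h2
      refine le_trans ?_ (hF (j + 1))
      exact_mod_cast hje''

theorem step (e : ℕ) (n : ℕ → ℕ) (A : (i : ℕ) → Matrix (Fin (n i)) (Fin (n (i + 1))) R)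
    (hA : ∀ i, i + 2 ≤ e → A i * A (i + 1) = 0)
    (hF : ∀ j, (e : ℕ∞) ≤ LocCoh.idealDepth (IsLocalRing.maximalIdeal R) (Fin (n j) → R))
    (hloc : ∀ (p : Ideal R) [p.IsPrime], p ≠ IsLocalRing.maximalIdeal R →
      LinearMap.ker ((A (e - 1)).map (algebraMap R (Localization.AtPrime p))).mulVecLin = ⊥ ∧
        ∀ i, i + 2 ≤ e →
          LinearMap.ker ((A i).map (algebraMap R (Localization.AtPrime p))).mulVecLin =
            LinearMap.range ((A (i + 1)).map (algebraMap R (Localization.AtPrime p))).mulVecLin)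
    (i : ℕ) (hi : i < e)
    (hex : ∀ j, i < j → j < e → LinearMap.ker (A j).mulVecLin = Bdy e n A (j + 1)) :
    LinearMap.ker (A i).mulVecLin = Bdy e n A (i + 1) := by
  set m := IsLocalRing.maximalIdeal R with hm
  have hBZ : Bdy e n A (i + 1) ≤ LinearMap.ker (A i).mulVecLin := by
    by_cases h : i + 1 < e
    · rw [Bdy_of_lt e n A _ h]
      rintro _ ⟨w, rfl⟩
      rw [LinearMap.mem_ker, Matrix.mulVecLin_apply, Matrix.mulVecLin_apply, Matrix.mulVec_mulVec,
        hA i (by omega), Matrix.zero_mulVec]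
    · rw [Bdy_of_ge e n A _ (by omega)]
      exact bot_le
  apply le_antisymm _ hBZ
  set Z := LinearMap.ker (A i).mulVecLin with hZdef
  set B' := (Bdy e n A (i + 1)).submoduleOf Z with hB'def
  have hZ : 1 ≤ LocCoh.idealDepth m Z := by
    refine one_le_idealDepth_of_injective m Z.subtype (Submodule.injective_subtype _) ?_
    refine le_trans ?_ (hF (i + 1))
    exact_mod_cast (by omega : 1 ≤ e)
  have hB : ((i + 1 + 1 : ℕ) : ℕ∞) ≤ LocCoh.idealDepth m (Bdy e n A (i + 1)) :=
    depth_Bdy e n A hF i hex e (i + 1) (by omega) (by omega)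
  have hB' : ((1 + 1 : ℕ) : ℕ∞) ≤ LocCoh.idealDepth m B' := by
    rw [idealDepth_congr (Submodule.submoduleOfEquivOfLe hBZ) m]
    refine le_trans ?_ hB
    exact_mod_cast (by omega : 1 + 1 ≤ i + 1 + 1)
  have hQ := Groth.Agent.S2064.depth_quot m B'
  have h1 : 1 ≤ LocCoh.idealDepth m (Z ⧸ B') := by
    refine le_trans (le_min hZ ?_) hQ
    have := Groth.Agent.S2064.enat_le_sub_one hB'
    exact_mod_cast this
  have hsub : Subsingleton (Z ⧸ B') := by
    apply subsingleton_of_depth _ h1
    intro x p hp hpm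
    obtain ⟨z, rfl⟩ := Submodule.Quotient.mk_surjective _ x
    have hz : (A i).mulVec (z : Fin (n (i + 1)) → R) = 0 := z.2
    by_cases h : i + 1 < e
    · obtain ⟨s, hs, hsz⟩ := loc_mem p (A i) (A (i + 1)) ((hloc p hpm).2 i (by omega)) z hz
      refine ⟨s, hs, ?_⟩
      rw [← Submodule.Quotient.mk_smul, Submodule.Quotient.mk_eq_zero, hB'def]
      change ((s • z : Z) : Fin (n (i + 1)) → R) ∈ Bdy e n A (i + 1)
      rw [Bdy_of_lt e n A _ h]
      exact hsz
    · obtain rfl : i = e - 1 := by omega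
      obtain ⟨s, hs, hsz⟩ := loc_zero p (A (e - 1)) (hloc p hpm).1 z hz
      refine ⟨s, hs, ?_⟩
      rw [← Submodule.Quotient.mk_smul]
      have : s • z = 0 := Subtype.ext hsz
      rw [this, Submodule.Quotient.mk_zero]
  intro z hz
  have h0 : (Submodule.Quotient.mk (⟨z, hz⟩ : Z) : Z ⧸ B') = 0 := Subsingleton.elim _ _
  rw [Submodule.Quotient.mk_eq_zero, hB'def] at h0
  exact h0

end Main


/-- Local step of Buchsbaum–Eisenbud: let R be a Noetherian local ring with maximal ideal m, and 0 →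
R^(n_e) → ⋯ → R^(n_1) → R^(n_0) a complex of finite free modules, the map R^(n_(i+1)) → R^(n_i)
being given by the matrix A i, with 1 ≤ e and e at most the depth of R (there is an R-regular
sequence of length e inside m). If for every prime ideal p ≠ m the complex of matrices over R_p
obtained by localization is exact at R_p^(n_e), …, R_p^(n_1), then the complex is exact at R^(n_e),
…, R^(n_1). -/
theorem result
    {R : Type u} [CommRing R] [IsLocalRing R] [IsNoetherianRing R]
    (e : ℕ) (he : 1 ≤ e) (n : ℕ → ℕ) (A : (i : ℕ) → Matrix (Fin (n i)) (Fin (n (i + 1))) R)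
    (hA : ∀ i, i + 2 ≤ e → A i * A (i + 1) = 0)
    (rs : List R) (hlen : rs.length = e) (hmem : ∀ x ∈ rs, x ∈ IsLocalRing.maximalIdeal R)
    (hreg : RingTheory.Sequence.IsRegular R rs)
    (hloc : ∀ (p : Ideal R) [p.IsPrime], p ≠ IsLocalRing.maximalIdeal R →
      LinearMap.ker ((A (e - 1)).map (algebraMap R (Localization.AtPrime p))).mulVecLin = ⊥ ∧
        ∀ i, i + 2 ≤ e →
          LinearMap.ker ((A i).map (algebraMap R (Localization.AtPrime p))).mulVecLin =
            LinearMap.range ((A (i + 1)).map (algebraMap R (Localization.AtPrime p))).mulVecLin) :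
    LinearMap.ker (A (e - 1)).mulVecLin = ⊥ ∧
      ∀ i, i + 2 ≤ e → LinearMap.ker (A i).mulVecLin = LinearMap.range (A (i + 1)).mulVecLin := by
  have hdepthR : (e : ℕ∞) ≤ LocCoh.idealDepth (IsLocalRing.maximalIdeal R) R := by
    rw [← hlen]
    exact length_le_idealDepth hreg.toIsWeaklyRegular hmem
  have hF : ∀ j, (e : ℕ∞) ≤ LocCoh.idealDepth (IsLocalRing.maximalIdeal R) (Fin (n j) → R) :=
    fun j => hdepthR.trans (idealDepth_le_idealDepth_pi_fin (IsLocalRing.maximalIdeal R) R (n j))
  have main : ∀ k i, i + k + 1 = e → LinearMap.ker (A i).mulVecLin = Bdy e n A (i + 1) := by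
    intro k
    induction k using Nat.strong_induction_on with
    | _ k ih =>
      intro i hik
      refine step e n A hA hF hloc i (by omega) ?_
      intro j hij hje
      exact ih (e - 1 - j) (by omega) j (by omega)
  refine ⟨?_, fun i hi => ?_⟩
  · rw [main 0 (e - 1) (by omega), show e - 1 + 1 = e by omega, Bdy_of_ge e n A e le_rfl]
  · rw [main (e - 1 - i) i (by omega), Bdy_of_lt e n A (i + 1) (by omega)]

end Groth.Agent.S18128
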