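import Groth.Statements.S18155
import Groth.Agent.S9436
import Groth.Agent.Lib.Helper5W2Lift

set_option autoImplicit false
set_option linter.style.haveILetI false
universe u v
open FrobAlg TensorProduct

namespace Groth.Agent.S18155

/-- A copy of `D`, to carry a twisted algebra structure. -/
def Tw (D : Type v) : Type v := D

instance (D : Type v) [CommRing D] : CommRing (Tw D) := inferInstanceAs (CommRing D)

/-- The identity `D → Tw D`. -/
def toTw (D : Type v) [CommRing D] : D ≃+* Tw D := RingEquiv.refl D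

theorem exists_frob_lift {B D : Type v} [CommRing B] [CommRing D] [Algebra B D]
    [Algebra.FormallySmooth B D] (p : ℕ) [Fact p.Prime] (Φ : B →+* B) (N : Ideal D)
    (hN : IsNilpotent N) (hp : (p : D) ∈ N)
    (hΦ : ∀ b, algebraMap B D (Φ b) - (algebraMap B D b) ^ p ∈ N) :
    ∃ Ψ : D →+* D, Ψ.comp (algebraMap B D) = (algebraMap B D).comp Φ ∧ ∀ d, Ψ d - d ^ p ∈ N := by
  letI : Algebra B (Tw D) := ((toTw D : D →+* Tw D).comp ((algebraMap B D).comp Φ)).toAlgebra
  let N' : Ideal (Tw D) := N.comap ((toTw D).symm : Tw D →+* D)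
  have hmem : ∀ x : D, toTw D x ∈ N' ↔ x ∈ N := fun x => by
    rw [Ideal.mem_comap]; rfl
  have hN' : IsNilpotent N' := by
    obtain ⟨n, hn⟩ := hN
    refine ⟨n, ?_⟩
    rw [Ideal.zero_eq_bot, eq_bot_iff] at hn ⊢
    rw [← Ideal.comap_bot_of_injective ((toTw D).symm : Tw D →+* D) (toTw D).symm.injective]
    exact (Ideal.le_comap_pow _ n).trans (Ideal.comap_mono hn)
  have hp' : ((p : ℕ) : Tw D ⧸ N') = 0 := by
    have : ((p : ℕ) : Tw D ⧸ N') = Ideal.Quotient.mk N' (toTw D ((p : ℕ) : D)) := by
      rw [map_natCast, map_natCast]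
    rw [this, Ideal.Quotient.eq_zero_iff_mem, hmem]
    exact hp
  let g₀ : D →+* (Tw D ⧸ N') :=
    { toFun := fun x => (Ideal.Quotient.mk N' (toTw D x)) ^ p
      map_one' := by rw [map_one, map_one, one_pow]
      map_mul' := fun x y => by rw [map_mul, map_mul, mul_pow]
      map_zero' := by rw [map_zero, map_zero, zero_pow (Fact.out : p.Prime).ne_zero]
      map_add' := fun x y => by
        rw [map_add, map_add, add_pow_prime_eq (Fact.out : p.Prime), hp', zero_mul, zero_mul,
          zero_mul, add_zero] }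
  let g : D →ₐ[B] (Tw D ⧸ N') :=
    { g₀ with
      commutes' := fun b => by
        change (Ideal.Quotient.mk N' (toTw D (algebraMap B D b))) ^ p =
          Ideal.Quotient.mk N' (toTw D (algebraMap B D (Φ b)))
        rw [← map_pow, ← map_pow, eq_comm, Ideal.Quotient.eq, ← map_sub, hmem]
        exact hΦ b }
  let Ψ₀ : D →ₐ[B] Tw D := Algebra.FormallySmooth.lift N' hN' g
  refine ⟨((toTw D).symm : Tw D →+* D).comp (Ψ₀ : D →+* Tw D), ?_, fun d => ?_⟩
  · ext b
    have := Ψ₀.commutes b
    change (toTw D).symm (Ψ₀ (algebraMap B D b)) = _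
    rw [this]
    rfl
  · have h := Algebra.FormallySmooth.mk_lift N' hN' g d
    change Ideal.Quotient.mk N' (Ψ₀ d) = (Ideal.Quotient.mk N' (toTw D d)) ^ p at h
    rw [← map_pow, ← map_pow, Ideal.Quotient.eq] at h
    rw [Ideal.mem_comap, map_sub] at h
    exact h

/-- Let k be an algebraically closed field of characteristic p, A a commutative k-algebra and C an étale
A-algebra. If A admits a flat lifting over W_2(k) together with a lift of Frobenius, then so does C.
(The source states this for an étale cover Y → X of smooth varieties over k; its argument uses only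
that Y is étale over X, and the affine case is stated here with no smoothness or finiteness
hypothesis on A over k.) -/
theorem result
    (p : ℕ) [Fact p.Prime] (k : Type u) [Field k] [IsAlgClosed k] [CharP k p]
    (A C : Type v) [CommRing A] [CommRing C] [Algebra k A] [Algebra k C]
    [Algebra A C] [IsScalarTower k A C] [Algebra.Etale A C]
    (hA : FrobAlg.IsFLiftable p k A) : FrobAlg.IsFLiftable p k C := by
  obtain ⟨B, _, ι, π, Φ, hΦ⟩ := hA
  have hlift : IsLift p k A B ι π := hΦ.toIsLift
  haveI : PerfectRing k p := PerfectField.toPerfectRing p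
  have hker : RingHom.ker π = Ideal.span {((p : ℕ) : B)} :=
    Groth.Agent.Lib.Helper5.W2Lift.ker_eq hlift
  have hpp : ((p : ℕ) : B) * ((p : ℕ) : B) = 0 := Groth.Agent.Lib.Helper5.W2Lift.p_mul_p hlift
  let N : Ideal B := RingHom.ker π
  letI algBNA : Algebra (B ⧸ N) A := (RingHom.kerLift π).toAlgebra
  letI algBNC : Algebra (B ⧸ N) C := ((algebraMap A C).comp (RingHom.kerLift π)).toAlgebra
  haveI : IsScalarTower (B ⧸ N) A C := IsScalarTower.of_algebraMap_eq' rfl
  have hbij : Function.Bijective (algebraMap (B ⧸ N) A) :=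
    ⟨RingHom.kerLift_injective π, fun a => by
      obtain ⟨b, rfl⟩ := hlift.surj a
      exact ⟨Ideal.Quotient.mk N b, rfl⟩⟩
  haveI : Algebra.Etale (B ⧸ N) A :=
    Algebra.Etale.of_equiv (AlgEquiv.ofBijective (Algebra.ofId (B ⧸ N) A) hbij)
  haveI : Algebra.Etale (B ⧸ N) C := Algebra.Etale.comp (B ⧸ N) A C
  obtain ⟨D, _, _, hD, ⟨e⟩⟩ := Groth.Agent.S9436.result B N C
  let inc : D →ₐ[B] (B ⧸ N) ⊗[B] D := Algebra.TensorProduct.includeRight
  let πD : D →+* C := (e : (B ⧸ N) ⊗[B] D →+* C).comp (inc : D →+* (B ⧸ N) ⊗[B] D)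
  let ιD : W2 p k →+* D := (algebraMap B D).comp ι
  have hπD : ∀ d, πD d = e ((1 : B ⧸ N) ⊗ₜ[B] d) := fun d => rfl
  let ND : Ideal D := N.map (algebraMap B D)
  have hkerD : ∀ d, πD d = 0 ↔ d ∈ ND := by
    intro d
    rw [hπD, EmbeddingLike.map_eq_zero_iff,
      ← (TensorProduct.quotTensorEquivQuotSMul D N).map_eq_zero_iff,
      TensorProduct.quotTensorEquivQuotSMul_mk_one_tmul, Submodule.Quotient.mk_eq_zero,
      Ideal.smul_top_eq_map]
    rfl
  have hsurj : Function.Surjective πD := by
    intro c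
    obtain ⟨d, hd⟩ := Submodule.Quotient.mk_surjective _
      (TensorProduct.quotTensorEquivQuotSMul D N (e.symm c))
    refine ⟨d, ?_⟩
    rw [hπD, ← TensorProduct.quotTensorEquivQuotSMul_symm_mk N d, hd,
      LinearEquiv.symm_apply_apply, AlgEquiv.apply_symm_apply]
  have hNDspan : ND = Ideal.span {((p : ℕ) : D)} := by
    change Ideal.map (algebraMap B D) (RingHom.ker π) = _
    rw [hker, Ideal.map_span, Set.image_singleton, map_natCast]
  have hNDnil : IsNilpotent ND := by
    refine ⟨2, ?_⟩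
    rw [hNDspan, Ideal.span_singleton_pow, Ideal.zero_eq_bot, Ideal.span_singleton_eq_bot, pow_two]
    have := congrArg (algebraMap B D) hpp
    rwa [map_mul, map_natCast, map_zero] at this
  have hpD : ((p : ℕ) : D) ∈ ND := by
    rw [hNDspan]; exact Ideal.subset_span rfl
  have hΦ' : ∀ b, algebraMap B D (Φ b) - (algebraMap B D b) ^ p ∈ ND := by
    intro b
    rw [← map_pow, ← map_sub]
    apply Ideal.mem_map_of_mem
    change π (Φ b - b ^ p) = 0
    rw [map_sub, map_pow, hΦ.red, sub_self]
  obtain ⟨Ψ, hΨ1, hΨ2⟩ := exists_frob_lift p Φ ND hNDnil hpD hΦ'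
  refine ⟨D, inferInstance, ιD, πD, Ψ, ?_⟩
  refine { flat := ?_, surj := hsurj, ker_eq := ?_, comm := ?_, semi := ?_, red := ?_ }
  · exact RingHom.Flat.comp hlift.flat (RingHom.flat_algebraMap_iff.mpr inferInstance)
  · ext d
    rw [RingHom.mem_ker, hkerD]
    change d ∈ Ideal.map (algebraMap B D) (RingHom.ker π) ↔ d ∈ Ideal.map ((algebraMap B D).comp ι) _
    rw [hlift.ker_eq, Ideal.map_map]
  · ext w
    change πD (algebraMap B D (ι w)) = algebraMap k C (res p k w)
    rw [hπD]
    have h1 : ((1 : B ⧸ N) ⊗ₜ[B] (algebraMap B D (ι w)) : (B ⧸ N) ⊗[B] D) =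
        algebraMap (B ⧸ N) ((B ⧸ N) ⊗[B] D) (Ideal.Quotient.mk N (ι w)) := by
      rw [Algebra.TensorProduct.algebraMap_apply, Algebra.algebraMap_eq_smul_one (ι w),
        TensorProduct.tmul_smul, TensorProduct.smul_tmul', Algebra.algebraMap_self,
        RingHom.id_apply]
      congr 1
      rw [Algebra.smul_def, mul_one]
      rfl
    rw [h1, e.commutes]
    change algebraMap A C (π (ι w)) = _
    have h2 : π (ι w) = algebraMap k A (res p k w) := RingHom.congr_fun hlift.comm w
    rw [h2, ← IsScalarTower.algebraMap_apply]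
  · change Ψ.comp ((algebraMap B D).comp ι) = ((algebraMap B D).comp ι).comp (sigma p k)
    rw [← RingHom.comp_assoc, hΨ1, RingHom.comp_assoc, hΦ.semi, RingHom.comp_assoc]
  · intro d
    have h := (hkerD _).mpr (hΨ2 d)
    rw [map_sub, map_pow, sub_eq_zero] at h
    exact h

end Groth.Agent.S18155
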