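import Groth.Statements.S18234
import Groth.Agent.Lib.T2H3MagnetUnram

set_option autoImplicit false
set_option linter.style.haveILetI false
universe u
open CategoryTheory MonoidalCategory CartesianMonoidalCategory AlgebraicGeometry Opposite
open Magnet

namespace Groth.Agent.S18234

/-- Let S be a scheme, M a finitely generated abelian group, N a submonoid of M, X and Y schemes over S
with actions of the diagonalizable group scheme D(M)_S, and f : X → Y a formally unramified
equivariant S-morphism. If the attractors X^N and Y^N are represented by S-schemes Z_X and Z_Y, and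
j : Z_X → Z_Y is the S-morphism that corresponds to f^N under the two representing bijections, then
j is formally unramified. (Stated for schemes; the published statement is for algebraic spaces over
S.) -/
theorem result (S : Scheme.{u}) (M : Type) [AddCommGroup M]
    [AddGroup.FG M] (N : AddSubmonoid M) {X Y : Over S} (aX : Magnet.MonAct (Magnet.AMonS S M) X)
    (aY : Magnet.MonAct (Magnet.AMonS S M) Y) (f : X ⟶ Y) (hf : Magnet.MonAct.IsEquivariant aX aY f)
    [FormallyUnramified f.left] {ZX ZY : Over S} (eX : (Magnet.attr aX N).RepresentableBy ZX) (eY : (Magnet.attr aY N).RepresentableBy ZY)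
    (j : ZX ⟶ ZY) (hj : ∀ (T : Over S) (z : T ⟶ ZX),
      eY.homEquiv (z ≫ j) = (Magnet.MonAct.eqvHom.postcomp (Magnet.subAct S M N) f hf).app (op T) (eX.homEquiv z)) :
    FormallyUnramified j.left := by
  apply FormallyUnramified.of_hom_ext
  intro R R₀ φ hφ hker g₁ g₂ hg hgj
  obtain ⟨hnil, hsurj⟩ := Groth.Agent.Lib.T2H3.MagnetUnram.spec_nilpotent_of_surjective φ hφ hker
  haveI : IsClosedImmersion (Spec.map φ) := IsClosedImmersion.spec_of_surjective φ hφ
  have hstr : g₂ ≫ ZX.hom = g₁ ≫ ZX.hom := by
    rw [← Over.w j, ← Category.assoc, ← Category.assoc, hgj]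
  let T' : Over S := Over.mk (g₁ ≫ ZX.hom)
  let z₁ : T' ⟶ ZX := Over.homMk g₁ rfl
  let z₂ : T' ⟶ ZX := Over.homMk g₂ hstr
  let T₀ : Over S := Over.mk (Spec.map φ ≫ g₁ ≫ ZX.hom)
  let u : T₀ ⟶ T' := Over.homMk (Spec.map φ) rfl
  haveI : IsClosedImmersion u.left := ‹_›
  haveI : Surjective u.left := hsurj
  have hz : z₁ ≫ j = z₂ ≫ j := by ext1; exact hgj
  have huz : u ≫ z₁ = u ≫ z₂ := by ext1; exact hg
  have h2 : (eX.homEquiv z₁).1 ≫ f = (eX.homEquiv z₂).1 ≫ f := by
    have e1 := hj T' z₁
    have e2 := hj T' z₂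
    rw [hz] at e1
    exact congrArg Subtype.val (e1.symm.trans e2)
  have h1 : (AMonS S N ◁ u) ≫ (eX.homEquiv z₁).1 = (AMonS S N ◁ u) ≫ (eX.homEquiv z₂).1 := by
    have e1 := eX.homEquiv_comp u z₁
    have e2 := eX.homEquiv_comp u z₂
    rw [huz] at e1
    exact congrArg Subtype.val (e1.symm.trans e2)
  have h3 := Groth.Agent.Lib.T2H3.MagnetUnram.ext_of_thickening (AMonS S N) u hnil f _ _ h1 h2
  have hz12 : z₁ = z₂ := eX.homEquiv.injective (Subtype.ext h3)
  exact congrArg CommaMorphism.left hz12

end Groth.Agent.S18234
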