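import Groth.Statements.S18288
import Groth.Agent.Lib.T2H3MagnetDom

set_option autoImplicit false
set_option linter.style.haveILetI false
universe u
open CategoryTheory MonoidalCategory CartesianMonoidalCategory MonObj AlgebraicGeometry Opposite
open Magnet

namespace Groth.Agent.S18288

theorem AMon_map_id (R : Type u) [CommRing R] (P : Type) [AddCommMonoid P] :
    AMon.map R (AddMonoidHom.id P) = 𝟙 _ := by
  ext : 1
  rw [AMon.map_left, Over.id_left]
  change Spec.map _ = 𝟙 _
  rw [← Spec.map_id]
  congr 1
  ext : 1
  apply MonoidAlgebra.ringHom_ext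
  · intro r; simp
  · intro m; simp

theorem AMonS_map_id (S : Scheme.{u}) (P : Type) [AddCommMonoid P] :
    AMonS.map S (AddMonoidHom.id P) = 𝟙 _ := by
  rw [AMonS.map, AMon_map_id]
  exact CategoryTheory.Functor.map_id _ _

/-- Let M be a commutative monoid with an injective homomorphism f : M → Z into a commutative group Z
(so M is cancellative; the published statement takes Z to be the group completion of M, and the same
argument applies to any such Z), let Y be a submonoid of Z contained in the image of M, and let X be
an S-scheme separated over S with an action of the diagonalizable monoid scheme A(M)_S. Regard X as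
a D(Z)_S-scheme through D(Z)_S → A(M)_S. Then the canonical map of attractors X^{f⁻¹Y ⊂ M} → X^{Y ⊂
Z} is an isomorphism: a D(Z)_S-equivariant family out of A(Y)_S is automatically A(M)_S-equivariant.
(The published statement allows X to be an algebraic space; here X is a scheme.) -/
theorem result (S : Scheme.{u}) (M Z : Type) [AddCommMonoid M]
    [AddCommGroup Z] (f : M →+ Z) (hf : Function.Injective f) (Y : AddSubmonoid Z)
    (hY : Y ≤ AddMonoidHom.mrange f) (X : Over S) [IsSeparated X.hom]
    (a : Magnet.MonAct (Magnet.AMonS S M) X) :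
    IsIso (Magnet.attrComap a f Y) := by
  -- notation
  let N : AddSubmonoid M := Y.comap f
  let g : N →+ Y := (f.comp N.subtype).codRestrict Y (fun x => x.2)
  have hginj : Function.Injective g := by
    intro x y hxy
    apply Subtype.ext
    apply hf
    exact congrArg Subtype.val hxy
  have hgsurj : Function.Surjective g := by
    rintro ⟨y, hy⟩
    obtain ⟨m, rfl⟩ := hY hy
    exact ⟨⟨m, hy⟩, rfl⟩
  let e : N ≃+ Y := AddEquiv.ofBijective g ⟨hginj, hgsurj⟩
  let g' : Y →+ N := e.symm.toAddMonoidHom
  have hgg' : g.comp g' = AddMonoidHom.id Y := by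
    ext y
    exact congrArg Subtype.val (e.apply_symm_apply y)
  have hg'g : g'.comp g = AddMonoidHom.id N := by
    ext x
    exact congrArg Subtype.val (e.symm_apply_apply x)
  have h1 : AMonS.map S g ≫ AMonS.map S g' = 𝟙 _ := by
    rw [← AMonS.map_comp, hgg', AMonS_map_id]
  have h2 : AMonS.map S g' ≫ AMonS.map S g = 𝟙 _ := by
    rw [← AMonS.map_comp, hg'g, AMonS_map_id]
  have h3 : AMonS.map S f ≫ AMonS.map S N.subtype ≫ AMonS.map S g' = AMonS.map S Y.subtype := by
    rw [← AMonS.map_comp, ← AMonS.map_comp]
    congr 1
    ext y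
    change f ((e.symm y : N) : M) = (y : Z)
    have := congrArg Subtype.val (e.apply_symm_apply y)
    exact this
  haveI : ∀ T, IsIso ((attrComap a f Y).app T) := by
    intro T
    rw [isIso_iff_bijective]
    constructor
    · intro φ₁ φ₂ h
      apply Subtype.ext
      have h' : (AMonS.map S g ▷ unop T) ≫ φ₁.1 = (AMonS.map S g ▷ unop T) ≫ φ₂.1 :=
        congrArg Subtype.val h
      have h'' := congrArg (fun k => (AMonS.map S g' ▷ unop T) ≫ k) h'
      simp only [← Category.assoc, ← comp_whiskerRight, h2, id_whiskerRight, Category.id_comp] at h''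
      exact h''
    · intro ψ
      have hψ := ψ.2
      rw [MonAct.mem_eqvHom_iff] at hψ
      have hφ : MonAct.IsEquivariant ((subAct S M N).prod (MonAct.trivial (AMonS S M) (unop T))) a
          ((AMonS.map S g' ▷ unop T) ≫ ψ.1) := by
        change _ ≫ _ = (AMonS S M ◁ _) ≫ a.act
        refine Groth.Agent.Lib.T2H3.MagnetDom.ext_of_AMonS_map S f hf (AMonS S N ⊗ unop T) _ _ ?_
        apply Magnet.hom_ext_lift₂
        intro T' z w
        rw [← lift_comp_fst_snd w]
        generalize w ≫ fst _ _ = b
        generalize w ≫ snd _ _ = t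
        rw [lift_whiskerRight_assoc, lift_whiskerRight_assoc, MonAct.lift_prod_act_assoc,
          MonAct.lift_trivial_act, lift_whiskerLeft_assoc, lift_whiskerRight_assoc,
          lift_whiskerRight_assoc]
        unfold subAct
        rw [MonAct.lift_restrict_act, MonAct.lift_regular_act, MonObj.mul_comp, Category.assoc,
          Category.assoc, h3]
        have h4 := hψ T' z (b ≫ AMonS.map S g') t
        unfold subAct at h4
        rw [MonAct.lift_restrict_act, MonAct.lift_regular_act, MonAct.lift_restrict_act] at h4
        exact h4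
      refine ⟨⟨(AMonS.map S g' ▷ unop T) ≫ ψ.1, hφ⟩, ?_⟩
      apply Subtype.ext
      change (AMonS.map S g ▷ unop T) ≫ (AMonS.map S g' ▷ unop T) ≫ ψ.1 = ψ.1
      rw [← Category.assoc, ← comp_whiskerRight, h1, id_whiskerRight, Category.id_comp]
  exact NatIso.isIso_of_isIso_app _

end Groth.Agent.S18288
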