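import Groth.Statements.S18289
import Groth.Agent.Lib.T2H3DiagQuot
import Groth.Agent.Lib.T2H3MagnetUnram

set_option autoImplicit false
set_option linter.style.haveILetI false
universe u
open CategoryTheory MonoidalCategory CartesianMonoidalCategory MonObj AlgebraicGeometry Opposite
open Magnet

namespace Groth.Agent.S18289

open CategoryTheory.Limits in
theorem surj_aux (S : Scheme.{u}) (M : Type) [AddCommGroup M] (Z : AddSubgroup M) (X : Over S)
    (a : AlgGrp.Action (Red.DS S M) X)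
    (hk : IsPullback (AMonS.map S (QuotientAddGroup.mk' Z)) (toUnit (AMonS S (M ⧸ Z)))
      (AMonS.map S Z.toAddSubmonoid.subtype) η[AMonS S ↥Z.toAddSubmonoid])
    (T : Over S) (x : T ⟶ X)
    (hx : ∀ (T' : Over S) (t : T' ⟶ T) (g : T' ⟶ AMonS S (M ⧸ Z)),
      lift g (t ≫ x) ≫
        ((MonAct.ofAction a).restrict (AMonS.map S (QuotientAddGroup.mk' Z))).act = t ≫ x) :
    ∃ φ : (attr (MonAct.ofAction a) Z.toAddSubmonoid).obj (op T),
      lift (toUnit T ≫ η[AMonS S ↥Z.toAddSubmonoid]) (𝟙 T) ≫ φ.1 = x := by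
  have hprop := Groth.Agent.Lib.T2H3.DiagQuot.flat_surjective_qc Z S T
  haveI := Groth.Agent.Lib.T2H3.DiagQuot.effectiveEpi_whiskerRight Z S T
  -- the orbit map
  have hcompat : ∀ {W : Scheme.{u}} (g₁ g₂ : W ⟶ (AMonS S M ⊗ T).left),
      g₁ ≫ (AMonS.map S Z.toAddSubmonoid.subtype ▷ T).left =
        g₂ ≫ (AMonS.map S Z.toAddSubmonoid.subtype ▷ T).left →
      g₁ ≫ ((AMonS S M ◁ x) ≫ (MonAct.ofAction a).act).left =
        g₂ ≫ ((AMonS S M ◁ x) ≫ (MonAct.ofAction a).act).left := by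
    intro W g₁ g₂ h
    have hstr : g₂ ≫ (AMonS S M ⊗ T).hom = g₁ ≫ (AMonS S M ⊗ T).hom := by
      rw [← Over.w (AMonS.map S Z.toAddSubmonoid.subtype ▷ T), ← Category.assoc,
        ← Category.assoc, h]
    let W' : Over S := Over.mk (g₁ ≫ (AMonS S M ⊗ T).hom)
    let G₁ : W' ⟶ AMonS S M ⊗ T := Over.homMk g₁ rfl
    let G₂ : W' ⟶ AMonS S M ⊗ T := Over.homMk g₂ hstr
    have hG : G₁ ≫ (AMonS.map S Z.toAddSubmonoid.subtype ▷ T) =
        G₂ ≫ (AMonS.map S Z.toAddSubmonoid.subtype ▷ T) := by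
      apply Over.OverMorphism.ext; exact h
    suffices hs : G₁ ≫ ((AMonS S M ◁ x) ≫ (MonAct.ofAction a).act) =
        G₂ ≫ ((AMonS S M ◁ x) ≫ (MonAct.ofAction a).act) from
      congrArg CommaMorphism.left hs
    have ht : G₁ ≫ snd _ _ = G₂ ≫ snd _ _ := by
      have := congrArg (fun k => k ≫ snd _ _) hG
      simpa only [Category.assoc, whiskerRight_snd] using this
    have hm : (G₁ ≫ fst _ _) ≫ AMonS.map S Z.toAddSubmonoid.subtype =
        (G₂ ≫ fst _ _) ≫ AMonS.map S Z.toAddSubmonoid.subtype := by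
      have := congrArg (fun k => k ≫ fst _ _) hG
      simpa only [Category.assoc, whiskerRight_fst] using this
    rw [← lift_comp_fst_snd G₁, ← lift_comp_fst_snd G₂, ← ht]
    generalize G₁ ≫ snd _ _ = t at *
    generalize G₁ ≫ fst _ _ = m₁ at *
    generalize G₂ ≫ fst _ _ = m₂ at *
    have hkπ : (m₂⁻¹ * m₁) ≫ AMonS.map S Z.toAddSubmonoid.subtype = 1 := by
      rw [MonObj.mul_comp, hm, ← MonObj.mul_comp, inv_mul_cancel, MonObj.one_comp]
    let k' : W' ⟶ AMonS S (M ⧸ Z) := hk.lift (m₂⁻¹ * m₁) (toUnit W') (by rw [hkπ, Hom.one_def])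
    have hk' : k' ≫ AMonS.map S (QuotientAddGroup.mk' Z) = m₂⁻¹ * m₁ := hk.lift_fst _ _ _
    have hm₁ : m₁ = m₂ * (m₂⁻¹ * m₁) := (mul_inv_cancel_left m₂ m₁).symm
    have h1 : lift (m₂⁻¹ * m₁) (t ≫ x) ≫ (MonAct.ofAction a).act = t ≫ x := by
      rw [← hk', ← MonAct.lift_restrict_act]
      exact hx W' t k'
    rw [lift_whiskerLeft_assoc, lift_whiskerLeft_assoc]
    conv_lhs => rw [hm₁]
    rw [MonAct.lift_mul_act, h1]
  let ψ : (AMonS S ↥Z.toAddSubmonoid ⊗ T).left ⟶ X.left :=
    EffectiveEpi.desc (AMonS.map S Z.toAddSubmonoid.subtype ▷ T).left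
      ((AMonS S M ◁ x) ≫ (MonAct.ofAction a).act).left hcompat
  have hψ : (AMonS.map S Z.toAddSubmonoid.subtype ▷ T).left ≫ ψ =
      ((AMonS S M ◁ x) ≫ (MonAct.ofAction a).act).left := EffectiveEpi.fac _ _ _
  have hw : ψ ≫ X.hom = (AMonS S ↥Z.toAddSubmonoid ⊗ T).hom := by
    rw [← cancel_epi (AMonS.map S Z.toAddSubmonoid.subtype ▷ T).left, ← Category.assoc, hψ,
      Over.w, Over.w]
  let φ : AMonS S ↥Z.toAddSubmonoid ⊗ T ⟶ X := Over.homMk ψ hw
  have hφo : (AMonS.map S Z.toAddSubmonoid.subtype ▷ T) ≫ φ =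
      (AMonS S M ◁ x) ≫ (MonAct.ofAction a).act := by
    apply Over.OverMorphism.ext; exact hψ
  -- epi for the equivariance check
  haveI : Epi (AMonS S M ◁ (AMonS.map S Z.toAddSubmonoid.subtype ▷ T)) := by
    have hsq := Groth.Agent.Lib.T2H3.MagnetUnram.isPullback_whiskerLeft (AMonS S M)
      (AMonS.map S Z.toAddSubmonoid.subtype ▷ T)
    obtain ⟨p1, p2, p3⟩ := hprop
    haveI : Flat (AMonS S M ◁ (AMonS.map S Z.toAddSubmonoid.subtype ▷ T)).left :=
      MorphismProperty.of_isPullback (P := @Flat) hsq.flip p1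
    haveI : Surjective (AMonS S M ◁ (AMonS.map S Z.toAddSubmonoid.subtype ▷ T)).left :=
      MorphismProperty.of_isPullback (P := @Surjective) hsq.flip p2
    haveI : QuasiCompact (AMonS S M ◁ (AMonS.map S Z.toAddSubmonoid.subtype ▷ T)).left :=
      MorphismProperty.of_isPullback (P := @QuasiCompact) hsq.flip p3
    haveI : Epi ((Over.forget S).map
        (AMonS S M ◁ (AMonS.map S Z.toAddSubmonoid.subtype ▷ T))) := by
      change Epi (AMonS S M ◁ (AMonS.map S Z.toAddSubmonoid.subtype ▷ T)).left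
      infer_instance
    exact (Over.forget S).epi_of_epi_map inferInstance
  have hφeq : MonAct.IsEquivariant
      ((subAct S M Z.toAddSubmonoid).prod (MonAct.trivial (AMonS S M) T)) (MonAct.ofAction a) φ := by
    change _ ≫ φ = (AMonS S M ◁ φ) ≫ (MonAct.ofAction a).act
    rw [← cancel_epi (AMonS S M ◁ (AMonS.map S Z.toAddSubmonoid.subtype ▷ T))]
    apply Magnet.hom_ext_lift₂
    intro T' g w
    rw [← lift_comp_fst_snd w]
    generalize w ≫ fst _ _ = m
    generalize w ≫ snd _ _ = t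
    have hL : lift g (lift m t) ≫ (AMonS S M ◁ (AMonS.map S Z.toAddSubmonoid.subtype ▷ T)) ≫
        ((subAct S M Z.toAddSubmonoid).prod (MonAct.trivial (AMonS S M) T)).act ≫ φ =
        lift (g * m) (t ≫ x) ≫ (MonAct.ofAction a).act := by
      rw [lift_whiskerLeft_assoc, lift_whiskerRight, MonAct.lift_prod_act_assoc,
        MonAct.lift_trivial_act]
      unfold subAct
      rw [MonAct.lift_restrict_act, MonAct.lift_regular_act, ← MonObj.mul_comp,
        ← lift_whiskerRight_assoc, hφo, lift_whiskerLeft_assoc]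
    have hR : lift g (lift m t) ≫ (AMonS S M ◁ (AMonS.map S Z.toAddSubmonoid.subtype ▷ T)) ≫
        (AMonS S M ◁ φ) ≫ (MonAct.ofAction a).act =
        lift (g * m) (t ≫ x) ≫ (MonAct.ofAction a).act := by
      rw [lift_whiskerLeft_assoc, lift_whiskerLeft_assoc, Category.assoc, hφo,
        lift_whiskerLeft_assoc, MonAct.lift_mul_act]
    rw [hL, hR]
  refine ⟨⟨φ, hφeq⟩, ?_⟩
  change lift (toUnit T ≫ η[AMonS S ↥Z.toAddSubmonoid]) (𝟙 T) ≫ φ = x
  rw [← Hom.one_def, ← MonObj.one_comp (AMonS.map S Z.toAddSubmonoid.subtype),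
    ← lift_whiskerRight_assoc, hφo, lift_whiskerLeft_assoc, Category.id_comp,
    MonAct.lift_one_act]

/-- Let M be a finitely generated commutative group, Z a subgroup of M and X an S-scheme with an action
of the diagonalizable group scheme D(M)_S. Then the attractor X^Z, for Z regarded as a magnet of M,
is identified with the fixed-point functor of X under the subgroup D(M/Z)_S (acting through D(M/Z)_S
→ D(M)_S): there is an isomorphism of functors on S-schemes from X^Z to the fixed points whose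
composite with the inclusion of the fixed points into X is the canonical map X^Z → X. (The published
statement allows X to be an algebraic space; here X is a scheme.) -/
theorem result (S : Scheme.{u}) (M : Type) [AddCommGroup M] [AddGroup.FG M]
    (Z : AddSubgroup M) (X : Over S) (a : AlgGrp.Action (Red.DS S M) X) :
    ∃ e : Magnet.attr (Magnet.MonAct.ofAction a) Z.toAddSubmonoid ≅
        Magnet.MonAct.fixedPsh ((Magnet.MonAct.ofAction a).restrict (Magnet.AMonS.map S (QuotientAddGroup.mk' Z))),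
      e.hom ≫ Magnet.MonAct.fixedPshι _ = Magnet.attrToX (Magnet.MonAct.ofAction a) Z.toAddSubmonoid := by
  -- notation
  have hk := Groth.Agent.Lib.T2H3.DiagQuot.amonS_kernel Z S
  have hone : ∀ (T' : Over S), (1 : T' ⟶ AMonS S ↥Z.toAddSubmonoid) =
      toUnit T' ≫ η[AMonS S ↥Z.toAddSubmonoid] := fun T' => Hom.one_def
  -- the unit section and evaluation
  have hlift1 : ∀ {T T' : Over S} (t : T' ⟶ T),
      lift (1 : T' ⟶ AMonS S ↥Z.toAddSubmonoid) t =
        t ≫ lift (toUnit T ≫ η[AMonS S ↥Z.toAddSubmonoid]) (𝟙 T) := by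
    intro T T' t
    rw [comp_lift, Category.comp_id, ← Category.assoc, toUnit_unique (t ≫ toUnit T) (toUnit T'),
      Hom.one_def]
  -- orbit formula
  have key : ∀ (T : Over S) (χ : (attr (MonAct.ofAction a) Z.toAddSubmonoid).obj (op T))
      (T' : Over S) (g : T' ⟶ AMonS S M) (t : T' ⟶ T),
      lift g t ≫ (AMonS.map S Z.toAddSubmonoid.subtype ▷ T) ≫ χ.1 =
        lift g (t ≫ lift (toUnit T ≫ η[AMonS S ↥Z.toAddSubmonoid]) (𝟙 T) ≫ χ.1) ≫
          (MonAct.ofAction a).act := by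
    intro T χ T' g t
    have h := (MonAct.mem_eqvHom_iff χ.1).mp χ.2 T' g (1 : T' ⟶ AMonS S ↥Z.toAddSubmonoid) t
    unfold subAct at h
    rw [MonAct.lift_restrict_act, MonAct.lift_regular_act, _root_.mul_one] at h
    rw [lift_whiskerRight_assoc, h, hlift1 t, Category.assoc]
  -- epimorphisms
  have hepi : ∀ T : Over S, Epi (AMonS.map S Z.toAddSubmonoid.subtype ▷ T) := by
    intro T
    haveI := Groth.Agent.Lib.T2H3.DiagQuot.effectiveEpi_whiskerRight Z S T
    haveI : Epi ((Over.forget S).map (AMonS.map S Z.toAddSubmonoid.subtype ▷ T)) := by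
      change Epi (AMonS.map S Z.toAddSubmonoid.subtype ▷ T).left
      infer_instance
    exact (Over.forget S).epi_of_epi_map inferInstance
  -- the natural transformation
  let θ : attr (MonAct.ofAction a) Z.toAddSubmonoid ⟶
      MonAct.fixedPsh ((MonAct.ofAction a).restrict (AMonS.map S (QuotientAddGroup.mk' Z))) :=
    { app := fun T => TypeCat.ofHom fun φ =>
        ⟨lift (toUnit (unop T) ≫ η[AMonS S ↥Z.toAddSubmonoid]) (𝟙 (unop T)) ≫ φ.1, by
          intro T' t g
          rw [MonAct.lift_restrict_act, ← Category.assoc t, ← hlift1 t]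
          have h := (MonAct.mem_eqvHom_iff φ.1).mp φ.2 T'
            (g ≫ AMonS.map S (QuotientAddGroup.mk' Z)) (1 : T' ⟶ AMonS S ↥Z.toAddSubmonoid) t
          unfold subAct at h
          rw [MonAct.lift_restrict_act, MonAct.lift_regular_act, _root_.mul_one, Category.assoc,
            hk.w, ← Category.assoc, toUnit_unique (g ≫ toUnit _) (toUnit T'), ← hone] at h
          exact h.symm⟩
      naturality := fun T T' t => ConcreteCategory.hom_ext _ _ fun φ => Subtype.ext (by
        change lift (toUnit (unop T') ≫ η[AMonS S ↥Z.toAddSubmonoid]) (𝟙 (unop T')) ≫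
            ((AMonS S ↥Z.toAddSubmonoid ◁ t.unop) ≫ φ.1) =
          t.unop ≫ lift (toUnit (unop T) ≫ η[AMonS S ↥Z.toAddSubmonoid]) (𝟙 (unop T)) ≫ φ.1
        rw [lift_whiskerLeft_assoc, Category.id_comp, ← Category.assoc t.unop, comp_lift,
          Category.comp_id, ← Category.assoc,
          toUnit_unique (t.unop ≫ toUnit (unop T)) (toUnit (unop T'))]) }
  have hθ : ∀ (T : (Over S)ᵒᵖ) (φ : (attr (MonAct.ofAction a) Z.toAddSubmonoid).obj T),
      (θ.app T φ).1 =
        lift (toUnit (unop T) ≫ η[AMonS S ↥Z.toAddSubmonoid]) (𝟙 (unop T)) ≫ φ.1 :=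
    fun T φ => rfl
  haveI : ∀ T, IsIso (θ.app T) := by
    intro T
    rw [isIso_iff_bijective]
    constructor
    · -- injective
      intro φ₁ φ₂ h
      apply Subtype.ext
      have hev : lift (toUnit (unop T) ≫ η[AMonS S ↥Z.toAddSubmonoid]) (𝟙 (unop T)) ≫ φ₁.1 =
          lift (toUnit (unop T) ≫ η[AMonS S ↥Z.toAddSubmonoid]) (𝟙 (unop T)) ≫ φ₂.1 :=
        congrArg Subtype.val h
      haveI := hepi (unop T)
      rw [← cancel_epi (AMonS.map S Z.toAddSubmonoid.subtype ▷ (unop T))]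
      apply Magnet.hom_ext_lift₂
      intro T' g t
      rw [key (unop T) φ₁, key (unop T) φ₂, hev]
    · -- surjective
      intro x
      obtain ⟨φ, hφ⟩ := surj_aux S M Z X a hk (unop T) x.1 x.2
      exact ⟨φ, Subtype.ext hφ⟩
  haveI : IsIso θ := NatIso.isIso_of_isIso_app θ
  refine ⟨asIso θ, ?_⟩
  ext T φ
  rfl

end Groth.Agent.S18289
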