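import Groth.Statements.S18290
import Groth.Agent.Lib.T2H3AMonLim
import Groth.Agent.Lib.T2H3MagnetDom

set_option autoImplicit false
set_option linter.style.haveILetI false
set_option linter.unusedSimpArgs false
universe u
open CategoryTheory MonoidalCategory CartesianMonoidalCategory MonObj AlgebraicGeometry Opposite
open Magnet

namespace Groth.Agent.S18290

/-- Let X be an S-scheme locally of finite presentation and separated over S with an action of the
diagonalizable monoid scheme A(M)_S of a commutative monoid M, and let N be the union of a nonempty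
directed family of submonoids N_i of M. Then for every S-scheme T whose underlying scheme is affine,
every element of X^N(T) comes from X^{N_i}(T) for some i, so that X^N(T) is the directed union of
the X^{N_i}(T) (the maps X^{N_i}(T) → X^N(T) are injective since X is separated). (The published
statement takes T an arbitrary S-scheme and X an algebraic space; for T an infinite disjoint union
of points and X an infinite disjoint union of affine lines, the n-th with coordinate of degree the
n-th basis vector of a free commutative monoid M, the element of X^N(T) that is the n-th coordinate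
inclusion on the n-th point comes from no single X^{N_i}(T) when N_i is generated by the first i
basis vectors, so T is taken affine here, the case the limit argument proves.) -/
theorem result (S : Scheme.{u}) (M : Type) [AddCommMonoid M]
    (X : Over S) [IsSeparated X.hom] [LocallyOfFinitePresentation X.hom]
    (a : Magnet.MonAct (Magnet.AMonS S M) X) {J : Type} [Preorder J] [IsDirected J (· ≤ ·)] [Nonempty J]
    (N : J → AddSubmonoid M) (hN : Monotone N) (T : Over S) [IsAffine T.left]
    (φ : (Magnet.attr a (⨆ i, N i)).obj (op T)) :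
    ∃ (i : J) (ψ : (Magnet.attr a (N i)).obj (op T)), (Magnet.attrMap a (le_iSup N i)).app (op T) ψ = φ := by
  obtain ⟨i, ψ₀, hψ₀⟩ := Groth.Agent.Lib.T2H3.AMonLim.exists_factor N hN T X φ.1
  have hπ : MonAct.IsEquivariant (Magnet.subAct S M (⨆ i, N i)) (Magnet.subAct S M (N i))
      (Magnet.AMonS.map S (AddSubmonoid.inclusion (le_iSup N i))) :=
    MonAct.isEquivariant_restrict_regular _ _ _ (by rw [← Magnet.AMonS.map_comp]; rfl)
  rw [MonAct.isEquivariant_iff] at hπ
  have hφ := (MonAct.mem_eqvHom_iff φ.1).mp φ.2
  have heq : MonAct.IsEquivariant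
      ((Magnet.subAct S M (N i)).prod (MonAct.trivial (Magnet.AMonS S M) T)) a ψ₀ := by
    rw [MonAct.mem_eqvHom_iff]
    intro T' g b t
    let u : Magnet.AMonS S ↥(N i) ⊗ (Magnet.AMonS S M ⊗ T) ⟶ X :=
      lift (lift (snd _ _ ≫ fst _ _) (fst _ _) ≫ (Magnet.subAct S M (N i)).act)
        (snd _ _ ≫ snd _ _) ≫ ψ₀
    let v : Magnet.AMonS S ↥(N i) ⊗ (Magnet.AMonS S M ⊗ T) ⟶ X :=
      lift (snd _ _ ≫ fst _ _) (lift (fst _ _) (snd _ _ ≫ snd _ _) ≫ ψ₀) ≫ a.act
    have huv : u = v := by
      refine Groth.Agent.Lib.T2H3.MagnetDom.ext_of_AMonS_map S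
        (AddSubmonoid.inclusion (le_iSup N i))
        (AddSubmonoid.inclusion_injective (le_iSup N i)) (Magnet.AMonS S M ⊗ T) u v ?_
      apply Magnet.hom_ext_lift₂
      intro T'' b' q
      have e1 : lift b' q ≫
          (Magnet.AMonS.map S (AddSubmonoid.inclusion (le_iSup N i)) ▷ (Magnet.AMonS S M ⊗ T)) ≫ u =
          lift (lift (q ≫ fst _ _)
            (b' ≫ Magnet.AMonS.map S (AddSubmonoid.inclusion (le_iSup N i))) ≫
              (Magnet.subAct S M (N i)).act) (q ≫ snd _ _) ≫ ψ₀ := by
        simp only [u, lift_whiskerRight_assoc, comp_lift_assoc, comp_lift, lift_fst, lift_snd,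
          lift_fst_assoc, lift_snd_assoc]
      have e2 : lift b' q ≫
          (Magnet.AMonS.map S (AddSubmonoid.inclusion (le_iSup N i)) ▷ (Magnet.AMonS S M ⊗ T)) ≫ v =
          lift (q ≫ fst _ _)
            (lift (b' ≫ Magnet.AMonS.map S (AddSubmonoid.inclusion (le_iSup N i))) (q ≫ snd _ _) ≫
              ψ₀) ≫ a.act := by
        simp only [v, lift_whiskerRight_assoc, comp_lift_assoc, comp_lift, lift_fst, lift_snd,
          lift_fst_assoc, lift_snd_assoc]
      rw [e1, e2, ← hπ T'' (q ≫ fst _ _) b', ← Category.assoc (lift (q ≫ fst _ _) b'),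
        ← lift_whiskerRight_assoc, hψ₀, hφ, ← hψ₀, lift_whiskerRight_assoc]
    have h1 := congrArg (fun w => lift b (lift g t) ≫ w) huv
    simp only [u, v, comp_lift_assoc, comp_lift, lift_fst, lift_snd, lift_fst_assoc,
      lift_snd_assoc] at h1
    exact h1
  exact ⟨i, ⟨ψ₀, heq⟩, Subtype.ext hψ₀⟩

end Groth.Agent.S18290
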