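import Groth.Statements.S1834
import Mathlib
import Mathlib
import Groth.Agent.Lib.T2H4BlowFinExt
set_option backward.isDefEq.respectTransparency.types false

set_option autoImplicit false
universe u
open CycAlg

namespace Groth.Agent.S1834

/-- Let R be a Noetherian local ring of dimension 1 and a, b nonzerodivisors. There is a finite
extension ring R ⊆ R' with R'/R killed by a power of the maximal ideal, and nonzerodivisors t, a',
b' of R' with a = t a', b = t b' and (a', b') the unit ideal of R'. -/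
theorem result (R : Type u) [CommRing R] [IsNoetherianRing R] [IsLocalRing R] (hR : ringKrullDim R = 1) (a b : R) (ha : a ∈ nonZeroDivisors R) (hb : b ∈ nonZeroDivisors R) : ∃ (R' : Type u) (_ : CommRing R') (_ : Algebra R R'), CycAlg.IsFinExt R R' (IsLocalRing.maximalIdeal R) ∧ ∃ t a' b' : R', t ∈ nonZeroDivisors R' ∧ a' ∈ nonZeroDivisors R' ∧ b' ∈ nonZeroDivisors R' ∧ algebraMap R R' a = t * a' ∧ algebraMap R R' b = t * b' ∧ Ideal.span {a', b'} = ⊤ := by
  classical
  set Q := FractionRing R with hQ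
  have hau : IsUnit (algebraMap R Q a) := IsLocalization.map_units Q ⟨a, ha⟩
  have hbu : IsUnit (algebraMap R Q b) := IsLocalization.map_units Q ⟨b, hb⟩
  haveI : Module.Finite R (⊥ : Subalgebra R Q) := Subalgebra.finite_bot
  obtain ⟨B', -, hB'fin, t, a', b', r, s, ht, ha', hb', hr, hs, hat, hbt, hrs⟩ :=
    Groth.Agent.Lib.T2H4.Blow.blowup_step hR (⊥ : Subalgebra R Q) (algebraMap R Q a)
      (algebraMap R Q b) (Subalgebra.algebraMap_mem _ a) (Subalgebra.algebraMap_mem _ b) hau
  haveI := hB'fin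
  have htu : IsUnit t := isUnit_of_mul_isUnit_left (hat ▸ hau)
  have ha'u : IsUnit a' := isUnit_of_mul_isUnit_right (hat ▸ hau)
  have hb'u : IsUnit b' := isUnit_of_mul_isUnit_right (hbt ▸ hbu)
  refine ⟨B', inferInstance, inferInstance,
    Groth.Agent.Lib.T2H4.Blow.isFinExt_subalgebra hR B', ⟨t, ht⟩, ⟨a', ha'⟩, ⟨b', hb'⟩,
    Groth.Agent.Lib.T2H4.Blow.unitSubmonoid_le B' htu,
    Groth.Agent.Lib.T2H4.Blow.unitSubmonoid_le B' ha'u,
    Groth.Agent.Lib.T2H4.Blow.unitSubmonoid_le B' hb'u,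
    Subtype.ext hat, Subtype.ext hbt, ?_⟩
  rw [Ideal.eq_top_iff_one, Ideal.mem_span_pair]
  exact ⟨⟨r, hr⟩, ⟨s, hs⟩, Subtype.ext hrs⟩

end Groth.Agent.S1834
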