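import Mathlib
import Groth.Statements.S18343
import Groth.Agent.Lib.T2H7SqZeroImm

set_option autoImplicit false
universe u
open CategoryTheory CategoryTheory.Limits AlgebraicGeometry

namespace Groth.Agent.S18343

theorem result (D C X : Scheme.{u}) (i : D ⟶ C)
    (hR : MultCurve.IsRibbon i) (f : C ⟶ X) :
    IsClosedImmersion f ↔ (IsClosedImmersion (i ≫ f) ∧ (i ≫ f).ker.comap f = i.ker) := by
  obtain ⟨⟨hci, hnil, -⟩, -⟩ := hR
  haveI := hci
  constructor
  · intro hf
    haveI := hf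
    refine ⟨inferInstance, ?_⟩
    have h1 : IsPullback (𝟙 C) (𝟙 C) f f := (IsKernelPair.id_of_mono f)
    have h2 : IsPullback i (𝟙 D) (𝟙 C) i := IsPullback.of_vert_isIso ⟨by simp⟩
    have h3 : IsPullback (i ≫ 𝟙 C) (𝟙 D) f (i ≫ f) := h2.paste_horiz h1
    rw [Category.comp_id] at h3
    rw [← Scheme.IdealSheafData.ker_fst_of_isClosedImmersion (i ≫ f) f]
    have e : i = h3.isoPullback.hom ≫ pullback.fst f (i ≫ f) := (h3.isoPullback_hom_fst).symm
    conv_rhs => rw [e]
    exact (Scheme.Hom.ker_comp_of_isIso h3.isoPullback.hom (pullback.fst f (i ≫ f))).symm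
  · rintro ⟨h1, h2⟩
    haveI := h1
    exact Groth.Agent.Lib.T2H7.SqZeroImm.isClosedImmersion_of_sqZero i hnil f h2

end Groth.Agent.S18343
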