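import Groth.Statements.S1836
import Mathlib
import Mathlib
import Groth.Agent.Lib.T2H4BlowInd
set_option backward.isDefEq.respectTransparency.types false

set_option autoImplicit false
universe u
open CycAlg

namespace Groth.Agent.S1836

/-- Let A be a Noetherian local ring of dimension 1 and a₁, …, a_r (r ≥ 2) nonzerodivisors, not all
units. There is a finite extension ring A ⊆ B with B/A killed by a power of the maximal ideal such
that at every maximal ideal of B there is a nonzerodivisor π of the local ring B_𝔪 with each a_i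
equal to a unit of B_𝔪 times a power of π. -/
theorem result (A : Type u) [CommRing A] [IsNoetherianRing A] [IsLocalRing A] (hA : ringKrullDim A = 1) (r : ℕ) (hr : 2 ≤ r) (a : Fin r → A) (ha : ∀ i, a i ∈ nonZeroDivisors A) (hna : ∃ i, ¬ IsUnit (a i)) : ∃ (B : Type u) (_ : CommRing B) (_ : Algebra A B), CycAlg.IsFinExt A B (IsLocalRing.maximalIdeal A) ∧ ∀ q : MaximalSpectrum B, ∃ π : Localization.AtPrime q.asIdeal, π ∈ nonZeroDivisors (Localization.AtPrime q.asIdeal) ∧ ∀ i, ∃ (v : (Localization.AtPrime q.asIdeal)ˣ) (e : ℕ), algebraMap A (Localization.AtPrime q.asIdeal) (a i) = (v : Localization.AtPrime q.asIdeal) * π ^ e := by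
  classical
  set Q := FractionRing A with hQ
  haveI : Module.Finite A (⊥ : Subalgebra A Q) := Subalgebra.finite_bot
  set L : Multiset Q := (Finset.univ : Finset (Fin r)).val.map (fun i => algebraMap A Q (a i))
    with hL
  have hLB : ∀ c ∈ L, c ∈ (⊥ : Subalgebra A Q) := by
    intro c hc
    rw [hL, Multiset.mem_map] at hc
    obtain ⟨i, -, rfl⟩ := hc
    exact Subalgebra.algebraMap_mem _ _
  have hLu : ∀ c ∈ L, IsUnit c := by
    intro c hc
    rw [hL, Multiset.mem_map] at hc
    obtain ⟨i, -, rfl⟩ := hc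
    exact IsLocalization.map_units Q ⟨a i, ha i⟩
  have hLprodu : IsUnit L.prod := by
    have : L.prod ∈ IsUnit.submonoid Q := Submonoid.multiset_prod_mem _ L hLu
    exact this
  have hfin : Groth.Agent.Lib.T2H4.Blow.colenQ (⊥ : Subalgebra A Q) L.prod ≠ ⊤ :=
    Groth.Agent.Lib.T2H4.Blow.colenQ_ne_top hA ⊥ _ (Subalgebra.multiset_prod_mem _ hLB) hLprodu
  obtain ⟨n, hn⟩ := ENat.ne_top_iff_exists.mp hfin
  obtain ⟨B', -, hB'fin, hgood⟩ :=
    Groth.Agent.Lib.T2H4.Blow.main_ind hA n ⊥ inferInstance L hLB hLu hn.symm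
  haveI := hB'fin
  refine ⟨B', inferInstance, inferInstance,
    Groth.Agent.Lib.T2H4.Blow.isFinExt_subalgebra hA B', fun q => ?_⟩
  obtain ⟨π, hπ, hz⟩ := hgood q
  refine ⟨π, hπ, fun i => ?_⟩
  obtain ⟨v, e, hve⟩ := hz (algebraMap A B' (a i)) (by
    rw [hL, Multiset.mem_map]
    exact ⟨i, Finset.mem_univ_val i, rfl⟩)
  refine ⟨v, e, ?_⟩
  rw [← hve, ← IsScalarTower.algebraMap_apply]

end Groth.Agent.S1836
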