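import Groth.Statements.S18362
import Groth.Agent.Lib.T2H3PRootB
import Groth.Agent.Lib.T2H3PRootC
import Groth.Agent.Lib.T2H3PRootF
import Groth.Agent.Lib.Helper5RLR

set_option autoImplicit false
set_option linter.style.haveILetI false
universe u
open SGA1t

namespace Groth.Agent.S18362

/-- Let A be a regular local ring which is henselian with separably closed residue field of
characteristic p > 0, and let f be an element of A such that A/(f) is a regular local ring in which
p is nonzero. Write A₁ = A[t]/(t^p - f) and let B be a finite étale algebra over A[1/f]. If there is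
a finite étale A₁-algebra C₁ with C₁[1/f] isomorphic to A₁ ⊗_A B as A₁-algebras, then there is a
finite étale A-algebra C with C[1/f] isomorphic to B as A-algebras. The published statement also
assumes the cover connected and tamely ramified along f = 0; this row assumes neither, tameness
being automatic here because the generic point of the divisor f = 0 has residue characteristic zero. -/
theorem result {A : Type u} [CommRing A]
    [IsRegularLocalRing A] [HenselianLocalRing A] [IsSepClosed (IsLocalRing.ResidueField A)]
    (p : ℕ) [Fact p.Prime] [CharP (IsLocalRing.ResidueField A) p] (f : A)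
    (hreg : IsRegularLocalRing (A ⧸ Ideal.span {f})) (hp : (p : A) ∉ Ideal.span {f})
    (B : Type u) [CommRing B] [Algebra A B] [Algebra (Localization.Away f) B]
    [IsScalarTower A (Localization.Away f) B] [Module.Finite (Localization.Away f) B]
    [Algebra.Etale (Localization.Away f) B]
    (h : ∃ (C₁ : Type u) (_ : CommRing C₁) (_ : Algebra (AdjoinRoot (Polynomial.X ^ p - Polynomial.C f)) C₁),
      Module.Finite (AdjoinRoot (Polynomial.X ^ p - Polynomial.C f)) C₁ ∧
      Algebra.Etale (AdjoinRoot (Polynomial.X ^ p - Polynomial.C f)) C₁ ∧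
      Nonempty (Localization.Away (algebraMap (AdjoinRoot (Polynomial.X ^ p - Polynomial.C f)) C₁
          (AdjoinRoot.of (Polynomial.X ^ p - Polynomial.C f) f))
        ≃ₐ[AdjoinRoot (Polynomial.X ^ p - Polynomial.C f)]
          TensorProduct A (AdjoinRoot (Polynomial.X ^ p - Polynomial.C f)) B)) :
    ∃ (C : Type u) (_ : CommRing C) (_ : Algebra A C), Module.Finite A C ∧ Algebra.Etale A C ∧
      Nonempty (Localization.Away (algebraMap A C f) ≃ₐ[A] B) := by
  classical
  open Groth.Agent.Lib.T2H3.PRoot in
  -- reduce to: `B` is split over `A[1/f]`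
  suffices hsplit : ∃ (κ : Type u) (_ : Fintype κ),
      Nonempty (B ≃ₐ[Localization.Away f] (κ → Localization.Away f)) by
    obtain ⟨κ, _, ⟨ψ⟩⟩ := hsplit
    exact exists_extension_of_split f B ψ
  by_cases hf0 : f = 0
  · -- degenerate case: `A[1/f]` is the zero ring
    have hsub : Subsingleton (Localization.Away f) :=
      IsLocalization.subsingleton (M := Submonoid.powers f) (S := Localization.Away f)
        (by rw [hf0]; exact ⟨1, by simp⟩)
    have hsubB : Subsingleton B := (algebraMap (Localization.Away f) B).codomain_trivial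
    refine ⟨PEmpty.{u + 1}, inferInstance, ⟨?_⟩⟩
    exact AlgEquiv.ofBijective
      (Pi.algHom (Localization.Away f) (fun _ : PEmpty.{u + 1} => Localization.Away f)
        (fun i => i.elim))
      ⟨fun _ _ _ => Subsingleton.elim _ _, fun _ => ⟨0, Subsingleton.elim _ _⟩⟩
  haveI : IsDomain A := Groth.Agent.Lib.Helper5.isDomain_of_isRegularLocalRing A
  haveI : IsDomain (A ⧸ Ideal.span {f}) :=
    Groth.Agent.Lib.Helper5.isDomain_of_isRegularLocalRing (A ⧸ Ideal.span {f})
  have hfprime : (Ideal.span {f}).IsPrime := (Ideal.Quotient.isDomain_iff_prime _).mp inferInstance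
  have hfm : f ∈ IsLocalRing.maximalIdeal A :=
    IsLocalRing.le_maximalIdeal hfprime.ne_top (Ideal.mem_span_singleton_self f)
  have hp0 : p ≠ 0 := (Fact.out : p.Prime).ne_zero
  have hpm : ¬ IsUnit ((p : ℕ) : A) := by
    change ((p : ℕ) : A) ∈ IsLocalRing.maximalIdeal A
    rw [← IsLocalRing.residue_eq_zero_iff, map_natCast]
    exact CharP.cast_eq_zero _ p
  haveI : IsDomain (Localization.Away f) :=
    IsLocalization.isDomain_localization
      (powers_le_nonZeroDivisors_of_noZeroDivisors hf0)
  have hpu : ¬ IsUnit ((p : ℕ) : Localization.Away f) := by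
    rw [← map_natCast (algebraMap A (Localization.Away f)),
      IsLocalization.Away.algebraMap_isUnit_iff (x := f)]
    rintro ⟨n, hn⟩
    exact not_dvd_pow_of_prime_span f _ hf0 hfprime hp hpm n hn
  obtain ⟨C₁, _, _, hfin, het, ⟨e⟩⟩ := h
  obtain ⟨hH, hsc⟩ := strictHens_adjoinRoot p hp0 f hfm
  have hg : (Polynomial.X ^ p - Polynomial.C f : Polynomial A).Monic :=
    Polynomial.monic_X_pow_sub_C f hp0
  haveI : Module.Finite A (AdjoinRoot (Polynomial.X ^ p - Polynomial.C f : Polynomial A)) :=
    hg.finite_adjoinRoot
  haveI : IsNoetherianRing (AdjoinRoot (Polynomial.X ^ p - Polynomial.C f : Polynomial A)) :=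
    IsNoetherianRing.of_finite A _
  obtain ⟨κ, hκ, ⟨g⟩⟩ := exists_algEquiv_pi_of_finite_etale
    (AdjoinRoot (Polynomial.X ^ p - Polynomial.C f : Polynomial A)) C₁
  exact ⟨κ, hκ, nonempty_algEquiv_pi_of_split f p (Localization.Away f) B C₁
    (Localization.Away (algebraMap (AdjoinRoot (Polynomial.X ^ p - Polynomial.C f)) C₁
      (AdjoinRoot.of (Polynomial.X ^ p - Polynomial.C f) f))) hf0 hpu e g⟩

end Groth.Agent.S18362
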