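import Groth.Statements.S18365
import Mathlib
-- import your own Groth.Agent.* helpers here

set_option autoImplicit false
universe u
open CAlg

namespace Groth.Agent.S18365

/-- Let A be a Noetherian ring, π an element of A, (𝔓_i)_{i ∈ ι} an injective finite family listing
exactly the minimal prime ideals over (π), and M a finitely generated A-module on which π acts
injectively; put M̄ = M/πM. For T ⊆ ι let K(T) ⊆ M̄ be the submodule of elements whose image in the
localisation of M̄ at 𝔓_i vanishes for every i ∈ T, and N(T) ⊆ M its preimage; assume K(ι) = 0.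
Suppose that M̄ decomposes at Y, i.e. K(Y) + K(Yᶜ) = M̄, and that for a subset Z the module
N(Y)/πN(Y) decomposes at Z, i.e. its submodule of elements vanishing at every 𝔓_i (i ∈ Z) and its
submodule of elements vanishing at every 𝔓_i (i ∉ Z) together span it. Then M̄ decomposes at Z: K(Z)
+ K(Zᶜ) = M̄. (Geometric meaning: for a flat family of curves over a discrete valuation ring with
uniformizer π, I a torsion-free rank-one sheaf flat over the base, Y a subcurve of the special fibre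
X(s) at which I(s) decomposes and I^Y = ker(I → I(s)_Y): if I^Y(s) decomposes at a subcurve Z then
so does I(s); decomposition of a sheaf at Z is the surjectivity of I(s) → I(s)_Z ⊕ I(s)_{Z^c},
checked on stalks. Reducedness of the special fibre and rank one are not used.) -/
theorem result
    (A : Type u) [CommRing A] [IsNoetherianRing A] (π : A)
    (ι : Type) [Finite ι] (𝔓 : ι → Ideal A) [∀ i, (𝔓 i).IsPrime]
    (h𝔓 : ∀ i, 𝔓 i ∈ (Ideal.span {π}).minimalPrimes) (h𝔓inj : Function.Injective 𝔓)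
    (h𝔓surj : ∀ 𝔔 ∈ (Ideal.span {π}).minimalPrimes, ∃ i, 𝔓 i = 𝔔)
    (M : Type u) [AddCommGroup M] [Module A M] [Module.Finite A M]
    (hπ : ∀ m : M, π • m = 0 → m = 0)
    (K : Set ι → Submodule A (M ⧸ Ideal.span {π} • (⊤ : Submodule A M)))
    (hK : ∀ T : Set ι, K T = ⨅ i ∈ T, LinearMap.ker
      (LocalizedModule.mkLinearMap (𝔓 i).primeCompl (M ⧸ Ideal.span {π} • (⊤ : Submodule A M))))
    (htf : K Set.univ = ⊥)
    (N : Set ι → Submodule A M)
    (hN : ∀ T : Set ι, N T = (K T).comap (Submodule.mkQ (Ideal.span {π} • (⊤ : Submodule A M))))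
    (Y Z : Set ι) (hY : K Y ⊔ K Yᶜ = ⊤)
    (K' : Set ι → Submodule A (↥(N Y) ⧸ Ideal.span {π} • (⊤ : Submodule A ↥(N Y))))
    (hK' : ∀ T : Set ι, K' T = ⨅ i ∈ T, LinearMap.ker
      (LocalizedModule.mkLinearMap (𝔓 i).primeCompl (↥(N Y) ⧸ Ideal.span {π} • (⊤ : Submodule A ↥(N Y)))))
    (hZ : K' Z ⊔ K' Zᶜ = ⊤) :
    K Z ⊔ K Zᶜ = ⊤ := by
  classical
  let IM : Submodule A M := (Ideal.span {π} : Ideal A) • (⊤ : Submodule A M)
  have hIM : IM = (Ideal.span {π} : Ideal A) • (⊤ : Submodule A M) := rfl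
  -- "m vanishes at i"
  let V : ι → M → Prop := fun i m => ∃ s ∈ (𝔓 i).primeCompl, s • m ∈ IM
  have memIM : ∀ m : M, m ∈ IM ↔ ∃ m' : M, π • m' = m := by
    intro m
    rw [hIM, Submodule.ideal_span_singleton_smul, Submodule.mem_smul_pointwise_iff_exists]
    simp
  have V_of_mem : ∀ i m, m ∈ IM → V i m := by
    intro i m hm
    exact ⟨1, Submonoid.one_mem _, by rw [one_smul]; exact hm⟩
  have V_add : ∀ i m₁ m₂, V i m₁ → V i m₂ → V i (m₁ + m₂) := by
    rintro i m₁ m₂ ⟨s, hs, hsm⟩ ⟨t, ht, htm⟩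
    refine ⟨s * t, Submonoid.mul_mem _ hs ht, ?_⟩
    rw [smul_add]
    refine IM.add_mem ?_ ?_
    · rw [mul_comm, mul_smul]; exact IM.smul_mem t hsm
    · rw [mul_smul]; exact IM.smul_mem s htm
  have V_neg : ∀ i m, V i m → V i (-m) := by
    rintro i m ⟨s, hs, hsm⟩
    exact ⟨s, hs, by rw [smul_neg]; exact IM.neg_mem hsm⟩
  have V_sub : ∀ i m₁ m₂, V i m₁ → V i m₂ → V i (m₁ - m₂) := by
    intro i m₁ m₂ h₁ h₂
    rw [sub_eq_add_neg]
    exact V_add i _ _ h₁ (V_neg i _ h₂)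
  have V_of_smul : ∀ i (s : A) m, s ∈ (𝔓 i).primeCompl → V i (s • m) → V i m := by
    rintro i s m hs ⟨t, ht, htm⟩
    exact ⟨t * s, Submonoid.mul_mem _ ht hs, by rw [mul_smul]; exact htm⟩
  -- membership in N T
  have memN : ∀ (T : Set ι) (m : M), m ∈ N T ↔ ∀ i ∈ T, V i m := by
    intro T m
    rw [hN, Submodule.mem_comap, hK]
    simp only [Submodule.mem_iInf, LocalizedModule.mem_ker_mkLinearMap_iff, Submodule.mkQ_apply]
    constructor
    · intro h i hi
      obtain ⟨s, hs, hsm⟩ := h i hi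
      refine ⟨s, hs, ?_⟩
      rw [← Submodule.Quotient.mk_smul, Submodule.Quotient.mk_eq_zero] at hsm
      exact hsm
    · intro h i hi
      obtain ⟨s, hs, hsm⟩ := h i hi
      refine ⟨s, hs, ?_⟩
      rw [← Submodule.Quotient.mk_smul, Submodule.Quotient.mk_eq_zero]
      exact hsm
  have hIM_le : ∀ T : Set ι, IM ≤ N T := by
    intro T m hm
    rw [memN]
    intro i _
    exact V_of_mem i m hm
  have N_univ : ∀ m, (∀ i, V i m) → m ∈ IM := by
    intro m hm
    have h1 : m ∈ N Set.univ := (memN _ _).2 fun i _ => hm i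
    rw [hN, htf, Submodule.comap_bot, Submodule.ker_mkQ] at h1
    exact h1
  -- decomposition of M at a set T from K T ⊔ K Tᶜ = ⊤
  have decomp_of : ∀ T : Set ι, K T ⊔ K Tᶜ = ⊤ → ∀ m : M, ∃ n ∈ N T, ∃ n' ∈ N Tᶜ, m = n + n' := by
    intro T hT m
    have hm : Submodule.mkQ IM m ∈ K T ⊔ K Tᶜ := by rw [hT]; exact Submodule.mem_top
    obtain ⟨x, hx, y, hy, hxy⟩ := Submodule.mem_sup.1 hm
    obtain ⟨n, rfl⟩ := Submodule.mkQ_surjective IM x
    refine ⟨n, by rw [hN]; exact hx, m - n, ?_, by abel⟩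
    rw [hN, Submodule.mem_comap, map_sub, ← hxy, add_sub_cancel_left]
    exact hy
  have decomp_to : ∀ T : Set ι, (∀ m : M, ∃ n ∈ N T, ∃ n' ∈ N Tᶜ, m = n + n') → K T ⊔ K Tᶜ = ⊤ := by
    intro T h
    rw [eq_top_iff]
    intro x _
    obtain ⟨m, rfl⟩ := Submodule.mkQ_surjective IM x
    obtain ⟨n, hn, n', hn', rfl⟩ := h m
    rw [map_add]
    refine Submodule.add_mem_sup ?_ ?_
    · rw [hN] at hn; exact hn
    · rw [hN] at hn'; exact hn'
  have hdY := decomp_of Y hY
  -- decomposition of N Y at Z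
  have memIN : ∀ n : ↥(N Y), n ∈ ((Ideal.span {π} : Ideal A) • (⊤ : Submodule A ↥(N Y))) ↔ ∃ n' : ↥(N Y), π • n' = n := by
    intro n
    rw [Submodule.ideal_span_singleton_smul, Submodule.mem_smul_pointwise_iff_exists]
    simp
  have memK' : ∀ (T : Set ι) (n : ↥(N Y)), Submodule.mkQ ((Ideal.span {π} : Ideal A) • (⊤ : Submodule A ↥(N Y))) n ∈ K' T →
      ∀ i ∈ T, ∃ s ∈ (𝔓 i).primeCompl, ∃ n' : ↥(N Y), s • n = π • n' := by
    intro T n hn i hi
    rw [hK'] at hn
    simp only [Submodule.mem_iInf, LocalizedModule.mem_ker_mkLinearMap_iff, Submodule.mkQ_apply] at hn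
    obtain ⟨s, hs, hsm⟩ := hn i hi
    rw [← Submodule.Quotient.mk_smul, Submodule.Quotient.mk_eq_zero] at hsm
    obtain ⟨n', hn'⟩ := (memIN _).1 hsm
    exact ⟨s, hs, n', hn'.symm⟩
  have hdZ : ∀ n : ↥(N Y), ∃ a b : ↥(N Y), n = a + b ∧
      (∀ i ∈ Z, ∃ s ∈ (𝔓 i).primeCompl, ∃ n' : ↥(N Y), s • a = π • n') ∧
      (∀ i ∈ Zᶜ, ∃ s ∈ (𝔓 i).primeCompl, ∃ n' : ↥(N Y), s • b = π • n') := by
    intro n
    have hn : Submodule.mkQ ((Ideal.span {π} : Ideal A) • (⊤ : Submodule A ↥(N Y))) n ∈ K' Z ⊔ K' Zᶜ := by rw [hZ]; exact Submodule.mem_top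
    obtain ⟨x, hx, y, hy, hxy⟩ := Submodule.mem_sup.1 hn
    obtain ⟨a, rfl⟩ := Submodule.mkQ_surjective ((Ideal.span {π} : Ideal A) • (⊤ : Submodule A ↥(N Y))) x
    refine ⟨a, n - a, by abel, memK' Z a hx, memK' Zᶜ (n - a) ?_⟩
    rw [map_sub, ← hxy, add_sub_cancel_left]
    exact hy
  -- vanishing' implies vanishing
  have V_of_V' : ∀ (a : ↥(N Y)) i, (∃ s ∈ (𝔓 i).primeCompl, ∃ n' : ↥(N Y), s • a = π • n') →
      V i (a : M) := by
    rintro a i ⟨s, hs, n', hn'⟩
    refine ⟨s, hs, (memIM _).2 ⟨(n' : M), ?_⟩⟩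
    have := congrArg (Subtype.val) hn'
    simpa using this.symm
  apply decomp_to Z
  -- step 2: elements of N Y decompose
  have step2 : ∀ n ∈ N Y, ∃ u ∈ N Z, ∃ v ∈ N Zᶜ, n = u + v := by
    intro n hn
    obtain ⟨a, b, hab, ha, hb⟩ := hdZ ⟨n, hn⟩
    refine ⟨(a : M), (memN _ _).2 fun i hi => V_of_V' a i (ha i hi), (b : M),
      (memN _ _).2 fun i hi => V_of_V' b i (hb i hi), ?_⟩
    have := congrArg (Subtype.val) hab
    simpa using this
  -- step 3: elements of N Yᶜ decompose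
  have step3 : ∀ m ∈ N Yᶜ, ∃ u ∈ N Z, ∃ v ∈ N Zᶜ, m = u + v := by
    intro m hm
    have hπm : π • m ∈ IM := (memIM _).2 ⟨m, rfl⟩
    obtain ⟨a, b, hab, ha, hb⟩ := hdZ ⟨π • m, hIM_le Y hπm⟩
    have hab' : π • m = (a : M) + (b : M) := by
      have := congrArg (Subtype.val) hab
      simpa using this
    have haY : ∀ i ∈ Y, V i (a : M) := (memN Y _).1 a.2
    have hbY : ∀ i ∈ Y, V i (b : M) := (memN Y _).1 b.2
    have haZ : ∀ i ∈ Z, V i (a : M) := fun i hi => V_of_V' a i (ha i hi)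
    have hbZ : ∀ i ∈ Zᶜ, V i (b : M) := fun i hi => V_of_V' b i (hb i hi)
    have ha_all : ∀ i, V i (a : M) := by
      intro i
      by_cases hi : i ∈ Z
      · exact haZ i hi
      · have : (a : M) = π • m - (b : M) := by rw [hab']; abel
        rw [this]
        exact V_sub i _ _ (V_of_mem i _ hπm) (hbZ i hi)
    have hb_all : ∀ i, V i (b : M) := by
      intro i
      by_cases hi : i ∈ Z
      · have : (b : M) = π • m - (a : M) := by rw [hab']; abel
        rw [this]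
        exact V_sub i _ _ (V_of_mem i _ hπm) (haZ i hi)
      · exact hbZ i hi
    obtain ⟨a₁, ha₁⟩ := (memIM _).1 (N_univ _ ha_all)
    obtain ⟨b₁, hb₁⟩ := (memIM _).1 (N_univ _ hb_all)
    have hm_eq : m = a₁ + b₁ := by
      have h0 : π • (m - (a₁ + b₁)) = 0 := by
        rw [smul_sub, smul_add, ha₁, hb₁, hab']; abel
      have := hπ _ h0
      exact sub_eq_zero.1 this
    -- s • a₁ ∈ N Y for i ∈ Z
    have ha₁V : ∀ i ∈ Z, i ∈ Y → V i a₁ := by
      intro i hiZ hiY
      obtain ⟨s, hs, n', hn'⟩ := ha i hiZ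
      have h1 : s • (a : M) = π • (n' : M) := by
        have := congrArg (Subtype.val) hn'
        simpa using this
      have h2 : s • a₁ = (n' : M) := by
        have h0 : π • (s • a₁ - (n' : M)) = 0 := by
          rw [smul_sub, smul_comm, ha₁, h1, sub_self]
        exact sub_eq_zero.1 (hπ _ h0)
      apply V_of_smul i s a₁ hs
      rw [h2]
      exact (memN Y _).1 n'.2 i hiY
    have hb₁V : ∀ i ∈ Zᶜ, i ∈ Y → V i b₁ := by
      intro i hiZ hiY
      obtain ⟨s, hs, n', hn'⟩ := hb i hiZ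
      have h1 : s • (b : M) = π • (n' : M) := by
        have := congrArg (Subtype.val) hn'
        simpa using this
      have h2 : s • b₁ = (n' : M) := by
        have h0 : π • (s • b₁ - (n' : M)) = 0 := by
          rw [smul_sub, smul_comm, hb₁, h1, sub_self]
        exact sub_eq_zero.1 (hπ _ h0)
      apply V_of_smul i s b₁ hs
      rw [h2]
      exact (memN Y _).1 n'.2 i hiY
    obtain ⟨p, hp, q, hq, hpq⟩ := hdY a₁
    obtain ⟨p', hp', q', hq', hpq'⟩ := hdY b₁
    have hqZ : q ∈ N Z := by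
      rw [memN]
      intro i hi
      by_cases hiY : i ∈ Y
      · have : q = a₁ - p := by rw [hpq]; abel
        rw [this]
        exact V_sub i _ _ (ha₁V i hi hiY) ((memN Y _).1 hp i hiY)
      · exact (memN Yᶜ _).1 hq i hiY
    have hq'Z : q' ∈ N Zᶜ := by
      rw [memN]
      intro i hi
      by_cases hiY : i ∈ Y
      · have : q' = b₁ - p' := by rw [hpq']; abel
        rw [this]
        exact V_sub i _ _ (hb₁V i hi hiY) ((memN Y _).1 hp' i hiY)
      · exact (memN Yᶜ _).1 hq' i hiY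
    have hpp' : p + p' ∈ IM := by
      apply N_univ
      intro i
      by_cases hiY : i ∈ Y
      · exact V_add i _ _ ((memN Y _).1 hp i hiY) ((memN Y _).1 hp' i hiY)
      · have : p + p' = m - q - q' := by rw [hm_eq, hpq, hpq']; abel
        rw [this]
        exact V_sub i _ _ (V_sub i _ _ ((memN Yᶜ _).1 hm i hiY) ((memN Yᶜ _).1 hq i hiY))
          ((memN Yᶜ _).1 hq' i hiY)
    refine ⟨p + p' + q, (N Z).add_mem (hIM_le Z hpp') hqZ, q', hq'Z, ?_⟩
    rw [hm_eq, hpq, hpq']; abel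
  intro m
  obtain ⟨n, hn, n', hn', rfl⟩ := hdY m
  obtain ⟨u, hu, v, hv, rfl⟩ := step2 n hn
  obtain ⟨u', hu', v', hv', rfl⟩ := step3 n' hn'
  exact ⟨u + u', (N Z).add_mem hu hu', v + v', (N Zᶜ).add_mem hv hv', by abel⟩

end Groth.Agent.S18365
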