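import Groth.Statements.S18368
import Groth.Agent.Lib.T2H7MumF

set_option autoImplicit false
universe u
open CategoryTheory CategoryTheory.Limits MonoidalCategory CartesianMonoidalCategory AlgebraicGeometry
open AbVar

namespace Groth.Agent.S18368

/-- Let k be a field, X and Y geometrically integral k-schemes of finite type with X proper, Z a
separated k-scheme and f : X ×_k Y → Z a k-morphism (products in the cartesian monoidal category of
k-schemes). If for some algebraically closed field K over k there are points y₀ : Spec K → Y and z₀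
: Spec K → Z over k such that f restricted to X ×_k Spec K along y₀ is the constant map z₀, then f
factors uniquely through the second projection: there is exactly one g : Y → Z over k with f = pr₂ ≫
g. (The target Z is not assumed to be of finite type over k.) -/
theorem result (k : Type u) [Field k]
    (X Y Z : Over (Spec (CommRingCat.of k)))
    [IsProper X.hom] [GeometricallyIntegral X.hom]
    [LocallyOfFiniteType Y.hom] [QuasiCompact Y.hom] [GeometricallyIntegral Y.hom]
    [IsSeparated Z.hom] (f : X ⊗ Y ⟶ Z)
    (K : Type u) [Field K] [Algebra k K] [IsAlgClosed K]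
    (y₀ : (Over.mk (Spec.map (CommRingCat.ofHom (algebraMap k K))) : Over (Spec (CommRingCat.of k))) ⟶ Y)
    (z₀ : (Over.mk (Spec.map (CommRingCat.ofHom (algebraMap k K))) : Over (Spec (CommRingCat.of k))) ⟶ Z)
    (h : (X ◁ y₀) ≫ f = snd X _ ≫ z₀) :
    ∃! g : Y ⟶ Z, f = snd X Y ≫ g := by
  classical
  have hXflat : Flat X.hom := inferInstance
  have hYN : IsLocallyNoetherian Y.left := LocallyOfFiniteType.isLocallyNoetherian Y.hom
  have hYint : IsIntegral Y.left := GeometricallyIntegral.isIntegral_of_subsingleton Y.hom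
  have hYconn : ConnectedSpace Y.left := inferInstance
  let p' : Limits.pullback X.hom Y.hom ⟶ Y.left := Limits.pullback.snd X.hom Y.hom
  let q' : Limits.pullback Z.hom Y.hom ⟶ Y.left := Limits.pullback.snd Z.hom Y.hom
  have hfw : f.left ≫ Z.hom = Limits.pullback.snd X.hom Y.hom ≫ Y.hom := by
    rw [Over.w f, Over.tensorObj_hom, Limits.pullback.condition]
  let f' : Limits.pullback X.hom Y.hom ⟶ Limits.pullback Z.hom Y.hom :=
    Limits.pullback.lift f.left (Limits.pullback.snd X.hom Y.hom) hfw
  have hf' : f' ≫ q' = p' := Limits.pullback.lift_snd _ _ _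
  have hf'1 : f' ≫ Limits.pullback.fst Z.hom Y.hom = f.left := Limits.pullback.lift_fst _ _ _
  have h0' : ∀ y : Y.left, Function.Bijective
      (Limits.pullback.snd p' (Y.left.fromSpecResidueField y)).appTop.hom := by
    intro y
    exact Groth.Agent.Lib.T2H7.MumD.appTop_snd_bijective_of_isPullback
      (IsPullback.of_hasPullback X.hom Y.hom) y
      (Groth.Agent.Lib.T2H7.MumE.appTop_snd_bijective_of_geometricallyIntegral X.hom _)
  -- the geometric point
  let K' : Over (Spec (CommRingCat.of k)) :=
    Over.mk (Spec.map (CommRingCat.ofHom (algebraMap k K)))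
  let pt : ↥(Spec (CommRingCat.of K)) := Classical.arbitrary _
  let y₁ : Y.left := y₀.left.base pt
  have hw1 : (X ◁ y₀).left ≫ Limits.pullback.fst X.hom Y.hom = (fst X K').left := by
    have := congrArg (fun k : X ⊗ K' ⟶ X => k.left) (whiskerLeft_fst X y₀)
    exact this
  have hw2 : (X ◁ y₀).left ≫ Limits.pullback.snd X.hom Y.hom = (snd X K').left ≫ y₀.left := by
    have := congrArg (fun k : X ⊗ K' ⟶ Y => k.left) (whiskerLeft_snd X y₀)
    exact this
  have Hw : IsPullback (X ◁ y₀).left (snd X K').left (Limits.pullback.snd X.hom Y.hom)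
      y₀.left := by
    refine IsPullback.of_right ?_ hw2 (IsPullback.of_hasPullback X.hom Y.hom)
    rw [hw1, Over.w y₀]
    exact IsPullback.of_hasPullback X.hom K'.hom
  have hcw : z₀.left ≫ Z.hom = y₀.left ≫ Y.hom := by
    rw [Over.w z₀, Over.w y₀]
  let c : Spec (CommRingCat.of K) ⟶ Limits.pullback Z.hom Y.hom :=
    Limits.pullback.lift z₀.left y₀.left hcw
  have hwf' : (X ◁ y₀).left ≫ f' = (snd X K').left ≫ c := by
    apply Limits.pullback.hom_ext
    · rw [Category.assoc, hf'1, Category.assoc, Limits.pullback.lift_fst]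
      have h1 := congrArg (fun k : X ⊗ K' ⟶ Z => k.left) h
      exact h1
    · rw [Category.assoc, Limits.pullback.lift_snd, Category.assoc, Limits.pullback.lift_snd, hw2]
  have hcoll : ∀ z : ↥(Limits.pullback X.hom Y.hom), p'.base z = y₁ → f'.base z = c.base pt := by
    intro z hz
    obtain ⟨w, hw1', hw2'⟩ := Scheme.exists_preimage_of_isPullback Hw z pt hz
    have h1 := congrArg (fun k : (X ⊗ K').left ⟶ Limits.pullback Z.hom Y.hom => k.base w) hwf'
    simp only [Scheme.Hom.comp_base, TopCat.comp_app] at h1
    rw [hw1', hw2'] at h1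
    exact h1
  obtain ⟨t₀, ht₀, hht₀⟩ := Groth.Agent.Lib.T2H7.MumD.exists_section_of_connected p' q' f' hf' h0' y₁
    (fun z z' hz hz' => by rw [hcoll z hz, hcoll z' hz'])
  have hgw : (t₀ ≫ Limits.pullback.fst Z.hom Y.hom) ≫ Z.hom = Y.hom := by
    rw [Category.assoc, Limits.pullback.condition, ← Category.assoc, ht₀, Category.id_comp]
  have hsurj := Groth.Agent.Lib.T2H7.MumD.surjective_of_h0 p' h0'
  have heff : EffectiveEpi p' := inferInstance
  have hepi : Epi p' := inferInstance
  refine ⟨Over.homMk (t₀ ≫ Limits.pullback.fst Z.hom Y.hom) hgw, ?_, ?_⟩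
  · apply Over.OverMorphism.ext
    show f.left = Limits.pullback.snd X.hom Y.hom ≫ t₀ ≫ Limits.pullback.fst Z.hom Y.hom
    rw [← hf'1, hht₀, Category.assoc]
  · intro g' hg'
    apply Over.OverMorphism.ext
    show g'.left = t₀ ≫ Limits.pullback.fst Z.hom Y.hom
    rw [← cancel_epi p']
    have h1 := congrArg (fun k : X ⊗ Y ⟶ Z => k.left) hg'
    have h2 : f.left = p' ≫ g'.left := h1
    rw [← h2, ← hf'1, hht₀, Category.assoc]

end Groth.Agent.S18368
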