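import Groth.Statements.S18399
import Mathlib

set_option autoImplicit false
universe u
open CAlg

namespace Groth.Agent.S18399

/-- Let k be a field and A a regular local k-algebra with residue field k (the structure map from k onto
the residue field of A is surjective), let σ be a k-algebra endomorphism of A of finite order n with
n invertible in k, and let I_σ be the ideal of A generated by the elements f - σ f. Then I_σ is
generated by finitely many elements of the maximal ideal whose classes in the cotangent space m/m^2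
are linearly independent over the residue field. (Such elements are part of a regular system of
parameters of A, hence part of a regular sequence, which is the printed conclusion; the generators
with independent classes are what the argument produces.) -/
theorem result {k : Type u} [Field k] {A : Type u} [CommRing A] [Algebra k A] [IsRegularLocalRing A] (hres : Function.Surjective ⇑(algebraMap k (IsLocalRing.ResidueField A))) (σ : A →ₐ[k] A) (n : ℕ) (hσ : ∀ a : A, (⇑σ)^[n] a = a) (hn : (n : k) ≠ 0) : ∃ (m : ℕ) (f : Fin m → ↥(IsLocalRing.maximalIdeal A)), Ideal.span (Set.range fun i : Fin m => (f i : A)) = Ideal.span (Set.range fun a : A => a - σ a) ∧ LinearIndependent (IsLocalRing.ResidueField A) (fun i : Fin m => (IsLocalRing.maximalIdeal A).toCotangent (f i)) := by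
  classical
  have hn0 : n ≠ 0 := by rintro rfl; exact hn (by simp)
  set m := IsLocalRing.maximalIdeal A with hm
  set I := Ideal.span (Set.range fun a : A => a - σ a) with hI
  have hD : ∀ a, a - σ a ∈ I := fun a => Ideal.subset_span ⟨a, rfl⟩
  have hDmul : ∀ a b : A, a * b - σ (a * b) = b * (a - σ a) + σ a * (b - σ b) := by
    intro a b; rw [map_mul]; ring
  have hunit : ∀ (j : ℕ) (x : A), IsUnit x → IsUnit ((⇑σ)^[j] x) := by
    intro j
    induction j with
    | zero => intro x hx; exact hx
    | succ j ih => intro x hx; rw [Function.iterate_succ_apply']; exact (ih x hx).map σ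
  have hσm : ∀ a ∈ m, σ a ∈ m := by
    intro a ha
    by_contra h
    have h1 : IsUnit (σ a) := not_not.mp (fun h' => h ((IsLocalRing.mem_maximalIdeal _).mpr h'))
    obtain ⟨j, rfl⟩ := Nat.exists_eq_succ_of_ne_zero hn0
    have h2 := hunit j _ h1
    rw [← Function.iterate_succ_apply, hσ] at h2
    exact ((IsLocalRing.mem_maximalIdeal _).mp ha) h2
  have hDm : ∀ a ∈ m, a - σ a ∈ m := fun a ha => m.sub_mem ha (hσm a ha)
  have hdecomp : ∀ a : A, ∃ c : k, a - algebraMap k A c ∈ m := by
    intro a
    obtain ⟨c, hc⟩ := hres (IsLocalRing.residue A a)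
    refine ⟨c, ?_⟩
    rw [hm, ← IsLocalRing.residue_eq_zero_iff, map_sub, sub_eq_zero, ← hc,
      IsScalarTower.algebraMap_apply k A (IsLocalRing.ResidueField A)]
    rfl
  have hDeq : ∀ a, ∃ a₀ ∈ m, a - σ a = a₀ - σ a₀ := by
    intro a
    obtain ⟨c, hc⟩ := hdecomp a
    exact ⟨a - algebraMap k A c, hc, by rw [map_sub, σ.commutes]; ring⟩
  have hDm2 : ∀ x ∈ m ^ 2, x - σ x ∈ m * I := by
    intro x hx
    rw [pow_two] at hx
    refine Submodule.mul_induction_on hx ?_ ?_
    · intro a ha b hb
      rw [hDmul]
      exact Ideal.add_mem _ (Ideal.mul_mem_mul hb (hD a)) (Ideal.mul_mem_mul (hσm a ha) (hD b))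
    · intro x y hx hy
      have : x + y - σ (x + y) = (x - σ x) + (y - σ y) := by rw [map_add]; ring
      rw [this]; exact Ideal.add_mem _ hx hy
  have hσm2 : ∀ x ∈ m ^ 2, σ x ∈ m ^ 2 := by
    have h1 : m ≤ Ideal.comap (σ : A →+* A) m := fun a ha => hσm a ha
    intro x hx
    exact Ideal.le_comap_pow (σ : A →+* A) 2 (Ideal.pow_right_mono h1 2 hx)
  have hnunit : IsUnit (n : A) := by
    have : (n : A) = algebraMap k A (n : k) := by simp
    rw [this]; exact (IsUnit.mk0 _ hn).map _
  have key : ∀ v ∈ m, v - σ v ∈ m ^ 2 → v - σ v ∈ m * I := by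
    intro v hv hv2
    have h1 : ∀ i : ℕ, v - (⇑σ)^[i] v ∈ m ^ 2 := by
      intro i
      induction i with
      | zero => simp
      | succ i ih =>
        rw [Function.iterate_succ_apply']
        have : v - σ ((⇑σ)^[i] v) = (v - σ v) + σ (v - (⇑σ)^[i] v) := by rw [map_sub]; ring
        rw [this]; exact Ideal.add_mem _ hv2 (hσm2 _ ih)
    set E := ∑ i ∈ Finset.range n, (⇑σ)^[i] v with hE
    have hDE : E - σ E = 0 := by
      rw [hE, map_sum]
      have : ∀ i, σ ((⇑σ)^[i] v) = (⇑σ)^[i + 1] v :=
        fun i => (Function.iterate_succ_apply' _ _ _).symm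
      simp_rw [this]
      rw [← Finset.sum_sub_distrib, Finset.sum_range_sub', Function.iterate_zero, id, hσ, sub_self]
    have hnv : (n : A) * v - E ∈ m ^ 2 := by
      have : (n : A) * v - E = ∑ i ∈ Finset.range n, (v - (⇑σ)^[i] v) := by
        rw [Finset.sum_sub_distrib, Finset.sum_const, Finset.card_range, nsmul_eq_mul]
      rw [this]; exact Ideal.sum_mem _ fun i _ => h1 i
    have h2 := hDm2 _ hnv
    have h3 : (n : A) * v - E - σ ((n : A) * v - E) = (n : A) * (v - σ v) := by
      rw [map_sub, map_mul, map_natCast]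
      linear_combination (-1 : A) * hDE
    rw [h3] at h2
    exact (Ideal.unit_mul_mem_iff_mem _ hnunit).mp h2
  -- choose the generators
  let cls : m → IsLocalRing.CotangentSpace A := fun v => m.toCotangent ⟨v - σ v, hDm v v.2⟩
  obtain ⟨b, hbs, hbspan, hbli⟩ :=
    exists_linearIndependent (IsLocalRing.ResidueField A) (Set.range cls)
  have hbfin : b.Finite := hbli.setFinite
  haveI : Fintype b := hbfin.fintype
  let e : Fin (Fintype.card b) ≃ b := (Fintype.equivFin b).symm
  choose vv hvv using fun x : b => hbs x.2
  let f : Fin (Fintype.card b) → m := fun i => ⟨vv (e i) - σ (vv (e i)), hDm _ (vv (e i)).2⟩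
  have hfcls : ∀ i, m.toCotangent (f i) = (e i : IsLocalRing.CotangentSpace A) := fun i => hvv (e i)
  refine ⟨Fintype.card b, f, ?_, ?_⟩
  · apply le_antisymm
    · rw [Ideal.span_le]
      rintro _ ⟨i, rfl⟩
      exact hD _
    · have hfg : I.FG := (isNoetherianRing_iff_ideal_fg A).mp inferInstance I
      refine Submodule.le_of_le_smul_of_le_jacobson_bot hfg
        (IsLocalRing.maximalIdeal_le_jacobson ⊥) ?_
      rw [hI, Ideal.span_le]
      rintro _ ⟨a, rfl⟩
      obtain ⟨g, hg, hgeq⟩ := hDeq a
      show a - σ a ∈ _
      rw [hgeq]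
      have hmem : cls ⟨g, hg⟩ ∈ Submodule.span (IsLocalRing.ResidueField A)
          (Set.range ((↑) : b → IsLocalRing.CotangentSpace A)) := by
        rw [Subtype.range_coe, hbspan]
        exact Submodule.subset_span ⟨_, rfl⟩
      obtain ⟨c, hc⟩ := (Submodule.mem_span_range_iff_exists_fun _).mp hmem
      choose c' hc' using fun x => hres (c x)
      set v : A := g - ∑ x : b, algebraMap k A (c' x) * (vv x : A) with hv
      have hvm : v ∈ m := by
        refine m.sub_mem hg (Ideal.sum_mem _ fun x _ => Ideal.mul_mem_left _ _ (vv x).2)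
      have hDv : v - σ v = (g - σ g) -
          ∑ x : b, algebraMap k A (c' x) * ((vv x : A) - σ (vv x)) := by
        rw [hv, map_sub, map_sum]
        simp_rw [map_mul, σ.commutes, mul_sub]
        rw [Finset.sum_sub_distrib]
        ring
      have hDv2 : v - σ v ∈ m ^ 2 := by
        rw [← Ideal.toCotangent_eq_zero m ⟨v - σ v, hDm v hvm⟩]
        have h1 : (⟨v - σ v, hDm v hvm⟩ : m) = ⟨g - σ g, hDm g hg⟩ -
            ∑ x : b, algebraMap k A (c' x) • ⟨(vv x : A) - σ (vv x), hDm _ (vv x).2⟩ := by
          ext
          simp [hDv, Algebra.smul_def]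
        rw [h1, map_sub, map_sum, sub_eq_zero]
        show cls ⟨g, hg⟩ = _
        rw [← hc]
        refine Finset.sum_congr rfl fun x _ => ?_
        rw [map_smul, ← hc', IsScalarTower.algebraMap_apply k A (IsLocalRing.ResidueField A),
          IsScalarTower.algebraMap_smul]
        congr 1
        exact (hvv x).symm
      have hkey := key v hvm hDv2
      have : g - σ g = (v - σ v) + ∑ x : b, algebraMap k A (c' x) * ((vv x : A) - σ (vv x)) := by
        rw [hDv]; ring
      rw [this]
      refine Submodule.add_mem _ (Submodule.mem_sup_right hkey) (Submodule.mem_sup_left ?_)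
      refine Ideal.sum_mem _ fun x _ => Ideal.mul_mem_left _ _ (Ideal.subset_span ?_)
      exact ⟨e.symm x, by simp [f]⟩
  · have : (fun i => m.toCotangent (f i)) = ((↑) : b → IsLocalRing.CotangentSpace A) ∘ e := by
      funext i; exact hfcls i
    rw [this]
    exact hbli.comp e e.injective

end Groth.Agent.S18399
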