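-- Statement S18471: the eigenspaces of the dual are the duals of the eigenspaces.
import Mathlib
import Groth.Statements.S18471
import Groth.Agent.Lib.T2H3OortTateDual

set_option autoImplicit false
universe u
open OortTate

namespace Groth.Agent.S18471

open Groth.Agent.Lib.T2H3.OortTate in
theorem result
    (p : ℕ) [Fact p.Prime] (R : Type u) [CommRing R] (u : R) (hu : u * ((p - 1 : ℕ) : R) = 1)
    (χ : (ZMod p)ˣ →* Rˣ) (hχ : ∀ m : (ZMod p)ˣ, m ≠ 1 → IsUnit ((χ m : R) - 1))
    (A : Type u) [CommRing A] [HopfAlgebra R A] [Coalgebra.IsCocomm R A]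
    [Module.Finite R A] [Module.Projective R A]
    (hp : (WithConv.toConv (AlgHom.id R A)) ^ p = 1) (i : ℕ) :
    Function.Bijective (fun f : OortTate.eigenAug R (CartDual.D R A) p χ i =>
      ((CartDual.toDual R A) (f : CartDual.D R A)).comp (OortTate.eigenAug R A p χ i).subtype) := by
  classical
  have hcard : Fintype.card (ZMod p)ˣ = p - 1 := ZMod.card_units p
  -- the augmentation part of an element
  have haug : ∀ a : A, Coalgebra.counit (R := R)
      (a - Coalgebra.counit (R := R) a • (1 : A)) = 0 := by
    intro a
    rw [map_sub, map_smul, Bialgebra.counit_one, smul_eq_mul, mul_one, sub_self]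
  -- membership in the eigenspace of the dual
  have hmemD : ∀ x : CartDual.D R A, x ∈ OortTate.eigenAug R (CartDual.D R A) p χ i ↔
      x 1 = 0 ∧ ∀ (m : (ZMod p)ˣ) (a : A),
        x (SGA3b.powConv R A (m : ZMod p).val a) = ((χ m : Rˣ) : R) ^ i * x a := by
    intro x
    rw [mem_eigenAug_iff]
    refine and_congr Iff.rfl (forall_congr' fun m => ?_)
    constructor
    · intro h a
      rw [← powConv_dual_apply, h]
      rfl
    · intro h
      apply WithConv.ext
      apply LinearMap.ext
      intro a
      show (SGA3b.powConv R (CartDual.D R A) (m : ZMod p).val x) a = _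
      rw [powConv_dual_apply, h a]
      rfl
  -- an eigenform is invariant under the projector
  have hxproj : ∀ x : CartDual.D R A, x ∈ OortTate.eigenAug R (CartDual.D R A) p χ i →
      ∀ a : A, x (OortTate.proj R A p u χ i a) = x a := by
    intro x hx a
    rw [hmemD] at hx
    rw [proj_apply p hp]
    show x.ofConv _ = x.ofConv a
    rw [map_smul, map_sum]
    have : ∀ m : (ZMod p)ˣ, x.ofConv ((((χ m⁻¹ : Rˣ) : R) ^ i) • rho R A p hp m a) = x.ofConv a := by
      intro m
      rw [map_smul, rho_apply]
      show _ • x (SGA3b.powConv R A (m : ZMod p).val a) = x a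
      rw [hx.2 m a, smul_eq_mul, ← mul_assoc, ← mul_pow, ← Units.val_mul, ← map_mul,
        inv_mul_cancel, map_one, Units.val_one, one_pow, one_mul]
    rw [Finset.sum_congr rfl fun m _ => this m, Finset.sum_const, Finset.card_univ, hcard,
      ← Nat.cast_smul_eq_nsmul R, smul_smul, hu, one_smul]
  constructor
  · -- injectivity
    intro x y hxy
    apply Subtype.ext
    apply WithConv.ext
    apply LinearMap.ext
    intro a
    have hx := (hmemD _).mp x.2
    have hy := (hmemD _).mp y.2
    -- reduce to the augmentation part
    have hdec : a = (a - Coalgebra.counit (R := R) a • (1 : A)) +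
        Coalgebra.counit (R := R) a • (1 : A) := by abel
    have key : ∀ z : OortTate.eigenAug R (CartDual.D R A) p χ i,
        (z : CartDual.D R A).ofConv a =
          (z : CartDual.D R A).ofConv (OortTate.proj R A p u χ i
            (a - Coalgebra.counit (R := R) a • (1 : A))) := by
      intro z
      have hz := (hmemD _).mp z.2
      have h1 : (z : CartDual.D R A).ofConv (OortTate.proj R A p u χ i
            (a - Coalgebra.counit (R := R) a • (1 : A))) =
          (z : CartDual.D R A).ofConv (a - Coalgebra.counit (R := R) a • (1 : A)) :=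
        hxproj _ z.2 _
      rw [h1, map_sub, map_smul]
      have h2 : (z : CartDual.D R A).ofConv 1 = 0 := hz.1
      rw [h2, smul_zero, sub_zero]
    rw [key x, key y]
    have hmem := proj_mem_eigenAug p hp u χ i _ (haug a)
    exact LinearMap.congr_fun hxy ⟨_, hmem⟩
  · -- surjectivity
    intro ψ
    -- the linear form `a ↦ ψ (proj (a - ε(a) 1))`
    let π : A →ₗ[R] A := LinearMap.id - (Algebra.linearMap R A) ∘ₗ (Coalgebra.counit (R := R))
    have hπ : ∀ a : A, π a = a - Coalgebra.counit (R := R) a • (1 : A) := by
      intro a
      show a - algebraMap R A (Coalgebra.counit (R := R) a) = _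
      rw [Algebra.algebraMap_eq_smul_one]
    let q : A →ₗ[R] OortTate.eigenAug R A p χ i :=
      LinearMap.codRestrict _ ((OortTate.proj R A p u χ i) ∘ₗ π) (fun a => by
        rw [LinearMap.comp_apply, hπ]
        exact proj_mem_eigenAug p hp u χ i _ (haug a))
    have hq : ∀ a : A, (q a : A) = OortTate.proj R A p u χ i
        (a - Coalgebra.counit (R := R) a • (1 : A)) := by
      intro a
      show OortTate.proj R A p u χ i (π a) = _
      rw [hπ]
    let φ : CartDual.D R A := WithConv.toConv (ψ ∘ₗ q)
    have hφ : ∀ a : A, φ a = ψ (q a) := fun a => rfl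
    have hφmem : φ ∈ OortTate.eigenAug R (CartDual.D R A) p χ i := by
      rw [hmemD]
      constructor
      · rw [hφ]
        have : q 1 = 0 := by
          apply Subtype.ext
          rw [hq, Bialgebra.counit_one, one_smul, sub_self, map_zero]
          rfl
        rw [this, map_zero]
      · intro m a
        rw [hφ, hφ, ← smul_eq_mul, ← map_smul]
        congr 1
        apply Subtype.ext
        rw [Submodule.coe_smul, hq, hq, counit_powConv]
        have h1 : SGA3b.powConv R A (m : ZMod p).val a - Coalgebra.counit (R := R) a • (1 : A) =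
            rho R A p hp m (a - Coalgebra.counit (R := R) a • (1 : A)) := by
          rw [rho_apply]
          show _ = SGA3b.powConv R A (m : ZMod p).val (a - Coalgebra.counit (R := R) a • (1 : A))
          rw [map_sub, map_smul, map_one]
        rw [h1, proj_rho]
    refine ⟨⟨φ, hφmem⟩, ?_⟩
    apply LinearMap.ext
    intro a
    show φ (a : A) = ψ a
    rw [hφ]
    congr 1
    apply Subtype.ext
    rw [hq]
    have ha := (mem_eigenAug_iff p χ i (a : A)).mp a.2
    rw [ha.1, zero_smul, sub_zero]
    exact proj_eq_self p hp u χ hu i _ a.2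

end Groth.Agent.S18471
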