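import Groth.Statements.S18485
import Groth.Agent.Lib.Helper3QFinDim
import Groth.Agent.Lib.Helper3FlatFibDim2
import Groth.Agent.Lib.Helper3DimCons

set_option autoImplicit false
universe u
open CategoryTheory CategoryTheory.Limits AlgebraicGeometry MonObj
open Neron

namespace Groth.Agent.S18485

set_option linter.style.haveILetI false

open Groth.Agent.Lib.Helper3.QFinDim Groth.Agent.Lib.Helper3.FlatFibDim2
  Groth.Agent.Lib.Helper3.DimCons Groth.Agent.Lib.Helper3.LocDimBC in
/-- quasi-compact case over a domain. -/
theorem aux (R : Type u) [CommRing R] [IsDomain R] {X : Scheme.{u}}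
    (g : X ⟶ Spec (CommRingCat.of R)) [Flat g] [LocallyOfFiniteType g] [QuasiCompact g]
    [LocallyQuasiFinite (pullback.snd g (Neron.genPt R))] : LocallyQuasiFinite g := by
  apply locallyQuasiFinite_of_forall_fibreDimAt_le_zero
  intro x
  by_contra hx
  have h1 : ((1 : ℕ) : WithBot ℕ∞) ≤ FlatMor.fibreDimAt g x := by
    by_contra h
    exact hx (Groth.Agent.Lib.Helper7.TopDim.le_zero_of_lt_one _ (by
      rw [not_le] at h; exact_mod_cast h))
  have h2 : ((1 : ℕ) : WithBot ℕ∞) ≤ topologicalKrullDim ↥(g.fiber (g x)) :=
    (natCast_le_fibre_dim_iff g (g x) 1).mpr ⟨x, h1, rfl⟩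
  let t := Neron.genPt R
  let y' : Spec (CommRingCat.of (FractionRing R)) := ⟨⊥, Ideal.isPrime_bot⟩
  have hspec : t y' ⤳ g x := by
    refine (PrimeSpectrum.le_iff_specializes (R := R) (t y') (g x)).mp ?_
    intro a ha
    have ha' : algebraMap R (FractionRing R) a = 0 := ha
    have : a = 0 := (IsFractionRing.injective R (FractionRing R)) (by rw [ha', map_zero])
    rw [this]
    exact zero_mem _
  have h3 := le_dim_fibre_of_specializes' g hspec 1 h2
  obtain ⟨x₁, hx₁, hx₁η⟩ := (natCast_le_fibre_dim_iff g _ 1).mp h3
  obtain ⟨x', h1', h2'⟩ :=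
    Scheme.exists_preimage_of_isPullback (IsPullback.of_hasPullback g t) x₁ y' hx₁η
  have h4 := fibreDimAt_eq_of_isPullback g t (pullback.fst g t) (pullback.snd g t)
    (IsPullback.of_hasPullback g t) x'
  have h5 := fibreDimAt_le_zero_of_locallyQuasiFinite (pullback.snd g t) x'
  rw [h4, h1'] at h5
  have h6 : ((1 : ℕ) : WithBot ℕ∞) ≤ 0 := hx₁.trans h5
  exact absurd h6 (by decide)

/-- Let R be a Dedekind domain with fraction field K and H a Spec R-scheme which is flat and locally of
finite type over Spec R. If the generic fibre H_K is locally quasi-finite over K, then H is locally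
quasi-finite over Spec R. (The published statement is about the schematic closure, in an S-group
algebraic space of finite type over a connected Dedekind scheme S, of a finite subgroup of the
generic fibre, which it asserts to be a quasi-finite S-group; this row is the statement about flat
schemes locally of finite type over an affine Dedekind base on which that rests. Locally
quasi-finite is meant here without a finite type clause, which is assumed separately.) -/
theorem result (R : Type u) [CommRing R]
    [IsDedekindDomain R] (H : Over (Spec (CommRingCat.of R))) [Flat H.hom] [LocallyOfFiniteType H.hom]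
    [LocallyQuasiFinite ((Neron.genericFibre R).obj H).hom] : LocallyQuasiFinite H.hom := by
  haveI h0 : LocallyQuasiFinite (pullback.snd H.hom (Neron.genPt R)) :=
    ‹LocallyQuasiFinite ((Neron.genericFibre R).obj H).hom›
  rw [IsZariskiLocalAtSource.iff_of_openCover (P := @LocallyQuasiFinite) H.left.affineCover]
  intro i
  let j := H.left.affineCover.f i
  haveI : QuasiCompact (j ≫ H.hom) := by
    exact HasAffineProperty.iff_of_isAffine.mpr (by infer_instance)
  haveI : LocallyQuasiFinite (pullback.snd (j ≫ H.hom) (Neron.genPt R)) := by
    have e : pullback.snd (j ≫ H.hom) (Neron.genPt R) =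
        (pullbackRightPullbackFstIso H.hom (Neron.genPt R) j).inv ≫
          pullback.snd j (pullback.fst H.hom (Neron.genPt R)) ≫
            pullback.snd H.hom (Neron.genPt R) := by
      rw [Iso.eq_inv_comp, pullbackRightPullbackFstIso_hom_snd]
    rw [e]
    infer_instance
  exact aux R (j ≫ H.hom)

end Groth.Agent.S18485
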