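import Groth.Statements.S18487
import Groth.Agent.Lib.T2H3GenericSection
import Groth.Agent.Lib.Helper12Torsor

set_option autoImplicit false
universe u
open CategoryTheory CategoryTheory.Limits AlgebraicGeometry MonObj
open NonAbH1

namespace Groth.Agent.S18487

/-- Let R be a Dedekind domain with fraction field K, G a proper flat group scheme over Spec R, and P a
Spec R-scheme with an action of G making it a G-torsor for the fppf topology (a pseudo-torsor
acquiring sections on the members of an fppf covering family). If P acquires a section over the
generic point Spec K → Spec R, then P has a section over Spec R: a generically trivial torsor is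
trivial. (The source allows any connected Dedekind scheme as base and torsors that are fppf sheaves,
shown there to be schemes; the affine base and scheme torsors are stated.) -/
theorem result (R : Type u) [CommRing R] [IsDedekindDomain R]
    (G : Over (Spec (CommRingCat.of R))) [GrpObj G] [IsProper G.hom] [Flat G.hom]
    (P : NonAbH1.TorsorSch G Scheme.fppfPrecoverage) (h : NonAbH1.HasSectionOver P.X (Neron.genPt R)) :
    NonAbH1.HasSectionOver P.X (𝟙 (Spec (CommRingCat.of R))) := by
  obtain ⟨hps, R', hR', hsec⟩ := P.isTorsor
  have hprop : IsProper P.X.hom :=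
    Groth.Agent.Lib.Helper12.of_mem_fpqcPrecoverage
      Groth.Agent.Lib.Helper12.descendsAlong_isProper P.X.hom R'
      (Scheme.fppfPrecoverage_le_fpqcPrecoverage _ hR')
      (fun Y' f hf => Groth.Agent.Lib.Helper12.pullback_snd_of_hasSectionOver P.act (P := @IsProper)
        hps inferInstance f (hsec f hf))
  obtain ⟨σ, hσ⟩ := h
  obtain ⟨σ', hσ'⟩ :=
    Groth.Agent.Lib.T2H3.GenericSection.exists_stalk_section_of_fractionRing R P.X.hom σ hσ
  obtain ⟨U, hU, f, hf⟩ :=
    Groth.Agent.Lib.T2H3.GenericSection.exists_open_section_of_generic P.X.hom σ' hσ'
  have hval : ValuativeCriterion.Existence P.X.hom := by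
    have : (ValuativeCriterion.Existence ⊓ @QuasiCompact) P.X.hom := by
      rw [← UniversallyClosed.eq_valuativeCriterion]; infer_instance
    exact this.1
  obtain ⟨s, hs, -⟩ := Groth.Agent.Lib.Helper4.RatMapExt.exists_extension_of_valuationRing
    (𝟙 _) P.X.hom hval
    (Groth.Agent.Lib.T2H3.GenericSection.valuationRing_stalk_of_isDedekindDomain R) U hU f
    (by rw [hf, Category.comp_id])
  exact ⟨s, hs⟩

end Groth.Agent.S18487
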