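import Groth.Statements.S18488
import Groth.Agent.Lib.T2H3TorsorClosure

set_option autoImplicit false
universe u
open CategoryTheory CategoryTheory.Limits AlgebraicGeometry MonObj
open NonAbH1

namespace Groth.Agent.S18488

/-- Let R be a Dedekind domain with fraction field K and G a proper flat group scheme over Spec R. Then
restriction to the generic fibre, from the set of classes of G-torsors for the fppf topology (Spec
R-schemes with a G-action, pseudo-torsors trivialised on an fppf covering family, up to equivariant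
isomorphism) to the set of classes of G_K-torsors, is injective. (The source allows any connected
Dedekind scheme as base and all fppf torsors, which it shows to be schemes; the affine base and
torsors representable by schemes are stated.) -/
theorem result (R : Type u) [CommRing R] [IsDedekindDomain R]
    (G : Over (Spec (CommRingCat.of R))) [GrpObj G] [IsProper G.hom] [Flat G.hom] :
    Function.Injective (NonAbH1.H1Sch.bcMap (Neron.genPt R) G Scheme.fppfPrecoverage) := by
  haveI : IsDomain R := inferInstance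
  haveI hpre : IsPreimmersion (Neron.genPt R) :=
    IsPreimmersion.of_isLocalization (S := FractionRing R) (nonZeroDivisors R)
  haveI : Mono (Neron.genPt R) := inferInstance
  haveI : Flat (Neron.genPt R) := by
    rw [Flat.SpecMap_iff, CommRingCat.hom_ofHom, RingHom.flat_algebraMap_iff]
    exact IsLocalization.flat (FractionRing R) (nonZeroDivisors R)
  haveI : IsSchemeTheoreticallyDominant (Neron.genPt R) :=
    Groth.Agent.Lib.T2H3.DensityExt.specMap_dominant _ (IsFractionRing.injective R (FractionRing R))
  intro c₁ c₂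
  induction c₁ using Quot.ind with | _ P₁ => ?_
  induction c₂ using Quot.ind with | _ P₂ => ?_
  intro h
  obtain ⟨e⟩ := Groth.Agent.Lib.T2H3.TorsorBasics.nonempty_equivIso_of_cl_eq
    (P₁.bc (Neron.genPt R)) (P₂.bc (Neron.genPt R)) h
  apply Quot.sound
  obtain ⟨hps₁, R₁, hR₁, hsec₁⟩ := P₁.isTorsor
  obtain ⟨hps₂, R₂, hR₂, hsec₂⟩ := P₂.isTorsor
  -- flatness and properness of the torsors, by descent
  haveI hfl₁ : Flat P₁.X.hom :=
    Groth.Agent.Lib.Helper12.of_mem_fpqcPrecoverage
      Groth.Agent.Lib.Helper12.descendsAlong_flat P₁.X.hom R₁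
      (Scheme.fppfPrecoverage_le_fpqcPrecoverage _ hR₁)
      (fun Y' f' hf' => Groth.Agent.Lib.Helper12.pullback_snd_of_hasSectionOver P₁.act (P := @Flat)
        hps₁ inferInstance f' (hsec₁ f' hf'))
  haveI hpr₁ : IsProper P₁.X.hom :=
    Groth.Agent.Lib.Helper12.of_mem_fpqcPrecoverage
      Groth.Agent.Lib.Helper12.descendsAlong_isProper P₁.X.hom R₁
      (Scheme.fppfPrecoverage_le_fpqcPrecoverage _ hR₁)
      (fun Y' f' hf' => Groth.Agent.Lib.Helper12.pullback_snd_of_hasSectionOver P₁.act
        (P := @IsProper) hps₁ inferInstance f' (hsec₁ f' hf'))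
  haveI hpr₂ : IsProper P₂.X.hom :=
    Groth.Agent.Lib.Helper12.of_mem_fpqcPrecoverage
      Groth.Agent.Lib.Helper12.descendsAlong_isProper P₂.X.hom R₂
      (Scheme.fppfPrecoverage_le_fpqcPrecoverage _ hR₂)
      (fun Y' f' hf' => Groth.Agent.Lib.Helper12.pullback_snd_of_hasSectionOver P₂.act
        (P := @IsProper) hps₂ inferInstance f' (hsec₂ f' hf'))
  haveI : IsSeparated P₂.X.hom := inferInstance
  -- the closure of the graph is flat over the Dedekind base
  haveI hfl : Flat (Groth.Agent.Lib.T2H3.TorsorClosure.clo (Neron.genPt R) P₁.act P₂.act e).hom :=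
    Groth.Agent.Lib.T2H3.SchClosure.flat_of_dominant_generic (K := FractionRing R)
      (Groth.Agent.Lib.T2H3.TorsorClosure.clo (Neron.genPt R) P₁.act P₂.act e).hom
      (Groth.Agent.Lib.T2H3.TorsorClosure.toClo (Neron.genPt R) P₁.act P₂.act e).left
      (Red.bc (Neron.genPt R) P₁.X).hom
      (Groth.Agent.Lib.T2H3.TorsorClosure.gam_w (Neron.genPt R) P₁.act P₂.act e)
  refine Groth.Agent.Lib.T2H3.TorsorClosure.exists_equivIso (Neron.genPt R) P₁.act P₂.act e
    hps₁ hps₂ ?_
  apply Scheme.fppfPrecoverage_le_fpqcPrecoverage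
  -- the closure of the graph is an fppf covering of the base
  have hsurj₁ : Surjective P₁.X.hom := by
    constructor
    intro s
    obtain ⟨I, Z, g, rfl⟩ := Presieve.exists_eq_ofArrows R₁
    have hR₁' := hR₁
    unfold Scheme.fppfPrecoverage at hR₁'
    rw [Scheme.ofArrows_mem_precoverage_iff] at hR₁'
    obtain ⟨i, t, ht⟩ := hR₁'.1 s
    obtain ⟨σ, hσ⟩ := hsec₁ (g i) ⟨i⟩
    refine ⟨σ.base t, ?_⟩
    rw [← ht, ← hσ]
    rfl
  set Γ := Groth.Agent.Lib.T2H3.TorsorClosure.clo (Neron.genPt R) P₁.act P₂.act e with hΓ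
  have hΓhom : Γ.hom = (Groth.Agent.Lib.T2H3.TorsorClosure.gam (Neron.genPt R) P₁.act P₂.act e).left.imageι ≫
      pullback.fst P₁.X.hom P₂.X.hom ≫ P₁.X.hom := rfl
  haveI : IsProper Γ.hom := by
    rw [hΓhom]
    haveI h1 : IsProper (pullback.fst P₁.X.hom P₂.X.hom) := inferInstance
    haveI h2 : IsProper (pullback.fst P₁.X.hom P₂.X.hom ≫ P₁.X.hom) := inferInstance
    haveI h3 : IsProper (Groth.Agent.Lib.T2H3.TorsorClosure.gam (Neron.genPt R) P₁.act P₂.act e).left.imageι := inferInstance
    exact MorphismProperty.comp_mem (W := @IsProper) _ _ h3 h2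
  unfold Scheme.fppfPrecoverage
  rw [Scheme.singleton_mem_precoverage_iff]
  refine ⟨?_, hfl, ?_⟩
  · -- surjectivity: proper with dense image
    have hclosed : IsClosed (Set.range Γ.hom.base) := Γ.hom.isClosedMap.isClosed_range
    have hsub : Set.range (Neron.genPt R).base ⊆ Set.range Γ.hom.base := by
      rintro _ ⟨y, rfl⟩
      haveI : Surjective (pullback.snd P₁.X.hom (Neron.genPt R)) := inferInstance
      obtain ⟨z, rfl⟩ := (pullback.snd P₁.X.hom (Neron.genPt R)).surjective y
      refine ⟨(Groth.Agent.Lib.T2H3.TorsorClosure.toClo (Neron.genPt R) P₁.act P₂.act e).left.base z, ?_⟩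
      have h1 := Groth.Agent.Lib.T2H3.TorsorClosure.gam_w (Neron.genPt R) P₁.act P₂.act e
      have h2 := congrArg (fun φ => φ.base z) h1
      exact h2
    have hdense : Dense (Set.range Γ.hom.base) :=
      (Neron.genPt R).denseRange.mono hsub
    intro s
    have : s ∈ Set.range Γ.hom.base := by
      rw [← hclosed.closure_eq, hdense.closure_eq]
      trivial
    exact this
  · rw [LocallyOfFinitePresentation.iff_locallyOfFiniteType]
    infer_instance

end Groth.Agent.S18488
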