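import Groth.Statements.S18570
import Mathlib
import Groth.Agent.Lib.T2H6ParShD
import Groth.Agent.S18568
import Groth.Agent.S18569
import Groth.Agent.Lib.LeadLffRank

set_option autoImplicit false
universe u
open CategoryTheory CategoryTheory.Limits AlgebraicGeometry
open ParSh

namespace Groth.Agent.S18570

/-- Let Y be a smooth proper integral curve (integral, smooth and proper over k, of dimension one) over
an algebraically closed field k and D an effective Cartier divisor on Y with ideal I, of degree d ≥
1 in the sense that H⁰(Y, G ⊗ O_D) has k-dimension r·d for every finite locally free G of rank r. A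
generalised parabolic structure on a finite locally free E is a k-subspace F₁ of H⁰(E ⊗ O_D); with
weight α its parabolic degree in rank n is deg E + α·dim_k F₁ (deg E = χ(E) − n·χ(O_Y)); a submodule
G → E carries the preimage structure under H⁰(G ⊗ O_D) → H⁰(E ⊗ O_D), and (E, F₁) is α-semistable
(α-stable) when deg_α(G)·n ≤ (<) deg_α(E)·r for every finite locally free submodule G of rank r ≥ 1
(with r < n for stability); weight α = 1 gives 1-semistability and 1-stability. Let E have rank n ≥
2 with structure F₁ and let 0 ≤ α < 1 satisfy 1 − 1/(d·n·(n−1)) < α. Suppose moreover that n and deg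
E are coprime and that dim_k F₁ = a·n is a multiple of n. Then α-semistability, α-stability,
1-semistability and 1-stability of (E, F₁) are all equivalent. The published statement is set on the
normalisation of a singular curve, with structures over several disjoint divisors D_i lying over its
singular points, d their total degree and each dim F₁^i a multiple of n; here Y is any smooth proper
integral curve with one structure over one divisor and only dim F₁ = a·n is assumed, which contains
the several-divisor case (D the sum of the D_i, F₁ the direct sum of the F₁^i). -/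
theorem result (k : Type u) [Field k] [IsAlgClosed k] (X : Scheme.{u}) [X.Over (Spec (CommRingCat.of k))]
    [AlgebraicGeometry.IsIntegral X] [IsProper (X ↘ Spec (CommRingCat.of k))] [Smooth (X ↘ Spec (CommRingCat.of k))]
    (hdim : topologicalKrullDim X = 1)
    (I : X.IdealSheafData) (hD : FGA.IsEffCartier I) (d : ℕ) (hd : 0 < d)
    (hdegD : ∀ (G : X.Modules) (r : ℕ), FlatMod.IsFinLocFreeOfRank r G → Module.finrank k (ParSh.fibD X I G) = r * d)
    {E : X.Modules} (n : ℕ) (hn : 2 ≤ n) (hE : FlatMod.IsFinLocFreeOfRank n E)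
    (F₁ : Submodule k (ParSh.fibD X I E))
    (α : ℝ) (hα0 : 0 ≤ α) (hα1 : α < 1) (hα : 1 - 1 / ((d : ℝ) * (n : ℝ) * ((n : ℝ) - 1)) < α)
    (hcop : IsCoprime (n : ℤ) (Curv2.deg k X E n)) (a : ℕ) (ha : Module.finrank k F₁ = a * n) :
    (ParSh.IsGPSemistable k X I α F₁ n ↔ ParSh.IsGPSemistable k X I 1 F₁ n) ∧
      (ParSh.IsGPStable k X I α F₁ n ↔ ParSh.IsGPSemistable k X I 1 F₁ n) ∧
      (ParSh.IsGPStable k X I 1 F₁ n ↔ ParSh.IsGPSemistable k X I 1 F₁ n) := by
  -- (A) α-ss → 1-ss, (B) 1-st → α-st
  have hA : ParSh.IsGPSemistable k X I α F₁ n → ParSh.IsGPSemistable k X I 1 F₁ n :=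
    fun h => Groth.Agent.S18568.result k X hdim I hD d hd hdegD n hn hE F₁ α hα0 hα1 hα h
  have hB : ParSh.IsGPStable k X I 1 F₁ n → ParSh.IsGPStable k X I α F₁ n :=
    fun h => Groth.Agent.S18569.result k X hdim I hD d hd hdegD n hn hE F₁ α hα0 hα1 hα h
  -- (C) 1-ss → 1-st by coprimality
  have hC : ParSh.IsGPSemistable k X I 1 F₁ n → ParSh.IsGPStable k X I 1 F₁ n := by
    intro hss F r' i hi hr' hr'n hF
    have h := hss F r' i hi hr' hF
    refine lt_of_le_of_ne h ?_
    intro heq
    unfold ParSh.gpDeg ParSh.gpWt at heq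
    rw [ha, one_mul, one_mul] at heq
    set g : ℕ := Module.finrank k (ParSh.gpInduced k X I i F₁) with hg
    set dF : ℤ := Curv2.deg k X F r' with hdF
    set dE : ℤ := Curv2.deg k X E n with hdE
    have heqZ : (dF + g) * (n : ℤ) = (dE + (a * n : ℕ)) * (r' : ℤ) := by exact_mod_cast heq
    have hdvd : (n : ℤ) ∣ dE * (r' : ℤ) := by
      refine ⟨dF + g - a * r', ?_⟩
      push_cast at heqZ
      linear_combination -heqZ
    have hdvd' : (n : ℤ) ∣ (r' : ℤ) := hcop.dvd_of_dvd_mul_left hdvd
    have hle : (n : ℤ) ≤ r' := Int.le_of_dvd (by exact_mod_cast hr') hdvd'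
    have : n ≤ r' := by exact_mod_cast hle
    omega
  -- (D) α-st → α-ss
  have hDD : ParSh.IsGPStable k X I α F₁ n → ParSh.IsGPSemistable k X I α F₁ n := by
    intro hst F r' i hi hr' hF
    haveI := hi
    have hle : r' ≤ n := Groth.Agent.Lib.Lead.LffRank.rank_le_of_mono i r' n hF hE
    rcases Nat.lt_or_eq_of_le hle with hlt | heq
    · exact (hst F r' i hi hr' hlt hF).le
    · subst heq
      have hGP : ParSh.IsGPHom k X I (ParSh.gpInduced k X I i F₁) F₁ i :=
        Submodule.map_comap_le _ _
      have h1 := (Groth.Agent.Lib.T2H6.ParShD.gpDeg_le_and_eq_iff k hdim I hD α hα0 hα1 r' hF hE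
        (ParSh.gpInduced k X I i F₁) F₁ i hGP).1
      exact mul_le_mul_of_nonneg_right h1 (Nat.cast_nonneg _)
  refine ⟨⟨hA, fun h => hDD (hB (hC h))⟩, ⟨fun h => hA (hDD h), fun h => hB (hC h)⟩,
    ⟨fun h => hA (hDD (hB h)), hC⟩⟩

end Groth.Agent.S18570
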