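import Groth.Statements.S18587
import Mathlib

set_option autoImplicit false
universe u
open CAlg

namespace Groth.Agent.S18587

open WittVector

section Gen

variable {p : ℕ} [hp : Fact p.Prime] {R : Type*} [CommRing R]

/-- iterated Verschiebung as an additive hom -/
noncomputable def iterV (k : ℕ) : WittVector p R →+ WittVector p R where
  toFun := (⇑(verschiebung : WittVector p R →+ WittVector p R))^[k]
  map_zero' := iterate_map_zero _ k
  map_add' := iterate_map_add _ k

theorem iterV_apply (k : ℕ) (x : WittVector p R) :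
    iterV k x = (⇑(verschiebung : WittVector p R →+ WittVector p R))^[k] x := rfl

theorem iterV_zero (x : WittVector p R) : iterV 0 x = x := rfl

theorem iterV_succ (k : ℕ) (x : WittVector p R) :
    iterV (k + 1) x = iterV k (verschiebung x) := by
  simp only [iterV_apply, Function.iterate_succ_apply]

theorem iterV_add (j k : ℕ) (x : WittVector p R) :
    iterV j (iterV k x) = iterV (j + k) x := by
  simp only [iterV_apply, Function.iterate_add_apply]

theorem iterV_mem_ker (k : ℕ) (x : WittVector p R) :
    iterV k x ∈ RingHom.ker (WittVector.truncate (p := p) (R := R) k) := by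
  rw [WittVector.mem_ker_truncate]
  intro i hi
  exact iterate_verschiebung_coeff_eq_zero x hi

theorem map_iterV {S : Type*} [CommRing S] (f : R →+* S) (k : ℕ) (x : WittVector p R) :
    WittVector.map f (iterV k x) = iterV k (WittVector.map f x) := by
  induction k generalizing x with
  | zero => rfl
  | succ k ih => rw [iterV_succ, iterV_succ, ih, map_verschiebung]

theorem iterF_teich [CharP R p] (k : ℕ) (x : R) :
    (⇑(frobenius : WittVector p R →+* WittVector p R))^[k] (teichmuller p x) =
      teichmuller p (x ^ p ^ k) := by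
  ext j
  rw [iterate_frobenius_coeff]
  cases j with
  | zero => rw [teichmuller_coeff_zero, teichmuller_coeff_zero]
  | succ j =>
    rw [teichmuller_coeff_pos p x (j + 1) (Nat.succ_pos j),
      teichmuller_coeff_pos p _ (j + 1) (Nat.succ_pos j)]
    exact zero_pow (pow_ne_zero _ hp.out.ne_zero)

theorem teich_mul_iterV [CharP R p] (a : R) (k : ℕ) (z : WittVector p R) :
    teichmuller p a * iterV k z = iterV k (teichmuller p (a ^ p ^ k) * z) := by
  rw [mul_comm, iterV_apply k z, iterate_verschiebung_mul_left, iterF_teich, mul_comm z]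
  rfl

theorem mk_onestep (d : ℕ → R) :
    (WittVector.mk p d : WittVector p R) =
      teichmuller p (d 0) + verschiebung (WittVector.mk p (fun i => d (i + 1))) := by
  have hdisj : ∀ i, (teichmuller p (d 0)).coeff i = 0 ∨
      (verschiebung (WittVector.mk p (fun i => d (i + 1)) : WittVector p R)).coeff i = 0 := by
    intro i
    cases i with
    | zero => exact Or.inr (verschiebung_coeff_zero _)
    | succ i => exact Or.inl (teichmuller_coeff_pos p _ (i + 1) (Nat.succ_pos i))
  ext k
  rw [coeff_add_of_disjoint k _ _ hdisj]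
  cases k with
  | zero => rw [coeff_mk, teichmuller_coeff_zero, verschiebung_coeff_zero, add_zero]
  | succ k =>
    rw [coeff_mk, teichmuller_coeff_pos p _ (k + 1) (Nat.succ_pos k),
      verschiebung_coeff_add_one, coeff_mk, zero_add]

theorem mk_decomp (c : ℕ → R) (M : ℕ) :
    (WittVector.mk p c : WittVector p R) =
      ∑ m ∈ Finset.range M, iterV m (teichmuller p (c m)) +
        iterV M (WittVector.mk p (fun i => c (M + i))) := by
  induction M with
  | zero =>
    rw [Finset.range_zero, Finset.sum_empty, zero_add, iterV_zero]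
    congr 1
    funext i
    rw [zero_add]
  | succ M ih =>
    have h1 := mk_onestep (p := p) (fun i => c (M + i))
    have h2 : (fun i => c (M + (i + 1))) = (fun i => c (M + 1 + i)) := by
      funext i
      congr 1
      omega
    rw [h2, Nat.add_zero] at h1
    rw [Finset.sum_range_succ, add_assoc, iterV_succ, ← map_add, ← h1]
    exact ih

theorem mem_ker_of_forall {n : ℕ} {x : WittVector p R}
    (h : ∀ M : ℕ, x ∈ RingHom.ker (WittVector.truncate (p := p) (R := R) (n + M))) : x = 0 := by
  ext k
  have h1 := (WittVector.mem_ker_truncate (n + (k + 1)) x).mp (h (k + 1)) k (by omega)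
  rw [h1]
  simp

theorem limit_lemma {S : Type*} [CommRing S] (f : R →+* S) {ι : Type*} (s : Finset ι)
    (w : ι → WittVector p S) (cf : ι → ℕ → R) (n M : ℕ) :
    (∑ i ∈ s, w i * WittVector.map f (iterV n (WittVector.mk p (cf i)))) -
      ∑ m ∈ Finset.range M, ∑ i ∈ s,
        w i * WittVector.map f (iterV (n + m) (teichmuller p (cf i m)))
      ∈ RingHom.ker (WittVector.truncate (p := p) (R := S) (n + M)) := by
  have key : ∀ i ∈ s, w i * WittVector.map f (iterV n (WittVector.mk p (cf i))) =
      ∑ m ∈ Finset.range M, w i * WittVector.map f (iterV (n + m) (teichmuller p (cf i m))) +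
        w i * iterV (n + M) (WittVector.map f (WittVector.mk p (fun j => cf i (M + j)))) := by
    intro i _
    conv_lhs => rw [mk_decomp (cf i) M]
    rw [map_add, map_add, mul_add, map_sum, map_sum, Finset.mul_sum, iterV_add, map_iterV]
    congr 1
    apply Finset.sum_congr rfl
    intro m _
    rw [iterV_add]
  rw [Finset.sum_congr rfl key, Finset.sum_add_distrib, Finset.sum_comm, add_sub_cancel_left]
  exact Ideal.sum_mem _ (fun i _ => Ideal.mul_mem_left _ _ (iterV_mem_ker _ _))

theorem expand_lemma (η : WittVector p R) (ρ G : ℕ → WittVector p R) (h0 : ρ 0 = η)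
    (hs : ∀ m, ρ m = G m + verschiebung (ρ (m + 1))) (n M : ℕ) :
    iterV n η = ∑ m ∈ Finset.range M, iterV (n + m) (G m) + iterV (n + M) (ρ M) := by
  induction M with
  | zero => rw [Finset.range_zero, Finset.sum_empty, zero_add, Nat.add_zero, h0]
  | succ M ih =>
    rw [ih, Finset.sum_range_succ, add_assoc]
    congr 1
    conv_lhs => rw [hs M]
    rw [map_add, ← iterV_succ, Nat.add_assoc]

end Gen

theorem exists_exponents (p ℓ : ℕ) (hp : p.Prime) (hℓ : 0 < ℓ) (hpℓ : ¬ p ∣ ℓ) (k : ℕ) :
    ∃ t s : ℕ, t ≤ ℓ ∧ s ≤ p ^ k ∧ t * p ^ k = 1 + ℓ * s := by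
  have hpk : 0 < p ^ k := pow_pos hp.pos k
  rcases Nat.lt_or_ge 1 ℓ with h1 | h1
  · have hcop : Nat.Coprime (p ^ k) ℓ :=
      Nat.Coprime.pow_left k ((Nat.Prime.coprime_iff_not_dvd hp).mpr hpℓ)
    obtain ⟨t, htl, ht⟩ := Nat.exists_mul_mod_eq_one_of_coprime hcop h1
    refine ⟨t, p ^ k * t / ℓ, htl.le, ?_, ?_⟩
    · apply Nat.div_le_of_le_mul
      calc p ^ k * t ≤ p ^ k * ℓ := Nat.mul_le_mul_left _ htl.le
        _ = ℓ * p ^ k := Nat.mul_comm _ _
    · have h2 := Nat.div_add_mod (p ^ k * t) ℓ
      rw [ht] at h2
      calc t * p ^ k = p ^ k * t := Nat.mul_comm _ _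
        _ = ℓ * (p ^ k * t / ℓ) + 1 := h2.symm
        _ = 1 + ℓ * (p ^ k * t / ℓ) := Nat.add_comm _ _
  · have hℓ1 : ℓ = 1 := by omega
    subst hℓ1
    refine ⟨1, p ^ k - 1, le_refl _, Nat.sub_le _ _, ?_⟩
    generalize p ^ k = q at hpk
    omega


/-- Affine form with D = 0: let p be a prime, ℓ ≥ 1 an integer not divisible by p and n ≥ 1. Let A → B
be an injective ring homomorphism of integral domains of characteristic p such that B is spanned as
an A-module by finitely many elements y with y ^ ℓ in the image of A (a weakly ℓ-cyclic extension).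
Then for every p-typical Witt vector ζ over B in the image of the n-fold Verschiebung there is a
nonzero a in A such that the product of the Teichmüller representative of (the image of) a with ζ
lies in the ideal of W(B) generated by the images of the n-fold Verschiebungs of Witt vectors over
A. (This is the case D = 0 of the published statement, written for the coordinate rings; the
published statement allows a twist by a real Weil divisor D and assumes the rings excellent and
normal, hypotheses which the case D = 0 does not use.) -/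
theorem result
    (p : ℕ) [Fact p.Prime] (ℓ n : ℕ) (hℓ : 0 < ℓ) (hpℓ : ¬ p ∣ ℓ) (hn : 0 < n)
    (A B : Type u) [CommRing A] [CommRing B] [IsDomain A] [IsDomain B] [Algebra A B]
    [CharP A p] [CharP B p] (hinj : Function.Injective (algebraMap A B))
    (y : Finset B) (hspan : Submodule.span A (y : Set B) = ⊤)
    (hpow : ∀ b ∈ y, b ^ ℓ ∈ Set.range (algebraMap A B))
    (ζ : WittVector p B)
    (hζ : ∃ η : WittVector p B, (⇑(WittVector.verschiebung : WittVector p B →+ WittVector p B))^[n] η = ζ) :
    ∃ a : A, a ≠ 0 ∧ WittVector.teichmuller p (algebraMap A B a) * ζ ∈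
      Ideal.span (Set.range (fun x : WittVector p A =>
        WittVector.map (algebraMap A B) ((⇑(WittVector.verschiebung : WittVector p A →+ WittVector p A))^[n] x))) := by
  obtain ⟨η, rfl⟩ := hζ
  -- elements r b with f (r b) = b ^ ℓ
  have hr : ∀ b : B, ∃ r : A, r ≠ 0 ∧ (b ∈ y → b ≠ 0 → algebraMap A B r = b ^ ℓ) := by
    intro b
    by_cases hb : b ∈ y ∧ b ≠ 0
    · obtain ⟨r, hr⟩ := hpow b hb.1
      refine ⟨r, ?_, fun _ _ => hr⟩
      intro hr0
      rw [hr0, map_zero] at hr
      exact hb.2 ((pow_eq_zero_iff hℓ.ne').mp hr.symm)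
    · exact ⟨1, one_ne_zero, fun h1 h2 => absurd ⟨h1, h2⟩ hb⟩
  choose r hr0 hr using hr
  obtain ⟨a, ha⟩ : ∃ a : A, a = ∏ b ∈ y, r b := ⟨_, rfl⟩
  have ha0 : a ≠ 0 := by
    rw [ha]
    exact Finset.prod_ne_zero_iff.mpr (fun b _ => hr0 b)
  -- exponents
  have hexp := exists_exponents p ℓ Fact.out hℓ hpℓ
  choose tt ss htl hsl hts using hexp
  -- one step of the expansion
  have onestep : ∀ ξ : WittVector p B, ∃ (β : B → A) (ξ' : WittVector p B),
      ξ = ∑ b ∈ y, teichmuller p (algebraMap A B (β b)) * teichmuller p b + verschiebung ξ' := by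
    intro ξ
    have hmem : ξ.coeff 0 ∈ Submodule.span A (y : Set B) := by
      rw [hspan]; exact Submodule.mem_top
    obtain ⟨β, -, hβ⟩ := Submodule.mem_span_finset.mp hmem
    have h0 : ∀ i < 1, (ξ - ∑ b ∈ y,
        teichmuller p (algebraMap A B (β b)) * teichmuller p b).coeff i = 0 := by
      intro i hi
      obtain rfl : i = 0 := by omega
      change WittVector.constantCoeff (ξ - ∑ b ∈ y,
        teichmuller p (algebraMap A B (β b)) * teichmuller p b) = 0
      rw [map_sub, map_sum, sub_eq_zero]
      change ξ.coeff 0 = _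
      rw [← hβ]
      apply Finset.sum_congr rfl
      intro b _
      rw [map_mul]
      change _ = (teichmuller p (algebraMap A B (β b))).coeff 0 * (teichmuller p b).coeff 0
      rw [teichmuller_coeff_zero, teichmuller_coeff_zero, Algebra.smul_def]
    refine ⟨β, (ξ - ∑ b ∈ y,
      teichmuller p (algebraMap A B (β b)) * teichmuller p b).shift 1, ?_⟩
    have h1 := eq_iterate_verschiebung h0
    rw [Function.iterate_one] at h1
    rw [← h1]
    abel
  choose βf g hg using onestep
  obtain ⟨ρ, hρ0, hρ⟩ : ∃ ρ : ℕ → WittVector p B, ρ 0 = η ∧ ∀ m, ρ (m + 1) = g (ρ m) :=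
    ⟨fun m => g^[m] η, rfl, fun m => Function.iterate_succ_apply' g m η⟩
  have hstep : ∀ m, ρ m = (fun m => ∑ b ∈ y,
      teichmuller p (algebraMap A B (βf (ρ m) b)) * teichmuller p b) m +
        verschiebung (ρ (m + 1)) := by
    intro m
    rw [hρ m]
    exact hg (ρ m)
  -- the coefficients c
  have hc : ∀ (m : ℕ) (b : B), ∃ c : A, b ∈ y →
      algebraMap A B c * b ^ (tt (n + m) * p ^ (n + m)) =
        (algebraMap A B a) ^ (p ^ (n + m)) * (algebraMap A B (βf (ρ m) b) * b) := by
    intro m b
    by_cases hb : b ∈ y ∧ b ≠ 0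
    · obtain ⟨d, hd⟩ : r b ∣ a := by
        rw [ha]; exact Finset.dvd_prod_of_mem r hb.1
      obtain ⟨e, he⟩ := Nat.exists_eq_add_of_le (hsl (n + m))
      refine ⟨βf (ρ m) b * ((r b) ^ e * d ^ (p ^ (n + m))), fun _ => ?_⟩
      have hrb := hr b hb.1 hb.2
      rw [hts (n + m), hd]
      simp only [map_mul, map_pow]
      rw [hrb, he]
      ring
    · refine ⟨0, fun hby => ?_⟩
      have hb0 : b = 0 := by
        by_contra h
        exact hb ⟨hby, h⟩
      subst hb0
      simp
  choose c hc using hc
  -- termwise identity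
  have hI3 : ∀ m : ℕ, teichmuller p (algebraMap A B a) * iterV (n + m)
        (∑ b ∈ y, teichmuller p (algebraMap A B (βf (ρ m) b)) * teichmuller p b) =
      ∑ i ∈ y ×ˢ Finset.range (ℓ + 1), teichmuller p (i.1 ^ i.2) *
        WittVector.map (algebraMap A B) (iterV (n + m)
          (teichmuller p (if i.2 = tt (n + m) then c m i.1 else 0))) := by
    intro m
    rw [map_sum, Finset.mul_sum, Finset.sum_product]
    apply Finset.sum_congr rfl
    intro b hb
    dsimp only
    rw [Finset.sum_eq_single_of_mem (tt (n + m))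
      (Finset.mem_range.mpr (Nat.lt_succ_of_le (htl (n + m))))]
    · rw [if_pos rfl, map_iterV, map_teichmuller, teich_mul_iterV, teich_mul_iterV]
      congr 1
      simp only [← map_mul]
      congr 1
      rw [← pow_mul, mul_comm (b ^ _) _, hc m b hb]
    · intro t _ hne
      rw [if_neg hne, teichmuller_zero, map_zero, map_zero, mul_zero]
  have hmain : teichmuller p (algebraMap A B a) * iterV n η =
      ∑ i ∈ y ×ˢ Finset.range (ℓ + 1), teichmuller p (i.1 ^ i.2) *
        WittVector.map (algebraMap A B) (iterV n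
          (WittVector.mk p (fun m => if i.2 = tt (n + m) then c m i.1 else 0))) := by
    rw [← sub_eq_zero]
    apply mem_ker_of_forall (n := n)
    intro M
    have hB := limit_lemma (p := p) (algebraMap A B) (y ×ˢ Finset.range (ℓ + 1))
      (fun i => teichmuller p (i.1 ^ i.2))
      (fun i m => if i.2 = tt (n + m) then c m i.1 else 0) n M
    have hC : teichmuller p (algebraMap A B a) * iterV n η -
        ∑ m ∈ Finset.range M, ∑ i ∈ y ×ˢ Finset.range (ℓ + 1), teichmuller p (i.1 ^ i.2) *
          WittVector.map (algebraMap A B) (iterV (n + m)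
            (teichmuller p (if i.2 = tt (n + m) then c m i.1 else 0)))
        ∈ RingHom.ker (WittVector.truncate (p := p) (R := B) (n + M)) := by
      rw [expand_lemma η ρ (fun m => ∑ b ∈ y,
        teichmuller p (algebraMap A B (βf (ρ m) b)) * teichmuller p b) hρ0 hstep n M,
        mul_add, Finset.mul_sum]
      rw [Finset.sum_congr rfl (fun m _ => hI3 m), add_sub_cancel_left]
      exact Ideal.mul_mem_left _ _ (iterV_mem_ker _ _)
    have hsub := Ideal.sub_mem _ hC hB
    rw [sub_sub_sub_cancel_right] at hsub
    exact hsub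
  refine ⟨a, ha0, ?_⟩
  change teichmuller p (algebraMap A B a) * iterV n η ∈ _
  rw [hmain]
  exact Ideal.sum_mem _ (fun i _ => Ideal.mul_mem_left _ _
    (Ideal.subset_span ⟨WittVector.mk p (fun m => if i.2 = tt (n + m) then c m i.1 else 0), rfl⟩))

end Groth.Agent.S18587
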