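import Groth.Statements.S18643
import Groth.Agent.Lib.T2H3VerO

set_option autoImplicit false
set_option linter.style.haveILetI false
universe u
open GrLC

namespace Groth.Agent.S18643

/-- Let R be a graded ring defined over a field k = R_0 which is Gorenstein and generated over k by R_1,
with dim R ≥ 1 and dim_k R_1 ≥ 2, and let q ≥ 1. Then the Veronese subring R^(q) is a Gorenstein
ring if and only if q divides the a-invariant a(R). Here 'graded ring defined over a field' means R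
= ⊕_{n ≥ 0} R_n is Noetherian with R_0 a field, and m = R_+ is its unique graded maximal ideal. The
a-invariant a(R) is the largest degree in which the graded local cohomology H^n_m(R) (n = dim R, m =
R_+), computed from a *injective resolution of R in the graded category, is nonzero. The Veronese
subring R^(q) = ⊕_j R_{jq}, regraded by (R^(q))_j = R_{jq}, is presented abstractly as a ℤ-graded
ring R' with an injective ring homomorphism φ : R' → R carrying R'_j onto R_{jq} for every j. -/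
theorem result (R : Type u) [CommRing R] [LocCoh.IsGorensteinRing R] (𝒜 : ℤ → AddSubgroup R) [GradedRing 𝒜] (hpos : ∀ n : ℤ, n < 0 → 𝒜 n = ⊥) (h0 : IsField (GrLC.deg0 𝒜)) (m : HomogeneousIdeal 𝒜) (hm : GrLC.IsStarLocal 𝒜 m) (hmsp : m.toIdeal = Ideal.span (⋃ n ∈ Set.Ioi (0 : ℤ), (𝒜 n : Set R))) (hstd : Ideal.span (⋃ n ∈ Set.Ioi (0 : ℤ), (𝒜 n : Set R)) = Ideal.span ((𝒜 1 : AddSubgroup R) : Set R)) (hR1 : 2 ≤ Module.finrank (GrLC.deg0 𝒜) (GrLC.comp 𝒜 𝒜 1)) (n : ℕ) (hn : ringKrullDim R = n) (h1 : 1 ≤ n) (I : GrLC.StarInjRes 𝒜 𝒜) (a : ℤ) (ha : GrLC.endDeg (I.Hgr m n) = ((a : WithTop ℤ) : WithBot (WithTop ℤ))) (q : ℕ) (hq : 0 < q) (R' : Type u) [CommRing R'] (𝒜' : ℤ → AddSubgroup R') [GradedRing 𝒜'] (φ : R' →+* R) (hφ : Function.Injective φ) (hdeg : ∀ j : ℤ, (𝒜' j).map (φ : R' →+ R) = 𝒜 (j * q)) : LocCoh.IsGorensteinRing R' ↔ (q : ℤ) ∣ a := by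
  classical
  have hV : Groth.Agent.Lib.T2H3.Ver.VerHyp 𝒜 𝒜' φ q := ⟨hq, hφ, hdeg⟩
  have h0' : IsField (GrLC.deg0 𝒜') := Groth.Agent.Lib.T2H3.Ver.isField_deg0_of_verHyp hV h0
  haveI hntR : Nontrivial R :=
    ⟨⟨0, 1, fun h => Groth.Agent.Lib.T2H3.GrArt.one_notMem_of_isStarLocal hm
      (by rw [← h]; exact zero_mem _)⟩⟩
  letI instF : Field (GrLC.deg0 𝒜') := h0'.toField
  letI instA' : Algebra (GrLC.deg0 𝒜') R' :=
    RingHom.toAlgebra (show (GrLC.deg0 𝒜') →+* R' from (GrLC.deg0 𝒜').subtype)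
  letI instA : Algebra (GrLC.deg0 𝒜') R :=
    RingHom.toAlgebra (show (GrLC.deg0 𝒜') →+* R from φ.comp (GrLC.deg0 𝒜').subtype)
  haveI hK' : Groth.Agent.Lib.T2H3.GDual.KGraded (GrLC.deg0 𝒜') 𝒜' := ⟨fun c => c.2⟩
  haveI hK : Groth.Agent.Lib.T2H3.GDual.KGraded (GrLC.deg0 𝒜') 𝒜 := ⟨fun c => by
    have h1 := Groth.Agent.Lib.T2H3.Ver.phi_mem hV (j := 0) (r := (c : R')) c.2
    rw [zero_mul] at h1
    exact h1⟩
  have h0K : ∀ x ∈ 𝒜 0, ∃ c : (GrLC.deg0 𝒜'), algebraMap (GrLC.deg0 𝒜') R c = x := by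
    intro x hx
    have h1 : x ∈ (𝒜' 0).map (φ : R' →+ R) := by
      rw [hdeg 0, zero_mul]; exact hx
    obtain ⟨r, hr, hrx⟩ := h1
    exact ⟨⟨r, hr⟩, hrx⟩
  constructor
  · intro hG
    haveI := hG
    obtain ⟨x₁, hx₁, x₂, hx₂, hli⟩ :=
      Groth.Agent.Lib.T2H3.Ver.exists_indep_of_finrank (GrLC.deg0 𝒜') 𝒜 hR1
    exact Groth.Agent.Lib.T2H3.Ver.dvd_aInvariant_of_veronese_aux (GrLC.deg0 𝒜') R 𝒜 hpos h0 h0K m
      hm hmsp hstd x₁ x₂ hx₁ hx₂ hli n hn h1 I a ha q R' 𝒜' φ hV (fun _ => rfl)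
  · intro hdvd
    exact Groth.Agent.Lib.T2H3.Ver.isGorensteinRing_veronese_aux (GrLC.deg0 𝒜') R 𝒜 hpos h0 h0K m
      hm hmsp n hn I a ha q R' 𝒜' φ hV (fun _ => rfl) hdvd

end Groth.Agent.S18643
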