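import Groth.Statements.S18652
import Groth.Agent.Lib.T2H3KunT
import Groth.Agent.S18673
import Groth.Agent.S18646

set_option autoImplicit false
set_option linter.style.haveILetI false
universe u
open scoped TensorProduct
open GrSegre

namespace Groth.Agent.S18652

/-- Let R and S be graded rings defined over a field k which are Cohen–Macaulay, of dimensions r ≥ 2 and
s ≥ 2. Then the Segre product T = R # S is a Cohen–Macaulay ring if and only if R # H^s_{S_+}(S) = 0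
and H^r_{R_+}(R) # S = 0, that is, for every degree n, R_n = 0 or H^s_{S_+}(S)_n = 0, and
H^r_{R_+}(R)_n = 0 or S_n = 0. Here a graded ring defined over k is a commutative k-algebra of
finite type, graded in nonnegative degrees by k-subspaces with degree-zero part k·1; the graded
local cohomology pieces are computed from *injective resolutions of R and S in the graded category;
the Segre product T = ⊕_n R_n ⊗_k S_n is presented abstractly as a graded k-algebra T with an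
injective k-algebra homomorphism ψ : T → R ⊗_k S carrying T_n onto the k-span of the elementary
tensors a ⊗ b with a ∈ R_n, b ∈ S_n. -/
theorem result (k : Type u) [Field k] (R : Type u) [CommRing R] [Algebra k R] (𝒜 : ℤ → Submodule k R) [GradedAlgebra 𝒜] (hposR : ∀ n : ℤ, n < 0 → 𝒜 n = ⊥) (h0R : 𝒜 0 = Submodule.span k {(1 : R)}) [Algebra.FiniteType k R] (S : Type u) [CommRing S] [Algebra k S] (ℬ : ℤ → Submodule k S) [GradedAlgebra ℬ] (hposS : ∀ n : ℤ, n < 0 → ℬ n = ⊥) (h0S : ℬ 0 = Submodule.span k {(1 : S)}) [Algebra.FiniteType k S] (T : Type u) [CommRing T] [Algebra k T] (𝒯 : ℤ → Submodule k T) [GradedAlgebra 𝒯] (ψ : T →ₐ[k] TensorProduct k R S) (hψ : Function.Injective ψ) (hdegT : ∀ n : ℤ, (𝒯 n).map ψ.toLinearMap = Submodule.span k {x : TensorProduct k R S | ∃ a ∈ 𝒜 n, ∃ b ∈ ℬ n, x = a ⊗ₜ[k] b}) [LocCoh.IsCohenMacaulayRing R] [LocCoh.IsCohenMacaulayRing S] (mR : HomogeneousIdeal 𝒜) (hmR : mR.toIdeal = Ideal.span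 (⋃ n ∈ Set.Ioi (0 : ℤ), (𝒜 n : Set R))) (I : GrLC.StarInjRes 𝒜 𝒜) (mS : HomogeneousIdeal ℬ) (hmS : mS.toIdeal = Ideal.span (⋃ n ∈ Set.Ioi (0 : ℤ), (ℬ n : Set S))) (J : GrLC.StarInjRes ℬ ℬ) (r s : ℕ) (hr : ringKrullDim R = r) (hs : ringKrullDim S = s) (h2r : 2 ≤ r) (h2s : 2 ≤ s) : LocCoh.IsCohenMacaulayRing T ↔ (∀ n : ℤ, 𝒜 n = ⊥ ∨ J.Hcomp mS s n = ⊥) ∧ (∀ n : ℤ, I.Hcomp mR r n = ⊥ ∨ ℬ n = ⊥) := by
  classical
  open Groth.Agent.Lib.T2H3.Kun Groth.Agent.Lib in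
  haveI : Nontrivial R := by
    by_contra hnt
    rw [not_nontrivial_iff_subsingleton] at hnt
    rw [ringKrullDim_eq_bot_of_subsingleton] at hr
    exact absurd hr (by simp)
  haveI : Nontrivial S := by
    by_contra hnt
    rw [not_nontrivial_iff_subsingleton] at hnt
    rw [ringKrullDim_eq_bot_of_subsingleton] at hs
    exact absurd hs (by simp)
  haveI : IsNoetherianRing T :=
    Groth.Agent.S18646.result k R 𝒜 hposR h0R S ℬ hposS h0S T 𝒯 ψ hψ hdegT
  haveI : Nontrivial (TensorProduct k R S) :=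
    Algebra.TensorProduct.nontrivial_of_algebraMap_injective_of_flat_left k R S
      (algebraMap k S).injective
  haveI : Nontrivial T := ⟨⟨0, 1, fun h => by
    have h1 : ψ 0 = ψ 1 := congrArg ψ h
    rw [map_zero, map_one] at h1
    exact zero_ne_one h1⟩⟩
  have hposT := LeadSP.hposT 𝒜 ℬ 𝒯 ψ hψ hdegT hposR
  have h0T := LeadSP.h0T 𝒜 ℬ 𝒯 ψ hψ hdegT h0R h0S
  let mT : HomogeneousIdeal 𝒯 := ⟨Ideal.span (⋃ n ∈ Set.Ioi (0 : ℤ), (𝒯 n : Set T)),
    Ideal.homogeneous_span 𝒯 _ (by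
      intro x hx
      obtain ⟨n, -, hxn⟩ := Set.mem_iUnion₂.mp hx
      exact ⟨n, hxn⟩)⟩
  have hmT : mT.toIdeal = Ideal.span (⋃ n ∈ Set.Ioi (0 : ℤ), (𝒯 n : Set T)) := rfl
  obtain ⟨IT⟩ := nonempty_starInjRes_self 𝒯
  have hr' : ringKrullDim R = ((r - 1 + 1 : ℕ) : WithBot ℕ∞) := by
    rw [Nat.sub_add_cancel (by omega)]
    exact hr
  have hs' : ringKrullDim S = ((s - 1 + 1 : ℕ) : WithBot ℕ∞) := by
    rw [Nat.sub_add_cancel (by omega)]
    exact hs
  have hdimT := LeadSeg.ringKrullDim_segre 𝒜 ℬ hposR h0R hposS h0S 𝒯 ψ hψ hdegT (r - 1) (s - 1)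
    hr' hs'
  have e : r - 1 + (s - 1) + 1 = r + s - 1 := by omega
  rw [e] at hdimT
  have hR : ∀ (q : ℕ) (d : ℤ), q ≤ 1 → I.Hcomp mR q d = ⊥ := fun q d hq =>
    Hcomp_eq_bot_of_lt_dim 𝒜 hposR h0R mR hmR I hr (by omega) d
  have hS : ∀ (q : ℕ) (d : ℤ), q ≤ 1 → J.Hcomp mS q d = ⊥ := fun q d hq =>
    Hcomp_eq_bot_of_lt_dim ℬ hposS h0S mS hmS J hs (by omega) d
  have hF := fun (q : ℕ) (d : ℤ) => Groth.Agent.S18673.result k R 𝒜 hposR h0R S ℬ hposS h0S T 𝒯 ψ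
    hψ hdegT mR hmR I mS hmS J mT hmT IT hR hS q d
  exact isCohenMacaulayRing_segre_iff_of_formula 𝒜 ℬ 𝒯 hposR h0R hposS h0S hposT h0T mR hmR I
    mS hmS J mT hmT IT hr hs h2r h2s hdimT hF

end Groth.Agent.S18652
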