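import Groth.Statements.S18649
import Groth.Agent.Lib.T2H3KunZP
import Groth.Agent.Lib.T2H3KunZO
import Groth.Agent.Lib.T2H3KunZJ
import Groth.Agent.Lib.T2H3KunU
import Groth.Agent.Lib.T2H3KunT
import Groth.Agent.Lib.T2H3KunW
import Groth.Agent.Lib.T2H3KunR
import Groth.Agent.Lib.Helper5GorEquidim
import Groth.Agent.S18646
import Groth.Agent.S18648

set_option autoImplicit false
set_option linter.style.haveILetI false
universe u
open scoped TensorProduct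
open GrSegre

namespace Groth.Agent.S18649

/-- Let R and S be standard graded rings defined over a field k which are Cohen–Macaulay, of dimensions
r ≥ 2 and s ≥ 2. Whenever their Segre product T = R # S is Gorenstein, both R and S are Gorenstein,
and their a-invariants agree and are negative: a(R) = a(S) < 0. Here a graded ring defined over k is
a commutative k-algebra of finite type, graded in nonnegative degrees by k-subspaces with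
degree-zero part k·1, and it is standard graded when its irrelevant ideal is generated by the
degree-one piece; the a-invariant a(R) is the largest degree in which the graded local cohomology
H^{dim R}_{R_+}(R), computed from a *injective resolution of R in the graded category, is nonzero;
the Segre product T = R # S = ⊕_n R_n ⊗_k S_n is presented abstractly as a graded k-algebra T with
an injective k-algebra homomorphism ψ : T → R ⊗_k S carrying T_n onto the k-span of the elementary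
tensors a ⊗ b with a ∈ R_n, b ∈ S_n. -/
theorem result (k : Type u) [Field k] (R : Type u) [CommRing R] [Algebra k R] (𝒜 : ℤ → Submodule k R) [GradedAlgebra 𝒜] (hposR : ∀ n : ℤ, n < 0 → 𝒜 n = ⊥) (h0R : 𝒜 0 = Submodule.span k {(1 : R)}) [Algebra.FiniteType k R] (S : Type u) [CommRing S] [Algebra k S] (ℬ : ℤ → Submodule k S) [GradedAlgebra ℬ] (hposS : ∀ n : ℤ, n < 0 → ℬ n = ⊥) (h0S : ℬ 0 = Submodule.span k {(1 : S)}) [Algebra.FiniteType k S] (T : Type u) [CommRing T] [Algebra k T] (𝒯 : ℤ → Submodule k T) [GradedAlgebra 𝒯] (ψ : T →ₐ[k] TensorProduct k R S) (hψ : Function.Injective ψ) (hdegT : ∀ n : ℤ, (𝒯 n).map ψ.toLinearMap = Submodule.span k {x : TensorProduct k R S | ∃ a ∈ 𝒜 n, ∃ b ∈ ℬ n, x = a ⊗ₜ[k] b}) [LocCoh.IsCohenMacaulayRing R] [LocCoh.IsCohenMacaulayRing S] (mR : HomogeneousIdeal 𝒜) (hmR : mR.toIdeal = Ideal.span (⋃ n ∈ Set.Ioi (0 : ℤ), (𝒜 n : Set R)))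 (hstdR : Ideal.span (⋃ n ∈ Set.Ioi (0 : ℤ), (𝒜 n : Set R)) = Ideal.span ((𝒜 1 : Submodule k R) : Set R)) (I : GrLC.StarInjRes 𝒜 𝒜) (mS : HomogeneousIdeal ℬ) (hmS : mS.toIdeal = Ideal.span (⋃ n ∈ Set.Ioi (0 : ℤ), (ℬ n : Set S))) (hstdS : Ideal.span (⋃ n ∈ Set.Ioi (0 : ℤ), (ℬ n : Set S)) = Ideal.span ((ℬ 1 : Submodule k S) : Set S)) (J : GrLC.StarInjRes ℬ ℬ) (r s : ℕ) (hr : ringKrullDim R = r) (hs : ringKrullDim S = s) (h2r : 2 ≤ r) (h2s : 2 ≤ s) [LocCoh.IsGorensteinRing T] : LocCoh.IsGorensteinRing R ∧ LocCoh.IsGorensteinRing S ∧ GrLC.endDeg (I.Hgr mR r) = GrLC.endDeg (J.Hgr mS s) ∧ GrLC.endDeg (I.Hgr mR r) < 0 := by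
  classical
  open Groth.Agent.Lib.T2H3.Kun Groth.Agent.Lib Groth.Agent.Lib.T2H3.GrTr
    Groth.Agent.Lib.Helper29GrShift Groth.Agent.Lib.T2H3.GrLes Groth.Agent.Lib.T2H3.GrArt in
  haveI : Nontrivial R := by
    by_contra hnt
    rw [not_nontrivial_iff_subsingleton] at hnt
    rw [ringKrullDim_eq_bot_of_subsingleton] at hr
    exact absurd hr (by simp)
  haveI : Nontrivial S := by
    by_contra hnt
    rw [not_nontrivial_iff_subsingleton] at hnt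
    rw [ringKrullDim_eq_bot_of_subsingleton] at hs
    exact absurd hs (by simp)
  haveI : IsNoetherianRing R := Algebra.FiniteType.isNoetherianRing k R
  haveI : IsNoetherianRing S := Algebra.FiniteType.isNoetherianRing k S
  haveI : IsNoetherianRing T :=
    Groth.Agent.S18646.result k R 𝒜 hposR h0R S ℬ hposS h0S T 𝒯 ψ hψ hdegT
  haveI : Nontrivial (TensorProduct k R S) :=
    Algebra.TensorProduct.nontrivial_of_algebraMap_injective_of_flat_left k R S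
      (algebraMap k S).injective
  haveI : Nontrivial T := ⟨⟨0, 1, fun h => by
    have h1 : ψ 0 = ψ 1 := congrArg ψ h
    rw [map_zero, map_one] at h1
    exact zero_ne_one h1⟩⟩
  haveI cmT : LocCoh.IsCohenMacaulayRing T :=
    Groth.Agent.Lib.Helper5.GorUnmixed.isCohenMacaulayRing_of_isGorensteinRing T
  have hposT := LeadSP.hposT 𝒜 ℬ 𝒯 ψ hψ hdegT hposR
  have h0T := LeadSP.h0T 𝒜 ℬ 𝒯 ψ hψ hdegT h0R h0S
  haveI : Algebra.FiniteType k T := finiteType_of_isNoetherianRing 𝒯 hposT h0T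
  have hT : GrSeg.IsSegreRing 𝒜 ℬ 𝒯 ψ := ⟨hψ, hdegT⟩
  let mT : HomogeneousIdeal 𝒯 := ⟨Ideal.span (⋃ n ∈ Set.Ioi (0 : ℤ), (𝒯 n : Set T)),
    Ideal.homogeneous_span 𝒯 _ (by
      intro x hx
      obtain ⟨n, -, hxn⟩ := Set.mem_iUnion₂.mp hx
      exact ⟨n, hxn⟩)⟩
  have hmT : mT.toIdeal = Ideal.span (⋃ n ∈ Set.Ioi (0 : ℤ), (𝒯 n : Set T)) := rfl
  obtain ⟨IT⟩ := nonempty_starInjRes_self 𝒯
  have hneg := (Groth.Agent.S18648.result k R 𝒜 hposR h0R S ℬ hposS h0S T 𝒯 ψ hψ hdegT mR hmR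
    hstdR I mS hmS hstdS J r s hr hs h2r h2s).1 cmT
  have h1R : 1 ≤ ringKrullDim R := by
    rw [hr]
    have : 1 ≤ r := by omega
    exact_mod_cast this
  have h1S : 1 ≤ ringKrullDim S := by
    rw [hs]
    have : 1 ≤ s := by omega
    exact_mod_cast this
  have hneA := piece_ne_bot 𝒜 hposR h0R hstdR h1R
  have hneB := piece_ne_bot ℬ hposS h0S hstdS h1S
  obtain ⟨r', rfl⟩ : ∃ r', r = r' + 1 + 1 := ⟨r - 2, by omega⟩
  obtain ⟨s', rfl⟩ : ∃ s', s = s' + 1 + 1 := ⟨s - 2, by omega⟩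
  have hdimT : ringKrullDim T = ((r' + 1 + (s' + 1) + 1 : ℕ) : WithBot ℕ∞) :=
    LeadSeg.ringKrullDim_segre 𝒜 ℬ hposR h0R hposS h0S 𝒯 ψ hψ hdegT (r' + 1) (s' + 1) hr hs
  -- the `k`-structures
  letI mkR0 : ∀ n, Module k (I.X n).carrier := fun n => Module.compHom _ (algebraMap k R)
  haveI twR0 : ∀ n, IsScalarTower k R (I.X n).carrier := fun n =>
    IsScalarTower.of_algebraMap_smul (fun _ _ => rfl)
  letI mkS0 : ∀ n, Module k (J.X n).carrier := fun n => Module.compHom _ (algebraMap k S)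
  haveI twS0 : ∀ n, IsScalarTower k S (J.X n).carrier := fun n =>
    IsScalarTower.of_algebraMap_smul (fun _ _ => rfl)
  letI mkT0 : ∀ n, Module k (IT.X n).carrier := fun n => Module.compHom _ (algebraMap k T)
  haveI twT0 : ∀ n, IsScalarTower k T (IT.X n).carrier := fun n =>
    IsScalarTower.of_algebraMap_smul (fun _ _ => rfl)
  letI mkR : ∀ n, Module k ((resSelf 𝒜 I).X n).carrier := mkR0
  haveI twR : ∀ n, IsScalarTower k R ((resSelf 𝒜 I).X n).carrier := twR0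
  letI mkS : ∀ n, Module k ((resSelf ℬ J).X n).carrier := mkS0
  haveI twS : ∀ n, IsScalarTower k S ((resSelf ℬ J).X n).carrier := twS0
  letI mkT : ∀ n, Module k ((resSelf 𝒯 IT).X n).carrier := mkT0
  haveI twT : ∀ n, IsScalarTower k T ((resSelf 𝒯 IT).X n).carrier := twT0
  letI decR0 : DirectSum.Decomposition (I.Hgr mR (r' + 1 + 1)) :=
    HgrDecomposition (resTo 𝒜 𝒜 I) (hiTo 𝒜 mR) (r' + 1 + 1)
  letI decS0 : DirectSum.Decomposition (J.Hgr mS (s' + 1 + 1)) :=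
    HgrDecomposition (resTo ℬ ℬ J) (hiTo ℬ mS) (s' + 1 + 1)
  letI decT0 : DirectSum.Decomposition (IT.Hgr mT (r' + 1 + (s' + 1) + 1)) :=
    HgrDecomposition (resTo 𝒯 𝒯 IT) (hiTo 𝒯 mT) (r' + 1 + (s' + 1) + 1)
  letI decR : DirectSum.Decomposition ((resSelf 𝒜 I).Hgr mR (r' + 1 + 1)) := decR0
  letI decS : DirectSum.Decomposition ((resSelf ℬ J).Hgr mS (s' + 1 + 1)) := decS0
  letI decT : DirectSum.Decomposition ((resSelf 𝒯 IT).Hgr mT (r' + 1 + (s' + 1) + 1)) := decT0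
  haveI gsR0 : SetLike.GradedSMul 𝒜 (I.Hgr mR (r' + 1 + 1)) :=
    gradedSMul_of_asGr 𝒜 _ (Hgr_gradedSMul (resTo 𝒜 𝒜 I) (hiTo 𝒜 mR) (r' + 1 + 1))
  haveI gsS0 : SetLike.GradedSMul ℬ (J.Hgr mS (s' + 1 + 1)) :=
    gradedSMul_of_asGr ℬ _ (Hgr_gradedSMul (resTo ℬ ℬ J) (hiTo ℬ mS) (s' + 1 + 1))
  haveI gsT0 : SetLike.GradedSMul 𝒯 (IT.Hgr mT (r' + 1 + (s' + 1) + 1)) :=
    gradedSMul_of_asGr 𝒯 _ (Hgr_gradedSMul (resTo 𝒯 𝒯 IT) (hiTo 𝒯 mT) (r' + 1 + (s' + 1) + 1))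
  haveI gsR : SetLike.GradedSMul 𝒜 ((resSelf 𝒜 I).Hgr mR (r' + 1 + 1)) := gsR0
  haveI gsS : SetLike.GradedSMul ℬ ((resSelf ℬ J).Hgr mS (s' + 1 + 1)) := gsS0
  haveI gsT : SetLike.GradedSMul 𝒯 ((resSelf 𝒯 IT).Hgr mT (r' + 1 + (s' + 1) + 1)) := gsT0
  -- `H_T` is the graded dual of `T(a)`
  obtain ⟨a, βT, hβT⟩ : ∃ (a : ℤ)
      (β : (resSelf 𝒯 IT).H mT (r' + 1 + (s' + 1) + 1) →ₗ[k] T →ₗ[k] k),
      GrSeg.IsGDual T (shiftGr (asGr 𝒯) a) ((resSelf 𝒯 IT).Hgr mT (r' + 1 + (s' + 1) + 1)) β :=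
    exists_isGDual_of_gorenstein k 𝒯 hposT h0T mT hmT IT (r' + 1 + (s' + 1) + 1) hdimT
  have hMv : ∀ d i, r' + 2 < i → (resSelf 𝒜 I).Hcomp mR i d = ⊥ := fun d i hi =>
    Hcomp_eq_bot_of_dim_lt 𝒜 h0R mR I hr hi d
  have hNv : ∀ d j, s' + 2 < j → (resSelf ℬ J).Hcomp mS j d = ⊥ := fun d j hj =>
    Hcomp_eq_bot_of_dim_lt ℬ h0S mS J hs hj d
  obtain ⟨Θ, hΘ⟩ := exists_isSegreMod_Htop k R 𝒜 hposR h0R S ℬ hposS h0S T 𝒯 ψ hT
    mR hmR mS hmS mT hmT R (asGr 𝒜) (resSelf 𝒜 I) S (asGr ℬ) (resSelf ℬ J) T (asGr 𝒯)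
    ψ.toLinearMap (isSegreMod_self 𝒜 ℬ 𝒯 ψ hψ hdegT) (resSelf 𝒯 IT) r' s' hMv hNv
  obtain ⟨lamR, lamS, hlamR, hlamS, hstar⟩ := exists_top_functionals 𝒜 ℬ 𝒯 ψ hT h0T
    ((resSelf 𝒜 I).Hgr mR (r' + 1 + 1)) ((resSelf ℬ J).Hgr mS (s' + 1 + 1))
    ((resSelf 𝒯 IT).Hgr mT (r' + 1 + (s' + 1) + 1)) Θ hΘ a hβT
  obtain ⟨hiL, hsL, hiR, hsR⟩ := top_pairing_props 𝒜 ℬ 𝒯 ψ hT
    ((resSelf 𝒜 I).Hgr mR (r' + 1 + 1)) ((resSelf ℬ J).Hgr mS (s' + 1 + 1))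
    ((resSelf 𝒯 IT).Hgr mT (r' + 1 + (s' + 1) + 1)) Θ hΘ a hβT lamR lamS hstar hneA hneB
  obtain ⟨lamR', hlamR', hiL', hsL'⟩ : ∃ lam : I.H mR (r' + 1 + 1) →ₗ[k] k,
      Groth.Agent.Lib.LeadGD.IsHomFun (I.Hgr mR (r' + 1 + 1)) lam a ∧
      (∀ i : ℤ, i ≤ a → ∀ h ∈ I.Hgr mR (r' + 1 + 1) i,
        (∀ r ∈ 𝒜 (a - i), lam (r • h) = 0) → h = 0) ∧
      (∀ i : ℤ, i ≤ a → ∀ g : R →ₗ[k] k,
        ∃ h ∈ I.Hgr mR (r' + 1 + 1) i, ∀ r ∈ 𝒜 (a - i), lam (r • h) = g r) :=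
    ⟨lamR, hlamR, hiL, hsL⟩
  obtain ⟨lamS', hlamS', hiR', hsR'⟩ : ∃ lam : J.H mS (s' + 1 + 1) →ₗ[k] k,
      Groth.Agent.Lib.LeadGD.IsHomFun (J.Hgr mS (s' + 1 + 1)) lam a ∧
      (∀ i : ℤ, i ≤ a → ∀ h ∈ J.Hgr mS (s' + 1 + 1) i,
        (∀ y ∈ ℬ (a - i), lam (y • h) = 0) → h = 0) ∧
      (∀ i : ℤ, i ≤ a → ∀ g : S →ₗ[k] k,
        ∃ h ∈ J.Hgr mS (s' + 1 + 1) i, ∀ y ∈ ℬ (a - i), lam (y • h) = g y) :=
    ⟨lamS, hlamS, hiR, hsR⟩
  obtain ⟨gorR, eR⟩ := isGorensteinRing_of_top_pairing k 𝒜 hposR h0R mR hmR I (r' + 1 + 1) hr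
    (by omega) lamR' a hlamR' hiL' hsL'
  obtain ⟨gorS, eS⟩ := isGorensteinRing_of_top_pairing k ℬ hposS h0S mS hmS J (s' + 1 + 1) hs
    (by omega) lamS' a hlamS' hiR' hsR'
  exact ⟨gorR, gorS, eR.trans eS.symm, hneg.1⟩

end Groth.Agent.S18649
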