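import Groth.Statements.S18651
import Groth.Agent.Lib.T2H3GorCanon
import Groth.Agent.Lib.T2H3WPoly

set_option autoImplicit false
set_option linter.style.haveILetI false
universe u
attribute [local instance] MvPolynomial.weightedGradedAlgebra
open GrLC

namespace Groth.Agent.S18651

/-- Let k be a field and R = k[X_1, …, X_N] the polynomial ring with deg X_i = w_i > 0. Then the
canonical module of R is K_R = X_1 X_2 ⋯ X_N · R ≅ R(−d) with d = w_1 + ⋯ + w_N; stated here as:
there is a bijective R-linear map R → K_R homogeneous of degree d. The canonical module is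
represented by a finitely generated graded module C together with a homogeneous isomorphism from
Hom_R(C, E) onto H^N_m(R), where m = R_+, E is a *injective envelope of R/m and H^N_m(R) is computed
from a *injective resolution of R in the graded category; by graded Matlis duality this says exactly
that C ≅ K_R as graded modules. -/
theorem result (k : Type u) [Field k] (N : ℕ) (w : Fin N → ℤ) (hw : ∀ i, 0 < w i) (m : HomogeneousIdeal (MvPolynomial.weightedHomogeneousSubmodule k w)) (hm : GrLC.IsStarLocal (MvPolynomial.weightedHomogeneousSubmodule k w) m) (hmsp : m.toIdeal = Ideal.span (⋃ n ∈ Set.Ioi (0 : ℤ), (MvPolynomial.weightedHomogeneousSubmodule k w n : Set (MvPolynomial (Fin N) k)))) (I : GrLC.StarInjRes (MvPolynomial.weightedHomogeneousSubmodule k w) (MvPolynomial.weightedHomogeneousSubmodule k w)) (E' : Type u) [AddCommGroup E'] [Module (MvPolynomial (Fin N) k) E'] (𝓔 : ℤ → AddSubgroup E') [DirectSum.Decomposition 𝓔] [SetLike.GradedSMul (MvPolynomial.weightedHomogeneousSubmodule k w) 𝓔] (e : (MvPolynomial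 (Fin N) k ⧸ m.toIdeal) →ₗ[MvPolynomial (Fin N) k] E') (he : GrLC.IsStarInjHull (MvPolynomial.weightedHomogeneousSubmodule k w) (GrLC.quotGr (MvPolynomial.weightedHomogeneousSubmodule k w) m) 𝓔 e) (C : Type u) [AddCommGroup C] [Module (MvPolynomial (Fin N) k) C] (𝒞 : ℤ → AddSubgroup C) [DirectSum.Decomposition 𝒞] [SetLike.GradedSMul (MvPolynomial.weightedHomogeneousSubmodule k w) 𝒞] (hC : GrLC.IsStarCanonical (MvPolynomial.weightedHomogeneousSubmodule k w) 𝒞 𝓔 m N I) : ∃ f : MvPolynomial (Fin N) k →ₗ[MvPolynomial (Fin N) k] C, Function.Bijective f ∧ GrLC.IsGrHomDeg (MvPolynomial.weightedHomogeneousSubmodule k w) 𝒞 f ((Finset.univ : Finset (Fin N)).sum w) := by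
  classical
  open Groth.Agent.Lib.T2H3.GrTr Groth.Agent.Lib.T2H3.WPoly Groth.Agent.Lib.T2H3.GrArt
    Groth.Agent.Lib.T2H3.GrAinv in
  have hm' : GrLC.IsStarLocal (𝒲 k N w) (hiTo (MvPolynomial.weightedHomogeneousSubmodule k w) m) :=
    isStarLocal_hiTo (MvPolynomial.weightedHomogeneousSubmodule k w) hm
  have hmsp' : (hiTo (MvPolynomial.weightedHomogeneousSubmodule k w) m).toIdeal =
      Groth.Agent.Lib.T2H3.GrIrr.irr (𝒲 k N w) := hmsp
  have he' := isStarInjHull_asGr (MvPolynomial.weightedHomogeneousSubmodule k w) 𝓔 e he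
  have hC' := isStarCanonical_asGr (MvPolynomial.weightedHomogeneousSubmodule k w) 𝓔 𝒞 N I hC
  haveI := cm k N
  haveI := gor k N
  have hht : (hiTo (MvPolynomial.weightedHomogeneousSubmodule k w) m).toIdeal.height = N := by
    haveI hmax := isMaximal_of_isStarLocal (wpos k N hw) hm'
    exact Groth.Agent.Lib.Helper28.height_eq_of_isMaximal_mvPolynomial_fin k N _ hmax
  obtain ⟨D, f, hfbij, hfD⟩ := Groth.Agent.Lib.T2H3.GorCanon.exists_free_generator
    (MvPolynomial (Fin N) k) (𝒲 k N w) (hiTo (MvPolynomial.weightedHomogeneousSubmodule k w) m)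
    hm' N hht (resTo (MvPolynomial.weightedHomogeneousSubmodule k w)
      (MvPolynomial.weightedHomogeneousSubmodule k w) I) E' 𝓔 e he' C 𝒞 hC'
  have h1 := Groth.Agent.Lib.T2H3.CanonDeg.endDeg_H_eq (𝒲 k N w) (wpos k N hw) hm' 𝓔 e he' 𝒞 N
    (resTo (MvPolynomial.weightedHomogeneousSubmodule k w)
      (MvPolynomial.weightedHomogeneousSubmodule k w) I) hC' f hfbij D hfD
  have h2 := endDeg_H_top k N hw hm' hmsp'
    (resTo (MvPolynomial.weightedHomogeneousSubmodule k w)
      (MvPolynomial.weightedHomogeneousSubmodule k w) I)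
  have hD : D = (Finset.univ : Finset (Fin N)).sum w := by
    rw [h1] at h2
    have h3 : (-D : ℤ) = -(Finset.univ : Finset (Fin N)).sum w :=
      WithTop.coe_injective (WithBot.coe_injective h2)
    omega
  refine ⟨f, hfbij, ?_⟩
  intro i r hr
  rw [← hD]
  exact hfD i r hr

end Groth.Agent.S18651
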