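import Groth.Statements.S18659
import Groth.Agent.Lib.T2H3KunZL
import Groth.Agent.Lib.T2H3KunT
import Groth.Agent.Lib.T2H3KunW
import Groth.Agent.Lib.T2H3KunR
import Groth.Agent.S18646

set_option autoImplicit false
set_option linter.style.haveILetI false
universe u
open scoped TensorProduct
open GrSegre

namespace Groth.Agent.S18659

/-- Let R and S be graded rings defined over a field k which are Gorenstein, of dimensions r ≥ 2 and s ≥
2, with a(R) = a(S). If the Segre product T = R # S is a Cohen–Macaulay ring, then T is a Gorenstein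
ring. (No generation in degree one is assumed here.) Here a graded ring defined over k is a
commutative k-algebra of finite type, graded in nonnegative degrees by k-subspaces with degree-zero
part k·1; the a-invariant a(R) is the largest degree in which the graded local cohomology H^{dim
R}_{R_+}(R), computed from a *injective resolution of R in the graded category, is nonzero; the
Segre product T = ⊕_n R_n ⊗_k S_n is presented abstractly as a graded k-algebra T with an injective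
k-algebra homomorphism ψ : T → R ⊗_k S carrying T_n onto the k-span of the elementary tensors a ⊗ b
with a ∈ R_n, b ∈ S_n. -/
theorem result (k : Type u) [Field k] (R : Type u) [CommRing R] [Algebra k R] (𝒜 : ℤ → Submodule k R) [GradedAlgebra 𝒜] (hposR : ∀ n : ℤ, n < 0 → 𝒜 n = ⊥) (h0R : 𝒜 0 = Submodule.span k {(1 : R)}) [Algebra.FiniteType k R] (S : Type u) [CommRing S] [Algebra k S] (ℬ : ℤ → Submodule k S) [GradedAlgebra ℬ] (hposS : ∀ n : ℤ, n < 0 → ℬ n = ⊥) (h0S : ℬ 0 = Submodule.span k {(1 : S)}) [Algebra.FiniteType k S] (T : Type u) [CommRing T] [Algebra k T] (𝒯 : ℤ → Submodule k T) [GradedAlgebra 𝒯] (ψ : T →ₐ[k] TensorProduct k R S) (hψ : Function.Injective ψ) (hdegT : ∀ n : ℤ, (𝒯 n).map ψ.toLinearMap = Submodule.span k {x : TensorProduct k R S | ∃ a ∈ 𝒜 n, ∃ b ∈ ℬ n, x = a ⊗ₜ[k] b}) [LocCoh.IsGorensteinRing R] [LocCoh.IsGorensteinRing S] (mR : HomogeneousIdeal 𝒜) (hmR :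 mR.toIdeal = Ideal.span (⋃ n ∈ Set.Ioi (0 : ℤ), (𝒜 n : Set R))) (I : GrLC.StarInjRes 𝒜 𝒜) (mS : HomogeneousIdeal ℬ) (hmS : mS.toIdeal = Ideal.span (⋃ n ∈ Set.Ioi (0 : ℤ), (ℬ n : Set S))) (J : GrLC.StarInjRes ℬ ℬ) (r s : ℕ) (hr : ringKrullDim R = r) (hs : ringKrullDim S = s) (h2r : 2 ≤ r) (h2s : 2 ≤ s) (haeq : GrLC.endDeg (I.Hgr mR r) = GrLC.endDeg (J.Hgr mS s)) [LocCoh.IsCohenMacaulayRing T] : LocCoh.IsGorensteinRing T := by
  classical
  open Groth.Agent.Lib.T2H3.Kun Groth.Agent.Lib Groth.Agent.Lib.T2H3.GrTr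
    Groth.Agent.Lib.Helper29GrShift Groth.Agent.Lib.T2H3.GrLes Groth.Agent.Lib.T2H3.GrArt in
  haveI : Nontrivial R := by
    by_contra hnt
    rw [not_nontrivial_iff_subsingleton] at hnt
    rw [ringKrullDim_eq_bot_of_subsingleton] at hr
    exact absurd hr (by simp)
  haveI : Nontrivial S := by
    by_contra hnt
    rw [not_nontrivial_iff_subsingleton] at hnt
    rw [ringKrullDim_eq_bot_of_subsingleton] at hs
    exact absurd hs (by simp)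
  haveI : IsNoetherianRing R := Algebra.FiniteType.isNoetherianRing k R
  haveI : IsNoetherianRing S := Algebra.FiniteType.isNoetherianRing k S
  haveI : IsNoetherianRing T :=
    Groth.Agent.S18646.result k R 𝒜 hposR h0R S ℬ hposS h0S T 𝒯 ψ hψ hdegT
  haveI : Nontrivial (TensorProduct k R S) :=
    Algebra.TensorProduct.nontrivial_of_algebraMap_injective_of_flat_left k R S
      (algebraMap k S).injective
  haveI : Nontrivial T := ⟨⟨0, 1, fun h => by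
    have h1 : ψ 0 = ψ 1 := congrArg ψ h
    rw [map_zero, map_one] at h1
    exact zero_ne_one h1⟩⟩
  have hposT := LeadSP.hposT 𝒜 ℬ 𝒯 ψ hψ hdegT hposR
  have h0T := LeadSP.h0T 𝒜 ℬ 𝒯 ψ hψ hdegT h0R h0S
  haveI : Algebra.FiniteType k T := finiteType_of_isNoetherianRing 𝒯 hposT h0T
  let mT : HomogeneousIdeal 𝒯 := ⟨Ideal.span (⋃ n ∈ Set.Ioi (0 : ℤ), (𝒯 n : Set T)),
    Ideal.homogeneous_span 𝒯 _ (by
      intro x hx
      obtain ⟨n, -, hxn⟩ := Set.mem_iUnion₂.mp hx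
      exact ⟨n, hxn⟩)⟩
  have hmT : mT.toIdeal = Ideal.span (⋃ n ∈ Set.Ioi (0 : ℤ), (𝒯 n : Set T)) := rfl
  obtain ⟨IT⟩ := nonempty_starInjRes_self 𝒯
  obtain ⟨r', rfl⟩ : ∃ r', r = r' + 1 + 1 := ⟨r - 2, by omega⟩
  obtain ⟨s', rfl⟩ : ∃ s', s = s' + 1 + 1 := ⟨s - 2, by omega⟩
  have hdimT : ringKrullDim T = ((r' + 1 + (s' + 1) + 1 : ℕ) : WithBot ℕ∞) :=
    LeadSeg.ringKrullDim_segre 𝒜 ℬ hposR h0R hposS h0S 𝒯 ψ hψ hdegT (r' + 1) (s' + 1) hr hs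
  -- the `k`-structures
  letI mkR0 : ∀ n, Module k (I.X n).carrier := fun n => Module.compHom _ (algebraMap k R)
  haveI twR0 : ∀ n, IsScalarTower k R (I.X n).carrier := fun n =>
    IsScalarTower.of_algebraMap_smul (fun _ _ => rfl)
  letI mkS0 : ∀ n, Module k (J.X n).carrier := fun n => Module.compHom _ (algebraMap k S)
  haveI twS0 : ∀ n, IsScalarTower k S (J.X n).carrier := fun n =>
    IsScalarTower.of_algebraMap_smul (fun _ _ => rfl)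
  letI mkT0 : ∀ n, Module k (IT.X n).carrier := fun n => Module.compHom _ (algebraMap k T)
  haveI twT0 : ∀ n, IsScalarTower k T (IT.X n).carrier := fun n =>
    IsScalarTower.of_algebraMap_smul (fun _ _ => rfl)
  letI mkR : ∀ n, Module k ((resSelf 𝒜 I).X n).carrier := mkR0
  haveI twR : ∀ n, IsScalarTower k R ((resSelf 𝒜 I).X n).carrier := twR0
  letI mkS : ∀ n, Module k ((resSelf ℬ J).X n).carrier := mkS0
  haveI twS : ∀ n, IsScalarTower k S ((resSelf ℬ J).X n).carrier := twS0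
  letI mkT : ∀ n, Module k ((resSelf 𝒯 IT).X n).carrier := mkT0
  haveI twT : ∀ n, IsScalarTower k T ((resSelf 𝒯 IT).X n).carrier := twT0
  letI decR0 : DirectSum.Decomposition (I.Hgr mR (r' + 1 + 1)) :=
    HgrDecomposition (resTo 𝒜 𝒜 I) (hiTo 𝒜 mR) (r' + 1 + 1)
  letI decS0 : DirectSum.Decomposition (J.Hgr mS (s' + 1 + 1)) :=
    HgrDecomposition (resTo ℬ ℬ J) (hiTo ℬ mS) (s' + 1 + 1)
  letI decT0 : DirectSum.Decomposition (IT.Hgr mT (r' + 1 + (s' + 1) + 1)) :=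
    HgrDecomposition (resTo 𝒯 𝒯 IT) (hiTo 𝒯 mT) (r' + 1 + (s' + 1) + 1)
  letI decR : DirectSum.Decomposition ((resSelf 𝒜 I).Hgr mR (r' + 1 + 1)) := decR0
  letI decS : DirectSum.Decomposition ((resSelf ℬ J).Hgr mS (s' + 1 + 1)) := decS0
  letI decT : DirectSum.Decomposition ((resSelf 𝒯 IT).Hgr mT (r' + 1 + (s' + 1) + 1)) := decT0
  haveI gsR0 : SetLike.GradedSMul 𝒜 (I.Hgr mR (r' + 1 + 1)) :=
    gradedSMul_of_asGr 𝒜 _ (Hgr_gradedSMul (resTo 𝒜 𝒜 I) (hiTo 𝒜 mR) (r' + 1 + 1))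
  haveI gsS0 : SetLike.GradedSMul ℬ (J.Hgr mS (s' + 1 + 1)) :=
    gradedSMul_of_asGr ℬ _ (Hgr_gradedSMul (resTo ℬ ℬ J) (hiTo ℬ mS) (s' + 1 + 1))
  obtain ⟨aR, βR, hβR⟩ := exists_isGDual_of_gorenstein k 𝒜 hposR h0R mR hmR I (r' + 1 + 1) hr
  obtain ⟨aS, βS, hβS⟩ := exists_isGDual_of_gorenstein k ℬ hposS h0S mS hmS J (s' + 1 + 1) hs
  have eR := endDeg_of_isGDual_shift 𝒜 hposR _ aR hβR
  have eS := endDeg_of_isGDual_shift ℬ hposS _ aS hβS
  have haRS : aR = aS := by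
    rw [eR, eS] at haeq
    exact_mod_cast haeq
  subst haRS
  have hMv : ∀ d i, r' + 2 < i → (resSelf 𝒜 I).Hcomp mR i d = ⊥ := fun d i hi =>
    Hcomp_eq_bot_of_dim_lt 𝒜 h0R mR I hr hi d
  have hNv : ∀ d j, s' + 2 < j → (resSelf ℬ J).Hcomp mS j d = ⊥ := fun d j hj =>
    Hcomp_eq_bot_of_dim_lt ℬ h0S mS J hs hj d
  obtain ⟨Θ, hΘ⟩ := exists_isSegreMod_Htop k R 𝒜 hposR h0R S ℬ hposS h0S T 𝒯 ψ ⟨hψ, hdegT⟩
    mR hmR mS hmS mT hmT R (asGr 𝒜) (resSelf 𝒜 I) S (asGr ℬ) (resSelf ℬ J) T (asGr 𝒯)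
    ψ.toLinearMap (isSegreMod_self 𝒜 ℬ 𝒯 ψ hψ hdegT) (resSelf 𝒯 IT) r' s' hMv hNv
  haveI gsR : SetLike.GradedSMul 𝒜 ((resSelf 𝒜 I).Hgr mR (r' + 1 + 1)) := gsR0
  haveI gsS : SetLike.GradedSMul ℬ ((resSelf ℬ J).Hgr mS (s' + 1 + 1)) := gsS0
  haveI gsA : SetLike.GradedSMul 𝒜 (shiftGr (asGr 𝒜) aR) := shift_gradedSMul_gen 𝒜 (asGr 𝒜) aR
  haveI gsB : SetLike.GradedSMul ℬ (shiftGr (asGr ℬ) aR) := shift_gradedSMul_gen ℬ (asGr ℬ) aR
  have hP0 := isSegreMod_self 𝒜 ℬ 𝒯 ψ hψ hdegT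
  have hP : GrSeg.IsSegreMod ψ (shiftGr (asGr 𝒜) aR) (shiftGr (asGr ℬ) aR)
      (shiftGr (asGr 𝒯) aR) ψ.toLinearMap :=
    ⟨hP0.injective, fun n => hP0.image_piece (n + aR), hP0.map_smul⟩
  have hfM : ∀ n : ℤ, FiniteDimensional k (LeadGD.pc 𝒜 (shiftGr (asGr 𝒜) aR) n) := fun n =>
    LeadGD.finiteDimensional_pc_of_finite 𝒜 (shiftGr (asGr 𝒜) aR) hposR h0R n
  have hfN : ∀ n : ℤ, FiniteDimensional k (LeadGD.pc ℬ (shiftGr (asGr ℬ) aR) n) := fun n =>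
    LeadGD.finiteDimensional_pc_of_finite ℬ (shiftGr (asGr ℬ) aR) hposS h0S n
  have hβT := isGDual_segre 𝒜 ℬ ψ (shiftGr (asGr 𝒜) aR) (shiftGr (asGr ℬ) aR)
    (shiftGr (asGr 𝒯) aR) ((resSelf 𝒜 I).Hgr mR (r' + 1 + 1))
    ((resSelf ℬ J).Hgr mS (s' + 1 + 1))
    ((resSelf 𝒯 IT).Hgr mT (r' + 1 + (s' + 1) + 1)) ψ.toLinearMap hP Θ hΘ hβR hβS hfM hfN
  obtain ⟨βT, hβT'⟩ : ∃ β : IT.H mT (r' + 1 + (s' + 1) + 1) →ₗ[k] T →ₗ[k] k,
      GrSeg.IsGDual T (shiftGr (asGr 𝒯) aR) (IT.Hgr mT (r' + 1 + (s' + 1) + 1)) β := ⟨_, hβT⟩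
  exact isGorensteinRing_of_isGDual_shift k 𝒯 hposT h0T mT hmT IT _ hdimT aR hβT'

end Groth.Agent.S18659
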