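import Groth.Statements.S18663
import Groth.Agent.Lib.T2H3KunZC
import Groth.Agent.Lib.T2H3KunR
import Groth.Agent.Lib.LeadSegH
import Groth.Agent.S18646

set_option autoImplicit false
set_option linter.style.haveILetI false
universe u
open scoped TensorProduct
open GrSegre

namespace Groth.Agent.S18663

/-- Let R and S be graded rings defined over a field k which are Cohen–Macaulay, with dim R = 1 and dim
S = s ≥ 1, and let T = R # S be their Segre product. (iii) If s ≥ 2, then T is a Cohen–Macaulay ring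
if and only if H^1_{R_+}(R) # S = 0, that is, for every degree n, H^1_{R_+}(R)_n = 0 or S_n = 0.
(iv) If s = 1, then T is a Cohen–Macaulay ring. Here a graded ring defined over k is a commutative
k-algebra of finite type, graded in nonnegative degrees by k-subspaces with degree-zero part k·1;
the graded local cohomology pieces are computed from a *injective resolution of R in the graded
category; the Segre product T = ⊕_n R_n ⊗_k S_n is presented abstractly as a graded k-algebra T with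
an injective k-algebra homomorphism ψ : T → R ⊗_k S carrying T_n onto the k-span of the elementary
tensors a ⊗ b with a ∈ R_n, b ∈ S_n. -/
theorem result (k : Type u) [Field k] (R : Type u) [CommRing R] [Algebra k R] (𝒜 : ℤ → Submodule k R) [GradedAlgebra 𝒜] (hposR : ∀ n : ℤ, n < 0 → 𝒜 n = ⊥) (h0R : 𝒜 0 = Submodule.span k {(1 : R)}) [Algebra.FiniteType k R] (S : Type u) [CommRing S] [Algebra k S] (ℬ : ℤ → Submodule k S) [GradedAlgebra ℬ] (hposS : ∀ n : ℤ, n < 0 → ℬ n = ⊥) (h0S : ℬ 0 = Submodule.span k {(1 : S)}) [Algebra.FiniteType k S] (T : Type u) [CommRing T] [Algebra k T] (𝒯 : ℤ → Submodule k T) [GradedAlgebra 𝒯] (ψ : T →ₐ[k] TensorProduct k R S) (hψ : Function.Injective ψ) (hdegT : ∀ n : ℤ, (𝒯 n).map ψ.toLinearMap = Submodule.span k {x : TensorProduct k R S | ∃ a ∈ 𝒜 n, ∃ b ∈ ℬ n, x = a ⊗ₜ[k] b}) [LocCoh.IsCohenMacaulayRing R] [LocCoh.IsCohenMacaulayRing S] (mR : HomogeneousIdeal 𝒜) (hmR : mR.toIdeal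 = Ideal.span (⋃ n ∈ Set.Ioi (0 : ℤ), (𝒜 n : Set R))) (I : GrLC.StarInjRes 𝒜 𝒜) (hr : ringKrullDim R = 1) (s : ℕ) (hs : ringKrullDim S = s) (h1s : 1 ≤ s) : (2 ≤ s → (LocCoh.IsCohenMacaulayRing T ↔ ∀ n : ℤ, I.Hcomp mR 1 n = ⊥ ∨ ℬ n = ⊥)) ∧ (s = 1 → LocCoh.IsCohenMacaulayRing T) := by
  classical
  open Groth.Agent.Lib.T2H3.Kun Groth.Agent.Lib Groth.Agent.Lib.T2H3.GrTr in
  haveI : Nontrivial R := by
    by_contra hnt
    rw [not_nontrivial_iff_subsingleton] at hnt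
    rw [ringKrullDim_eq_bot_of_subsingleton] at hr
    exact absurd hr (by simp)
  haveI : Nontrivial S := by
    by_contra hnt
    rw [not_nontrivial_iff_subsingleton] at hnt
    rw [ringKrullDim_eq_bot_of_subsingleton] at hs
    exact absurd hs (by simp)
  haveI : IsNoetherianRing T :=
    Groth.Agent.S18646.result k R 𝒜 hposR h0R S ℬ hposS h0S T 𝒯 ψ hψ hdegT
  haveI : Nontrivial (TensorProduct k R S) :=
    Algebra.TensorProduct.nontrivial_of_algebraMap_injective_of_flat_left k R S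
      (algebraMap k S).injective
  haveI : Nontrivial T := ⟨⟨0, 1, fun h => by
    have h1 : ψ 0 = ψ 1 := congrArg ψ h
    rw [map_zero, map_one] at h1
    exact zero_ne_one h1⟩⟩
  have hposT := LeadSP.hposT 𝒜 ℬ 𝒯 ψ hψ hdegT hposR
  have h0T := LeadSP.h0T 𝒜 ℬ 𝒯 ψ hψ hdegT h0R h0S
  let mS : HomogeneousIdeal ℬ := ⟨Ideal.span (⋃ n ∈ Set.Ioi (0 : ℤ), (ℬ n : Set S)),
    Ideal.homogeneous_span ℬ _ (by
      intro x hx
      obtain ⟨n, -, hxn⟩ := Set.mem_iUnion₂.mp hx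
      exact ⟨n, hxn⟩)⟩
  have hmS : mS.toIdeal = Ideal.span (⋃ n ∈ Set.Ioi (0 : ℤ), (ℬ n : Set S)) := rfl
  let mT : HomogeneousIdeal 𝒯 := ⟨Ideal.span (⋃ n ∈ Set.Ioi (0 : ℤ), (𝒯 n : Set T)),
    Ideal.homogeneous_span 𝒯 _ (by
      intro x hx
      obtain ⟨n, -, hxn⟩ := Set.mem_iUnion₂.mp hx
      exact ⟨n, hxn⟩)⟩
  have hmT : mT.toIdeal = Ideal.span (⋃ n ∈ Set.Ioi (0 : ℤ), (𝒯 n : Set T)) := rfl
  obtain ⟨J⟩ := nonempty_starInjRes_self ℬ
  obtain ⟨IT⟩ := nonempty_starInjRes_self 𝒯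
  have hr' : ringKrullDim R = ((1 : ℕ) : WithBot ℕ∞) := by
    rw [hr]
    rfl
  have hr'' : ringKrullDim R = ((0 + 1 : ℕ) : WithBot ℕ∞) := hr'
  have hs' : ringKrullDim S = ((s - 1 + 1 : ℕ) : WithBot ℕ∞) := by
    rw [Nat.sub_add_cancel h1s]
    exact hs
  have hdimT := LeadSeg.ringKrullDim_segre 𝒜 ℬ hposR h0R hposS h0S 𝒯 ψ hψ hdegT 0 (s - 1)
    hr'' hs'
  have e : 0 + (s - 1) + 1 = s := by omega
  rw [e] at hdimT
  have hR0 : ∀ d : ℤ, I.Hcomp mR 0 d = ⊥ := fun d =>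
    Hcomp_eq_bot_of_lt_dim 𝒜 hposR h0R mR hmR I hr' (by omega) d
  have hS0 : ∀ d : ℤ, J.Hcomp mS 0 d = ⊥ := fun d =>
    Hcomp_eq_bot_of_lt_dim ℬ hposS h0S mS hmS J hs (by omega) d
  have hF : ∀ (q : ℕ) (d : ℤ), Module.finrank (GrLC.deg0 𝒯) (IT.Hcomp mT q d) =
      Module.finrank k (𝒜 d) * Module.finrank (GrLC.deg0 ℬ) (J.Hcomp mS q d) +
        Module.finrank (GrLC.deg0 𝒜) (I.Hcomp mR q d) * Module.finrank k (ℬ d) +
        (Finset.range (q + 2)).sum (fun i => Module.finrank (GrLC.deg0 𝒜) (I.Hcomp mR i d) *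
          Module.finrank (GrLC.deg0 ℬ) (J.Hcomp mS (q + 1 - i) d)) := by
    intro q d
    have h := finrank_Hcomp_segreMod_of_depth_pos k R 𝒜 hposR h0R S ℬ hposS h0S T 𝒯 ψ
      ⟨hψ, hdegT⟩ mR hmR mS hmS mT hmT R (asGr 𝒜) (resSelf 𝒜 I) S (asGr ℬ) (resSelf ℬ J) T
      (asGr 𝒯) ψ.toLinearMap (isSegreMod_self 𝒜 ℬ 𝒯 ψ hψ hdegT) (resSelf 𝒯 IT) hR0 hS0 q d
    rw [finrank_comp_self 𝒜 h0R d, finrank_comp_self ℬ h0S d] at h
    exact h
  exact isCohenMacaulayRing_segre_dim_one_of_formula 𝒜 ℬ 𝒯 hposR h0R hposS h0S hposT h0T mR hmR I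
    mS hmS J mT hmT IT hr' hs hdimT hF

end Groth.Agent.S18663
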