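import Groth.Statements.S19757
import Groth.Agent.Lib.T2H3KunZM
import Groth.Agent.Lib.T2H3KunZK
import Groth.Agent.Lib.T2H3KunZJ
import Groth.Agent.Lib.T2H3KunT
import Groth.Agent.Lib.T2H3KunW
import Groth.Agent.Lib.T2H3KunR
import Groth.Agent.S18646
import Groth.Agent.S19747

set_option autoImplicit false
set_option linter.style.haveILetI false
universe u
open scoped TensorProduct
open GrSegre

namespace Groth.Agent.S19757

/-- Let R and S be graded rings defined over a field k of dimensions r ≥ 2 and s ≥ 2 and T = R # S their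
Segre product (of dimension r + s − 1). Then K_T ≅ K_R # K_S: the Segre product of canonical modules
of R and S is a canonical module of T. Here a graded ring defined over k is a commutative k-algebra
of finite type, graded in nonnegative degrees by k-subspaces with degree-zero part k·1; the Segre
product T = R # S = ⊕_n R_n ⊗_k S_n is presented abstractly as a graded k-algebra T with an
injective k-algebra homomorphism ψ : T → R ⊗_k S carrying T_n onto the k-span of the elementary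
tensors a ⊗ b with a ∈ R_n, b ∈ S_n; the Segre product M # N = ⊕_n M_n ⊗_k N_n of a graded R-module
M and a graded S-module N is presented abstractly as a graded T-module P with an injective k-linear
map φ : P → M ⊗_k N carrying P_n onto the k-span of the tensors x ⊗ y with x ∈ M_n, y ∈ N_n and
turning the action of t ∈ T into that of ψ(t) (acting factorwise on M ⊗_k N); the canonical module
of a graded ring A defined over k with irrelevant ideal A_+ and dim A = d (the graded k-dual of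
H^d_{A_+}(A)) is represented by a finitely generated graded A-module C together with an A-linear
isomorphism from Hom_A(C, E) onto H^d_{A_+}(A) sending maps homogeneous of degree j to classes of
degree j, where E is a *injective envelope of A/A_+ in the graded category and H^d_{A_+}(A) is
computed from a *injective resolution of A in the graded category. (A degree-by-degree dimension
count of the same result is stated separately; this is the module form.) -/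
theorem result (k : Type u) [Field k] (R : Type u) [CommRing R] [Algebra k R] (𝒜 : ℤ → Submodule k R) [GradedAlgebra 𝒜] (hposR : ∀ n : ℤ, n < 0 → 𝒜 n = ⊥) (h0R : 𝒜 0 = Submodule.span k {(1 : R)}) [Algebra.FiniteType k R] (S : Type u) [CommRing S] [Algebra k S] (ℬ : ℤ → Submodule k S) [GradedAlgebra ℬ] (hposS : ∀ n : ℤ, n < 0 → ℬ n = ⊥) (h0S : ℬ 0 = Submodule.span k {(1 : S)}) [Algebra.FiniteType k S] (T : Type u) [CommRing T] [Algebra k T] (𝒯 : ℤ → Submodule k T) [GradedAlgebra 𝒯] (ψ : T →ₐ[k] TensorProduct k R S) (hT : GrSeg.IsSegreRing 𝒜 ℬ 𝒯 ψ) (mR : HomogeneousIdeal 𝒜) (hmR : mR.toIdeal = Ideal.span (⋃ n ∈ Set.Ioi (0 : ℤ), (𝒜 n : Set R))) (I : GrLC.StarInjRes 𝒜 𝒜) (mS : HomogeneousIdeal ℬ) (hmS : mS.toIdeal = Ideal.span (⋃ n ∈ Set.Ioi (0 : ℤ), (ℬ n : Set S))) (J : GrLC.StarInjRes ℬ ℬ) (mT : HomogeneousIdeal 𝒯) (hmT : mT.toIdeal = Ideal.span (⋃ n ∈ Set.Ioi (0 : ℤ),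 (𝒯 n : Set T))) (IT : GrLC.StarInjRes 𝒯 𝒯) (r s : ℕ) (hr : ringKrullDim R = r) (hs : ringKrullDim S = s) (h2r : 2 ≤ r) (h2s : 2 ≤ s) (ER : Type u) [AddCommGroup ER] [Module R ER] (𝓔R : ℤ → AddSubgroup ER) [DirectSum.Decomposition 𝓔R] [SetLike.GradedSMul 𝒜 𝓔R] (eR : (R ⧸ mR.toIdeal) →ₗ[R] ER) (heR : GrLC.IsStarInjHull 𝒜 (GrLC.quotGr 𝒜 mR) 𝓔R eR) (CR : Type u) [AddCommGroup CR] [Module R CR] [Module k CR] [IsScalarTower k R CR] (𝒞R : ℤ → AddSubgroup CR) [DirectSum.Decomposition 𝒞R] [SetLike.GradedSMul 𝒜 𝒞R] (hCR : GrLC.IsStarCanonical 𝒜 𝒞R 𝓔R mR r I) (ES : Type u) [AddCommGroup ES] [Module S ES] (𝓔S : ℤ → AddSubgroup ES) [DirectSum.Decomposition 𝓔S] [SetLike.GradedSMul ℬ 𝓔S] (eS : (S ⧸ mS.toIdeal) →ₗ[S] ES) (heS : GrLC.IsStarInjHull ℬ (GrLC.quotGr ℬ mS) 𝓔S eS) (CS : Type u) [AddCommGroup CS] [Module S CS] [Module k CS] [IsScalarTower k S CS] (𝒞S : ℤ → AddSubgroup CS)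 [DirectSum.Decomposition 𝒞S] [SetLike.GradedSMul ℬ 𝒞S] (hCS : GrLC.IsStarCanonical ℬ 𝒞S 𝓔S mS s J) (ET : Type u) [AddCommGroup ET] [Module T ET] (𝓔T : ℤ → AddSubgroup ET) [DirectSum.Decomposition 𝓔T] [SetLike.GradedSMul 𝒯 𝓔T] (eT : (T ⧸ mT.toIdeal) →ₗ[T] ET) (heT : GrLC.IsStarInjHull 𝒯 (GrLC.quotGr 𝒯 mT) 𝓔T eT) (P : Type u) [AddCommGroup P] [Module T P] [Module k P] [IsScalarTower k T P] (𝒬 : ℤ → AddSubgroup P) [DirectSum.Decomposition 𝒬] [SetLike.GradedSMul 𝒯 𝒬] (φ : P →ₗ[k] TensorProduct k CR CS) (hP : GrSeg.IsSegreMod ψ 𝒞R 𝒞S 𝒬 φ) : GrLC.IsStarCanonical 𝒯 𝒬 𝓔T mT (r + s - 1) IT := by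
  classical
  open Groth.Agent.Lib.T2H3.Kun Groth.Agent.Lib Groth.Agent.Lib.T2H3.GrTr
    Groth.Agent.Lib.Helper29GrShift Groth.Agent.Lib.T2H3.GrLes Groth.Agent.Lib.T2H3.GrArt
    Groth.Agent.Lib.T2H3.GDual in
  have hψ : Function.Injective ψ := hT.1
  have hdegT : ∀ n : ℤ, (𝒯 n).map ψ.toLinearMap =
      Submodule.span k {x : TensorProduct k R S | ∃ a ∈ 𝒜 n, ∃ b ∈ ℬ n, x = a ⊗ₜ[k] b} := hT.2
  haveI : Nontrivial R := by
    by_contra hnt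
    rw [not_nontrivial_iff_subsingleton] at hnt
    rw [ringKrullDim_eq_bot_of_subsingleton] at hr
    exact absurd hr (by simp)
  haveI : Nontrivial S := by
    by_contra hnt
    rw [not_nontrivial_iff_subsingleton] at hnt
    rw [ringKrullDim_eq_bot_of_subsingleton] at hs
    exact absurd hs (by simp)
  haveI : IsNoetherianRing R := Algebra.FiniteType.isNoetherianRing k R
  haveI : IsNoetherianRing S := Algebra.FiniteType.isNoetherianRing k S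
  haveI : IsNoetherianRing T :=
    Groth.Agent.S18646.result k R 𝒜 hposR h0R S ℬ hposS h0S T 𝒯 ψ hψ hdegT
  haveI : Nontrivial (TensorProduct k R S) :=
    Algebra.TensorProduct.nontrivial_of_algebraMap_injective_of_flat_left k R S
      (algebraMap k S).injective
  haveI : Nontrivial T := ⟨⟨0, 1, fun h => by
    have h1 : ψ 0 = ψ 1 := congrArg ψ h
    rw [map_zero, map_one] at h1
    exact zero_ne_one h1⟩⟩
  have hposT := LeadSP.hposT 𝒜 ℬ 𝒯 ψ hψ hdegT hposR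
  have h0T := LeadSP.h0T 𝒜 ℬ 𝒯 ψ hψ hdegT h0R h0S
  haveI : Algebra.FiniteType k T := finiteType_of_isNoetherianRing 𝒯 hposT h0T
  obtain ⟨r', rfl⟩ : ∃ r', r = r' + 1 + 1 := ⟨r - 2, by omega⟩
  obtain ⟨s', rfl⟩ : ∃ s', s = s' + 1 + 1 := ⟨s - 2, by omega⟩
  have e : r' + 1 + 1 + (s' + 1 + 1) - 1 = r' + 1 + (s' + 1) + 1 := by omega
  rw [e]
  haveI finCR : Module.Finite R CR := hCR.1
  haveI finCS : Module.Finite S CS := hCS.1
  haveI finP : Module.Finite T P := Groth.Agent.S19747.result k R 𝒜 hposR h0R S ℬ hposS h0S T 𝒯 ψ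
    hT CR 𝒞R CS 𝒞S P 𝒬 φ hP
  -- the `k`-structures
  letI mkR : ∀ n, Module k ((resSelf 𝒜 I).X n).carrier := fun n =>
    Module.compHom _ (algebraMap k R)
  haveI twR : ∀ n, IsScalarTower k R ((resSelf 𝒜 I).X n).carrier := fun n =>
    IsScalarTower.of_algebraMap_smul (fun _ _ => rfl)
  letI mkS : ∀ n, Module k ((resSelf ℬ J).X n).carrier := fun n =>
    Module.compHom _ (algebraMap k S)
  haveI twS : ∀ n, IsScalarTower k S ((resSelf ℬ J).X n).carrier := fun n =>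
    IsScalarTower.of_algebraMap_smul (fun _ _ => rfl)
  letI mkT : ∀ n, Module k ((resSelf 𝒯 IT).X n).carrier := fun n =>
    Module.compHom _ (algebraMap k T)
  haveI twT : ∀ n, IsScalarTower k T ((resSelf 𝒯 IT).X n).carrier := fun n =>
    IsScalarTower.of_algebraMap_smul (fun _ _ => rfl)
  letI decR : DirectSum.Decomposition ((resSelf 𝒜 I).Hgr mR (r' + 1 + 1)) :=
    HgrDecomposition (resTo 𝒜 𝒜 I) (hiTo 𝒜 mR) (r' + 1 + 1)
  letI decS : DirectSum.Decomposition ((resSelf ℬ J).Hgr mS (s' + 1 + 1)) :=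
    HgrDecomposition (resTo ℬ ℬ J) (hiTo ℬ mS) (s' + 1 + 1)
  letI decT : DirectSum.Decomposition ((resSelf 𝒯 IT).Hgr mT (r' + 1 + (s' + 1) + 1)) :=
    HgrDecomposition (resTo 𝒯 𝒯 IT) (hiTo 𝒯 mT) (r' + 1 + (s' + 1) + 1)
  haveI gsR : SetLike.GradedSMul 𝒜 ((resSelf 𝒜 I).Hgr mR (r' + 1 + 1)) :=
    gradedSMul_of_asGr 𝒜 _ (Hgr_gradedSMul (resTo 𝒜 𝒜 I) (hiTo 𝒜 mR) (r' + 1 + 1))
  haveI gsS : SetLike.GradedSMul ℬ ((resSelf ℬ J).Hgr mS (s' + 1 + 1)) :=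
    gradedSMul_of_asGr ℬ _ (Hgr_gradedSMul (resTo ℬ ℬ J) (hiTo ℬ mS) (s' + 1 + 1))
  haveI KGR : KGraded k (asGr 𝒜) := ⟨fun c => SetLike.algebraMap_mem_graded 𝒜 c⟩
  haveI KGS : KGraded k (asGr ℬ) := ⟨fun c => SetLike.algebraMap_mem_graded ℬ c⟩
  haveI KGT : KGraded k (asGr 𝒯) := ⟨fun c => SetLike.algebraMap_mem_graded 𝒯 c⟩
  have h0KR : ∀ x ∈ asGr 𝒜 0, ∃ c : k, algebraMap k R c = x := by
    intro x hx
    have hx' : x ∈ 𝒜 0 := hx
    rw [h0R] at hx'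
    obtain ⟨c, rfl⟩ := Submodule.mem_span_singleton.mp hx'
    exact ⟨c, Algebra.algebraMap_eq_smul_one c⟩
  have h0KS : ∀ x ∈ asGr ℬ 0, ∃ c : k, algebraMap k S c = x := by
    intro x hx
    have hx' : x ∈ ℬ 0 := hx
    rw [h0S] at hx'
    obtain ⟨c, rfl⟩ := Submodule.mem_span_singleton.mp hx'
    exact ⟨c, Algebra.algebraMap_eq_smul_one c⟩
  have h0KT : ∀ x ∈ asGr 𝒯 0, ∃ c : k, algebraMap k T c = x := by
    intro x hx
    have hx' : x ∈ 𝒯 0 := hx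
    rw [h0T] at hx'
    obtain ⟨c, rfl⟩ := Submodule.mem_span_singleton.mp hx'
    exact ⟨c, Algebra.algebraMap_eq_smul_one c⟩
  letI mHR : Module k ((resTo 𝒜 𝒜 I).H (hiTo 𝒜 mR) (r' + 1 + 1)) :=
    (inferInstance : Module k ((resSelf 𝒜 I).H mR (r' + 1 + 1)))
  haveI tHR : IsScalarTower k R ((resTo 𝒜 𝒜 I).H (hiTo 𝒜 mR) (r' + 1 + 1)) :=
    (inferInstance : IsScalarTower k R ((resSelf 𝒜 I).H mR (r' + 1 + 1)))
  letI dHR : DirectSum.Decomposition ((resTo 𝒜 𝒜 I).Hgr (hiTo 𝒜 mR) (r' + 1 + 1)) :=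
    HgrDecomposition (resTo 𝒜 𝒜 I) (hiTo 𝒜 mR) (r' + 1 + 1)
  letI mHS : Module k ((resTo ℬ ℬ J).H (hiTo ℬ mS) (s' + 1 + 1)) :=
    (inferInstance : Module k ((resSelf ℬ J).H mS (s' + 1 + 1)))
  haveI tHS : IsScalarTower k S ((resTo ℬ ℬ J).H (hiTo ℬ mS) (s' + 1 + 1)) :=
    (inferInstance : IsScalarTower k S ((resSelf ℬ J).H mS (s' + 1 + 1)))
  letI dHS : DirectSum.Decomposition ((resTo ℬ ℬ J).Hgr (hiTo ℬ mS) (s' + 1 + 1)) :=
    HgrDecomposition (resTo ℬ ℬ J) (hiTo ℬ mS) (s' + 1 + 1)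
  obtain ⟨βR, hβR⟩ : ∃ β : (resSelf 𝒜 I).H mR (r' + 1 + 1) →ₗ[k] CR →ₗ[k] k,
      GrSeg.IsGDual R 𝒞R ((resSelf 𝒜 I).Hgr mR (r' + 1 + 1)) β :=
    Groth.Agent.Lib.T2H3.GDualU.exists_isGDual_of_isStarCanonical k (asGr 𝒜) 𝓔R 𝒞R
      (hposAs 𝒜 hposR) h0KR (hiTo 𝒜 mR) hmR eR (isStarInjHull_asGr 𝒜 𝓔R eR heR) (r' + 1 + 1)
      (resTo 𝒜 𝒜 I) (isStarCanonical_asGr 𝒜 𝓔R 𝒞R (r' + 1 + 1) I hCR)
  obtain ⟨βS, hβS⟩ : ∃ β : (resSelf ℬ J).H mS (s' + 1 + 1) →ₗ[k] CS →ₗ[k] k,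
      GrSeg.IsGDual S 𝒞S ((resSelf ℬ J).Hgr mS (s' + 1 + 1)) β :=
    Groth.Agent.Lib.T2H3.GDualU.exists_isGDual_of_isStarCanonical k (asGr ℬ) 𝓔S 𝒞S
      (hposAs ℬ hposS) h0KS (hiTo ℬ mS) hmS eS (isStarInjHull_asGr ℬ 𝓔S eS heS) (s' + 1 + 1)
      (resTo ℬ ℬ J) (isStarCanonical_asGr ℬ 𝓔S 𝒞S (s' + 1 + 1) J hCS)
  have hMv : ∀ d i, r' + 2 < i → (resSelf 𝒜 I).Hcomp mR i d = ⊥ := fun d i hi =>
    Hcomp_eq_bot_of_dim_lt 𝒜 h0R mR I hr hi d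
  have hNv : ∀ d j, s' + 2 < j → (resSelf ℬ J).Hcomp mS j d = ⊥ := fun d j hj =>
    Hcomp_eq_bot_of_dim_lt ℬ h0S mS J hs hj d
  obtain ⟨Θ, hΘ⟩ := exists_isSegreMod_Htop k R 𝒜 hposR h0R S ℬ hposS h0S T 𝒯 ψ hT
    mR hmR mS hmS mT hmT R (asGr 𝒜) (resSelf 𝒜 I) S (asGr ℬ) (resSelf ℬ J) T (asGr 𝒯)
    ψ.toLinearMap (isSegreMod_self 𝒜 ℬ 𝒯 ψ hψ hdegT) (resSelf 𝒯 IT) r' s' hMv hNv
  have hfM : ∀ n : ℤ, FiniteDimensional k (LeadGD.pc 𝒜 𝒞R n) := fun n =>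
    LeadGD.finiteDimensional_pc_of_finite 𝒜 𝒞R hposR h0R n
  have hfN : ∀ n : ℤ, FiniteDimensional k (LeadGD.pc ℬ 𝒞S n) := fun n =>
    LeadGD.finiteDimensional_pc_of_finite ℬ 𝒞S hposS h0S n
  have hβT := isGDual_segre 𝒜 ℬ ψ 𝒞R 𝒞S 𝒬 ((resSelf 𝒜 I).Hgr mR (r' + 1 + 1))
    ((resSelf ℬ J).Hgr mS (s' + 1 + 1))
    ((resSelf 𝒯 IT).Hgr mT (r' + 1 + (s' + 1) + 1)) φ hP Θ hΘ hβR hβS hfM hfN
  -- `E_T` is the graded dual of `T`
  letI mET : Module k ET := Module.compHom ET (algebraMap k T)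
  haveI tET : IsScalarTower k T ET := IsScalarTower.of_algebraMap_smul (fun _ _ => rfl)
  obtain ⟨βE, hE⟩ := Groth.Agent.Lib.T2H3.GDualU.exists_isGDual_of_hull k (asGr 𝒯) 𝓔T
    (hposAs 𝒯 hposT) h0KT (hiTo 𝒯 mT) hmT eT (isStarInjHull_asGr 𝒯 𝓔T eT heT)
  obtain ⟨F, hF⟩ := exists_homEquiv_of_isGDual k (asGr 𝒯) 𝓔T hE 𝒬
    ((resSelf 𝒯 IT).Hgr mT (r' + 1 + (s' + 1) + 1)) hβT
  exact ⟨finP, F, fun d f hf => hF d f hf⟩

end Groth.Agent.S19757
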