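import Groth.Statements.S18665
import Groth.Agent.Lib.T2H3KunZQ
import Groth.Agent.Lib.T2H3KunZR
import Groth.Agent.Lib.T2H3KunY
import Groth.Agent.Lib.T2H3KunT
import Groth.Agent.Lib.T2H3KunW
import Groth.Agent.Lib.T2H3KunR
import Groth.Agent.Lib.Helper24Segre2
import Groth.Agent.S18646
import Groth.Agent.S18640
import Groth.Agent.S19757

set_option autoImplicit false
set_option linter.style.haveILetI false
universe u
open scoped TensorProduct
open GrSegre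

namespace Groth.Agent.S18665

/-- Let R and S be standard graded rings defined over a field k which are Gorenstein, of dimensions r ≥
2 and s ≥ 2, put a = a(R), b = a(S) with a ≥ b, and assume that the Segre product T = R # S is a
Cohen–Macaulay ring. Then the type r(T) equals dim_k R_{a−b}. Here the type of T is the Bass number
μ_{r+s−1}(T_+, T), the dimension over the residue field of Ext^{r+s−1} over the local ring of T at
its graded maximal ideal T_+ (T has dimension r + s − 1); a graded ring defined over k is a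
commutative k-algebra of finite type, graded in nonnegative degrees by k-subspaces with degree-zero
part k·1, standard graded when its irrelevant ideal is generated by the degree-one piece; the
a-invariant is the largest nonzero degree of the top graded local cohomology with support in the
irrelevant ideal, computed from a *injective resolution in the graded category; the Segre product T
= ⊕_n R_n ⊗_k S_n is presented abstractly as a graded k-algebra T with an injective k-algebra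
homomorphism ψ : T → R ⊗_k S carrying T_n onto the k-span of the elementary tensors a ⊗ b with a ∈
R_n, b ∈ S_n. -/
theorem result (k : Type u) [Field k] (R : Type u) [CommRing R] [Algebra k R] (𝒜 : ℤ → Submodule k R) [GradedAlgebra 𝒜] (hposR : ∀ n : ℤ, n < 0 → 𝒜 n = ⊥) (h0R : 𝒜 0 = Submodule.span k {(1 : R)}) [Algebra.FiniteType k R] (S : Type u) [CommRing S] [Algebra k S] (ℬ : ℤ → Submodule k S) [GradedAlgebra ℬ] (hposS : ∀ n : ℤ, n < 0 → ℬ n = ⊥) (h0S : ℬ 0 = Submodule.span k {(1 : S)}) [Algebra.FiniteType k S] (T : Type u) [CommRing T] [Algebra k T] (𝒯 : ℤ → Submodule k T) [GradedAlgebra 𝒯] (ψ : T →ₐ[k] TensorProduct k R S) (hψ : Function.Injective ψ) (hdegT : ∀ n : ℤ, (𝒯 n).map ψ.toLinearMap = Submodule.span k {x : TensorProduct k R S | ∃ a ∈ 𝒜 n, ∃ b ∈ ℬ n, x = a ⊗ₜ[k] b}) [LocCoh.IsGorensteinRing R] [LocCoh.IsGorensteinRing S] (mR : HomogeneousIdeal 𝒜) (hmR : mR.toIdeal = Ideal.span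 (⋃ n ∈ Set.Ioi (0 : ℤ), (𝒜 n : Set R))) (hstdR : Ideal.span (⋃ n ∈ Set.Ioi (0 : ℤ), (𝒜 n : Set R)) = Ideal.span ((𝒜 1 : Submodule k R) : Set R)) (I : GrLC.StarInjRes 𝒜 𝒜) (mS : HomogeneousIdeal ℬ) (hmS : mS.toIdeal = Ideal.span (⋃ n ∈ Set.Ioi (0 : ℤ), (ℬ n : Set S))) (hstdS : Ideal.span (⋃ n ∈ Set.Ioi (0 : ℤ), (ℬ n : Set S)) = Ideal.span ((ℬ 1 : Submodule k S) : Set S)) (J : GrLC.StarInjRes ℬ ℬ) (r s : ℕ) (hr : ringKrullDim R = r) (hs : ringKrullDim S = s) (h2r : 2 ≤ r) (h2s : 2 ≤ s) (a b : ℤ) (ha : GrLC.endDeg (I.Hgr mR r) = ((a : WithTop ℤ) : WithBot (WithTop ℤ))) (hb : GrLC.endDeg (J.Hgr mS s) = ((b : WithTop ℤ) : WithBot (WithTop ℤ))) (hab : b ≤ a) [LocCoh.IsCohenMacaulayRing T] (mT : HomogeneousIdeal 𝒯) [mT.toIdeal.IsMaximal] (hmT : mT.toIdeal = Ideal.span (⋃ n ∈ Set.Ioi (0 : ℤ), (𝒯 n : Set T))) : GrLC.bassNum mT.toIdeal T (r + s - 1) = (Module.finrank k (𝒜 (a - b)) : ℕ∞) := by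
  classical
  open Groth.Agent.Lib.T2H3.Kun Groth.Agent.Lib Groth.Agent.Lib.T2H3.GrTr
    Groth.Agent.Lib.Helper29GrShift Groth.Agent.Lib.T2H3.GrLes Groth.Agent.Lib.T2H3.GrArt
    Groth.Agent.Lib.T2H3.GDual Groth.Agent.Lib.T2H3.Seg in
  haveI : Nontrivial R := by
    by_contra hnt
    rw [not_nontrivial_iff_subsingleton] at hnt
    rw [ringKrullDim_eq_bot_of_subsingleton] at hr
    exact absurd hr (by simp)
  haveI : Nontrivial S := by
    by_contra hnt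
    rw [not_nontrivial_iff_subsingleton] at hnt
    rw [ringKrullDim_eq_bot_of_subsingleton] at hs
    exact absurd hs (by simp)
  haveI : IsNoetherianRing R := Algebra.FiniteType.isNoetherianRing k R
  haveI : IsNoetherianRing S := Algebra.FiniteType.isNoetherianRing k S
  haveI : IsNoetherianRing T :=
    Groth.Agent.S18646.result k R 𝒜 hposR h0R S ℬ hposS h0S T 𝒯 ψ hψ hdegT
  haveI : Nontrivial (TensorProduct k R S) :=
    Algebra.TensorProduct.nontrivial_of_algebraMap_injective_of_flat_left k R S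
      (algebraMap k S).injective
  haveI : Nontrivial T := ⟨⟨0, 1, fun h => by
    have h1 : ψ 0 = ψ 1 := congrArg ψ h
    rw [map_zero, map_one] at h1
    exact zero_ne_one h1⟩⟩
  have hposT := LeadSP.hposT 𝒜 ℬ 𝒯 ψ hψ hdegT hposR
  have h0T := LeadSP.h0T 𝒜 ℬ 𝒯 ψ hψ hdegT h0R h0S
  haveI : Algebra.FiniteType k T := finiteType_of_isNoetherianRing 𝒯 hposT h0T
  have hT : GrSeg.IsSegreRing 𝒜 ℬ 𝒯 ψ := ⟨hψ, hdegT⟩
  obtain ⟨IT⟩ := nonempty_starInjRes_self 𝒯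
  have h1R : 1 ≤ ringKrullDim R := by
    rw [hr]
    have : 1 ≤ r := by omega
    exact_mod_cast this
  have h1S : 1 ≤ ringKrullDim S := by
    rw [hs]
    have : 1 ≤ s := by omega
    exact_mod_cast this
  obtain ⟨r', rfl⟩ : ∃ r', r = r' + 1 + 1 := ⟨r - 2, by omega⟩
  obtain ⟨s', rfl⟩ : ∃ s', s = s' + 1 + 1 := ⟨s - 2, by omega⟩
  have hdimT : ringKrullDim T = ((r' + 1 + (s' + 1) + 1 : ℕ) : WithBot ℕ∞) :=
    LeadSeg.ringKrullDim_segre 𝒜 ℬ hposR h0R hposS h0S 𝒯 ψ hψ hdegT (r' + 1) (s' + 1) hr hs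
  have e : r' + 1 + 1 + (s' + 1 + 1) - 1 = r' + 1 + (s' + 1) + 1 := by omega
  -- the canonical modules of `R` and `S`
  haveI gsA : SetLike.GradedSMul 𝒜 (shiftGr (asGr 𝒜) a) := shift_gradedSMul_gen 𝒜 (asGr 𝒜) a
  haveI gsB : SetLike.GradedSMul ℬ (shiftGr (asGr ℬ) b) := shift_gradedSMul_gen ℬ (asGr ℬ) b
  have hCR := isStarCanonical_shift_of_gorenstein k 𝒜 hposR h0R mR hmR I (r' + 1 + 1) hr a ha
  have hCS := isStarCanonical_shift_of_gorenstein k ℬ hposS h0S mS hmS J (s' + 1 + 1) hs b hb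
  obtain ⟨eR, heR⟩ := Groth.Agent.Lib.T2H3.GDual.exists_hull 𝒜 hposR h0R mR hmR
  obtain ⟨eS, heS⟩ := Groth.Agent.Lib.T2H3.GDual.exists_hull ℬ hposS h0S mS hmS
  obtain ⟨eT, heT⟩ := Groth.Agent.Lib.T2H3.GDual.exists_hull 𝒯 hposT h0T mT hmT
  -- the Segre module `R(a) # S(b)`
  letI decP := segDecomposition (shiftGr (asGr 𝒜) a) (shiftGr (asGr ℬ) b) hT
  haveI gsP : SetLike.GradedSMul 𝒯 (segGr (shiftGr (asGr 𝒜) a) (shiftGr (asGr ℬ) b) hT) :=
    gradedSMul_of_asGr 𝒯 _ (seg_gradedSMul (shiftGr (asGr 𝒜) a) (shiftGr (asGr ℬ) b) hT)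
  have hP := isSegreMod_seg (shiftGr (asGr 𝒜) a) (shiftGr (asGr ℬ) b) hT
  have hCT := Groth.Agent.S19757.result k R 𝒜 hposR h0R S ℬ hposS h0S T 𝒯 ψ hT mR hmR I mS hmS J
    mT hmT IT (r' + 1 + 1) (s' + 1 + 1) hr hs h2r h2s (GD 𝒜) (piece 𝒜) eR heR R
    (shiftGr (asGr 𝒜) a) hCR (GD ℬ) (piece ℬ) eS heS S (shiftGr (asGr ℬ) b) hCS (GD 𝒯) (piece 𝒯)
    eT heT ↥(seg (shiftGr (asGr 𝒜) a) (shiftGr (asGr ℬ) b) hT)
    (segGr (shiftGr (asGr 𝒜) a) (shiftGr (asGr ℬ) b) hT)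
    (sval (shiftGr (asGr 𝒜) a) (shiftGr (asGr ℬ) b) hT) hP
  rw [e] at hCT ⊢
  haveI hmaxT : (hiTo 𝒯 mT).toIdeal.IsMaximal := ‹mT.toIdeal.IsMaximal›
  have h40 := (Groth.Agent.S18640.result T (asGr 𝒯) (hposAs 𝒯 hposT) (isField_deg0_asGr 𝒯 h0T)
    (hiTo 𝒯 mT) (isStarLocal_asGr 𝒯 hposT h0T mT hmT) hmT (r' + 1 + (s' + 1) + 1) hdimT
    (resTo 𝒯 𝒯 IT) (GD 𝒯) (piece 𝒯) eT (isStarInjHull_asGr 𝒯 (piece 𝒯) eT heT)
    ↥(seg (shiftGr (asGr 𝒜) a) (shiftGr (asGr ℬ) b) hT)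
    (segGr (shiftGr (asGr 𝒜) a) (shiftGr (asGr ℬ) b) hT)
    (isStarCanonical_asGr 𝒯 (piece 𝒯) (segGr (shiftGr (asGr 𝒜) a) (shiftGr (asGr ℬ) b) hT)
      (r' + 1 + (s' + 1) + 1) IT hCT)).2
  have hne : mT.toIdeal ≠ ⊤ := Ideal.IsMaximal.ne_top inferInstance
  have h1 := finrank_residue_tensor_eq_quot 𝒯 hposT h0T mT hmT
    (P := ↥(seg (shiftGr (asGr 𝒜) a) (shiftGr (asGr ℬ) b) hT)) hne
  have hP' : GrSeg.IsSegreMod ψ (fun n : ℤ => 𝒜 (n + a)) (fun n : ℤ => ℬ (n + b))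
      (segGr (shiftGr (asGr 𝒜) a) (shiftGr (asGr ℬ) b) hT)
      (sval (shiftGr (asGr 𝒜) a) (shiftGr (asGr ℬ) b) hT) :=
    ⟨hP.injective, hP.image_piece, hP.map_smul⟩
  have h2 := Groth.Agent.Lib.Helper24Segre2.s19750 k R 𝒜 hposR h0R S ℬ hposS h0S T 𝒯 ψ hT hstdR
    hstdS h1R h1S mT hmT a b hab ↥(seg (shiftGr (asGr 𝒜) a) (shiftGr (asGr ℬ) b) hT)
    (segGr (shiftGr (asGr 𝒜) a) (shiftGr (asGr ℬ) b) hT)
    (sval (shiftGr (asGr 𝒜) a) (shiftGr (asGr ℬ) b) hT) hP'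
  have h40' : GrLC.bassNum mT.toIdeal T (r' + 1 + (s' + 1) + 1) =
      ((Module.finrank (T ⧸ mT.toIdeal)
        (TensorProduct T (T ⧸ mT.toIdeal) ↥(seg (shiftGr (asGr 𝒜) a) (shiftGr (asGr ℬ) b) hT)) : ℕ) :
        ℕ∞) := h40
  rw [h40', h1, h2]

end Groth.Agent.S18665
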