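import Groth.Statements.S18733
import Mathlib
import Groth.Agent.Lib.T2H6ColonIdeal
import Groth.Agent.Lib.T2H6BlowUpMul
import Groth.Agent.Lib.T2H6ModulusFun
import Groth.Agent.Lib.T2H6AmbProd

set_option autoImplicit false
universe u
open CategoryTheory CategoryTheory.Limits AlgebraicGeometry TopologicalSpace
open ModPair

namespace Groth.Agent.S18733

/-- Let D₁, D₂ be effective Cartier divisors on a scheme X, with quasi-coherent ideal sheaves I₁, I₂,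
such that the scheme-theoretic intersection E = D₁ ×_X D₂ (ideal sheaf I₁ ⊔ I₂) is again an
effective Cartier divisor. Then (1) the divisors D₁ − E and D₂ − E are effective and disjoint: there
are ideal sheaves I₁', I₂' of effective Cartier divisors with I₁ = I₁'·(I₁ ⊔ I₂), I₂ = I₂'·(I₁ ⊔ I₂)
and I₁' ⊔ I₂' = ⊤; and (2) the effective Cartier divisor D₁ + D₂ − E, with ideal sheaf I₁'·I₂'·(I₁ ⊔
I₂), is contained in every effective Cartier divisor D of X containing D₁ and D₂: if the ideal sheaf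
of D is ≤ I₁ and ≤ I₂ then it is ≤ I₁'·I₂'·(I₁ ⊔ I₂). -/
theorem result {X : Scheme.{u}} (I₁ I₂ : X.IdealSheafData)
    (h₁ : BlowUp.IsEffCartierIdeal I₁) (h₂ : BlowUp.IsEffCartierIdeal I₂)
    (hE : BlowUp.IsEffCartierIdeal (I₁ ⊔ I₂)) :
    ∃ I₁' I₂' : X.IdealSheafData, BlowUp.IsEffCartierIdeal I₁' ∧ BlowUp.IsEffCartierIdeal I₂' ∧
      I₁ = I₁' * (I₁ ⊔ I₂) ∧ I₂ = I₂' * (I₁ ⊔ I₂) ∧ I₁' ⊔ I₂' = ⊤ ∧
      ∀ D : X.IdealSheafData, BlowUp.IsEffCartierIdeal D → D ≤ I₁ → D ≤ I₂ →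
        D ≤ I₁' * I₂' * (I₁ ⊔ I₂) := by
  obtain ⟨K₁, hK₁⟩ := Groth.Agent.Lib.T2H6.ColonIdeal.exists_mul_eq I₁ (I₁ ⊔ I₂) hE le_sup_left
  obtain ⟨K₂, hK₂⟩ := Groth.Agent.Lib.T2H6.ColonIdeal.exists_mul_eq I₂ (I₁ ⊔ I₂) hE le_sup_right
  have hc1 : BlowUp.IsEffCartierIdeal K₁ :=
    Groth.Agent.Lib.T2H6.BlowUpMul.isEffCartierIdeal_of_mul K₁ (I₁ ⊔ I₂) (by rw [hK₁]; exact h₁)
  have hc2 : BlowUp.IsEffCartierIdeal K₂ :=
    Groth.Agent.Lib.T2H6.BlowUpMul.isEffCartierIdeal_of_mul K₂ (I₁ ⊔ I₂) (by rw [hK₂]; exact h₂)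
  have htop : K₁ ⊔ K₂ = ⊤ := by
    apply Groth.Agent.Lib.T2H6.ModulusFun.mul_right_cancel_effCartier _ _ (I₁ ⊔ I₂) hE
    rw [Scheme.IdealSheafData.inf_mul, hK₁, hK₂]
    exact (one_mul (I₁ ⊔ I₂)).symm
  have hinf : I₁ ⊓ I₂ = K₁ * K₂ * (I₁ ⊔ I₂) := by
    apply Groth.Agent.Lib.T2H6.ModulusFun.mul_right_cancel_effCartier _ _ (I₁ ⊔ I₂) hE
    rw [Groth.Agent.Lib.T2H6.AmbProd.inf_mul_sup_eq_mul_of_isEffCartier I₁ I₂ hE]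
    have : K₁ * K₂ * (I₁ ⊔ I₂) * (I₁ ⊔ I₂) = (K₁ * (I₁ ⊔ I₂)) * (K₂ * (I₁ ⊔ I₂)) := by ring
    rw [this, hK₁, hK₂]
  refine ⟨K₁, K₂, hc1, hc2, hK₁.symm, hK₂.symm, htop, fun D _ hD1 hD2 => ?_⟩
  rw [← hinf]
  exact le_inf hD1 hD2

end Groth.Agent.S18733
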