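import Groth.Statements.S18742
import Groth.Agent.Lib.Helper22NA13
import Groth.Agent.Lib.T2H3SchDomLim

set_option autoImplicit false
set_option linter.style.haveILetI false
universe u
open CategoryTheory CategoryTheory.Limits AlgebraicGeometry TopologicalSpace
open ModPair

namespace Groth.Agent.S18742

/-- Let S be a quasi-compact quasi-separated scheme, (X_i) a cofiltered system of S-schemes with affine,
scheme-theoretically dominant transition morphisms and all X_i quasi-compact and quasi-separated, X
its limit in the category of S-schemes, and Y ⟶ S locally of finite type with Y quasi-compact and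
quasi-separated. Then the canonical map from the colimit of the sets Hom_S(X_i, Y) to Hom_S(X, Y) is
bijective: every S-morphism X ⟶ Y factors through the projection to some X_i, and two S-morphisms
X_i ⟶ Y with the same composite X ⟶ Y become equal after composition with some transition morphism
X_j ⟶ X_i. No finite-presentation hypothesis on Y is assumed. -/
theorem result {S : Scheme.{u}} [CompactSpace S]
    [QuasiSeparatedSpace S] {I : Type u} [SmallCategory I] [IsCofiltered I] (D : I ⥤ Over S)
    (c : Cone D) (hc : IsLimit c)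
    [∀ (i j : I) (t : i ⟶ j), IsAffineHom (D.map t).left]
    [∀ (i j : I) (t : i ⟶ j), IsSchemeTheoreticallyDominant (D.map t).left]
    [∀ i, CompactSpace (D.obj i).left] [∀ i, QuasiSeparatedSpace (D.obj i).left]
    (Y : Over S) [CompactSpace Y.left] [QuasiSeparatedSpace Y.left] [LocallyOfFiniteType Y.hom] :
    (∀ φ : c.pt ⟶ Y, ∃ (i : I) (φi : D.obj i ⟶ Y), c.π.app i ≫ φi = φ) ∧
      ∀ (i : I) (φ ψ : D.obj i ⟶ Y), c.π.app i ≫ φ = c.π.app i ≫ ψ →
        ∃ (j : I) (t : j ⟶ i), D.map t ≫ φ = D.map t ≫ ψ := by
  classical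
  let DS : I ⥤ Scheme.{u} := D ⋙ Over.forget S
  let cS : Cone DS := (Over.forget S).mapCone c
  have hcS : IsLimit cS := isLimitOfPreserves (Over.forget S) hc
  haveI : ∀ {i j : I} (f : i ⟶ j), IsAffineHom (DS.map f) := fun f => by
    dsimp [DS]; infer_instance
  haveI : ∀ {i j : I} (f : i ⟶ j), IsSchemeTheoreticallyDominant (DS.map f) := fun f => by
    dsimp [DS]; infer_instance
  haveI : ∀ i, CompactSpace (DS.obj i) := fun i => ‹∀ i, CompactSpace (D.obj i).left› i
  haveI : ∀ i, QuasiSeparatedSpace (DS.obj i) := fun i =>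
    ‹∀ i, QuasiSeparatedSpace (D.obj i).left› i
  let t : DS ⟶ (Functor.const I).obj S :=
    { app := fun i => (D.obj i).hom
      naturality := fun i j f => by
        simp only [Functor.const_obj_obj, Functor.const_obj_map, Category.comp_id]
        exact Over.w (D.map f) }
  constructor
  · intro φ
    obtain ⟨Y', f', j, h1, h2, h3, h4, h5, h6, h7⟩ :=
      Groth.Agent.Lib.Helper22.NA13.exists_closedImmersion_fp Y.hom
    have ha : cS.π ≫ t = (Functor.const I).map ((φ.left ≫ j) ≫ f') := by
      ext i : 2
      simp only [NatTrans.comp_app, Functor.const_map_app]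
      rw [Category.assoc, h7, Over.w φ]
      exact Over.w (c.π.app i)
    obtain ⟨i, g, hg1, hg2⟩ := Scheme.exists_π_app_comp_eq_of_locallyOfFinitePresentation DS t f'
      cS hcS (φ.left ≫ j) ha
    haveI := Groth.Agent.Lib.T2H3.SchDomLim.isSchemeTheoreticallyDominant_π DS cS hcS i
    obtain ⟨g', hg'⟩ := Groth.Agent.Lib.T2H3.SchDomLim.exists_lift_of_comp (cS.π.app i) g j φ.left
      hg1.symm
    have hg'Y : g' ≫ Y.hom = (D.obj i).hom := by
      rw [← h7, ← Category.assoc, hg']
      exact hg2
    refine ⟨i, Over.homMk g' hg'Y, ?_⟩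
    ext : 1
    haveI : Mono j := inferInstance
    rw [← cancel_mono j]
    have e1 : cS.π.app i ≫ g' ≫ j = φ.left ≫ j := by rw [hg']; exact hg1
    exact (Category.assoc _ _ _).trans e1
  · intro i φ ψ h
    obtain ⟨k, hik, hk⟩ := Scheme.exists_hom_comp_eq_comp_of_locallyOfFiniteType DS t Y.hom cS hcS
      φ.left ψ.left (Over.w φ).symm (Over.w ψ).symm (congrArg CommaMorphism.left h)
    refine ⟨k, hik, ?_⟩
    ext : 1
    exact hk

end Groth.Agent.S18742
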