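import Groth.Statements.S18745
import Groth.Agent.S18742
import Groth.Agent.Lib.T2H3IdealStage
import Groth.Agent.Lib.Helper22FTLimit
import Groth.Agent.Lib.T2H6AmbProdProper

set_option autoImplicit false
set_option linter.style.haveILetI false
universe u
open CategoryTheory CategoryTheory.Limits AlgebraicGeometry TopologicalSpace
open ModPair

namespace Groth.Agent.S18745

/-- Let S be a quasi-compact quasi-separated scheme, (X_i, I_i) a cofiltered system of S-schemes, all
quasi-compact and quasi-separated, carrying quasi-coherent ideal sheaves of effective Cartier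
divisors, with affine and minimal transition morphisms, and let X be its limit (as an S-scheme) with
projections π_i and modulus I = I_i.comap π_i for every i. Let Y ⟶ S be locally of finite type with
Y quasi-compact and quasi-separated, carrying the ideal sheaf I_Y of an effective Cartier divisor.
Assume that either every transition morphism is scheme-theoretically dominant, or Y ⟶ S is locally
of finite presentation. Then every S-morphism φ : X ⟶ Y satisfying the modulus condition I ≤
I_Y.comap φ descends: for some i there is an S-morphism φ_i : X_i ⟶ Y satisfying the modulus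
condition I_i ≤ I_Y.comap φ_i with π_i ≫ φ_i = φ. (The base is taken to be a scheme, that is the
base modulus pair with empty modulus; morphisms over an arbitrary base modulus pair are among
these.) -/
theorem result {S : Scheme.{u}}
    [CompactSpace S] [QuasiSeparatedSpace S] {I : Type u} [SmallCategory I] [IsCofiltered I]
    (D : I ⥤ Over S) (c : Cone D) (hc : IsLimit c)
    [∀ (i j : I) (t : i ⟶ j), IsAffineHom (D.map t).left]
    [∀ i, CompactSpace (D.obj i).left] [∀ i, QuasiSeparatedSpace (D.obj i).left]
    (J : ∀ i, (D.obj i).left.IdealSheafData) (hJ : ∀ i, BlowUp.IsEffCartierIdeal (J i))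
    (hmin : ∀ (i j : I) (t : i ⟶ j), ModPair.IsMinimal (J i) (J j) (D.map t).left)
    (IX : c.pt.left.IdealSheafData) (hIX : ∀ i, IX = (J i).comap (c.π.app i).left)
    (Y : Over S) [CompactSpace Y.left] [QuasiSeparatedSpace Y.left] [LocallyOfFiniteType Y.hom]
    (IY : Y.left.IdealSheafData) (hY : BlowUp.IsEffCartierIdeal IY)
    (h : (∀ (i j : I) (t : i ⟶ j), IsSchemeTheoreticallyDominant (D.map t).left) ∨
      LocallyOfFinitePresentation Y.hom)
    (φ : c.pt ⟶ Y) (hφ : ModPair.IsAmbient IX IY φ.left) :
    ∃ (i : I) (φi : D.obj i ⟶ Y), ModPair.IsAmbient (J i) IY φi.left ∧ c.π.app i ≫ φi = φ := by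
  classical
  let DS : I ⥤ Scheme.{u} := D ⋙ Over.forget S
  let cS : Cone DS := (Over.forget S).mapCone c
  have hcS : IsLimit cS := isLimitOfPreserves (Over.forget S) hc
  haveI : ∀ {i j : I} (f : i ⟶ j), IsAffineHom (DS.map f) := fun f => by
    dsimp [DS]; infer_instance
  haveI : ∀ i, CompactSpace (DS.obj i) := fun i => ‹∀ i, CompactSpace (D.obj i).left› i
  haveI : ∀ i, QuasiSeparatedSpace (DS.obj i) := fun i =>
    ‹∀ i, QuasiSeparatedSpace (D.obj i).left› i
  let t : DS ⟶ (Functor.const I).obj S :=
    { app := fun i => (D.obj i).hom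
      naturality := fun i j f => by
        simp only [Functor.const_obj_obj, Functor.const_obj_map, Category.comp_id]
        exact Over.w (D.map f) }
  -- first descend the morphism
  obtain ⟨i1, φ1, hφ1⟩ : ∃ (i : I) (φi : D.obj i ⟶ Y), c.π.app i ≫ φi = φ := by
    rcases h with h | h
    · haveI := h
      exact (Groth.Agent.S18742.result D c hc Y).1 φ
    · haveI := h
      have ha : cS.π ≫ t = (Functor.const I).map (φ.left ≫ Y.hom) := by
        ext i : 2
        simp only [NatTrans.comp_app, Functor.const_map_app]
        rw [Over.w φ]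
        exact Over.w (c.π.app i)
      obtain ⟨i, g, hg1, hg2⟩ := Scheme.exists_π_app_comp_eq_of_locallyOfFinitePresentation DS t
        Y.hom cS hcS φ.left ha
      refine ⟨i, Over.homMk g hg2, ?_⟩
      ext : 1
      exact hg1
  -- then the modulus condition
  let A' : (DS.obj i1).IdealSheafData := J i1
  let B' : (DS.obj i1).IdealSheafData := IY.comap φ1.left
  haveI : LocallyOfFinitePresentation A'.subschemeι :=
    Groth.Agent.Lib.Helper22.FTLimit.locallyOfFinitePresentation_subschemeι (J i1)
      (Groth.Agent.Lib.T2H6.AmbProdProper.isFiniteTypeIdeal_of_isEffCartier _ (hJ i1))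
  have hle : A'.comap (cS.π.app i1) ≤ B'.comap (cS.π.app i1) := by
    have e1 : (J i1).comap (cS.π.app i1) = IX := (hIX i1).symm
    have e2 : (IY.comap φ1.left).comap (cS.π.app i1) = IY.comap φ.left := by
      rw [← Scheme.IdealSheafData.comap_comp, ← hφ1]
      rfl
    show (J i1).comap (cS.π.app i1) ≤ (IY.comap φ1.left).comap (cS.π.app i1)
    rw [e1, e2]
    exact hφ
  obtain ⟨j, a, hja⟩ := Groth.Agent.Lib.T2H3.IdealStage.exists_stage_comap_le DS cS hcS i1
    A' B' hle
  refine ⟨j, D.map a ≫ φ1, ?_, ?_⟩
  · show J j ≤ IY.comap (D.map a ≫ φ1).left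
    have e3 : J j = (J i1).comap (D.map a).left := hmin j i1 a
    have e4 : IY.comap (D.map a ≫ φ1).left = (IY.comap φ1.left).comap (D.map a).left := by
      rw [← Scheme.IdealSheafData.comap_comp]
      rfl
    rw [e3, e4]
    exact hja
  · rw [← Category.assoc, c.w a, hφ1]

end Groth.Agent.S18745
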