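import Groth.Statements.S18831
import Groth.Agent.Lib.T2H9VBH0Bound
import Groth.Agent.Lib.T2H6CurveSmooth

set_option autoImplicit false
set_option linter.style.haveILetI false
set_option linter.unusedVariables false
universe u
open CategoryTheory CategoryTheory.Limits AlgebraicGeometry
open VBCurve

namespace Groth.Agent.S18831

/-- Let X be a smooth projective integral curve over an algebraically closed field k of characteristic
zero, and G a finite locally free O_X-module of rank r ≥ 1 which is slope-semistable, of slope μ =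
deg G / r (deg G = χ(G) − r χ(O_X)). Then dim_k H^0(X, G) ≤ r · max(⌊μ⌋ + 1, 0); in particular a
slope-semistable bundle of negative slope has no nonzero global section. -/
theorem result (k : Type u) [Field k] [IsAlgClosed k] [CharZero k]
    (X : Scheme.{u}) [X.Over (Spec (CommRingCat.of k))]
    [IsIntegral X] [IsProper (X ↘ Spec (CommRingCat.of k))] [Smooth (X ↘ Spec (CommRingCat.of k))]
    (hdim : topologicalKrullDim X = 1)
    (r : ℕ) (hr : 0 < r) (G : X.Modules) (hG : FlatMod.IsFinLocFreeOfRank r G)
    (hss : ModFun.IsSlopeSemistable k X G r) :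
    (Module.finrank k (Coh.HH X G 0) : ℤ) ≤
      (r : ℤ) * max (⌊(Curv2.deg k X G r : ℚ) / (r : ℚ)⌋ + 1) 0 := by
  have hreg := fun x => Groth.Agent.Lib.T2H6.CurveSmooth.isRegularLocalRing_stalk k X x
  haveI : IsLocallyNoetherian X := Groth.Agent.Lib.T2H6.CurveDeg.isLocallyNoetherian k
  obtain ⟨p, -, hp, hdvr, hrat⟩ := Groth.Agent.Lib.T2H6.PtTwistD.exists_dvr_point k X hdim ⊤ trivial
  have hI := Groth.Agent.Lib.T2H6.PtTwistD.isInvertible_idealMod_ptIdeal X hdim p hp hdvr
  have hdp := Groth.Agent.Lib.T2H6.PtTwistD.deg_idealMod_ptIdeal k p hp hrat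
  exact Groth.Agent.Lib.T2H9.VBH0Bound.h0_le_floor k hdim hreg p hp hI hdp r hr G hG hss

end Groth.Agent.S18831
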