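import Groth.Statements.S18873
import Groth.Agent.Lib.LeadLkk

set_option autoImplicit false
set_option maxHeartbeats 800000
set_option linter.unusedVariables false
universe u
open Liaison

namespace Groth.Agent.S18873

/-- Let K be a field, R = K[x_0, …, x_n] graded by degree, 2 ≤ c ≤ n, 𝔠 ⊂ R a homogeneous ideal of
height c such that R/𝔠 is a Gorenstein ring, I ⊂ R a homogeneous ideal of height c containing 𝔠, and
J = 𝔠 : I. Write h_𝔞(j) = dim_K [R/𝔞]_j for the Hilbert function of R/𝔞. If p_𝔠, p_I, p_J ∈ ℚ[t] are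
polynomials agreeing with h_𝔠, h_I, h_J in all sufficiently large degrees (Hilbert polynomials; R/𝔠
and R/I have dimension n + 1 − c ≥ 1, and so has R/J unless I = 𝔠, when J = R and p_J = 0), then the
coefficients of t^(n−c) satisfy p_J = p_𝔠 − p_I in that degree; multiplying by (n − c)! this says
deg J = deg 𝔠 − deg I. -/
theorem result (K : Type u) [Field K] (n c : ℕ) (hc : 2 ≤ c) (hcn : c ≤ n)
    (𝔠 I : Ideal (MvPolynomial (Fin (n + 1)) K))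
    (h𝔠 : 𝔠.IsHomogeneous (GrSyz.stdGr K (Fin (n + 1)))) (hI : I.IsHomogeneous (GrSyz.stdGr K (Fin (n + 1))))
    [LocCoh.IsGorensteinRing (MvPolynomial (Fin (n + 1)) K ⧸ 𝔠)] (h𝔠c : 𝔠.height = c) (hIc : I.height = c) (h𝔠I : 𝔠 ≤ I)
    (p𝔠 pI pJ : Polynomial ℚ)
    (hp𝔠 : ∃ j₀ : ℕ, ∀ j : ℕ, j₀ ≤ j → (Module.finrank K ↥(Submodule.map (Ideal.Quotient.mkₐ K (𝔠)).toLinearMap (GrSyz.stdGr K (Fin (n + 1)) (j : ℤ))) : ℚ) = p𝔠.eval (j : ℚ))
    (hpI : ∃ j₀ : ℕ, ∀ j : ℕ, j₀ ≤ j → (Module.finrank K ↥(Submodule.map (Ideal.Quotient.mkₐ K (I)).toLinearMap (GrSyz.stdGr K (Fin (n + 1)) (j : ℤ))) : ℚ) = pI.eval (j : ℚ))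
    (hpJ : ∃ j₀ : ℕ, ∀ j : ℕ, j₀ ≤ j → (Module.finrank K ↥(Submodule.map (Ideal.Quotient.mkₐ K (𝔠.colon (I : Set (MvPolynomial (Fin (n + 1)) K)))).toLinearMap (GrSyz.stdGr K (Fin (n + 1)) (j : ℤ))) : ℚ) = pJ.eval (j : ℚ)) :
    pJ.coeff (n - c) = p𝔠.coeff (n - c) - pI.coeff (n - c) := by
  classical
  have h𝔠' : 𝔠.IsHomogeneous (CohB1.polyGrading n K) :=
    Groth.Agent.Lib.LeadLk.isHomogeneous_nat_of_stdGr K (n + 1) 𝔠 h𝔠
  have hI' : I.IsHomogeneous (CohB1.polyGrading n K) :=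
    Groth.Agent.Lib.LeadLk.isHomogeneous_nat_of_stdGr K (n + 1) I hI
  -- the dimension of `R/𝔠`
  have hne : 𝔠 ≠ ⊤ := by
    intro h
    rw [h, Ideal.height_top] at h𝔠c
    exact ENat.top_ne_natCast c h𝔠c
  have hK : LocCoh.IsCohenMacaulayRing K := Groth.Agent.Lib.Helper28.isCohenMacaulayRing_of_field K
  have hR : LocCoh.IsCohenMacaulayRing (MvPolynomial (Fin (n + 1)) K) :=
    Groth.Agent.Lib.Helper28.isCohenMacaulayRing_mvPolynomial_fin (n + 1)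
  have hsum := Groth.Agent.Lib.Helper28.height_add_ringKrullDim_quotient_eq_of_forall_isMaximal_height_eq'
    (n + 1) (Groth.Agent.Lib.Helper28.height_eq_of_isMaximal_mvPolynomial_fin (k := K) (n + 1)) 𝔠 hne
  rw [h𝔠c] at hsum
  obtain ⟨hcm, hdim⟩ := Groth.Agent.Lib.LeadLk.withBot_eq_sub_of_add_eq (n + 1) c hsum
  have hnc : n + 1 - c = (n - c) + 1 := by omega
  rw [hnc] at hdim
  -- the Hilbert functions
  have hconv : ∀ (𝔞 : Ideal (MvPolynomial (Fin (n + 1)) K)) (j : ℕ),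
      Module.finrank K ↥(Submodule.map (Ideal.Quotient.mkₐ K 𝔞).toLinearMap
        (GrSyz.stdGr K (Fin (n + 1)) (j : ℤ))) = Groth.Agent.Lib.Helper4.HilbFun.hilb 𝔞 j := by
    intro 𝔞 j
    rw [Groth.Agent.Helper13HB.stdGr_natCast]
    rfl
  obtain ⟨j₁, h₁⟩ := hp𝔠
  obtain ⟨j₂, h₂⟩ := hpI
  obtain ⟨j₃, h₃⟩ := hpJ
  refine Groth.Agent.Lib.LeadLk.coeff_eq_sub_of_linked K n 𝔠 I h𝔠' hI' h𝔠I (n - c) hdim p𝔠 pI pJ
    (max j₁ (max j₂ j₃)) ?_ ?_ ?_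
  · intro m hm
    rw [← h₁ m (by omega), hconv]
  · intro m hm
    rw [← h₂ m (by omega), hconv]
  · intro m hm
    rw [← h₃ m (by omega), hconv]

end Groth.Agent.S18873
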