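import Groth.Statements.S18874
import Mathlib
import Groth.Agent.Lib.T2H3StalkSpread
import Groth.Agent.Lib.Helper12Descent
import Groth.Agent.S5904

set_option autoImplicit false
set_option linter.style.haveILetI false
universe u
open Lim

namespace Groth.Agent.S18874

open CategoryTheory AlgebraicGeometry in
/-- Let S be a quasi-compact scheme whose affine opens have excellent coordinate rings, let X → S and Y
→ S be quasi-compact, quasi-separated and locally of finite presentation, let f : X → Y be a
morphism over S, let s be a closed point of S and R the completion of the local ring of S at s. If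
the base change X ×_S Spec R → Y ×_S Spec R of f is proper, then s has an open neighbourhood W in S
such that X ×_S W → Y ×_S W is proper. (The published statement assumes X and Y only locally of
finite presentation over S; for S the affine line over a field, s the origin, Y = S and X the
disjoint union of S with one reduced point over each closed point other than s, the base change to
Spec R is an isomorphism while X ×_S W → W is not quasi-compact for any open W ∋ s, so X and Y are
taken of finite presentation over S here, which is what the limit argument of the published proof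
uses.) -/
theorem result
    (S : Scheme.{u}) [CompactSpace S] (hS : ∀ U : S.affineOpens, EGA4.IsExcellent Γ(S, U.1))
    {X Y : Scheme.{u}} (f : X ⟶ Y) (g : Y ⟶ S)
    [QuasiCompact g] [QuasiSeparated g] [LocallyOfFinitePresentation g]
    [QuasiCompact (f ≫ g)] [QuasiSeparated (f ≫ g)] [LocallyOfFinitePresentation (f ≫ g)]
    (s : S) (hs : IsClosed ({s} : Set S))
    (hR : IsProper (Limits.pullback.snd f (Limits.pullback.fst g
      (Spec.map (CommRingCat.ofHom (algebraMap (S.presheaf.stalk s) (EGA4.Cpl (S.presheaf.stalk s)))) ≫
        S.fromSpecStalk s)))) :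
    ∃ W : S.Opens, s ∈ W ∧ IsProper (f ∣_ (g ⁻¹ᵁ W)) := by
  haveI : IsLocallyNoetherian S := ⟨fun U => (hS U).1⟩
  haveI : IsNoetherianRing (S.presheaf.stalk s) := inferInstance
  haveI := Groth.Agent.Lib.Helper12.descendsAlong_isProper.{u}
  -- the completion map is fpqc
  haveI : Module.FaithfullyFlat (S.presheaf.stalk s) (EGA4.Cpl (S.presheaf.stalk s)) :=
    Module.FaithfullyFlat.of_flat_of_isLocalHom
  have hfpqc : (@Surjective ⊓ @Flat ⊓ @QuasiCompact : MorphismProperty Scheme.{u})
      (Spec.map (CommRingCat.ofHom
        (algebraMap (S.presheaf.stalk s) (EGA4.Cpl (S.presheaf.stalk s))))) := by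
    refine ⟨⟨⟨?_⟩, ?_⟩, inferInstance⟩
    · exact PrimeSpectrum.comap_surjective_of_faithfullyFlat
    · rw [HasRingHomProperty.Spec_iff (P := @Flat)]
      exact (RingHom.flat_algebraMap_iff).mpr inferInstance
  -- the hypothesis in `baseMap` form
  have h1 : IsProper (Groth.Agent.Lib.Helper3.BaseMap.baseMap f g
      (Spec.map (CommRingCat.ofHom
        (algebraMap (S.presheaf.stalk s) (EGA4.Cpl (S.presheaf.stalk s)))) ≫
          S.fromSpecStalk s)) :=
    (Groth.Agent.Lib.Helper3.BaseMap.iff_of_isPullback f g @IsProper _
      (IsPullback.of_hasPullback g _) (IsPullback.of_hasPullback f _)).mp hR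
  have h2 : IsProper (Groth.Agent.Lib.Helper3.BaseMap.baseMap f g (S.fromSpecStalk s)) :=
    Groth.Agent.Lib.Helper3.BaseMap.of_descendsAlong f g @IsProper
      (@Surjective ⊓ @Flat ⊓ @QuasiCompact) _ _ hfpqc h1
  obtain ⟨W, hsW, -, hW⟩ := Groth.Agent.Lib.T2H3.StalkSpread.exists_nhd @IsProper f g
    Groth.Agent.S5904.limDescends_isProper s h2
  exact ⟨W, hsW, hW⟩

end Groth.Agent.S18874
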