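import Groth.Statements.S18907
import Groth.Agent.Lib.T2H7QuotReynoldsSch
import Groth.Agent.Lib.T2H6ProjProper
import Groth.Agent.S2908
import Groth.Agent.S2909

set_option autoImplicit false
universe u
open CategoryTheory CategoryTheory.Limits AlgebraicGeometry
open Curves

namespace Groth.Agent.S18907

/-- Let f : X → S be a projective morphism of schemes (X ≅ Proj of a quasi-coherent graded O_S-algebra
generated in degree one with degree-one part of finite type), G a finite group acting on X by
S-automorphisms, and π : X → Y, with q : Y → S and π ≫ q = f, a quotient of X by G: π is affine and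
G-invariant and over every open of Y the sections of O_Y are exactly the G-invariant sections of
O_X. Then π is surjective, finite, open and closed. If moreover the order of G is invertible in
O_S(S), then: Y is flat over S whenever X is; q is separated; and if f is locally of finite
presentation then q is proper and locally of finite presentation and π is locally of finite
presentation. (The existence of the quotient, parts (1), (2), and the base-change statement (5) of
the source are not stated.) -/
theorem result {X Y S : Scheme.{u}} (f : X ⟶ S)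
    (hf : RelProj.IsProjective f)
    {G : Type u} [Group G] [Finite G] (ρ : G →* Aut X) (hρ : ∀ g : G, (ρ g).hom ≫ f = f)
    (π : X ⟶ Y) (q : Y ⟶ S) (hπ : π ≫ q = f) (hquot : SGA1.IsQuot ρ π) :
    (Surjective π ∧ IsFinite π ∧ IsOpenMap π ∧ IsClosedMap π) ∧
      (IsUnit ((Nat.card G : ℕ) : Γ(S, ⊤)) →
        (Flat f → Flat q) ∧ IsSeparated q ∧
        (LocallyOfFinitePresentation f →
          IsProper q ∧ LocallyOfFinitePresentation q ∧ LocallyOfFinitePresentation π)) := by
  subst hπ
  have hproper : IsProper (π ≫ q) :=
    Groth.Agent.Lib.T2H6.ProjProper.isProper_of_isProjective _ hf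
  obtain ⟨hsurj, horb, hquo⟩ := Groth.Agent.S2908.result ρ π hquot
  obtain ⟨-, hsep, hfin, -⟩ := Groth.Agent.S2909.result ρ π hquot (π ≫ q) q rfl hρ
  have : IsFinite π := hfin inferInstance
  have : Surjective π := ⟨hsurj⟩
  have hopen : IsOpenMap π := by
    intro U hU
    rw [← hquo.isOpen_preimage]
    have hEq : π ⁻¹' (π '' U) = ⋃ g : G, (ρ g).hom '' U := by
      ext x
      simp only [Set.mem_preimage, Set.mem_image, Set.mem_iUnion]
      constructor
      · rintro ⟨u, hu, hux⟩
        obtain ⟨g, hg⟩ := (horb u x).mp hux
        exact ⟨g, u, hu, hg⟩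
      · rintro ⟨g, u, hu, hg⟩
        exact ⟨u, hu, (horb u x).mpr ⟨g, hg⟩⟩
    rw [hEq]
    exact isOpen_iUnion fun g => (ρ g).hom.isOpenEmbedding.isOpenMap U hU
  refine ⟨⟨inferInstance, inferInstance, hopen, π.isClosedMap⟩, fun hn =>
    ⟨fun hfl => ?_, hsep.mp inferInstance, fun hfp => ?_⟩⟩
  · exact Groth.Agent.Lib.T2H7.QuotReynoldsSch.flat_of_isQuot hquot q hn
  · haveI hq : LocallyOfFinitePresentation q :=
      Groth.Agent.Lib.T2H7.QuotReynoldsSch.locallyOfFinitePresentation_of_isQuot hquot q hn
    have : IsSeparated q := hsep.mp inferInstance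
    have : UniversallyClosed q := UniversallyClosed.of_comp_surjective π q
    exact ⟨⟨⟩, hq,
      Groth.Agent.Lib.T2H7.QuotReynoldsSch.locallyOfFinitePresentation_top_of_isQuot hquot q hn⟩

end Groth.Agent.S18907
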