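import Groth.Statements.S1892
import Mathlib
import Groth.Agent.Lib.Helper2Grpd
import Groth.Agent.S1889
import Groth.Agent.S1891

set_option autoImplicit false
set_option linter.style.haveILetI false
universe u
open CategoryTheory CategoryTheory.Limits AlgebraicGeometry
open Grpd

namespace Groth.Agent.S1892

section Dev
open Groth.Agent.Lib.Helper2.Grpd Groth.Agent.S1891

theorem main (S : Scheme.{u}) (G₁ G₂ : Grpd.GroupoidScheme S) (k : Type u) [Field k]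
    (eU : G₂.U ≅ Spec (CommRingCat.of k)) (a : Grpd.GroupoidScheme.Hom G₁ G₂) [IsIso a.fU]
    (hlc : IsLocallyClosed (Set.range ⇑a.fR)) : IsClosed (Set.range ⇑a.fR) := by
  have hUn : Nonempty G₂.U := ⟨eU.inv (IsLocalRing.closedPoint k)⟩
  have hUi : IsIntegral G₂.U := isIntegral_of_isOpenImmersion eU.hom
  have hUs : Subsingleton G₂.U := eU.hom.homeomorph.subsingleton
  rw [← closure_subset_iff_isClosed]
  intro r hr
  let W : G₂.R.Opens := ⟨coborder (Set.range a.fR), hlc.isOpen_coborder⟩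
  let Z := Spec (G₂.R.residueField r)
  let aZ : Z ⟶ G₂.R := G₂.R.fromSpecResidueField r
  have hO := Groth.Agent.S1889.result S G₂ k eU W Z aZ
  set p1 := pullback.fst (aZ ≫ G₂.s) (W.ι ≫ G₂.t) with hp1
  set p2 := pullback.snd (aZ ≫ G₂.s) (W.ι ≫ G₂.t) with hp2
  have hm : (p1 ≫ aZ) ≫ G₂.s = (p2 ≫ W.ι) ≫ G₂.t :=
    (Category.assoc _ _ _).trans (pullback.condition.trans (Category.assoc _ _ _).symm)
  set m := comp G₂ (p1 ≫ aZ) (p2 ≫ W.ι) hm with hmdef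
  have hO' : IsOpen (Set.range m) := hO
  -- identity lies in W
  have he : G₂.e = inv a.fU ≫ G₁.e ≫ a.fR := by rw [hom_e, IsIso.inv_hom_id_assoc]
  have hεW : Set.range (aZ ≫ G₂.s ≫ G₂.e) ⊆ Set.range W.ι := by
    rw [Scheme.Opens.range_ι]
    rintro _ ⟨z, rfl⟩
    show (aZ ≫ G₂.s ≫ G₂.e) z ∈ coborder (Set.range a.fR)
    apply subset_coborder
    rw [he]
    simp only [Scheme.Hom.comp_apply]
    exact ⟨_, rfl⟩
  let w0 : Z ⟶ W.toScheme := IsOpenImmersion.lift W.ι _ hεW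
  have hw0 : w0 ≫ W.ι = aZ ≫ G₂.s ≫ G₂.e := IsOpenImmersion.lift_fac _ _ _
  let γ : Z ⟶ pullback (aZ ≫ G₂.s) (W.ι ≫ G₂.t) := pullback.lift (𝟙 Z) w0 (by
    rw [Category.id_comp, ← Category.assoc w0, hw0, Category.assoc, Category.assoc, G₂.e_t,
      Category.comp_id])
  have hγm : γ ≫ m = aZ := by
    rw [hmdef, precomp_comp]
    have e1 : γ ≫ p1 ≫ aZ = aZ := by
      rw [← Category.assoc, hp1, pullback.lift_fst, Category.id_comp]
    have e2 : γ ≫ p2 ≫ W.ι = aZ ≫ G₂.s ≫ G₂.e := by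
      rw [← Category.assoc, hp2, pullback.lift_snd, hw0]
    rw [comp_congr G₂ _ e1 e2]
    exact comp_e G₂ aZ _ rfl _
  have hZne : Nonempty Z := inferInstance
  obtain ⟨z0⟩ := hZne
  have hrO : r ∈ Set.range m := by
    refine ⟨γ z0, ?_⟩
    rw [← Scheme.Hom.comp_apply, hγm]
    exact Scheme.fromSpecResidueField_apply _ _
  obtain ⟨x, hxO, hxW⟩ := mem_closure_iff.mp hr _ hO' hrO
  obtain ⟨z, rfl⟩ := hxO
  obtain ⟨y, hy⟩ := hxW
  obtain ⟨q, hq1, hq2⟩ := Scheme.Pullback.exists_preimage_pullback (f := m) (g := a.fR) z y hy.symm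
  set π1 := pullback.fst m a.fR with hπ1
  set υ := pullback.snd m a.fR with hυ
  have hQ : π1 ≫ m = υ ≫ a.fR := pullback.condition
  let ω : pullback m a.fR ⟶ G₂.R := π1 ≫ p2 ≫ W.ι
  let rT0 : pullback m a.fR ⟶ G₂.R := π1 ≫ p1 ≫ aZ
  have hrω0 : rT0 ≫ G₂.s = ω ≫ G₂.t := by
    show (π1 ≫ p1 ≫ aZ) ≫ G₂.s = (π1 ≫ p2 ≫ W.ι) ≫ G₂.t
    simp only [Category.assoc]
    have := hm
    simp only [Category.assoc] at this
    rw [this]
  have hm0 : π1 ≫ m = comp G₂ rT0 ω hrω0 := by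
    show π1 ≫ comp G₂ (p1 ≫ aZ) (p2 ≫ W.ι) hm = comp G₂ rT0 ω hrω0
    rw [precomp_comp]
  -- the closure argument
  have hωcl : ω q ∈ closure (Set.range a.fR) := by
    set prQ1 := pullback.fst G₂.t (a.fR ≫ G₂.t) with hprQ1
    set prQ2 := pullback.snd G₂.t (a.fR ≫ G₂.t) with hprQ2
    have hQc : prQ1 ≫ G₂.t = prQ2 ≫ a.fR ≫ G₂.t := pullback.condition
    have hD : (prQ1 ≫ G₂.i) ≫ G₂.s = (prQ2 ≫ a.fR) ≫ G₂.t := by
      rw [Category.assoc, G₂.i_s, hQc, Category.assoc]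
    let D : pullback G₂.t (a.fR ≫ G₂.t) ⟶ G₂.R := comp G₂ (prQ1 ≫ G₂.i) (prQ2 ≫ a.fR) hD
    have hψ : rT0 ≫ G₂.t = υ ≫ a.fR ≫ G₂.t := by
      rw [← Category.assoc υ, ← hQ, hm0, comp_t]
    let ψ : pullback m a.fR ⟶ pullback G₂.t (a.fR ≫ G₂.t) := pullback.lift rT0 υ hψ
    have hψ1 : ψ ≫ prQ1 = rT0 := pullback.lift_fst _ _ _
    have hψ2 : ψ ≫ prQ2 = υ := pullback.lift_snd _ _ _
    have hψD : ψ ≫ D = ω := by
      show ψ ≫ comp G₂ (prQ1 ≫ G₂.i) (prQ2 ≫ a.fR) hD = ω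
      rw [precomp_comp]
      have e1 : ψ ≫ prQ1 ≫ G₂.i = rT0 ≫ G₂.i := by rw [← Category.assoc, hψ1]
      have e2 : ψ ≫ prQ2 ≫ a.fR = comp G₂ rT0 ω hrω0 := by
        rw [← Category.assoc, hψ2, ← hQ, hm0]
      rw [comp_congr G₂ _ e1 e2]
      exact i_comp_comp G₂ rT0 ω hrω0 _
    -- D maps prQ1 ⁻¹' T into T
    have hB : ∀ q' : ↥(pullback G₂.t (a.fR ≫ G₂.t)), prQ1 q' ∈ Set.range a.fR →
        D q' ∈ Set.range a.fR := by
      rintro q' ⟨y1, hy1⟩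
      obtain ⟨σ, hσ1, hσ2⟩ :=
        Scheme.Pullback.exists_preimage_pullback (f := prQ1) (g := a.fR) q' y1 hy1.symm
      set α := pullback.fst prQ1 a.fR with hα
      set β := pullback.snd prQ1 a.fR with hβ
      have hαβ : α ≫ prQ1 = β ≫ a.fR := pullback.condition
      have hc : (β ≫ G₁.i) ≫ G₁.s = (α ≫ prQ2) ≫ G₁.t := by
        rw [← cancel_mono a.fU]
        calc ((β ≫ G₁.i) ≫ G₁.s) ≫ a.fU = β ≫ (G₁.t ≫ a.fU) := by
              rw [Category.assoc, Category.assoc, ← Category.assoc G₁.i, G₁.i_s]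
          _ = β ≫ (a.fR ≫ G₂.t) := by rw [← a.comm_t]
          _ = (β ≫ a.fR) ≫ G₂.t := (Category.assoc _ _ _).symm
          _ = (α ≫ prQ1) ≫ G₂.t := by rw [hαβ]
          _ = α ≫ (prQ2 ≫ a.fR ≫ G₂.t) := by rw [Category.assoc, hQc]
          _ = α ≫ (prQ2 ≫ G₁.t ≫ a.fU) := by rw [← a.comm_t]
          _ = ((α ≫ prQ2) ≫ G₁.t) ≫ a.fU := by simp only [Category.assoc]
      have hαD : α ≫ D = comp G₁ (β ≫ G₁.i) (α ≫ prQ2) hc ≫ a.fR := by
        show α ≫ comp G₂ (prQ1 ≫ G₂.i) (prQ2 ≫ a.fR) hD = _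
        rw [precomp_comp, hom_comp]
        refine comp_congr G₂ _ ?_ ?_
        · rw [← Category.assoc, hαβ, Category.assoc, Category.assoc, hom_i]
        · rw [Category.assoc]
      refine ⟨(comp G₁ (β ≫ G₁.i) (α ≫ prQ2) hc) σ, ?_⟩
      rw [← Scheme.Hom.comp_apply, ← hαD, Scheme.Hom.comp_apply, hσ1]
    have hopen : IsOpenMap prQ1 := by
      have : UniversallyOpen (a.fR ≫ G₂.t) := inferInstance
      have : UniversallyOpen prQ1 := inferInstance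
      exact prQ1.isOpenMap
    have h1 : ψ q ∈ prQ1 ⁻¹' closure (Set.range a.fR) := by
      show prQ1 (ψ q) ∈ closure (Set.range a.fR)
      rw [← Scheme.Hom.comp_apply, hψ1]
      show (π1 ≫ p1 ≫ aZ) q ∈ closure (Set.range a.fR)
      simp only [Scheme.Hom.comp_apply]
      rw [show aZ (p1 (π1 q)) = r from Scheme.fromSpecResidueField_apply _ _]
      exact hr
    have h2 := hopen.preimage_closure_subset_closure_preimage h1
    have h3 : D (ψ q) ∈ closure (D '' (prQ1 ⁻¹' Set.range a.fR)) :=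
      image_closure_subset_closure_image D.continuous ⟨_, h2, rfl⟩
    have h4 : D '' (prQ1 ⁻¹' Set.range a.fR) ⊆ Set.range a.fR := by
      rintro _ ⟨q', hq', rfl⟩
      exact hB q' hq'
    have h5 := closure_mono h4 h3
    rw [← Scheme.Hom.comp_apply, hψD] at h5
    exact h5
  have hωW : ω q ∈ Set.range a.fR := by
    rw [← coborder_inter_closure (s := Set.range a.fR)]
    refine ⟨?_, hωcl⟩
    show (π1 ≫ p2 ≫ W.ι) q ∈ coborder (Set.range a.fR)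
    rw [Scheme.Hom.comp_apply, Scheme.Hom.comp_apply]
    exact (p2 (π1 q)).2
  obtain ⟨y', hy'⟩ := hωW
  obtain ⟨τ, hτ1, hτ2⟩ :=
    Scheme.Pullback.exists_preimage_pullback (f := ω) (g := a.fR) q y' hy'.symm
  set π := pullback.fst ω a.fR with hπ
  set w' := pullback.snd ω a.fR with hw'def
  have hw' : π ≫ ω = w' ≫ a.fR := pullback.condition
  let x' : pullback ω a.fR ⟶ G₁.R := π ≫ υ
  let rT : pullback ω a.fR ⟶ G₂.R := π ≫ π1 ≫ p1 ≫ aZ
  have hrω : rT ≫ G₂.s = (π ≫ ω) ≫ G₂.t := by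
    show (π ≫ π1 ≫ p1 ≫ aZ) ≫ G₂.s = (π ≫ π1 ≫ p2 ≫ W.ι) ≫ G₂.t
    simp only [Category.assoc]
    have := hm
    simp only [Category.assoc] at this
    rw [this]
  have hx' : comp G₂ rT (π ≫ ω) hrω = x' ≫ a.fR := by
    have e0 : (π ≫ π1) ≫ m = x' ≫ a.fR := by
      rw [Category.assoc, hQ, ← Category.assoc]
    have e0' : (π ≫ π1) ≫ comp G₂ (p1 ≫ aZ) (p2 ≫ W.ι) hm = x' ≫ a.fR := e0
    rw [← e0', precomp_comp]
    exact comp_congr G₂ _ (by simp only [rT, Category.assoc]) (by simp only [ω, Category.assoc])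
  have hs : x' ≫ G₁.s = w' ≫ G₁.s := by
    rw [← cancel_mono a.fU]
    calc (x' ≫ G₁.s) ≫ a.fU = x' ≫ (G₁.s ≫ a.fU) := Category.assoc _ _ _
      _ = x' ≫ (a.fR ≫ G₂.s) := by rw [a.comm_s]
      _ = (x' ≫ a.fR) ≫ G₂.s := (Category.assoc _ _ _).symm
      _ = (π ≫ ω) ≫ G₂.s := by rw [← hx', comp_s]
      _ = (w' ≫ a.fR) ≫ G₂.s := by rw [hw']
      _ = w' ≫ (a.fR ≫ G₂.s) := Category.assoc _ _ _
      _ = w' ≫ (G₁.s ≫ a.fU) := by rw [a.comm_s]
      _ = (w' ≫ G₁.s) ≫ a.fU := (Category.assoc _ _ _).symm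
  have hc : x' ≫ G₁.s = (w' ≫ G₁.i) ≫ G₁.t := by rw [hs, Category.assoc, G₁.i_t]
  let ρ' : pullback ω a.fR ⟶ G₁.R := comp G₁ x' (w' ≫ G₁.i) hc
  have hρ' : ρ' ≫ a.fR = rT := by
    show comp G₁ x' (w' ≫ G₁.i) hc ≫ a.fR = rT
    rw [hom_comp]
    have e2 : (w' ≫ G₁.i) ≫ a.fR = (π ≫ ω) ≫ G₂.i := by
      rw [Category.assoc, hom_i, ← Category.assoc, ← hw']
    rw [comp_congr G₂ _ hx'.symm e2]
    exact comp_comp_i G₂ rT (π ≫ ω) hrω _
  refine ⟨ρ' τ, ?_⟩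
  rw [← Scheme.Hom.comp_apply, hρ']
  show (π ≫ π1 ≫ p1 ≫ aZ) τ = r
  simp only [Scheme.Hom.comp_apply]
  exact Scheme.fromSpecResidueField_apply _ _

end Dev


/-- Let (U₁, R₁, s, t, c) and (U₂, R₂, s, t, c) be groupoid schemes over S with U₂ isomorphic to Spec k
for a field k, and a : R₁ → R₂ a morphism of groupoid schemes which is an isomorphism on objects. If
a(R₁) is locally closed in R₂ then it is closed. (A groupoid scheme carries U, R, s, t, c, e, i over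
S satisfying the groupoid axioms on T-points.) -/
theorem result (S : Scheme.{u}) (G₁ G₂ : Grpd.GroupoidScheme S) (k : Type u) [Field k] (eU : G₂.U ≅ Spec (CommRingCat.of k)) (a : Grpd.GroupoidScheme.Hom G₁ G₂) [IsIso a.fU] (hlc : IsLocallyClosed (Set.range ⇑a.fR)) : IsClosed (Set.range ⇑a.fR) := by
  exact main S G₁ G₂ k eU a hlc

end Groth.Agent.S1892
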