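import Groth.Statements.S18944
import Groth.Agent.Lib.Helper5RegImm

set_option autoImplicit false
set_option linter.style.haveILetI false
universe u
open CategoryTheory AlgebraicGeometry
open RegImm

namespace Groth.Agent.S18944

/-- Let i : Z → X be a regular immersion of schemes (kind: successive non-zero-divisors). Then for every
point z of Z the kernel of the induced map of local rings O_{X, i(z)} → O_{Z, z} is generated by a
regular sequence of O_{X, i(z)}. (No Noetherian hypothesis; over a locally Noetherian X the converse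
also holds.) -/
theorem result {Z X : Scheme.{u}} (i : Z ⟶ X)
    (h : RegImm.IsRegularImmersion RegImm.Kind.regular i) (z : Z) :
    ∃ rs : List (X.presheaf.stalk (i z)),
      RingTheory.Sequence.IsRegular (X.presheaf.stalk (i z)) rs ∧
        RingHom.ker (i.stalkMap z).hom = Ideal.ofList rs := by
  obtain ⟨-, hreg⟩ := h
  obtain ⟨U, hzU, hcl, rs, hrsreg, hker⟩ := hreg z
  haveI := hcl
  haveI hUaff : IsAffine U.1.toScheme := U.2
  have key : ∀ (W : X.Opens), W = U.1 → ∃ rs' : List Γ(X, W),
      RingTheory.Sequence.IsRegular Γ(X, W) rs' ∧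
        RingHom.ker (i.app W).hom = Ideal.ofList rs' := by
    rintro W rfl
    exact ⟨rs, hrsreg, hker⟩
  obtain ⟨rs', hreg', hker'⟩ := key (U.1.ι ''ᵁ ⊤) (Scheme.Opens.ι_image_top U.1)
  have hRegAt : Groth.Agent.Lib.Helper5.RegImm.RegAt (i ∣_ U.1) ⟨z, hzU⟩ := by
    refine ⟨⊤, isAffineOpen_top _, trivial, rs', hreg', ?_⟩
    rw [Scheme.Hom.ker_apply]
    refine Eq.trans ?_ hker'
    have h1 := morphismRestrict_app i U.1 ⊤
    have h2 : ((i ∣_ U.1).app ⊤).hom = (Z.presheaf.map (eqToHom
        (image_morphismRestrict_preimage i U.1 ⊤)).op).hom.comp (i.app (U.1.ι ''ᵁ ⊤)).hom := by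
      rw [h1]; rfl
    change RingHom.ker ((i ∣_ U.1).app ⊤).hom = _
    rw [h2]
    apply RingHom.ker_comp_of_injective
    exact (ConcreteCategory.bijective_of_isIso (Z.presheaf.map (eqToHom
        (image_morphismRestrict_preimage i U.1 ⊤)).op)).1
  have hS := Groth.Agent.Lib.Helper5.RegImm.stalkReg_of_regAt (i ∣_ U.1) ⟨z, hzU⟩ hRegAt
  exact (Groth.Agent.Lib.Helper5.RegImm.stalkReg_morphismRestrict_iff i U.1 ⟨z, hzU⟩).mp hS

end Groth.Agent.S18944
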