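import Groth.Statements.S18958
import Groth.Agent.Lib.T2H3MagnetUnram

set_option autoImplicit false
set_option linter.style.haveILetI false
universe u
open CategoryTheory MonoidalCategory CartesianMonoidalCategory MonObj AlgebraicGeometry Opposite
open Magnet

namespace Groth.Agent.S18958

/-- a point of `B ×_S T'` lying over a point in the range of `u` is in the range of `B ◁ u`. -/
theorem mem_range_whiskerLeft {S : Scheme.{u}} (B : Over S) {T₀ T' : Over S} (u : T₀ ⟶ T')
    (z : (B ⊗ T').left) (hz : (Limits.pullback.snd B.hom T'.hom) z ∈ Set.range u.left) :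
    z ∈ Set.range (B ◁ u).left := by
  have hsq := Groth.Agent.Lib.T2H3.MagnetUnram.isPullback_whiskerLeft B u
  have e : (B ◁ u).left =
      hsq.isoPullback.hom ≫ Limits.pullback.fst (Limits.pullback.snd B.hom T'.hom) u.left :=
    (IsPullback.isoPullback_hom_fst hsq).symm
  have h1 : z ∈ Set.range (Limits.pullback.fst (Limits.pullback.snd B.hom T'.hom) u.left) := by
    rw [Scheme.Pullback.range_fst]
    exact hz
  obtain ⟨z₁, hz₁⟩ := h1
  obtain ⟨z₂, hz₂⟩ := (hsq.isoPullback.hom.homeomorph).surjective z₁
  refine ⟨z₂, ?_⟩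
  rw [e, Scheme.Hom.comp_apply]
  have hz₂' : hsq.isoPullback.hom z₂ = z₁ := hz₂
  rw [hz₂']
  exact hz₁

/-- Let k be a field, G a group k-scheme and M a monoid k-scheme with a homomorphism of monoids i : G →
M and a zero o : Spec k → M (m·o = o = o·m for every point m of M). Assume that for every k-scheme T
whose underlying scheme is the spectrum of a field K, every open subset of M ×_k T which is stable
under G acting by left multiplication through i on the first factor and which contains the zero
section T → M ×_k T is the whole of M ×_k T. Let X be a k-scheme with an action aX of G and j : U →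
X an open immersion, G-equivariant for an action aU of G on U (an open G-stable subscheme). For a
G-scheme W write D_W for the functor on k-schemes whose value at Y is the set of k-morphisms M ×_k Y
→ W that are G-equivariant for G acting on M ×_k Y by left multiplication through i on the first
factor. Then the square of presheaves formed by D_U → D_X (composition with j), the restrictions D_U
→ U and D_X → X to the zero section of M, and j is cartesian. (In the source M is a Kempf monoid
with G its group of units, and the restriction to the zero section is viewed as the retraction of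
D_X onto the fixed points X^G; the displayed property of the open G-stable subsets of M over field
extensions is what the argument uses about M, and the square over X^G is cartesian exactly when the
one over X is, U^G being X^G ×_X U.) -/
theorem result (k : Type u) [Field k]
    (M G X U : Over (Spec (CommRingCat.of k))) [MonObj M] [GrpObj G] (i : G ⟶ M) [IsMonHom i]
    (o : 𝟙_ (Over (Spec (CommRingCat.of k))) ⟶ M)
    (ho : ∀ (T : Over (Spec (CommRingCat.of k))) (m : T ⟶ M), m * (toUnit T ≫ o) = toUnit T ≫ o ∧ (toUnit T ≫ o) * m = toUnit T ≫ o)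
    (hM : ∀ (T : Over (Spec (CommRingCat.of k))) (K : Type u) [Field K] (eT : T.left ≅ Spec (CommRingCat.of K))
      (W : (M ⊗ T).left.Opens),
      (CartesianMonoidalCategory.snd G (M ⊗ T)).left ⁻¹ᵁ W ≤
          ((((Magnet.MonAct.regular M).restrict i).prod (Magnet.MonAct.trivial G T)).act).left ⁻¹ᵁ W →
      (CartesianMonoidalCategory.lift (toUnit T ≫ o) (𝟙 T)).left ⁻¹ᵁ W = ⊤ → W = ⊤)
    (aX : AlgGrp.Action G X) (aU : AlgGrp.Action G U) (j : U ⟶ X) [IsOpenImmersion j.left]
    (hj : Magnet.MonAct.IsEquivariant (Magnet.MonAct.ofAction aU) (Magnet.MonAct.ofAction aX) j) :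
    IsPullback
      (Magnet.MonAct.eqvHom.postcomp ((Magnet.MonAct.regular M).restrict i) j hj)
      (Magnet.MonAct.eqvHom.evalAt ((Magnet.MonAct.regular M).restrict i) (Magnet.MonAct.ofAction aU) o)
      (Magnet.MonAct.eqvHom.evalAt ((Magnet.MonAct.regular M).restrict i) (Magnet.MonAct.ofAction aX) o)
      (yoneda.map j) := by
  have hjmono : Mono j := by
    have : Mono j.left := inferInstance
    exact (Over.forget _).mono_of_mono_map this
  have hj' : aU.act ≫ j = (G ◁ j) ≫ aX.act := hj
  refine IsPullback.of_forall_isPullback_app fun Y => ?_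
  rw [CategoryTheory.Limits.Types.isPullback_iff]
  refine ⟨?_, ?_, ?_⟩
  · ext φ
    change (lift (toUnit (unop Y) ≫ o) (𝟙 (unop Y)) ≫ (φ.1 ≫ j)) =
      (lift (toUnit (unop Y) ≫ o) (𝟙 (unop Y)) ≫ φ.1) ≫ j
    rw [Category.assoc]
  · rintro x₁ y₁ ⟨h1, -⟩
    apply Subtype.ext
    have h2 : x₁.1 ≫ j = y₁.1 ≫ j := congrArg Subtype.val h1
    exact (cancel_mono j).mp h2
  · rintro ⟨φ, hφ⟩ u hu
    have hu' : lift (toUnit (unop Y) ≫ o) (𝟙 (unop Y)) ≫ φ = u ≫ j := hu
    have key : Set.range φ.left ⊆ Set.range j.left := by
      rintro _ ⟨w, rfl⟩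
      set y := (Limits.pullback.snd M.hom (unop Y).hom) w with hy
      let K : Type u := (unop Y).left.residueField y
      let t₀ : Spec (CommRingCat.of K) ⟶ (unop Y).left := (unop Y).left.fromSpecResidueField y
      let T : Over (Spec (CommRingCat.of k)) := Over.mk (t₀ ≫ (unop Y).hom)
      let t : T ⟶ unop Y := Over.homMk t₀ rfl
      set ψ : M ⊗ T ⟶ X := (M ◁ t) ≫ φ with hψ
      have hψeq : MonAct.IsEquivariant
          (((MonAct.regular M).restrict i).prod (MonAct.trivial G T)) (MonAct.ofAction aX) ψ :=
        ((MonAct.eqvHom ((MonAct.regular M).restrict i) (MonAct.ofAction aX)).map t.op ⟨φ, hφ⟩).2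
      have hψeq' : (((MonAct.regular M).restrict i).prod (MonAct.trivial G T)).act ≫ ψ =
          (G ◁ ψ) ≫ aX.act := hψeq
      have hstab : (snd G (M ⊗ T)).left ⁻¹ᵁ (ψ.left ⁻¹ᵁ j.left.opensRange) ≤
          ((((MonAct.regular M).restrict i).prod (MonAct.trivial G T)).act).left ⁻¹ᵁ
            (ψ.left ⁻¹ᵁ j.left.opensRange) := by
        intro z hz
        have hz1 : ψ.left ((snd G (M ⊗ T)).left z) ∈ Set.range j.left := hz
        change ψ.left ((((MonAct.regular M).restrict i).prod (MonAct.trivial G T)).act.left z) ∈
          Set.range j.left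
        rw [← Scheme.Hom.comp_apply, ← Over.comp_left, hψeq', Over.comp_left,
          Scheme.Hom.comp_apply]
        have hz2 : (G ◁ ψ).left z ∈ Set.range (G ◁ j).left := by
          apply mem_range_whiskerLeft
          have e0 : (G ◁ ψ).left ≫ (snd G X).left = (snd G (M ⊗ T)).left ≫ ψ.left := by
            rw [← Over.comp_left, ← Over.comp_left, whiskerLeft_snd]
          have e1 : (snd G X).left ((G ◁ ψ).left z) = ψ.left ((snd G (M ⊗ T)).left z) := by
            rw [← Scheme.Hom.comp_apply, e0, Scheme.Hom.comp_apply]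
          change (snd G X).left ((G ◁ ψ).left z) ∈ Set.range j.left
          rw [e1]
          exact hz1
        obtain ⟨z'', hz''⟩ := hz2
        rw [← hz'', ← Scheme.Hom.comp_apply, ← Over.comp_left, ← hj', Over.comp_left,
          Scheme.Hom.comp_apply]
        exact ⟨_, rfl⟩
      have hzero : (lift (toUnit T ≫ o) (𝟙 T)).left ⁻¹ᵁ (ψ.left ⁻¹ᵁ j.left.opensRange) = ⊤ := by
        have h1 : lift (toUnit T ≫ o) (𝟙 T) ≫ ψ = (t ≫ u) ≫ j := by
          rw [hψ, lift_whiskerLeft_assoc, Category.id_comp, Category.assoc, ← hu',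
            ← Category.assoc, comp_lift, Category.comp_id, ← Category.assoc,
            toUnit_unique (t ≫ toUnit (unop Y)) (toUnit T)]
        ext x
        simp only [TopologicalSpace.Opens.coe_top, Set.mem_univ, iff_true]
        change ψ.left ((lift (toUnit T ≫ o) (𝟙 T)).left x) ∈ Set.range j.left
        rw [← Scheme.Hom.comp_apply, ← Over.comp_left, h1, Over.comp_left, Scheme.Hom.comp_apply]
        exact ⟨_, rfl⟩
      have hW := hM T K (Iso.refl _) (ψ.left ⁻¹ᵁ j.left.opensRange) hstab hzero
      have hw : w ∈ Set.range (M ◁ t).left := by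
        apply mem_range_whiskerLeft
        refine ⟨(default : Spec (CommRingCat.of K)), ?_⟩
        exact Scheme.fromSpecResidueField_apply _ _
      obtain ⟨w', hw'⟩ := hw
      have : w' ∈ ψ.left ⁻¹ᵁ j.left.opensRange := by rw [hW]; trivial
      have h2 : ψ.left w' ∈ Set.range j.left := this
      rw [hψ, Over.comp_left, Scheme.Hom.comp_apply, hw'] at h2
      exact h2
    let φ'₀ : (M ⊗ unop Y).left ⟶ U.left := IsOpenImmersion.lift j.left φ.left key
    have hφ'₀ : φ'₀ ≫ j.left = φ.left := IsOpenImmersion.lift_fac _ _ _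
    let φ' : M ⊗ unop Y ⟶ U := Over.homMk φ'₀ (by
      rw [← Over.w j, ← Category.assoc, hφ'₀]
      exact Over.w φ)
    have hφ' : φ' ≫ j = φ := by
      apply Over.OverMorphism.ext
      exact hφ'₀
    have hφeq : (((MonAct.regular M).restrict i).prod (MonAct.trivial G (unop Y))).act ≫ φ =
        (G ◁ φ) ≫ aX.act := hφ
    have hequiv : MonAct.IsEquivariant
        (((MonAct.regular M).restrict i).prod (MonAct.trivial G (unop Y))) (MonAct.ofAction aU)
        φ' := by
      change _ ≫ φ' = (G ◁ φ') ≫ aU.act
      rw [← cancel_mono j, Category.assoc, hφ', Category.assoc, hj', hφeq,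
        ← MonoidalCategory.whiskerLeft_comp_assoc, hφ']
    refine ⟨⟨φ', hequiv⟩, Subtype.ext hφ', ?_⟩
    change lift (toUnit (unop Y) ≫ o) (𝟙 (unop Y)) ≫ φ' = u
    rw [← cancel_mono j, Category.assoc, hφ', hu']

end Groth.Agent.S18958
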