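import Groth.Statements.S1896
import Mathlib
import Groth.Agent.Lib.T2H4StalkLen
set_option backward.isDefEq.respectTransparency.types false

set_option autoImplicit false
universe u
open CategoryTheory AlgebraicGeometry
open Cyc

namespace Groth.Agent.S1896

/-- For a short exact sequence 0 → F → G → H → 0 of coherent O_X-modules (X locally Noetherian with
dimension function δ) whose supports have δ-dimension at most k, one has [G]_k = [F]_k + [H]_k
coefficientwise. Here (X, δ) satisfies Cyc.IsSetup (X locally Noetherian with universally catenary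
local rings, δ a dimension function). -/
theorem result (X : Scheme.{u}) (δ : X → ℤ) (hX : Cyc.IsSetup X δ) (k : ℤ) (T : ShortComplex X.Modules) (hT : T.ShortExact) (h₁ : Coh.IsCoh T.X₁) (h₂ : Coh.IsCoh T.X₂) (h₃ : Coh.IsCoh T.X₃) (hdim : ∀ x : X, Nontrivial (T.X₂.presheaf.stalk x) → δ x ≤ k) : Cyc.sheafFun δ k T.X₂ = Cyc.sheafFun δ k T.X₁ + Cyc.sheafFun δ k T.X₃ := by
  obtain ⟨hN, -, hdimfun⟩ := hX
  haveI := hN
  funext x
  rw [Pi.add_apply]
  unfold Cyc.sheafFun
  by_cases hk : δ x = k
  · rw [if_pos hk, if_pos hk, if_pos hk]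
    have hlen := Groth.Agent.Lib.T2H4.StalkLen.length_stalk_shortExact T hT x
    have hfin : IsFiniteLength (X.presheaf.stalk x) (T.X₂.presheaf.stalk x) := by
      apply Groth.Agent.Lib.T2H4.StalkLen.isFiniteLength_stalk T.X₂ h₂ x
      intro y hy hyx
      by_contra hns
      rw [not_subsingleton_iff_nontrivial] at hns
      have h1 := hdim y hns
      have h2 := (hdimfun y x hy hyx).1
      omega
    rw [← Module.length_ne_top_iff] at hfin
    rw [hlen] at hfin ⊢
    have hf1 : Module.length (X.presheaf.stalk x) (T.X₁.presheaf.stalk x) ≠ ⊤ := fun h0 => by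
      rw [h0, top_add] at hfin
      exact hfin rfl
    have hf3 : Module.length (X.presheaf.stalk x) (T.X₃.presheaf.stalk x) ≠ ⊤ := fun h0 => by
      rw [h0, add_top] at hfin
      exact hfin rfl
    rw [ENat.toNat_add hf1 hf3]
    push_cast
    rfl
  · rw [if_neg hk, if_neg hk, if_neg hk, add_zero]

end Groth.Agent.S1896
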