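import Groth.Statements.S19093
import Mathlib

set_option autoImplicit false
universe u
open FrobAlg

namespace Groth.Agent.S19093

/-- Concrete F-finiteness: every element is a combination of finitely many `t i`
with `p`-th power coefficients. -/
def FFin (p : ℕ) (S : Type*) [CommRing S] : Prop :=
  ∃ (ι : Type) (_ : Fintype ι) (t : ι → S), ∀ x : S, ∃ c : ι → S, x = ∑ i, c i ^ p * t i

/-- membership in the Frobenius-span of a family -/
def FS (p : ℕ) {S ι : Type*} [CommRing S] [Fintype ι] (t : ι → S) (x : S) : Prop :=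
  ∃ c : ι → S, x = ∑ i, c i ^ p * t i

theorem FS.add {p : ℕ} [Fact p.Prime] {S ι : Type*} [CommRing S] [CharP S p] [Fintype ι]
    {t : ι → S} {x y : S} (hx : FS p t x) (hy : FS p t y) : FS p t (x + y) := by
  obtain ⟨c, rfl⟩ := hx
  obtain ⟨d, rfl⟩ := hy
  exact ⟨fun i => c i + d i, by simp only [add_pow_char, add_mul, Finset.sum_add_distrib]⟩

theorem FS.zero {p : ℕ} (hp : p ≠ 0) {S ι : Type*} [CommRing S] [Fintype ι]
    {t : ι → S} : FS p t 0 :=
  ⟨fun _ => 0, by simp [zero_pow hp]⟩

theorem FS.pow_mul {p : ℕ} {S ι : Type*} [CommRing S] [Fintype ι]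
    {t : ι → S} {x : S} (d : S) (hx : FS p t x) : FS p t (d ^ p * x) := by
  obtain ⟨c, rfl⟩ := hx
  exact ⟨fun i => d * c i, by simp only [mul_pow, Finset.mul_sum, mul_assoc]⟩

theorem FS.sum {p : ℕ} [Fact p.Prime] {S ι κ : Type*} [CommRing S] [CharP S p] [Fintype ι]
    {t : ι → S} (s : Finset κ) (f : κ → S) (h : ∀ k ∈ s, FS p t (f k)) :
    FS p t (∑ k ∈ s, f k) :=
  Finset.sum_induction f (FS p t) (fun _ _ => FS.add)
    (FS.zero (Fact.out : p.Prime).ne_zero) h

theorem FS.gen {p : ℕ} (hp : p ≠ 0) {S ι : Type*} [CommRing S] [Fintype ι]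
    (t : ι → S) (i : ι) : FS p t (t i) := by
  classical
  refine ⟨fun j => if j = i then 1 else 0, ?_⟩
  rw [Finset.sum_eq_single i]
  · simp
  · intro j _ hj
    simp [hj, hp]
  · intro h
    exact absurd (Finset.mem_univ i) h

theorem FFin.of_surjective {p : ℕ} {R S F : Type*} [CommRing R] [CommRing S]
    [FunLike F R S] [RingHomClass F R S] (φ : F) (hφ : Function.Surjective φ)
    (h : FFin p R) : FFin p S := by
  obtain ⟨ι, _, t, ht⟩ := h
  refine ⟨ι, inferInstance, fun i => φ (t i), fun x => ?_⟩
  obtain ⟨y, rfl⟩ := hφ x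
  obtain ⟨c, hc⟩ := ht y
  refine ⟨fun i => φ (c i), ?_⟩
  rw [hc]
  simp only [map_sum, map_mul, map_pow]

theorem FFin.of_isLocalization {p : ℕ} (hp : 0 < p) {R : Type*} [CommRing R]
    (M : Submonoid R) (S : Type*) [CommRing S] [Algebra R S] [IsLocalization M S]
    (h : FFin p R) : FFin p S := by
  obtain ⟨q, rfl⟩ : ∃ q, p = q + 1 := ⟨p - 1, by omega⟩
  obtain ⟨ι, _, t, ht⟩ := h
  refine ⟨ι, inferInstance, fun i => algebraMap R S (t i), fun x => ?_⟩
  obtain ⟨a, s, rfl⟩ := IsLocalization.exists_mk'_eq M x
  obtain ⟨c, hc⟩ := ht (a * (s : R) ^ q)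
  refine ⟨fun i => IsLocalization.mk' S (c i) s, ?_⟩
  have hu : IsUnit ((algebraMap R S (s : R)) ^ (q + 1)) :=
    (IsLocalization.map_units S s).pow (q + 1)
  refine (hu.mul_left_inj).mp ?_
  rw [Finset.sum_mul]
  have h1 : ∀ i, IsLocalization.mk' S (c i) s ^ (q + 1) * algebraMap R S (t i) *
      (algebraMap R S (s : R)) ^ (q + 1) =
      algebraMap R S (c i) ^ (q + 1) * algebraMap R S (t i) := by
    intro i
    rw [mul_right_comm, ← mul_pow, IsLocalization.mk'_spec]
  have h2 : IsLocalization.mk' S a s * (algebraMap R S (s : R)) ^ (q + 1) =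
      algebraMap R S (a * (s : R) ^ q) := by
    rw [pow_succ', ← mul_assoc, IsLocalization.mk'_spec, map_mul, map_pow]
  rw [h2, hc, Finset.sum_congr rfl (fun i _ => h1 i)]
  simp only [map_sum, map_mul, map_pow]

theorem FFin.polynomial {p : ℕ} [Fact p.Prime] {R : Type*} [CommRing R] [CharP R p]
    (h : FFin p R) : FFin p (Polynomial R) := by
  have hp0 : p ≠ 0 := (Fact.out : p.Prime).ne_zero
  have hppos : 0 < p := (Fact.out : p.Prime).pos
  obtain ⟨ι, _, t, ht⟩ := h
  refine ⟨ι × Fin p, inferInstance,
    fun ia => Polynomial.C (t ia.1) * Polynomial.X ^ (ia.2 : ℕ), fun f => ?_⟩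
  show FS p (fun ia : ι × Fin p => Polynomial.C (t ia.1) * Polynomial.X ^ (ia.2 : ℕ)) f
  induction f using Polynomial.induction_on' with
  | add f g hf hg => exact FS.add hf hg
  | monomial m r =>
    obtain ⟨c, hc⟩ := ht r
    have hX : (Polynomial.X : Polynomial R) ^ m =
        (Polynomial.X ^ (m / p)) ^ p * Polynomial.X ^ (m % p) := by
      rw [← pow_mul, ← pow_add, Nat.div_add_mod' m p]
    have hm : (Polynomial.monomial m r : Polynomial R) =
        ∑ i, (Polynomial.C (c i) * Polynomial.X ^ (m / p)) ^ p *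
          (Polynomial.C (t i) * Polynomial.X ^ (m % p)) := by
      rw [← Polynomial.C_mul_X_pow_eq_monomial, hc, map_sum, Finset.sum_mul]
      refine Finset.sum_congr rfl (fun i _ => ?_)
      rw [map_mul, map_pow, hX]
      ring
    rw [hm]
    refine FS.sum _ _ (fun i _ => FS.pow_mul _ ?_)
    exact FS.gen hp0 (fun ia : ι × Fin p => Polynomial.C (t ia.1) * Polynomial.X ^ (ia.2 : ℕ))
      (i, ⟨m % p, Nat.mod_lt _ hppos⟩)

theorem FFin.mvPolynomial {p : ℕ} [Fact p.Prime] {R : Type*} [CommRing R] [CharP R p]
    (h : FFin p R) (n : ℕ) : FFin p (MvPolynomial (Fin n) R) := by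
  induction n with
  | zero =>
    exact FFin.of_surjective (MvPolynomial.isEmptyAlgEquiv R (Fin 0)).symm
      (MvPolynomial.isEmptyAlgEquiv R (Fin 0)).symm.surjective h
  | succ n ih =>
    exact FFin.of_surjective (MvPolynomial.finSuccEquiv R n).symm
      (MvPolynomial.finSuccEquiv R n).symm.surjective (FFin.polynomial ih)

theorem coeff_pow_char {p : ℕ} (hp : p ≠ 0) {k : Type*} [CommRing k] [ExpChar k p]
    (g : PowerSeries k) (j : ℕ) :
    PowerSeries.coeff j (g ^ p) = if p ∣ j then (PowerSeries.coeff (j / p) g) ^ p else 0 := by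
  have hg : g ^ p = PowerSeries.map (frobenius k p) (PowerSeries.expand p hp g) :=
    (MvPowerSeries.map_frobenius_expand p hp).symm
  rw [hg, PowerSeries.coeff_map, PowerSeries.coeff_expand]
  split_ifs
  · rw [frobenius_def]
  · rw [map_zero]

theorem FFin.powerSeries {p : ℕ} [Fact p.Prime] (k : Type*) [Field k] [Finite k] [CharP k p] :
    FFin p (PowerSeries k) := by
  classical
  have hp : p ≠ 0 := (Fact.out : p.Prime).ne_zero
  have hppos : 0 < p := (Fact.out : p.Prime).pos
  have hs : Function.Surjective (frobenius k p) :=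
    Finite.injective_iff_surjective.mp (frobenius_inj k p)
  choose root hroot using hs
  refine ⟨Fin p, inferInstance, fun a => (PowerSeries.X : PowerSeries k) ^ (a : ℕ), fun f => ?_⟩
  refine ⟨fun a => PowerSeries.mk (fun n => root (PowerSeries.coeff (p * n + a) f)), ?_⟩
  have hterm : ∀ (m : ℕ) (a : Fin p), PowerSeries.coeff m
      ((PowerSeries.mk (fun n => root (PowerSeries.coeff (p * n + a) f))) ^ p *
        PowerSeries.X ^ (a : ℕ)) =
      if a = (⟨m % p, Nat.mod_lt _ hppos⟩ : Fin p) then PowerSeries.coeff m f else 0 := by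
    intro m a
    rw [PowerSeries.coeff_mul_X_pow', coeff_pow_char hp]
    by_cases ham : (a : ℕ) ≤ m
    · rw [if_pos ham]
      by_cases hdvd : p ∣ m - a
      · rw [if_pos hdvd, PowerSeries.coeff_mk, ← frobenius_def, hroot]
        have h1 : p * ((m - a) / p) + a = m := by
          rw [Nat.mul_div_cancel' hdvd]; omega
        have h2 : (a : ℕ) = m % p := by
          obtain ⟨q, hq⟩ := hdvd
          have h3 : m = p * q + a := by omega
          rw [h3, Nat.mul_add_mod, Nat.mod_eq_of_lt a.2]
        rw [h1, if_pos (Fin.ext h2)]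
      · rw [if_neg hdvd, if_neg]
        intro h2
        apply hdvd
        have h3 : (a : ℕ) = m % p := congrArg Fin.val h2
        rw [h3]
        exact Nat.dvd_sub_mod m
    · rw [if_neg ham, if_neg]
      intro h2
      apply ham
      have h3 : (a : ℕ) = m % p := congrArg Fin.val h2
      rw [h3]
      exact Nat.mod_le m p
  ext m
  rw [map_sum, Finset.sum_congr rfl (fun a _ => hterm m a), Finset.sum_ite_eq']
  simp

theorem finite_of_span {A B : Type*} [CommRing A] [CommRing B] (f : A →+* B) {ι : Type*}
    [Fintype ι] (t : ι → B) (h : ∀ x : B, ∃ c : ι → A, x = ∑ i, f (c i) * t i) : f.Finite := by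
  letI := f.toAlgebra
  have hspan : Submodule.span A (Set.range t) = ⊤ := by
    rw [eq_top_iff]
    intro x _
    obtain ⟨c, rfl⟩ := h x
    refine Submodule.sum_mem _ (fun i _ => ?_)
    have h1 : f (c i) * t i = c i • t i := by
      rw [Algebra.smul_def, RingHom.algebraMap_toAlgebra]
    rw [h1]
    exact Submodule.smul_mem _ _ (Submodule.subset_span ⟨i, rfl⟩)
  exact Module.finite_def.mpr (hspan ▸ Submodule.fg_span (Set.finite_range t))

/-- Let p be a prime, k a finite field of characteristic p, A a commutative k[[t]]-algebra of finite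
type over the power series ring k[[t]], and P a prime ideal of A. Then the absolute Frobenius a ↦
a^p of the local ring A_P is a finite ring homomorphism. In particular every local ring of a scheme
of finite type over k[[t]] has finite absolute Frobenius. (The instance hypothesis that A_P has
characteristic p always holds, A_P being a nonzero algebra over k.) The published statement is for
the local rings of a projective strictly semistable scheme over k[[t]] and adds that such a scheme
is regular with F-finite local rings; its proof uses only that the scheme is of finite type over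
k[[t]], which is the form stated here. -/
theorem result (p : ℕ) [Fact p.Prime]
    (k : Type u) [Field k] [Finite k] [CharP k p]
    (A : Type u) [CommRing A] [Algebra (PowerSeries k) A] [Algebra.FiniteType (PowerSeries k) A]
    (P : Ideal A) [P.IsPrime] [CharP (Localization.AtPrime P) p] :
    (frobenius (Localization.AtPrime P) p).Finite := by
  have hkt : FFin p (PowerSeries k) := FFin.powerSeries k
  haveI : CharP (PowerSeries k) p :=
    charP_of_injective_algebraMap (algebraMap k (PowerSeries k)).injective p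
  obtain ⟨n, f, hf⟩ := Algebra.FiniteType.iff_quotient_mvPolynomial''.mp
    (inferInstance : Algebra.FiniteType (PowerSeries k) A)
  have hA : FFin p A := FFin.of_surjective f hf (FFin.mvPolynomial hkt n)
  have hB : FFin p (Localization.AtPrime P) :=
    FFin.of_isLocalization (Fact.out : p.Prime).pos P.primeCompl _ hA
  obtain ⟨ι, _, t, ht⟩ := hB
  refine finite_of_span (frobenius (Localization.AtPrime P) p) t (fun x => ?_)
  obtain ⟨c, hc⟩ := ht x
  exact ⟨c, by simpa only [frobenius_def] using hc⟩

end Groth.Agent.S19093
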