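import Groth.Statements.S19149
import Groth.Agent.Lib.T2H7SmoothUnit

set_option autoImplicit false
universe u
open GrpSch

namespace Groth.Agent.S19149

open TensorProduct KaehlerDifferential IsLocalRing Groth.Agent.Lib.T2H7.SmoothUnit

/-- In affine form, let R be a commutative ring, A a smooth R-algebra with an augmentation ε : A → R
(the unit section of G = Spec A over S = Spec R), I = ker ε its augmentation ideal, and J ⊆ I an
ideal (defining a closed subscheme H of G through the unit section) such that (1) J is finitely
generated, (2) J ∩ I² = I·J in A, and (3) I/(J + I²) is a finitely generated projective R-module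
(finite locally free on S). Then H = Spec (A/J) is smooth over S at every point of the unit section:
for every prime P of A/J containing the image of I, the localization (A/J)_P is formally smooth over
R. (The source states this for G an affine smooth group scheme over a scheme S and H a closed
subgroup, concluding that the neutral component H° is a smooth open subgroup scheme; that conclusion
is smoothness of H along the unit section, which is the statement here in affine form; the group
structure is not used.) -/
theorem result (R A : Type u) [CommRing R] [CommRing A] [Algebra R A]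
    [Algebra.Smooth R A] (ε : A →ₐ[R] R) (J : Ideal A) (hJI : J ≤ RingHom.ker ε)
    (h1 : J.FG)
    (h2 : J ⊓ RingHom.ker ε ^ 2 = RingHom.ker ε * J)
    (h3 : Module.Finite R (↥(RingHom.ker ε) ⧸ Submodule.comap (RingHom.ker ε).subtype (J ⊔ RingHom.ker ε ^ 2)) ∧
      Module.Projective R (↥(RingHom.ker ε) ⧸ Submodule.comap (RingHom.ker ε).subtype (J ⊔ RingHom.ker ε ^ 2)))
    (P : Ideal (A ⧸ J)) [P.IsPrime] (hP : (RingHom.ker ε).map (Ideal.Quotient.mk J) ≤ P) :
    Algebra.IsSmoothAt R P := by
  obtain ⟨_, h3p⟩ := h3
  let q : A →ₐ[R] (A ⧸ J) := Ideal.Quotient.mkₐ R J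
  have hq : Function.Surjective q := Ideal.Quotient.mkₐ_surjective R J
  let Q : Ideal A := P.comap q
  have : Q.IsPrime := Ideal.comap_isPrime q P
  let A' := Localization.AtPrime Q
  let S := Localization.AtPrime P
  let fP : A' →ₐ[R] S := IsLocalization.liftAlgHom (M := Q.primeCompl)
      (f := (IsScalarTower.toAlgHom R (A ⧸ J) S).comp q) fun x ↦ by
    simpa using IsLocalization.map_units (M := P.primeCompl) _ ⟨q x.1, x.2⟩
  have hf₁ : Function.Surjective fP := by
    intro x
    obtain ⟨x, ⟨s, hs⟩, rfl⟩ := IsLocalization.exists_mk'_eq P.primeCompl x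
    obtain ⟨x, rfl⟩ := hq x
    obtain ⟨s, rfl⟩ := hq s
    refine ⟨IsLocalization.mk' (M := Q.primeCompl) _ x ⟨s, hs⟩, ?_⟩
    simp [fP, IsLocalization.lift_mk', Units.mul_inv_eq_iff_eq_mul, IsUnit.liftRight]
  have hfP : RingHom.ker fP = J.map (algebraMap A A') := by
    refine le_antisymm ?_ (Ideal.map_le_iff_le_comap.mpr fun x hx ↦ ?_)
    · intro x hx
      obtain ⟨x, s, rfl⟩ := IsLocalization.exists_mk'_eq Q.primeCompl x
      obtain ⟨a, ha, e⟩ : ∃ a ∈ P.primeCompl, a * q x = 0 := by
        simpa [fP, IsLocalization.lift_mk', IsLocalization.map_eq_zero_iff P.primeCompl] using hx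
      obtain ⟨a, rfl⟩ := hq a
      rw [IsLocalization.mk'_mem_map_algebraMap_iff]
      refine ⟨a, ha, ?_⟩
      rw [← Ideal.Quotient.eq_zero_iff_mem, map_mul]
      exact e
    · have : q x = 0 := Ideal.Quotient.eq_zero_iff_mem.mpr hx
      simp [fP, this]
  algebraize [fP.toRingHom]
  have : Algebra.FormallyEtale A A' := .of_isLocalization Q.primeCompl
  have : Algebra.FormallySmooth R A' := .comp R A A'
  have : Module.Finite A' Ω[A'⁄R] :=
    .of_surjective (tensorKaehlerEquivOfFormallyEtale R A A').toLinearMap
      (tensorKaehlerEquivOfFormallyEtale R A A').surjective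
  have : Module.Free A' Ω[A'⁄R] := Module.free_of_flat_of_isLocalRing
  have hker : RingHom.ker (algebraMap A' S) = J.map (algebraMap A A') := hfP
  have h₂ : (RingHom.ker (algebraMap A' S)).FG := hker ▸ h1.map _
  have : IsScalarTower A A' S := IsScalarTower.of_algebraMap_eq' (by
    ext a
    simp [RingHom.algebraMap_toAlgebra, fP, IsScalarTower.algebraMap_apply A (A ⧸ J) S, q])
  have hK : ∀ a ∈ RingHom.ker ε, algebraMap A (ResidueField S) a = 0 := by
    intro a ha
    rw [IsScalarTower.algebraMap_apply A S (ResidueField S), ResidueField.algebraMap_eq,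
      IsLocalRing.residue_eq_zero_iff, IsScalarTower.algebraMap_apply A (A ⧸ J) S,
      IsLocalization.AtPrime.to_map_mem_maximal_iff S P]
    exact hP (Ideal.mem_map_of_mem _ ha)
  show Algebra.FormallySmooth R S
  rw [Algebra.FormallySmooth.iff_injective_cotangentComplexBaseChange_residueField (P := A') hf₁ h₂]
  refine key ε J hJI (ResidueField S) A' (RingHom.ker (algebraMap A' S)) hker h2 hK _ ?_
  intro k b
  rw [cotangentComplexBaseChange_tmul, kerToTensor_apply, smul_tmul', smul_eq_mul, mul_one]

end Groth.Agent.S19149
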