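import Groth.Statements.S19180
import Mathlib
import Groth.Agent.Lib.T2H5PnVanish
import Groth.Agent.Lib.Helper23QCohExt
import Groth.Agent.Lib.Helper20ParaF4
import Groth.Agent.Lib.Helper21UnitHom
-- import your own Groth.Agent.* helpers here

set_option autoImplicit false
universe u
open Coherent

namespace Groth.Agent.S19180

open Groth.Agent.Lib.Helper23.AffVanish Groth.Agent.Lib.Helper23.QCohLocal
  Groth.Agent.Lib.Helper23.GenLocus Groth.Agent.Lib.Helper23.SecTw Groth.Agent.Lib.Helper20.ParaFLib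
  CategoryTheory.Limits in
open CategoryTheory AlgebraicGeometry in
/-- Let R be a local ring and m ≥ 1, and consider the projective line P¹_R with its structure sheaf O
and twisting sheaf O(m). For every O-module F and every short exact sequence 0 → O(m) → F → O → 0 of
O-modules, the surjection F → O admits a section; consequently F is isomorphic to O(m) ⊕ O. -/
theorem result (R : Type u) [CommRing R] [IsLocalRing R]
    (m : ℕ) (hm : 1 ≤ m) (F : (CohB1.ProjSpace 1 R).Modules)
    (i : Twist.twistProjSpace 1 R (m : ℤ) ⟶ F) (p : F ⟶ Coh.structureModule (CohB1.ProjSpace 1 R))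
    (w : i ≫ p = 0) (hex : (ShortComplex.mk i p w).ShortExact) :
    ∃ s : Coh.structureModule (CohB1.ProjSpace 1 R) ⟶ F, s ≫ p = 𝟙 _ := by
  have hH : Subsingleton (Coh.HH (CohB1.ProjSpace 1 R) (Twist.twistProjSpace 1 R (m : ℤ)) 1) :=
    Groth.Agent.Lib.T2H5.PnVanish.subsingleton_HH_twist 1 R (m : ℤ) 1 (by omega) (by
      have : (0 : ℤ) ≤ (m : ℤ) := Int.natCast_nonneg m
      push_cast
      omega)
  have hE : Subsingleton (HE (ab' (Twist.twistProjSpace 1 R (m : ℤ))) 1 ⊤) :=
    @Equiv.subsingleton _ _ (HETopEquivH (CohB1.ProjSpace 1 R).carrier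
      (ab' (Twist.twistProjSpace 1 R (m : ℤ))) 1).toEquiv hH
  obtain ⟨t, ht⟩ := surjective_app_of_subsingleton_HE (ShortComplex.mk i p w) hex ⊤ hE
    (toS ⊤ 1)
  refine ⟨secHom F t, ?_⟩
  apply (Groth.Agent.Lib.Helper21.UnitHom.unitHomAddEquiv
    (R := (CohB1.ProjSpace 1 R).ringCatSheaf) (T := (⊤ : (CohB1.ProjSpace 1 R).Opens))
    isTerminalTop (Coh.structureModule (CohB1.ProjSpace 1 R))).injective
  change p.app ⊤ (sv (secHom F t) ⊤) = toS ⊤ 1
  rw [sv_top_secHom]
  exact ht

end Groth.Agent.S19180
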