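import Groth.Statements.S19185
import Mathlib
import Groth.Agent.Lib.T2H4HirzRes
set_option backward.isDefEq.respectTransparency.types false

set_option autoImplicit false
universe u
open Curves

namespace Groth.Agent.S19185

/-- Let k be a field, n ≥ 3, q a binary quadratic form and ξ a binary form of degree n over k, given by
coefficient vectors (q_i the coefficient of x^i y^(2−i), ξ_j that of x^j y^(n−j)), not both zero.
The pair (q, ξ) is a global section of O(2) ⊕ O(n) on P¹_k, i.e. of the line bundle of class e + nf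
on the Hirzebruch surface F_{n−2} = P(O ⊕ O(n−2)) → P¹_k, and cuts out the curve W : q·u + ξ·v = 0
there ([u : v] the fibre coordinates). Over the two standard opens of P¹ (t = x/y, s = y/x) and the
two opens u ≠ 0, v ≠ 0 of the fibres, W is covered by four affine charts with coordinate rings k[t,
w]/(q(t,1) + ξ(t,1)·w), k[t, w]/(q(t,1)·w + ξ(t,1)), k[s, w]/(q(1,s) + ξ(1,s)·w) and k[s,
w]/(q(1,s)·w + ξ(1,s)) (variables indexed 0 for t or s and 1 for w). Then W is smooth over k — all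
four chart algebras are smooth k-algebras — if and only if the resultant of q and ξ (the Sylvester
determinant of the two coefficient vectors with size parameters 2 and n) is nonzero. (The published
statement is over a general base scheme B, for a section (q, ξ) vanishing on no fibre, with 'the
resultant is a unit on B' in place of 'nonzero'; its proof reduces at once to the statement over a
field given here, which is the case B = Spec k.) -/
theorem result (k : Type u) [Field k] (n : ℕ) (hn : 3 ≤ n)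
    (q : Fin 3 → k) (ξ : Fin (n + 1) → k) (hqξ : q ≠ 0 ∨ ξ ≠ 0) :
    (Algebra.Smooth k (MvPolynomial (Fin 2) k ⧸ Ideal.span ({(∑ i : Fin 3, MvPolynomial.C (q i) * MvPolynomial.X 0 ^ (i : ℕ)) + (∑ j : Fin (n + 1), MvPolynomial.C (ξ j) * MvPolynomial.X 0 ^ (j : ℕ)) * MvPolynomial.X 1} : Set (MvPolynomial (Fin 2) k))) ∧
      Algebra.Smooth k (MvPolynomial (Fin 2) k ⧸ Ideal.span ({(∑ i : Fin 3, MvPolynomial.C (q i) * MvPolynomial.X 0 ^ (i : ℕ)) * MvPolynomial.X 1 + (∑ j : Fin (n + 1), MvPolynomial.C (ξ j) * MvPolynomial.X 0 ^ (j : ℕ))} : Set (MvPolynomial (Fin 2) k))) ∧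
      Algebra.Smooth k (MvPolynomial (Fin 2) k ⧸ Ideal.span ({(∑ i : Fin 3, MvPolynomial.C (q i) * MvPolynomial.X 0 ^ (2 - (i : ℕ))) + (∑ j : Fin (n + 1), MvPolynomial.C (ξ j) * MvPolynomial.X 0 ^ (n - (j : ℕ))) * MvPolynomial.X 1} : Set (MvPolynomial (Fin 2) k))) ∧
      Algebra.Smooth k (MvPolynomial (Fin 2) k ⧸ Ideal.span ({(∑ i : Fin 3, MvPolynomial.C (q i) * MvPolynomial.X 0 ^ (2 - (i : ℕ))) * MvPolynomial.X 1 + (∑ j : Fin (n + 1), MvPolynomial.C (ξ j) * MvPolynomial.X 0 ^ (n - (j : ℕ)))} : Set (MvPolynomial (Fin 2) k)))) ↔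
    Polynomial.resultant (∑ i : Fin 3, Polynomial.C (q i) * Polynomial.X ^ (i : ℕ))
      (∑ j : Fin (n + 1), Polynomial.C (ξ j) * Polynomial.X ^ (j : ℕ)) 2 n ≠ 0 := by
  have h := Groth.Agent.Lib.T2H4.HirzRes.main (M := 2) (N := n) q ξ hqξ
  have e1 : (∑ i : Fin 3, MvPolynomial.C (q i) * MvPolynomial.X 0 ^ (i : ℕ)) +
      (∑ j : Fin (n + 1), MvPolynomial.C (ξ j) * MvPolynomial.X 0 ^ (j : ℕ)) * MvPolynomial.X 1 =
      Groth.Agent.Lib.T2H4.HirzCharts.G1 (Groth.Agent.Lib.T2H4.HirzRes.poly (N := 2) q)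
        (Groth.Agent.Lib.T2H4.HirzRes.poly ξ) := by
    rw [Groth.Agent.Lib.T2H4.HirzCharts.G1, Groth.Agent.Lib.T2H4.HirzRes.ι_poly,
      Groth.Agent.Lib.T2H4.HirzRes.ι_poly]
  have e2 : (∑ i : Fin 3, MvPolynomial.C (q i) * MvPolynomial.X 0 ^ (i : ℕ)) * MvPolynomial.X 1 +
      (∑ j : Fin (n + 1), MvPolynomial.C (ξ j) * MvPolynomial.X 0 ^ (j : ℕ)) =
      Groth.Agent.Lib.T2H4.HirzCharts.G2 (Groth.Agent.Lib.T2H4.HirzRes.poly (N := 2) q)
        (Groth.Agent.Lib.T2H4.HirzRes.poly ξ) := by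
    rw [Groth.Agent.Lib.T2H4.HirzCharts.G2, Groth.Agent.Lib.T2H4.HirzRes.ι_poly,
      Groth.Agent.Lib.T2H4.HirzRes.ι_poly]
  have e3 : (∑ i : Fin 3, MvPolynomial.C (q i) * MvPolynomial.X 0 ^ (2 - (i : ℕ))) +
      (∑ j : Fin (n + 1), MvPolynomial.C (ξ j) * MvPolynomial.X 0 ^ (n - (j : ℕ))) * MvPolynomial.X 1 =
      Groth.Agent.Lib.T2H4.HirzCharts.G1 (Groth.Agent.Lib.T2H4.HirzRes.rpoly (N := 2) q)
        (Groth.Agent.Lib.T2H4.HirzRes.rpoly ξ) := by
    rw [Groth.Agent.Lib.T2H4.HirzCharts.G1, Groth.Agent.Lib.T2H4.HirzRes.ι_rpoly,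
      Groth.Agent.Lib.T2H4.HirzRes.ι_rpoly]
  have e4 : (∑ i : Fin 3, MvPolynomial.C (q i) * MvPolynomial.X 0 ^ (2 - (i : ℕ))) * MvPolynomial.X 1 +
      (∑ j : Fin (n + 1), MvPolynomial.C (ξ j) * MvPolynomial.X 0 ^ (n - (j : ℕ))) =
      Groth.Agent.Lib.T2H4.HirzCharts.G2 (Groth.Agent.Lib.T2H4.HirzRes.rpoly (N := 2) q)
        (Groth.Agent.Lib.T2H4.HirzRes.rpoly ξ) := by
    rw [Groth.Agent.Lib.T2H4.HirzCharts.G2, Groth.Agent.Lib.T2H4.HirzRes.ι_rpoly,
      Groth.Agent.Lib.T2H4.HirzRes.ι_rpoly]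
  rw [e1, e2, e3, e4]
  exact h

end Groth.Agent.S19185
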