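import Groth.Statements.S19212
import Groth.Agent.Lib.T2H2DiagSym3

set_option autoImplicit false
universe u v
open TensorProduct
open DiagIdeal

namespace Groth.Agent.S19212

/-- Let k be an algebraically closed field of characteristic zero and A a smooth k-algebra which is a
domain. Let the symmetric group on three letters permute the factors of A ⊗ A ⊗ A (it is generated
by the swap of the first two factors and the swap of the last two), let r : A ⊗ (A ⊗ A) → A ⊗ A be
the k-linear map a ⊗ b ⊗ c ↦ ab ⊗ c, and let D : A ⊗ A → Ω_{A/k} be the k-linear map a ⊗ b ↦ 2a·db −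
b·da. Then an element y of A ⊗ A satisfies D y = 0 if and only if y = r x for some x fixed by both
swaps, and D is surjective. (This is exactness at the last two places of the four-term right
resolution of the invariants of the ideal of the big diagonal on the symmetric cube of X = Spec A,
namely invariant functions on X³, then functions on X × X through restriction to a diagonal, then
one-forms on X; exactness at the first two places is immediate. The published statement is the sheaf
version on the symmetric cube of a smooth complex variety of any dimension; an algebraically closed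
field of characteristic zero is used here.) -/
theorem result (k : Type u) [Field k] [IsAlgClosed k] [CharZero k]
    (A : Type v) [CommRing A] [Algebra k A] [Algebra.Smooth k A] [IsDomain A]
    (r : A ⊗[k] (A ⊗[k] A) →ₗ[k] A ⊗[k] A)
    (hr : ∀ a b c : A, r (a ⊗ₜ[k] (b ⊗ₜ[k] c)) = (a * b) ⊗ₜ[k] c)
    (D : A ⊗[k] A →ₗ[k] Ω[A⁄k])
    (hD : ∀ a b : A, D (a ⊗ₜ[k] b) = (2 : A) • (a • KaehlerDifferential.D k A b) - b • KaehlerDifferential.D k A a) :
    (∀ y : A ⊗[k] A, D y = 0 ↔ ∃ x : A ⊗[k] (A ⊗[k] A),
        TensorProduct.leftComm k A A A x = x ∧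
        LinearMap.lTensor A (TensorProduct.comm k A A).toLinearMap x = x ∧ r x = y) ∧
    Function.Surjective D := by
  have h2 : (2 : k) ≠ 0 := two_ne_zero
  have h3 : (3 : k) ≠ 0 := three_ne_zero
  have h6 : (6 : k) ≠ 0 := by norm_num
  have hr' : ∀ x, r x = Groth.Agent.Lib.T2H2.DiagSym3.rA k A x := by
    intro x
    induction x using TensorProduct.induction_on with
    | zero => simp
    | add x y hx hy => rw [map_add, map_add, hx, hy]
    | tmul a y =>
      induction y using TensorProduct.induction_on with
      | zero => simp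
      | add y z hy hz => rw [TensorProduct.tmul_add, map_add, map_add, hy, hz]
      | tmul b c => rw [hr, Groth.Agent.Lib.T2H2.DiagSym3.rA_tmul]
  refine ⟨fun y => ⟨fun hy => ?_, ?_⟩, Groth.Agent.Lib.T2H2.DiagSym3.D_surjective D hD h3⟩
  · have hmem := Groth.Agent.Lib.T2H2.DiagSym3.S'_le
      (Groth.Agent.Lib.T2H2.DiagSym3.mem_S'_of_D_eq_zero D hD h2 h3 y hy)
    obtain ⟨x, ⟨hx₁, hx₂⟩, hxy⟩ := hmem
    refine ⟨x, ?_, ?_, ?_⟩
    · rw [← Groth.Agent.Lib.T2H2.DiagSym3.τ₁_apply]; exact hx₁
    · rw [← Groth.Agent.Lib.T2H2.DiagSym3.τ₂_apply]; exact hx₂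
    · rw [hr']; exact hxy
  · rintro ⟨x, hx₁, hx₂, rfl⟩
    rw [hr']
    refine Groth.Agent.Lib.T2H2.DiagSym3.D_rA_eq_zero_of_inv D hD h6 x ?_ ?_
    · rw [Groth.Agent.Lib.T2H2.DiagSym3.τ₁_apply]; exact hx₁
    · rw [Groth.Agent.Lib.T2H2.DiagSym3.τ₂_apply]; exact hx₂

end Groth.Agent.S19212
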