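import Groth.Statements.S19223
import Groth.Agent.Lib.T2H4GrpCohLES

set_option autoImplicit false
attribute [local instance] Units.mulDistribMulActionRight
open GalCoh CategoryTheory

namespace Groth.Agent.S19223

universe u
lemma isIso_of_bijective' {k G : Type u} [CommRing k] [Group G] {A B : Rep.{u} k G} (f : A ⟶ B)
    (h : Function.Bijective f.hom) : IsIso f := by
  have : IsIso ((forget (Rep.{u} k G)).map f) := by
    rw [CategoryTheory.isIso_iff_bijective]
    exact h
  exact isIso_of_reflects_iso f (forget (Rep.{u} k G))


/-- For a strictly henselian local ring R whose residue field k has characteristic p ≥ 0, and a finite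
group G of order prime to p acting on R by ring automorphisms (hence on the unit groups R^× and
k^×), consider the homomorphism H^n(G, R^×) → H^n(G, k^×) induced by the reduction map. It is
bijective for every n ≥ 2; it is also bijective for n = 1 provided that p = 0 or the only p-power
root of unity in R is 1. (The reduction map on cohomology is pinned by its values on units; groups,
rings and modules are taken in the lowest universe, as integral coefficients in the group-cohomology
library require.) -/
theorem result (R : Type) [CommRing R]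
    [HenselianLocalRing R] [IsSepClosed (IsLocalRing.ResidueField R)] (p : ℕ) [CharP (IsLocalRing.ResidueField R) p]
    (G : Type) [Group G] [Finite G] [MulSemiringAction G R] (hp : ¬ p ∣ Nat.card G)
    (φ : Rep.ofMulDistribMulAction G Rˣ ⟶ Rep.ofMulDistribMulAction G (IsLocalRing.ResidueField R)ˣ)
    (hφ : ∀ x : Rˣ, Additive.toMul (φ.hom (Additive.ofMul x)) = Units.map (IsLocalRing.residue R).toMonoidHom x)
    (n : ℕ) (hn : 1 ≤ n) (h1 : n = 1 → p ≠ 0 → ∀ (ζ : Rˣ) (m : ℕ), ζ ^ p ^ m = 1 → ζ = 1) :
    Function.Bijective ((groupCohomology.functor ℤ G n).map φ).hom := by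
  classical
  haveI : Fintype G := Fintype.ofFinite G
  obtain ⟨m, rfl⟩ : ∃ m, n = m + 1 := ⟨n - 1, by omega⟩
  set N := Fintype.card G with hNdef
  have hN0 : 0 < N := Fintype.card_pos
  have hN : (N : IsLocalRing.ResidueField R) ≠ 0 := by
    intro h
    rw [CharP.cast_eq_zero_iff (IsLocalRing.ResidueField R) p] at h
    apply hp
    rwa [Nat.card_eq_fintype_card]
  -- membership in the kernel
  have hmem : ∀ x : Additive Rˣ, φ.hom x = 0 ↔
      ((Additive.toMul x : Rˣ) : R) - 1 ∈ IsLocalRing.maximalIdeal R := by
    intro x
    obtain ⟨y, hy⟩ : ∃ y : Additive (IsLocalRing.ResidueField R)ˣ, y = φ.hom x := ⟨_, rfl⟩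
    have h1 : Additive.toMul y =
        Units.map (IsLocalRing.residue R).toMonoidHom (Additive.toMul x) := by
      rw [hy]
      exact hφ (Additive.toMul x)
    change φ.hom x = (0 : Additive (IsLocalRing.ResidueField R)ˣ) ↔ _
    rw [← hy, ← IsLocalRing.residue_eq_zero_iff, map_sub, map_one, sub_eq_zero]
    constructor
    · intro h
      rw [h] at h1
      have h2 := congrArg (fun z : (IsLocalRing.ResidueField R)ˣ => (z : IsLocalRing.ResidueField R)) h1
      simp only [toMul_zero, Units.val_one, Units.coe_map] at h2
      exact h2.symm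
    · intro h
      have h3 : Units.map (IsLocalRing.residue R).toMonoidHom (Additive.toMul x) = 1 := by
        apply Units.ext
        rw [Units.coe_map, Units.val_one]
        exact h
      rw [h3] at h1
      exact toMul_eq_one.1 h1
  have hsurj : Function.Surjective φ.hom := by
    intro y
    obtain ⟨u, hu⟩ := IsLocalRing.surjective_units_map_of_local_ringHom (IsLocalRing.residue R)
      IsLocalRing.residue_surjective inferInstance (Additive.toMul y)
    refine ⟨Additive.ofMul u, ?_⟩
    apply Additive.toMul.injective
    rw [hφ u]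
    exact hu
  have hiso : IsIso (N • 𝟙 (Groth.Agent.Lib.T2H4.GCard.kerRep φ)) := by
    apply isIso_of_bijective'
    constructor
    · rw [injective_iff_map_eq_zero]
      intro (x : ↥(Groth.Agent.Lib.T2H4.GCard.kerW φ)) hx
      obtain ⟨xv, hxv⟩ : ∃ xv : Additive Rˣ, xv = x.1 := ⟨_, rfl⟩
      have hx1 : N • xv = 0 := by
        rw [hxv]
        exact congrArg Subtype.val hx
      have hx2' : (Additive.toMul xv) ^ N = (1 : Rˣ) :=
        congrArg Additive.toMul hx1
      have hx2 : ((Additive.toMul xv : Rˣ) : R) ^ N = 1 := by
        rw [← Units.val_pow_eq_pow_val, hx2', Units.val_one]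
      have hxm : φ.hom xv = 0 := by
        rw [hxv]
        exact x.2
      have hx3 := Groth.Agent.Lib.T2H4.GCard.eq_one_of_pow N hN _ ((hmem _).1 hxm) hx2
      apply Subtype.ext
      change x.1 = (0 : Additive Rˣ)
      rw [← hxv]
      apply Additive.toMul.injective
      apply Units.ext
      exact hx3
    · intro (y : ↥(Groth.Agent.Lib.T2H4.GCard.kerW φ))
      obtain ⟨yv, hyv⟩ : ∃ yv : Additive Rˣ, yv = y.1 := ⟨_, rfl⟩
      have hym : φ.hom yv = 0 := by
        rw [hyv]
        exact y.2
      obtain ⟨a, ha, ha1⟩ := Groth.Agent.Lib.T2H4.GCard.exists_root N hN0 hN _ ((hmem _).1 hym)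
      have hau : IsUnit a := by
        have : IsUnit (a ^ N) := by
          rw [ha]
          exact Units.isUnit _
        exact (isUnit_pow_iff hN0.ne').1 this
      obtain ⟨v, rfl⟩ := hau
      have hv : (Additive.ofMul v : Additive Rˣ) ∈ Groth.Agent.Lib.T2H4.GCard.kerW φ :=
        (hmem (Additive.ofMul v)).2 ha1
      refine ⟨⟨Additive.ofMul v, hv⟩, ?_⟩
      apply Subtype.ext
      change N • Additive.ofMul v = y.1
      rw [← hyv]
      apply Additive.toMul.injective
      apply Units.ext
      simpa using ha
  have hz : ∀ i : ℕ, Limits.IsZero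
      (groupCohomology (Groth.Agent.Lib.T2H4.GCard.kerRep φ) (i + 1)) :=
    fun i => Groth.Agent.Lib.T2H4.GCard.isZero_of_isIso _ hiso i
  exact Groth.Agent.Lib.T2H4.GCard.bijective_of_isZero φ hsurj (m + 1) (hz m) (hz (m + 1))

end Groth.Agent.S19223
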