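import Groth.Statements.S19273
import Mathlib

set_option autoImplicit false
universe u
open CAlg

namespace Groth.Agent.S19273

open KaehlerDifferential in
/-- Let A be an integral domain of prime characteristic p, x_1, …, x_N elements of A, r ≤ N, B =
A[1/(x_1⋯x_r)] with u_i the unit of B defined by x_i for i ≤ r, and suppose that the module Ω_A of
absolute Kähler differentials of A is free with a basis b indexed by {1, …, N} ⊔ ι whose i-th vector
is d(x_i) for i ≤ N. Then the module of logarithmic 1-forms — the A-submodule of Ω_B spanned by the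
image of Ω_A and the forms u_i⁻¹ · d(x_i), i ≤ r — is a free A-module: it has a basis indexed by {1,
…, N} ⊔ ι whose vector at i ≤ r is u_i⁻¹ · d(x_i), at r < i ≤ N is d(x_i), and at k ∈ ι is the image
of b_k. (In the published statement A is a regular local F-finite algebra over the prime field with
maximal ideal (x_1, …, x_N), the basis of Ω_A comes from the preceding lemma, and the assertion
covers the logarithmic q-forms for all q together with their identification with the log de Rham
complex of the log ring; only the degree-one freeness is stated here, from the properties of A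
actually used.) -/
theorem result (p : ℕ) [Fact p.Prime]
    {A B : Type u} [CommRing A] [IsDomain A] [CharP A p] [CommRing B] [Algebra A B] {r N : ℕ}
    (hr : r ≤ N) (x : Fin N → A) [IsLocalization.Away (∏ i : Fin r, x (Fin.castLE hr i)) B]
    (u : Fin r → Bˣ) (hu : ∀ i, (u i : B) = algebraMap A B (x (Fin.castLE hr i)))
    {ι : Type u} (b : Module.Basis (Fin N ⊕ ι) A (Ω[A⁄ℤ])) (hb : ∀ i, b (Sum.inl i) = D ℤ A (x i)) :
    ∃ e : Module.Basis (Fin N ⊕ ι) A
        (W4c6katofilta.logForms1 (fun i : Fin r => x (Fin.castLE hr i)) u),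
      (∀ i : Fin r, (e (Sum.inl (Fin.castLE hr i)) : Ω[B⁄ℤ]) =
          ((u i)⁻¹ : Bˣ) • KaehlerDifferential.map ℤ ℤ A B (D ℤ A (x (Fin.castLE hr i)))) ∧
      (∀ i : Fin N, r ≤ (i : ℕ) →
          (e (Sum.inl i) : Ω[B⁄ℤ]) = KaehlerDifferential.map ℤ ℤ A B (D ℤ A (x i))) ∧
      (∀ k : ι, (e (Sum.inr k) : Ω[B⁄ℤ]) = KaehlerDifferential.map ℤ ℤ A B (b (Sum.inr k))) := by
  classical
  set y : A := ∏ i : Fin r, x (Fin.castLE hr i) with hy
  set f : Ω[A⁄ℤ] →ₗ[A] Ω[B⁄ℤ] := KaehlerDifferential.map ℤ ℤ A B with hf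
  haveI : IsLocalization (Submonoid.powers y) B := ‹IsLocalization.Away y B›
  haveI : IsLocalizedModule (Submonoid.powers y) f :=
    KaehlerDifferential.isLocalizedModule_map ℤ A B (Submonoid.powers y)
  let bB : Module.Basis (Fin N ⊕ ι) B (Ω[B⁄ℤ]) := b.ofIsLocalizedModule B (Submonoid.powers y) f
  let w : Fin N ⊕ ι → Bˣ :=
    Sum.elim (fun i => if h : (i : ℕ) < r then (u ⟨i, h⟩)⁻¹ else 1) (fun _ => 1)
  let bB' : Module.Basis (Fin N ⊕ ι) B (Ω[B⁄ℤ]) := bB.unitsSMul w
  have hv : ∀ j, bB' j = w j • f (b j) := by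
    intro j
    rw [Module.Basis.unitsSMul_apply, Module.Basis.ofIsLocalizedModule_apply]
  have hx : ∀ i : Fin N, x i ≠ 0 := fun i h => b.ne_zero (Sum.inl i) (by rw [hb, h, map_zero])
  have hy0 : y ≠ 0 := Finset.prod_ne_zero_iff.mpr fun i _ => hx _
  have hinj : Function.Injective (algebraMap A B) :=
    IsLocalization.injective B (powers_le_nonZeroDivisors_of_noZeroDivisors hy0)
  have hliA : LinearIndependent A (fun j => bB' j) := by
    refine LinearIndependent.restrict_scalars (K := B) ?_ bB'.linearIndependent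
    intro a a' h
    apply hinj
    simpa [Algebra.smul_def] using h
  set L := W4c6katofilta.logForms1 (fun i : Fin r => x (Fin.castLE hr i)) u with hL
  have hwr : ∀ i : Fin r, w (Sum.inl (Fin.castLE hr i)) = (u i)⁻¹ := by
    intro i
    have h : ((Fin.castLE hr i : Fin N) : ℕ) < r := by simp
    show (if h : ((Fin.castLE hr i : Fin N) : ℕ) < r then (u ⟨_, h⟩)⁻¹ else 1) = _
    rw [dif_pos h]
    rfl
  have hwN : ∀ i : Fin N, r ≤ (i : ℕ) → w (Sum.inl i) = 1 := by
    intro i hi
    show (if h : (i : ℕ) < r then (u ⟨i, h⟩)⁻¹ else 1) = _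
    rw [dif_neg (not_lt.mpr hi)]
  have hwι : ∀ k : ι, w (Sum.inr k) = 1 := fun k => rfl
  have hmem : ∀ j, bB' j ∈ L := by
    intro j
    rw [hv]
    rcases j with i | k
    · by_cases h : (i : ℕ) < r
      · obtain ⟨i', rfl⟩ : ∃ i' : Fin r, i = Fin.castLE hr i' := ⟨⟨i, h⟩, by ext; simp⟩
        rw [hwr, hb]
        exact Submodule.subset_span (Or.inr ⟨i', rfl⟩)
      · rw [hwN i (not_lt.mp h), one_smul]
        exact Submodule.subset_span (Or.inl ⟨_, rfl⟩)
    · rw [hwι, one_smul]
      exact Submodule.subset_span (Or.inl ⟨_, rfl⟩)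
  have hspan : L ≤ Submodule.span A (Set.range fun j => bB' j) := by
    rw [hL, W4c6katofilta.logForms1, Submodule.span_le, Set.union_subset_iff]
    constructor
    · rintro _ ⟨ω, rfl⟩
      have hω : ω ∈ Submodule.span A (Set.range b) := by rw [b.span_eq]; trivial
      have : f ω ∈ Submodule.map f (Submodule.span A (Set.range b)) := ⟨ω, hω, rfl⟩
      rw [Submodule.map_span] at this
      refine Submodule.span_le.mpr ?_ this
      rintro _ ⟨_, ⟨j, rfl⟩, rfl⟩
      rcases j with i | k
      · by_cases h : (i : ℕ) < r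
        · obtain ⟨i', rfl⟩ : ∃ i' : Fin r, i = Fin.castLE hr i' := ⟨⟨i, h⟩, by ext; simp⟩
          have h1 : f (b (Sum.inl (Fin.castLE hr i'))) =
              x (Fin.castLE hr i') • bB' (Sum.inl (Fin.castLE hr i')) := by
            rw [hv, hwr, ← algebraMap_smul B (x (Fin.castLE hr i')), ← hu, Units.smul_def,
              smul_smul, Units.mul_inv, one_smul]
          rw [SetLike.mem_coe, h1]
          exact Submodule.smul_mem _ _ (Submodule.subset_span ⟨_, rfl⟩)
        · have h1 : f (b (Sum.inl i)) = bB' (Sum.inl i) := by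
            rw [hv, hwN i (not_lt.mp h), one_smul]
          rw [h1]
          exact Submodule.subset_span ⟨_, rfl⟩
      · have h1 : f (b (Sum.inr k)) = bB' (Sum.inr k) := by
          rw [hv, hwι, one_smul]
        rw [h1]
        exact Submodule.subset_span ⟨_, rfl⟩
    · rintro _ ⟨i, rfl⟩
      show ((u i)⁻¹ : Bˣ) • f (D ℤ A (x (Fin.castLE hr i))) ∈ _
      have h1 : ((u i)⁻¹ : Bˣ) • f (D ℤ A (x (Fin.castLE hr i))) =
          bB' (Sum.inl (Fin.castLE hr i)) := by
        rw [hv, hwr, hb]
      rw [h1]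
      exact Submodule.subset_span ⟨_, rfl⟩
  let v' : Fin N ⊕ ι → L := fun j => ⟨bB' j, hmem j⟩
  have hli' : LinearIndependent A v' := by
    apply LinearIndependent.of_comp L.subtype
    exact hliA
  have hsp' : ⊤ ≤ Submodule.span A (Set.range v') := by
    rw [← Submodule.map_le_map_iff_of_injective L.injective_subtype, Submodule.map_subtype_top,
      Submodule.map_span, ← Set.range_comp]
    exact hspan
  refine ⟨Module.Basis.mk hli' hsp', ?_, ?_, ?_⟩
  · intro i
    rw [Module.Basis.mk_apply]
    show bB' _ = _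
    rw [hv, hwr, hb]
  · intro i hi
    rw [Module.Basis.mk_apply]
    show bB' _ = _
    rw [hv, hwN i hi, one_smul, hb]
  · intro k
    rw [Module.Basis.mk_apply]
    show bB' _ = _
    rw [hv, hwι, one_smul]

end Groth.Agent.S19273
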