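-- Statement S19288: homomorphisms from a group scheme with connected fibres to an etale separated one are trivial.
import Mathlib
import Groth.Statements.S19288

set_option autoImplicit false
universe u
open CategoryTheory CategoryTheory.Limits MonoidalCategory CartesianMonoidalCategory MonObj AlgebraicGeometry
open AbSch

namespace Groth.Agent.S19288

/-- A section of an etale morphism is an open immersion. -/
theorem isOpenImmersion_of_section {S Y : Scheme.{u}} (g : Y ⟶ S) [Etale g] (e : S ⟶ Y)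
    (he : e ≫ g = 𝟙 S) : IsOpenImmersion e := by
  have h1 : Etale (e ≫ g) := by rw [he]; infer_instance
  have h2 : Etale e := Etale.of_comp e g
  have h3 : Mono e := mono_of_mono_fac he
  exact IsOpenImmersion.of_flat_of_mono e

/-- A section of a separated morphism is a closed immersion. -/
theorem isClosedImmersion_of_section {S Y : Scheme.{u}} (g : Y ⟶ S) [IsSeparated g] (e : S ⟶ Y)
    (he : e ≫ g = 𝟙 S) : IsClosedImmersion e := by
  have h1 : IsClosedImmersion (e ≫ g) := by rw [he]; infer_instance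
  exact IsClosedImmersion.of_comp e g

/-- A clopen set containing a section of a morphism with connected fibres is everything. -/
theorem eq_univ_of_isClopen_of_section {S P : Scheme.{u}} (p : P ⟶ S)
    (hP : ∀ s : S, ConnectedSpace ↥(p.fiber s)) (σ : S ⟶ P) (hσ : σ ≫ p = 𝟙 S)
    (V : Set P) (hV : IsClopen V) (hσV : Set.range σ ⊆ V) : V = Set.univ := by
  rw [Set.eq_univ_iff_forall]
  intro x
  set s : S := p x with hs
  have := hP s
  have hW : IsClopen ((p.fiberι s) ⁻¹' V) := hV.preimage (p.fiberι s).continuous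
  have hσs : σ s ∈ p ⁻¹' {s} := by
    change p (σ s) = s
    rw [← Scheme.Hom.comp_apply, hσ]; rfl
  rw [← p.range_fiberι s] at hσs
  obtain ⟨z, hz⟩ := hσs
  have hne : ((p.fiberι s) ⁻¹' V).Nonempty := ⟨z, by
    change p.fiberι s z ∈ V
    rw [hz]; exact hσV ⟨s, rfl⟩⟩
  have huniv : (p.fiberι s) ⁻¹' V = Set.univ := hW.eq_univ hne
  have hx : x ∈ p ⁻¹' {s} := rfl
  rw [← p.range_fiberι s] at hx
  obtain ⟨z', hz'⟩ := hx
  have : z' ∈ (p.fiberι s) ⁻¹' V := by rw [huniv]; trivial
  rw [← hz']; exact this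

/-- A morphism over `S` landing in the range of an open-immersion section factors through it. -/
theorem eq_comp_section_of_range_subset {S P Y : Scheme.{u}} (g : Y ⟶ S) (e : S ⟶ Y)
    (he : e ≫ g = 𝟙 S) [IsOpenImmersion e] (h : P ⟶ Y)
    (hr : Set.range h ⊆ Set.range e) : h = (h ≫ g) ≫ e := by
  have h1 : IsOpenImmersion.lift e h hr ≫ e = h := IsOpenImmersion.lift_fac e h hr
  have h2 : IsOpenImmersion.lift e h hr = h ≫ g := by
    calc IsOpenImmersion.lift e h hr = IsOpenImmersion.lift e h hr ≫ (e ≫ g) := by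
          rw [he, Category.comp_id]
      _ = h ≫ g := by rw [← Category.assoc, h1]
  rw [← h2, h1]

theorem result {S : Scheme.{u}} (P X : Over S)
    [GrpObj P] [IsCommMonObj P] [GrpObj X] [IsCommMonObj X]
    [Etale X.hom] [IsSeparated X.hom]
    [QuasiCompact P.hom] [QuasiSeparated P.hom] [LocallyOfFinitePresentation P.hom]
    (hP : ∀ s : S, ConnectedSpace ↥(P.hom.fiber s))
    (f : P ⟶ X) [IsMonHom f] : f = 1 := by
  -- the unit sections
  let e : S ⟶ X.left := (η[X] : 𝟙_ (Over S) ⟶ X).left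
  let σ : S ⟶ P.left := (η[P] : 𝟙_ (Over S) ⟶ P).left
  have he : e ≫ X.hom = 𝟙 S := Over.w (η[X] : 𝟙_ (Over S) ⟶ X)
  have hσ : σ ≫ P.hom = 𝟙 S := Over.w (η[P] : 𝟙_ (Over S) ⟶ P)
  have hσf : σ ≫ f.left = e := by
    have h0 : (η[P] : 𝟙_ (Over S) ⟶ P) ≫ f = η[X] := IsMonHom.one_hom (f := f)
    have h1 : ((η[P] : 𝟙_ (Over S) ⟶ P) ≫ f).left = (η[X] : 𝟙_ (Over S) ⟶ X).left := by rw [h0]
    exact h1
  have : IsOpenImmersion e := isOpenImmersion_of_section X.hom e he
  have : IsClosedImmersion e := isClosedImmersion_of_section X.hom e he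
  have hcl : IsClopen (Set.range e) :=
    ⟨(IsClosedImmersion.isClosedEmbedding e).isClosed_range,
      (IsOpenImmersion.isOpen_range e)⟩
  have hV : IsClopen (f.left ⁻¹' (Set.range e)) := hcl.preimage f.left.continuous
  have hσV : Set.range σ ⊆ f.left ⁻¹' (Set.range e) := by
    rintro _ ⟨s, rfl⟩
    refine ⟨s, ?_⟩
    rw [← hσf]; rfl
  have huniv := eq_univ_of_isClopen_of_section P.hom hP σ hσ _ hV hσV
  have hr : Set.range f.left ⊆ Set.range e := by
    rintro _ ⟨x, rfl⟩
    have : x ∈ f.left ⁻¹' (Set.range e) := by rw [huniv]; trivial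
    exact this
  have hfac := eq_comp_section_of_range_subset X.hom e he f.left hr
  rw [Over.w f] at hfac
  apply Over.OverMorphism.ext
  rw [hfac, Hom.one_def]
  rfl

end Groth.Agent.S19288
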