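import Groth.Statements.S19345
import Groth.Agent.Lib.T2H3AICLocal

set_option autoImplicit false
set_option linter.style.haveILetI false
universe u
open CategoryTheory CategoryTheory.Limits AlgebraicGeometry TopologicalSpace
open ModPair
open Groth.Agent.Lib.T2H3

namespace Groth.Agent.S19345

/-- Let P be a quasi-separated scheme. Then P is local for Zariski coverings (for every scheme X, every
jointly surjective family of quasi-compact open immersions into X and every morphism P ⟶ X, the
morphism factors through a member) and for finite coverings (the same for jointly surjective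
families of finite morphisms) — which together is locality for the rqfh coverings, the finite
composites of coverings of these two kinds — if and only if P is affine and Γ(P) is a local integral
domain in which every monic polynomial of positive degree has a root, i.e. the spectrum of an
absolutely integrally closed local domain. The published statement allows any scheme P; this row
assumes P quasi-separated. -/
theorem result (P : Scheme.{u}) [QuasiSeparatedSpace P] :
    ((∀ (X : Scheme.{u}) (R : Presieve X), R ∈ Scheme.precoverage (@IsOpenImmersion ⊓ @QuasiCompact) X →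
        ∀ g : P ⟶ X, ∃ (Y : Scheme.{u}) (w : Y ⟶ X) (h : P ⟶ Y), R w ∧ h ≫ w = g) ∧
      (∀ (X : Scheme.{u}) (R : Presieve X), R ∈ Scheme.precoverage @IsFinite X →
        ∀ g : P ⟶ X, ∃ (Y : Scheme.{u}) (w : Y ⟶ X) (h : P ⟶ Y), R w ∧ h ≫ w = g)) ↔
    (IsAffine P ∧ IsLocalRing Γ(P, ⊤) ∧ IsDomain Γ(P, ⊤) ∧ Curves.IsAIC Γ(P, ⊤)) := by
  constructor
  · rintro ⟨hz, hf⟩
    have hz' : AICLocal.LocalFor (@IsOpenImmersion ⊓ @QuasiCompact) P := hz
    have hf' : AICLocal.LocalFor @IsFinite P := hf
    haveI := hz'.isAffine
    haveI : Nonempty P := hz'.nonempty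
    have hzS := hz'.of_iso P.isoSpec
    have hfS := hf'.of_iso P.isoSpec
    haveI : Nontrivial Γ(P, ⊤) := by
      have h1 : Nonempty (PrimeSpectrum Γ(P, ⊤)) :=
        ⟨P.isoSpec.hom (Nonempty.some inferInstance)⟩
      exact PrimeSpectrum.nonempty_iff_nontrivial.mp h1
    haveI hdom := AICLocal.isDomain_of_localFor hfS
    exact ⟨inferInstance, AICLocal.isLocalRing_of_localFor hzS, hdom,
      AICLocal.isAIC_of_localFor hfS⟩
  · rintro ⟨hA, hloc, hdom, haic⟩
    haveI := hA
    haveI := hloc
    haveI := hdom
    refine ⟨AICLocal.localFor_zariski_of_isLocalRing, ?_⟩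
    exact (AICLocal.localFor_finite_Spec haic).of_iso P.isoSpec.symm

end Groth.Agent.S19345
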