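import Groth.Statements.S19352
import Mathlib
import Groth.Agent.Lib.T2H6PosI
import Groth.Agent.Lib.T2H6FGABridge
import Groth.Agent.Lib.T2H5AmplePn
import Groth.Agent.Lib.Helper23PB
import Groth.Agent.S9705

set_option autoImplicit false
universe u
open CategoryTheory CategoryTheory.Limits AlgebraicGeometry
open Surf

namespace Groth.Agent.S19352

/-- Let k be an algebraically closed field and X a nonsingular projective surface over k, namely an
integral scheme, smooth over k, of dimension two, given with a closed immersion ι into a projective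
space P^n_k over k, and let H = ι^* O(1) be the invertible module of a hyperplane section. If L is
an invertible O_X-module (the module of a divisor D) with dim_k H^0(X, L) > 1, then (L·H) > 0. Here
(A·B) denotes the intersection number of two invertible modules, the alternating sum χ(O_X) − χ(A) −
χ(B) + χ(A ⊗ B) of Euler characteristics (cohomology in degrees at most two); for two invertible
modules this agrees with the same sum formed from their inverses. -/
theorem result (k : Type u) [Field k] [IsAlgClosed k]
    (X : Scheme.{u}) [X.Over (Spec (CommRingCat.of k))] [AlgebraicGeometry.IsIntegral X]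
    [Smooth (X ↘ Spec (CommRingCat.of k))] (hdim : topologicalKrullDim X = 2)
    (n : ℕ) (ι : X ⟶ CohB1.ProjSpace n k) [IsClosedImmersion ι]
    (hι : ι ≫ CohB1.ProjSpace.toSpec n k = X ↘ Spec (CommRingCat.of k))
    (L : X.Modules) (hL : PicF.IsInvertible L)
    (hsec : 1 < Module.finrank k (Coh.HH X L 0)) :
    0 < FGA.intNum k X 2 ![L, (Scheme.Modules.pullback ι).obj (Twist.twistProjSpace n k 1)] (Coh.structureModule X) := by
  haveI hprop : IsProper (X ↘ Spec (CommRingCat.of k)) := by
    rw [← hι]
    haveI := Groth.Agent.S9705.isProper_projSpace_toSpec n k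
    infer_instance
  have hd : topologicalKrullDim X ≤ ((2 : ℕ) : WithBot ℕ∞) := by rw [hdim]; rfl
  have hH1 : CohB1.IsAmple (Twist.twistProjSpace n k ((1 : ℕ) : ℤ)) :=
    Groth.Agent.Lib.T2H5.AmplePn.isAmple_twist_of_pos n k 1 Nat.one_pos
  have hH : CohB1.IsAmple ((Scheme.Modules.pullback ι).obj (Twist.twistProjSpace n k 1)) :=
    Groth.Agent.Lib.Helper23.PB.isAmple_pullback_of_isAffineHom ι _ (by exact_mod_cast hH1)
  rw [Groth.Agent.Lib.T2H6.FGABridge.intNum_eq k 2 hd]
  have hone : ((-1 : ℤ) ^ 2) = 1 := by norm_num
  rw [hone, one_mul]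
  exact Groth.Agent.Lib.T2H6.PosI.pos_of_finrank k hdim L hL hsec _ hH

end Groth.Agent.S19352
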