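import Groth.Statements.S19381
import Groth.Agent.Lib.T2H3ComplFlat

set_option autoImplicit false
set_option linter.style.haveILetI false
universe u
open CategoryTheory CategoryTheory.Limits AlgebraicGeometry
open FlatMor

namespace Groth.Agent.S19381

/-- Over a discrete valuation ring, let V be a henselian discrete valuation ring with maximal ideal 𝔪, A
a smooth V-algebra, Â the 𝔪A-adic completion of A, and h : X → Spec A a proper morphism with
reduction h₀ : X ×_{Spec A} Spec(A/𝔪A) → Spec(A/𝔪A). Then X is flat over V and h₀ is flat if and
only if the base change of h to Spec Â is flat. (The published statement is for an excellent normal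
ring V with a henselian pair (V, V/I) and the projective lift h built from lifted equations, and
also lists the base changes to the weak completion and to the henselization of (A, 𝔪A); it rests on
a lemma asserting 'B flat over V iff B̂ flat over V' for V-algebras B of finite type, which fails
when V has dimension ≥ 2 (V = ℤ_p[[x]], I = (p), B = V[y]/(x, py − 1) ≅ ℚ_p has B̂ = 0), so the
statement is given over a discrete valuation ring and for an arbitrary proper h.) -/
theorem result
    (V : Type u) [CommRing V] [IsDomain V] [IsDiscreteValuationRing V] [HenselianLocalRing V]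
    (A : Type u) [CommRing A] [Algebra V A] [Algebra.Smooth V A]
    (X : Scheme.{u}) (h : X ⟶ Spec (.of A)) [IsProper h] :
    (Flat (h ≫ Spec.map (CommRingCat.ofHom (algebraMap V A))) ∧
        Flat (pullback.snd h (Spec.map (CommRingCat.ofHom
          (Ideal.Quotient.mk ((IsLocalRing.maximalIdeal V).map (algebraMap V A))))))) ↔
      Flat (pullback.snd h (Spec.map (CommRingCat.ofHom
          (algebraMap A (AdicCompletion ((IsLocalRing.maximalIdeal V).map (algebraMap V A)) A))))) := by
  haveI : Algebra.FiniteType V A := inferInstance
  haveI : IsNoetherianRing A := Algebra.FiniteType.isNoetherianRing V A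
  haveI : LocallyOfFinitePresentation h :=
    LocallyOfFinitePresentation.iff_locallyOfFiniteType.mpr inferInstance
  haveI : LocallyOfFinitePresentation (Spec.map (CommRingCat.ofHom (algebraMap V A))) := by
    rw [HasRingHomProperty.Spec_iff (P := @LocallyOfFinitePresentation)]
    exact RingHom.finitePresentation_algebraMap.mpr inferInstance
  haveI : Flat (Spec.map (CommRingCat.ofHom (algebraMap V A))) :=
    Flat.SpecMap_iff.mpr (RingHom.flat_algebraMap_iff.mpr inferInstance)
  constructor
  · rintro ⟨hXV, h0⟩
    haveI := hXV
    exact Groth.Agent.Lib.T2H3.ComplFlat.flat_completion_of_flat _ h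
      (fun x hx => Groth.Agent.Lib.T2H3.ComplFlat.flat_stalkMap_of_flat_quotient
        (IsLocalRing.maximalIdeal V) h h0 x hx)
  · intro hc
    refine ⟨?_, Groth.Agent.Lib.T2H3.ComplFlat.flat_quotient_of_flat_completion _ h hc⟩
    rw [Flat.iff_flat_stalkMap]
    intro x
    by_cases hs : (h ≫ Spec.map (CommRingCat.ofHom (algebraMap V A))) x = IsLocalRing.closedPoint V
    · have hx : h x ∈ Set.range (Spec.map (CommRingCat.ofHom
          (Ideal.Quotient.mk ((IsLocalRing.maximalIdeal V).map (algebraMap V A))))) := by
        show h x ∈ Set.range (PrimeSpectrum.comap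
          (Ideal.Quotient.mk ((IsLocalRing.maximalIdeal V).map (algebraMap V A))))
        rw [range_comap_of_surjective _ _ Ideal.Quotient.mk_surjective, Ideal.mk_ker]
        refine (PrimeSpectrum.mem_zeroLocus (h x : PrimeSpectrum A) _).mpr ?_
        have h1 : (PrimeSpectrum.comap (algebraMap V A) (h x)).asIdeal =
            IsLocalRing.maximalIdeal V := congrArg PrimeSpectrum.asIdeal hs
        show (IsLocalRing.maximalIdeal V).map (algebraMap V A) ≤ (h x).asIdeal
        rw [Ideal.map_le_iff_le_comap]
        exact le_of_eq h1.symm
      have hh := Groth.Agent.Lib.T2H3.ComplFlat.flat_stalkMap_of_flat_completion _ h hc x hx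
      exact Groth.Agent.Lib.Helper5.FiberMor.flat_comp h _ x hh (Flat.stalkMap _ _)
    · refine Groth.Agent.Lib.T2H2.GenFlat.flat_stalkMap_of_maximal _ x ?_
      intro y' hy'
      have hbot : ∀ P : PrimeSpectrum V, P ≠ IsLocalRing.closedPoint V → P.asIdeal = ⊥ := by
        intro P hP
        by_contra hne
        apply hP
        have hmax : P.asIdeal.IsMaximal := Ideal.IsPrime.isMaximal P.isPrime hne
        exact PrimeSpectrum.ext (IsLocalRing.eq_maximalIdeal hmax)
      have h1 := hbot _ hs
      have h2 : y'.asIdeal ≤ ((h ≫ Spec.map (CommRingCat.ofHom (algebraMap V A))) x).asIdeal :=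
        (PrimeSpectrum.le_iff_specializes y' _).mpr hy'
      rw [h1, le_bot_iff] at h2
      exact PrimeSpectrum.ext (h2.trans h1.symm)

end Groth.Agent.S19381
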