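import Groth.Statements.S19418
import Groth.Agent.Lib.LeadWeilCorr

set_option autoImplicit false
universe u v
open CategoryTheory AlgebraicGeometry
open WeilCoh

namespace Groth.Agent.S19418

/-- Key step, cohomological form: let H be a Weil cohomology theory with coefficients in a field K of
characteristic zero on nonsingular connected projective varieties over an algebraically closed field
k, X such a variety of dimension n, P = X × X with projections p, q and the swap automorphism σ (σ p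
= q, σ q = p); the identity dim P = 2n is carried as the arithmetic hypothesis hdim. A class u ∈
H^{2n}(P) acts as a degree-0 correspondence on each H^j(X), 0 ≤ j ≤ 2n, by β ↦ q_*(p^*(β) · u); call
u algebraic when it lies in the K-linear span of the classes of closed irreducible subsets of P, and
let A be the K-subalgebra of ∏_j End_K(H^j(X)) generated by the actions of the algebraic classes in
H^{2n}(P). If u is algebraic and ψ ∘ (action of u) is nilpotent for every ψ ∈ A — that is, the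
action of u lies in the Jacobson radical of the finite-dimensional algebra A — then u is numerically
trivial against algebraic classes: Tr_P(u · v) = 0 for every algebraic v ∈ H^{2n}(P). In the
published argument this is the step showing that the algebra of degree-0 algebraic correspondences
modulo numerical equivalence has zero Jacobson radical, hence is semisimple; it is stated here on
the cohomological side, with the algebra generated by the correspondence actions in place of the
algebra of cycle classes. -/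
theorem result (k : Type u) [Field k] [IsAlgClosed k]
    (K : Type v) [Field K] [CharZero K] (T : WeilCoh.Theory k K) (X P : WeilCoh.Var k)
    (p q : P ⟶ X) (hP : WeilCoh.IsProd p q) (σ : P ⟶ P) (hσp : σ ≫ p = q) (hσq : σ ≫ q = p)
    (hdim : ∀ j : ℤ, j + 2 * (WeilCoh.dim X.obj.left : ℤ) + 2 * (WeilCoh.dim X.obj.left : ℤ) - 2 * (WeilCoh.dim P.obj.left : ℤ) = j)
    (u : ↥(T.gr P (2 * (WeilCoh.dim X.obj.left : ℤ)))) (hu : (u : T.H P) ∈ Submodule.span K (Set.range (T.cl P)))
    (hJ : ∀ ψ ∈ Algebra.adjoin K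
          (Set.range (fun w : {w : ↥(T.gr P (2 * (WeilCoh.dim X.obj.left : ℤ))) // (w : T.H P) ∈ Submodule.span K (Set.range (T.cl P))} =>
            fun j : Fin (2 * WeilCoh.dim X.obj.left + 1) =>
              ((LinearEquiv.ofEq (T.gr X (((j : ℕ) : ℤ) + 2 * (WeilCoh.dim X.obj.left : ℤ) + 2 * (WeilCoh.dim X.obj.left : ℤ) - 2 * (WeilCoh.dim P.obj.left : ℤ))) (T.gr X ((j : ℕ) : ℤ)) (congrArg (T.gr X) (hdim ((j : ℕ) : ℤ)))).toLinearMap ∘ₗ
              ((T.push q (((j : ℕ) : ℤ) + 2 * (WeilCoh.dim X.obj.left : ℤ))) ∘ₗ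
                (((LinearMap.mulRight K (w.1 : T.H P)).restrict (p := T.gr P ((j : ℕ) : ℤ))
                    (q := T.gr P (((j : ℕ) : ℤ) + 2 * (WeilCoh.dim X.obj.left : ℤ))) (fun x hx => SetLike.mul_mem_graded hx w.1.2)) ∘ₗ
                  T.pullDeg p ((j : ℕ) : ℤ)))))),
        IsNilpotent (ψ * fun j : Fin (2 * WeilCoh.dim X.obj.left + 1) =>
          ((LinearEquiv.ofEq (T.gr X (((j : ℕ) : ℤ) + 2 * (WeilCoh.dim X.obj.left : ℤ) + 2 * (WeilCoh.dim X.obj.left : ℤ) - 2 * (WeilCoh.dim P.obj.left : ℤ))) (T.gr X ((j : ℕ) : ℤ)) (congrArg (T.gr X) (hdim ((j : ℕ) : ℤ)))).toLinearMap ∘ₗ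
              ((T.push q (((j : ℕ) : ℤ) + 2 * (WeilCoh.dim X.obj.left : ℤ))) ∘ₗ
                (((LinearMap.mulRight K (u : T.H P)).restrict (p := T.gr P ((j : ℕ) : ℤ))
                    (q := T.gr P (((j : ℕ) : ℤ) + 2 * (WeilCoh.dim X.obj.left : ℤ))) (fun x hx => SetLike.mul_mem_graded hx u.2)) ∘ₗ
                  T.pullDeg p ((j : ℕ) : ℤ))))))
    (v : ↥(T.gr P (2 * (WeilCoh.dim X.obj.left : ℤ)))) (hv : (v : T.H P) ∈ Submodule.span K (Set.range (T.cl P))) :
    T.tr P ((u : T.H P) * (v : T.H P)) = 0 := by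
  classical
  have hσσ := Groth.Agent.Lib.LeadWeilCorr.swap_swap p q hP σ hσp hσq
  have hdim' : ∀ i : ℤ, (i + 2 * (WeilCoh.dim X.obj.left : ℤ) + 2 * (WeilCoh.dim X.obj.left : ℤ) -
      2 * (WeilCoh.dim P.obj.left : ℤ)) + 2 * (WeilCoh.dim X.obj.left : ℤ) +
      2 * (WeilCoh.dim X.obj.left : ℤ) - 2 * (WeilCoh.dim P.obj.left : ℤ) = i := fun i => by
    have := hdim i; omega
  have hv'mem : T.pull σ (v : T.H P) ∈ T.gr P (2 * (WeilCoh.dim X.obj.left : ℤ)) :=
    T.pull_mem σ _ _ v.2
  have hv'alg := Groth.Agent.Lib.LeadWeilCorr.pull_swap_mem_span T p q hP σ hσp hσq (v : T.H P) hv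
  have e1 : (v : T.H P) = T.pull σ (T.pull σ (v : T.H P)) := by
    rw [Groth.Agent.Lib.Helper10.WeilPt.pull_pull,
      Groth.Agent.Lib.Helper10.WeilPt.pull_of_eq_id T _ hσσ]
  have hmain := Groth.Agent.Lib.LeadWeilCorr.tr_mul_pull_swap_eq T p q hP p q hP σ hσp hσq _ _
    hdim' u ⟨T.pull σ (v : T.H P), hv'mem⟩
  rw [e1]
  refine hmain.trans (Finset.sum_eq_zero fun i hi => ?_)
  have hi' : i < 2 * WeilCoh.dim X.obj.left + 1 := Finset.mem_range.mp hi
  obtain ⟨N, hN⟩ := hJ _ (Algebra.subset_adjoin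
    (Set.mem_range_self ⟨⟨T.pull σ (v : T.H P), hv'mem⟩, hv'alg⟩))
  have hN' := congrFun hN ⟨i, hi'⟩
  rw [Pi.pow_apply, Pi.mul_apply, Pi.zero_apply] at hN'
  have hnil : IsNilpotent ((LinearEquiv.ofEq _ (T.gr X (i : ℤ))
      (congrArg (T.gr X) (hdim' (i : ℤ)))).toLinearMap ∘ₗ
      (Groth.Agent.Lib.LeadWeilCorr.act T p q _ ⟨T.pull σ (v : T.H P), hv'mem⟩
        ((i : ℤ) + 2 * (WeilCoh.dim X.obj.left : ℤ) + 2 * (WeilCoh.dim X.obj.left : ℤ) -
          2 * (WeilCoh.dim P.obj.left : ℤ))) ∘ₗ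
      (Groth.Agent.Lib.LeadWeilCorr.act T p q _ u (i : ℤ))) := by
    refine ⟨N, ?_⟩
    refine Eq.trans (congrArg (fun A => A ^ N) ?_) hN'
    refine LinearMap.ext fun x => Subtype.ext ?_
    exact Groth.Agent.Lib.LeadWeilCorr.act_congr T p q _ _ (hdim (i : ℤ)) _ _ rfl
  rw [(LinearMap.isNilpotent_trace_of_isNilpotent hnil).eq_zero, mul_zero]

end Groth.Agent.S19418
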