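import Groth.Statements.S19462
import Mathlib

set_option autoImplicit false
universe u
open GrNak

namespace Groth.Agent.S19462

open DirectSum

/-- the degree-`i` component map -/
noncomputable def cmp {M τ : Type*} [AddCommMonoid M] [SetLike τ M] [AddSubmonoidClass τ M]
    (ℳ : ℤ → τ) [DirectSum.Decomposition ℳ] (i : ℤ) : M →+ M where
  toFun x := (decompose ℳ x i : M)
  map_zero' := by simp [DirectSum.decompose_zero]
  map_add' x y := by simp [DirectSum.decompose_add]

theorem cmp_apply {M τ : Type*} [AddCommMonoid M] [SetLike τ M] [AddSubmonoidClass τ M]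
    (ℳ : ℤ → τ) [DirectSum.Decomposition ℳ] (i : ℤ) (x : M) :
    cmp ℳ i x = (decompose ℳ x i : M) := rfl

theorem cmp_mem {M τ : Type*} [AddCommMonoid M] [SetLike τ M] [AddSubmonoidClass τ M]
    (ℳ : ℤ → τ) [DirectSum.Decomposition ℳ] (i : ℤ) (x : M) : cmp ℳ i x ∈ ℳ i := by
  rw [cmp_apply]; exact SetLike.coe_mem _

theorem eq_zero_of_cmp {M τ : Type*} [AddCommMonoid M] [SetLike τ M] [AddSubmonoidClass τ M]
    (ℳ : ℤ → τ) [DirectSum.Decomposition ℳ] (x : M) (h : ∀ e, cmp ℳ e x = 0) : x = 0 := by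
  classical
  rw [← DirectSum.sum_support_decompose ℳ x]
  exact Finset.sum_eq_zero (fun i _ => h i)

theorem cmp_smul_of_mem {R : Type*} [CommRing R] {σ : Type*} [SetLike σ R] [AddSubmonoidClass σ R]
    (𝒜 : ℤ → σ) [GradedRing 𝒜] {M : Type*} [AddCommGroup M] [Module R M] {τ : Type*}
    [SetLike τ M] [AddSubmonoidClass τ M] (ℳ : ℤ → τ) [DirectSum.Decomposition ℳ]
    [SetLike.GradedSMul 𝒜 ℳ] (r : R) {d : ℤ} {x : M} (hx : x ∈ ℳ d) (e : ℤ) :
    cmp ℳ e (r • x) = cmp 𝒜 (e - d) r • x := by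
  classical
  have h1 : r • x = ∑ a ∈ (decompose 𝒜 r).support, (decompose 𝒜 r a : R) • x := by
    rw [← Finset.sum_smul, DirectSum.sum_support_decompose 𝒜 r]
  rw [h1, map_sum]
  have h2 : ∀ a ∈ (decompose 𝒜 r).support, cmp ℳ e ((decompose 𝒜 r a : R) • x) =
      if a = e - d then (decompose 𝒜 r a : R) • x else 0 := by
    intro a _
    have hmem : (decompose 𝒜 r a : R) • x ∈ ℳ (a + d) := by
      have := SetLike.GradedSMul.smul_mem (A := 𝒜) (B := ℳ)
        (SetLike.coe_mem (decompose 𝒜 r a)) hx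
      simpa [vadd_eq_add] using this
    by_cases hae : a = e - d
    · rw [if_pos hae, cmp_apply]
      have h3 : a + d = e := by omega
      exact DirectSum.decompose_of_mem_same ℳ (h3 ▸ hmem)
    · rw [if_neg hae, cmp_apply]
      have h3 : a + d ≠ e := by omega
      exact DirectSum.decompose_of_mem_ne ℳ hmem h3
  rw [Finset.sum_congr rfl h2, Finset.sum_ite_eq']
  split_ifs with hmem
  · rfl
  · have h4 : decompose 𝒜 r (e - d) = 0 := DFinsupp.notMem_support_iff.mp hmem
    rw [cmp_apply, h4]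
    simp

theorem cmp_smul_of_mem_left {R : Type*} [CommRing R] {σ : Type*} [SetLike σ R]
    [AddSubmonoidClass σ R]
    (𝒜 : ℤ → σ) [GradedRing 𝒜] {M : Type*} [AddCommGroup M] [Module R M] {τ : Type*}
    [SetLike τ M] [AddSubmonoidClass τ M] (ℳ : ℤ → τ) [DirectSum.Decomposition ℳ]
    [SetLike.GradedSMul 𝒜 ℳ] {u : ℤ} {a : R} (ha : a ∈ 𝒜 u) (w : M) (e : ℤ) :
    cmp ℳ e (a • w) = a • cmp ℳ (e - u) w := by
  classical
  have h1 : a • w = ∑ b ∈ (decompose ℳ w).support, a • (decompose ℳ w b : M) := by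
    rw [← Finset.smul_sum, DirectSum.sum_support_decompose ℳ w]
  rw [h1, map_sum]
  have h2 : ∀ b ∈ (decompose ℳ w).support, cmp ℳ e (a • (decompose ℳ w b : M)) =
      if b = e - u then a • (decompose ℳ w b : M) else 0 := by
    intro b _
    have hmem : a • (decompose ℳ w b : M) ∈ ℳ (u + b) := by
      have := SetLike.GradedSMul.smul_mem (A := 𝒜) (B := ℳ) ha
        (SetLike.coe_mem (decompose ℳ w b))
      simpa [vadd_eq_add] using this
    by_cases hbe : b = e - u
    · rw [if_pos hbe, cmp_apply]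
      have h3 : u + b = e := by omega
      exact DirectSum.decompose_of_mem_same ℳ (h3 ▸ hmem)
    · rw [if_neg hbe, cmp_apply]
      have h3 : u + b ≠ e := by omega
      exact DirectSum.decompose_of_mem_ne ℳ hmem h3
  rw [Finset.sum_congr rfl h2, Finset.sum_ite_eq']
  split_ifs with hmem
  · rfl
  · have h4 : decompose ℳ w (e - u) = 0 := DFinsupp.notMem_support_iff.mp hmem
    rw [cmp_apply, h4]
    simp

/-- the submodule `R₊ M` -/
def Mplus {R : Type*} [CommRing R] {σ : Type*} [SetLike σ R] (𝒜 : ℤ → σ)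
    (M : Type*) [AddCommGroup M] [Module R M] : Submodule R M :=
  Submodule.span R {y | ∃ (u : ℤ) (a : R) (w : M), 0 < u ∧ a ∈ 𝒜 u ∧ y = a • w}

theorem smul_sub_mem_Mplus {R : Type*} [CommRing R] {σ : Type*} [SetLike σ R]
    [AddSubmonoidClass σ R] (𝒜 : ℤ → σ) [GradedRing 𝒜] {M : Type*} [AddCommGroup M] [Module R M]
    (hneg : ∀ i : ℤ, i < 0 → ∀ x ∈ 𝒜 i, x = 0) (r : R) (x : M) :
    r • x - cmp 𝒜 0 r • x ∈ Mplus 𝒜 M := by
  classical
  have h1 : r • x = ∑ a ∈ (decompose 𝒜 r).support, (decompose 𝒜 r a : R) • x := by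
    rw [← Finset.sum_smul, DirectSum.sum_support_decompose 𝒜 r]
  have h2 : cmp 𝒜 0 r • x = ∑ a ∈ (decompose 𝒜 r).support,
      if a = 0 then (decompose 𝒜 r a : R) • x else 0 := by
    rw [Finset.sum_ite_eq']
    split_ifs with hmem
    · rfl
    · have h4 : decompose 𝒜 r 0 = 0 := DFinsupp.notMem_support_iff.mp hmem
      rw [cmp_apply, h4]
      simp
  rw [h1, h2, ← Finset.sum_sub_distrib]
  refine Submodule.sum_mem _ (fun a _ => ?_)
  by_cases ha : a = 0
  · rw [if_pos ha, sub_self]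
    exact Submodule.zero_mem _
  · rw [if_neg ha, sub_zero]
    rcases lt_or_gt_of_ne ha with hlt | hgt
    · have h5 : (decompose 𝒜 r a : R) = 0 := hneg a hlt _ (SetLike.coe_mem _)
      rw [h5, zero_smul]
      exact Submodule.zero_mem _
    · exact Submodule.subset_span ⟨a, _, x, hgt, SetLike.coe_mem _, rfl⟩

theorem exists_lb (s : Finset ℤ) : ∃ e₀ : ℤ, ∀ i ∈ s, e₀ ≤ i := by
  induction s using Finset.induction_on with
  | empty => exact ⟨0, fun i hi => absurd hi (Finset.notMem_empty i)⟩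
  | insert a s _ ih =>
    obtain ⟨e, he⟩ := ih
    refine ⟨min a e, fun i hi => ?_⟩
    rcases Finset.mem_insert.mp hi with rfl | hi
    · exact min_le_left _ _
    · exact (min_le_right _ _).trans (he i hi)

theorem exists_bound {R : Type*} [CommRing R] {σ : Type*} [SetLike σ R] [AddSubmonoidClass σ R]
    (𝒜 : ℤ → σ) [GradedRing 𝒜] {M : Type*} [AddCommGroup M] [Module R M] [Module.Finite R M]
    {τ : Type*}
    [SetLike τ M] [AddSubmonoidClass τ M] (ℳ : ℤ → τ) [DirectSum.Decomposition ℳ]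
    [SetLike.GradedSMul 𝒜 ℳ] (hneg : ∀ i : ℤ, i < 0 → ∀ x ∈ 𝒜 i, x = 0) :
    ∃ e₀ : ℤ, ∀ (x : M) (e : ℤ), e < e₀ → cmp ℳ e x = 0 := by
  classical
  obtain ⟨S, hS⟩ := (Module.Finite.fg_top : (⊤ : Submodule R M).FG)
  obtain ⟨e₀, he₀⟩ := exists_lb (S.biUnion (fun x => (decompose ℳ x).support))
  refine ⟨e₀, fun x e he => ?_⟩
  have hx : x ∈ Submodule.span R (S : Set M) := by
    rw [hS]; exact Submodule.mem_top
  refine Submodule.closure_induction (p := fun y _ => cmp ℳ e y = 0) ?_ ?_ ?_ hx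
  · exact map_zero _
  · intro y z _ _ hy hz
    rw [map_add, hy, hz, add_zero]
  · intro r g hg
    have h1 : r • g = ∑ b ∈ (decompose ℳ g).support, r • (decompose ℳ g b : M) := by
      rw [← Finset.smul_sum, DirectSum.sum_support_decompose ℳ g]
    rw [h1, map_sum]
    refine Finset.sum_eq_zero (fun b hb => ?_)
    rw [cmp_smul_of_mem 𝒜 ℳ r (SetLike.coe_mem (decompose ℳ g b)) e]
    have hb' : e₀ ≤ b := he₀ b (Finset.mem_biUnion.mpr ⟨g, hg, hb⟩)
    have h2 : cmp 𝒜 (e - b) r = 0 := hneg (e - b) (by omega) _ (cmp_mem 𝒜 _ _)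
    rw [h2, zero_smul]

theorem nakayama {R : Type*} [CommRing R] {σ : Type*} [SetLike σ R] [AddSubmonoidClass σ R]
    (𝒜 : ℤ → σ) [GradedRing 𝒜] {M : Type*} [AddCommGroup M] [Module R M]
    {τ : Type*}
    [SetLike τ M] [AddSubmonoidClass τ M] (ℳ : ℤ → τ) [DirectSum.Decomposition ℳ]
    [SetLike.GradedSMul 𝒜 ℳ]
    (T : Set M) (hT : ∀ x ∈ T, SetLike.IsHomogeneousElem ℳ x)
    (e₀ : ℤ) (hb : ∀ (x : M) (e : ℤ), e < e₀ → cmp ℳ e x = 0)
    (h : Submodule.span R T ⊔ Mplus 𝒜 M = ⊤) : Submodule.span R T = ⊤ := by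
  classical
  have hNgr : ∀ y ∈ Submodule.span R T, ∀ e, cmp ℳ e y ∈ Submodule.span R T := by
    intro y hy e
    refine Submodule.closure_induction (p := fun y _ => cmp ℳ e y ∈ Submodule.span R T)
      ?_ ?_ ?_ hy
    · rw [map_zero]; exact Submodule.zero_mem _
    · intro a b _ _ ha hb'
      rw [map_add]; exact Submodule.add_mem _ ha hb'
    · intro r g hg
      obtain ⟨d, hd⟩ := hT g hg
      rw [cmp_smul_of_mem 𝒜 ℳ r hd e]
      exact Submodule.smul_mem _ _ (Submodule.subset_span hg)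
  have key : ∀ t : ℕ, ∀ (x : M) (e : ℤ), e < e₀ + t → cmp ℳ e x ∈ Submodule.span R T := by
    intro t
    induction t with
    | zero =>
      intro x e he
      rw [hb x e (by omega)]; exact Submodule.zero_mem _
    | succ t ih =>
      intro x e he
      have hx : x ∈ Submodule.span R T ⊔ Mplus 𝒜 M := by
        rw [h]; exact Submodule.mem_top
      obtain ⟨y, hy, z, hz, rfl⟩ := Submodule.mem_sup.mp hx
      rw [map_add]
      refine Submodule.add_mem _ (hNgr y hy e) ?_
      refine Submodule.closure_induction (p := fun z _ => cmp ℳ e z ∈ Submodule.span R T)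
        ?_ ?_ ?_ hz
      · rw [map_zero]; exact Submodule.zero_mem _
      · intro a b _ _ ha hb'
        rw [map_add]; exact Submodule.add_mem _ ha hb'
      · rintro r _ ⟨u, a, w, hu, ha, rfl⟩
        rw [smul_comm r a w, cmp_smul_of_mem_left 𝒜 ℳ ha (r • w) e]
        exact Submodule.smul_mem _ _ (ih (r • w) (e - u) (by omega))
  rw [eq_top_iff]
  intro x _
  rw [← DirectSum.sum_support_decompose ℳ x]
  refine Submodule.sum_mem _ (fun i _ => ?_)
  obtain ⟨t, ht⟩ : ∃ t : ℕ, i < e₀ + t := ⟨(i - e₀ + 1).toNat, by omega⟩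
  have h5 := key t x i ht
  rwa [cmp_apply] at h5

theorem exists_homog_gens {R : Type*} [CommRing R] {M : Type*} [AddCommGroup M] [Module R M]
    [Module.Finite R M] {τ : Type*}
    [SetLike τ M] [AddSubmonoidClass τ M] (ℳ : ℤ → τ) [DirectSum.Decomposition ℳ] :
    ∃ T : Finset M, (∀ x ∈ T, SetLike.IsHomogeneousElem ℳ x) ∧
      Submodule.span R (T : Set M) = ⊤ := by
  classical
  obtain ⟨S, hS⟩ := (Module.Finite.fg_top : (⊤ : Submodule R M).FG)
  refine ⟨S.biUnion (fun x => (decompose ℳ x).support.image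
    (fun e => (decompose ℳ x e : M))), ?_, ?_⟩
  · intro y hy
    obtain ⟨x, _, hy⟩ := Finset.mem_biUnion.mp hy
    obtain ⟨e, _, rfl⟩ := Finset.mem_image.mp hy
    exact ⟨e, SetLike.coe_mem _⟩
  · rw [eq_top_iff, ← hS, Submodule.span_le]
    intro x hx
    rw [SetLike.mem_coe, ← DirectSum.sum_support_decompose ℳ x]
    refine Submodule.sum_mem _ (fun e he => Submodule.subset_span ?_)
    rw [Finset.mem_coe]
    exact Finset.mem_biUnion.mpr ⟨x, hx, Finset.mem_image.mpr ⟨e, he, rfl⟩⟩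

theorem lemmaZ {R : Type*} [CommRing R] {σ : Type*} [SetLike σ R] [AddSubmonoidClass σ R]
    (𝒜 : ℤ → σ) [GradedRing 𝒜] (hneg : ∀ i : ℤ, i < 0 → ∀ x ∈ 𝒜 i, x = 0)
    (n r : R) (t : ℤ) (hn0 : cmp 𝒜 0 n = 0) (hr : ∀ e' < t, cmp 𝒜 e' r = 0) :
    cmp 𝒜 t (n * r) = 0 := by
  classical
  have h1 : n * r = ∑ b ∈ (decompose 𝒜 r).support, n • (decompose 𝒜 r b : R) := by
    rw [← Finset.smul_sum, DirectSum.sum_support_decompose 𝒜 r, smul_eq_mul]
  rw [h1, map_sum]
  refine Finset.sum_eq_zero (fun b _ => ?_)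
  rw [cmp_smul_of_mem 𝒜 𝒜 n (SetLike.coe_mem (decompose 𝒜 r b)) t]
  by_cases hbt : b < t
  · have h2 : (decompose 𝒜 r b : R) = 0 := hr b hbt
    rw [h2, smul_zero]
  · have hle : t - b ≤ 0 := by omega
    have h2 : cmp 𝒜 (t - b) n = 0 := by
      rcases lt_or_eq_of_le hle with hlt | heq
      · exact hneg _ hlt _ (cmp_mem 𝒜 _ _)
      · rw [heq]; exact hn0
    rw [h2, zero_smul]

theorem relation_lemma {k : Type*} [Field k] {R : Type*} [CommRing R] [Algebra k R]
    {σ : Type*} [SetLike σ R] [AddSubmonoidClass σ R]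
    (𝒜 : ℤ → σ) [GradedRing 𝒜] {M : Type*} [AddCommGroup M] [Module R M]
    (hneg : ∀ i : ℤ, i < 0 → ∀ x ∈ 𝒜 i, x = 0)
    (h0 : ∀ x ∈ 𝒜 0, ∃ c : k, algebraMap k R c = x)
    (T : Finset M)
    (hmin : ∀ T' : Finset M, T' ⊆ T →
      Submodule.span R (T' : Set M) ⊔ Mplus 𝒜 M = ⊤ → T.card ≤ T'.card)
    (hTsup : Submodule.span R (T : Set M) ⊔ Mplus 𝒜 M = ⊤)
    (c : ↥T → R) (hc : ∑ j, c j • (j : M) = 0) (j₀ : ↥T) : cmp 𝒜 0 (c j₀) = 0 := by
  classical
  by_contra hne
  obtain ⟨κ, hκ⟩ := h0 (cmp 𝒜 0 (c j₀)) (cmp_mem 𝒜 0 _)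
  have hκ0 : κ ≠ 0 := by
    rintro rfl
    rw [map_zero] at hκ
    exact hne hκ.symm
  obtain ⟨W, hW⟩ : ∃ W : Submodule R M,
      W = Submodule.span R ((T.erase (j₀ : M) : Finset M) : Set M) ⊔ Mplus 𝒜 M := ⟨_, rfl⟩
  have hS0 : ∑ j : ↥T, cmp 𝒜 0 (c j) • (j : M) ∈ Mplus 𝒜 M := by
    have h1 : ∑ j : ↥T, cmp 𝒜 0 (c j) • (j : M) =
        -∑ j : ↥T, (c j • (j : M) - cmp 𝒜 0 (c j) • (j : M)) := by
      rw [Finset.sum_sub_distrib, hc, zero_sub, neg_neg]
    rw [h1]
    exact Submodule.neg_mem _ (Submodule.sum_mem _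
      (fun j _ => smul_sub_mem_Mplus 𝒜 hneg (c j) (j : M)))
  have hother : ∀ j : ↥T, j ≠ j₀ → cmp 𝒜 0 (c j) • (j : M) ∈ W := by
    intro j hj
    rw [hW]
    refine Submodule.mem_sup_left (Submodule.smul_mem _ _ (Submodule.subset_span ?_))
    rw [Finset.mem_coe, Finset.mem_erase]
    exact ⟨fun h => hj (Subtype.ext h), j.2⟩
  have hj0 : cmp 𝒜 0 (c j₀) • (j₀ : M) ∈ W := by
    have h2 : cmp 𝒜 0 (c j₀) • (j₀ : M) +
        ∑ j ∈ Finset.univ.erase j₀, cmp 𝒜 0 (c j) • (j : M) =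
        ∑ j : ↥T, cmp 𝒜 0 (c j) • (j : M) :=
      Finset.add_sum_erase Finset.univ (fun j : ↥T => cmp 𝒜 0 (c j) • (j : M))
        (Finset.mem_univ j₀)
    rw [eq_sub_of_add_eq h2]
    refine Submodule.sub_mem _ ?_ (Submodule.sum_mem _
      (fun j hj => hother j (Finset.ne_of_mem_erase hj)))
    rw [hW]
    exact Submodule.mem_sup_right hS0
  have hj0' : (j₀ : M) ∈ W := by
    have h4 : (j₀ : M) = algebraMap k R κ⁻¹ • (cmp 𝒜 0 (c j₀) • (j₀ : M)) := by
      rw [← hκ, smul_smul, ← map_mul, inv_mul_cancel₀ hκ0, map_one, one_smul]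
    rw [h4]
    exact Submodule.smul_mem _ _ hj0
  have hWtop : Submodule.span R ((T.erase (j₀ : M) : Finset M) : Set M) ⊔ Mplus 𝒜 M = ⊤ := by
    rw [← hW, eq_top_iff, ← hTsup]
    refine sup_le (Submodule.span_le.mpr ?_) (by rw [hW]; exact le_sup_right)
    intro x hx
    by_cases hxj : x = (j₀ : M)
    · rw [hxj]; exact hj0'
    · rw [hW]
      exact Submodule.mem_sup_left (Submodule.subset_span
        (Finset.mem_coe.mpr (Finset.mem_erase.mpr ⟨hxj, Finset.mem_coe.mp hx⟩)))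
  have hcard := hmin (T.erase (j₀ : M)) (Finset.erase_subset _ _) hWtop
  rw [Finset.card_erase_of_mem j₀.2] at hcard
  have hpos : 0 < T.card := Finset.card_pos.mpr ⟨j₀, j₀.2⟩
  omega

theorem indep {R : Type*} [CommRing R] {σ : Type*} [SetLike σ R] [AddSubmonoidClass σ R]
    (𝒜 : ℤ → σ) [GradedRing 𝒜] {M : Type*} [AddCommGroup M] [Module R M]
    [Module.Projective R M]
    (hneg : ∀ i : ℤ, i < 0 → ∀ x ∈ 𝒜 i, x = 0)
    (T : Finset M) (hTtop : Submodule.span R (T : Set M) = ⊤)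
    (hB : ∀ c : ↥T → R, ∑ j, c j • (j : M) = 0 → ∀ j, cmp 𝒜 0 (c j) = 0) :
    LinearIndependent R (fun j : ↥T => (j : M)) := by
  classical
  rw [Fintype.linearIndependent_iff]
  intro c hc
  have hφsurj : Function.Surjective
      (Fintype.linearCombination R (fun j : ↥T => (j : M))) := by
    intro x
    have hx : x ∈ Submodule.span R (Set.range (fun j : ↥T => (j : M))) := by
      have h1 : x ∈ Submodule.span R (T : Set M) := by rw [hTtop]; exact Submodule.mem_top
      refine Submodule.span_mono ?_ h1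
      intro y hy
      exact ⟨⟨y, Finset.mem_coe.mp hy⟩, rfl⟩
    obtain ⟨g, hg⟩ := (Submodule.mem_span_range_iff_exists_fun R).mp hx
    exact ⟨g, by rw [Fintype.linearCombination_apply]; exact hg⟩
  obtain ⟨ψ, hψ⟩ := Module.projective_lifting_property
    (Fintype.linearCombination R (fun j : ↥T => (j : M))) LinearMap.id hφsurj
  have hψm : ∀ j : ↥T, ∑ i : ↥T, ψ (j : M) i • (i : M) = (j : M) := by
    intro j
    have h1 := LinearMap.congr_fun hψ (j : M)
    rw [LinearMap.comp_apply, Fintype.linearCombination_apply, LinearMap.id_apply] at h1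
    exact h1
  have hN : ∀ i j : ↥T, cmp 𝒜 0 (ψ (j : M) i - (if i = j then 1 else 0)) = 0 := by
    intro i j
    refine hB (fun i => ψ (j : M) i - (if i = j then 1 else 0)) ?_ i
    have h2 : ∑ i : ↥T, (if i = j then (1 : R) else 0) • (i : M) = (j : M) := by
      rw [Finset.sum_eq_single j]
      · rw [if_pos rfl, one_smul]
      · intro i _ hij
        rw [if_neg hij, zero_smul]
      · intro h
        exact absurd (Finset.mem_univ j) h
    simp only [sub_smul, Finset.sum_sub_distrib]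
    rw [hψm j, h2, sub_self]
  have heq : ∀ i : ↥T, ∑ j : ↥T, c j * ψ (j : M) i = 0 := by
    intro i
    have h1 : ψ (∑ j : ↥T, c j • (j : M)) = 0 := by rw [hc, map_zero]
    have h2 : ψ (∑ j : ↥T, c j • (j : M)) i = ∑ j : ↥T, c j * ψ (j : M) i := by
      rw [map_sum, Finset.sum_apply]
      refine Finset.sum_congr rfl (fun j _ => ?_)
      rw [map_smul, Pi.smul_apply, smul_eq_mul]
    rw [← h2, h1]
    rfl
  have hdeg : ∀ t : ℕ, ∀ (j : ↥T) (e : ℤ), e < t → cmp 𝒜 e (c j) = 0 := by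
    intro t
    induction t with
    | zero =>
      intro j e he
      exact hneg e (by omega) _ (cmp_mem 𝒜 e _)
    | succ t ih =>
      intro j e he
      have he' : e ≤ (t : ℤ) := by omega
      rcases lt_or_eq_of_le he' with hlt | rfl
      · exact ih j e hlt
      · have h1 := heq j
        have h3 : ∑ l : ↥T, (if j = l then (1 : R) else 0) * c l = c j := by
          rw [Finset.sum_eq_single j]
          · rw [if_pos rfl, one_mul]
          · intro l _ hlj
            rw [if_neg (Ne.symm hlj), zero_mul]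
          · intro h
            exact absurd (Finset.mem_univ j) h
        have h2 : c j = -∑ l : ↥T, (ψ (l : M) j - (if j = l then 1 else 0)) * c l := by
          have h4 : ∑ l : ↥T, (ψ (l : M) j - (if j = l then 1 else 0)) * c l =
              ∑ l : ↥T, c l * ψ (l : M) j - c j := by
            simp only [sub_mul, Finset.sum_sub_distrib]
            rw [h3]
            congr 1
            exact Finset.sum_congr rfl (fun l _ => mul_comm _ _)
          rw [h4, h1, zero_sub, neg_neg]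
        rw [h2, map_neg, map_sum, neg_eq_zero]
        refine Finset.sum_eq_zero (fun l _ => ?_)
        exact lemmaZ 𝒜 hneg _ (c l) (t : ℤ) (hN j l) (fun e' he' => ih l e' he')
  intro j
  exact eq_zero_of_cmp 𝒜 (c j) (fun e => hdeg (e.toNat + 1) j e (by omega))

/-- Let k be a field and R a commutative ℤ-graded k-algebra whose pieces of negative degree vanish and
whose degree-zero piece is the image of k, and let M be a finitely generated ℤ-graded R-module,
graded compatibly with R. Then M is a projective R-module if and only if M has an R-basis consisting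
of homogeneous elements, i.e. M is a free graded module. (The published statement takes R a graded
quotient of a polynomial ring k[x_0, …, x_n] with its standard grading; stated here for any
commutative graded k-algebra concentrated in non-negative degrees with degree-zero part k, to which
the same graded-Nakayama argument applies.) -/
theorem result {k : Type u} [Field k] {R : Type u} [CommRing R] [Algebra k R]
    {σ : Type u} [SetLike σ R] [AddSubmonoidClass σ R] (𝒜 : ℤ → σ) [GradedRing 𝒜]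
    (hneg : ∀ i : ℤ, i < 0 → ∀ x ∈ 𝒜 i, x = 0)
    (hk : ∀ c : k, algebraMap k R c ∈ 𝒜 0) (h0 : ∀ x ∈ 𝒜 0, ∃ c : k, algebraMap k R c = x)
    {M : Type u} [AddCommGroup M] [Module R M] [Module.Finite R M]
    {τ : Type u} [SetLike τ M] [AddSubmonoidClass τ M] (ℳ : ℤ → τ) [DirectSum.Decomposition ℳ]
    [SetLike.GradedSMul 𝒜 ℳ] :
    Module.Projective R M ↔
      ∃ (ι : Type u) (b : Module.Basis ι R M), ∀ i : ι, SetLike.IsHomogeneousElem ℳ (b i) := by
  constructor
  · intro hproj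
    classical
    obtain ⟨e₀, hb⟩ := exists_bound 𝒜 ℳ hneg
    have hex : ∃ n : ℕ, ∃ T : Finset M, T.card = n ∧
        (∀ x ∈ T, SetLike.IsHomogeneousElem ℳ x) ∧
        Submodule.span R (T : Set M) ⊔ Mplus 𝒜 M = ⊤ := by
      obtain ⟨T, hT, hspan⟩ := exists_homog_gens (R := R) ℳ
      exact ⟨T.card, T, rfl, hT, by rw [hspan, top_sup_eq]⟩
    obtain ⟨T, hcard, hThom, hTsup⟩ := Nat.find_spec hex
    have hmin : ∀ T' : Finset M, (∀ x ∈ T', SetLike.IsHomogeneousElem ℳ x) →
        Submodule.span R (T' : Set M) ⊔ Mplus 𝒜 M = ⊤ → T.card ≤ T'.card := by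
      intro T' h1 h2
      rw [hcard]
      exact Nat.find_min' hex ⟨T', rfl, h1, h2⟩
    have hTtop : Submodule.span R (T : Set M) = ⊤ :=
      nakayama 𝒜 ℳ (T : Set M) (fun x hx => hThom x (Finset.mem_coe.mp hx)) e₀ hb hTsup
    have hB : ∀ c : ↥T → R, ∑ j, c j • (j : M) = 0 → ∀ j, cmp 𝒜 0 (c j) = 0 :=
      fun c hc j => relation_lemma (k := k) 𝒜 hneg h0 T
        (fun T' hsub hsup => hmin T' (fun x hx => hThom x (hsub hx)) hsup) hTsup c hc j
    have hli : LinearIndependent R (fun j : ↥T => (j : M)) := indep 𝒜 hneg T hTtop hB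
    have hsp : ⊤ ≤ Submodule.span R (Set.range (fun j : ↥T => (j : M))) := by
      rw [← hTtop]
      refine Submodule.span_mono ?_
      intro y hy
      exact ⟨⟨y, Finset.mem_coe.mp hy⟩, rfl⟩
    refine ⟨↥T, Module.Basis.mk hli hsp, fun j => ?_⟩
    rw [Module.Basis.coe_mk]
    exact hThom j j.2
  · rintro ⟨ι, b, -⟩
    exact Module.Projective.of_basis b

end Groth.Agent.S19462
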