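import Groth.Statements.S19514
import Groth.Agent.Lib.T2H9GeomIntDom
import Groth.Agent.S19512
import Groth.Agent.S19511

set_option autoImplicit false
set_option linter.style.haveILetI false
set_option linter.unusedVariables false
universe u
open CategoryTheory CategoryTheory.Limits AlgebraicGeometry
open Variety

namespace Groth.Agent.S19514

/-- Let k be a field and f : X → Y a k-morphism between proper k-schemes which is a fibration, i.e. O_Y
→ f_*O_X is an isomorphism (Γ(V, O_Y) → Γ(f⁻¹V, O_X) bijective for every open V ⊆ Y). If X is
geometrically integral over k, then so is Y. (The assertion of (iii) for geometric normality is not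
stated here.) -/
theorem result (k : Type u) [Field k] (X Y : Scheme.{u})
    [X.Over (Spec (CommRingCat.of k))] [Y.Over (Spec (CommRingCat.of k))] [IsProper (X ↘ Spec (CommRingCat.of k))] [IsProper (Y ↘ Spec (CommRingCat.of k))]
    (f : X ⟶ Y) (hf : f ≫ (Y ↘ Spec (CommRingCat.of k)) = X ↘ Spec (CommRingCat.of k)) (hfib : ∀ V : Y.Opens, IsIso (f.app V))
    [GeometricallyIntegral (X ↘ Spec (CommRingCat.of k))] : GeometricallyIntegral (Y ↘ Spec (CommRingCat.of k)) := by
  haveI : IsIntegral X :=
    GeometricallyIntegral.isIntegral_of_subsingleton (X ↘ Spec (CommRingCat.of k))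
  haveI : IsIntegral Y := Groth.Agent.S19512.result k X Y f hf hfib
  have hsurj : Surjective f := Groth.Agent.S19511.result k X Y f hf hfib
  have hdom : f (genericPoint X) = genericPoint Y := by
    apply ((genericPoint_spec Y).eq _).symm
    rw [isGenericPoint_def, Set.eq_univ_iff_forall]
    intro y
    obtain ⟨x, rfl⟩ := hsurj.surj y
    have hx : x ∈ closure ({genericPoint X} : Set X) := by
      rw [(genericPoint_spec X).def]; trivial
    have := image_closure_subset_closure_image f.continuous (Set.mem_image_of_mem f hx)
    rwa [Set.image_singleton] at this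
  exact Groth.Agent.Lib.T2H9.GeomIntDom.geometricallyIntegral_of_dominant k X Y f hf hdom

end Groth.Agent.S19514
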