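import Groth.Statements.S19533
import Groth.Agent.Lib.T2H7AbFib

set_option autoImplicit false
universe u
open CategoryTheory CategoryTheory.Limits MonoidalCategory CartesianMonoidalCategory MonObj GrpObj AlgebraicGeometry
open AbVar

namespace Groth.Agent.S19533

/-- Let k be an algebraically closed field, A an abelian variety over k (a k-group scheme whose
structure morphism is proper, smooth and geometrically connected) with unit point e, Y a scheme
separated over k and f : A → Y a morphism over k. Write F₀ for the connected component of e in the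
fibre f⁻¹(f(e)). Then the k-rational points of F₀ are stable under the group law: if k-points x and
y of A lie in F₀ then so do the product point x·y and the inverse point x⁻¹. (The published
statement is for Y a k-variety and concludes that F₀ with its reduced structure is an abelian
subvariety, together with the translation formula F_a = a + F₀; this row records the closure of
F₀(k) under multiplication and inversion, for Y merely separated over k.) -/
theorem result (k : Type u) [Field k] [IsAlgClosed k]
    (A : Over (Spec (CommRingCat.of k))) [GrpObj A] [IsProper A.hom] [Smooth A.hom] [GeometricallyConnected A.hom]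
    {Y : Scheme.{u}} (q : Y ⟶ Spec (CommRingCat.of k)) [IsSeparated q] (f : A.left ⟶ Y) (hf : f ≫ q = A.hom)
    (x y : 𝟙_ (Over (Spec (CommRingCat.of k))) ⟶ A)
    (hx : x.left (IsLocalRing.closedPoint k) ∈
      connectedComponentIn (f ⁻¹' {f (η[A].left (IsLocalRing.closedPoint k))}) (η[A].left (IsLocalRing.closedPoint k)))
    (hy : y.left (IsLocalRing.closedPoint k) ∈
      connectedComponentIn (f ⁻¹' {f (η[A].left (IsLocalRing.closedPoint k))}) (η[A].left (IsLocalRing.closedPoint k))) :
    (lift x y ≫ μ[A]).left (IsLocalRing.closedPoint k) ∈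
        connectedComponentIn (f ⁻¹' {f (η[A].left (IsLocalRing.closedPoint k))}) (η[A].left (IsLocalRing.closedPoint k)) ∧
      (x ≫ ι[A]).left (IsLocalRing.closedPoint k) ∈
        connectedComponentIn (f ⁻¹' {f (η[A].left (IsLocalRing.closedPoint k))}) (η[A].left (IsLocalRing.closedPoint k)) := by
  classical
  have hAconn : ConnectedSpace A.left :=
    GeometricallyConnected.connectedSpace_of_subsingleton A.hom
  set pt : ↥(Spec (CommRingCat.of k)) := IsLocalRing.closedPoint k with hptdef
  set e₀ : A.left := (η[A]).left.base pt with he₀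
  -- rewrite everything in terms of `.base`
  have hx' : x.left.base pt ∈ connectedComponentIn (f.base ⁻¹' {f.base e₀}) e₀ := hx
  have hy' : y.left.base pt ∈ connectedComponentIn (f.base ⁻¹' {f.base e₀}) e₀ := hy
  have hfx : f.base (x.left.base pt) = f.base e₀ := by
    have h := connectedComponentIn_subset (f.base ⁻¹' {f.base e₀}) e₀ hx'
    exact h
  have hCx : connectedComponentIn (f.base ⁻¹' {f.base (x.left.base pt)}) (x.left.base pt) =
      connectedComponentIn (f.base ⁻¹' {f.base e₀}) e₀ := by
    rw [hfx]
    exact (connectedComponentIn_eq hx').symm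
  have hone : lift x η[A] ≫ μ[A] = x := by
    have h1 : lift x η[A] = lift x (𝟙 _ ≫ η[A]) := by rw [Category.id_comp]
    rw [h1, MonObj.lift_comp_one_right]
  have hinv : lift (x ≫ ι[A]) x ≫ μ[A] = η[A] := by
    rw [GrpObj.lift_comp_inv_left, toUnit_unique (toUnit (𝟙_ (Over (Spec (CommRingCat.of k))))) (𝟙 _),
      Category.id_comp]
  constructor
  · have h1 := Groth.Agent.Lib.T2H7.AbFib.translate_subset k A q f hf η[A] x pt
    rw [hone, hCx] at h1
    have h2 : (lift (toUnit A ≫ x) (𝟙 A) ≫ μ[A]).left.base (y.left.base pt) ∈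
        connectedComponentIn (f.base ⁻¹' {f.base e₀}) e₀ := h1 ⟨_, hy', rfl⟩
    have h3 : y ≫ lift (toUnit A ≫ x) (𝟙 A) ≫ μ[A] = lift x y ≫ μ[A] := by
      rw [← Category.assoc, comp_lift, Category.comp_id, ← Category.assoc,
        toUnit_unique (y ≫ toUnit A) (𝟙 _), Category.id_comp]
    have h4 : (lift (toUnit A ≫ x) (𝟙 A) ≫ μ[A]).left.base (y.left.base pt) =
        (lift x y ≫ μ[A]).left.base pt :=
      congrArg (fun t : 𝟙_ (Over (Spec (CommRingCat.of k))) ⟶ A => t.left.base pt) h3
    rw [h4] at h2
    exact h2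
  · have h1 := Groth.Agent.Lib.T2H7.AbFib.translate_subset k A q f hf x (x ≫ ι[A]) pt
    rw [hinv, hCx] at h1
    have he₀mem : e₀ ∈ connectedComponentIn (f.base ⁻¹' {f.base e₀}) e₀ :=
      mem_connectedComponentIn rfl
    have h2 : (lift (toUnit A ≫ x ≫ ι[A]) (𝟙 A) ≫ μ[A]).left.base e₀ ∈
        connectedComponentIn (f.base ⁻¹' {f.base e₀}) e₀ := h1 ⟨_, he₀mem, rfl⟩
    have h3 : η[A] ≫ lift (toUnit A ≫ x ≫ ι[A]) (𝟙 A) ≫ μ[A] = x ≫ ι[A] := by
      rw [← Category.assoc, comp_lift, Category.comp_id, ← Category.assoc,
        toUnit_unique (η[A] ≫ toUnit A) (𝟙 _), Category.id_comp]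
      have h5 : lift (x ≫ ι[A]) η[A] = lift (x ≫ ι[A]) (𝟙 _ ≫ η[A]) := by rw [Category.id_comp]
      rw [h5, MonObj.lift_comp_one_right]
    have h4 : (lift (toUnit A ≫ x ≫ ι[A]) (𝟙 A) ≫ μ[A]).left.base e₀ =
        (x ≫ ι[A]).left.base pt :=
      congrArg (fun t : 𝟙_ (Over (Spec (CommRingCat.of k))) ⟶ A => t.left.base pt) h3
    rw [h4] at h2
    exact h2

end Groth.Agent.S19533
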