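import Groth.Statements.S19534
import Groth.Agent.Lib.T2H9ASBunC

set_option autoImplicit false
set_option linter.style.haveILetI false
set_option linter.unusedVariables false
universe u
open CategoryTheory CategoryTheory.Limits AlgebraicGeometry
open ASBun

namespace Groth.Agent.S19534

open W4c1astiltbs12 in
/-- Let X be a proper, geometrically integral scheme over a field k, K an algebraic closure of k with
projection π : X_K → X, and E a nonzero finite locally free O_X-module which is absolutely
rank-one-isotypical: π^*E ≅ L^{⊕r} for some invertible O_{X_K}-module L and some natural number r.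
Then the endomorphism ring of E (multiplication = composition) is a simple ring. (The published
statement says that this ring is a central simple algebra over k; centrality over k and
finite-dimensionality are not stated here, only simplicity as a ring. Non-vanishing of E is part of
the definition of rank-one-isotypical there, the direct sum having at least one summand.) -/
theorem result (k : Type u) [Field k]
    {X : Scheme.{u}} (p : X ⟶ Spec (CommRingCat.of k)) [IsProper p] [GeometricallyIntegral p]
    (K : Type u) [Field K] [Algebra k K] [IsAlgClosure k K]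
    (E : X.Modules) (hE : FlatMod.IsFinLocFree E) (hE0 : ¬ IsZero E)
    (L : (W4bk4gw11416.baseChange p K).Modules) (hL : PicF.IsInvertible L) (r : ℕ)
    (e : Nonempty (bcMod p K E ≅ pow L r)) :
    IsSimpleRing (CategoryTheory.End E) := by
  letI : X.Over (Spec (CommRingCat.of k)) := ⟨p⟩
  haveI : IsProper (X ↘ Spec (CommRingCat.of k)) := inferInstanceAs (IsProper p)
  haveI : GeometricallyIntegral (X ↘ Spec (CommRingCat.of k)) :=
    inferInstanceAs (GeometricallyIntegral p)
  letI : (W4bk4gw11416.baseChange p K).Over (Spec (CommRingCat.of K)) :=
    ⟨pullback.snd p (Spec.map (CommRingCat.ofHom (algebraMap k K)))⟩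
  have hpb : IsPullback (pullback.fst p (Spec.map (CommRingCat.ofHom (algebraMap k K))))
      ((W4bk4gw11416.baseChange p K) ↘ Spec (CommRingCat.of K)) (X ↘ Spec (CommRingCat.of k))
      (Spec.map (CommRingCat.ofHom (algebraMap k K))) :=
    IsPullback.of_hasPullback p (Spec.map (CommRingCat.ofHom (algebraMap k K)))
  haveI : IsProper ((W4bk4gw11416.baseChange p K) ↘ Spec (CommRingCat.of K)) :=
    Groth.Agent.Lib.T2H9.RatTwistC.isProper_bc k K _ hpb
  haveI : GeometricallyIntegral ((W4bk4gw11416.baseChange p K) ↘ Spec (CommRingCat.of K)) :=
    MorphismProperty.of_isPullback (P := @GeometricallyIntegral) hpb inferInstance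
  haveI : CompactSpace X :=
    QuasiCompact.compactSpace_of_compactSpace (X ↘ Spec (CommRingCat.of k))
  have hEc := Groth.Agent.Lib.T2H4.HZshLF.isCoh_of_isFinLocFree E hE
  haveI : E.IsQuasicoherent := hEc.1
  obtain ⟨e1⟩ := e
  exact Groth.Agent.Lib.T2H9.ASBun.isSimpleRing_end_of_copow k K _ hpb E hEc hE0 L
    (Groth.Agent.Lib.T2H9.ASBun.endo_invertible_scalar K
      (Groth.Agent.Lib.T2H9.ASBun.toGlobal_surjective K) L hL) r e1

end Groth.Agent.S19534
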