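import Groth.Statements.S19541
import Mathlib
import Groth.Agent.Lib.T2H3EtaleAt
import Groth.Agent.Lib.Helper7Dim

set_option autoImplicit false
set_option linter.style.haveILetI false
universe u
open CategoryTheory CategoryTheory.Limits AlgebraicGeometry TopologicalSpace
open Curves

namespace Groth.Agent.S19541

/-- Pointwise criterion for a map of smooth curves to be étale: let k be an algebraically closed field,
X and Y integral schemes each smooth, separated and quasi-compact over Spec k and of dimension one,
φ : X → Y a morphism over k and x a closed point of X. Then φ is étale at x (the restriction of φ to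
some open neighbourhood of x is étale) if and only if the induced homomorphism of stalks O_{Y,φ(x)}
→ O_{X,x} carries the maximal ideal of the discrete valuation ring O_{Y,φ(x)} to an ideal generating
the maximal ideal of O_{X,x}; equivalently a uniformiser at φ(x) pulls back to a uniformiser at x.
(The published statement is for smooth curves, which are in addition geometrically connected;
integrality is what is used. For a constant φ both sides fail.) -/
theorem result (k : Type u) [Field k] [IsAlgClosed k] {X Y : Scheme.{u}}
    (pX : X ⟶ Spec (CommRingCat.of k)) (pY : Y ⟶ Spec (CommRingCat.of k)) (φ : X ⟶ Y) (w : φ ≫ pY = pX)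
    [IsIntegral X] [Smooth pX] [IsSeparated pX] [QuasiCompact pX] (hdX : topologicalKrullDim X = 1)
    [IsIntegral Y] [Smooth pY] [IsSeparated pY] [QuasiCompact pY] (hdY : topologicalKrullDim Y = 1)
    (x : X) (hx : IsClosed ({x} : Set X)) :
    (∃ U : X.Opens, x ∈ U ∧ Etale (U.ι ≫ φ)) ↔
      Ideal.map (φ.stalkMap x).hom (IsLocalRing.maximalIdeal (Y.presheaf.stalk (φ.base x))) =
        IsLocalRing.maximalIdeal (X.presheaf.stalk x) := by
  have hnoeth : IsLocallyNoetherian Y := LocallyOfFiniteType.isLocallyNoetherian pY
  haveI hlftX : LocallyOfFiniteType pX := inferInstance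
  haveI hlft : LocallyOfFiniteType φ := by
    haveI : LocallyOfFiniteType (φ ≫ pY) := w ▸ inferInstance
    exact locallyOfFiniteType_of_comp φ pY
  haveI hlfp : LocallyOfFinitePresentation φ :=
    LocallyOfFinitePresentation.iff_locallyOfFiniteType.mpr hlft
  letI algTS : Algebra (Y.presheaf.stalk (φ x)) (X.presheaf.stalk x) :=
    (φ.stalkMap x).hom.toAlgebra
  haveI hloc : IsLocalHom (algebraMap (Y.presheaf.stalk (φ x)) (X.presheaf.stalk x)) :=
    inferInstanceAs (IsLocalHom (φ.stalkMap x).hom)
  haveI heft : Algebra.EssFiniteType (Y.presheaf.stalk (φ x)) (X.presheaf.stalk x) :=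
    LocallyOfFiniteType.stalkMap φ x
  constructor
  · rintro ⟨U, hxU, hU⟩
    have hfu : (φ.stalkMap x).hom.FormallyUnramified :=
      Groth.Agent.Lib.T2H3.GenEtale.stalkMap_formallyUnramified_of_comp U.ι φ ⟨x, hxU⟩
    haveI : Algebra.FormallyUnramified (Y.presheaf.stalk (φ x)) (X.presheaf.stalk x) := hfu
    exact Algebra.FormallyUnramified.map_maximalIdeal
  · intro h
    have hxgen : x ≠ genericPoint X := by
      rintro rfl
      have huniv : (Set.univ : Set X) = {genericPoint X} := by
        rw [← hx.closure_eq]
        exact ((genericPoint_spec X).def).symm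
      have hsub : Subsingleton X := by
        refine ⟨fun a b => ?_⟩
        have ha : a ∈ ({genericPoint X} : Set X) := huniv ▸ Set.mem_univ a
        have hb : b ∈ ({genericPoint X} : Set X) := huniv ▸ Set.mem_univ b
        rw [Set.mem_singleton_iff] at ha hb
        rw [ha, hb]
      have h1 : topologicalKrullDim X = @Order.krullDim X (specializationPreorder X) :=
        Groth.Agent.Lib.Helper7.topologicalKrullDim_eq_krullDim_points
      have h2 : @Order.krullDim X (specializationPreorder X) ≤ 0 :=
        @Order.krullDim_nonpos_of_subsingleton X (specializationPreorder X) hsub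
      rw [← h1, hdX] at h2
      exact absurd h2 (by norm_num)
    have e := Groth.Agent.Lib.T2H3.EtaleAt.map_genericPoint_of_map_maximalIdeal hdY.le φ x
      hxgen h
    haveI hflat : Flat φ := Groth.Agent.Lib.T2H3.GenEtale.flat_of_generic k X Y pY hdY φ e
    have hsurj := Groth.Agent.Lib.T2H3.EtaleAt.residueFieldMap_surjective k pX pY φ w x hx
    haveI hsep : Algebra.IsSeparable (IsLocalRing.ResidueField (Y.presheaf.stalk (φ x)))
        (IsLocalRing.ResidueField (X.presheaf.stalk x)) := by
      refine ⟨fun z => ?_⟩
      obtain ⟨a, rfl⟩ := hsurj z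
      exact isSeparable_algebraMap (F := IsLocalRing.ResidueField (Y.presheaf.stalk (φ x)))
        (K := IsLocalRing.ResidueField (X.presheaf.stalk x)) a
    have hfu : Algebra.FormallyUnramified (Y.presheaf.stalk (φ x)) (X.presheaf.stalk x) :=
      Algebra.FormallyUnramified.of_map_maximalIdeal h
    obtain ⟨U, hxU, hU⟩ :=
      Groth.Agent.Lib.T2H3.EtaleAt.exists_open_formallyUnramified_of_stalkMap φ x hfu
    exact ⟨U, hxU, Etale.of_formallyUnramified_of_flat (U.ι ≫ φ)⟩

end Groth.Agent.S19541
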