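import Groth.Statements.S19544
import Groth.Agent.Lib.T2H4Unimodular

set_option autoImplicit false
universe u
open CAlg

namespace Groth.Agent.S19544

/-- Let R be a Noetherian ring of Krull dimension d and P a finitely generated projective R-module of
constant rank n at every prime of R, with n > d. Then P is isomorphic to P₀ ⊕ R^(n-d) for some
module P₀; concretely, P has complementary submodules P₀ and Q with Q free of rank n - d. -/
theorem result (R : Type u) [CommRing R]
    [IsNoetherianRing R] (d n : ℕ) (hdim : ringKrullDim R = d)
    (P : Type u) [AddCommGroup P] [Module R P] [Module.Finite R P] [Module.Projective R P]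
    (hrk : ∀ p : PrimeSpectrum R, Module.rankAtStalk (R := R) P p = n) (hnd : d < n) :
    ∃ (P₀ Q : Submodule R P), IsCompl P₀ Q ∧ Nonempty (Q ≃ₗ[R] (Fin (n - d) → R)) := by
  
  obtain ⟨f, g, hfg⟩ := Groth.Agent.Lib.T2H4.Unimodular.split (R := R) (le_of_eq hdim) (n - d) P
    (fun 𝔭 => by rw [hrk]; omega)
  have hinj : Function.Injective f := Function.LeftInverse.injective (g := g) fun x => by
    have := congrArg (fun h => h x) hfg
    simpa using this
  exact ⟨LinearMap.ker g, LinearMap.range f,
    Groth.Agent.Lib.T2H4.Unimodular.isCompl_ker_range f g hfg,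
    ⟨(LinearEquiv.ofInjective f hinj).symm⟩⟩

end Groth.Agent.S19544
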