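import Groth.Statements.S19552
import Groth.Agent.Lib.T2H4Unimodular

set_option autoImplicit false
universe u
open CAlg

namespace Groth.Agent.S19552

/-- Let R be a Noetherian ring of Krull dimension d and P, Q finitely generated projective R-modules of
constant rank at every prime which have the same class in the Grothendieck group, i.e. are stably
isomorphic: P ⊕ R^m ≅ Q ⊕ R^m for some m. Then there is a positive integer N with P^N ≅ Q^N. (The
two exponents in the published display are read as the same integer N; for modules of positive rank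
an isomorphism between direct powers forces equal exponents.) -/
theorem result (R : Type u) [CommRing R] [IsNoetherianRing R]
    (d n : ℕ) (hdim : ringKrullDim R = d)
    (P Q : Type u) [AddCommGroup P] [Module R P] [Module.Finite R P] [Module.Projective R P]
    [AddCommGroup Q] [Module R Q] [Module.Finite R Q] [Module.Projective R Q]
    (hrk : ∀ p : PrimeSpectrum R, Module.rankAtStalk (R := R) P p = n)
    (hrk' : ∀ p : PrimeSpectrum R, Module.rankAtStalk (R := R) Q p = n)
    (m : ℕ) (e : (P × (Fin m → R)) ≃ₗ[R] (Q × (Fin m → R))) :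
    ∃ N : ℕ, 1 ≤ N ∧ Nonempty ((Fin N → P) ≃ₗ[R] (Fin N → Q)) := by
  
  rcases Nat.eq_zero_or_pos n with hn | hn
  · subst hn
    have hP : Subsingleton P := Module.rankAtStalk_eq_zero_iff_subsingleton.1 (funext hrk)
    have hQ : Subsingleton Q := Module.rankAtStalk_eq_zero_iff_subsingleton.1 (funext hrk')
    exact ⟨1, le_rfl, ⟨LinearEquiv.ofSubsingleton _ _⟩⟩
  · refine ⟨d + 1, by omega, ?_⟩
    obtain ⟨e'⟩ := Groth.Agent.Lib.T2H4.Unimodular.nonempty_pow_stable e (d + 1)
    have : Module.Projective R (Fin (d + 1) → P) :=
      Groth.Agent.Lib.T2H4.Unimodular.projective_pi_fin (d + 1)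
    refine Groth.Agent.Lib.T2H4.Unimodular.cancel (R := R) (le_of_eq hdim) m
      (Fin (d + 1) → P) (Fin (d + 1) → Q) (fun 𝔭 => ?_) e'
    rw [Module.rankAtStalk_pi (fun _ : Fin (d + 1) => P) 𝔭, finsum_eq_sum_of_fintype]
    simp only [hrk, Finset.sum_const, Finset.card_univ, Fintype.card_fin, smul_eq_mul]
    nlinarith

end Groth.Agent.S19552
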