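-- Statement S19595: ArLef.length_quot_fixIdeal_colon_powerSeries_eq_mul
import Groth.Statements.S19595
import Mathlib
import Groth.Agent.Lib.T2H7PSFix

set_option autoImplicit false
set_option linter.style.haveILetI false
universe u
open ArLef

namespace Groth.Agent.S19595

open Groth.Agent.Lib.T2H7.NodeAlg Groth.Agent.Lib.T2H7.PSFix in
/-- In the case of a smooth point lying on the divisorial part of the fixed locus with multiplicity i
strictly between 0 and j, let B be a discrete valuation ring with uniformizer π and residue field k,
B[[t]] the complete local ring of a semi-stable arithmetic surface over B at a point x where the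
closed fibre is smooth, and σ a ring automorphism of B[[t]] with σ(π) = π + γ π^j (γ a unit of B, j
≥ 1) and σ(b) - b ∈ π^j B[[t]] for all b ∈ B (σ lies over an automorphism τ of B with v(τ(π) - π) =
j). Suppose σ(t) - t = π^i f with 0 < i < j and π not dividing f, so that the fixed-point ideal I of
σ is (π^j, π^i f) and its divisorial part near x is the closed fibre with multiplicity i. Then the
residual fixed-point scheme, with ideal (I : π^i), has length (j - i) m at x, where m is the length
of k[[t]]/(f mod π) (the order at x of the derivation induced by σ on the closed fibre). -/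
theorem result (B : Type u) [CommRing B] [IsDomain B] [IsDiscreteValuationRing B] (π : B) (hπ : Irreducible π)
    (j i : ℕ) (hi : 0 < i) (hij : i < j) (γ : B) (hγ : IsUnit γ)
    (σ : PowerSeries B ≃+* PowerSeries B)
    (hσB : ∀ b : B, σ (algebraMap B (PowerSeries B) b) - algebraMap B (PowerSeries B) b ∈
      Ideal.span ({algebraMap B (PowerSeries B) (π ^ j)} : Set (PowerSeries B)))
    (hσπ : σ (algebraMap B (PowerSeries B) π) = algebraMap B (PowerSeries B) (π + γ * π ^ j))
    (f : PowerSeries B) (hf : σ PowerSeries.X - PowerSeries.X = algebraMap B (PowerSeries B) (π ^ i) * f)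
    (hfπ : ¬ (algebraMap B (PowerSeries B) π ∣ f)) :
    Module.length (PowerSeries B) (PowerSeries B ⧸ (ArLef.fixIdeal σ).colon ({algebraMap B (PowerSeries B) (π ^ i)} : Set (PowerSeries B))) =
      ((j - i : ℕ) : ℕ∞) * Module.length (PowerSeries (IsLocalRing.ResidueField B)) (PowerSeries (IsLocalRing.ResidueField B) ⧸
        Ideal.span ({PowerSeries.map (IsLocalRing.residue B) f} : Set (PowerSeries (IsLocalRing.ResidueField B)))) := by
  have hfix := fixIdeal_powerSeries_eq π j γ hγ σ hσB hσπ
  have hp : Prime (PowerSeries.C π : PowerSeries B) := prime_C π hπ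
  have hfπ' : ¬ (PowerSeries.C π : PowerSeries B) ∣ f := hfπ
  have hD0 : (PowerSeries.C π : PowerSeries B) ^ i ≠ 0 := pow_ne_zero _ hp.ne_zero
  have hf' : σ PowerSeries.X - PowerSeries.X = (PowerSeries.C π : PowerSeries B) ^ i * f := by
    rw [hf, map_pow]; rfl
  have hpow : (PowerSeries.C π : PowerSeries B) ^ j =
      (PowerSeries.C π : PowerSeries B) ^ i * (PowerSeries.C π : PowerSeries B) ^ (j - i) := by
    rw [← pow_add]; congr 1; omega
  have hcolon : (ArLef.fixIdeal σ).colon
      ({algebraMap B (PowerSeries B) (π ^ i)} : Set (PowerSeries B)) =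
      Ideal.span {(PowerSeries.C π : PowerSeries B) ^ (j - i), f} := by
    rw [hfix, hf', hpow, map_pow]
    exact colon_span_pair_mul hD0 _ _
  rw [hcolon, ← iN_C_eq π hπ]
  exact iN_pow_left _ _ (isSMulRegular_of_prime_not_dvd hp hfπ') (j - i)

end Groth.Agent.S19595
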