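-- Statement S19596: ArLef.NodeAlg.length_quot_fixIdeal_colon_of_stabilizes_of_dvd
import Groth.Statements.S19596
import Mathlib
import Groth.Agent.Lib.T2H7NodeAlg4

set_option autoImplicit false
set_option linter.style.haveILetI false
universe u
open ArLef ArLef.NodeAlg

namespace Groth.Agent.S19596

open Groth.Agent.Lib.T2H7.NodeAlg in
/-- In the cases where σ fixes the two branches through the point, these lie on different components,
and the second branch lies in the divisorial part of the fixed locus with multiplicity i₂ strictly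
between 0 and j while the first has multiplicity i₁ ≤ i₂, let B be a discrete valuation ring with
uniformizer π, N = B[[t, e]]/(te - π) the complete local ring of a semi-stable arithmetic surface
over B at a singular point x of the closed fibre, and σ a ring automorphism of N with σ(π) = π + γ
π^j (γ a unit of B, j ≥ 1) and σ(c) - c ∈ π^j N for all c ∈ B. Suppose σ(t) = α t and σ(e) = β e
with units α, β, and α - 1 = t^{i₁} e^{i₂} a, β - 1 = t^{i₁} e^{i₂} b with i₁ ≤ i₂, 0 < i₂ < j, e
not dividing a and t not dividing b. Then, I being the fixed-point ideal of σ, whose divisorial part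
near x is t^{i₁} e^{i₂}, the residual fixed-point scheme with ideal (I : t^{i₁} e^{i₂}) has length 1
+ (j - i₁)·Leng N/(t, b) + (j - i₂)·Leng N/(e, a) at x; here Leng N/(t, b) + i₂ + 1 and Leng N/(e,
a) + i₁ + 1 are the orders at x of the derivations σ induces on the two components (the fixed-point
multiplicities when the component is outside the divisorial part). -/
theorem result (B : Type u) [CommRing B] [IsDomain B] [IsDiscreteValuationRing B] (π : B) (hπ : Irreducible π)
    (j i₁ i₂ : ℕ) (h12 : i₁ ≤ i₂) (h2 : 0 < i₂) (h2j : i₂ < j) (γ : B) (hγ : IsUnit γ)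
    (σ : ArLef.NodeAlg B π ≃+* ArLef.NodeAlg B π)
    (hσB : ∀ c : B, σ (algebraMap B (ArLef.NodeAlg B π) c) - algebraMap B (ArLef.NodeAlg B π) c ∈
      Ideal.span ({algebraMap B (ArLef.NodeAlg B π) (π ^ j)} : Set (ArLef.NodeAlg B π)))
    (hσπ : σ (algebraMap B (ArLef.NodeAlg B π) π) = algebraMap B (ArLef.NodeAlg B π) (π + γ * π ^ j))
    (α β : (ArLef.NodeAlg B π)ˣ) (ht : σ (ArLef.NodeAlg.t π) = (α : ArLef.NodeAlg B π) * ArLef.NodeAlg.t π) (he : σ (ArLef.NodeAlg.e π) = (β : ArLef.NodeAlg B π) * ArLef.NodeAlg.e π)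
    (a b : ArLef.NodeAlg B π) (ha : (α : ArLef.NodeAlg B π) - 1 = ArLef.NodeAlg.t π ^ i₁ * ArLef.NodeAlg.e π ^ i₂ * a) (hb : (β : ArLef.NodeAlg B π) - 1 = ArLef.NodeAlg.t π ^ i₁ * ArLef.NodeAlg.e π ^ i₂ * b)
    (hea : ¬ (ArLef.NodeAlg.e π ∣ a)) (htb : ¬ (ArLef.NodeAlg.t π ∣ b)) :
    Module.length (ArLef.NodeAlg B π) (ArLef.NodeAlg B π ⧸ (ArLef.fixIdeal σ).colon ({ArLef.NodeAlg.t π ^ i₁ * ArLef.NodeAlg.e π ^ i₂} : Set (ArLef.NodeAlg B π))) =
      1 + ((j - i₁ : ℕ) : ℕ∞) * Module.length (ArLef.NodeAlg B π) (ArLef.NodeAlg B π ⧸ Ideal.span ({ArLef.NodeAlg.t π, b} : Set (ArLef.NodeAlg B π))) +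
        ((j - i₂ : ℕ) : ℕ∞) * Module.length (ArLef.NodeAlg B π) (ArLef.NodeAlg B π ⧸ Ideal.span ({ArLef.NodeAlg.e π, a} : Set (ArLef.NodeAlg B π))) := by
  haveI := isDomain_nodeAlg π hπ
  haveI := isNoetherianRing_nodeAlg π hπ
  have hpt : Prime (ArLef.NodeAlg.t π) := var_prime π hπ 0
  have hpe : Prime (ArLef.NodeAlg.e π) := var_prime π hπ 1
  have hte : ArLef.NodeAlg.t π * ArLef.NodeAlg.e π = algebraMap B (ArLef.NodeAlg B π) π :=
    Groth.Agent.Lib.Helper22.nodeAlg_t_mul_e π
  have hnet := not_e_dvd_t π hπ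
  have hnte := not_t_dvd_e π hπ
  have h11 := iN_t_e π hπ
  obtain ⟨j', rfl⟩ : ∃ j', j = j' + 1 := ⟨j - 1, by omega⟩
  obtain ⟨hrel, hfix⟩ := stab_fix π hπ j' γ hγ σ hσB hσπ α β ht he
  set t := ArLef.NodeAlg.t π with ht_def
  set e := ArLef.NodeAlg.e π with he_def
  set P := algebraMap B (ArLef.NodeAlg B π) π with hP
  set G := algebraMap B (ArLef.NodeAlg B π) γ with hG
  have hGu : IsUnit G := hγ.map _
  set D := t ^ i₁ * e ^ i₂ with hD
  have hD0 : D ≠ 0 := mul_ne_zero (pow_ne_zero _ hpt.ne_zero) (pow_ne_zero _ hpe.ne_zero)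
  set m1 := j' - i₁ with hm1
  set m2 := j' - i₂ with hm2
  set M := t ^ m1 * e ^ m2 with hM
  have hPM : P ^ j' = D * M := by
    rw [← hte, mul_pow, hD, hM]
    have h1 : t ^ j' = t ^ i₁ * t ^ m1 := by rw [← pow_add]; congr 1; omega
    have h2 : e ^ j' = e ^ i₂ * e ^ m2 := by rw [← pow_add]; congr 1; omega
    rw [h1, h2]; ring
  have hα : (α : ArLef.NodeAlg B π) = 1 + D * a := by rw [← ha]; ring
  have habG : a + b * α = G * M := by
    apply mul_left_cancel₀ hD0
    rw [ha, hb, hPM] at hrel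
    rw [hα]
    linear_combination hrel
  have hcolon : (ArLef.fixIdeal σ).colon ({D} : Set (ArLef.NodeAlg B π)) =
      Ideal.span {a * t, b * e} := by
    rw [hfix, ha, hb]
    have h1 : D * a * t = D * (a * t) := by ring
    have h2 : D * b * e = D * (b * e) := by ring
    rw [h1, h2]
    exact colon_span_pair_mul hD0 _ _
  rw [hcolon]
  have hc1 : (j' + 1 - i₁ : ℕ) = m1 + 1 := by omega
  have hc2 : (j' + 1 - i₂ : ℕ) = m2 + 1 := by omega
  rw [hc1, hc2]
  change iN (a * t) (b * e) = 1 + ((m1 + 1 : ℕ) : ℕ∞) * iN t b + ((m2 + 1 : ℕ) : ℕ∞) * iN e a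
  have hntbe : ¬ t ∣ b * e := by
    intro h
    rcases hpt.dvd_or_dvd h with h | h
    · exact htb h
    · exact hnte h
  have hreg_t_be := isSMulRegular_of_prime_not_dvd hpt hntbe
  have hreg_e_t := isSMulRegular_of_prime_not_dvd hpe hnet
  have hreg_e_a := isSMulRegular_of_prime_not_dvd hpe hea
  have e1 : iN (a * t) (b * e) = iN t (b * e) + iN a (b * e) := by
    rw [mul_comm a t]; exact iN_mul_left t a (b * e) hreg_t_be
  have e2 : iN t (b * e) = 1 + iN t b := by
    rw [iN_comm, mul_comm b e, iN_mul_left e b t hreg_e_t, iN_comm e t, h11, iN_comm b t]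
  have e3 : iN a (b * e) = iN e a + iN b a := by
    rw [iN_comm, mul_comm b e, iN_mul_left e b a hreg_e_a]
  have e4 : iN b a = iN M a := by
    have h1 : iN (G * M) a = iN b a := by
      apply iN_congr_left
      rw [Ideal.mem_span_singleton]
      exact ⟨1 + b * D, by rw [← habG, hα]; ring⟩
    rw [← h1]
    obtain ⟨G', hG'⟩ := hGu
    rw [← hG']
    exact iN_unit_mul_left G' _ _
  have e5 : iN M a = (m2 : ℕ∞) * iN e a + iN (t ^ m1) a := by
    rw [hM, mul_comm (t ^ m1) (e ^ m2), iN_mul_left (e ^ m2) (t ^ m1) a (hreg_e_a.pow m2),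
      iN_pow_left e a hreg_e_a]
  have e6 : iN (t ^ m1) a = (m1 : ℕ∞) * iN t b := by
    rcases Nat.eq_zero_or_pos m1 with h0 | hpos
    · rw [h0, pow_zero, iN_isUnit_left isUnit_one]; simp
    · have htM : t ∣ G * M := by
        have : t ∣ M := Dvd.dvd.mul_right (dvd_pow_self t (by omega)) _
        exact Dvd.dvd.mul_left this G
      have hbα : b * α = G * M - a := by rw [← habG]; ring
      have hnta : ¬ t ∣ a := by
        intro h
        apply htb
        have h1 : t ∣ b * α := by rw [hbα]; exact dvd_sub htM h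
        have : b = b * α * ((α⁻¹ : (ArLef.NodeAlg B π)ˣ) : ArLef.NodeAlg B π) := by
          rw [mul_assoc, Units.mul_inv, mul_one]
        rw [this]
        exact Dvd.dvd.mul_right h1 _
      have hreg_t_a := isSMulRegular_of_prime_not_dvd hpt hnta
      rw [iN_pow_left t a hreg_t_a]
      congr 1
      rw [iN_comm t a, iN_comm t b]
      have h1 : iN a t = iN ((((-α : (ArLef.NodeAlg B π)ˣ)) : ArLef.NodeAlg B π) * b) t := by
        apply iN_congr_left
        rw [Ideal.mem_span_singleton]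
        have : a - (((-α : (ArLef.NodeAlg B π)ˣ)) : ArLef.NodeAlg B π) * b = G * M := by
          rw [Units.val_neg, ← habG]; ring
        rw [this]; exact htM
      rw [h1]
      exact iN_unit_mul_left _ _ _
  rw [e1, e2, e3, e4, e5, e6]
  push_cast
  ring

end Groth.Agent.S19596
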