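-- Statement S19597: ArLef.NodeAlg.length_quot_fixIdeal_colon_of_stabilizes_of_pow_dvd
import Groth.Statements.S19597
import Mathlib
import Groth.Agent.Lib.T2H7NodeAlg4

set_option autoImplicit false
set_option linter.style.haveILetI false
universe u
open ArLef ArLef.NodeAlg

namespace Groth.Agent.S19597

open Groth.Agent.Lib.T2H7.NodeAlg in
/-- In the cases where σ fixes the two branches through the point, these lie on different components,
the second lies in the divisorial part of the fixed locus with the maximal multiplicity j and the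
first with multiplicity i₁ < j, let B be a discrete valuation ring with uniformizer π, N = B[[t,
e]]/(te - π) the complete local ring of a semi-stable arithmetic surface over B at a singular point
x of the closed fibre, and σ a ring automorphism of N with σ(π) = π + γ π^j (γ a unit of B, j ≥ 1)
and σ(c) - c ∈ π^j N for all c ∈ B. Suppose σ(t) = α t and σ(e) = β e with units α, β, that α - 1 =
t^{i₁} e^j a and β - 1 = t^{i₁} e^{j-1} b with i₁ < j and t not dividing b. Then, I being the
fixed-point ideal of σ, whose divisorial part near x is t^{i₁} e^j, the length l of the residual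
fixed-point scheme with ideal (I : t^{i₁} e^j) satisfies l + (j - 1 - i₁) = (j - i₁)·Leng N/(t, b);
for i₁ = 0, Leng N/(t, b) + j is the fixed-point multiplicity s₁ of σ at x on the first component
and l = j (s₁ - j - 1) + 1. -/
theorem result (B : Type u) [CommRing B] [IsDomain B] [IsDiscreteValuationRing B] (π : B) (hπ : Irreducible π)
    (j i₁ : ℕ) (h1 : i₁ < j) (γ : B) (hγ : IsUnit γ)
    (σ : ArLef.NodeAlg B π ≃+* ArLef.NodeAlg B π)
    (hσB : ∀ c : B, σ (algebraMap B (ArLef.NodeAlg B π) c) - algebraMap B (ArLef.NodeAlg B π) c ∈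
      Ideal.span ({algebraMap B (ArLef.NodeAlg B π) (π ^ j)} : Set (ArLef.NodeAlg B π)))
    (hσπ : σ (algebraMap B (ArLef.NodeAlg B π) π) = algebraMap B (ArLef.NodeAlg B π) (π + γ * π ^ j))
    (α β : (ArLef.NodeAlg B π)ˣ) (ht : σ (ArLef.NodeAlg.t π) = (α : ArLef.NodeAlg B π) * ArLef.NodeAlg.t π) (he : σ (ArLef.NodeAlg.e π) = (β : ArLef.NodeAlg B π) * ArLef.NodeAlg.e π)
    (a b : ArLef.NodeAlg B π) (ha : (α : ArLef.NodeAlg B π) - 1 = ArLef.NodeAlg.t π ^ i₁ * ArLef.NodeAlg.e π ^ j * a) (hb : (β : ArLef.NodeAlg B π) - 1 = ArLef.NodeAlg.t π ^ i₁ * ArLef.NodeAlg.e π ^ (j - 1) * b)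
    (htb : ¬ (ArLef.NodeAlg.t π ∣ b)) :
    Module.length (ArLef.NodeAlg B π) (ArLef.NodeAlg B π ⧸ (ArLef.fixIdeal σ).colon ({ArLef.NodeAlg.t π ^ i₁ * ArLef.NodeAlg.e π ^ j} : Set (ArLef.NodeAlg B π))) + ((j - 1 - i₁ : ℕ) : ℕ∞) =
      ((j - i₁ : ℕ) : ℕ∞) * Module.length (ArLef.NodeAlg B π) (ArLef.NodeAlg B π ⧸ Ideal.span ({ArLef.NodeAlg.t π, b} : Set (ArLef.NodeAlg B π))) := by
  haveI := isDomain_nodeAlg π hπ
  haveI := isNoetherianRing_nodeAlg π hπ
  have hpt : Prime (ArLef.NodeAlg.t π) := var_prime π hπ 0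
  have hpe : Prime (ArLef.NodeAlg.e π) := var_prime π hπ 1
  have hte : ArLef.NodeAlg.t π * ArLef.NodeAlg.e π = algebraMap B (ArLef.NodeAlg B π) π :=
    Groth.Agent.Lib.Helper22.nodeAlg_t_mul_e π
  have hnet := not_e_dvd_t π hπ
  have hnte := not_t_dvd_e π hπ
  have h11 := iN_t_e π hπ
  obtain ⟨j', rfl⟩ : ∃ j', j = j' + 1 := ⟨j - 1, by omega⟩
  obtain ⟨hrel, hfix⟩ := stab_fix π hπ j' γ hγ σ hσB hσπ α β ht he
  rw [Nat.add_sub_cancel] at hb
  set t := ArLef.NodeAlg.t π with ht_def
  set e := ArLef.NodeAlg.e π with he_def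
  set P := algebraMap B (ArLef.NodeAlg B π) π with hP
  set G := algebraMap B (ArLef.NodeAlg B π) γ with hG
  have hGu : IsUnit G := hγ.map _
  set D := t ^ i₁ * e ^ (j' + 1) with hD
  set D' := t ^ i₁ * e ^ j' with hD'
  have hDD' : D = D' * e := by rw [hD, hD', pow_succ]; ring
  have hD0 : D ≠ 0 := mul_ne_zero (pow_ne_zero _ hpt.ne_zero) (pow_ne_zero _ hpe.ne_zero)
  have hD'0 : D' ≠ 0 := mul_ne_zero (pow_ne_zero _ hpt.ne_zero) (pow_ne_zero _ hpe.ne_zero)
  set m := j' - i₁ with hm
  have hPM : P ^ j' = D' * t ^ m := by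
    rw [← hte, mul_pow, hD']
    have h1 : t ^ j' = t ^ i₁ * t ^ m := by rw [← pow_add]; congr 1; omega
    rw [h1]; ring
  have hα : (α : ArLef.NodeAlg B π) = 1 + D * a := by rw [← ha]; ring
  have habG : e * a + b * α = G * t ^ m := by
    apply mul_left_cancel₀ hD'0
    rw [ha, hb, hPM] at hrel
    rw [hα]
    rw [hDD'] at hrel ⊢
    linear_combination hrel
  have hcolon : (ArLef.fixIdeal σ).colon ({D} : Set (ArLef.NodeAlg B π)) =
      Ideal.span {t * a, b} := by
    rw [hfix, ha, hb]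
    have h1 : D * a * t = D * (t * a) := by ring
    have h2 : D' * b * e = D * b := by rw [hDD']; ring
    rw [h1, h2]
    exact colon_span_pair_mul hD0 _ _
  rw [hcolon]
  have hc1 : (j' + 1 - 1 - i₁ : ℕ) = m := by omega
  have hc2 : (j' + 1 - i₁ : ℕ) = m + 1 := by omega
  rw [hc1, hc2]
  change iN (t * a) b + (m : ℕ∞) = ((m + 1 : ℕ) : ℕ∞) * iN t b
  have hreg_t_b := isSMulRegular_of_prime_not_dvd hpt htb
  have hreg_e_t := isSMulRegular_of_prime_not_dvd hpe hnet
  have e1 : iN (t * a) b = iN t b + iN a b := iN_mul_left t a b hreg_t_b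
  have e2 : iN a b = iN (t ^ m) a := by
    rw [iN_comm a b, ← iN_unit_mul_left α b a]
    have h1 : iN ((α : ArLef.NodeAlg B π) * b) a = iN (G * t ^ m) a := by
      apply iN_congr_left
      rw [Ideal.mem_span_singleton]
      exact ⟨-e, by rw [← habG]; ring⟩
    rw [h1]
    obtain ⟨G', hG'⟩ := hGu
    rw [← hG']
    exact iN_unit_mul_left G' _ _
  rcases Nat.eq_zero_or_pos m with h0 | hpos
  · rw [e1, e2, h0, pow_zero, iN_isUnit_left isUnit_one]; simp
  · have htM : t ∣ G * t ^ m := Dvd.dvd.mul_left (dvd_pow_self t (by omega)) G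
    have hbα : b * α = G * t ^ m - e * a := by rw [← habG]; ring
    have hnta : ¬ t ∣ a := by
      intro h
      apply htb
      have h1 : t ∣ b * α := by rw [hbα]; exact dvd_sub htM (Dvd.dvd.mul_left h e)
      have : b = b * α * ((α⁻¹ : (ArLef.NodeAlg B π)ˣ) : ArLef.NodeAlg B π) := by
        rw [mul_assoc, Units.mul_inv, mul_one]
      rw [this]
      exact Dvd.dvd.mul_right h1 _
    have hreg_t_a := isSMulRegular_of_prime_not_dvd hpt hnta
    have e3 : iN (t ^ m) a = (m : ℕ∞) * iN t a := iN_pow_left t a hreg_t_a m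
    have e4 : iN t b = 1 + iN t a := by
      rw [iN_comm t b, ← iN_unit_mul_left α b t]
      have h1 : iN ((α : ArLef.NodeAlg B π) * b) t =
          iN ((((-1 : (ArLef.NodeAlg B π)ˣ)) : ArLef.NodeAlg B π) * (e * a)) t := by
        apply iN_congr_left
        rw [Ideal.mem_span_singleton]
        have : (α : ArLef.NodeAlg B π) * b -
            (((-1 : (ArLef.NodeAlg B π)ˣ)) : ArLef.NodeAlg B π) * (e * a) = G * t ^ m := by
          rw [Units.val_neg, Units.val_one, ← habG]; ring
        rw [this]; exact htM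
      rw [h1, iN_unit_mul_left, iN_mul_left e a t hreg_e_t, iN_comm e t, h11, iN_comm a t]
    rw [e1, e2, e3, e4]
    push_cast
    ring

end Groth.Agent.S19597
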