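import Groth.Statements.S19599
import Groth.Agent.Lib.T2H7WeilDescC

set_option autoImplicit false
open CategoryTheory MonoidalCategory CartesianMonoidalCategory MonObj GrpObj AlgebraicGeometry
universe u
open SGA3x

namespace Groth.Agent.S19599

/-- Let G be an affine group scheme of finite presentation over a scheme S and H ⊆ G a closed subgroup
scheme of finite presentation over S which is of multiplicative type (of finite type). Then the
centralizer of H in G (points of G commuting with every point of H after any base change) is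
representable by a closed subscheme of G. Here G is not assumed smooth, and smoothness of the
centralizer is not asserted. -/
theorem result {S : Scheme.{u}} (G H : Over S) [GrpObj G] [GrpObj H]
    (hGa : IsAffineHom G.hom) (hGfp : LocallyOfFinitePresentation G.hom)
    (i : H ⟶ G) [IsMonHom i] (hi : IsClosedImmersion i.left) (hHfp : LocallyOfFinitePresentation H.hom)
    (hH : SGA3x.IsMultTypeFT H) :
    ∃ (C : Over S) (c : C ⟶ G), IsClosedImmersion c.left ∧
      ∀ (X : Over S) (g : X ⟶ G), (∃ z : X ⟶ C, z ≫ c = g) ↔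
        ∀ (X' : Over S) (x : X' ⟶ X) (a : X' ⟶ H), (x ≫ g) * (a ≫ i) = (a ≫ i) * (x ≫ g) := by
  have hH' : TwC.Locally S TwC.Topology.fpqc (fun S' f => ∃ (M : Type) (_ : AddCommGroup M),
      Nonempty (Grp.mk (Red.bc f H) ≅ Grp.mk (Red.DS S' M))) := by
    obtain ⟨S', f, hfl, hs, hcov, hloc⟩ := hH
    refine ⟨S', f, hfl, hs, hcov, fun s' => ?_⟩
    obtain ⟨U, hU, M, inst, -, e⟩ := hloc s'
    exact ⟨U, hU, M, inst, e⟩
  have : IsAffineHom G.hom := hGa
  obtain ⟨C, c, hc, hC⟩ := Groth.Agent.Lib.T2H7.WeilDescC.exists_closed_eq_left_multType H G G hH'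
    (lift (snd H G * (fst H G ≫ i)) (toUnit _) ≫ fst G (𝟙_ (Over S)))
    (lift ((fst H G ≫ i) * snd H G) (toUnit _) ≫ fst G (𝟙_ (Over S)))
  refine ⟨C, c, hc, fun X g => ?_⟩
  rw [hC X g]
  have e1 : ∀ (X' : Over S) (a : X' ⟶ H) (x : X' ⟶ X),
      lift a x ≫ (H ◁ g) ≫ (lift (snd H G * (fst H G ≫ i)) (toUnit _) ≫ fst G (𝟙_ (Over S))) =
        (x ≫ g) * (a ≫ i) := by
    intro X' a x
    simp [MonObj.comp_mul]
  have e2 : ∀ (X' : Over S) (a : X' ⟶ H) (x : X' ⟶ X),
      lift a x ≫ (H ◁ g) ≫ (lift ((fst H G ≫ i) * snd H G) (toUnit _) ≫ fst G (𝟙_ (Over S))) =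
        (a ≫ i) * (x ≫ g) := by
    intro X' a x
    simp [MonObj.comp_mul]
  constructor
  · intro h X' x a
    rw [← e1, ← e2, h]
  · intro h
    have h1 := h (H ⊗ X) (snd H X) (fst H X)
    rw [← e1, ← e2] at h1
    simpa using h1

end Groth.Agent.S19599
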