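import Groth.Statements.S19616
import Groth.Agent.Lib.T2H4Dilatation

set_option autoImplicit false
universe u
open CartMod

namespace Groth.Agent.S19616

/-- Let p be a prime, A a commutative ring which is complete and separated for the p-adic topology and
has no p-torsion, and a_1, …, a_n elements of A (so that (p, a_1, …, a_n) is an open ideal
containing p). Then there is a commutative A-algebra D, complete and separated for the p-adic
topology and without p-torsion, in which each a_i is divisible by p, with the following universal
property: for every A-algebra B which is p-adically complete and separated, has no p-torsion, and in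
which each a_i is divisible by p, there is exactly one A-algebra homomorphism D → B; moreover this
homomorphism is surjective whenever A → B is. (D is the coordinate ring of the dilatation of Spf A
with respect to p along the closed subscheme defined by (p, a_1, …, a_n). The published statement is
for flat p-adic formal schemes locally of finite type over the Witt vectors of a perfect field; this
row is its affine, ring-level case without a finiteness hypothesis.) -/
theorem result (p : ℕ) [Fact p.Prime]
    (A : Type u) [CommRing A] [IsAdicComplete (Ideal.span {(p : A)}) A]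
    (hA : IsSMulRegular A (p : A)) {n : ℕ} (a : Fin n → A) :
    ∃ (D : Type u) (_ : CommRing D) (_ : Algebra A D),
      IsAdicComplete (Ideal.span {(p : D)}) D ∧ IsSMulRegular D (p : D) ∧
      (∀ i, algebraMap A D (a i) ∈ Ideal.span {(p : D)}) ∧
      ∀ (B : Type u) [CommRing B] [Algebra A B] [IsAdicComplete (Ideal.span {(p : B)}) B],
        IsSMulRegular B (p : B) → (∀ i, algebraMap A B (a i) ∈ Ideal.span {(p : B)}) →
          Nonempty (D →ₐ[A] B) ∧ Subsingleton (D →ₐ[A] B) ∧
            (Function.Surjective (algebraMap A B) → ∀ f : D →ₐ[A] B, Function.Surjective f) := by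
  
  refine ⟨Groth.Agent.Lib.T2H4.Dilatation.D p A a, inferInstance, inferInstance,
    Groth.Agent.Lib.T2H4.Dilatation.D_complete p A a,
    Groth.Agent.Lib.T2H4.Dilatation.D_regular p A a,
    Groth.Agent.Lib.T2H4.Dilatation.D_div p A a, ?_⟩
  intro B _ _ _ hB hdiv
  choose b hb using fun i => Ideal.mem_span_singleton'.1 (hdiv i)
  have hb' : ∀ i, algebraMap A B (a i) = (p : B) * b i := fun i => by rw [← hb i, mul_comm]
  refine ⟨⟨Groth.Agent.Lib.T2H4.Dilatation.lift p A a B hB b hb'⟩,
    ⟨fun φ ψ => Groth.Agent.Lib.T2H4.Dilatation.unique p A a B hB φ ψ⟩, fun hs f y => ?_⟩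
  obtain ⟨x, rfl⟩ := hs y
  exact ⟨algebraMap A _ x, f.commutes x⟩

end Groth.Agent.S19616
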