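import Groth.Statements.S19633
import Groth.Agent.S19632
import Groth.Agent.Lib.Helper22DeRham

set_option autoImplicit false
universe u
open DeRham

namespace Groth.Agent.S19633

open Groth.Agent.S19632 LaurentPolynomial

section aux
variable (k : Type u) [Field k]

/-- `D (T n)` is a multiple of `D (T 1)`. -/
theorem D_T_mem (n : ℤ) :
    KaehlerDifferential.D k (LaurentPolynomial k) (T n) ∈
      Submodule.span (LaurentPolynomial k) {KaehlerDifferential.D k (LaurentPolynomial k) (T 1)} := by
  have hnat : ∀ m : ℕ, KaehlerDifferential.D k (LaurentPolynomial k) (T (m : ℤ)) ∈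
      Submodule.span (LaurentPolynomial k)
        {KaehlerDifferential.D k (LaurentPolynomial k) (T 1)} := by
    intro m
    have : (T (m : ℤ) : LaurentPolynomial k) = (T 1) ^ m := by
      rw [T_pow]; simp
    rw [this, Derivation.leibniz_pow]
    apply Submodule.smul_of_tower_mem
    exact Submodule.smul_mem _ _ (Submodule.mem_span_singleton_self _)
  rcases Int.eq_nat_or_neg n with ⟨m, rfl | rfl⟩
  · exact hnat m
  · have h1 : (T (-(m : ℤ)) : LaurentPolynomial k) * T (m : ℤ) = 1 := by
      rw [← T_add]; simp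
    rw [Derivation.leibniz_of_mul_eq_one _ h1]
    exact Submodule.smul_mem _ _ (hnat m)

theorem D_mem (f : LaurentPolynomial k) :
    KaehlerDifferential.D k (LaurentPolynomial k) f ∈
      Submodule.span (LaurentPolynomial k) {KaehlerDifferential.D k (LaurentPolynomial k) (T 1)} := by
  induction f using LaurentPolynomial.induction_on' with
  | add p q hp hq => rw [map_add]; exact Submodule.add_mem _ hp hq
  | C_mul_T n a =>
    rw [← LaurentPolynomial.smul_eq_C_mul, Derivation.map_smul]
    exact Submodule.smul_of_tower_mem _ _ (D_T_mem k n)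

theorem span_D_T : Submodule.span (LaurentPolynomial k)
    {KaehlerDifferential.D k (LaurentPolynomial k) (T 1)} = ⊤ := by
  rw [eq_top_iff, ← KaehlerDifferential.span_range_derivation k (LaurentPolynomial k),
    Submodule.span_le]
  rintro _ ⟨f, rfl⟩
  exact D_mem k f

open exteriorPower in
theorem subsingleton_extPow (n : ℕ) :
    Subsingleton ↥(⋀[LaurentPolynomial k]^(n + 2) (Ω[LaurentPolynomial k⁄k])) := by
  have h := exteriorPower.ιMulti_span_of_span (R := LaurentPolynomial k) (n := n + 2)
    (M := Ω[LaurentPolynomial k⁄k]) (span_D_T k)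
  have h0 : Submodule.span (LaurentPolynomial k)
      (exteriorPower.ιMulti (LaurentPolynomial k) (n + 2) ''
        {a : Fin (n + 2) → Ω[LaurentPolynomial k⁄k] |
          Set.range a ⊆ {KaehlerDifferential.D k (LaurentPolynomial k) (T 1)}}) = ⊥ := by
    rw [Submodule.span_eq_bot]
    rintro _ ⟨a, ha, rfl⟩
    have e0 : a 0 = KaehlerDifferential.D k (LaurentPolynomial k) (T 1) := ha ⟨0, rfl⟩
    have e1 : a 1 = KaehlerDifferential.D k (LaurentPolynomial k) (T 1) := ha ⟨1, rfl⟩
    exact (exteriorPower.ιMulti (LaurentPolynomial k) (n + 2)).map_eq_zero_of_eq a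
      (e0.trans e1.symm) (by simp)
  rw [h0] at h
  refine ⟨fun x y => ?_⟩
  have hx : x ∈ (⊤ : Submodule (LaurentPolynomial k) _) := Submodule.mem_top
  have hy : y ∈ (⊤ : Submodule (LaurentPolynomial k) _) := Submodule.mem_top
  rw [← h, Submodule.mem_bot] at hx hy
  rw [hx, hy]

/-- the linear form `Ω → L`, `df ↦ t f'`. -/
noncomputable def phi : Ω[LaurentPolynomial k⁄k] →ₗ[LaurentPolynomial k] LaurentPolynomial k :=
  (eulerDer k).liftKaehlerDifferential

theorem phi_D (f : LaurentPolynomial k) :
    phi k (KaehlerDifferential.D k (LaurentPolynomial k) f) = euler k f :=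
  Derivation.liftKaehlerDifferential_comp_D _ _

theorem euler_T_one : euler k (T 1 : LaurentPolynomial k) = T 1 := by
  show euler k (AddMonoidAlgebra.single (1 : ℤ) (1 : k)) = AddMonoidAlgebra.single (1 : ℤ) (1 : k)
  rw [euler_single]
  simp

theorem phi_injective : Function.Injective (phi k) := by
  rw [injective_iff_map_eq_zero]
  intro x hx
  have hxs : x ∈ Submodule.span (LaurentPolynomial k)
      {KaehlerDifferential.D k (LaurentPolynomial k) (T 1)} := by
    rw [span_D_T]; exact Submodule.mem_top
  obtain ⟨g, rfl⟩ := Submodule.mem_span_singleton.1 hxs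
  rw [map_smul, phi_D, euler_T_one, smul_eq_mul] at hx
  have hg : g = 0 := by
    have := congrArg (fun z => z * T (-1)) hx
    simp only [zero_mul, mul_assoc, ← T_add] at this
    simpa using this
  rw [hg, zero_smul]

/-- inverse of the Euler operator away from degree zero. -/
noncomputable def invEuler : LaurentPolynomial k →ₗ[k] LaurentPolynomial k :=
  (AddMonoidAlgebra.coeffLinearEquiv k).symm.toLinearMap ∘ₗ
    (Finsupp.lsum k (fun n : ℤ => ((n : k)⁻¹) • Finsupp.lsingle (R := k) (M := k) n)) ∘ₗ
    (AddMonoidAlgebra.coeffLinearEquiv k).toLinearMap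

theorem invEuler_single (n : ℤ) (r : k) :
    invEuler k (AddMonoidAlgebra.single n r) = AddMonoidAlgebra.single n ((n : k)⁻¹ * r) := by
  apply AddMonoidAlgebra.coeff_injective
  show (Finsupp.lsum k (fun n : ℤ => ((n : k)⁻¹) • Finsupp.lsingle (R := k) (M := k) n))
    (Finsupp.single n r) = Finsupp.single n ((n : k)⁻¹ * r)
  rw [Finsupp.lsum_single, LinearMap.smul_apply, Finsupp.lsingle_apply, Finsupp.smul_single,
    smul_eq_mul]

theorem invEuler_coeff (f : LaurentPolynomial k) (n : ℤ) :
    (invEuler k f).coeff n = (n : k)⁻¹ * f.coeff n := by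
  induction f using AddMonoidAlgebra.induction_linear with
  | zero => simp
  | add f g hf hg => rw [map_add, AddMonoidAlgebra.coeff_add, Finsupp.add_apply, hf, hg,
      AddMonoidAlgebra.coeff_add, Finsupp.add_apply, mul_add]
  | single m r =>
    rw [invEuler_single, AddMonoidAlgebra.coeff_single, AddMonoidAlgebra.coeff_single]
    by_cases h : m = n
    · subst h; simp
    · simp [Finsupp.single_eq_of_ne, Ne.symm h]

theorem euler_invEuler [CharZero k] (g : LaurentPolynomial k) :
    euler k (invEuler k g) + C (g.coeff 0) = g := by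
  apply AddMonoidAlgebra.coeff_injective
  ext n
  rw [AddMonoidAlgebra.coeff_add, Finsupp.add_apply, euler_coeff, invEuler_coeff]
  have hC : (C (g.coeff 0) : LaurentPolynomial k).coeff n = if n = 0 then g.coeff 0 else 0 :=
    LaurentPolynomial.C_apply _ _
  rw [hC]
  split_ifs with h0
  · subst h0; simp
  · have : (n : k) ≠ 0 := by exact_mod_cast h0
    rw [← mul_assoc, mul_inv_cancel₀ this, one_mul, add_zero]

end aux

open exteriorPower in
/-- Let k be a field of characteristic zero, G_m = Spec k[t, t⁻¹], and d the de Rham differential of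
k[t, t⁻¹] over k. Then: every 1-form is closed; the exact 1-forms and the k-line spanned by t⁻¹ dt
are complementary subspaces of the 1-forms, and t⁻¹ dt is not exact — so H^1_dR(G_m/k) is
one-dimensional, generated by the class of dt/t (the isomorphism with k being the residue); and for
every i ≥ 2 the closed i-forms are exact, so H^i_dR(G_m/k) = 0 for i > 1. (Characteristic zero is
used in the computation of the exact forms.) -/
theorem result (k : Type u) [Field k] [CharZero k]
    (d : ∀ p : ℕ, ↥(⋀[LaurentPolynomial k]^p (Ω[LaurentPolynomial k⁄k])) →ₗ[k] ↥(⋀[LaurentPolynomial k]^(p + 1) (Ω[LaurentPolynomial k⁄k])))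
    (hd : DeRham.IsDiff (KaehlerDifferential.D k (LaurentPolynomial k)) d) :
    DeRham.cocycles d 1 = ⊤ ∧
    IsCompl (DeRham.coboundaries d 1)
      (Submodule.span k {DeRham.gen (KaehlerDifferential.D k (LaurentPolynomial k)) 1
        (LaurentPolynomial.T (-1)) (fun _ => LaurentPolynomial.T 1)}) ∧
    DeRham.gen (KaehlerDifferential.D k (LaurentPolynomial k)) 1
        (LaurentPolynomial.T (-1)) (fun _ => LaurentPolynomial.T 1) ∉ DeRham.coboundaries d 1 ∧
    ∀ i : ℕ, DeRham.cocycles d (i + 2) ≤ DeRham.coboundaries d (i + 2) := by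
  set η := DeRham.gen (KaehlerDifferential.D k (LaurentPolynomial k)) 1
        (LaurentPolynomial.T (-1)) (fun _ => LaurentPolynomial.T 1) with hη
  let Φ : ↥(⋀[LaurentPolynomial k]^1 (Ω[LaurentPolynomial k⁄k])) →ₗ[LaurentPolynomial k]
      LaurentPolynomial k :=
    (phi k) ∘ₗ (exteriorPower.oneEquiv (LaurentPolynomial k) (Ω[LaurentPolynomial k⁄k])).toLinearMap
  have hΦinj : Function.Injective Φ :=
    (phi_injective k).comp
      (exteriorPower.oneEquiv (LaurentPolynomial k) (Ω[LaurentPolynomial k⁄k])).injective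
  have hΦη : Φ η = 1 := by
    rw [hη]
    unfold gen
    rw [map_smul]
    show T (-1) • phi k ((exteriorPower.oneEquiv (LaurentPolynomial k) (Ω[LaurentPolynomial k⁄k]))
      (ιMulti (LaurentPolynomial k) 1 fun _ => (KaehlerDifferential.D k (LaurentPolynomial k)) (T 1)))
      = 1
    rw [exteriorPower.oneEquiv_ιMulti, phi_D, euler_T_one, smul_eq_mul, ← T_add]
    simp
  have h0 : ∀ ω : ↥(⋀[LaurentPolynomial k]^0 (Ω[LaurentPolynomial k⁄k])),
      ∃ f : LaurentPolynomial k,
        ω = gen (KaehlerDifferential.D k (LaurentPolynomial k)) 0 f Fin.elim0 := by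
    intro ω
    induction ω using Groth.Agent.Lib.Helper22.deRham_gen_induction with
    | h0 => exact ⟨0, by simp [gen]⟩
    | hadd x y hx hy =>
      obtain ⟨f, rfl⟩ := hx
      obtain ⟨g, rfl⟩ := hy
      exact ⟨f + g, by simp [gen, add_smul]⟩
    | hgen c b =>
      refine ⟨c, ?_⟩
      have : b = Fin.elim0 := Subsingleton.elim _ _
      rw [this]
  have hd0 : ∀ f : LaurentPolynomial k,
      Φ (d 0 (gen (KaehlerDifferential.D k (LaurentPolynomial k)) 0 f Fin.elim0)) = euler k f := by
    intro f
    rw [hd.1 0 f Fin.elim0]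
    show phi k ((exteriorPower.oneEquiv (LaurentPolynomial k) (Ω[LaurentPolynomial k⁄k])) _) = _
    rw [exteriorPower.oneEquiv_ιMulti]
    simp [phi_D]
  have hΦsmul : ∀ (c : k) (x : ↥(⋀[LaurentPolynomial k]^1 (Ω[LaurentPolynomial k⁄k]))),
      Φ (c • x) = c • Φ x := fun c x => LinearMap.map_smul_of_tower Φ c x
  have hcoeff0 : ∀ f : LaurentPolynomial k, (euler k f).coeff 0 = 0 := by
    intro f
    rw [euler_coeff]; simp
  have hone : ((1 : LaurentPolynomial k)).coeff 0 = 1 := by
    simp
  have hsmulone : ∀ c : k, (c • (1 : LaurentPolynomial k)).coeff 0 = c := by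
    intro c
    have : (C c : LaurentPolynomial k).coeff 0 = if (0 : ℤ) = 0 then c else 0 :=
      LaurentPolynomial.C_apply _ _
    rw [LaurentPolynomial.smul_eq_C_mul, mul_one, this]; simp
  refine ⟨?_, ⟨?_, ?_⟩, ?_, ?_⟩
  · have := subsingleton_extPow k 0
    rw [eq_top_iff]
    intro x _
    show d 1 x = 0
    exact Subsingleton.elim _ _
  · rw [Submodule.disjoint_def]
    intro x hx1 hx2
    obtain ⟨ω, rfl⟩ := hx1
    obtain ⟨c, hc⟩ := Submodule.mem_span_singleton.1 hx2
    obtain ⟨f, rfl⟩ := h0 ω
    have h1 := congrArg Φ hc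
    rw [hΦsmul, hΦη, hd0] at h1
    have h2 := congrArg (fun z : LaurentPolynomial k => z.coeff 0) h1
    simp only [hsmulone, hcoeff0] at h2
    rw [← hc, h2, zero_smul]
  · rw [codisjoint_iff, eq_top_iff]
    intro x _
    have hx : x = d 0 (gen (KaehlerDifferential.D k (LaurentPolynomial k)) 0
        (invEuler k (Φ x)) Fin.elim0) + ((Φ x).coeff 0) • η := by
      apply hΦinj
      rw [map_add, hd0, hΦsmul, hΦη, LaurentPolynomial.smul_eq_C_mul, mul_one, euler_invEuler]
    rw [hx]
    exact Submodule.add_mem_sup ⟨_, rfl⟩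
      (Submodule.smul_mem _ _ (Submodule.mem_span_singleton_self _))
  · rintro ⟨ω, hω⟩
    obtain ⟨f, rfl⟩ := h0 ω
    have h1 := congrArg Φ hω
    rw [hd0, hΦη] at h1
    have h2 := congrArg (fun z : LaurentPolynomial k => z.coeff 0) h1
    simp only [hcoeff0, hone] at h2
    exact zero_ne_one h2
  · intro i x _
    have := subsingleton_extPow k i
    rw [Subsingleton.elim x 0]
    exact Submodule.zero_mem _


end Groth.Agent.S19633
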