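import Groth.Statements.S19741
import Groth.Agent.Lib.T2H8EssDimBC

set_option autoImplicit false
universe w u
open EssDim

namespace Groth.Agent.S19741

open CategoryTheory AlgebraicGeometry in
/-- For a field extension `K` of `k` and a presheaf of sets `P` on schemes over `k`, restrict `P` to
schemes over `K` by viewing a scheme over `Spec K` as a scheme over `Spec k`; then the essential
dimension over `K` of the restricted presheaf is at most the essential dimension of `P` over `k`.
(The source states this for an algebraic stack over `k` and its base change to `K`, through the
presheaf of isomorphism classes of objects, whose restriction to schemes over `K` is the presheaf of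
classes of the base-changed stack; the inequality is stated here for an arbitrary presheaf, which is
what the argument with composita of fields of definition gives.) -/
theorem result (k : Type u) [Field k] (K : Type u) [Field K] [Algebra k K]
    (P : (Over (Spec (CommRingCat.of k)))ᵒᵖ ⥤ Type w) :
    EssDim.ed (k := K) ((Over.map (Spec.map (CommRingCat.ofHom (algebraMap k K)))).op ⋙ P) ≤ EssDim.ed P := by
  unfold EssDim.ed
  refine iSup_le (fun L => iSup_le (fun hL => iSup_le (fun hKL => iSup_le (fun ξ => ?_))))
  letI : Algebra k L := ((algebraMap K L).comp (algebraMap k K)).toAlgebra
  haveI : IsScalarTower k K L := IsScalarTower.of_algebraMap_eq (fun _ => rfl)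
  have h1 := Groth.Agent.Lib.T2H8.EssDimBC.edAt_le (k := k) (K := K) P (L := L) ξ
  have h2 := EssDim.edAt_le_ed (P := P)
    (P.map (Groth.Agent.Lib.T2H8.EssDimBC.θ (k := k) (K := K) L).inv.op ξ)
  exact (WithBot.coe_le_coe.2 h1).trans h2

end Groth.Agent.S19741
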