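import Groth.Statements.S19758
import Groth.Agent.Lib.T2H3SegM
import Groth.Agent.Lib.T2H3SegF
import Groth.Agent.S18646

set_option autoImplicit false
set_option linter.style.haveILetI false
universe u
open scoped TensorProduct
open GrSegre

namespace Groth.Agent.S19758

/-- Let R and S be graded rings defined over a field k with m = R_+, T = R # S with irrelevant ideal
T_+, M a graded R-module and N a graded S-module on which multiplication by some homogeneous element
of S of positive degree is bijective. Then H^q_{T_+}(M # N) ≅ H^q_m(M) # N as graded T-modules for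
every q. Stated here as the existence of an injective k-linear map H^q_{T_+}(M # N) → H^q_m(M) ⊗_k N
presenting the left side as the Segre product of H^q_m(M) and N (existence of such a presentation
only; the published isomorphism is the one induced by a resolution). Here a graded ring defined over
k is a commutative k-algebra of finite type, graded in nonnegative degrees by k-subspaces with
degree-zero part k·1; the Segre product T = R # S = ⊕_n R_n ⊗_k S_n is presented abstractly as a
graded k-algebra T with an injective k-algebra homomorphism ψ : T → R ⊗_k S carrying T_n onto the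
k-span of the elementary tensors a ⊗ b with a ∈ R_n, b ∈ S_n; the Segre product M # N = ⊕_n M_n ⊗_k
N_n of a graded R-module M and a graded S-module N is presented abstractly as a graded T-module P
with an injective k-linear map φ : P → M ⊗_k N carrying P_n onto the k-span of the tensors x ⊗ y
with x ∈ M_n, y ∈ N_n and turning the action of t ∈ T into that of ψ(t) (acting factorwise on M ⊗_k
N); graded local cohomology and its homogeneous pieces are computed from *injective resolutions in
the graded categories of R and T, and carry the k-vector space structures given. -/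
theorem result (k : Type u) [Field k] (R : Type u) [CommRing R] [Algebra k R] (𝒜 : ℤ → Submodule k R) [GradedAlgebra 𝒜] (hposR : ∀ n : ℤ, n < 0 → 𝒜 n = ⊥) (h0R : 𝒜 0 = Submodule.span k {(1 : R)}) [Algebra.FiniteType k R] (S : Type u) [CommRing S] [Algebra k S] (ℬ : ℤ → Submodule k S) [GradedAlgebra ℬ] (hposS : ∀ n : ℤ, n < 0 → ℬ n = ⊥) (h0S : ℬ 0 = Submodule.span k {(1 : S)}) [Algebra.FiniteType k S] (T : Type u) [CommRing T] [Algebra k T] (𝒯 : ℤ → Submodule k T) [GradedAlgebra 𝒯] (ψ : T →ₐ[k] TensorProduct k R S) (hT : GrSeg.IsSegreRing 𝒜 ℬ 𝒯 ψ) (mR : HomogeneousIdeal 𝒜) (hmR : mR.toIdeal = Ideal.span (⋃ n ∈ Set.Ioi (0 : ℤ), (𝒜 n : Set R))) (mT : HomogeneousIdeal 𝒯) (hmT : mT.toIdeal = Ideal.span (⋃ n ∈ Set.Ioi (0 : ℤ), (𝒯 n : Set T))) (M : Type u) [AddCommGroup M] [Module R M] [Module k M] [IsScalarTower k R M] (ℳ : ℤ → AddSubgroup M) [DirectSum.Decomposition ℳ] [SetLike.GradedSMul 𝒜 ℳ] (EM : GrLC.StarInjRes 𝒜 ℳ) (N : Type u) [AddCommGroup N] [Module S N] [Module k N] [IsScalarTower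 k S N] (𝒩 : ℤ → AddSubgroup N) [DirectSum.Decomposition 𝒩] [SetLike.GradedSMul ℬ 𝒩] (e : ℕ) (he : 0 < e) (g : S) (hg : g ∈ ℬ (e : ℤ)) (hgN : Function.Bijective (fun y : N => g • y)) (P : Type u) [AddCommGroup P] [Module T P] [Module k P] [IsScalarTower k T P] (𝒬 : ℤ → AddSubgroup P) [DirectSum.Decomposition 𝒬] [SetLike.GradedSMul 𝒯 𝒬] (φ : P →ₗ[k] TensorProduct k M N) (hP : GrSeg.IsSegreMod ψ ℳ 𝒩 𝒬 φ) (EP : GrLC.StarInjRes 𝒯 𝒬) (q : ℕ) [Module k (EM.H mR q)] [IsScalarTower k R (EM.H mR q)] [Module k (EP.H mT q)] [IsScalarTower k T (EP.H mT q)] [DirectSum.Decomposition (EP.Hgr mT q)] : ∃ φ' : EP.H mT q →ₗ[k] TensorProduct k (EM.H mR q) N, GrSeg.IsSegreMod ψ (EM.Hgr mR q) 𝒩 (EP.Hgr mT q) φ' := by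
  classical
  open Groth.Agent.Lib.T2H3.Seg Groth.Agent.Lib in
  rename_i iHM iHT iPM iPT iPD
  haveI : IsNoetherianRing R := Algebra.FiniteType.isNoetherianRing k R
  haveI : IsNoetherianRing S := Algebra.FiniteType.isNoetherianRing k S
  haveI : IsNoetherianRing T :=
    Groth.Agent.S18646.result k R 𝒜 hposR h0R S ℬ hposS h0S T 𝒯 ψ hT.1 hT.2
  -- the `k`-structures on the terms of the resolution of `M`
  letI kX : ∀ n, Module k (EM.X n).carrier := fun n => Module.compHom _ (algebraMap k R)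
  haveI tX : ∀ n, IsScalarTower k R (EM.X n).carrier := fun n => ⟨fun c r x => by
    change (c • r) • x = algebraMap k R c • (r • x)
    rw [Algebra.smul_def, mul_smul]⟩
  -- the irrelevant ideal of `S`
  let mS : HomogeneousIdeal ℬ := ⟨Ideal.span (⋃ n ∈ Set.Ioi (0 : ℤ), (ℬ n : Set S)),
    Ideal.homogeneous_span ℬ _ (by
      intro x hx
      obtain ⟨n, -, hxn⟩ := Set.mem_iUnion₂.mp hx
      exact ⟨n, hxn⟩)⟩
  have hirrR : ∀ n : ℤ, 0 < n → ∀ r ∈ 𝒜 n, r ∈ mR.toIdeal := by
    intro n hn r hr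
    rw [hmR]
    exact Ideal.subset_span (Set.mem_biUnion (show n ∈ Set.Ioi (0 : ℤ) from hn) hr)
  have hirrS : ∀ n : ℤ, 0 < n → ∀ s ∈ ℬ n, s ∈ mS.toIdeal := by
    intro n hn s hs
    exact Ideal.subset_span (Set.mem_biUnion (show n ∈ Set.Ioi (0 : ℤ) from hn) hs)
  -- splitting data
  obtain ⟨D, hD, hxs⟩ := exists_list_pow mR hmR
  obtain ⟨xs, hxsδ, hrad⟩ := hxs e
  have hGA : ∀ n, Nonempty (Good 𝒜 mR (EM.X n).gr ((D * e : ℕ) : ℤ)) := fun n =>
    exists_good_of_isStarInj mR xs hxsδ hrad (EM.starInj n)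
  have hgD : g ^ D ∈ ℬ ((D * e : ℕ) : ℤ) := by
    have h1 := SetLike.pow_mem_graded D hg
    rw [nsmul_eq_mul, ← Nat.cast_mul] at h1
    exact h1
  have hbijD : Function.Bijective (fun y : N => g ^ D • y) := by
    have h1 : (fun y : N => g ^ D • y) = (fun y : N => g • y)^[D] := (smul_iterate g D).symm
    rw [h1]
    exact hgN.iterate D
  have hδ : (0 : ℤ) < ((D * e : ℕ) : ℤ) := by
    have : 0 < D * e := Nat.mul_pos hD he
    exact_mod_cast this
  have hΓN : ∀ b ∈ GrLC.gam mS.toIdeal N, b = 0 := by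
    intro b hb
    obtain ⟨n, hn⟩ := hb
    have hgm : g ∈ mS.toIdeal := hirrS (e : ℤ) (by exact_mod_cast he) g hg
    have h1 : g ^ n • b = 0 := hn _ (Ideal.pow_mem_pow hgm n)
    have h2 : Function.Injective (fun y : N => g ^ n • y) := by
      have h3 : (fun y : N => g ^ n • y) = (fun y : N => g • y)^[n] := (smul_iterate g n).symm
      rw [h3]
      exact hgN.1.iterate n
    exact h2 (show g ^ n • b = g ^ n • (0 : N) by rw [h1, smul_zero])
  let K : KSetup (ψ := ψ) (𝒬 := 𝒬) 𝒩 EM φ mR mS mT ((D * e : ℕ) : ℤ) :=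
    { hT := hT
      hP := hP
      hposT := LeadSP.hposT 𝒜 ℬ 𝒯 ψ hT.1 hT.2 hposR
      hmT := hmT
      hirrR := hirrR
      hirrS := hirrS
      hδ := hδ
      GA := fun n => (hGA n).some
      GB := Good.ofBijective 𝒩 mS hgD hbijD
      hΓN := hΓN }
  have e1 : iHM = HMod EM mR q :=
    module_ext_of_tower (R₀ := R) iHM (HMod EM mR q) iHT (HMod_tower EM mR q)
  subst e1
  exact K.exists_isSegreMod EP q

end Groth.Agent.S19758
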