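import Groth.Statements.S19763
import Groth.Agent.Lib.T2H3KunY
import Groth.Agent.S19755

set_option autoImplicit false
set_option linter.style.haveILetI false
universe u
open scoped TensorProduct
attribute [local instance] MvPolynomial.weightedGradedAlgebra
open GrSegre

namespace Groth.Agent.S19763

/-- Let R = k[X_1, …, X_r] and S = k[Y_1, …, Y_s] be polynomial rings over a field k with every variable
of degree 1, r ≥ 2 and s ≥ 2, T = R # S, and M = R(a), N = S(b) for integers a, b. Then (a) M # N is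
a Cohen–Macaulay T-module if and only if s > a − b > −r; (b) if a − b ≥ s then depth (M # N) = s;
(c) if a − b ≤ −r then depth (M # N) = r. Here the polynomial rings carry the standard grading by
k-subspaces of homogeneous polynomials (indexed by ℤ, all variables of weight 1); the Segre product
T = R # S = ⊕_n R_n ⊗_k S_n is presented abstractly as a graded k-algebra T with an injective
k-algebra homomorphism ψ : T → R ⊗_k S carrying T_n onto the k-span of the elementary tensors of
bidegree (n, n), T_+ is the ideal spanned by the T_n with n > 0, and R(a) # S(b) = ⊕_n R_{n+a} ⊗_k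
S_{n+b} is presented abstractly as a graded T-module P with an injective k-linear map φ : P → R ⊗_k
S carrying P_n onto the k-span of the tensors x ⊗ y with x ∈ R_{n+a}, y ∈ S_{n+b} and turning the
action of t ∈ T into that of ψ(t); a module over a ring is called Cohen–Macaulay when each of its
localizations at a prime ideal is zero or a Cohen–Macaulay module over the local ring (dimension of
the support equal to the depth), and the dimension of a module is the Krull dimension of its
support; the depth of P is its grade with respect to T_+ (the common length of the maximal P-regular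
sequences in T_+). -/
theorem result (k : Type u) [Field k] (r s : ℕ) (h2r : 2 ≤ r) (h2s : 2 ≤ s) (T : Type u) [CommRing T] [Algebra k T] (𝒯 : ℤ → Submodule k T) [GradedAlgebra 𝒯] (ψ : T →ₐ[k] TensorProduct k (MvPolynomial (Fin r) k) (MvPolynomial (Fin s) k)) (hT : GrSeg.IsSegreRing (MvPolynomial.weightedHomogeneousSubmodule k (fun _ : Fin r => (1 : ℤ))) (MvPolynomial.weightedHomogeneousSubmodule k (fun _ : Fin s => (1 : ℤ))) 𝒯 ψ) (mT : HomogeneousIdeal 𝒯) (hmT : mT.toIdeal = Ideal.span (⋃ n ∈ Set.Ioi (0 : ℤ), (𝒯 n : Set T))) (a b : ℤ) (P : Type u) [AddCommGroup P] [Module T P] [Module k P] [IsScalarTower k T P] (𝒬 : ℤ → AddSubgroup P) [DirectSum.Decomposition 𝒬] (φ : P →ₗ[k] TensorProduct k (MvPolynomial (Fin r) k) (MvPolynomial (Fin s) k)) (hP : GrSeg.IsSegreMod ψ (fun n : ℤ => (MvPolynomial.weightedHomogeneousSubmodule k (fun _ : Fin r => (1 : ℤ))) (n + a)) (fun n : ℤ => (MvPolynomial.weightedHomogeneousSubmodule k (fun _ : Fin s => (1 : ℤ))) (n + b)) 𝒬 φ) : ((∀ (q : Ideal T) [q.IsPrime],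 Subsingleton (LocalizedModule q.primeCompl P) ∨ LocCoh.IsCohenMacaulayModule (Localization.AtPrime q) (LocalizedModule q.primeCompl P)) ↔ (a - b < (s : ℤ) ∧ -(r : ℤ) < a - b)) ∧ ((s : ℤ) ≤ a - b → LocCoh.idealDepth mT.toIdeal P = (s : ℕ∞)) ∧ (a - b ≤ -(r : ℤ) → LocCoh.idealDepth mT.toIdeal P = (r : ℕ∞)) := by
  classical
  open Groth.Agent.Lib.T2H3.Kun Groth.Agent.Lib Groth.Agent.Lib.T2H3.GrTr
    Groth.Agent.Lib.Helper29GrShift in
  have h1r : 1 ≤ r := by omega
  have h1s : 1 ≤ s := by omega
  have hposR := poly_hpos k r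
  have h0R := poly_h0 k r
  have hposS := poly_hpos k s
  have h0S := poly_h0 k s
  haveI : IsNoetherianRing T :=
    Groth.Agent.S18646.result k (MvPolynomial (Fin r) k) (polyGr k r) hposR h0R
      (MvPolynomial (Fin s) k) (polyGr k s) hposS h0S T 𝒯 ψ hT.1 hT.2
  haveI : Nontrivial (TensorProduct k (MvPolynomial (Fin r) k) (MvPolynomial (Fin s) k)) :=
    Algebra.TensorProduct.nontrivial_of_algebraMap_injective_of_flat_left k
      (MvPolynomial (Fin r) k) (MvPolynomial (Fin s) k)
      (algebraMap k (MvPolynomial (Fin s) k)).injective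
  haveI : Nontrivial T := ⟨⟨0, 1, fun h => by
    have h1 : ψ 0 = ψ 1 := congrArg ψ h
    rw [map_zero, map_one] at h1
    exact zero_ne_one h1⟩⟩
  have hposT := LeadSP.hposT (polyGr k r) (polyGr k s) 𝒯 ψ hT.1 hT.2 hposR
  have h0T := LeadSP.h0T (polyGr k r) (polyGr k s) 𝒯 ψ hT.1 hT.2 h0R h0S
  haveI : Algebra.FiniteType k T := finiteType_of_isNoetherianRing 𝒯 hposT h0T
  -- the irrelevant ideals
  let mR : HomogeneousIdeal (polyGr k r) :=
    ⟨Ideal.span (⋃ n ∈ Set.Ioi (0 : ℤ), (polyGr k r n : Set (MvPolynomial (Fin r) k))),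
      Ideal.homogeneous_span (polyGr k r) _ (by
        intro x hx
        obtain ⟨n, -, hxn⟩ := Set.mem_iUnion₂.mp hx
        exact ⟨n, hxn⟩)⟩
  have hmR : mR.toIdeal = Ideal.span (⋃ n ∈ Set.Ioi (0 : ℤ),
      (polyGr k r n : Set (MvPolynomial (Fin r) k))) := rfl
  let mS : HomogeneousIdeal (polyGr k s) :=
    ⟨Ideal.span (⋃ n ∈ Set.Ioi (0 : ℤ), (polyGr k s n : Set (MvPolynomial (Fin s) k))),
      Ideal.homogeneous_span (polyGr k s) _ (by
        intro x hx
        obtain ⟨n, -, hxn⟩ := Set.mem_iUnion₂.mp hx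
        exact ⟨n, hxn⟩)⟩
  have hmS : mS.toIdeal = Ideal.span (⋃ n ∈ Set.Ioi (0 : ℤ),
      (polyGr k s n : Set (MvPolynomial (Fin s) k))) := rfl
  obtain ⟨I⟩ := nonempty_starInjRes_self (polyGr k r)
  obtain ⟨J⟩ := nonempty_starInjRes_self (polyGr k s)
  -- the shifted modules
  letI decM : DirectSum.Decomposition (shiftGr (asGr (polyGr k r)) a) :=
    shiftDecomposition (asGr (polyGr k r)) a
  haveI gsM : SetLike.GradedSMul (polyGr k r) (shiftGr (asGr (polyGr k r)) a) :=
    shift_gradedSMul_gen (polyGr k r) (asGr (polyGr k r)) a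
  letI decN : DirectSum.Decomposition (shiftGr (asGr (polyGr k s)) b) :=
    shiftDecomposition (asGr (polyGr k s)) b
  haveI gsN : SetLike.GradedSMul (polyGr k s) (shiftGr (asGr (polyGr k s)) b) :=
    shift_gradedSMul_gen (polyGr k s) (asGr (polyGr k s)) b
  let EM : GrLC.StarInjRes (polyGr k r) (shiftGr (asGr (polyGr k r)) a) :=
    shiftResGen (polyGr k r) (asGr (polyGr k r)) a (resSelf (polyGr k r) I)
  let EN : GrLC.StarInjRes (polyGr k s) (shiftGr (asGr (polyGr k s)) b) :=
    shiftResGen (polyGr k s) (asGr (polyGr k s)) b (resSelf (polyGr k s) J)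
  have hP' : GrSeg.IsSegreMod ψ (shiftGr (asGr (polyGr k r)) a) (shiftGr (asGr (polyGr k s)) b)
      𝒬 φ := ⟨hP.injective, hP.image_piece, hP.map_smul⟩
  -- nontriviality of the Segre product
  haveI : Nontrivial P := by
    by_contra hnt
    rw [not_nontrivial_iff_subsingleton] at hnt
    obtain ⟨x, hx, hx0⟩ := (Submodule.ne_bot_iff _).mp
      (poly_piece_ne_bot k r h1r (max (-a) (-b) + a) (by omega))
    obtain ⟨y, hy, hy0⟩ := (Submodule.ne_bot_iff _).mp
      (poly_piece_ne_bot k s h1s (max (-a) (-b) + b) (by omega))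
    have hmem : x ⊗ₜ[k] y ∈ GrSeg.segrePiece k (shiftGr (asGr (polyGr k r)) a)
        (shiftGr (asGr (polyGr k s)) b) (max (-a) (-b)) :=
      Submodule.subset_span ⟨x, hx, y, hy, rfl⟩
    rw [← SetLike.mem_coe, ← hP'.image_piece] at hmem
    obtain ⟨p, -, hp⟩ := hmem
    rw [Subsingleton.elim p 0, map_zero] at hp
    exact tmul_ne_zero_of_field hx0 hy0 hp.symm
  haveI : Module.Finite T P :=
    Groth.Agent.S19747.result k (MvPolynomial (Fin r) k) (polyGr k r) hposR h0R
      (MvPolynomial (Fin s) k) (polyGr k s) hposS h0S T 𝒯 ψ hT (MvPolynomial (Fin r) k)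
      (shiftGr (asGr (polyGr k r)) a) (MvPolynomial (Fin s) k) (shiftGr (asGr (polyGr k s)) b)
      P 𝒬 φ hP'
  haveI : SetLike.GradedSMul 𝒯 𝒬 :=
    gradedSMul_of_isSegreMod (shiftGr (asGr (polyGr k r)) a) (shiftGr (asGr (polyGr k s)) b) 𝒬
      hT hP'
  obtain ⟨EP⟩ := nonempty_starInjRes 𝒯 𝒬
  have hdM : Module.supportDim (MvPolynomial (Fin r) k) (MvPolynomial (Fin r) k) =
      (r : WithBot ℕ∞) := poly_supportDim k r
  have hdN : Module.supportDim (MvPolynomial (Fin s) k) (MvPolynomial (Fin s) k) =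
      (s : WithBot ℕ∞) := poly_supportDim k s
  have hMcm : ∀ (q : Ideal (MvPolynomial (Fin r) k)) [q.IsPrime],
      Subsingleton (LocalizedModule q.primeCompl (MvPolynomial (Fin r) k)) ∨
      LocCoh.IsCohenMacaulayModule (Localization.AtPrime q)
        (LocalizedModule q.primeCompl (MvPolynomial (Fin r) k)) := fun q _ => poly_cm_module k r q
  have hNcm : ∀ (q : Ideal (MvPolynomial (Fin s) k)) [q.IsPrime],
      Subsingleton (LocalizedModule q.primeCompl (MvPolynomial (Fin s) k)) ∨
      LocCoh.IsCohenMacaulayModule (Localization.AtPrime q)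
        (LocalizedModule q.primeCompl (MvPolynomial (Fin s) k)) := fun q _ => poly_cm_module k s q
  -- the key computations
  have hAr : ∀ d : ℤ, EM.Hcomp mR r d = ⊥ ↔ -(r : ℤ) < d + a := fun d => by
    rw [Hcomp_shiftResGen_eq_bot_iff, resSelf_Hcomp]
    exact poly_Hcomp_eq_bot_iff k r mR hmR h1r I (d + a)
  have hBs : ∀ d : ℤ, EN.Hcomp mS s d = ⊥ ↔ -(s : ℤ) < d + b := fun d => by
    rw [Hcomp_shiftResGen_eq_bot_iff, resSelf_Hcomp]
    exact poly_Hcomp_eq_bot_iff k s mS hmS h1s J (d + b)
  have hMd : ∀ d : ℤ, shiftGr (asGr (polyGr k r)) a d = ⊥ ↔ d + a < 0 := fun d => by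
    constructor
    · intro h
      by_contra hd
      rw [not_lt] at hd
      apply poly_piece_ne_bot k r h1r (d + a) hd
      rw [eq_bot_iff]
      intro x hx
      have hx' : x ∈ shiftGr (asGr (polyGr k r)) a d := hx
      rw [h] at hx'
      exact (Submodule.mem_bot k).mpr (AddSubgroup.mem_bot.mp hx')
    · intro hd
      rw [AddSubgroup.eq_bot_iff_forall]
      intro x hx
      have hx' : x ∈ polyGr k r (d + a) := hx
      rw [poly_hpos k r (d + a) hd] at hx'
      exact (Submodule.mem_bot k).mp hx'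
  have hNd : ∀ d : ℤ, shiftGr (asGr (polyGr k s)) b d = ⊥ ↔ d + b < 0 := fun d => by
    constructor
    · intro h
      by_contra hd
      rw [not_lt] at hd
      apply poly_piece_ne_bot k s h1s (d + b) hd
      rw [eq_bot_iff]
      intro x hx
      have hx' : x ∈ shiftGr (asGr (polyGr k s)) b d := hx
      rw [h] at hx'
      exact (Submodule.mem_bot k).mpr (AddSubgroup.mem_bot.mp hx')
    · intro hd
      rw [AddSubgroup.eq_bot_iff_forall]
      intro x hx
      have hx' : x ∈ polyGr k s (d + b) := hx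
      rw [poly_hpos k s (d + b) hd] at hx'
      exact (Submodule.mem_bot k).mp hx'
  have hM : ∀ (q : ℕ) (d : ℤ), q ≤ 1 → EM.Hcomp mR q d = ⊥ := fun q d hq =>
    Hcomp_eq_bot_of_ne_supportDim (polyGr k r) hposR h0R (shiftGr (asGr (polyGr k r)) a) mR hmR
      EM r hdM hMcm q (by omega) d
  have hN : ∀ (q : ℕ) (d : ℤ), q ≤ 1 → EN.Hcomp mS q d = ⊥ := fun q d hq =>
    Hcomp_eq_bot_of_ne_supportDim (polyGr k s) hposS h0S (shiftGr (asGr (polyGr k s)) b) mS hmS
      EN s hdN hNcm q (by omega) d
  have hF := fun (q : ℕ) (d : ℤ) => Groth.Agent.S19765.result k (MvPolynomial (Fin r) k)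
    (polyGr k r) hposR h0R (MvPolynomial (Fin s) k) (polyGr k s) hposS h0S T 𝒯 ψ hT mR hmR mS hmS
    mT hmT (MvPolynomial (Fin r) k) (shiftGr (asGr (polyGr k r)) a) EM (MvPolynomial (Fin s) k)
    (shiftGr (asGr (polyGr k s)) b) EN P 𝒬 φ hP' EP hM hN q d
  refine ⟨?_, ?_, ?_⟩
  · rw [Groth.Agent.S19755.result k (MvPolynomial (Fin r) k) (polyGr k r) hposR h0R
      (MvPolynomial (Fin s) k) (polyGr k s) hposS h0S T 𝒯 ψ hT mR hmR mS hmS
      (MvPolynomial (Fin r) k) (shiftGr (asGr (polyGr k r)) a) EM (MvPolynomial (Fin s) k)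
      (shiftGr (asGr (polyGr k s)) b) EN P 𝒬 φ hP' r s h2r h2s hdM hdN hMcm hNcm]
    constructor
    · rintro ⟨h1, h2⟩
      constructor
      · rcases h1 (-a) with h | h
        · rw [hMd] at h
          omega
        · rw [hBs] at h
          omega
      · rcases h2 (-b) with h | h
        · rw [hAr] at h
          omega
        · rw [hNd] at h
          omega
    · rintro ⟨h1, h2⟩
      constructor
      · intro d
        by_cases hd : d + a < 0
        · exact Or.inl ((hMd d).mpr hd)
        · exact Or.inr ((hBs d).mpr (by omega))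
      · intro d
        by_cases hd : d + b < 0
        · exact Or.inr ((hNd d).mpr hd)
        · exact Or.inl ((hAr d).mpr (by omega))
  · intro hab
    exact idealDepth_segreMod_eq_right (polyGr k r) (polyGr k s) 𝒯 hposR h0R hposS h0S hposT h0T
      mR hmR mS hmS mT hmT (shiftGr (asGr (polyGr k r)) a) EM (shiftGr (asGr (polyGr k s)) b) EN
      𝒬 EP h2r h2s hdM hdN hMcm hNcm hF (fun d => by
        by_cases hd : d + b < 0
        · exact Or.inr ((hNd d).mpr hd)
        · exact Or.inl ((hAr d).mpr (by omega))) (-a)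
      (by rw [Ne, hMd]; omega) (by rw [Ne, hBs]; omega)
  · intro hab
    exact idealDepth_segreMod_eq_left (polyGr k r) (polyGr k s) 𝒯 hposR h0R hposS h0S hposT h0T
      mR hmR mS hmS mT hmT (shiftGr (asGr (polyGr k r)) a) EM (shiftGr (asGr (polyGr k s)) b) EN
      𝒬 EP h2r h2s hdM hdN hMcm hNcm hF (fun d => by
        by_cases hd : d + a < 0
        · exact Or.inl ((hMd d).mpr hd)
        · exact Or.inr ((hBs d).mpr (by omega))) (-b)
      (by rw [Ne, hAr]; omega) (by rw [Ne, hNd]; omega)

end Groth.Agent.S19763
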