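import Groth.Statements.S19864
import Mathlib
import Groth.Agent.Lib.Helper7RegLoc2
import Groth.Agent.Lib.Helper7RegLoc
import Groth.Agent.Lib.Helper19FSFlat

set_option autoImplicit false
set_option linter.style.haveILetI false
universe u
open CAlg

namespace Groth.Agent.S19864

open TensorProduct IsLocalRing
open Groth.Agent.Lib.Helper28 Groth.Agent.Lib.Helper7.QFFF Groth.Agent.Lib.Helper7
  Groth.Agent.Lib.Helper7.RegLoc2

/-- Regularity of `k' ⊗[R] Λ` (with `k'` a field) can be checked on the localizations of `Λ` at the
primes lying over the kernel of `R → k'`. -/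
theorem isRegularRing_tensor_of_forall_prime {R Λ : Type u} [CommRing R] [CommRing Λ]
    [Algebra R Λ] (k' : Type u) [Field k'] [Algebra R k'] [IsNoetherianRing (k' ⊗[R] Λ)]
    (h : ∀ (n : Ideal Λ) [n.IsPrime],
      Ideal.comap (algebraMap R Λ) n = RingHom.ker (algebraMap R k') →
      Nontrivial (k' ⊗[R] Localization.AtPrime n) →
      IsRegularRing (k' ⊗[R] Localization.AtPrime n)) :
    IsRegularRing (k' ⊗[R] Λ) := by
  rw [isRegularRing_iff]
  intro 𝔱 h𝔱
  set n : Ideal Λ := 𝔱.comap (Algebra.TensorProduct.includeRight (R := R) (A := k')).toRingHom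
    with h𝔑
  haveI : n.IsPrime := Ideal.comap_isPrime _ _
  have hcomapn : Ideal.comap (algebraMap R Λ) n = RingHom.ker (algebraMap R k') := by
    have hbot : 𝔱.comap (Algebra.TensorProduct.includeLeft (R := R) (S := R) (A := k')
        (B := Λ)).toRingHom = ⊥ := by
      haveI : (𝔱.comap (Algebra.TensorProduct.includeLeft (R := R) (S := R) (A := k')
        (B := Λ)).toRingHom).IsPrime := Ideal.comap_isPrime _ _
      exact (Ideal.eq_bot_or_top _).resolve_right (Ideal.IsPrime.ne_top inferInstance)
    ext r
    rw [Ideal.mem_comap, h𝔑, Ideal.mem_comap, RingHom.mem_ker]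
    have e1 : (Algebra.TensorProduct.includeRight (R := R) (A := k')).toRingHom (algebraMap R Λ r)
        = (Algebra.TensorProduct.includeLeft (R := R) (S := R) (A := k')
        (B := Λ)).toRingHom (algebraMap R k' r) := by
      simp only [AlgHom.toRingHom_eq_coe, RingHom.coe_coe, AlgHom.commutes]
    rw [e1, ← Ideal.mem_comap, hbot, Ideal.mem_bot]
  letI : Algebra (k' ⊗[R] Λ) (k' ⊗[R] Localization.AtPrime n) :=
    (Algebra.TensorProduct.map (AlgHom.id R k')
      (IsScalarTower.toAlgHom R Λ (Localization.AtPrime n))).toAlgebra
  haveI : IsScalarTower k' (k' ⊗[R] Λ) (k' ⊗[R] Localization.AtPrime n) :=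
    .of_algebraMap_eq <| by intro; simp [RingHom.algebraMap_toAlgebra]
  haveI hloc := IsLocalization.tensorProduct_tensorProduct_right R k' n.primeCompl
    (Localization.AtPrime n) (by ext; simp [RingHom.algebraMap_toAlgebra])
  set M' := n.primeCompl.map (Algebra.TensorProduct.includeRight (R := R) (A := k')) with hM'
  have hdisj : Disjoint (M' : Set (k' ⊗[R] Λ)) (𝔱 : Set (k' ⊗[R] Λ)) := by
    rw [Set.disjoint_left]
    rintro _ ⟨x, hx, rfl⟩ hmem
    exact hx hmem
  have hprime : (𝔱.map (algebraMap (k' ⊗[R] Λ) (k' ⊗[R] Localization.AtPrime n))).IsPrime :=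
    IsLocalization.isPrime_of_isPrime_disjoint M' _ 𝔱 h𝔱 hdisj
  have hcomap : (𝔱.map (algebraMap (k' ⊗[R] Λ) (k' ⊗[R] Localization.AtPrime n))).comap
      (algebraMap (k' ⊗[R] Λ) (k' ⊗[R] Localization.AtPrime n)) = 𝔱 :=
    IsLocalization.comap_map_of_isPrime_disjoint M' _ h𝔱 hdisj
  haveI : Nontrivial (k' ⊗[R] Localization.AtPrime n) :=
    nontrivial_of_ne (0 : k' ⊗[R] Localization.AtPrime n) 1 (fun h01 => hprime.ne_top
      ((Ideal.eq_top_iff_one _).mpr (h01 ▸ Ideal.zero_mem _)))
  haveI := h n hcomapn inferInstance
  haveI := hprime
  set 𝔱' := 𝔱.map (algebraMap (k' ⊗[R] Λ) (k' ⊗[R] Localization.AtPrime n)) with h𝔱'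
  have : IsLocalization.AtPrime (Localization.AtPrime 𝔱')
      (𝔱'.comap (algebraMap (k' ⊗[R] Λ) (k' ⊗[R] Localization.AtPrime n))) :=
    IsLocalization.isLocalization_isLocalization_atPrime_isLocalization M'
      (Localization.AtPrime 𝔱') 𝔱'
  have h3 : IsRegularLocalRing (Localization.AtPrime
      (𝔱'.comap (algebraMap (k' ⊗[R] Λ) (k' ⊗[R] Localization.AtPrime n)))) :=
    IsRegularLocalRing.of_ringEquiv (R := Localization.AtPrime 𝔱') (IsLocalization.algEquiv
      (𝔱'.comap (algebraMap (k' ⊗[R] Λ) (k' ⊗[R] Localization.AtPrime n))).primeCompl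
      (Localization.AtPrime (𝔱'.comap (algebraMap (k' ⊗[R] Λ) (k' ⊗[R] Localization.AtPrime n))))
      (Localization.AtPrime 𝔱')).toRingEquiv.symm
  exact (isRegularLocalRing_congr_ideal hcomap).mp h3


/-- Let A and B be Noetherian rings and B an A-algebra. Then A → B is a regular homomorphism (flat with
Noetherian, geometrically regular fibres) if and only if for every prime q of B lying over the prime
p of A the induced local homomorphism A_p → B_q is formally smooth for the adic topologies of the
maximal ideals (equivalently, for the adic topology of the maximal ideal of B_q). -/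
theorem result (A B : Type u)
    [CommRing A] [CommRing B] [Algebra A B] [IsNoetherianRing A] [IsNoetherianRing B] :
    CAlg.IsRegularHom A B ↔
      ∀ (q : Ideal B) [q.IsPrime],
        letI := (Localization.localRingHom (Ideal.comap (algebraMap A B) q) q (algebraMap A B) rfl).toAlgebra
        CAlgX.IsAdicFormallySmooth (Localization.AtPrime (Ideal.comap (algebraMap A B) q))
          (Localization.AtPrime q) (IsLocalRing.maximalIdeal (Localization.AtPrime q)) := by
  constructor
  · intro h q _
    letI alg := (Localization.localRingHom (Ideal.comap (algebraMap A B) q) q (algebraMap A B)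
      rfl).toAlgebra
    have hreg := Groth.Agent.Lib.Helper7.RegLoc.isRegularHom_localRingHom A B h q
    haveI : IsNoetherianRing (Localization.AtPrime (Ideal.comap (algebraMap A B) q)) :=
      IsLocalization.isNoetherianRing (Ideal.comap (algebraMap A B) q).primeCompl _ inferInstance
    haveI : IsNoetherianRing (Localization.AtPrime q) :=
      IsLocalization.isNoetherianRing q.primeCompl _ inferInstance
    haveI : IsLocalHom (algebraMap (Localization.AtPrime (Ideal.comap (algebraMap A B) q))
        (Localization.AtPrime q)) :=
      Localization.isLocalHom_localRingHom _ _ _ rfl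
    have hs : Function.Surjective (algebraMap (Localization.AtPrime (Ideal.comap (algebraMap A B) q))
        (maximalIdeal (Localization.AtPrime (Ideal.comap (algebraMap A B) q))).ResidueField) :=
      Ideal.algebraMap_residueField_surjective _
    have hk : RingHom.ker (algebraMap (Localization.AtPrime (Ideal.comap (algebraMap A B) q))
        (maximalIdeal (Localization.AtPrime (Ideal.comap (algebraMap A B) q))).ResidueField) =
        maximalIdeal _ := Ideal.ker_algebraMap_residueField _
    exact (Groth.Agent.Lib.Helper19.FSFlat.flat_and_isGeometricallyRegular_iff hs hk).mp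
      ⟨hreg.1, (hreg.2 _).2⟩
  · intro H
    -- local data at each prime
    have Hloc : ∀ (q : Ideal B) [q.IsPrime],
        letI := (Localization.localRingHom (Ideal.comap (algebraMap A B) q) q (algebraMap A B)
          rfl).toAlgebra
        Module.Flat (Localization.AtPrime (Ideal.comap (algebraMap A B) q)) (Localization.AtPrime q) ∧
        CAlg.IsGeometricallyRegular
          (maximalIdeal (Localization.AtPrime (Ideal.comap (algebraMap A B) q))).ResidueField
          ((maximalIdeal (Localization.AtPrime (Ideal.comap (algebraMap A B) q))).Fiber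
            (Localization.AtPrime q)) := by
      intro q _
      letI alg := (Localization.localRingHom (Ideal.comap (algebraMap A B) q) q (algebraMap A B)
        rfl).toAlgebra
      haveI : IsNoetherianRing (Localization.AtPrime (Ideal.comap (algebraMap A B) q)) :=
        IsLocalization.isNoetherianRing (Ideal.comap (algebraMap A B) q).primeCompl _ inferInstance
      haveI : IsNoetherianRing (Localization.AtPrime q) :=
        IsLocalization.isNoetherianRing q.primeCompl _ inferInstance
      haveI : IsLocalHom (algebraMap (Localization.AtPrime (Ideal.comap (algebraMap A B) q))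
          (Localization.AtPrime q)) :=
        Localization.isLocalHom_localRingHom _ _ _ rfl
      have hs : Function.Surjective
          (algebraMap (Localization.AtPrime (Ideal.comap (algebraMap A B) q))
          (maximalIdeal (Localization.AtPrime (Ideal.comap (algebraMap A B) q))).ResidueField) :=
        Ideal.algebraMap_residueField_surjective _
      have hk : RingHom.ker (algebraMap (Localization.AtPrime (Ideal.comap (algebraMap A B) q))
          (maximalIdeal (Localization.AtPrime (Ideal.comap (algebraMap A B) q))).ResidueField) =
          maximalIdeal _ := Ideal.ker_algebraMap_residueField _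
      exact (Groth.Agent.Lib.Helper19.FSFlat.flat_and_isGeometricallyRegular_iff hs hk).mpr (H q)
    have hflat : Module.Flat A B := by
      apply Module.flat_of_isLocalized_maximal B B (fun P _ => Localization.AtPrime P)
        (fun P _ => Algebra.linearMap B _)
      intro n hn
      letI alg := (Localization.localRingHom (Ideal.comap (algebraMap A B) n) n (algebraMap A B)
        rfl).toAlgebra
      haveI : IsScalarTower A (Localization.AtPrime (Ideal.comap (algebraMap A B) n))
          (Localization.AtPrime n) :=
        .of_algebraMap_eq fun x => (Localization.localRingHom_to_map _ _ _ rfl x).symm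
      haveI : Module.Flat (Localization.AtPrime (Ideal.comap (algebraMap A B) n))
          (Localization.AtPrime n) := (Hloc n).1
      exact Module.Flat.trans A (Localization.AtPrime (Ideal.comap (algebraMap A B) n))
        (Localization.AtPrime n)
    refine ⟨hflat, fun P _ => ⟨isNoetherianRing_fiber P, ?_⟩⟩
    intro k' _ _ hfin
    letI : Algebra A k' := ((algebraMap P.ResidueField k').comp (algebraMap A P.ResidueField)).toAlgebra
    haveI : IsScalarTower A P.ResidueField k' := IsScalarTower.of_algebraMap_eq fun _ => rfl
    haveI hNF : IsNoetherianRing (P.Fiber B) := isNoetherianRing_fiber P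
    haveI hN1 : IsNoetherianRing ((P.Fiber B) ⊗[P.ResidueField] k') :=
      IsNoetherianRing.of_finite (P.Fiber B) _
    haveI hN2 : IsNoetherianRing (k' ⊗[P.ResidueField] (P.Fiber B)) :=
      isNoetherianRing_of_ringEquiv _ (Algebra.TensorProduct.comm P.ResidueField (P.Fiber B) k').toRingEquiv
    haveI hN3 : IsNoetherianRing (k' ⊗[A] B) :=
      isNoetherianRing_of_ringEquiv _
        (Algebra.TensorProduct.cancelBaseChange A P.ResidueField k' k' B).toRingEquiv
    have hkerP : RingHom.ker (algebraMap A k') = P := by
      ext r
      rw [RingHom.mem_ker, IsScalarTower.algebraMap_apply A P.ResidueField k',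
        map_eq_zero_iff _ (algebraMap P.ResidueField k').injective,
        Ideal.algebraMap_residueField_eq_zero]
    have key : IsRegularRing (k' ⊗[A] B) := by
      apply isRegularRing_tensor_of_forall_prime k'
      intro n hn hnP hnt
      rw [hkerP] at hnP
      subst hnP
      letI alg := (Localization.localRingHom (Ideal.comap (algebraMap A B) n) n (algebraMap A B)
        rfl).toAlgebra
      have hK := geomRegular_fiber_of_localRingHom A B n
        (maximalIdeal (Localization.AtPrime (Ideal.comap (algebraMap A B) n)))
        (Ideal.comap (algebraMap A B) n)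
        (Localization.AtPrime.comap_maximalIdeal (I := Ideal.comap (algebraMap A B) n)).symm
        (Hloc n).2
      haveI := hK k' hfin
      exact IsRegularRing.of_ringEquiv
        (Algebra.TensorProduct.cancelBaseChange A (Ideal.comap (algebraMap A B) n).ResidueField
          k' k' (Localization.AtPrime n)).toRingEquiv
    exact IsRegularRing.of_ringEquiv
      (Algebra.TensorProduct.cancelBaseChange A P.ResidueField k' k' B).toRingEquiv.symm

end Groth.Agent.S19864
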