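import Groth.Statements.S19866
import Mathlib

set_option autoImplicit false
set_option backward.isDefEq.respectTransparency false
set_option backward.isDefEq.respectTransparency.types false
universe v₁ v₂ v₃ u₁ u₂ u₃
open CategoryTheory CategoryTheory.Functor
open FibCat

namespace Groth.Agent.S19866

open Pseudofunctor Pseudofunctor.CoGrothendieck Opposite

section Transfer

variable {𝒮 : Type u₁} [Category.{v₁} 𝒮] {𝒳 : Type u₂} [Category.{v₂} 𝒳]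
  {𝒴 : Type u₃} [Category.{v₃} 𝒴]

theorem map_map_of_comp_eq_id (Φ : 𝒳 ⥤ 𝒴) (Ψ : 𝒴 ⥤ 𝒳) (h₁ : Φ ⋙ Ψ = 𝟭 𝒳)
    {x y : 𝒳} (m : x ⟶ y) : Ψ.map (Φ.map m) =
      eqToHom (Functor.congr_obj h₁ x) ≫ m ≫ eqToHom (Functor.congr_obj h₁ y).symm := by
  have := Functor.congr_hom h₁ m
  simpa using this

theorem map_injective_of_comp_eq_id (Φ : 𝒳 ⥤ 𝒴) (Ψ : 𝒴 ⥤ 𝒳) (h₁ : Φ ⋙ Ψ = 𝟭 𝒳)
    {x y : 𝒳} (m m' : x ⟶ y) (hm : Φ.map m = Φ.map m') : m = m' := by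
  have h := congrArg Ψ.map hm
  rw [map_map_of_comp_eq_id Φ Ψ h₁, map_map_of_comp_eq_id Φ Ψ h₁] at h
  simpa only [cancel_epi, cancel_mono] using h

theorem isHomLift_comp_iff (q : 𝒴 ⥤ 𝒮) (Φ : 𝒳 ⥤ 𝒴) {R S : 𝒮} (f : R ⟶ S) {b a : 𝒳} (φ : b ⟶ a) :
    (Φ ⋙ q).IsHomLift f φ ↔ q.IsHomLift f (Φ.map φ) := by
  constructor
  · intro h
    apply IsHomLift.of_fac' q f (Φ.map φ) (IsHomLift.domain_eq (Φ ⋙ q) f φ)
      (IsHomLift.codomain_eq (Φ ⋙ q) f φ)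
    exact IsHomLift.fac' (Φ ⋙ q) f φ
  · intro h
    apply IsHomLift.of_fac' (Φ ⋙ q) f φ (IsHomLift.domain_eq q f (Φ.map φ))
      (IsHomLift.codomain_eq q f (Φ.map φ))
    exact IsHomLift.fac' q f (Φ.map φ)

/-- Cartesian morphisms transfer along an isomorphism of categories. -/
theorem isCartesian_of_iso (q : 𝒴 ⥤ 𝒮) (Φ : 𝒳 ⥤ 𝒴) (Ψ : 𝒴 ⥤ 𝒳)
    (h₁ : Φ ⋙ Ψ = 𝟭 𝒳) (h₂ : Ψ ⋙ Φ = 𝟭 𝒴) {R S : 𝒮} (f : R ⟶ S) {b a : 𝒳} (φ : b ⟶ a)
    [hc : q.IsCartesian f (Φ.map φ)] : (Φ ⋙ q).IsCartesian f φ := by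
  have hl : (Φ ⋙ q).IsHomLift f φ := (isHomLift_comp_iff q Φ f φ).2 hc.toIsHomLift
  refine { toIsHomLift := hl, universal_property := ?_ }
  intro a' φ' hφ'
  have hl' : q.IsHomLift f (Φ.map φ') := (isHomLift_comp_iff q Φ f φ').1 hφ'
  have ea' : Ψ.obj (Φ.obj a') = a' := Functor.congr_obj h₁ a'
  have eb : Ψ.obj (Φ.obj b) = b := Functor.congr_obj h₁ b
  have key : Φ.map (eqToHom ea'.symm ≫ Ψ.map (IsCartesian.map q f (Φ.map φ) (Φ.map φ')) ≫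
      eqToHom eb) = IsCartesian.map q f (Φ.map φ) (Φ.map φ') := by
    rw [Functor.map_comp, Functor.map_comp, eqToHom_map, eqToHom_map,
      map_map_of_comp_eq_id Ψ Φ h₂]
    simp
  refine ⟨eqToHom ea'.symm ≫ Ψ.map (IsCartesian.map q f (Φ.map φ) (Φ.map φ')) ≫ eqToHom eb,
    ⟨?_, ?_⟩, ?_⟩
  · rw [isHomLift_comp_iff, key]
    infer_instance
  · apply map_injective_of_comp_eq_id Φ Ψ h₁
    rw [Functor.map_comp, key]
    exact IsCartesian.fac q f (Φ.map φ) (Φ.map φ')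
  · rintro χ ⟨hχ1, hχ2⟩
    apply map_injective_of_comp_eq_id Φ Ψ h₁
    rw [key]
    have : q.IsHomLift (𝟙 R) (Φ.map χ) := (isHomLift_comp_iff q Φ (𝟙 R) χ).1 hχ1
    apply IsCartesian.map_uniq q f (Φ.map φ) (Φ.map φ')
    rw [← Functor.map_comp, hχ2]

end Transfer

section Strict

variable {𝒮 : Type u₁} [Category.{v₁} 𝒮] (F : 𝒮ᵒᵖ ⥤ Cat.{v₂, u₂})

theorem map_toLoc {X Y : 𝒮ᵒᵖ} (f : X ⟶ Y) : F.toPseudofunctor'.map f.toLoc = F.map f := rfl

theorem map_id_obj {X : 𝒮} (g : X ⟶ X) (hg : g = 𝟙 X) (x : F.obj (op X)) :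
    (F.toPseudofunctor'.map g.op.toLoc).toFunctor.obj x = x := by
  subst hg
  rw [map_toLoc, op_id, F.map_id]
  rfl

theorem map_comp_obj {X Y Z : 𝒮} (f : Y ⟶ X) (g : Z ⟶ Y) (k : Z ⟶ X) (hk : k = g ≫ f)
    (x : F.obj (op X)) :
    (F.toPseudofunctor'.map g.op.toLoc).toFunctor.obj
      ((F.toPseudofunctor'.map f.op.toLoc).toFunctor.obj x) =
    (F.toPseudofunctor'.map k.op.toLoc).toFunctor.obj x := by
  subst hk
  rw [map_toLoc, map_toLoc, map_toLoc, op_comp, F.map_comp]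
  rfl

/-- the fibre component is an identity-like morphism -/
def FibEq {X Y : ∫ᶜ F.toPseudofunctor'} (φ : X ⟶ Y) : Prop :=
  ∃ e : X.fiber = (F.toPseudofunctor'.map φ.base.op.toLoc).toFunctor.obj Y.fiber,
    φ.fiber = eqToHom e

variable {F}

theorem hom_ext_of_fibEq {X Y : ∫ᶜ F.toPseudofunctor'} (φ ψ : X ⟶ Y) (hb : φ.base = ψ.base)
    (h1 : FibEq F φ) (h2 : FibEq F ψ) : φ = ψ := by
  obtain ⟨e1, h1⟩ := h1
  obtain ⟨e2, h2⟩ := h2
  apply Hom.ext _ _ hb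
  rw [h1, h2]
  simp

theorem fibEq_eqToHom {X Y : ∫ᶜ F.toPseudofunctor'} (h : X = Y) : FibEq F (eqToHom h) := by
  subst h
  refine ⟨(map_id_obj F _ rfl _).symm, ?_⟩
  simp only [eqToHom_refl, categoryStruct_id_fiber, Functor.toPseudofunctor'_mapId, eqToIso.inv,
    Cat.eqToHom_app]

theorem eqToHom_base {X Y : ∫ᶜ F.toPseudofunctor'} (h : X = Y) :
    (eqToHom h).base = eqToHom (congrArg (fun Z => Z.base) h) := by
  subst h
  rfl

theorem fibEq_comp {X Y Z : ∫ᶜ F.toPseudofunctor'} (φ : X ⟶ Y) (ψ : Y ⟶ Z)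
    (h1 : FibEq F φ) (h2 : FibEq F ψ) : FibEq F (φ ≫ ψ) := by
  obtain ⟨e1, h1⟩ := h1
  obtain ⟨e2, h2⟩ := h2
  refine ⟨?_, ?_⟩
  · rw [e1, e2]
    exact map_comp_obj F _ _ _ rfl _
  · simp only [categoryStruct_comp_fiber, h1, h2, eqToHom_map, Functor.toPseudofunctor'_mapComp,
      eqToIso.inv, Cat.eqToHom_app, eqToHom_trans]

/-- The chosen lifts of the canonical cleavage have identity-like fibre components. -/
theorem fibEq_lift {R S : 𝒮} {a : ∫ᶜ F.toPseudofunctor'}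
    (ha : (forget F.toPseudofunctor').obj a = S) (f : R ⟶ S) :
    FibEq F ((Cleavage.ofCoGrothendieck F.toPseudofunctor').lift ha f) :=
  ⟨rfl, rfl⟩

theorem lift_base {R S : 𝒮} {a : ∫ᶜ F.toPseudofunctor'}
    (ha : (forget F.toPseudofunctor').obj a = S) (f : R ⟶ S) :
    ((Cleavage.ofCoGrothendieck F.toPseudofunctor').lift ha f).base = f ≫ eqToHom ha.symm :=
  rfl

theorem obj_ext {X Y : ∫ᶜ F.toPseudofunctor'} (hb : X.base = Y.base)
    (hf : HEq X.fiber Y.fiber) : X = Y := by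
  obtain ⟨Xb, Xf⟩ := X
  obtain ⟨Yb, Yf⟩ := Y
  dsimp at hb
  subst hb
  dsimp at hf
  rw [eq_of_heq hf]

theorem isSplitting_ofCoGrothendieck :
    (Cleavage.ofCoGrothendieck F.toPseudofunctor').IsSplitting := by
  refine ⟨?_, ?_⟩
  · intro S a ha
    subst ha
    have h : (Cleavage.ofCoGrothendieck F.toPseudofunctor').obj
        (rfl : (forget F.toPseudofunctor').obj a = _) (𝟙 _) = a := by
      refine obj_ext ?_ ?_
      · rfl
      · apply heq_of_eq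
        exact map_id_obj F _ (by simp) _
    refine ⟨h, ?_⟩
    apply hom_ext_of_fibEq _ _ _ (fibEq_lift _ _) (fibEq_eqToHom _)
    rw [lift_base, eqToHom_base]
    simp
    rfl
  · intro S T U f g a ha
    subst ha
    have h : (Cleavage.ofCoGrothendieck F.toPseudofunctor').obj
        ((Cleavage.ofCoGrothendieck F.toPseudofunctor').obj_proj
          (rfl : (forget F.toPseudofunctor').obj a = _) f) g =
        (Cleavage.ofCoGrothendieck F.toPseudofunctor').obj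
          (rfl : (forget F.toPseudofunctor').obj a = _) (g ≫ f) := by
      refine obj_ext ?_ ?_
      · rfl
      · apply heq_of_eq
        exact map_comp_obj F _ _ _ (by simp) _
    refine ⟨h, ?_⟩
    apply hom_ext_of_fibEq _ _ _ (fibEq_comp _ _ (fibEq_lift _ _) (fibEq_lift _ _))
      (fibEq_comp _ _ (fibEq_eqToHom _) (fibEq_lift _ _))
    rw [categoryStruct_comp_base, categoryStruct_comp_base, lift_base, lift_base, lift_base,
      eqToHom_base]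
    simp

end Strict


section TransferCleavage

variable {𝒮 : Type u₁} [Category.{v₁} 𝒮] {𝒳 : Type u₂} [Category.{v₂} 𝒳]
  {𝒴 : Type u₃} [Category.{v₃} 𝒴]

theorem isCartesian_eqToHom_comp (q : 𝒴 ⥤ 𝒮) {R S : 𝒮} (f : R ⟶ S) {a' a b : 𝒴} (e : a' = a)
    (φ : a ⟶ b) [hc : q.IsCartesian f φ] : q.IsCartesian f (eqToHom e ≫ φ) := by
  subst e
  simpa using hc

variable (q : 𝒴 ⥤ 𝒮) (Φ : 𝒳 ⥤ 𝒴) (Ψ : 𝒴 ⥤ 𝒳) (h₁ : Φ ⋙ Ψ = 𝟭 𝒳) (h₂ : Ψ ⋙ Φ = 𝟭 𝒴)
  (L : Cleavage q)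

/-- Transfer of a cleavage along an isomorphism of categories. -/
noncomputable def transferCleavage : Cleavage (Φ ⋙ q) where
  obj {_ _ a} ha f := Ψ.obj (L.obj (a := Φ.obj a) ha f)
  lift {_ _ a} ha f := Ψ.map (L.lift (a := Φ.obj a) ha f) ≫ eqToHom (Functor.congr_obj h₁ a)
  isCartesian {R S a} ha f := by
    have : q.IsCartesian f (Φ.map (Ψ.map (L.lift (a := Φ.obj a) ha f) ≫
        eqToHom (Functor.congr_obj h₁ a))) := by
      rw [Functor.map_comp, eqToHom_map, map_map_of_comp_eq_id Ψ Φ h₂]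
      simp only [Category.assoc, eqToHom_trans, eqToHom_refl, Category.comp_id]
      exact isCartesian_eqToHom_comp q f _ _
    exact isCartesian_of_iso q Φ Ψ h₁ h₂ f _

theorem lift_congr {T U : 𝒮} (g : U ⟶ T) {y y' : 𝒴} (e : y' = y) (hy : q.obj y = T)
    (hy' : q.obj y' = T) :
    ∃ h : L.obj hy' g = L.obj hy g, L.lift hy' g = eqToHom h ≫ L.lift hy g ≫ eqToHom e.symm := by
  subst e
  exact ⟨rfl, by simp⟩

theorem transfer_isSplitting (hL : L.IsSplitting) :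
    (transferCleavage q Φ Ψ h₁ h₂ L).IsSplitting := by
  refine ⟨?_, ?_⟩
  · intro S a ha
    obtain ⟨h', hl⟩ := (hL.1 : L.IsNormalised) (a := Φ.obj a) ha
    have h : (transferCleavage q Φ Ψ h₁ h₂ L).obj ha (𝟙 S) = a := by
      change Ψ.obj (L.obj (a := Φ.obj a) ha (𝟙 S)) = a
      rw [h']
      exact Functor.congr_obj h₁ a
    refine ⟨h, ?_⟩
    change Ψ.map (L.lift (a := Φ.obj a) ha (𝟙 S)) ≫ eqToHom (Functor.congr_obj h₁ a) = _
    rw [hl, eqToHom_map, eqToHom_trans]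
  · intro S T U f g a ha
    have hL2 := hL.2
    obtain ⟨h', hl⟩ := hL2 f g (a := Φ.obj a) ha
    obtain ⟨h'', hl'⟩ := lift_congr q L g (Functor.congr_obj h₂ (L.obj (a := Φ.obj a) ha f))
      (L.obj_proj (a := Φ.obj a) ha f)
      ((transferCleavage q Φ Ψ h₁ h₂ L).obj_proj ha f)
    have h : (transferCleavage q Φ Ψ h₁ h₂ L).obj
        ((transferCleavage q Φ Ψ h₁ h₂ L).obj_proj ha f) g =
        (transferCleavage q Φ Ψ h₁ h₂ L).obj ha (g ≫ f) := by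
      change Ψ.obj (L.obj _ g) = Ψ.obj (L.obj (a := Φ.obj a) ha (g ≫ f))
      rw [← h']
      exact congrArg Ψ.obj h''
    refine ⟨h, ?_⟩
    change (Ψ.map (L.lift _ g) ≫ eqToHom _) ≫ (Ψ.map (L.lift (a := Φ.obj a) ha f) ≫ eqToHom _) =
      eqToHom h ≫ (Ψ.map (L.lift (a := Φ.obj a) ha (g ≫ f)) ≫ eqToHom _)
    rw [hl']
    simp only [Functor.map_comp, eqToHom_map, Category.assoc, eqToHom_trans_assoc, eqToHom_refl,
      Category.id_comp]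
    rw [← Functor.map_comp_assoc, hl]
    simp only [Functor.map_comp, eqToHom_map, Category.assoc, eqToHom_trans_assoc]

end TransferCleavage

theorem result {𝒮 : Type u₁} [Category.{v₁} 𝒮] {𝒳 : Type u₂} [Category.{v₂} 𝒳]
    (p : 𝒳 ⥤ 𝒮) (F : 𝒮ᵒᵖ ⥤ Cat.{v₂, u₂})
    (Φ : 𝒳 ⥤ Pseudofunctor.CoGrothendieck F.toPseudofunctor')
    (Ψ : Pseudofunctor.CoGrothendieck F.toPseudofunctor' ⥤ 𝒳)
    (h₁ : Φ ⋙ Ψ = 𝟭 𝒳) (h₂ : Ψ ⋙ Φ = 𝟭 _)
    (h₃ : Φ ⋙ Pseudofunctor.CoGrothendieck.forget F.toPseudofunctor' = p) :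
    ∃ K : FibCat.Cleavage p, K.IsSplitting := by
  subst h₃
  exact ⟨transferCleavage _ Φ Ψ h₁ h₂ (Cleavage.ofCoGrothendieck F.toPseudofunctor'),
    transfer_isSplitting _ Φ Ψ h₁ h₂ _ isSplitting_ofCoGrothendieck⟩

end Groth.Agent.S19866
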