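import Groth.Statements.S1989
import Groth.Agent.Lib.T2H9RamTower

set_option autoImplicit false
set_option linter.style.haveILetI false
universe u
open EtAlg

namespace Groth.Agent.S1989

open Groth.Agent.Lib.T2H9.ValDom Groth.Agent.Lib.T2H9.RamTower IsLocalRing

/-- Let K be the fraction field of a discrete valuation ring A, and K ⊂ L ⊂ M finite separable
extensions. If M is tamely ramified, respectively unramified, with respect to A, then so is L. -/
theorem result (A K : Type u) [CommRing A] [IsDomain A] [IsDiscreteValuationRing A] [Field K] [Algebra A K] [IsFractionRing A K] (L M : Type u) [Field L] [Field M]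
    [Algebra K L] [Algebra K M] [Algebra L M] [IsScalarTower K L M] [FiniteDimensional K M] [Algebra.IsSeparable K M] :
    (EtRam.IsTamelyRamified A ((algebraMap K M).comp (algebraMap A K)) →
      EtRam.IsTamelyRamified A ((algebraMap K L).comp (algebraMap A K))) ∧
    (EtRam.IsUnramifiedExt A ((algebraMap K M).comp (algebraMap A K)) →
      EtRam.IsUnramifiedExt A ((algebraMap K L).comp (algebraMap A K))) := by
  haveI : FiniteDimensional K L := FiniteDimensional.left K L M
  haveI : Algebra.IsSeparable K L := Algebra.isSeparable_tower_bot_of_isSeparable K L M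
  letI aL : Algebra A L := ((algebraMap K L).comp (algebraMap A K)).toAlgebra
  haveI : IsScalarTower A K L := IsScalarTower.of_algebraMap_eq (fun _ => rfl)
  letI aM : Algebra A M := ((algebraMap K M).comp (algebraMap A K)).toAlgebra
  haveI : IsScalarTower A K M := IsScalarTower.of_algebraMap_eq (fun _ => rfl)
  have hgg' : ∀ a, ((algebraMap K M).comp (algebraMap A K)) a =
      algebraMap L M (((algebraMap K L).comp (algebraMap A K)) a) := by
    intro a
    simp only [RingHom.comp_apply]
    rw [← IsScalarTower.algebraMap_apply K L M]
  constructor
  · intro hM V hV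
    obtain ⟨W, rfl⟩ := exists_comap_eq (algebraMap L M) V
    have hW : EtRam.Dominates A ((algebraMap K M).comp (algebraMap A K)) W :=
      (dominates_congr hgg' W).mp ((dominates_comap_iff _ _ W).mp hV)
    intro hlocV
    haveI : IsDiscreteValuationRing (W.comap (algebraMap L M)) :=
      isDiscreteValuationRing_of_dominates A K L _ hV
    haveI : IsDiscreteValuationRing W := isDiscreteValuationRing_of_dominates A K M W hW
    letI aV : Algebra A (W.comap (algebraMap L M)) :=
      (RingHom.codRestrict ((algebraMap K L).comp (algebraMap A K)) _ hV.1).toAlgebra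
    letI aW : Algebra A W :=
      (RingHom.codRestrict ((algebraMap K M).comp (algebraMap A K)) W hW.1).toAlgebra
    haveI : IsLocalHom (algebraMap A W) := isLocalHom_of_dominates _ W hW
    obtain ⟨hsep, hp⟩ := hM W hW
    letI aVW : Algebra (W.comap (algebraMap L M)) W :=
      (EtRam.inclOfComap W (algebraMap L M)).toAlgebra
    haveI : IsScalarTower A (W.comap (algebraMap L M)) W :=
      IsScalarTower.of_algebraMap_eq (fun a => Subtype.ext (hgg' a))
    haveI : IsLocalHom (algebraMap (W.comap (algebraMap L M)) W) :=
      EtRam.isLocalHom_inclOfComap W (algebraMap L M)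
    refine ⟨separable_bot_of_tower (W := W), fun p hpp hchar hdiv => hp p hpp hchar ?_⟩
    have hVW : Function.Injective (algebraMap (W.comap (algebraMap L M)) W) := by
      intro x y hxy
      have : algebraMap L M (x : L) = algebraMap L M (y : L) := congrArg Subtype.val hxy
      exact Subtype.ext ((algebraMap L M).injective this)
    have hAW : (maximalIdeal A).map (algebraMap A W) ≠ ⊥ := by
      have hinj : Function.Injective (algebraMap A W) := by
        intro x y hxy
        have h1 : ((algebraMap K M).comp (algebraMap A K)) x =
            ((algebraMap K M).comp (algebraMap A K)) y := congrArg Subtype.val hxy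
        exact IsFractionRing.injective A K ((algebraMap K M).injective h1)
      rw [Ne, Ideal.map_eq_bot_iff_of_injective hinj]
      exact IsDiscreteValuationRing.not_a_field A
    rw [ramificationIdx'_tower (V := W.comap (algebraMap L M)) hVW hAW]
    exact Dvd.dvd.mul_right hdiv _
  · intro hM V hV
    obtain ⟨W, rfl⟩ := exists_comap_eq (algebraMap L M) V
    have hW : EtRam.Dominates A ((algebraMap K M).comp (algebraMap A K)) W :=
      (dominates_congr hgg' W).mp ((dominates_comap_iff _ _ W).mp hV)
    intro hlocV
    haveI : IsDiscreteValuationRing (W.comap (algebraMap L M)) :=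
      isDiscreteValuationRing_of_dominates A K L _ hV
    haveI : IsDiscreteValuationRing W := isDiscreteValuationRing_of_dominates A K M W hW
    letI aV : Algebra A (W.comap (algebraMap L M)) :=
      (RingHom.codRestrict ((algebraMap K L).comp (algebraMap A K)) _ hV.1).toAlgebra
    letI aW : Algebra A W :=
      (RingHom.codRestrict ((algebraMap K M).comp (algebraMap A K)) W hW.1).toAlgebra
    haveI : IsLocalHom (algebraMap A W) := isLocalHom_of_dominates _ W hW
    obtain ⟨hwu, hsep⟩ := hM W hW
    letI aVW : Algebra (W.comap (algebraMap L M)) W :=
      (EtRam.inclOfComap W (algebraMap L M)).toAlgebra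
    haveI : IsScalarTower A (W.comap (algebraMap L M)) W :=
      IsScalarTower.of_algebraMap_eq (fun a => Subtype.ext (hgg' a))
    haveI : IsLocalHom (algebraMap (W.comap (algebraMap L M)) W) :=
      EtRam.isLocalHom_inclOfComap W (algebraMap L M)
    exact ⟨weaklyUnramified_comap _ _ (algebraMap L M) hgg' W (fun a => rfl) (fun a => rfl) hwu,
      separable_bot_of_tower (W := W)⟩

end Groth.Agent.S1989
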