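import Groth.Statements.S1990
import Groth.Agent.Lib.T2H9RamTower

set_option autoImplicit false
set_option linter.style.haveILetI false
universe u
open EtAlg

namespace Groth.Agent.S1990

open Groth.Agent.Lib.T2H9.ValDom Groth.Agent.Lib.T2H9.RamTower IsLocalRing

/-- the contraction of a valuation subring is dominated by it -/
theorem dominates_subtype {L M : Type u} [Field L] [Field M] (f : L →+* M)
    (W : ValuationSubring M) :
    EtRam.Dominates (W.comap f) (f.comp (W.comap f).subtype) W := by
  refine ⟨fun x => x.2, fun x hx => ?_⟩
  have := ((W.comap f).valuation_lt_one_iff x).mp hx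
  rwa [valuation_comap_lt_one_iff] at this

/-- Let K be the fraction field of a discrete valuation ring A, and K ⊂ L ⊂ M finite separable
extensions. If L/K is tamely ramified (resp. unramified) with respect to A and M/L is tamely
ramified (resp. unramified) with respect to every valuation subring of L dominating A, then M/K is
tamely ramified (resp. unramified) with respect to A. -/
theorem result (A K : Type u) [CommRing A] [IsDomain A] [IsDiscreteValuationRing A] [Field K] [Algebra A K] [IsFractionRing A K] (L M : Type u) [Field L] [Field M]
    [Algebra K L] [Algebra K M] [Algebra L M] [IsScalarTower K L M] [FiniteDimensional K M] [Algebra.IsSeparable K M] :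
    (EtRam.IsTamelyRamified A ((algebraMap K L).comp (algebraMap A K)) →
      (∀ (V : ValuationSubring L), EtRam.Dominates A ((algebraMap K L).comp (algebraMap A K)) V →
        EtRam.IsTamelyRamified V ((algebraMap L M).comp V.subtype)) →
      EtRam.IsTamelyRamified A ((algebraMap K M).comp (algebraMap A K))) ∧
    (EtRam.IsUnramifiedExt A ((algebraMap K L).comp (algebraMap A K)) →
      (∀ (V : ValuationSubring L), EtRam.Dominates A ((algebraMap K L).comp (algebraMap A K)) V →
        EtRam.IsUnramifiedExt V ((algebraMap L M).comp V.subtype)) →
      EtRam.IsUnramifiedExt A ((algebraMap K M).comp (algebraMap A K))) := by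
  haveI : FiniteDimensional K L := FiniteDimensional.left K L M
  haveI : Algebra.IsSeparable K L := Algebra.isSeparable_tower_bot_of_isSeparable K L M
  letI aL : Algebra A L := ((algebraMap K L).comp (algebraMap A K)).toAlgebra
  haveI : IsScalarTower A K L := IsScalarTower.of_algebraMap_eq (fun _ => rfl)
  letI aM : Algebra A M := ((algebraMap K M).comp (algebraMap A K)).toAlgebra
  haveI : IsScalarTower A K M := IsScalarTower.of_algebraMap_eq (fun _ => rfl)
  have hgg' : ∀ a, ((algebraMap K M).comp (algebraMap A K)) a =
      algebraMap L M (((algebraMap K L).comp (algebraMap A K)) a) := by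
    intro a
    simp only [RingHom.comp_apply]
    rw [← IsScalarTower.algebraMap_apply K L M]
  constructor
  · intro hL hML W hW
    have hV : EtRam.Dominates A ((algebraMap K L).comp (algebraMap A K))
        (W.comap (algebraMap L M)) :=
      (dominates_comap_iff _ _ W).mpr ((dominates_congr hgg' W).mpr hW)
    intro hlocW
    haveI : IsDiscreteValuationRing (W.comap (algebraMap L M)) :=
      isDiscreteValuationRing_of_dominates A K L _ hV
    haveI : IsDiscreteValuationRing W := isDiscreteValuationRing_of_dominates A K M W hW
    letI aV : Algebra A (W.comap (algebraMap L M)) :=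
      (RingHom.codRestrict ((algebraMap K L).comp (algebraMap A K)) _ hV.1).toAlgebra
    letI aW : Algebra A W :=
      (RingHom.codRestrict ((algebraMap K M).comp (algebraMap A K)) W hW.1).toAlgebra
    haveI : IsLocalHom (algebraMap A (W.comap (algebraMap L M))) :=
      isLocalHom_of_dominates _ _ hV
    obtain ⟨hsep1, hp1⟩ := hL _ hV
    have hVW := dominates_subtype (algebraMap L M) W
    letI aVW : Algebra (W.comap (algebraMap L M)) W :=
      (RingHom.codRestrict ((algebraMap L M).comp (W.comap (algebraMap L M)).subtype) W
        hVW.1).toAlgebra
    haveI : IsLocalHom (algebraMap (W.comap (algebraMap L M)) W) :=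
      isLocalHom_of_dominates _ W hVW
    obtain ⟨hsep2, hp2⟩ := hML _ hV W hVW
    haveI : IsScalarTower A (W.comap (algebraMap L M)) W :=
      IsScalarTower.of_algebraMap_eq (fun a => Subtype.ext (hgg' a))
    refine ⟨separable_trans_of_tower (V := W.comap (algebraMap L M)), fun p hpp hchar hdiv => ?_⟩
    haveI : CharP (ResidueField (W.comap (algebraMap L M))) p :=
      charP_of_injective_algebraMap
        (algebraMap (ResidueField A) (ResidueField (W.comap (algebraMap L M)))).injective p
    have hVWinj : Function.Injective (algebraMap (W.comap (algebraMap L M)) W) := by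
      intro x y hxy
      have : algebraMap L M (x : L) = algebraMap L M (y : L) := congrArg Subtype.val hxy
      exact Subtype.ext ((algebraMap L M).injective this)
    have hAW : (maximalIdeal A).map (algebraMap A W) ≠ ⊥ := by
      have hinj : Function.Injective (algebraMap A W) := by
        intro x y hxy
        have h1 : ((algebraMap K M).comp (algebraMap A K)) x =
            ((algebraMap K M).comp (algebraMap A K)) y := congrArg Subtype.val hxy
        exact IsFractionRing.injective A K ((algebraMap K M).injective h1)
      rw [Ne, Ideal.map_eq_bot_iff_of_injective hinj]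
      exact IsDiscreteValuationRing.not_a_field A
    rw [ramificationIdx'_tower (V := W.comap (algebraMap L M)) hVWinj hAW] at hdiv
    rcases (Nat.Prime.dvd_mul hpp).mp hdiv with h | h
    · exact hp1 p hpp hchar h
    · exact hp2 p hpp inferInstance h
  · intro hL hML W hW
    have hV : EtRam.Dominates A ((algebraMap K L).comp (algebraMap A K))
        (W.comap (algebraMap L M)) :=
      (dominates_comap_iff _ _ W).mpr ((dominates_congr hgg' W).mpr hW)
    intro hlocW
    haveI : IsDiscreteValuationRing (W.comap (algebraMap L M)) :=
      isDiscreteValuationRing_of_dominates A K L _ hV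
    haveI : IsDiscreteValuationRing W := isDiscreteValuationRing_of_dominates A K M W hW
    letI aV : Algebra A (W.comap (algebraMap L M)) :=
      (RingHom.codRestrict ((algebraMap K L).comp (algebraMap A K)) _ hV.1).toAlgebra
    letI aW : Algebra A W :=
      (RingHom.codRestrict ((algebraMap K M).comp (algebraMap A K)) W hW.1).toAlgebra
    haveI : IsLocalHom (algebraMap A (W.comap (algebraMap L M))) :=
      isLocalHom_of_dominates _ _ hV
    obtain ⟨hwu1, hsep1⟩ := hL _ hV
    have hVW := dominates_subtype (algebraMap L M) W
    letI aVW : Algebra (W.comap (algebraMap L M)) W :=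
      (RingHom.codRestrict ((algebraMap L M).comp (W.comap (algebraMap L M)).subtype) W
        hVW.1).toAlgebra
    haveI : IsLocalHom (algebraMap (W.comap (algebraMap L M)) W) :=
      isLocalHom_of_dominates _ W hVW
    obtain ⟨hwu2, hsep2⟩ := hML _ hV W hVW
    haveI : IsScalarTower A (W.comap (algebraMap L M)) W :=
      IsScalarTower.of_algebraMap_eq (fun a => Subtype.ext (hgg' a))
    refine ⟨?_, separable_trans_of_tower (V := W.comap (algebraMap L M))⟩
    unfold EtRam.IsWeaklyUnramified at hwu1 hwu2 ⊢
    rw [IsScalarTower.algebraMap_eq A (W.comap (algebraMap L M)) W, ← Ideal.map_map, hwu1, hwu2]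

end Groth.Agent.S1990
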