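import Groth.Statements.S19903
import Mathlib
import Groth.Agent.Lib.T2H6Inertia
import Groth.Agent.Lib.T2H6DiagSp
import Groth.Agent.Lib.Helper15DiagBase

set_option autoImplicit false
universe u
open CategoryTheory AlgebraicGeometry
open AlgSt

namespace Groth.Agent.S19903

/-- For a morphism f : 𝒳 → 𝒴 of algebraic stacks, if the relative inertia 𝓘_{𝒳/𝒴} → 𝒳 is locally
separated then the neutral section e : 𝒳 → 𝓘_{𝒳/𝒴} (the second diagonal of f) is an immersion, and
likewise if the diagonal of f is locally separated. The inertia and the diagonal are representable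
by algebraic spaces and local separatedness is the property of such morphisms. (The published
statement asserts the equivalence of the three conditions: inertia locally separated, diagonal
locally separated, neutral section an immersion; only the two implications towards the last
condition are stated here.) -/
theorem result
    (S : Scheme.{u}) (𝒳 : AlgSt.Cat S) (𝒴 : AlgSt.Cat S)
    (h𝒳 : AlgSt.IsAlgStack Scheme.fppfPrecoverage 𝒳)
    (h𝒴 : AlgSt.IsAlgStack Scheme.fppfPrecoverage 𝒴)
    (f : 𝒳 ⥤ᵇ 𝒴) :
    (AlgSt.RepByAlgSpWith AlgSp.IsLocallySeparatedMor (FibCat.inertiaToBase f) →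
        AlgSt.IsImm (FibCat.inertiaNeutral f)) ∧
      (AlgSt.RepByAlgSpWith AlgSp.IsLocallySeparatedMor (FibCat.diag f) →
        AlgSt.IsImm (FibCat.inertiaNeutral f)) := by
  have hbc : Groth.Agent.Lib.Helper15DiagLft.BCStable (AlgSp.RepWith (S := S) @IsImmersion) :=
    fun _ _ _ _ _ _ _ _ _ _ _ _ sq ha =>
      MorphismProperty.of_isPullback (P := AlgSp.RepWith @IsImmersion) sq ha
  have key : ∀ {𝒜 ℬ : AlgSt.Cat S} (h : 𝒜 ⥤ᵇ ℬ),
      AlgSt.RepByAlgSpWith AlgSp.IsLocallySeparatedMor h →
        AlgSt.RepByAlgSpWith (AlgSp.RepWith @IsImmersion) (FibCat.diag h) := fun h hh =>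
    Groth.Agent.Lib.T2H6.DiagSp.repByAlgSpWith_diag_of_forall_diagonal
      AlgSp.IsLocallySeparatedMor (AlgSp.RepWith @IsImmersion) hbc h hh (fun F T φ hφ => hφ)
  constructor
  · intro h
    exact Groth.Agent.Lib.Helper15DiagBase.repByAlgSpWith_section _ (FibCat.inertiaToBase f)
      (FibCat.inertiaNeutral f) (Groth.Agent.Lib.T2H6.Inertia.neutralSectionIso f) (key _ h)
  · intro h
    exact (Groth.Agent.Lib.T2H6.Inertia.repByAlgSpWith_inertiaNeutral_iff f _).2 (key _ h)

end Groth.Agent.S19903
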