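import Groth.Statements.S19963
import Groth.Agent.Lib.T2H2HorrF

set_option autoImplicit false
open Polynomial TensorProduct
universe u
open CAlg

namespace Groth.Agent.S19963

/-- Let A be a commutative ring and let A(t) denote the localization of the polynomial ring A[t] at the
multiplicative subset of monic polynomials, viewed as an A-algebra. If P and P' are finitely
generated projective A-modules such that A(t) ⊗_A P and A(t) ⊗_A P' are isomorphic A(t)-modules,
then P and P' are isomorphic A-modules: non-isomorphic finite projective modules stay non-isomorphic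
over A(t). (The published statement also covers base change to the ring A((t)) of Laurent power
series, and modules over A(t) itself; only the A(t) assertion for modules over A is stated.) -/
theorem result
    (A : Type u) [CommRing A] (M : Submonoid A[X]) (hM : ∀ f : A[X], f ∈ M ↔ f.Monic)
    (At : Type u) [CommRing At] [Algebra A[X] At] [IsLocalization M At]
    [Algebra A At] [IsScalarTower A A[X] At]
    (P P' : Type u) [AddCommGroup P] [Module A P] [Module.Finite A P] [Module.Projective A P]
    [AddCommGroup P'] [Module A P'] [Module.Finite A P'] [Module.Projective A P']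
    (h : Nonempty ((At ⊗[A] P) ≃ₗ[At] (At ⊗[A] P'))) :
    Nonempty (P ≃ₗ[A] P') := by
  obtain ⟨θ⟩ := h
  obtain ⟨n, ε, hε, ⟨θP⟩⟩ := Groth.Agent.Lib.T2H2.Horr.exists_idempotent (C := A) P
  obtain ⟨n', ε', hε', ⟨θP'⟩⟩ := Groth.Agent.Lib.T2H2.Horr.exists_idempotent (C := A) P'
  obtain ⟨D⟩ := Groth.Agent.Lib.T2H2.Horr.rgBaseChange At hε
  obtain ⟨D'⟩ := Groth.Agent.Lib.T2H2.Horr.rgBaseChange At hε'
  let Θ := LinearEquiv.baseChange A At P _ θP
  let Θ' := LinearEquiv.baseChange A At P' _ θP'
  have hεA : ε.map (algebraMap A At) * ε.map (algebraMap A At) = ε.map (algebraMap A At) := by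
    rw [← Matrix.map_mul, hε]
  have hεA' : ε'.map (algebraMap A At) * ε'.map (algebraMap A At) = ε'.map (algebraMap A At) := by
    rw [← Matrix.map_mul, hε']
  have h1 : Groth.Agent.Lib.T2H2.Horr.Isog (1 : At) (ε.map (algebraMap A At))
      (ε'.map (algebraMap A At)) :=
    Groth.Agent.Lib.T2H2.Horr.Isog.of_rgEquiv hεA hεA'
      (((D.symm.trans Θ.symm).trans θ).trans (Θ'.trans D'))
  have hmap : ∀ {k : Type} (δ : Matrix k k A), δ.map (algebraMap A At) =
      (δ.map (Polynomial.C : A →+* A[X])).map (algebraMap A[X] At) := by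
    intro k δ
    rw [Matrix.map_map]
    refine Matrix.ext fun i j => ?_
    simp only [Matrix.map_apply, Function.comp_apply]
    rw [IsScalarTower.algebraMap_apply A A[X] At]
    rfl
  rw [hmap ε, hmap ε'] at h1
  have hE : ε.map (Polynomial.C : A →+* A[X]) * ε.map (Polynomial.C : A →+* A[X]) =
      ε.map (Polynomial.C : A →+* A[X]) := by rw [← Matrix.map_mul, hε]
  have hE' : ε'.map (Polynomial.C : A →+* A[X]) * ε'.map (Polynomial.C : A →+* A[X]) =
      ε'.map (Polynomial.C : A →+* A[X]) := by rw [← Matrix.map_mul, hε']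
  obtain ⟨t, ht⟩ := Groth.Agent.Lib.T2H2.Horr.Isog.descend M hE hE' (1 : At) 1 1 (by simp) h1
  rw [mul_one] at ht
  have htm : (t : A[X]).Monic := (hM _).1 t.2
  have h2 := Groth.Agent.Lib.T2H2.Horr.isog_one_of_isog_monic_const ε ε' hε hε' _ htm ht
  obtain ⟨β⟩ := h2.rgEquiv
  exact ⟨(θP.trans β).trans θP'.symm⟩

end Groth.Agent.S19963
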