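import Groth.Statements.S20014
import Mathlib
import Groth.Agent.Lib.T2H7NormalPush

set_option autoImplicit false
universe u
open CategoryTheory CategoryTheory.Limits AlgebraicGeometry
open RatSing

namespace Groth.Agent.S20014

/-- Let k be a field, X an integral k-scheme which is separated and of finite type over k, and f : X̃ →
X a proper morphism of k-schemes which is birational — an isomorphism over some nonempty open subset
of X — and for which O_X → f_*O_X̃ is an isomorphism (Γ(V, O_X) → Γ(f⁻¹V, O_X̃) bijective for every
open V of X). If X̃ is normal (every local ring an integrally closed domain), then X is normal. (In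
the text this is the last clause of a lemma whose other hypotheses — X̃ Cohen–Macaulay, vanishing of
the higher direct images of O_X̃ and of the dualizing sheaf — and whose standing assumption that k
is perfect of positive characteristic play no role in this clause; they are omitted here.) -/
theorem result (k : Type u) [Field k]
    (X Xt : Scheme.{u}) [X.Over (Spec (CommRingCat.of k))] [Xt.Over (Spec (CommRingCat.of k))]
    [IsIntegral X] [IsSeparated (X ↘ Spec (CommRingCat.of k))]
    [LocallyOfFiniteType (X ↘ Spec (CommRingCat.of k))] [QuasiCompact (X ↘ Spec (CommRingCat.of k))]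
    (f : Xt ⟶ X) (hf : f ≫ (X ↘ Spec (CommRingCat.of k)) = Xt ↘ Spec (CommRingCat.of k)) [IsProper f]
    (U : X.Opens) (hU : (U : Set X).Nonempty) (hbir : IsIso (f ∣_ U))
    (hfib : ∀ V : X.Opens, IsIso (f.app V))
    (hXt : Pi1.IsNormalScheme Xt) : Pi1.IsNormalScheme X := by
  haveI : IsLocallyNoetherian X := LocallyOfFiniteType.isLocallyNoetherian (X ↘ Spec (CommRingCat.of k))
  haveI : IsLocallyNoetherian Xt := LocallyOfFiniteType.isLocallyNoetherian f
  haveI : CompactSpace X := QuasiCompact.compactSpace_of_compactSpace (X ↘ Spec (CommRingCat.of k))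
  haveI : CompactSpace Xt := QuasiCompact.compactSpace_of_compactSpace f
  haveI : IsNoetherian Xt := {}
  have hbij : ∀ V : X.Opens, Function.Bijective (f.app V).hom := fun V =>
    (ConcreteCategory.isIso_iff_bijective (f.app V)).1 (hfib V)
  let e : Γ(X, ⊤) ≃+* Γ(Xt, f ⁻¹ᵁ ⊤) := RingEquiv.ofBijective (f.app ⊤).hom (hbij ⊤)
  haveI : IsDomain Γ(Xt, f ⁻¹ᵁ ⊤) := e.symm.toMulEquiv.isDomain_iff.mpr inferInstance
  haveI : IsDomain Γ(Xt, ⊤) := this
  haveI : IsIntegral Xt :=
    Groth.Agent.Lib.T2H7.NormalPush.isIntegral_of_isDomain_of_stalks Xt (fun z => (hXt z).1)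
  exact Groth.Agent.Lib.T2H7.NormalPush.isNormalScheme_of_bijective_app' hXt f hbij

end Groth.Agent.S20014
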