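import Groth.Statements.S2013
import Groth.Agent.Lib.T2H9PrincRadCat

set_option autoImplicit false
universe u
open EtAlg

namespace Groth.Agent.S2013

/-- Let R be a catenary Noetherian local normal domain and J a nonzero radical ideal of R. Then J
contains a nonzero element f such that R/fR is reduced. (The source does not say 'nonzero ideal' but
its conclusion requires it.) -/
theorem result (R : Type u) [CommRing R] [IsDomain R] [IsNoetherianRing R]
    [IsLocalRing R] [IsIntegrallyClosed R] (hc : CAlg.IsCatenary R) (J : Ideal R) (hJ : J.IsRadical) (hJ0 : J ≠ ⊥) :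
    ∃ f ∈ J, f ≠ 0 ∧ IsReduced (R ⧸ Ideal.span {f}) := by
  obtain ⟨f, hfJ, hf0, hrad⟩ := Groth.Agent.Lib.T2H9.PrincRadCat.exists_isRadical hc J hJ hJ0
  exact ⟨f, hfJ, hf0, (Ideal.isRadical_iff_quotient_reduced _).mp hrad⟩

end Groth.Agent.S2013
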