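import Groth.Statements.S2050
import Groth.Agent.Lib.T2H2LocFP
import Groth.Agent.S0387

set_option autoImplicit false
universe u
open CAlg

namespace Groth.Agent.S2050

/-- Let `S = R[x_1, …, x_n]` and `M` a finite `S`-module, flat over `R`, such that for every prime `𝔭`
of `R` the localization `M_𝔭` is finitely presented over `S_𝔭`. If `R` embeds into the product of
finitely many of its local rings, then `M` is finitely presented over `S`. -/
theorem result {R : Type u} [CommRing R] (n : ℕ)
    {M : Type u} [AddCommGroup M] [Module (MvPolynomial (Fin n) R) M] [Module R M]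
    [IsScalarTower R (MvPolynomial (Fin n) R) M] [Module.Finite (MvPolynomial (Fin n) R) M] [Module.Flat R M]
    (s : Finset (PrimeSpectrum R))
    (hs : Function.Injective fun r : R => fun p : s => algebraMap R (Localization.AtPrime p.1.asIdeal) r)
    (hloc : ∀ (p : Ideal R) [p.IsPrime],
      Module.FinitePresentation
        (Localization (Algebra.algebraMapSubmonoid (MvPolynomial (Fin n) R) p.primeCompl))
        (LocalizedModule (Algebra.algebraMapSubmonoid (MvPolynomial (Fin n) R) p.primeCompl) M)) :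
    Module.FinitePresentation (MvPolynomial (Fin n) R) M := by
  classical
  obtain ⟨r, π, hπ⟩ := Module.Finite.exists_fin' (MvPolynomial (Fin n) R) M
  rw [← Module.FinitePresentation.fg_ker_iff π hπ]
  -- Step 1: local finite generation at every prime of `R`
  have h1 : ∀ p : PrimeSpectrum R, ∃ K' : Submodule (MvPolynomial (Fin n) R)
      (Fin r → MvPolynomial (Fin n) R), K'.FG ∧ K' ≤ LinearMap.ker π ∧
      ∀ k ∈ LinearMap.ker π, ∃ a : R, a ∉ p.asIdeal ∧
        algebraMap R (MvPolynomial (Fin n) R) a • k ∈ K' := by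
    intro p
    have := hloc p.asIdeal
    obtain ⟨K', hfg, hle, hK'⟩ :=
      Groth.Agent.Lib.T2H2.LocFP.exists_fg_le_ker_of_finitePresentation_localized
        (Algebra.algebraMapSubmonoid (MvPolynomial (Fin n) R) p.asIdeal.primeCompl) π hπ
    refine ⟨K', hfg, hle, fun k hk => ?_⟩
    obtain ⟨t, ⟨a, ha, rfl⟩, htk⟩ := hK' k hk
    exact ⟨a, ha, htk⟩
  choose Kp hKpfg hKple hKp using h1
  apply Groth.Agent.Lib.T2H2.LocFP.fg_of_locFGIdeal_eq_top
  by_contra hne
  obtain ⟨q, hqmax, hJq⟩ := Ideal.exists_le_maximal _ hne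
  have hqprime : q.IsPrime := hqmax.isPrime
  let p : PrimeSpectrum R := ⟨q.comap (algebraMap R (MvPolynomial (Fin n) R)), inferInstance⟩
  let K' : Submodule (MvPolynomial (Fin n) R) (Fin r → MvPolynomial (Fin n) R) :=
    Kp p ⊔ s.sup Kp
  have hK'fg : K'.FG := (hKpfg p).sup (Submodule.fg_finset_sup s Kp fun j _ => hKpfg j)
  have hK'le : K' ≤ LinearMap.ker π :=
    sup_le (hKple p) (Finset.sup_le fun j _ => hKple j)
  have hKpj : ∀ j ∈ s, Kp j ≤ K' := fun j hj =>
    (Finset.le_sup (f := Kp) hj).trans le_sup_right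
  -- the finitely presented approximation
  let φ : ((Fin r → MvPolynomial (Fin n) R) ⧸ K') →ₗ[MvPolynomial (Fin n) R] M :=
    K'.liftQ π hK'le
  have hφ : Function.Surjective φ := by
    intro m
    obtain ⟨f, rfl⟩ := hπ m
    exact ⟨K'.mkQ f, by simp [φ]⟩
  have hfp : Module.FinitePresentation (MvPolynomial (Fin n) R)
      ((Fin r → MvPolynomial (Fin n) R) ⧸ K') :=
    Module.finitePresentation_of_surjective K'.mkQ (Submodule.mkQ_surjective K')
      (by rw [Submodule.ker_mkQ]; exact hK'fg)
  -- flatness at `q`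
  have hflatq : Module.Flat R (LocalizedModule q.primeCompl
      ((Fin r → MvPolynomial (Fin n) R) ⧸ K')) := by
    refine Groth.Agent.Lib.T2H2.LocFP.flat_localizedModule_of_surjective_of_torsion_ker
      q.primeCompl φ hφ ?_
    intro x hx
    obtain ⟨f, rfl⟩ := Submodule.mkQ_surjective K' x
    have hf : f ∈ LinearMap.ker π := by simpa [φ] using hx
    obtain ⟨a, ha, haf⟩ := hKp p f hf
    refine ⟨algebraMap R (MvPolynomial (Fin n) R) a, ha, ?_⟩
    rw [← map_smul, Submodule.mkQ_apply, Submodule.Quotient.mk_eq_zero]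
    exact le_sup_left (a := Kp p) haf
  -- openness of flatness
  have hopen := Groth.Agent.S0387.result (R := R) (S := MvPolynomial (Fin n) R)
    (M := (Fin r → MvPolynomial (Fin n) R) ⧸ K')
  obtain ⟨_, ⟨g, rfl⟩, hgq, hgU⟩ :=
    PrimeSpectrum.isTopologicalBasis_basic_opens.exists_subset_of_mem_open
      (show (⟨q, hqprime⟩ : PrimeSpectrum (MvPolynomial (Fin n) R)) ∈ _ from hflatq) hopen
  have hflatg : Module.Flat R (LocalizedModule (Submonoid.powers g)
      ((Fin r → MvPolynomial (Fin n) R) ⧸ K')) :=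
    Groth.Agent.Lib.T2H2.LocFP.flat_localizedModule_powers_of_forall_prime g
      fun q' hq' hgq' => hgU (show (⟨q', hq'⟩ : PrimeSpectrum _) ∈ _ from hgq')
  -- conclude `g ∈ locFGIdeal`
  have hgmem : g ∈ Groth.Agent.Lib.T2H2.LocFP.locFGIdeal (LinearMap.ker π) := by
    refine ⟨K', hK'fg, hK'le, fun k hk => ?_⟩
    obtain ⟨m, hm⟩ := Groth.Agent.Lib.T2H2.LocFP.exists_pow_smul_eq_zero_of_flat s hs g hflatg
      (K'.mkQ k) (fun j => by
        obtain ⟨a, ha, hak⟩ := hKp j.1 k hk
        refine ⟨a, ha, ?_⟩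
        rw [← algebraMap_smul (MvPolynomial (Fin n) R) a (K'.mkQ k), ← map_smul,
          Submodule.mkQ_apply, Submodule.Quotient.mk_eq_zero]
        exact hKpj j.1 j.2 hak)
    refine ⟨m, ?_⟩
    rw [← map_smul, Submodule.mkQ_apply, Submodule.Quotient.mk_eq_zero] at hm
    exact hm
  exact hgq (hJq hgmem)

end Groth.Agent.S2050
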