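import Groth.Statements.S2055
import Mathlib.LinearAlgebra.TensorProduct.Pi
import Mathlib.RingTheory.Finiteness.Ideal

set_option autoImplicit false
universe u
open TensorProduct

namespace Groth.Agent.S2055

section Aux

variable (R S : Type u) [CommRing R] [CommRing S] [Algebra R S]

/-- the unit map `M → S ⊗ M` -/
noncomputable abbrev um (M : Type u) [AddCommGroup M] [Module R M] : M →ₗ[R] S ⊗[R] M :=
  TensorProduct.mk R S M 1

variable {R S}

lemma um_apply {M : Type u} [AddCommGroup M] [Module R M] (m : M) :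
    um R S M m = (1 : S) ⊗ₜ[R] m := rfl

lemma tmul_eq_zero_of_mem_map (I : Ideal R) {M : Type u} [AddCommGroup M] [Module R M]
    (hM : ∀ a ∈ I, ∀ x : M, a • x = 0) (t : S) (ht : t ∈ I.map (algebraMap R S)) (m : M) :
    t ⊗ₜ[R] m = 0 := by
  unfold Ideal.map at ht
  induction ht using Submodule.span_induction with
  | mem x hx =>
    obtain ⟨a, ha, rfl⟩ := hx
    rw [Algebra.algebraMap_eq_smul_one, TensorProduct.smul_tmul, hM a ha, tmul_zero]
  | zero => exact zero_tmul _ _
  | add x y _ _ hx hy => rw [add_tmul, hx, hy, add_zero]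
  | smul c x _ hx => rw [← TensorProduct.smul_tmul', hx, smul_zero]

/-- the retraction `S → R ⧸ I` -/
lemma exists_retraction (I : Ideal R)
    (hq : Function.Bijective (algebraMap (R ⧸ I) (S ⧸ I.map (algebraMap R S)))) :
    ∃ ρ : S →ₗ[R] (R ⧸ I), ρ 1 = 1 := by
  let J := I.map (algebraMap R S)
  let g : R ⧸ I →ₐ[R] S ⧸ J :=
    Ideal.Quotient.liftₐ I ((Ideal.Quotient.mkₐ R J).comp (Algebra.ofId R S)) (by
      intro a ha
      change Ideal.Quotient.mk J (algebraMap R S a) = 0
      rw [Ideal.Quotient.eq_zero_iff_mem]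
      exact Ideal.mem_map_of_mem _ ha)
  have hg : ∀ x, g x = algebraMap (R ⧸ I) (S ⧸ J) x := by
    intro x
    obtain ⟨x, rfl⟩ := Ideal.Quotient.mk_surjective x
    rfl
  have hgb : Function.Bijective g := by
    have : (g : R ⧸ I → S ⧸ J) = algebraMap (R ⧸ I) (S ⧸ J) := funext hg
    rw [this]; exact hq
  let e : (R ⧸ I) ≃ₐ[R] (S ⧸ J) := AlgEquiv.ofBijective g hgb
  refine ⟨e.symm.toLinearMap ∘ₗ (Ideal.Quotient.mkₐ R J).toLinearMap, ?_⟩
  simp

/-- modules killed by `I` -/
lemma um_bijective_of_killed (I : Ideal R)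
    (hq : Function.Bijective (algebraMap (R ⧸ I) (S ⧸ I.map (algebraMap R S))))
    {M : Type u} [AddCommGroup M] [Module R M] (hM : ∀ a ∈ I, ∀ x : M, a • x = 0) :
    Function.Bijective (um R S M) := by
  constructor
  · -- injective: construct a retraction
    obtain ⟨ρ, hρ⟩ := exists_retraction I hq
    have hker : I ≤ LinearMap.ker (LinearMap.lsmul R M) := by
      intro a ha
      rw [LinearMap.mem_ker]
      ext x
      simpa using hM a ha x
    let μ : (R ⧸ I) →ₗ[R] M →ₗ[R] M := Submodule.liftQ I (LinearMap.lsmul R M) hker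
    let r : S ⊗[R] M →ₗ[R] M := TensorProduct.lift (μ ∘ₗ ρ)
    have hr : ∀ m, r (um R S M m) = m := by
      intro m
      simp only [um_apply, r, TensorProduct.lift.tmul, LinearMap.comp_apply, hρ]
      have h1 : (1 : R ⧸ I) = Submodule.Quotient.mk (1 : R) := rfl
      rw [h1]
      change (Submodule.liftQ I (LinearMap.lsmul R M) hker) (Submodule.Quotient.mk (1 : R)) m = m
      rw [Submodule.liftQ_apply]
      simp
    intro x y hxy
    rw [← hr x, ← hr y, hxy]
  · -- surjective
    intro z
    induction z using TensorProduct.induction_on with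
    | zero => exact ⟨0, map_zero _⟩
    | tmul s m =>
      obtain ⟨q, hq'⟩ := hq.2 (Ideal.Quotient.mk _ s)
      obtain ⟨r, rfl⟩ := Ideal.Quotient.mk_surjective q
      rw [Ideal.Quotient.algebraMap_quotient_map_quotient, Ideal.Quotient.eq] at hq'
      refine ⟨r • m, ?_⟩
      have h0 := tmul_eq_zero_of_mem_map I hM _ hq' m
      rw [sub_tmul, sub_eq_zero] at h0
      rw [um_apply, ← h0, Algebra.algebraMap_eq_smul_one, TensorProduct.smul_tmul]
    | add x y hx hy =>
      obtain ⟨a, rfl⟩ := hx
      obtain ⟨b, rfl⟩ := hy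
      exact ⟨a + b, map_add _ _ _⟩

/-- modules killed by `I ^ n` -/
lemma um_bijective_of_killed_pow [Module.Flat R S] (I : Ideal R)
    (hq : Function.Bijective (algebraMap (R ⧸ I) (S ⧸ I.map (algebraMap R S)))) :
    ∀ (n : ℕ) (M : Type u) [AddCommGroup M] [Module R M],
      (∀ a ∈ I ^ n, ∀ x : M, a • x = 0) → Function.Bijective (um R S M) := by
  intro n
  induction n with
  | zero =>
    intro M _ _ hM
    exact um_bijective_of_killed I hq (fun a _ x => hM a (by simp) x)
  | succ n ih =>
    intro M _ _ hM
    let N : Submodule R M := I • (⊤ : Submodule R M)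
    have hN : ∀ a ∈ I ^ n, ∀ y : N, a • y = 0 := by
      intro a ha y
      apply Subtype.ext
      rw [Submodule.coe_smul, Submodule.coe_zero]
      have hy : (y : M) ∈ I • (⊤ : Submodule R M) := y.2
      refine Submodule.smul_induction_on hy ?_ ?_
      · intro b hb x _
        rw [smul_smul]
        exact hM _ (by rw [pow_succ]; exact Ideal.mul_mem_mul ha hb) x
      · intro x y hx hy
        rw [smul_add, hx, hy, add_zero]
    have hQ : ∀ a ∈ I, ∀ y : M ⧸ N, a • y = 0 := by
      intro a ha y
      obtain ⟨x, rfl⟩ := Submodule.Quotient.mk_surjective _ y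
      rw [← Submodule.Quotient.mk_smul, Submodule.Quotient.mk_eq_zero]
      exact Submodule.smul_mem_smul ha Submodule.mem_top
    have bN := ih N hN
    have bQ := um_bijective_of_killed (S := S) I hq hQ
    have hinj : Function.Injective (N.subtype.lTensor S) :=
      Module.Flat.lTensor_preserves_injective_linearMap _ N.injective_subtype
    have hex : Function.Exact (N.subtype.lTensor S) (N.mkQ.lTensor S) :=
      lTensor_exact S (LinearMap.exact_subtype_mkQ N) N.mkQ_surjective
    constructor
    · rw [injective_iff_map_eq_zero]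
      intro m hm
      have h1 : um R S (M ⧸ N) (N.mkQ m) = 0 := by
        have := congrArg (N.mkQ.lTensor S) hm
        rw [um_apply, LinearMap.lTensor_tmul, map_zero] at this
        exact this
      have h2 : N.mkQ m = 0 := by
        apply bQ.1
        rw [h1, map_zero]
      rw [Submodule.mkQ_apply, Submodule.Quotient.mk_eq_zero] at h2
      have h3 : um R S N ⟨m, h2⟩ = 0 := by
        apply hinj
        rw [map_zero, um_apply, LinearMap.lTensor_tmul]
        exact hm
      have h4 : (⟨m, h2⟩ : N) = 0 := by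
        apply bN.1
        rw [h3, map_zero]
      exact congrArg Subtype.val h4
    · intro z
      obtain ⟨q, hq'⟩ := bQ.2 (N.mkQ.lTensor S z)
      obtain ⟨m, rfl⟩ := N.mkQ_surjective q
      have h1 : N.mkQ.lTensor S (z - um R S M m) = 0 := by
        rw [map_sub, um_apply, LinearMap.lTensor_tmul, ← hq', um_apply, sub_self]
      obtain ⟨w, hw⟩ := (hex _).1 h1
      obtain ⟨y, rfl⟩ := bN.2 w
      refine ⟨m + y.1, ?_⟩
      have h5 : um R S M y.1 = z - um R S M m := by
        rw [← hw]
        simp only [um_apply, LinearMap.lTensor_tmul, Submodule.subtype_apply]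
      rw [map_add, h5]
      abel

/-- the submodule of elements killed by `I ^ n` -/
def tors (I : Ideal R) (n : ℕ) (M : Type u) [AddCommGroup M] [Module R M] : Submodule R M where
  carrier := {x | ∀ a ∈ I ^ n, a • x = 0}
  add_mem' := by
    intro x y hx hy a ha
    rw [smul_add, hx a ha, hy a ha, add_zero]
  zero_mem' := by intro a _; exact smul_zero a
  smul_mem' := by
    intro c x hx a ha
    rw [smul_comm, hx a ha, smul_zero]

lemma tors_killed (I : Ideal R) (n : ℕ) (M : Type u) [AddCommGroup M] [Module R M] :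
    ∀ a ∈ I ^ n, ∀ y : tors I n M, a • y = 0 := by
  intro a ha y
  apply Subtype.ext
  exact y.2 a ha

/-- power-torsion modules -/
lemma um_bijective_of_torsion [Module.Flat R S] (I : Ideal R)
    (hq : Function.Bijective (algebraMap (R ⧸ I) (S ⧸ I.map (algebraMap R S))))
    {M : Type u} [AddCommGroup M] [Module R M]
    (hM : ∀ x : M, ∃ n : ℕ, ∀ a ∈ I ^ n, a • x = 0) :
    Function.Bijective (um R S M) := by
  have key : ∀ (n : ℕ) (x : M), x ∈ tors I n M → ∀ s : S, ∃ y : M,
      y ∈ tors I n M ∧ um R S M y = s ⊗ₜ[R] x := by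
    intro n x hx s
    obtain ⟨y, hy⟩ := (um_bijective_of_killed_pow I hq n (tors I n M) (tors_killed I n M)).2
      (s ⊗ₜ[R] (⟨x, hx⟩ : tors I n M))
    refine ⟨y.1, y.2, ?_⟩
    have := congrArg ((tors I n M).subtype.lTensor S) hy
    rw [um_apply, LinearMap.lTensor_tmul, LinearMap.lTensor_tmul] at this
    exact this
  constructor
  · rw [injective_iff_map_eq_zero]
    intro x hx
    obtain ⟨n, hn⟩ := hM x
    have hinj : Function.Injective ((tors I n M).subtype.lTensor S) :=
      Module.Flat.lTensor_preserves_injective_linearMap _ (tors I n M).injective_subtype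
    have h3 : um R S (tors I n M) ⟨x, hn⟩ = 0 := by
      apply hinj
      rw [map_zero, um_apply, LinearMap.lTensor_tmul]
      exact hx
    have h4 : (⟨x, hn⟩ : tors I n M) = 0 := by
      apply (um_bijective_of_killed_pow I hq n (tors I n M) (tors_killed I n M)).1
      rw [h3, map_zero]
    exact congrArg Subtype.val h4
  · intro z
    induction z using TensorProduct.induction_on with
    | zero => exact ⟨0, map_zero _⟩
    | tmul s m =>
      obtain ⟨n, hn⟩ := hM m
      obtain ⟨y, -, hy⟩ := key n m hn s
      exact ⟨y, hy⟩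
    | add x y hx hy =>
      obtain ⟨a, rfl⟩ := hx
      obtain ⟨b, rfl⟩ := hy
      exact ⟨a + b, map_add _ _ _⟩

/-- an `S`-linear map out of `S ⊗ M` is determined by its values on `1 ⊗ m`. -/
lemma ext_of_um {M N : Type u} [AddCommGroup M] [Module R M] [AddCommGroup N] [Module R N]
    (g g' : S ⊗[R] M →ₗ[S] S ⊗[R] N) (h : ∀ m : M, g ((1 : S) ⊗ₜ[R] m) = g' ((1 : S) ⊗ₜ[R] m)) :
    g = g' := by
  apply TensorProduct.AlgebraTensorModule.ext
  intro s m
  have : s ⊗ₜ[R] m = s • ((1 : S) ⊗ₜ[R] m) := by
    rw [TensorProduct.smul_tmul', smul_eq_mul, mul_one]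
  rw [this, map_smul, map_smul, h]

/-- elements of `S ⊗ N` killed by `I ^ n` come from elements of `N` killed by `I ^ n`. -/
lemma exists_of_killed [Module.Flat R S] (I : Ideal R) (hI : I.FG)
    (hq : Function.Bijective (algebraMap (R ⧸ I) (S ⧸ I.map (algebraMap R S))))
    {N : Type u} [AddCommGroup N] [Module R N] (n : ℕ) (z : S ⊗[R] N)
    (hz : ∀ a ∈ I ^ n, a • z = 0) :
    ∃ y : N, y ∈ tors I n N ∧ um R S N y = z := by
  classical
  obtain ⟨s, hs⟩ : (I ^ n).FG := Ideal.FG.pow (n := n) hI
  let g : N →ₗ[R] (s → N) := LinearMap.pi (fun a => (a : R) • LinearMap.id)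
  have hker : LinearMap.ker g = tors I n N := by
    ext y
    rw [LinearMap.mem_ker]
    constructor
    · intro hy a ha
      rw [← hs] at ha
      induction ha using Submodule.span_induction with
      | mem x hx => exact congrFun hy ⟨x, hx⟩
      | zero => exact zero_smul _ _
      | add x y _ _ hx hy => rw [add_smul, hx, hy, add_zero]
      | smul c x _ hx => rw [smul_eq_mul, mul_smul, hx, smul_zero]
    · intro hy
      funext a
      exact hy a (by rw [← hs]; exact Submodule.subset_span a.2)
  have hex : Function.Exact ((LinearMap.ker g).subtype.lTensor S) (g.lTensor S) :=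
    Module.Flat.lTensor_exact S (LinearMap.exact_subtype_ker_map g)
  have hgz : g.lTensor S z = 0 := by
    apply (TensorProduct.piRight R R S (fun _ : s => N)).injective
    rw [map_zero]
    funext a
    have : ∀ w : S ⊗[R] N, (TensorProduct.piRight R R S (fun _ : s => N)) (g.lTensor S w) a
        = (a : R) • w := by
      intro w
      induction w using TensorProduct.induction_on with
      | zero => simp
      | tmul x y =>
        rw [LinearMap.lTensor_tmul, TensorProduct.piRight_apply, TensorProduct.piRightHom_tmul]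
        simp [g, TensorProduct.tmul_smul]
      | add x y hx hy => rw [map_add, map_add, Pi.add_apply, hx, hy, smul_add]
    rw [this]
    exact hz a (by rw [← hs]; exact Submodule.subset_span a.2)
  obtain ⟨w, hw⟩ := (hex z).1 hgz
  have hkill : ∀ a ∈ I ^ n, ∀ y : LinearMap.ker g, a • y = 0 := by
    intro a ha y
    apply Subtype.ext
    have : (y : N) ∈ tors I n N := by rw [← hker]; exact y.2
    exact this a ha
  obtain ⟨y, rfl⟩ := (um_bijective_of_killed_pow I hq n (LinearMap.ker g) hkill).2 w
  refine ⟨y.1, by rw [← hker]; exact y.2, ?_⟩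
  rw [← hw]
  simp only [um_apply, LinearMap.lTensor_tmul, Submodule.subtype_apply]

end Aux

open TensorProduct in
theorem result {R S M N : Type u} [CommRing R] [CommRing S]
    [Algebra R S] [Module.Flat R S] (I : Ideal R) (hI : I.FG)
    (hq : Function.Bijective (algebraMap (R ⧸ I) (S ⧸ I.map (algebraMap R S))))
    [AddCommGroup M] [Module R M] [AddCommGroup N] [Module R N]
    (hMN : (∀ x : M, ∃ n : ℕ, ∀ a ∈ I ^ n, a • x = 0) ∨ (∀ y : N, ∃ n : ℕ, ∀ a ∈ I ^ n, a • y = 0)) :
    Function.Bijective (fun f : M →ₗ[R] N => LinearMap.baseChange S f) := by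
  have hbc : ∀ (f : M →ₗ[R] N) (m : M), LinearMap.baseChange S f ((1 : S) ⊗ₜ[R] m) = um R S N (f m) :=
    fun f m => LinearMap.baseChange_tmul _ _ _
  rcases hMN with hM | hN
  · -- `M` is power torsion
    -- torsion elements of `N`
    have htors : ∀ y : N, (∃ n, y ∈ tors I n N) → um R S N y = 0 → y = 0 := by
      rintro y ⟨n, hn⟩ hy
      have hinj : Function.Injective ((tors I n N).subtype.lTensor S) :=
        Module.Flat.lTensor_preserves_injective_linearMap _ (tors I n N).injective_subtype
      have h3 : um R S (tors I n N) ⟨y, hn⟩ = 0 := by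
        apply hinj
        rw [map_zero, um_apply, LinearMap.lTensor_tmul]
        exact hy
      have h4 : (⟨y, hn⟩ : tors I n N) = 0 := by
        apply (um_bijective_of_killed_pow I hq n (tors I n N) (tors_killed I n N)).1
        rw [h3, map_zero]
      exact congrArg Subtype.val h4
    constructor
    · intro f f' hff'
      ext m
      obtain ⟨n, hn⟩ := hM m
      rw [← sub_eq_zero]
      apply htors
      · refine ⟨n, fun a ha => ?_⟩
        rw [smul_sub, ← map_smul, ← map_smul, hn a ha, map_zero, map_zero, sub_zero]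
      · rw [map_sub, ← hbc, ← hbc, sub_eq_zero]
        exact congrArg (fun g : S ⊗[R] M →ₗ[S] S ⊗[R] N => g ((1 : S) ⊗ₜ[R] m)) hff'
    · intro g
      -- for each `m`, a unique torsion `y` with `1 ⊗ y = g (1 ⊗ m)`
      have hex : ∀ m : M, ∃ y : N, (∃ n, y ∈ tors I n N) ∧ um R S N y = g ((1 : S) ⊗ₜ[R] m) := by
        intro m
        obtain ⟨n, hn⟩ := hM m
        have hz : ∀ a ∈ I ^ n, a • g ((1 : S) ⊗ₜ[R] m) = 0 := by
          intro a ha
          have : a • g ((1 : S) ⊗ₜ[R] m) = g (a • ((1 : S) ⊗ₜ[R] m)) := by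
            rw [← algebraMap_smul S a (g _), ← map_smul, algebraMap_smul]
          rw [this, ← TensorProduct.tmul_smul, hn a ha, tmul_zero, map_zero]
        obtain ⟨y, hy, hy'⟩ := exists_of_killed I hI hq n _ hz
        exact ⟨y, ⟨n, hy⟩, hy'⟩
      choose φ hφ1 hφ2 using hex
      have huniq : ∀ (y y' : N), (∃ n, y ∈ tors I n N) → (∃ n, y' ∈ tors I n N) →
          um R S N y = um R S N y' → y = y' := by
        rintro y y' ⟨n, hn⟩ ⟨n', hn'⟩ h
        rw [← sub_eq_zero]
        apply htors
        · refine ⟨n + n', fun a ha => ?_⟩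
          rw [smul_sub, hn a (Ideal.pow_le_pow_right (Nat.le_add_right n n') ha),
            hn' a (Ideal.pow_le_pow_right (Nat.le_add_left n' n) ha), sub_zero]
        · rw [map_sub, h, sub_self]
      let f : M →ₗ[R] N :=
        { toFun := φ
          map_add' := by
            intro m m'
            obtain ⟨n, hn⟩ := hφ1 m
            obtain ⟨n', hn'⟩ := hφ1 m'
            apply huniq _ _ (hφ1 _)
            · refine ⟨n + n', fun a ha => ?_⟩
              rw [smul_add, hn a (Ideal.pow_le_pow_right (Nat.le_add_right n n') ha),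
                hn' a (Ideal.pow_le_pow_right (Nat.le_add_left n' n) ha), add_zero]
            · rw [map_add, hφ2, hφ2, hφ2, tmul_add, map_add]
          map_smul' := by
            intro c m
            obtain ⟨n, hn⟩ := hφ1 m
            apply huniq _ _ (hφ1 _)
            · exact ⟨n, fun a ha => by rw [smul_comm, hn a ha, smul_zero]⟩
            · rw [RingHom.id_apply, map_smul, hφ2, hφ2, TensorProduct.tmul_smul]
              rw [← algebraMap_smul S c (g _), ← map_smul, algebraMap_smul] }
      refine ⟨f, ?_⟩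
      apply ext_of_um
      intro m
      rw [hbc]
      exact hφ2 m
  · -- `N` is power torsion
    have bN := um_bijective_of_torsion (S := S) I hq hN
    constructor
    · intro f f' hff'
      ext m
      apply bN.1
      rw [← hbc, ← hbc]
      exact congrArg (fun g : S ⊗[R] M →ₗ[S] S ⊗[R] N => g ((1 : S) ⊗ₜ[R] m)) hff'
    · intro g
      let e : N ≃ₗ[R] S ⊗[R] N := LinearEquiv.ofBijective (um R S N) bN
      let f : M →ₗ[R] N := e.symm.toLinearMap ∘ₗ (g.restrictScalars R) ∘ₗ um R S M
      refine ⟨f, ?_⟩
      apply ext_of_um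
      intro m
      rw [hbc]
      change e (e.symm (g ((1 : S) ⊗ₜ[R] m))) = _
      rw [LinearEquiv.apply_symm_apply]

end Groth.Agent.S2055
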