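import Groth.Statements.S2094
import Groth.Agent.Lib.Helper26SymSmooth
import Groth.Agent.Lib.Helper10SymKaehler

set_option autoImplicit false
universe u
open CAlg
open TensorProduct

namespace Groth.Agent.S2094

theorem result {A M : Type u} [CommRing A] [AddCommGroup M] [Module A M] :
    Algebra.Smooth A (SymmetricAlgebra A M) ↔ Module.Finite A M ∧ Module.Projective A M := by
  constructor
  · intro hsm
    have hbij := Groth.Agent.Lib.Helper10.kaehler_symmetricAlgebra_bijective A M
    let e : (SymmetricAlgebra A M ⊗[A] M) ≃ₗ[SymmetricAlgebra A M] Ω[SymmetricAlgebra A M⁄A] :=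
      LinearEquiv.ofBijective _ hbij
    haveI : Module.Finite (SymmetricAlgebra A M) (SymmetricAlgebra A M ⊗[A] M) :=
      Module.Finite.equiv e.symm
    haveI : Module.Projective (SymmetricAlgebra A M) (SymmetricAlgebra A M ⊗[A] M) :=
      Module.Projective.of_equiv e.symm
    obtain ⟨n, t, s, -, -, hts⟩ := Module.Finite.exists_comp_eq_id_of_projective
      (SymmetricAlgebra A M) (SymmetricAlgebra A M ⊗[A] M)
    let aug : SymmetricAlgebra A M →ₐ[A] A := SymmetricAlgebra.algebraMapInv
    let σ : M →ₗ[A] SymmetricAlgebra A M ⊗[A] M := TensorProduct.mk A (SymmetricAlgebra A M) M 1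
    let ρ : SymmetricAlgebra A M ⊗[A] M →ₗ[A] M :=
      TensorProduct.lift ((LinearMap.lsmul A M) ∘ₗ aug.toLinearMap)
    have hρ_tmul : ∀ (b : SymmetricAlgebra A M) (m : M), ρ (b ⊗ₜ[A] m) = aug b • m := by
      intro b m
      simp [ρ]
    have hρ : ∀ (b : SymmetricAlgebra A M) (x : SymmetricAlgebra A M ⊗[A] M),
        ρ (b • x) = aug b • ρ x := by
      intro b x
      induction x using TensorProduct.induction_on with
      | zero => simp
      | tmul c m =>
        rw [TensorProduct.smul_tmul', hρ_tmul, hρ_tmul, smul_eq_mul, map_mul, mul_smul]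
      | add x y hx hy => rw [smul_add, map_add, map_add, hx, hy, smul_add]
    have hρσ : ∀ m, ρ (σ m) = m := by
      intro m
      change ρ ((1 : SymmetricAlgebra A M) ⊗ₜ[A] m) = m
      rw [hρ_tmul, map_one, one_smul]
    let f : M →ₗ[A] (Fin n → A) :=
      LinearMap.pi (fun i => aug.toLinearMap ∘ₗ
        ((LinearMap.proj i : (Fin n → SymmetricAlgebra A M) →ₗ[SymmetricAlgebra A M] _).restrictScalars A)
          ∘ₗ (s.restrictScalars A) ∘ₗ σ)
    let g : (Fin n → A) →ₗ[A] M :=
      ∑ i, (LinearMap.proj i : (Fin n → A) →ₗ[A] A).smulRight (ρ (t (Pi.single i 1)))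
    have hgf : g ∘ₗ f = LinearMap.id := by
      ext m
      have h1 : (g ∘ₗ f) m = ∑ i, aug (s (σ m) i) • ρ (t (Pi.single i 1)) := by
        simp [g, f]
      have h2 : σ m = ∑ i, s (σ m) i • t (Pi.single i 1) := by
        have h3 : t (s (σ m)) = σ m := congr($hts (σ m))
        conv_lhs => rw [← h3]
        have h4 : s (σ m) = ∑ i, s (σ m) i • (Pi.single i 1 : Fin n → SymmetricAlgebra A M) := by
          funext j
          simp [Finset.sum_apply, Pi.single_apply]
        conv_lhs => rw [h4]
        rw [map_sum]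
        refine Finset.sum_congr rfl fun i _ => ?_
        rw [map_smul]
      rw [h1, LinearMap.id_apply]
      conv_rhs => rw [← hρσ m, h2, map_sum]
      refine Finset.sum_congr rfl fun i _ => ?_
      rw [hρ]
    refine ⟨?_, Module.Projective.of_split f g hgf⟩
    have hsurj : Function.Surjective g := fun m => ⟨f m, congr($hgf m)⟩
    exact Module.Finite.of_surjective g hsurj
  · rintro ⟨hfin, hproj⟩
    obtain ⟨n, p, i, -, -, hpi⟩ := Module.Finite.exists_comp_eq_id_of_projective A M
    have h : IsSymmetricAlgebra (SymmetricAlgebra.ι A M) := SymmetricAlgebra.isSymmetricAlgebra_ι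
    exact ⟨Groth.Agent.Lib.Helper26.SymSmooth.formallySmooth h,
      Groth.Agent.Lib.Helper26.SymSmooth.finitePresentation h i p hpi⟩

end Groth.Agent.S2094
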