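import Groth.Statements.S2108
import Groth.Agent.Lib.T2H7JacCritC

set_option autoImplicit false
universe u
open Smoothing

namespace Groth.Agent.S2108

/-- Let `A = R[x_1, …, x_n]/(f_1, …, f_m)` and `𝔮` a prime of `A` at which `R → A` is smooth. Then there
are `a ∈ A ∖ 𝔮`, an integer `c` and injections picking `c` relations and `c` variables such that `a`
is a multiple of the image of the corresponding Jacobian minor and `a f_ℓ` lies in the ideal
generated by the chosen relations plus the square of the relation ideal, for every `ℓ`. -/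
theorem result {R A : Type u} [CommRing R] [CommRing A] [Algebra R A] {n m : ℕ}
    (f : Fin m → MvPolynomial (Fin n) R) (φ : MvPolynomial (Fin n) R →ₐ[R] A) (hφ : Function.Surjective φ)
    (hker : RingHom.ker φ.toRingHom = Ideal.span (Set.range f)) (q : Ideal A) [q.IsPrime] [Algebra.IsSmoothAt R q] :
    ∃ a : A, a ∉ q ∧ ∃ (c : ℕ) (rows : Fin c ↪ Fin m) (cols : Fin c ↪ Fin n) (a' : A),
      a = a' * φ (Smoothing.jacobianMinor f rows cols) ∧
      ∀ a₁ : MvPolynomial (Fin n) R, φ a₁ = a → ∀ ℓ : Fin m,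
        a₁ * f ℓ ∈ Ideal.span (Set.range (f ∘ rows)) ⊔ Ideal.span (Set.range f) ^ 2 := by
  obtain ⟨c, rows, cols, hmin, a₀, ha₀, hgen⟩ :=
    Groth.Agent.Lib.T2H7.JacCritC.exists_rows_cols f φ hφ hker q inferInstance
  refine ⟨φ a₀ * φ (Smoothing.jacobianMinor f rows cols), ?_, c, rows, cols, φ a₀, rfl, ?_⟩
  · intro h
    rcases Ideal.IsPrime.mem_or_mem inferInstance h with h | h
    · exact ha₀ h
    · exact hmin h
  · intro a₁ ha₁ ℓ
    have h1 : a₁ - a₀ * Smoothing.jacobianMinor f rows cols ∈ Ideal.span (Set.range f) := by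
      rw [← hker, RingHom.mem_ker]
      show φ (a₁ - a₀ * Smoothing.jacobianMinor f rows cols) = 0
      rw [map_sub, map_mul, ha₁, sub_self]
    have h2 : a₁ * f ℓ = (a₁ - a₀ * Smoothing.jacobianMinor f rows cols) * f ℓ +
        Smoothing.jacobianMinor f rows cols * (a₀ * f ℓ) := by ring
    rw [h2]
    refine Ideal.add_mem _ (Ideal.mem_sup_right ?_) (Ideal.mem_sup_left ?_)
    · rw [pow_two]
      exact Ideal.mul_mem_mul h1 (Ideal.subset_span ⟨ℓ, rfl⟩)
    · exact Ideal.mul_mem_left _ _ (hgen ℓ)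

end Groth.Agent.S2108
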