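import Groth.Statements.S2167
import Groth.Agent.Lib.Helper28Unmixed
import Groth.Agent.Lib.Helper5RLR3

set_option autoImplicit false
universe u
open LCI

namespace Groth.Agent.S2167


section helpers
variable {R : Type u} [CommRing R]

/-- The classes of generators of `I` generate the conormal module. -/
theorem span_toCotangent_eq_top (I : Ideal R) (rs : List R) (hrs : Ideal.ofList rs = I) :
    Submodule.span (R ⧸ I) {t : I.Cotangent | ∃ r ∈ rs, ∃ hr : r ∈ I, I.toCotangent ⟨r, hr⟩ = t} = ⊤ := by
  rw [eq_top_iff]
  rintro t -
  obtain ⟨⟨x, hx⟩, rfl⟩ := I.toCotangent_surjective t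
  have hx' : x ∈ Ideal.span {r | r ∈ rs} := by rw [← Ideal.ofList, hrs]; exact hx
  have key : ∀ y (hy : y ∈ Ideal.span {r | r ∈ rs}), ∀ hyI : y ∈ I,
      I.toCotangent ⟨y, hyI⟩ ∈ Submodule.span (R ⧸ I)
        {t : I.Cotangent | ∃ r ∈ rs, ∃ hr : r ∈ I, I.toCotangent ⟨r, hr⟩ = t} := by
    intro y hy
    induction hy using Submodule.span_induction with
    | mem y hy =>
      intro hyI
      exact Submodule.subset_span ⟨y, hy, hyI, rfl⟩
    | zero =>
      intro _
      have : (⟨0, ‹_›⟩ : I) = 0 := rfl
      rw [this, map_zero]
      exact zero_mem _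
    | add a b ha hb iha ihb =>
      intro _
      have haI : a ∈ I := by rw [← hrs]; exact ha
      have hbI : b ∈ I := by rw [← hrs]; exact hb
      have : (⟨a + b, ‹_›⟩ : I) = ⟨a, haI⟩ + ⟨b, hbI⟩ := rfl
      rw [this, map_add]
      exact add_mem (iha haI) (ihb hbI)
    | smul a b hb ihb =>
      intro _
      have hbI : b ∈ I := by rw [← hrs]; exact hb
      have : (⟨a • b, ‹_›⟩ : I) = a • ⟨b, hbI⟩ := rfl
      rw [this, map_smul, ← algebraMap_smul (R ⧸ I) a (I.toCotangent ⟨b, hbI⟩)]
      exact Submodule.smul_mem _ _ (ihb hbI)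
  exact key x hx' hx

end helpers

/-- Equivalence of (2) and (3), special case with R already a regular local ring: for a regular local
ring R and a proper ideal I, the ideal I is generated by a regular sequence if and only if the
conormal module I/I^2 can be generated by (dim R - dim R/I) elements, the inequality below being the
additive form of that count. -/
theorem result {R : Type u} [CommRing R] [IsRegularLocalRing R]
    (I : Ideal R) (hI : I ≠ ⊤) :
    (∃ rs : List R, Ideal.ofList rs = I ∧ RingTheory.Sequence.IsRegular R rs) ↔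
      (((⊤ : Submodule (R ⧸ I) I.Cotangent).spanFinrank : WithBot ℕ∞) + ringKrullDim (R ⧸ I)
        ≤ ringKrullDim R) := by
  classical
  have hCM : LocCoh.IsCohenMacaulayLocalRing R :=
    Groth.Agent.Lib.Helper5.isCohenMacaulayLocalRing_of_isRegularLocalRing R
  have hNoeth : IsNoetherianRing R := inferInstance
  have hIm : I ≤ IsLocalRing.maximalIdeal R := IsLocalRing.le_maximalIdeal hI
  constructor
  · rintro ⟨rs, hrs, hreg⟩
    have hdim := ringKrullDim_add_length_eq_ringKrullDim_of_isRegular rs hreg
    rw [hrs] at hdim
    have hspan := span_toCotangent_eq_top I rs hrs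
    -- bound the number of generators
    have hrsI : ∀ r ∈ rs, r ∈ I := by
      intro r hr
      rw [← hrs]
      exact Ideal.subset_span hr
    have hle : (⊤ : Submodule (R ⧸ I) I.Cotangent).spanFinrank ≤ rs.length := by
      let f : Fin rs.length → I.Cotangent := fun i =>
        I.toCotangent ⟨rs[i], hrsI _ (List.getElem_mem i.2)⟩
      let s' : Finset I.Cotangent := Finset.univ.image f
      have hsub : {t : I.Cotangent | ∃ r ∈ rs, ∃ hr : r ∈ I, I.toCotangent ⟨r, hr⟩ = t} ⊆
          (s' : Set I.Cotangent) := by
        rintro t ⟨r, hr, hrI, rfl⟩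
        obtain ⟨i, hi, rfl⟩ := List.getElem_of_mem hr
        exact Finset.mem_coe.mpr (Finset.mem_image.mpr ⟨⟨i, hi⟩, Finset.mem_univ _, rfl⟩)
      have htop : Submodule.span (R ⧸ I) (s' : Set I.Cotangent) = ⊤ := by
        rw [eq_top_iff, ← hspan]
        exact Submodule.span_mono hsub
      have h1 := Submodule.spanFinrank_span_le_ncard_of_finite (R := R ⧸ I) s'.finite_toSet
      rw [htop, Set.ncard_coe_finset] at h1
      refine h1.trans ?_
      refine Finset.card_image_le.trans ?_
      simp
    rw [← hdim, add_comm]
    exact add_le_add le_rfl (by exact_mod_cast hle)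
  · intro hle
    set c := (⊤ : Submodule (R ⧸ I) I.Cotangent).spanFinrank with hc
    have hfg : (⊤ : Submodule (R ⧸ I) I.Cotangent).FG := by
      have : Module.Finite (R ⧸ I) I.Cotangent := by
        have h1 : Module.Finite R I := Module.IsNoetherian.finite R I
        have h2 : Module.Finite R I.Cotangent :=
          Module.Finite.of_surjective I.toCotangent I.toCotangent_surjective
        exact Module.Finite.of_restrictScalars_finite R (R ⧸ I) I.Cotangent
      exact this.1
    obtain ⟨s, hscard, hsspan⟩ := hfg.exists_span_finset_card_eq_spanFinrank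
    choose lift hlift using fun t : I.Cotangent => I.toCotangent_surjective t
    let ys : List R := s.toList.map (fun t => (lift t : R))
    have hys_len : ys.length = c := by simp [ys, hscard, hc]
    have hys_I : ∀ y ∈ ys, y ∈ I := by
      intro y hy
      obtain ⟨t, -, rfl⟩ := List.mem_map.mp hy
      exact (lift t).2
    have hys_mem : ∀ y ∈ ys, y ∈ IsLocalRing.maximalIdeal R := fun y hy => hIm (hys_I y hy)
    have hJle : Ideal.ofList ys ≤ I := Ideal.span_le.mpr hys_I
    -- Nakayama
    have hIJ : I ≤ Ideal.ofList ys := by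
      refine Submodule.le_of_le_smul_of_le_jacobson_bot (I := I) (N' := I) (N := Ideal.ofList ys)
        (IsNoetherian.noetherian I) ?_ ?_
      · rw [IsLocalRing.jacobson_eq_maximalIdeal ⊥ bot_ne_top]
        exact hIm
      · intro x hx
        -- the submodule of classes of elements of `J`
        let T : Submodule (R ⧸ I) I.Cotangent :=
          { carrier := {t | ∃ y : I, (y : R) ∈ Ideal.ofList ys ∧ I.toCotangent y = t}
            add_mem' := by
              rintro _ _ ⟨y, hy, rfl⟩ ⟨z, hz, rfl⟩
              exact ⟨y + z, add_mem hy hz, map_add _ _ _⟩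
            zero_mem' := ⟨0, zero_mem _, map_zero _⟩
            smul_mem' := by
              rintro a _ ⟨y, hy, rfl⟩
              obtain ⟨a, rfl⟩ := Ideal.Quotient.mk_surjective a
              refine ⟨a • y, Ideal.mul_mem_left _ _ hy, ?_⟩
              rw [map_smul]
              exact (algebraMap_smul (R ⧸ I) a (I.toCotangent y)).symm }
        have hsT : (s : Set I.Cotangent) ⊆ T := by
          intro t ht
          refine ⟨lift t, Ideal.subset_span ?_, hlift t⟩
          exact List.mem_map.mpr ⟨t, Finset.mem_toList.mpr ht, rfl⟩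
        have hT : T = ⊤ := by
          rw [eq_top_iff, ← hsspan]
          exact Submodule.span_le.mpr hsT
        have hxT : I.toCotangent ⟨x, hx⟩ ∈ T := by rw [hT]; trivial
        obtain ⟨y, hyJ, hy⟩ := hxT
        have h2 := (Ideal.toCotangent_eq I).mp hy
        have : x = (y : R) + (x - y) := by ring
        rw [this]
        refine Submodule.add_mem_sup hyJ ?_
        have h3 : ((x - y : R)) ∈ I ^ 2 := by
          have : ((y : R) - x) ∈ I ^ 2 := h2
          have h4 := neg_mem this
          rwa [neg_sub] at h4
        rw [pow_two] at h3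
        exact h3
    have hJ : Ideal.ofList ys = I := le_antisymm hJle hIJ
    refine ⟨ys, hJ, ?_⟩
    refine RingTheory.Sequence.IsRegular.of_isWeaklyRegular_of_mem_maximalIdeal R hys_mem ?_
    have h1 := Groth.Agent.Lib.Helper28.supportDim_le_supportDim_quot_ofList_add_length_local ys R hys_mem
    have e : (R ⧸ (Ideal.ofList ys • ⊤ : Submodule R R)) ≃ₗ[R] (R ⧸ Ideal.ofList ys) :=
      Submodule.quotEquivOfEq _ _ (by rw [smul_eq_mul, Ideal.mul_top])
    have h2 : Module.supportDim R (R ⧸ (Ideal.ofList ys • ⊤ : Submodule R R)) =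
        ringKrullDim (R ⧸ I) := by
      rw [Module.supportDim_eq_of_equiv e, Module.supportDim_quotient_eq_ringKrullDim, hJ]
    have hdim : Module.supportDim R (R ⧸ (Ideal.ofList ys • ⊤ : Submodule R R)) + ys.length =
        Module.supportDim R R := by
      refine le_antisymm ?_ h1
      rw [h2, Module.supportDim_self_eq_ringKrullDim, hys_len, add_comm]
      exact hle
    exact Groth.Agent.Lib.Helper28.isWeaklyRegular_of_supportDim_add_length_eq ys R
      hCM.supportDim_eq_depth hys_mem hdim

end Groth.Agent.S2167
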