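import Groth.Statements.S2181
import Groth.Agent.Lib.T2H4PicInt

set_option autoImplicit false
open Finset
open Models Models.NumericalType

namespace Groth.Agent.S2181

/-- If the genus of a numerical type is at most 0 then its Picard group is infinite cyclic. -/
theorem result {n : ℕ} (T : Models.NumericalType n) (hg : T.genus ≤ 0) : Nonempty (T.Pic ≃+ ℤ) := by
  exact Groth.Agent.Lib.T2H4.Contract.pic_equiv_int n T hg

end Groth.Agent.S2181
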