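import Groth.Statements.S2224
import Groth.Agent.Lib.T2H1FMFlat
import Groth.Agent.Lib.T2H8ShriekSheaf
import Groth.Agent.Lib.T2H1RelPCnoeth
import Groth.Agent.Lib.T2H5GenIsoB
import Groth.Agent.Lib.T2H5GenIsoD
import Groth.Agent.Lib.Helper23TensorQCoh
import Groth.Agent.S1001
import Groth.Agent.Lib.T2H8PerfCoh

set_option autoImplicit false
universe u
open CategoryTheory AlgebraicGeometry
attribute [local instance] HasDerivedCategory.standard
open QCohCat

namespace Groth.Agent.S2224

/-- Case (2) with the kernel a single coherent module: let S be a Noetherian scheme, X -> S and Y -> S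
of finite type, and K a coherent module on X x_S Y which is flat over X and whose support is proper
over Y. Assuming the derived functors L pr_1^*, - tensor^L K and R pr_2,* exist (assumed as unproved
hypotheses), the Fourier-Mukai transform R pr_2,* (L pr_1^* M tensor^L K) of any bounded object M of
D(O_X) with coherent cohomology sheaves is a bounded object of D(O_Y) with coherent cohomology
sheaves. -/
theorem result {S X Y : Scheme.{u}} [IsNoetherian S]
    (a : X ⟶ S) (b : Y ⟶ S) [LocallyOfFiniteType a] [QuasiCompact a] [LocallyOfFiniteType b]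
    [QuasiCompact b] (K : (Limits.pullback a b).Modules) (hK : Coh.IsCoh K)
    (hflat : FlatMod.IsFlatOver (Limits.pullback.fst a b) K)
    (hsupp : ClSub.IsProperOver (Limits.pullback.snd a b) (CohB1.support K))
    [DCoh.HasLpull (Limits.pullback.fst a b)] [DCoh.HasLTensorMod K]
    [DCoh.HasRpush (Limits.pullback.snd a b)]
    (M : DCoh.D X) (hM : DCoh.IsCohD M) (m n : ℤ) (hMge : DerivedCategory.IsGE M m)
    (hMle : DerivedCategory.IsLE M n) :
    DCoh.IsCohD ((DCoh.Rpush (Limits.pullback.snd a b)).obj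
        ((DCoh.LTensorMod K).obj ((DCoh.Lpull (Limits.pullback.fst a b)).obj M))) ∧
      ∃ m' n' : ℤ, DerivedCategory.IsGE ((DCoh.Rpush (Limits.pullback.snd a b)).obj
          ((DCoh.LTensorMod K).obj ((DCoh.Lpull (Limits.pullback.fst a b)).obj M))) m' ∧
        DerivedCategory.IsLE ((DCoh.Rpush (Limits.pullback.snd a b)).obj
          ((DCoh.LTensorMod K).obj ((DCoh.Lpull (Limits.pullback.fst a b)).obj M))) n' := by
  haveI : CompactSpace Y := QuasiCompact.compactSpace_of_compactSpace b
  haveI : IsLocallyNoetherian Y := LocallyOfFiniteType.isLocallyNoetherian b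
  haveI : IsNoetherian Y := {}
  haveI : IsLocallyNoetherian (Limits.pullback a b) := inferInstance
  -- the cohomology sheaves
  have key : ∀ i : ℤ, Nonempty (DCoh.HD ((DCoh.LTensorMod K).obj
      ((DCoh.Lpull (Limits.pullback.fst a b)).obj M)) i ≅
      (Groth.Agent.Lib.T2H1.FMFlat.GK (Limits.pullback.fst a b) K).obj (DCoh.HD M i)) := fun i =>
    Groth.Agent.Lib.T2H1.FMFlat.nonempty_HD_LTensorMod_Lpull_iso (Limits.pullback.fst a b) K hflat M i
  have hcohG : ∀ F : X.Modules, Coh.IsCoh F →
      Coh.IsCoh ((Groth.Agent.Lib.T2H1.FMFlat.GK (Limits.pullback.fst a b) K).obj F) := by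
    intro F hF
    have hp : Coh.IsCoh ((Scheme.Modules.pullback (Limits.pullback.fst a b)).obj F) :=
      Groth.Agent.Lib.T2H5.GenIsoD.isCoh_pullback _ F hF
    haveI := hp.1
    haveI : SheafOfModules.IsFiniteType (R := (Limits.pullback a b).ringCatSheaf)
      ((Scheme.Modules.pullback (Limits.pullback.fst a b)).obj F) := hp.2
    haveI := hK.1
    haveI : SheafOfModules.IsFiniteType (R := (Limits.pullback a b).ringCatSheaf) K := hK.2
    exact ⟨Groth.Agent.Lib.Helper23.TensorQCoh.isQuasicoherent_tensorMod _ K,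
      Groth.Agent.Lib.Helper23.TensorQCoh.isFiniteType_tensorMod _ K⟩
  have hNc : DCoh.IsCohD ((DCoh.LTensorMod K).obj
      ((DCoh.Lpull (Limits.pullback.fst a b)).obj M)) := fun i => by
    obtain ⟨e⟩ := key i
    exact Groth.Agent.Lib.T2H8.PerfCoh.isCoh_of_iso e.symm (hcohG _ (hM i))
  haveI hNge : ((DCoh.LTensorMod K).obj
      ((DCoh.Lpull (Limits.pullback.fst a b)).obj M)).IsGE m := by
    rw [DerivedCategory.isGE_iff]
    intro i hi
    obtain ⟨e⟩ := key i
    exact Limits.IsZero.of_iso ((Groth.Agent.Lib.T2H1.FMFlat.GK (Limits.pullback.fst a b) K).map_isZero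
      ((DerivedCategory.isGE_iff M m).1 hMge i hi)) e
  haveI hNle : ((DCoh.LTensorMod K).obj
      ((DCoh.Lpull (Limits.pullback.fst a b)).obj M)).IsLE n := by
    rw [DerivedCategory.isLE_iff]
    intro i hi
    obtain ⟨e⟩ := key i
    exact Limits.IsZero.of_iso ((Groth.Agent.Lib.T2H1.FMFlat.GK (Limits.pullback.fst a b) K).map_isZero
      ((DerivedCategory.isLE_iff M n).1 hMle i hi)) e
  have hsN : ∀ i : ℤ, ClSub.IsProperOver (Limits.pullback.snd a b) (CohB1.support (DCoh.HD
      ((DCoh.LTensorMod K).obj ((DCoh.Lpull (Limits.pullback.fst a b)).obj M)) i)) := fun i => by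
    obtain ⟨e⟩ := key i
    refine Groth.Agent.Lib.T2H8.ShriekSheaf.isProperOver_of_subset (Limits.pullback.snd a b) hsupp
      (Groth.Agent.Lib.T2H1.RelPCnoeth.isClosed_support_of_isCoh _ (hNc i)) ?_
    rw [Groth.Agent.Lib.T2H5.GenIsoB.support_eq_of_iso e]
    exact Groth.Agent.Lib.T2H1.FMFlat.support_GK_subset (Limits.pullback.fst a b) K _
  obtain ⟨h1, h2, b', h3⟩ := Groth.Agent.S1001.result (Limits.pullback.snd a b)
    ((DCoh.LTensorMod K).obj ((DCoh.Lpull (Limits.pullback.fst a b)).obj M)) m n hNc hsN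
  exact ⟨h1, m, b', h2, h3⟩

end Groth.Agent.S2224
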