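import Groth.Statements.S2232
import Groth.Agent.Lib.T2H1FMCoh
import Groth.Agent.Lib.T2H8ShriekSheaf
import Groth.Agent.Lib.T2H1RelPCnoeth
import Groth.Agent.S1005
import Groth.Agent.S0921
import Groth.Agent.S1006
import Groth.Agent.S1001

set_option autoImplicit false
universe u
open CategoryTheory AlgebraicGeometry
attribute [local instance] HasDerivedCategory.standard
open QCohCat

namespace Groth.Agent.S2232

/-- Case (3): let S be Noetherian, X -> S and Y -> S of finite type with all local rings of X regular,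
and K a bounded complex of modules on X x_S Y with coherent cohomology sheaves whose supports are
proper over Y. Assuming the derived functors L pr_1^*, - tensor^L K and R pr_2,* exist (unproved
hypotheses carried as binders), the Fourier-Mukai transform of a bounded object of D(O_X) with
coherent cohomology sheaves is a bounded object of D(O_Y) with coherent cohomology sheaves. -/
theorem result {S X Y : Scheme.{u}} [IsNoetherian S]
    (a : X ⟶ S) (b : Y ⟶ S) [LocallyOfFiniteType a] [QuasiCompact a] [LocallyOfFiniteType b]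
    [QuasiCompact b] (hreg : Models.IsRegularScheme X)
    (K : CochainComplex (Limits.pullback a b).Modules ℤ)
    (hKcoh : DCoh.IsCohD (DCoh.toD (Limits.pullback a b) K)) (kₗ kᵤ : ℤ)
    (hKge : DerivedCategory.IsGE (DCoh.toD (Limits.pullback a b) K) kₗ)
    (hKle : DerivedCategory.IsLE (DCoh.toD (Limits.pullback a b) K) kᵤ)
    (hsupp : ∀ i : ℤ, ClSub.IsProperOver (Limits.pullback.snd a b)
      (CohB1.support (DCoh.HD (DCoh.toD (Limits.pullback a b) K) i)))
    [DCoh.HasLpull (Limits.pullback.fst a b)] [DCoh.HasLTensorCx K]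
    [DCoh.HasRpush (Limits.pullback.snd a b)]
    (M : DCoh.D X) (hM : DCoh.IsCohD M) (m n : ℤ) (hMge : DerivedCategory.IsGE M m)
    (hMle : DerivedCategory.IsLE M n) :
    DCoh.IsCohD ((DCoh.Rpush (Limits.pullback.snd a b)).obj
        ((DCoh.LTensorCx K).obj ((DCoh.Lpull (Limits.pullback.fst a b)).obj M))) ∧
      ∃ m' n' : ℤ, DerivedCategory.IsGE ((DCoh.Rpush (Limits.pullback.snd a b)).obj
        ((DCoh.LTensorCx K).obj ((DCoh.Lpull (Limits.pullback.fst a b)).obj M))) m' ∧
        DerivedCategory.IsLE ((DCoh.Rpush (Limits.pullback.snd a b)).obj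
        ((DCoh.LTensorCx K).obj ((DCoh.Lpull (Limits.pullback.fst a b)).obj M))) n' := by
  haveI : CompactSpace X := QuasiCompact.compactSpace_of_compactSpace a
  haveI : CompactSpace Y := QuasiCompact.compactSpace_of_compactSpace b
  haveI : IsLocallyNoetherian X := LocallyOfFiniteType.isLocallyNoetherian a
  haveI : IsLocallyNoetherian Y := LocallyOfFiniteType.isLocallyNoetherian b
  haveI : IsNoetherian Y := {}
  haveI : IsLocallyNoetherian (Limits.pullback a b) := inferInstance
  haveI : CompactSpace ↥(Limits.pullback a b) := inferInstance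
  haveI : IsNoetherian (Limits.pullback a b) := {}
  -- perfectness of `M` and of its pullback
  have hMp : DCoh.IsPerfect M := Groth.Agent.S1005.result X hreg M m n hM
  have hEp : DCoh.IsPerfect ((DCoh.Lpull (Limits.pullback.fst a b)).obj M) :=
    Groth.Agent.S0921.result _ M hMp
  obtain ⟨hEc, aE, bE, hEge, hEle⟩ := Groth.Agent.S1006.result (Limits.pullback a b) _ hEp
  -- coherence and upper bound
  obtain ⟨hNc, nN, hNle⟩ := Groth.Agent.Lib.T2H1.LTensorCoh.isCohD_LTensorCx (Limits.pullback a b) K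
    ((DCoh.Lpull (Limits.pullback.fst a b)).obj M) hEc
    ⟨bE, fun i hi => (DerivedCategory.isLE_iff _ bE).1 hEle i hi⟩ hKcoh
    ⟨kᵤ, fun i hi => (DerivedCategory.isLE_iff _ kᵤ).1 hKle i hi⟩
  -- lower bound
  obtain ⟨aN, hNge⟩ := Groth.Agent.Lib.T2H1.FMCoh.exists_isGE_LTensorCx
    ((DCoh.Lpull (Limits.pullback.fst a b)).obj M) hEp K kₗ
    (fun i hi => (DerivedCategory.isGE_iff _ kₗ).1 hKge i hi)
  haveI := hNge
  haveI : ((DCoh.LTensorCx K).obj ((DCoh.Lpull (Limits.pullback.fst a b)).obj M)).IsLE nN :=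
    (DerivedCategory.isLE_iff _ nN).2 hNle
  -- supports
  let T : Set ↥(Limits.pullback a b) :=
    ⋃ i : Set.Icc kₗ kᵤ, CohB1.support (DCoh.HD (DCoh.toD (Limits.pullback a b) K) i.1)
  have hTp : ClSub.IsProperOver (Limits.pullback.snd a b) T :=
    Groth.Agent.Lib.Helper1.isProperOver_iUnion (Limits.pullback.snd a b)
      (ι := Set.Icc kₗ kᵤ) _ (fun i => hsupp i.1)
  have hTsub : ∀ i : ℤ, CohB1.support (DCoh.HD (DCoh.toD (Limits.pullback a b) K) i) ⊆ T := by
    intro i z hz
    by_cases hi : kₗ ≤ i ∧ i ≤ kᵤ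
    · exact Set.mem_iUnion.2 ⟨⟨i, hi⟩, hz⟩
    · exfalso
      have h0 : Limits.IsZero (DCoh.HD (DCoh.toD (Limits.pullback a b) K) i) := by
        by_cases h1 : i < kₗ
        · exact (DerivedCategory.isGE_iff _ kₗ).1 hKge i h1
        · exact (DerivedCategory.isLE_iff _ kᵤ).1 hKle i (by lia)
      have h1 := Groth.Agent.Lib.T2H1.RpushSupport.not_mem_support_of_isZero_restrict
        (DCoh.HD (DCoh.toD (Limits.pullback a b) K) i) ⊤
        ((Scheme.Modules.restrictFunctor _).map_isZero h0) z trivial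
      exact h1 hz
  have hsN : ∀ i : ℤ, ClSub.IsProperOver (Limits.pullback.snd a b) (CohB1.support (DCoh.HD
      ((DCoh.LTensorCx K).obj ((DCoh.Lpull (Limits.pullback.fst a b)).obj M)) i)) := fun i =>
    Groth.Agent.Lib.T2H8.ShriekSheaf.isProperOver_of_subset (Limits.pullback.snd a b) hTp
      (Groth.Agent.Lib.T2H1.RelPCnoeth.isClosed_support_of_isCoh _ (hNc i))
      (Groth.Agent.Lib.T2H1.FMCoh.support_HD_LTensorCx_subset _ hEp K T hTp.1 hTsub i)
  obtain ⟨h1, h2, b', h3⟩ := Groth.Agent.S1001.result (Limits.pullback.snd a b)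
    ((DCoh.LTensorCx K).obj ((DCoh.Lpull (Limits.pullback.fst a b)).obj M)) aN nN hNc hsN
  exact ⟨h1, aN, b', h2, h3⟩

end Groth.Agent.S2232
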