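import Groth.Statements.S2237
import Groth.Agent.Lib.T2H7SyntL
import Groth.Agent.Lib.T2H7SyntH

set_option autoImplicit false
universe u
attribute [local instance] HasDerivedCategory.standard
open LCI

namespace Groth.Agent.S2237

/-- Implication (2) to (5), affine form: let A -> B be flat, quasi-finite and a local complete
intersection homomorphism (finite type with a Koszul-regular presentation). Then for every prime q
of B there are g in B outside q, a natural number n and polynomials f_1, ..., f_n in A[x_1, ...,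
x_n] such that B_g is isomorphic as an A-algebra to A[x_1, ..., x_n]/(f_1, ..., f_n). -/
theorem result {A B : Type u} [CommRing A]
    [CommRing B] [Algebra A B] [Module.Flat A B] [Algebra.QuasiFinite A B] (hlci : LCI.IsLCI A B)
    (q : Ideal B) [q.IsPrime] :
    ∃ g : B, g ∉ q ∧ ∃ (n : ℕ) (f : Fin n → MvPolynomial (Fin n) A),
      Nonempty (Localization.Away g ≃ₐ[A]
        (MvPolynomial (Fin n) A ⧸ Ideal.span (Set.range f))) := by
  classical
  have hsyn : Synt.IsSyntomic A B :=
    Groth.Agent.Lib.T2H7.SyntH.isSyntomic_of_flat_of_isLCI B inferInstance hlci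
  obtain ⟨g, hg, n, c, F, hcn, hrel, ⟨e'⟩⟩ :=
    Groth.Agent.Lib.T2H7.SyntL.exists_relGCI_away_of_isSyntomic B hsyn q
  have e : Localization.Away g ≃ₐ[A] (MvPolynomial (Fin n) A ⧸ Ideal.span (Set.range F)) := e'
  refine ⟨g, hg, ?_⟩
  have hnt : Nontrivial (Localization.Away g) := by
    rw [← not_subsingleton_iff_nontrivial,
      IsLocalization.subsingleton_iff (M := Submonoid.powers g)]
    rintro ⟨k, hk⟩
    have hk' : g ^ k = 0 := hk
    exact hg (Ideal.IsPrime.mem_of_pow_mem inferInstance k (hk' ▸ q.zero_mem))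
  have hntT : Nontrivial (MvPolynomial (Fin n) A ⧸ Ideal.span (Set.range F)) :=
    e.symm.toEquiv.nontrivial
  obtain ⟨x⟩ : Nonempty (PrimeSpectrum (MvPolynomial (Fin n) A ⧸ Ideal.span (Set.range F))) :=
    PrimeSpectrum.nonempty_iff_nontrivial.mpr hntT
  set p := PrimeSpectrum.comap
    (algebraMap A (MvPolynomial (Fin n) A ⧸ Ideal.span (Set.range F))) x with hp
  have hntf : Nontrivial (p.asIdeal.Fiber (MvPolynomial (Fin n) A ⧸ Ideal.span (Set.range F))) :=
    PrimeSpectrum.nonempty_iff_nontrivial.mp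
      ⟨PrimeSpectrum.preimageHomeomorphFiber A
        (MvPolynomial (Fin n) A ⧸ Ideal.span (Set.range F)) p ⟨x, rfl⟩⟩
  obtain ⟨-, hdim⟩ := hrel p hntf
  have hdim' : ringKrullDim (p.asIdeal.Fiber (MvPolynomial (Fin n) A ⧸ Ideal.span (Set.range F))) =
      ((n - c : ℕ) : WithBot ℕ∞) := hdim
  have hqf : Algebra.QuasiFinite A (MvPolynomial (Fin n) A ⧸ Ideal.span (Set.range F)) :=
    Algebra.QuasiFinite.of_surjective_algHom e.toAlgHom e.surjective
  have hle : ringKrullDim
      (p.asIdeal.Fiber (MvPolynomial (Fin n) A ⧸ Ideal.span (Set.range F))) ≤ 0 := by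
    have hart : IsArtinianRing
      (p.asIdeal.Fiber (MvPolynomial (Fin n) A ⧸ Ideal.span (Set.range F))) := inferInstance
    have := @IsArtinianRing.instKrullDimLEOfNatNat
      (p.asIdeal.Fiber (MvPolynomial (Fin n) A ⧸ Ideal.span (Set.range F))) inferInstance hart
    exact_mod_cast (Ring.krullDimLE_iff.mp this)
  rw [hdim'] at hle
  have hnc : n - c = 0 := by
    have h1 : ((n - c : ℕ) : WithBot ℕ∞) ≤ ((0 : ℕ) : WithBot ℕ∞) := by exact_mod_cast hle
    have h2 : n - c ≤ 0 := by exact_mod_cast h1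
    omega
  have hcn' : c = n := by omega
  subst hcn'
  exact ⟨c, F, ⟨e⟩⟩

end Groth.Agent.S2237
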