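import Groth.Statements.S2911
import Groth.Agent.Lib.T2H7QuotEtC
import Groth.Agent.S2909
import Groth.Agent.Lib.Helper12EtSrc

set_option autoImplicit false
open CategoryTheory CategoryTheory.Limits AlgebraicGeometry
universe u
open SGA1

namespace Groth.Agent.S2911

/-- With the existence of the quotient taken as a hypothesis: Let Y be locally Noetherian, f : X ⟶ Y
etale, separated and quasi-compact, G a finite group acting on X by Y-automorphisms, p : X ⟶ X' a
quotient of X by G and q : X' ⟶ Y the induced morphism. Then p and q are etale, and if f is finite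
then q is finite. -/
theorem result {X X' Y : Scheme.{u}} {G : Type u} [Group G] [Finite G] (ρ : G →* Aut X)
    [IsLocallyNoetherian Y] (f : X ⟶ Y) [Etale f] [IsSeparated f] [QuasiCompact f] (hρ : ∀ g : G, (ρ g).hom ≫ f = f)
    (p : X ⟶ X') (hp : SGA1.IsQuot ρ p) (q : X' ⟶ Y) (hq : p ≫ q = f) :
    Etale p ∧ Etale q ∧ (IsFinite f → IsFinite q) := by
  obtain ⟨haff, -, hfin, hft⟩ := Groth.Agent.S2909.result ρ p hp f q hq hρ
  have hpfin : IsFinite p := hfin inferInstance
  obtain ⟨hqft, hqqc⟩ := hft inferInstance inferInstance inferInstance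
  have hX' : IsLocallyNoetherian X' := LocallyOfFiniteType.isLocallyNoetherian q
  have hflat : Flat p := Groth.Agent.Lib.T2H7.QuotEtC.flat_of_etale_separated hp f hρ
  have hunr : FormallyUnramified p := by
    have : FormallyUnramified (p ≫ q) := by rw [hq]; infer_instance
    exact FormallyUnramified.of_comp p q
  have hpet : Etale p := Etale.of_formallyUnramified_of_flat p
  have hsurj : Surjective p := ⟨Groth.Agent.Lib.Helper20.surjective_of_isQuot hp⟩
  have hqet : Etale q := by
    have : Etale (p ≫ q) := by rw [hq]; infer_instance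
    exact Groth.Agent.Lib.Helper12.EtSrc.etale_of_etale_cover_source p q
  refine ⟨hpet, hqet, fun hf => ?_⟩
  have hqaff : IsAffineHom q := haff.mp inferInstance
  refine ⟨fun V hV => ?_⟩
  have hnoeth : IsNoetherianRing Γ(Y, V) := IsLocallyNoetherian.component_noetherian ⟨V, hV⟩
  have h1 : ((p ≫ q).app V).hom.Finite := by
    have : IsFinite (p ≫ q) := by rw [hq]; exact hf
    exact IsFinite.finite_app (p ≫ q) V hV
  have h1' : ((p.app (q ⁻¹ᵁ V)).hom.comp (q.app V).hom).Finite := h1
  let _ := (q.app V).hom.toAlgebra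
  let _ := ((p.app (q ⁻¹ᵁ V)).hom.comp (q.app V).hom).toAlgebra
  have hfinA : Module.Finite Γ(Y, V) Γ(X, p ⁻¹ᵁ (q ⁻¹ᵁ V)) := h1'
  have hN : IsNoetherian Γ(Y, V) Γ(X, p ⁻¹ᵁ (q ⁻¹ᵁ V)) := isNoetherian_of_isNoetherianRing_of_finite _ _
  let φ : Γ(X', q ⁻¹ᵁ V) →ₗ[Γ(Y, V)] Γ(X, p ⁻¹ᵁ (q ⁻¹ᵁ V)) :=
    { toFun := (p.app (q ⁻¹ᵁ V)).hom
      map_add' := map_add _
      map_smul' := fun c x => by
        simp only [Algebra.smul_def, map_mul, RingHom.id_apply]
        rfl }
  exact Module.Finite.of_injective φ (hp.injective (q ⁻¹ᵁ V))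

end Groth.Agent.S2911
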