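import Groth.Statements.S2921
import Groth.Agent.Lib.Helper5RLR
import Groth.Agent.Lib.Helper5IntDim

set_option autoImplicit false
set_option linter.style.haveILetI false
set_option linter.unusedSectionVars false
universe u
open IsLocalRing
open SGA1
open MvPolynomial

namespace Groth.Agent.S2921

section basics

variable (A : Type u) [CommRing A] {r : ℕ} (f : Fin r → A) (n : Fin r → ℕ)

/-- The defining ideal. -/
noncomputable abbrev kI : Ideal (MvPolynomial (Fin r) A) :=
  Ideal.span (Set.range fun i => (X i : MvPolynomial (Fin r) A) ^ n i - C (f i))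

/-- class of `X i` -/
noncomputable def T (i : Fin r) : SGA1.kummerAlg A f n := Ideal.Quotient.mk _ (X i)

theorem algebraMap_eq (a : A) :
    algebraMap A (SGA1.kummerAlg A f n) a = Ideal.Quotient.mk _ (C a) := rfl

theorem T_pow (i : Fin r) : T A f n i ^ n i = algebraMap A (SGA1.kummerAlg A f n) (f i) := by
  rw [T, algebraMap_eq, ← map_pow, Ideal.Quotient.eq]
  exact Ideal.subset_span ⟨i, rfl⟩

theorem isIntegral_T (i : Fin r) (hn : 1 ≤ n i) : IsIntegral A (T A f n i) := by
  refine ⟨Polynomial.X ^ n i - Polynomial.C (f i), Polynomial.monic_X_pow_sub_C _ (by omega), ?_⟩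
  rw [Polynomial.eval₂_sub, Polynomial.eval₂_pow, Polynomial.eval₂_X, Polynomial.eval₂_C, T_pow,
    sub_self]

theorem induction_kummer {p : SGA1.kummerAlg A f n → Prop}
    (hC : ∀ a, p (algebraMap A _ a)) (hadd : ∀ x y, p x → p y → p (x + y))
    (hmul : ∀ x i, p x → p (x * T A f n i)) (x : SGA1.kummerAlg A f n) : p x := by
  obtain ⟨P, rfl⟩ := Ideal.Quotient.mk_surjective x
  induction P using MvPolynomial.induction_on with
  | C a => exact hC a
  | add P Q hP hQ => rw [map_add]; exact hadd _ _ hP hQ
  | mul_X P i hP => rw [map_mul]; exact hmul _ i hP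

theorem isIntegral (hn : ∀ i, 1 ≤ n i) : Algebra.IsIntegral A (SGA1.kummerAlg A f n) := by
  refine ⟨fun x => ?_⟩
  induction x using induction_kummer with
  | hC a => exact isIntegral_algebraMap
  | hadd x y hx hy => exact hx.add hy
  | hmul x i hx => exact hx.mul (isIntegral_T A f n i (hn i))

/-- ring homs out of the Kummer algebra -/
noncomputable def lift {B : Type*} [CommRing B] (g : A →+* B) (t : Fin r → B)
    (h : ∀ i, t i ^ n i = g (f i)) : SGA1.kummerAlg A f n →+* B :=
  Ideal.Quotient.lift _ (eval₂Hom g t) (by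
    intro x hx
    induction hx using Submodule.span_induction with
    | mem y hy =>
      obtain ⟨i, rfl⟩ := hy
      rw [map_sub, map_pow, eval₂Hom_X', eval₂Hom_C, h, sub_self]
    | zero => exact map_zero _
    | add y z _ _ hy hz => rw [map_add, hy, hz, add_zero]
    | smul a y _ hy => rw [smul_eq_mul, map_mul, hy, mul_zero])

theorem lift_algebraMap {B : Type*} [CommRing B] (g : A →+* B) (t : Fin r → B)
    (h : ∀ i, t i ^ n i = g (f i)) (a : A) : lift A f n g t h (algebraMap A _ a) = g a := by
  rw [algebraMap_eq, lift, Ideal.Quotient.lift_mk, eval₂Hom_C]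

theorem lift_T {B : Type*} [CommRing B] (g : A →+* B) (t : Fin r → B)
    (h : ∀ i, t i ^ n i = g (f i)) (i : Fin r) : lift A f n g t h (T A f n i) = t i := by
  rw [T, lift, Ideal.Quotient.lift_mk, eval₂Hom_X']

theorem algebraMap_injective [IsDomain A] (hn : ∀ i, 1 ≤ n i) :
    Function.Injective (algebraMap A (SGA1.kummerAlg A f n)) := by
  let L := AlgebraicClosure (FractionRing A)
  have hex : ∀ i, ∃ z : L, z ^ n i = algebraMap A L (f i) := fun i =>
    IsAlgClosed.exists_pow_nat_eq _ (by have := hn i; omega)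
  choose t ht using hex
  have hinj : Function.Injective (algebraMap A L) :=
    (algebraMap (FractionRing A) L).injective.comp (IsFractionRing.injective A (FractionRing A))
  intro a b hab
  apply hinj
  have := congrArg (lift A f n (algebraMap A L) t ht) hab
  rwa [lift_algebraMap, lift_algebraMap] at this

end basics

section localring

variable (A : Type u) [CommRing A] [IsLocalRing A] {r : ℕ} (f : Fin r → A) (n : Fin r → ℕ)

/-- The map to the residue field of `A`, killing the `T i`. -/
noncomputable def toRes (hm : ∀ i, f i ∈ maximalIdeal A) (hn : ∀ i, 1 ≤ n i) :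
    SGA1.kummerAlg A f n →+* ResidueField A :=
  lift A f n (residue A) 0 (fun i => by
    rw [Pi.zero_apply, zero_pow (by have := hn i; omega), eq_comm]
    exact (residue_eq_zero_iff _).mpr (hm i))

theorem toRes_surjective (hm : ∀ i, f i ∈ maximalIdeal A) (hn : ∀ i, 1 ≤ n i) :
    Function.Surjective (toRes A f n hm hn) := by
  intro x
  obtain ⟨a, rfl⟩ := residue_surjective x
  exact ⟨algebraMap A _ a, lift_algebraMap A f n _ _ _ a⟩

/-- every element is a constant plus a combination of the `T i` -/
theorem exists_const_add (x : SGA1.kummerAlg A f n) :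
    ∃ a : A, x - algebraMap A _ a ∈ Ideal.span (Set.range (T A f n)) := by
  induction x using induction_kummer with
  | hC a => exact ⟨a, by rw [sub_self]; exact zero_mem _⟩
  | hadd x y hx hy =>
    obtain ⟨a, ha⟩ := hx
    obtain ⟨b, hb⟩ := hy
    refine ⟨a + b, ?_⟩
    have : x + y - algebraMap A (SGA1.kummerAlg A f n) (a + b) =
        (x - algebraMap A _ a) + (y - algebraMap A _ b) := by rw [map_add]; ring
    rw [this]; exact add_mem ha hb
  | hmul x i _ =>
    refine ⟨0, ?_⟩
    rw [map_zero, sub_zero]
    exact Ideal.mul_mem_left _ _ (Ideal.subset_span ⟨i, rfl⟩)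

theorem ker_toRes_le (hm : ∀ i, f i ∈ maximalIdeal A) (hn : ∀ i, 1 ≤ n i)
    (N : Ideal (SGA1.kummerAlg A f n)) [hN : N.IsMaximal] :
    RingHom.ker (toRes A f n hm hn) ≤ N := by
  haveI := isIntegral A f n hn
  have hcomap : N.comap (algebraMap A (SGA1.kummerAlg A f n)) = maximalIdeal A :=
    IsLocalRing.eq_maximalIdeal (Ideal.isMaximal_comap_of_isIntegral_of_isMaximal (R := A) N)
  have hmA : ∀ a ∈ maximalIdeal A, algebraMap A (SGA1.kummerAlg A f n) a ∈ N := by
    intro a ha
    rw [← hcomap] at ha
    exact ha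
  have hT : ∀ i, T A f n i ∈ N := by
    intro i
    apply hN.isPrime.mem_of_pow_mem (n i)
    rw [T_pow]
    exact hmA _ (hm i)
  have hspan : Ideal.span (Set.range (T A f n)) ≤ N := by
    rw [Ideal.span_le]
    rintro _ ⟨i, rfl⟩
    exact hT i
  intro x hx
  obtain ⟨a, ha⟩ := exists_const_add A f n x
  have hker : Ideal.span (Set.range (T A f n)) ≤ RingHom.ker (toRes A f n hm hn) := by
    rw [Ideal.span_le]
    rintro _ ⟨i, rfl⟩
    rw [SetLike.mem_coe, RingHom.mem_ker, toRes, lift_T, Pi.zero_apply]
  have h1 : toRes A f n hm hn (algebraMap A _ a) = 0 := by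
    have := hker ha
    rw [RingHom.mem_ker, map_sub, RingHom.mem_ker.mp hx, zero_sub, neg_eq_zero] at this
    exact this
  rw [toRes, lift_algebraMap, residue_eq_zero_iff] at h1
  have : x = (x - algebraMap A _ a) + algebraMap A _ a := by ring
  rw [this]
  exact add_mem (hspan ha) (hmA a h1)

theorem isLocalRing_kummer (hm : ∀ i, f i ∈ maximalIdeal A) (hn : ∀ i, 1 ≤ n i) :
    IsLocalRing (SGA1.kummerAlg A f n) := by
  have hmax : (RingHom.ker (toRes A f n hm hn)).IsMaximal :=
    RingHom.ker_isMaximal_of_surjective _ (toRes_surjective A f n hm hn)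
  refine IsLocalRing.of_unique_max_ideal ⟨RingHom.ker (toRes A f n hm hn), hmax, fun N hN => ?_⟩
  haveI := hN
  exact (hmax.eq_of_le hN.ne_top (ker_toRes_le A f n hm hn N)).symm

theorem T_mem_maximalIdeal (hm : ∀ i, f i ∈ maximalIdeal A) (hn : ∀ i, 1 ≤ n i)
    [IsLocalRing (SGA1.kummerAlg A f n)] (i : Fin r) :
    T A f n i ∈ maximalIdeal (SGA1.kummerAlg A f n) := by
  have hmax : (RingHom.ker (toRes A f n hm hn)).IsMaximal :=
    RingHom.ker_isMaximal_of_surjective _ (toRes_surjective A f n hm hn)
  rw [← IsLocalRing.eq_maximalIdeal hmax, RingHom.mem_ker, toRes, lift_T, Pi.zero_apply]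

end localring

section quot

variable (A : Type u) [CommRing A] {r : ℕ} (f : Fin r → A) (n : Fin r → ℕ)

noncomputable def quotFwd (hn : ∀ i, 1 ≤ n i) :
    (SGA1.kummerAlg A f n ⧸ Ideal.span (Set.range (T A f n))) →+* A ⧸ Ideal.span (Set.range f) :=
  Ideal.Quotient.lift _
    (lift A f n (Ideal.Quotient.mk (Ideal.span (Set.range f))) 0 (fun i => by
      rw [Pi.zero_apply, zero_pow (by have := hn i; omega), eq_comm,
        Ideal.Quotient.eq_zero_iff_mem]
      exact Ideal.subset_span ⟨i, rfl⟩))
    (by
      intro x hx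
      induction hx using Submodule.span_induction with
      | mem y hy =>
        obtain ⟨i, rfl⟩ := hy
        rw [lift_T, Pi.zero_apply]
      | zero => exact map_zero _
      | add y z _ _ hy hz => rw [map_add, hy, hz, add_zero]
      | smul a y _ hy => rw [smul_eq_mul, map_mul, hy, mul_zero])

theorem algebraMap_f_mem (hn : ∀ i, 1 ≤ n i) (i : Fin r) :
    algebraMap A (SGA1.kummerAlg A f n) (f i) ∈ Ideal.span (Set.range (T A f n)) := by
  rw [← T_pow]
  have hT : T A f n i ∈ Ideal.span (Set.range (T A f n)) := Ideal.subset_span ⟨i, rfl⟩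
  exact Ideal.pow_mem_of_mem _ hT _ (by have := hn i; omega)

noncomputable def quotBwd (hn : ∀ i, 1 ≤ n i) :
    A ⧸ Ideal.span (Set.range f) →+* (SGA1.kummerAlg A f n ⧸ Ideal.span (Set.range (T A f n))) :=
  Ideal.Quotient.lift _
    ((Ideal.Quotient.mk (Ideal.span (Set.range (T A f n)))).comp
      (algebraMap A (SGA1.kummerAlg A f n)))
    (by
      intro x hx
      induction hx using Submodule.span_induction with
      | mem y hy =>
        obtain ⟨i, rfl⟩ := hy
        rw [RingHom.comp_apply, Ideal.Quotient.eq_zero_iff_mem]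
        exact algebraMap_f_mem A f n hn i
      | zero => exact map_zero _
      | add y z _ _ hy hz => rw [map_add, hy, hz, add_zero]
      | smul a y _ hy => rw [smul_eq_mul, map_mul, hy, mul_zero])

theorem quotBwd_quotFwd (hn : ∀ i, 1 ≤ n i) :
    (quotBwd A f n hn).comp (quotFwd A f n hn) = RingHom.id _ := by
  apply Ideal.Quotient.ringHom_ext
  apply Ideal.Quotient.ringHom_ext
  apply MvPolynomial.ringHom_ext
  · intro a
    change quotBwd A f n hn (quotFwd A f n hn (Ideal.Quotient.mk _ (algebraMap A _ a))) =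
      Ideal.Quotient.mk _ (algebraMap A _ a)
    rw [quotFwd, Ideal.Quotient.lift_mk, lift_algebraMap, quotBwd, Ideal.Quotient.lift_mk]
    rfl
  · intro i
    change quotBwd A f n hn (quotFwd A f n hn (Ideal.Quotient.mk _ (T A f n i))) =
      Ideal.Quotient.mk _ (T A f n i)
    have hT : T A f n i ∈ Ideal.span (Set.range (T A f n)) := Ideal.subset_span ⟨i, rfl⟩
    rw [quotFwd, Ideal.Quotient.lift_mk, lift_T, Pi.zero_apply, map_zero, eq_comm,
      Ideal.Quotient.eq_zero_iff_mem]
    exact hT

theorem quotFwd_quotBwd (hn : ∀ i, 1 ≤ n i) :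
    (quotFwd A f n hn).comp (quotBwd A f n hn) = RingHom.id _ := by
  apply Ideal.Quotient.ringHom_ext
  ext a
  change quotFwd A f n hn (quotBwd A f n hn (Ideal.Quotient.mk _ a)) = Ideal.Quotient.mk _ a
  rw [quotBwd, Ideal.Quotient.lift_mk, RingHom.comp_apply, quotFwd, Ideal.Quotient.lift_mk,
    lift_algebraMap]

noncomputable def quotEquiv (hn : ∀ i, 1 ≤ n i) :
    (SGA1.kummerAlg A f n ⧸ Ideal.span (Set.range (T A f n))) ≃+* A ⧸ Ideal.span (Set.range f) :=
  RingEquiv.ofRingHom (quotFwd A f n hn) (quotBwd A f n hn) (quotFwd_quotBwd A f n hn)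
    (quotBwd_quotFwd A f n hn)

end quot

section part1

open Groth.Agent.Lib.Helper5

theorem part1 (A : Type u) [CommRing A] [IsRegularLocalRing A] (r : ℕ) (f : Fin r → A)
    (hm : ∀ i, f i ∈ maximalIdeal A)
    (hf : LinearIndependent (ResidueField A) (fun i => (maximalIdeal A).toCotangent ⟨f i, hm i⟩))
    (n : Fin r → ℕ) (hn : ∀ i, 1 ≤ n i) : IsRegularLocalRing (SGA1.kummerAlg A f n) := by
  haveI : IsDomain A := isDomain_of_isRegularLocalRing A
  haveI := isLocalRing_kummer A f n hm hn
  haveI := isIntegral A f n hn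
  have hle : Ideal.span (Set.range f) ≤ maximalIdeal A := by
    rw [Ideal.span_le]
    rintro _ ⟨i, rfl⟩
    exact hm i
  have hne : Ideal.span (Set.range f) ≠ ⊤ := fun h =>
    (maximalIdeal.isMaximal A).ne_top (top_le_iff.mp (h ▸ hle))
  haveI : IsLocalRing (A ⧸ Ideal.span (Set.range f)) := isLocalRing_quotient hne
  obtain ⟨hreg, hdim⟩ := isRegularLocalRing_quotient_of_linearIndependent
    (fun i => (⟨f i, hm i⟩ : maximalIdeal A)) hf
  let y : Fin r → maximalIdeal (SGA1.kummerAlg A f n) :=
    fun i => ⟨T A f n i, T_mem_maximalIdeal A f n hm hn i⟩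
  haveI : IsRegularLocalRing
      (SGA1.kummerAlg A f n ⧸ Ideal.span (Set.range fun i => ((y i : maximalIdeal _) :
        SGA1.kummerAlg A f n))) :=
    IsRegularLocalRing.of_ringEquiv (quotEquiv A f n hn).symm
  have hdim' : ringKrullDim (SGA1.kummerAlg A f n ⧸
      Ideal.span (Set.range fun i => ((y i : maximalIdeal _) : SGA1.kummerAlg A f n))) + r =
      ringKrullDim (SGA1.kummerAlg A f n) := by
    rw [ringKrullDim_eq_of_isIntegral_of_injective A (SGA1.kummerAlg A f n)
      (algebraMap_injective A f n hn), ← hdim]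
    congr 1
    exact ringKrullDim_eq_of_ringEquiv (quotEquiv A f n hn)
  exact (isRegularLocalRing_of_quotient_span_range y hdim').1

end part1

section part2

variable (A : Type u) [CommRing A] {r : ℕ} (f : Fin r → A) (n : Fin r → ℕ)

/-- The naive presubmersive presentation of the Kummer algebra. -/
noncomputable def pres : Algebra.PreSubmersivePresentation A (SGA1.kummerAlg A f n) (Fin r) (Fin r) :=
  Algebra.PreSubmersivePresentation.naive (R := A)
    (v := fun i => (X i : MvPolynomial (Fin r) A) ^ n i - C (f i)) id Function.injective_id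

theorem pres_jacobian :
    (pres A f n).jacobian = ∏ i, ((n i : ℕ) : SGA1.kummerAlg A f n) * T A f n i ^ (n i - 1) := by
  classical
  rw [Algebra.PreSubmersivePresentation.jacobian_eq_jacobiMatrix_det]
  have hM : (pres A f n).jacobiMatrix =
      Matrix.diagonal fun i => C ((n i : ℕ) : A) * (X i : MvPolynomial (Fin r) A) ^ (n i - 1) := by
    ext i j
    rw [pres, Algebra.PreSubmersivePresentation.jacobiMatrix_naive]
    simp only [id_eq, map_sub, pderiv_C, sub_zero]
    rw [pderiv_pow, pderiv_X, Matrix.diagonal_apply]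
    by_cases hij : i = j
    · subst hij
      simp
    · have hji : ¬ j = i := fun h => hij h.symm
      simp [hij, hji]
  rw [hM, Matrix.det_diagonal, map_prod]
  refine Finset.prod_congr rfl fun i _ => ?_
  rw [map_mul, map_pow, Algebra.Generators.algebraMap_apply, Algebra.Generators.algebraMap_apply,
    aeval_C, aeval_X, map_natCast]
  rfl

theorem jac_isUnit {S : Type*} [CommRing S] [Algebra (SGA1.kummerAlg A f n) S]
    (hn : ∀ i, 1 ≤ n i) (hnunit : ∀ i, IsUnit ((n i : ℕ) : A))
    (hFunit : IsUnit (algebraMap (SGA1.kummerAlg A f n) S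
      (algebraMap A (SGA1.kummerAlg A f n) (∏ i, f i)))) :
    IsUnit (algebraMap (SGA1.kummerAlg A f n) S (pres A f n).jacobian) := by
  have hTunit : ∀ i, IsUnit (algebraMap (SGA1.kummerAlg A f n) S (T A f n i)) := by
    intro i
    have hni : n i ≠ 0 := by have := hn i; omega
    rw [← isUnit_pow_iff hni, ← map_pow, T_pow]
    refine isUnit_of_dvd_unit ?_ hFunit
    exact map_dvd _ (map_dvd _ (Finset.dvd_prod_of_mem f (Finset.mem_univ i)))
  rw [pres_jacobian, map_prod, IsUnit.prod_univ_iff]
  intro i
  rw [map_mul, map_pow, map_natCast]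
  refine IsUnit.mul ?_ ((hTunit i).pow _)
  have := ((hnunit i).map (algebraMap A (SGA1.kummerAlg A f n))).map
    (algebraMap (SGA1.kummerAlg A f n) S)
  rwa [map_natCast, map_natCast] at this

theorem part2 [IsLocalRing A] (hn : ∀ i, 1 ≤ n i)
    (hu : ∀ i, IsUnit ((n i : ℕ) : ResidueField A)) :
    letI := (Localization.awayMap (algebraMap A (SGA1.kummerAlg A f n)) (∏ i, f i)).toAlgebra
    Algebra.Etale (Localization.Away (∏ i, f i))
      (Localization.Away (algebraMap A (SGA1.kummerAlg A f n) (∏ i, f i))) := by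
  letI alg := (Localization.awayMap (algebraMap A (SGA1.kummerAlg A f n)) (∏ i, f i)).toAlgebra
  let Q : Algebra.PreSubmersivePresentation (SGA1.kummerAlg A f n)
      (Localization.Away (algebraMap A (SGA1.kummerAlg A f n) (∏ i, f i))) Unit Unit :=
    Algebra.PreSubmersivePresentation.localizationAway
      (Localization.Away (algebraMap A (SGA1.kummerAlg A f n) (∏ i, f i)))
      (algebraMap A (SGA1.kummerAlg A f n) (∏ i, f i))
  have hFunit : IsUnit (algebraMap (SGA1.kummerAlg A f n)
      (Localization.Away (algebraMap A (SGA1.kummerAlg A f n) (∏ i, f i)))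
      (algebraMap A (SGA1.kummerAlg A f n) (∏ i, f i))) :=
    IsLocalization.Away.algebraMap_isUnit _
  have hnunit : ∀ i, IsUnit ((n i : ℕ) : A) := by
    intro i
    have h := hu i
    rw [← map_natCast (residue A)] at h
    exact (isUnit_map_iff (residue A) _).mp h
  have hunit : IsUnit (algebraMap (SGA1.kummerAlg A f n)
      (Localization.Away (algebraMap A (SGA1.kummerAlg A f n) (∏ i, f i)))
      (pres A f n).jacobian) := jac_isUnit A f n hn hnunit hFunit
  let PT : Algebra.SubmersivePresentation A
      (Localization.Away (algebraMap A (SGA1.kummerAlg A f n) (∏ i, f i)))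
      (Unit ⊕ Fin r) (Unit ⊕ Fin r) :=
    { toPreSubmersivePresentation := Q.comp (pres A f n)
      jacobian_isUnit := by
        rw [Algebra.PreSubmersivePresentation.comp_jacobian_eq_jacobian_smul_jacobian,
          Algebra.smul_def, Algebra.PreSubmersivePresentation.localizationAway_jacobian]
        exact hunit.mul hFunit }
  have hdim : PT.dimension = 0 := by
    change (Q.comp (pres A f n)).dimension = 0
    rw [Algebra.PreSubmersivePresentation.dimension_comp_eq_dimension_add_dimension]
    have h1 : Q.dimension = 0 := Algebra.Presentation.localizationAway_dimension_zero _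
    have h2 : (pres A f n).dimension = 0 := by
      simp [Algebra.Presentation.dimension]
    rw [h1, h2]
  haveI hT : Algebra.Etale A
      (Localization.Away (algebraMap A (SGA1.kummerAlg A f n) (∏ i, f i))) :=
    Algebra.Etale.iff_isStandardSmoothOfRelativeDimension_zero.mpr
      (PT.isStandardSmoothOfRelativeDimension hdim)
  haveI : IsScalarTower A (Localization.Away (∏ i, f i))
      (Localization.Away (algebraMap A (SGA1.kummerAlg A f n) (∏ i, f i))) := by
    refine IsScalarTower.of_algebraMap_eq fun a => ?_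
    change _ = Localization.awayMap (algebraMap A (SGA1.kummerAlg A f n)) (∏ i, f i)
      (algebraMap A (Localization.Away (∏ i, f i)) a)
    rw [Localization.awayMap, IsLocalization.Away.map, IsLocalization.map_eq]
    exact IsScalarTower.algebraMap_apply A (SGA1.kummerAlg A f n) _ a
  haveI : Algebra.Etale A (Localization.Away (∏ i, f i)) :=
    Algebra.Etale.of_isLocalizationAway (∏ i, f i)
  exact Algebra.Etale.of_restrictScalars A _ _

end part2

/-- Regularity and etaleness; the tameness assertion is not stated: Let A be a regular local ring, f_1,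
…, f_r elements of the maximal ideal whose images in the cotangent space are linearly independent
(part of a regular system of parameters), and n_1, …, n_r ≥ 1. Then A' = A[T_1, …, T_r]/(T_i^{n_i} −
f_i) is a regular local ring; and if each n_i is invertible in the residue field of A, then A'
becomes etale over A after inverting f_1 ⋯ f_r. -/
theorem result (A : Type u) [CommRing A] [IsRegularLocalRing A] (r : ℕ) (f : Fin r → A)
    (hm : ∀ i, f i ∈ maximalIdeal A)
    (hf : LinearIndependent (ResidueField A) (fun i => (maximalIdeal A).toCotangent ⟨f i, hm i⟩))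
    (n : Fin r → ℕ) (hn : ∀ i, 1 ≤ n i) :
    IsRegularLocalRing (SGA1.kummerAlg A f n) ∧
    ((∀ i, IsUnit ((n i : ℕ) : ResidueField A)) →
      letI := (Localization.awayMap (algebraMap A (SGA1.kummerAlg A f n)) (∏ i, f i)).toAlgebra
      Algebra.Etale (Localization.Away (∏ i, f i)) (Localization.Away (algebraMap A (SGA1.kummerAlg A f n) (∏ i, f i)))) := by
  exact ⟨part1 A r f hm hf n hn, fun hu => part2 A f n hn hu⟩

end Groth.Agent.S2921
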