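import Groth.Statements.S2927
import Mathlib
import Groth.Agent.Lib.T2H6ExtLocC
import Groth.Agent.Lib.T2H6LocGlobD
import Groth.Agent.Lib.T2H6CMConvC

set_option autoImplicit false
set_option linter.style.haveILetI false
universe u
open CategoryTheory AlgebraicGeometry
open ProjDual

attribute [local instance] Groth.Agent.Lib.Helper21.ExtShDelta.hasSheafHom

namespace Groth.Agent.S2927

/-- (i)⇔(iii): Let k be a field, X = P^r_k, F a coherent O_X-module and i ≥ 0. Then H^i(X, F(−m))
vanishes for all sufficiently large m if and only if for every closed point x of X the local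
cohomology H^i of the stalk F_x, with support in the maximal ideal of O_{X,x}, vanishes. -/
theorem result (k : Type u) [Field k] (r : ℕ) (F : (CohB1.ProjSpace r k).Modules) (hF : Coh.IsCoh F) (i : ℕ) : (∃ m₀ : ℤ, ∀ m : ℤ, m₀ ≤ m → Subsingleton (Coh.HH (CohB1.ProjSpace r k) (Twist.twistBy _ F (-m)) i)) ↔ ∀ x : (CohB1.ProjSpace r k), IsClosed ({x} : Set (CohB1.ProjSpace r k)) → Subsingleton (LocCoh.H (IsLocalRing.maximalIdeal ((CohB1.ProjSpace r k).presheaf.stalk x)) i (F.presheaf.stalk x)) := by
  haveI := Groth.Agent.Lib.Helper21.ModTensor3.isGrothendieckAbelian (CohB1.ProjSpace r k).sheaf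
  haveI : HasExt.{u} (CohB1.ProjSpace r k).Modules :=
    (inferInstance : HasExt.{u} (ModSite.Mod (CohB1.ProjSpace r k).sheaf))
  haveI : HasInjectiveResolutions (ModSite.Mod (CohB1.ProjSpace r k).sheaf) := inferInstance
  haveI : IsLocallyNoetherian (CohB1.ProjSpace r k) :=
    Groth.Agent.Lib.T2H6.SDual.isLocallyNoetherian_projSpace' r k
  haveI : CompactSpace (CohB1.ProjSpace r k) := Groth.Agent.Lib.T2H5.GlobGenPn.compactSpace r k
  haveI : TopologicalSpace.NoetherianSpace (CohB1.ProjSpace r k) :=
    Groth.Agent.Lib.T2H6.LocGlob.noetherianSpace_of_closed r k (𝟙 (CohB1.ProjSpace r k))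
  have hgv : ∀ (M : (CohB1.ProjSpace r k).Modules) (i : ℕ), r < i →
      Subsingleton (Coh.HH (CohB1.ProjSpace r k) M i) := fun M i hi =>
    Groth.Agent.Lib.T2H6.GVMain.subsingleton_HH _ M i (by
      have h2 : topologicalKrullDim ↥(CohB1.ProjSpace r k) = (r : WithBot ℕ∞) :=
        Groth.Agent.Lib.Helper27ProjDim.main k r
      rw [h2]
      exact_mod_cast hi)
  have hloc : ∀ x : (CohB1.ProjSpace r k), IsClosed ({x} : Set (CohB1.ProjSpace r k)) →
      (Subsingleton (LocCoh.H (IsLocalRing.maximalIdeal ((CohB1.ProjSpace r k).presheaf.stalk x)) i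
          (F.presheaf.stalk x)) ↔
        (r < i ∨ Subsingleton (Abelian.Ext.{u}
          (ModuleCat.of ((CohB1.ProjSpace r k).presheaf.stalk x) (F.presheaf.stalk x))
          (ModuleCat.of ((CohB1.ProjSpace r k).presheaf.stalk x)
            ((CohB1.ProjSpace r k).presheaf.stalk x)) (r - i)))) := by
    intro x hx
    haveI := Groth.Agent.Lib.T2H6.CM.isRegularLocalRing_stalk_projSpace r k x
    haveI := Groth.Agent.Lib.T2H3.ReflexiveHom.finite_stalk_of_isCoh F hF x
    exact Groth.Agent.Lib.T2H6.ExtLoc.subsingleton_H_iff _ r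
      (Groth.Agent.Lib.T2H6.CMConv.ringKrullDim_stalk_projSpace_of_isClosed r k x hx) _ i
  by_cases hi : r < i
  · constructor
    · intro _ x hx
      exact (hloc x hx).2 (Or.inl hi)
    · intro _
      exact ⟨0, fun m _ => hgv _ i hi⟩
  · have hir : i ≤ r := by omega
    have h1 := Groth.Agent.Lib.T2H6.LocGlob.vanishing_iff_isZero_EE r k F hF (r - i) (Nat.sub_le _ _)
    rw [Nat.sub_sub_self hir] at h1
    have h2 := Groth.Agent.Lib.T2H6.ExtLoc.isZero_extSh_iff_closed F
      (Twist.twistProjSpace r k (-((r : ℤ) + 1))) hF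
      (Groth.Agent.Lib.T2H5.PnFinite.isCoh_twist r k _) (r - i)
      (Groth.Agent.Lib.T2H5.Twist.isInvertible_twist r k _)
    refine h1.trans (h2.trans ?_)
    refine forall_congr' (fun x => forall_congr' (fun hx => ?_))
    rw [hloc x hx]
    constructor
    · intro h
      exact Or.inr h
    · rintro (h | h)
      · exact absurd h hi
      · exact h

end Groth.Agent.S2927
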