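import Groth.Statements.S3129
import Mathlib
-- import your own Groth.Agent.* helpers here

set_option autoImplicit false
set_option linter.unusedSectionVars false
open BigOperators
open SGA4h

namespace Groth.Agent.S3129

open Finset

section aux

variable {F : Type} [Field F] [Fintype F] [DecidableEq F] {R : Type} [CommRing R] [IsDomain R]

lemma addChar_sum (Ψ : AddChar F R) {ι : Type} (s : Finset ι) (y : ι → F) :
    Ψ (∑ i ∈ s, y i) = ∏ i ∈ s, Ψ (y i) := by
  classical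
  induction s using Finset.induction_on with
  | empty => simp
  | insert a s ha ih => rw [sum_insert ha, prod_insert ha, AddChar.map_add_eq_mul, ih]

lemma mulChar_prod_apply {ι : Type} (s : Finset ι) (φ : ι → MulChar F R) {y : F} (hy : y ≠ 0) :
    (∏ i ∈ s, φ i) y = ∏ i ∈ s, φ i y := by
  classical
  induction s using Finset.induction_on with
  | empty => simp [MulChar.one_apply (isUnit_iff_ne_zero.mpr hy)]
  | insert a s ha ih => rw [prod_insert ha, prod_insert ha, MulChar.mul_apply, ih]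

lemma sum_one_mul_addChar (Ψ : AddChar F R) (hΨ : Ψ ≠ 1) (c : F) :
    ∑ y : F, (1 : MulChar F R) y * Ψ (y * c) = (if c = 0 then (Fintype.card F : R) else 0) - 1 := by
  have h1 : ∀ y : F, (1 : MulChar F R) y * Ψ (y * c) = Ψ (y * c) - (if y = 0 then 1 else 0) := by
    intro y
    by_cases hy : y = 0
    · subst hy
      simp [MulChar.map_zero]
    · rw [MulChar.one_apply (isUnit_iff_ne_zero.mpr hy), if_neg hy]
      ring
  simp_rw [h1]
  rw [sum_sub_distrib, AddChar.sum_mulShift c (AddChar.IsPrimitive.of_ne_one hΨ)]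
  simp

/-- The inner sum after the substitution `z = y0 • x`. -/
lemma inner_sum (N : ℕ) (φ : Fin (N + 1) → MulChar F R) (hprod : ∏ i, φ i = 1)
    (Ψ : AddChar F R) (y0 : F) :
    ∑ z : Fin N → F, Ψ (y0 + ∑ i, z i) * (φ 0 y0 * ∏ i : Fin N, φ i.succ (z i)) =
      (1 : MulChar F R) y0 * ∑ x : Fin N → F, (∏ i : Fin N, φ i.succ (x i)) * Ψ (y0 * (1 + ∑ i, x i)) := by
  by_cases hy : y0 = 0
  · subst hy
    simp [MulChar.map_zero]
  · have hu : IsUnit y0 := isUnit_iff_ne_zero.mpr hy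
    rw [MulChar.one_apply hu, one_mul]
    let e : (Fin N → F) ≃ (Fin N → F) := Equiv.piCongrRight (fun _ => Equiv.mulLeft₀ y0 hy)
    rw [← Equiv.sum_comp e]
    refine Finset.sum_congr rfl (fun x _ => ?_)
    have he : ∀ i, e x i = y0 * x i := fun i => rfl
    simp_rw [he, map_mul, Finset.prod_mul_distrib, ← Finset.mul_sum]
    have h1 : φ 0 y0 * ∏ i : Fin N, φ i.succ y0 = 1 := by
      rw [← Fin.prod_univ_succ (fun i => φ i y0), ← mulChar_prod_apply _ _ hy, hprod,
        MulChar.one_apply hu]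
    have h2 : y0 + y0 * ∑ i, x i = y0 * (1 + ∑ i, x i) := by ring
    rw [h2]
    calc Ψ (y0 * (1 + ∑ i, x i)) * (φ 0 y0 * ((∏ i : Fin N, φ i.succ y0) * ∏ i : Fin N, φ i.succ (x i)))
        = (φ 0 y0 * ∏ i : Fin N, φ i.succ y0) * ((∏ i : Fin N, φ i.succ (x i)) * Ψ (y0 * (1 + ∑ i, x i))) := by
          ring
      _ = _ := by rw [h1, one_mul]

lemma exists_succ_ne_one (N : ℕ) (φ : Fin (N + 1) → MulChar F R) (hprod : ∏ i, φ i = 1)
    (hnt : ∃ i, φ i ≠ 1) : ∃ i : Fin N, φ i.succ ≠ 1 := by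
  by_contra h
  push Not at h
  have h0 : φ 0 = 1 := by
    rw [Fin.prod_univ_succ] at hprod
    simpa [h] using hprod
  obtain ⟨i, hi⟩ := hnt
  apply hi
  induction i using Fin.cases with
  | zero => exact h0
  | succ j => exact h j

lemma main_claim (N : ℕ) (φ : Fin (N + 1) → MulChar F R) (hprod : ∏ i, φ i = 1)
    (hnt : ∃ i, φ i ≠ 1) (Ψ : AddChar F R) (hΨ : Ψ ≠ 1) :
    ∏ i : Fin (N + 1), (∑ y : F, Ψ y * φ i y) =
      (Fintype.card F : R) *
        ∑ x ∈ (univ : Finset (Fin N → F)).filter (fun x => ∑ i, x i = -1),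
          ∏ i : Fin N, φ i.succ (x i) := by
  classical
  rw [Finset.prod_univ_sum, Fintype.piFinset_univ]
  have step2 : ∀ y : Fin (N + 1) → F, ∏ i, (Ψ (y i) * φ i (y i)) =
      Ψ (∑ i, y i) * ∏ i, φ i (y i) := by
    intro y
    rw [Finset.prod_mul_distrib, addChar_sum]
  simp_rw [step2]
  rw [← (Fin.consEquiv (fun _ : Fin (N + 1) => F)).sum_comp, Fintype.sum_prod_type]
  have step3 : ∀ (y0 : F) (z : Fin N → F),
      Ψ (∑ i, (Fin.consEquiv (fun _ : Fin (N + 1) => F)) (y0, z) i) *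
        ∏ i, φ i ((Fin.consEquiv (fun _ : Fin (N + 1) => F)) (y0, z) i) =
      Ψ (y0 + ∑ i, z i) * (φ 0 y0 * ∏ i : Fin N, φ i.succ (z i)) := by
    intro y0 z
    rw [Fin.sum_univ_succ, Fin.prod_univ_succ]
    rfl
  simp_rw [step3, inner_sum N φ hprod Ψ, Finset.mul_sum]
  rw [Finset.sum_comm]
  have step5 : ∀ x : Fin N → F,
      ∑ y0 : F, (1 : MulChar F R) y0 * ((∏ i : Fin N, φ i.succ (x i)) * Ψ (y0 * (1 + ∑ i, x i))) =
      (∏ i : Fin N, φ i.succ (x i)) *
        ((if ∑ i, x i = -1 then (Fintype.card F : R) else 0) - 1) := by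
    intro x
    have : ∀ y0 : F, (1 : MulChar F R) y0 * ((∏ i : Fin N, φ i.succ (x i)) * Ψ (y0 * (1 + ∑ i, x i))) =
        (∏ i : Fin N, φ i.succ (x i)) * ((1 : MulChar F R) y0 * Ψ (y0 * (1 + ∑ i, x i))) := by
      intro y0; ring
    simp_rw [this, ← Finset.mul_sum, sum_one_mul_addChar Ψ hΨ]
    congr 2
    have : (1 + ∑ i, x i = 0) ↔ (∑ i, x i = -1) := by
      constructor
      · intro h; linear_combination h
      · intro h; linear_combination h
    simp only [this]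
  simp_rw [step5, mul_sub, mul_one, Finset.sum_sub_distrib, mul_ite, mul_zero]
  rw [← Finset.sum_filter]
  have hzero : ∑ x : Fin N → F, ∏ i : Fin N, φ i.succ (x i) = 0 := by
    have := Finset.prod_univ_sum (fun _ : Fin N => (univ : Finset F)) (fun i t => φ i.succ t)
    rw [Fintype.piFinset_univ] at this
    rw [← this]
    obtain ⟨i, hi⟩ := exists_succ_ne_one N φ hprod hnt
    exact Finset.prod_eq_zero (mem_univ i) (MulChar.sum_eq_zero_of_ne_one hi)
  rw [hzero, sub_zero]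
  refine Finset.sum_congr rfl (fun x _ => ?_)
  ring

lemma units_sum (N : ℕ) (φ : Fin N → MulChar F R) :
    ∑ u ∈ (univ : Finset (Fin N → Fˣ)).filter (fun u => ∑ i, ((u i : Fˣ) : F) = -1),
        ∏ i : Fin N, φ i ((u i : Fˣ) : F) =
      ∑ x ∈ (univ : Finset (Fin N → F)).filter (fun x => ∑ i, x i = -1),
        ∏ i : Fin N, φ i (x i) := by
  classical
  let emb : (Fin N → Fˣ) ↪ (Fin N → F) :=
    ⟨fun u i => ((u i : Fˣ) : F), fun u v h => by
      funext i
      exact Units.ext (congrFun h i)⟩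
  have h1 : ∑ u ∈ (univ : Finset (Fin N → Fˣ)).filter (fun u => ∑ i, ((u i : Fˣ) : F) = -1),
        ∏ i : Fin N, φ i ((u i : Fˣ) : F) =
      ∑ x ∈ ((univ : Finset (Fin N → Fˣ)).filter (fun u => ∑ i, ((u i : Fˣ) : F) = -1)).map emb,
        ∏ i : Fin N, φ i (x i) := by
    rw [Finset.sum_map]
    rfl
  rw [h1]
  apply Finset.sum_subset
  · intro x hx
    rw [Finset.mem_map] at hx
    obtain ⟨u, hu, rfl⟩ := hx
    rw [Finset.mem_filter] at hu ⊢
    exact ⟨mem_univ _, hu.2⟩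
  · intro x hx hx'
    rw [Finset.mem_filter] at hx
    have : ∃ i, x i = 0 := by
      by_contra h
      push Not at h
      apply hx'
      rw [Finset.mem_map]
      refine ⟨fun i => Units.mk0 (x i) (h i), ?_, ?_⟩
      · rw [Finset.mem_filter]
        exact ⟨mem_univ _, by simpa using hx.2⟩
      · funext i
        rfl
    obtain ⟨i, hi⟩ := this
    exact Finset.prod_eq_zero (mem_univ i) (by rw [hi, MulChar.map_zero])

end aux

/-- Let F be a finite field with q elements, N ≥ 1, χ₀, …, χ_N multiplicative characters of F with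
values in a domain, not all trivial and with product 1, and Ψ a nontrivial additive character of F.
Put τ(χ, Ψ) = −Σ_{x ∈ F} Ψ(x) χ⁻¹(x) and J(χ) = (−1)^{N−1} Σ χ₁⁻¹(x₁) ⋯ χ_N⁻¹(x_N), the sum over x₁,
…, x_N ∈ F^* with x₁ + ⋯ + x_N = −1. Then q · J(χ) = τ(χ₀, Ψ) ⋯ τ(χ_N, Ψ). -/
theorem result (F : Type) [Field F] [Fintype F] [DecidableEq F] (R : Type) [CommRing R] [IsDomain R]
    (N : ℕ) (hN : 1 ≤ N) (χ : Fin (N + 1) → MulChar F R) (hprod : ∏ i, χ i = 1) (hnt : ∃ i, χ i ≠ 1)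
    (Ψ : AddChar F R) (hΨ : Ψ ≠ 1) :
    (Fintype.card F : R) * ((-1) ^ (N - 1) *
        ∑ x ∈ (Finset.univ : Finset (Fin N → Fˣ)).filter (fun x => ∑ i, ((x i : Fˣ) : F) = -1),
          ∏ i : Fin N, (χ i.succ)⁻¹ ((x i : Fˣ) : F)) =
      ∏ i : Fin (N + 1), (-(∑ y : F, Ψ y * (χ i)⁻¹ y)) := by
  have hprod' : ∏ i, (χ i)⁻¹ = 1 := by
    rw [Finset.prod_inv_distrib, hprod, inv_one]
  have hnt' : ∃ i, (χ i)⁻¹ ≠ 1 := by
    obtain ⟨i, hi⟩ := hnt
    exact ⟨i, fun h => hi (inv_eq_one.mp h)⟩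
  rw [units_sum N (fun i => (χ i.succ)⁻¹), Finset.prod_neg, 
    main_claim N (fun i => (χ i)⁻¹) hprod' hnt' Ψ hΨ]
  have hpow : ((-1 : R)) ^ (N - 1) = (-1) ^ (N + 1) := by
    obtain ⟨k, rfl⟩ := Nat.exists_eq_add_of_le hN
    have : 1 + k + 1 = (1 + k - 1) + 2 := by omega
    rw [this, pow_add]
    simp
  rw [hpow]
  simp only [Finset.card_univ, Fintype.card_fin]
  ring

end Groth.Agent.S3129
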