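import Groth.Statements.S3215
import Groth.Agent.Lib.T2H2QSplitD

set_option autoImplicit false
universe u
open SGA7II

namespace Groth.Agent.S3215

/-- Let A be a commutative ring and Q(x) = sum over pairs i <= j of a_{ij} x_i x_j a quadratic form in
2m variables on the free module A^{2m} (the source allows a locally free module, which is free
Zariski-locally; the variables indexed by two copies of Fin m, ordered first copy then second),
whose polar bilinear form (matrix entries 2a_{ii} on the diagonal, a_{ij} for i < j) has invertible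
determinant (Q is ordinary). Then there are finitely many etale A-algebras B_t whose spectra jointly
cover Spec A and, over each B_t, an invertible matrix g with Q(g x) = sum_j x_j x_{m+j}, the split
form. -/
theorem result (A : Type u) [CommRing A] (m : ℕ)
    (a : (Fin m ⊕ Fin m) → (Fin m ⊕ Fin m) → A) :
    let rk : Fin m ⊕ Fin m → ℕ := Sum.elim Fin.val (fun k => m + k.val)
    let QB : ∀ (B : Type u) [CommRing B] [Algebra A B], ((Fin m ⊕ Fin m) → B) → B :=
      fun B _ _ x => ∑ i, ∑ j, if rk i ≤ rk j then algebraMap A B (a i j) * x i * x j else 0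
    IsUnit (Matrix.det (Matrix.of fun i j : Fin m ⊕ Fin m =>
      if i = j then a i i + a i i else if rk i ≤ rk j then a i j else a j i)) →
    ∃ (n : ℕ) (B : Fin n → Type u) (_ : ∀ t, CommRing (B t)) (_ : ∀ t, Algebra A (B t)),
      (∀ t, Algebra.Etale A (B t)) ∧
      (∀ p : PrimeSpectrum A, ∃ (t : Fin n) (q : PrimeSpectrum (B t)),
        q.asIdeal.comap (algebraMap A (B t)) = p.asIdeal) ∧
      ∀ t, ∃ g : Matrix (Fin m ⊕ Fin m) (Fin m ⊕ Fin m) (B t), IsUnit g.det ∧
        ∀ x : Fin m ⊕ Fin m → B t, QB (B t) (g.mulVec x) = ∑ j : Fin m, x (Sum.inl j) * x (Sum.inr j) := by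
  intro rk QB hdet
  have hrk : Function.Injective rk := by
    rintro (i | i) (j | j) h <;> simp only [rk, Sum.elim_inl, Sum.elim_inr] at h
    · exact congrArg _ (Fin.ext h)
    · exact absurd h (by have := i.2; omega)
    · exact absurd h (by have := j.2; omega)
    · exact congrArg _ (Fin.ext (by omega))
  obtain ⟨M, hMdef⟩ : ∃ M : Matrix (Fin m ⊕ Fin m) (Fin m ⊕ Fin m) A,
      M = Matrix.of fun i j => if rk i ≤ rk j then a i j else 0 := ⟨_, rfl⟩
  have hpolar : M + M.transpose = Matrix.of fun i j : Fin m ⊕ Fin m =>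
      if i = j then a i i + a i i else if rk i ≤ rk j then a i j else a j i := by
    ext i j
    simp only [Matrix.add_apply, Matrix.transpose_apply, hMdef, Matrix.of_apply]
    by_cases hij : i = j
    · subst hij; simp
    · have hne : rk i ≠ rk j := fun h => hij (hrk h)
      by_cases hle : rk i ≤ rk j
      · have : ¬ rk j ≤ rk i := fun h' => hne (le_antisymm hle h')
        simp [hij, hle, this]
      · have : rk j ≤ rk i := le_of_not_ge hle
        simp [hij, hle, this]
  have hM : IsUnit (M + M.transpose).det := by rw [hpolar]; exact hdet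
  obtain ⟨c, hc⟩ := Groth.Agent.Lib.T2H2.QSplit.locSplit_of_regular m A (Fin m ⊕ Fin m) M
    (by simp; ring) hM
  obtain ⟨eT⟩ : Nonempty (c.T ≃ Fin (Fintype.card c.T)) := ⟨Fintype.equivFin c.T⟩
  refine ⟨Fintype.card c.T, fun t => c.B (eT.symm t), fun t => c.cr _, fun t => c.alg _,
    fun t => c.et _, ?_, ?_⟩
  · intro p
    obtain ⟨t, q, hq⟩ := c.cov p
    obtain ⟨t', rfl⟩ := eT.symm.surjective t
    exact ⟨t', q, hq⟩
  · intro t
    obtain ⟨κ, _, _, g, hcard, hg, hS⟩ := hc (eT.symm t)
    obtain ⟨eκ⟩ : Nonempty (κ ≃ Fin m) := ⟨Fintype.equivFinOfCardEq hcard⟩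
    obtain ⟨σ, hσ⟩ : ∃ σ : Fin m ⊕ Fin m ≃ κ ⊕ κ, σ = (Equiv.sumCongr eκ eκ).symm := ⟨_, rfl⟩
    refine ⟨g.submatrix (Equiv.refl _) σ, (hg.submatrix (Equiv.refl _) σ).isUnit_det, fun x => ?_⟩
    have hQB : ∀ z : Fin m ⊕ Fin m → c.B (eT.symm t), QB (c.B (eT.symm t)) z
        = Groth.Agent.Lib.T2H2.QSplit.qf (M.map (algebraMap A (c.B (eT.symm t)))) z := by
      intro z
      simp only [QB, Groth.Agent.Lib.T2H2.QSplit.qf, Groth.Agent.Lib.T2H2.QSplit.bq_eq_sum, hMdef,
        Matrix.map_apply, Matrix.of_apply]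
      refine Finset.sum_congr rfl fun i _ => Finset.sum_congr rfl fun j _ => ?_
      split_ifs <;> simp
    have hconj : (g.submatrix (Equiv.refl _) σ).transpose * M.map (algebraMap A (c.B (eT.symm t)))
          * g.submatrix (Equiv.refl _) σ
        = (g.transpose * M.map (algebraMap A (c.B (eT.symm t))) * g).submatrix σ σ := by
      ext i j
      simp [Matrix.mul_apply]
    have hsplit : (Groth.Agent.Lib.T2H2.QSplit.splitM (c.B (eT.symm t)) κ).submatrix σ σ
        = Groth.Agent.Lib.T2H2.QSplit.splitM (c.B (eT.symm t)) (Fin m) := by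
      ext i j
      rcases i with i | i <;> rcases j with j | j <;>
        simp [Groth.Agent.Lib.T2H2.QSplit.splitM, hσ, Matrix.one_apply]
    show QB (c.B (eT.symm t)) ((g.submatrix (Equiv.refl _) σ).mulVec x) = _
    rw [hQB, ← Groth.Agent.Lib.T2H2.QSplit.qf_conj, hconj, (hS.submatrix σ).qf_eq x, hsplit,
      Groth.Agent.Lib.T2H2.QSplit.qf_splitM]

end Groth.Agent.S3215
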