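import Groth.Statements.S3315
import Groth.Agent.Lib.T2H9PicModelB
import Groth.Agent.Lib.T2H9ArInterC

set_option autoImplicit false
set_option linter.style.haveILetI false
set_option linter.unusedVariables false
universe u
open CategoryTheory CategoryTheory.Limits AlgebraicGeometry
open Models

namespace Groth.Agent.S3315

/-- Let R be a discrete valuation ring with fraction field K, C a smooth proper curve over K with H^0(C,
O_C) = K, X a regular proper model of C with generic-fibre inclusion g : C → X, Γ_1, …, Γ_n the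
irreducible components of the closed fibre and L_i ⊗ I(Γ_i) ≅ O_X. If M is an invertible O_X-module
whose pullback to C is trivial, then there are natural numbers a_i, b_i with M ⊗ L_1^{a_1} ⊗ ⋯ ⊗
L_n^{a_n} ≅ L_1^{b_1} ⊗ ⋯ ⊗ L_n^{b_n}, i.e. M ≅ O_X(Σ (b_i - a_i) Γ_i). -/
theorem result (R : Type u) [CommRing R] [IsDomain R] [IsDiscreteValuationRing R]
    (C X : Scheme.{u}) (f : C ⟶ Spec (CommRingCat.of (FractionRing R))) (p : X ⟶ Spec (CommRingCat.of R))
    (hC : Curve.IsSmoothProperCurve (FractionRing R) C f) (hH0 : IsIso f.appTop)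
    (hX : Models.IsRegularProperModel R X p C f)
    {n : ℕ} (Γ : Fin n → ArSurf.VertComp R (Over.mk p)) (hΓ : Models.IsComponentList R (Over.mk p) Γ)
    (g : C ⟶ X) (hg : IsPullback g f p (Spec.map (CommRingCat.ofHom (algebraMap R (FractionRing R)))))
    (L : Fin n → X.Modules) (hL : ∀ i, ClSub.IsInverseOf (L i) (ClSub.idealMod (Γ i).ι.ker)) (M : X.Modules) (hM : PicF.IsInvertible M)
    (htriv : Nonempty ((Scheme.Modules.pullback g).obj M ≅ Coh.structureModule C)) :
    ∃ a b : Fin n → ℕ, Nonempty (CohB1.tensorMod M (FGA.multiTwist L a) ≅ FGA.multiTwist L b) := by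
  obtain ⟨⟨hflat, hlft, hqc, -⟩, hprop, hreg⟩ := hX
  haveI : IsProper (Over.mk p).hom := hprop
  haveI : Flat (Over.mk p).hom := hflat
  haveI : IsLocallyNoetherian (Over.mk p).left :=
    Groth.Agent.Lib.T2H9.ArInterC.isLocallyNoetherian_of_isProper (X := Over.mk p)
  obtain ⟨b, ⟨e⟩⟩ := Groth.Agent.Lib.T2H9.PicModelB.exists_multiTwist_of_trivial (X := Over.mk p) hreg Γ hΓ L hL
    M hM f g hg htriv
  refine ⟨fun _ => 0, b, Groth.Agent.Lib.T2H9.ClMonoid.nonempty_iso_of_cl_eq ?_⟩
  letI := Groth.Agent.Lib.T2H9.ClMonoid.clMonoid X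
  rw [Groth.Agent.Lib.T2H9.ClMonoid.cl_tensorMod, Groth.Agent.Lib.T2H9.ClMonoid.cl_multiTwist,
    ← Groth.Agent.Lib.T2H9.ClMonoid.cl_eq_of_iso e]
  simp only [pow_zero, Finset.prod_const_one, mul_one]

end Groth.Agent.S3315
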