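import Groth.Statements.S3428
import Mathlib
import Groth.Agent.Lib.T2H3FibTopCons

set_option autoImplicit false
open CategoryTheory AlgebraicGeometry
universe u
open EGA43

namespace Groth.Agent.S3428

/-- Let f : X ⟶ S be of finite presentation (locally of finite presentation, quasi-compact,
quasi-separated) and Z a locally constructible subset of X. Then the set of points s of S such that
Z ∩ f⁻¹(s) is closed in the fibre f⁻¹(s) (with the topology induced from X), the set of s such that
it is open in the fibre, and the set of s such that it is locally closed in the fibre, are locally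
constructible in S. -/
theorem result {X S : Scheme.{u}} (f : X ⟶ S)
    [LocallyOfFinitePresentation f] [QuasiCompact f] [QuasiSeparated f] (Z : Set X)
    (hZ : Topology.IsLocallyConstructible Z) :
    Topology.IsLocallyConstructible {s : S | IsClosed (Subtype.val ⁻¹' Z : Set ↥(f.base ⁻¹' {s}))} ∧
      Topology.IsLocallyConstructible {s : S | IsOpen (Subtype.val ⁻¹' Z : Set ↥(f.base ⁻¹' {s}))} ∧
      Topology.IsLocallyConstructible {s : S | IsLocallyClosed (Subtype.val ⁻¹' Z : Set ↥(f.base ⁻¹' {s}))} := by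
  refine ⟨?_, ?_, ?_⟩
  · have h := Groth.Agent.Lib.T2H3.FibTopCons.isLocallyConstructible_locusQ_closed f Z Z hZ hZ
    have heq : {s : S | IsClosed (Subtype.val ⁻¹' Z : Set ↥(f.base ⁻¹' {s}))} =
        Groth.Agent.Lib.T2H3.FibTop.locusQ Groth.Agent.Lib.T2H3.FibTopCons.QClosed f Z Z := by
      ext s
      exact (Groth.Agent.Lib.T2H3.FibTop.mem_locusQ_iff
        Groth.Agent.Lib.T2H3.FibTopCons.stable_QClosed f Z Z s).symm
    rw [heq]
    exact h
  · have hZc : Topology.IsLocallyConstructible Zᶜ := by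
      intro x
      obtain ⟨U, hU, hUo, hc⟩ := hZ x
      exact ⟨U, hU, hUo, by rw [Set.preimage_compl]; exact hc.compl⟩
    have h := Groth.Agent.Lib.T2H3.FibTopCons.isLocallyConstructible_locusQ_closed f Zᶜ Z
      hZc hZ
    have heq : {s : S | IsOpen (Subtype.val ⁻¹' Z : Set ↥(f.base ⁻¹' {s}))} =
        Groth.Agent.Lib.T2H3.FibTop.locusQ Groth.Agent.Lib.T2H3.FibTopCons.QClosed f Zᶜ Z := by
      ext s
      rw [Groth.Agent.Lib.T2H3.FibTop.mem_locusQ_iff
        Groth.Agent.Lib.T2H3.FibTopCons.stable_QClosed f Zᶜ Z s]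
      change IsOpen (Subtype.val ⁻¹' Z : Set ↥(f.base ⁻¹' {s})) ↔
        IsClosed (Subtype.val ⁻¹' Zᶜ : Set ↥(f.base ⁻¹' {s}))
      rw [Set.preimage_compl, isClosed_compl_iff]
    rw [heq]
    exact h
  · have h := Groth.Agent.Lib.T2H3.FibTopCons.isLocallyConstructible_locusQ_lc f Z Z hZ hZ
    have heq : {s : S | IsLocallyClosed (Subtype.val ⁻¹' Z : Set ↥(f.base ⁻¹' {s}))} =
        Groth.Agent.Lib.T2H3.FibTop.locusQ Groth.Agent.Lib.T2H3.FibTopCons.QLC f Z Z := by
      ext s
      exact (Groth.Agent.Lib.T2H3.FibTop.mem_locusQ_iff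
        Groth.Agent.Lib.T2H3.FibTopCons.stable_QLC f Z Z s).symm
    rw [heq]
    exact h

end Groth.Agent.S3428
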