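import Groth.Statements.S3460
import Mathlib

set_option autoImplicit false
set_option linter.style.haveILetI false
open CategoryTheory AlgebraicGeometry
universe u
open EGA43

namespace Groth.Agent.S3460

open CategoryTheory.Limits in
/-- a morphism factoring through an open subscheme is the base change of its lift. -/
theorem isPullback_lift {X Y : Scheme.{u}} (f : X ⟶ Y) (V : Y.Opens) (k : X ⟶ V)
    (hk : k ≫ V.ι = f) : IsPullback k (𝟙 X) V.ι f :=
  (IsPullback.of_horiz_isIso_mono (fst := 𝟙 X) (snd := k) (f := f) (g := V.ι)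
    ⟨by rw [Category.id_comp, hk]⟩).flip

open CategoryTheory.Limits in
/-- if `f = k ≫ V.ι` and `U ≤ V`, the restriction of `k` over `U` (seen in `V`) is a base change
of the restriction of `f` over `U`. -/
theorem isProper_morphismRestrict_lift {X Y : Scheme.{u}} (f : X ⟶ Y) (V : Y.Opens) (k : X ⟶ V)
    (hk : k ≫ V.ι = f) (U : Y.Opens) (hU : IsProper (f ∣_ U)) :
    IsProper (k ∣_ (V.ι ⁻¹ᵁ U)) := by
  have s₁ := isPullback_morphismRestrict k (V.ι ⁻¹ᵁ U)
  have s₂ := isPullback_lift f V k hk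
  have s₃ := isPullback_morphismRestrict f U
  have big := s₁.paste_vert s₂
  have e1 : (V.ι ⁻¹ᵁ U).ι ≫ V.ι = (V.ι ∣_ U) ≫ U.ι := (morphismRestrict_ι V.ι U).symm
  have hcomm : (k ∣_ (V.ι ⁻¹ᵁ U) ≫ V.ι ∣_ U) ≫ U.ι = (k ⁻¹ᵁ (V.ι ⁻¹ᵁ U)).ι ≫ f := by
    rw [Category.assoc, ← e1, ← Category.assoc, morphismRestrict_ι, Category.assoc, hk]
  have top : IsPullback (k ∣_ (V.ι ⁻¹ᵁ U)) (s₃.lift _ _ hcomm) (V.ι ∣_ U) (f ∣_ U) := by
    refine IsPullback.of_bot ?_ (s₃.lift_fst _ _ hcomm).symm s₃
    rw [s₃.lift_snd, ← e1]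
    simpa using big
  exact MorphismProperty.of_isPullback top.flip hU


/-- Let Y be locally Noetherian and f : X ⟶ Y of finite type. Then there exist a scheme Z, a proper
morphism g : X ⟶ Z and an immersion h : Z ⟶ Y with f = g ≫ h if and only if f is proper at every
point of f(X), i.e. every point of f(X) has an open neighbourhood U in Y over which the restriction
of f is proper. -/
theorem result {X Y : Scheme.{u}} [IsLocallyNoetherian Y]
    (f : X ⟶ Y) [LocallyOfFiniteType f] [QuasiCompact f] :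
    (∃ (Z : Scheme.{u}) (g : X ⟶ Z) (h : Z ⟶ Y), IsProper g ∧ IsImmersion h ∧ g ≫ h = f) ↔
      ∀ x : X, ∃ U : Y.Opens, f.base x ∈ U ∧ IsProper (f ∣_ U) := by
  constructor
  · rintro ⟨Z, g, h, hg, hh, rfl⟩
    intro x
    have hk : (g ≫ h.liftCoborder) ≫ h.coborderRange.ι = g ≫ h := by
      rw [Category.assoc, Scheme.Hom.liftCoborder_ι]
    refine ⟨h.coborderRange, ?_, ?_⟩
    · have : (g ≫ h) x = h.coborderRange.ι ((g ≫ h.liftCoborder) x) := by
        rw [← Scheme.Hom.comp_apply, hk]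
      show (g ≫ h) x ∈ h.coborderRange
      rw [this]
      exact ((g ≫ h.liftCoborder) x).2
    · have s := isPullback_morphismRestrict (g ≫ h) h.coborderRange
      have s₂ := isPullback_lift (g ≫ h) h.coborderRange (g ≫ h.liftCoborder) hk
      rw [← s.isoIsPullback_hom_fst _ _ s₂]
      infer_instance
  · intro H
    choose U hxU hU using H
    let V : Y.Opens := ⨆ x, U x
    have hrange : Set.range f ⊆ V := by
      rintro _ ⟨x, rfl⟩
      exact TopologicalSpace.Opens.mem_iSup.mpr ⟨x, hxU x⟩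
    let k : X ⟶ V := IsOpenImmersion.lift V.ι f (by simpa using hrange)
    have hk : k ≫ V.ι = f := IsOpenImmersion.lift_fac _ _ _
    refine ⟨V, k, V.ι, ?_, inferInstance, hk⟩
    apply IsZariskiLocalAtTarget.of_forall_exists_morphismRestrict (P := @IsProper)
    intro v
    obtain ⟨x, hx⟩ := TopologicalSpace.Opens.mem_iSup.mp v.2
    exact ⟨V.ι ⁻¹ᵁ U x, hx, isProper_morphismRestrict_lift f V k hk (U x) (hU x)⟩

end Groth.Agent.S3460
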