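import Groth.Statements.S3517
import Groth.Agent.Lib.T2H8SecPull

set_option autoImplicit false
universe u
open CategoryTheory CategoryTheory.Limits AlgebraicGeometry Opposite
open EtBC

namespace Groth.Agent.S3517

/-- Let h : Y → X and p : X̄ → X be morphisms of schemes with p surjective, Ȳ = Y ×_X X̄ with
projections h̄ : Ȳ → X̄ and p_Y : Ȳ → Y. If for every sheaf of sets F̄ on X̄ the pullback map on
global sections Γ(X̄, F̄) → Γ(Ȳ, h̄^* F̄) is injective, then for every sheaf of sets F on X the map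
Γ(X, F) → Γ(Y, h^* F) is injective. If those maps for h̄ are bijective and moreover the base change
morphism h^* p_* F̄ → p_{Y*} h̄^* F̄ is a monomorphism for every sheaf of sets F̄ on X̄, then the
maps Γ(X, F) → Γ(Y, h^* F) are bijective. -/
theorem result {X Y Xb Yb : Scheme.{u}} (h : Y ⟶ X) (p : Xb ⟶ X)
    (hb : Yb ⟶ Xb) (pY : Yb ⟶ Y) (sq : IsPullback hb pY p h) (hp : Function.Surjective p.base) :
    ((∀ Fb : EtDesc.Sh Xb, Function.Injective (EtDesc.secPull hb Fb)) →
      ∀ F : EtDesc.Sh X, Function.Injective (EtDesc.secPull h F)) ∧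
    ((∀ Fb : EtDesc.Sh Xb, Function.Bijective (EtDesc.secPull hb Fb)) →
      (∀ Fb : EtDesc.Sh Xb, Mono (EtBC.baseChange0Sh p h pY hb sq.w Fb)) →
      ∀ F : EtDesc.Sh X, Function.Bijective (EtDesc.secPull h F)) := by
  haveI : Surjective p := ⟨hp⟩
  have inj : (∀ Fb : EtDesc.Sh Xb, Function.Injective (EtDesc.secPull hb Fb)) →
      ∀ F : EtDesc.Sh X, Function.Injective (EtDesc.secPull h F) := by
    intro hinj F s t hst
    have e1 := Groth.Agent.Lib.T2H8SecPull.secPull_pullVia pY h (hb ≫ p) sq.w.symm F s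
    have e2 := Groth.Agent.Lib.T2H8SecPull.secPull_pullVia pY h (hb ≫ p) sq.w.symm F t
    rw [hst] at e1
    have e3 := Groth.Agent.Lib.T2H8SecPull.secPull_pullVia hb p (hb ≫ p) rfl F s
    have e4 := Groth.Agent.Lib.T2H8SecPull.secPull_pullVia hb p (hb ≫ p) rfl F t
    have e5 := e3.trans (e1.symm.trans (e2.trans e4.symm))
    have e6 := (Groth.Agent.Lib.T2H8SecPull.bijective_app_of_isIso
      (EtDesc.pullVia hb p (hb ≫ p) rfl F).hom (op (EtCoh.top Yb))).1 e5
    exact Groth.Agent.Lib.T2H8SecPull.secPull_injective_of_surjective p F (hinj _ e6)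
  refine ⟨inj, ?_⟩
  intro hbij hmono F
  have hinj := inj (fun Fb => (hbij Fb).1)
  refine ⟨hinj F, ?_⟩
  intro ξ
  haveI := Groth.Agent.Lib.T2H8.PullFaithful.faithful p
  haveI : Mono ((EtDesc.adjSh p).unit.app F) := inferInstance
  apply Groth.Agent.Lib.T2H8SecPull.mem_range_secPull_of_mono h hinj ((EtDesc.adjSh p).unit.app F) ξ
  let Fb := (EtDesc.pullSh p).obj F
  let ξ' := ((EtDesc.pullSh h).map ((EtDesc.adjSh p).unit.app F)).hom.app (op (EtCoh.top Y)) ξ
  have key := Groth.Agent.Lib.T2H8SecPull.baseChange0Sh_secPull p h pY hb sq.w Fb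
  haveI := hmono Fb
  obtain ⟨t, ht⟩ := (hbij Fb).2 (((EtDesc.pullSh hb).obj Fb).obj.map (EtCore.bcTopIso pY).inv.op
    ((EtBC.baseChange0Sh p h pY hb sq.w Fb).hom.app (op (EtCoh.top Y)) ξ'))
  refine ⟨Fb.obj.map (EtCore.bcTopIso p).hom.op t, ?_⟩
  apply Groth.Agent.Lib.T2H8SecPull.injective_app_of_mono (EtBC.baseChange0Sh p h pY hb sq.w Fb)
    (op (EtCoh.top Y))
  refine (key t).trans ?_
  rw [ht]
  exact Groth.Agent.Lib.T2H8SecPull.map_hom_inv_apply ((EtDesc.pullSh hb).obj Fb).obj (EtCore.bcTopIso pY) _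

end Groth.Agent.S3517
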