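import Groth.Statements.S3565
import Mathlib
import Groth.Agent.Lib.T2H5NormAmpleD
import Groth.Agent.S2355
import Groth.Agent.Lib.Helper18FinFlat1
import Groth.Agent.Lib.Helper23PB2
-- import your own Groth.Agent.* helpers here

set_option autoImplicit false
universe u
open CategoryTheory CategoryTheory.Limits AlgebraicGeometry
open EGA2

namespace Groth.Agent.S3565

/-- Let f : X → Y be a quasi-compact morphism, g : X' → X a finite surjective morphism such that the
direct image of the structure sheaf of X' is a finite locally free O_X-module, and L an invertible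
O_X-module. Then L is ample relative to f if and only if its inverse image on X' is ample relative
to f ∘ g. -/
theorem result {X X' Y : Scheme.{u}} (f : X ⟶ Y) [QuasiCompact f]
    (g : X' ⟶ X) [IsFinite g] [Surjective g]
    (hfree : FlatMod.IsFinLocFree ((Coh.push g).obj (Coh.structureModule X')))
    (L : X.Modules) (hL : PicF.IsInvertible L) :
    RelAmple.IsRelAmple f L ↔ RelAmple.IsRelAmple (g ≫ f) ((Scheme.Modules.pullback g).obj L) := by
  have hg : Mor2.IsFinLocFree g := Groth.Agent.Helper18FinFlat.isFinLocFree_of_pushforward g hfree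
  constructor
  · intro h
    refine Groth.Agent.S2355.result f g ⟨inferInstance, fun V hV => ?_⟩ L h
    haveI : IsAffine ((g ⁻¹ᵁ V : X'.Opens) : Scheme.{u}) := hV.preimage g
    infer_instance
  · rintro ⟨hqc, h⟩
    refine ⟨inferInstance, fun V => ?_⟩
    have h1 : CohB1.IsAmple (((Scheme.Modules.pullback g).obj L).restrict (g ⁻¹ᵁ (f ⁻¹ᵁ V.1)).ι) := h V
    have h2 := Groth.Agent.Lib.Helper23.AmpleIso.isAmple_of_iso
      (Groth.Agent.Lib.Helper23.PB.pullbackRestrictIso g L (f ⁻¹ᵁ V.1)) h1
    have hg1 : Mor2.IsFinLocFree (g ∣_ (f ⁻¹ᵁ V.1)) :=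
      ⟨IsZariskiLocalAtTarget.restrict hg.1 _, IsZariskiLocalAtTarget.restrict hg.2.1 _,
        IsZariskiLocalAtTarget.restrict hg.2.2 _⟩
    have hs1 : Surjective (g ∣_ (f ⁻¹ᵁ V.1)) :=
      IsZariskiLocalAtTarget.restrict (P := @Surjective) inferInstance _
    exact Groth.Agent.Lib.T2H5.NormAmple.isAmple_of_pullback_isFinLocFree (g ∣_ (f ⁻¹ᵁ V.1)) hg1 hs1.surj
      (L.restrict (f ⁻¹ᵁ V.1).ι) (Groth.Agent.Lib.Helper23.SecTw.isInvertible_restrict L hL _) h2

end Groth.Agent.S3565
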