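import Groth.Statements.S3720
import Groth.Agent.Lib.T2H3KummerCover
import Groth.Agent.Lib.T2H3PrincCover

set_option autoImplicit false
set_option linter.style.haveILetI false
open CategoryTheory CategoryTheory.Limits AlgebraicGeometry
universe u
open SGA1t

namespace Groth.Agent.S3720

/-- Kummer theory over a local ring: let A be a local ring, n ≥ 1 an integer invertible in A, and
suppose A contains a primitive n-th root of unity (so that the group μ_n(A) of n-th roots of unity
in A is cyclic of order n). Then every principal μ_n(A)-cover P of Spec A is isomorphic over Spec A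
to a Kummer cover Spec A[T]/(Tⁿ − a) for some unit a of A, compatibly with the actions: the given
action of a root of unity ζ on P corresponds to the automorphism of A[T]/(Tⁿ − a) induced by T ↦ ζT. -/
theorem result (A : Type u) [CommRing A] [IsLocalRing A] (n : ℕ) (hn1 : 1 ≤ n)
    (hn : IsUnit ((n : ℕ) : A)) (ζ₀ : A) (hζ₀ : IsPrimitiveRoot ζ₀ n)
    (P : FEt.Cat (Spec (CommRingCat.of A))) (ρ : ↥(rootsOfUnity n A) →* Aut P)
    (hP : SGA1t.IsPrincipal ↥(rootsOfUnity n A) P ρ) :
    ∃ (a : Aˣ) (e : P.left ≅ Spec (CommRingCat.of (SGA1t.kummer A (fun _ : Unit => (a : A)) (fun _ => n)))),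
      e.hom ≫ Spec.map (CommRingCat.ofHom (algebraMap A (SGA1t.kummer A (fun _ : Unit => (a : A)) (fun _ => n)))) = P.hom ∧
      ∀ ζ : ↥(rootsOfUnity n A), (ρ ζ).hom.left ≫ e.hom =
        e.hom ≫ Spec.map (CommRingCat.ofHom (SGA1t.kummerTwist A (fun _ : Unit => (a : A)) (fun _ => n) (fun _ => ζ))) := by
  obtain ⟨B, _, _, hfin, het, hff, e₀, σ, he₀, hρσ, hσ1, hσmul, hT⟩ :=
    Groth.Agent.Lib.T2H3.PrincCover.exists_galoisAlg A P ρ hP
  obtain ⟨a, ψ, hψ⟩ :=
    Groth.Agent.Lib.T2H3.KummerCover.exists_algEquiv n hn1 hn ζ₀ hζ₀ σ hσ1 hσmul hT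
  let eψ : Spec (CommRingCat.of B) ≅
      Spec (CommRingCat.of (SGA1t.kummer A (fun _ : Unit => (a : A)) (fun _ => n))) :=
    { hom := Spec.map (CommRingCat.ofHom
        (ψ : SGA1t.kummer A (fun _ : Unit => (a : A)) (fun _ => n) →ₐ[A] B).toRingHom)
      inv := Spec.map (CommRingCat.ofHom
        (ψ.symm : B →ₐ[A] SGA1t.kummer A (fun _ : Unit => (a : A)) (fun _ => n)).toRingHom)
      hom_inv_id := by
        rw [← Spec.map_comp, ← Spec.map_id]
        congr 1
        ext x
        change ψ (ψ.symm x) = x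
        exact ψ.apply_symm_apply x
      inv_hom_id := by
        rw [← Spec.map_comp, ← Spec.map_id]
        congr 1
        apply CommRingCat.hom_ext
        apply RingHom.ext
        intro x
        change ψ.symm (ψ x) = x
        exact ψ.symm_apply_apply x }
  refine ⟨a, e₀ ≪≫ eψ, ?_, ?_⟩
  · change (e₀.hom ≫ Spec.map _) ≫ Spec.map _ = P.hom
    rw [Category.assoc, ← Spec.map_comp, ← he₀]
    congr 2
    ext x
    exact ψ.commutes x
  · intro ζ
    change (ρ ζ).hom.left ≫ e₀.hom ≫ Spec.map _ = (e₀.hom ≫ Spec.map _) ≫ Spec.map _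
    rw [← Category.assoc, hρσ, Category.assoc, Category.assoc, ← Spec.map_comp, ← Spec.map_comp]
    congr 2
    apply CommRingCat.hom_ext
    apply RingHom.ext
    intro x
    exact hψ ζ x

end Groth.Agent.S3720
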