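import Groth.Statements.S3721
import Groth.Agent.Lib.T2H3ASCover
import Groth.Agent.Lib.T2H3PrincCover

set_option autoImplicit false
set_option linter.style.haveILetI false
open CategoryTheory CategoryTheory.Limits AlgebraicGeometry
universe u
open SGA1t

namespace Groth.Agent.S3721

/-- Let p be a prime and A a commutative ring of characteristic p. Then every principal ℤ/p-cover P of
Spec A (a finite étale cover with an action of ℤ/p making it a torsor) is isomorphic over Spec A to
an Artin–Schreier cover Spec A[T]/(T^p − T − a) for some a ∈ A, compatibly with the actions: under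
the isomorphism the given action of j ∈ ℤ/p on P corresponds to the automorphism of the
Artin–Schreier cover induced by T ↦ T + j. The published statement is for any base S of
characteristic p on which Frobenius fixes no nonzero element of H¹(S, O_S); it is stated here for S
= Spec A affine. -/
theorem result (A : Type u) [CommRing A] (p : ℕ) [Fact p.Prime] [CharP A p]
    (P : FEt.Cat (Spec (CommRingCat.of A))) (ρ : Multiplicative (ZMod p) →* Aut P)
    (hP : SGA1t.IsPrincipal (Multiplicative (ZMod p)) P ρ) :
    ∃ (a : A) (e : P.left ≅ Spec (CommRingCat.of (SGA1t.artinSchreier A p a))),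
      e.hom ≫ Spec.map (CommRingCat.ofHom (algebraMap A (SGA1t.artinSchreier A p a))) = P.hom ∧
      ∀ j : ZMod p, (ρ (Multiplicative.ofAdd j)).hom.left ≫ e.hom =
        e.hom ≫ Spec.map (CommRingCat.ofHom (SGA1t.artinSchreierShift A p a j)) := by
  obtain ⟨B, _, _, hfin, het, hff, e₀, σ, he₀, hρσ, hσ1, hσmul, hT⟩ :=
    Groth.Agent.Lib.T2H3.PrincCover.exists_galoisAlg A P ρ hP
  obtain ⟨a, ψ, hψ⟩ := Groth.Agent.Lib.T2H3.ASCover.exists_algEquiv p σ hσ1 hσmul hT
  let eψ : Spec (CommRingCat.of B) ≅ Spec (CommRingCat.of (SGA1t.artinSchreier A p a)) :=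
    { hom := Spec.map (CommRingCat.ofHom (ψ : SGA1t.artinSchreier A p a →ₐ[A] B).toRingHom)
      inv := Spec.map (CommRingCat.ofHom (ψ.symm : B →ₐ[A] SGA1t.artinSchreier A p a).toRingHom)
      hom_inv_id := by
        rw [← Spec.map_comp, ← Spec.map_id]
        congr 1
        ext x
        change ψ (ψ.symm x) = x
        exact ψ.apply_symm_apply x
      inv_hom_id := by
        rw [← Spec.map_comp, ← Spec.map_id]
        congr 1
        apply CommRingCat.hom_ext
        apply RingHom.ext
        intro x
        change ψ.symm (ψ x) = x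
        exact ψ.symm_apply_apply x }
  refine ⟨a, e₀ ≪≫ eψ, ?_, ?_⟩
  · change (e₀.hom ≫ Spec.map _) ≫ Spec.map _ = P.hom
    rw [Category.assoc, ← Spec.map_comp, ← he₀]
    congr 2
    ext x
    exact ψ.commutes x
  · intro j
    change (ρ (Multiplicative.ofAdd j)).hom.left ≫ e₀.hom ≫ Spec.map _ =
      (e₀.hom ≫ Spec.map _) ≫ Spec.map _
    rw [← Category.assoc, hρσ, Category.assoc, Category.assoc, ← Spec.map_comp, ← Spec.map_comp]
    congr 2
    apply CommRingCat.hom_ext
    apply RingHom.ext
    intro x
    exact hψ j x

end Groth.Agent.S3721
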