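import Groth.Statements.S3794
import Groth.Agent.Lib.T2H7ChD

set_option autoImplicit false
universe v u
open CategoryTheory CategoryTheory.Limits AlgebraicGeometry
attribute [local instance] HasDerivedCategory.standard
open scoped TensorProduct
open KRR

namespace Groth.Agent.S3794

open Groth.Agent.Lib.T2H7 Groth.Agent.Lib.Helper4 in
theorem exists_nsmul_mem {K : Type v} [CommRing K] [LambdaRing.LambdaOps K]
    (P : LambdaRing.PosStructure K) (hK : LambdaRing.HasSplitting K P) (d : ℕ)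
    (hd : LambdaRing.gammaFiltration P (d + 1) = ⊥) (x : K) (hx : KGr.chK P d x = 0) (n : ℕ)
    (hn : n ≤ d + 1) : ∃ M : ℕ, 1 ≤ M ∧ M • x ∈ LambdaRing.gammaFiltration P n := by
  induction n with
  | zero =>
    refine ⟨1, le_refl _, ?_⟩
    rw [gammaFiltration_zero]; trivial
  | succ n ih =>
    obtain ⟨M, hM, hy⟩ := ih (by omega)
    have hch : KGr.chK P d (M • x) = 0 := by
      have := map_nsmul (ChD.chAdd (P := P) d hd) M x
      rw [ChD.chAdd_apply, ChD.chAdd_apply, hx, smul_zero] at this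
      exact this
    have h1 := ChD.chK_sub_gclHom_mem hK d hd n (by omega) (M • x) hy
    rw [hch, zero_sub] at h1
    have h2 : ChA.gclHom P n ⟨M • x, hy⟩ ∈ ChA.GrFil P (n + 1) := by
      have := neg_mem h1
      rwa [neg_neg] at this
    have h3 := ChA.piQ_eq_zero_of_mem P n _ h2
    rw [ChA.piQ_gclHom, if_pos rfl] at h3
    obtain ⟨M', hM', hy'⟩ := ChA.exists_nsmul_mem_of_tmul_eq_zero P n (M • x) h3
    refine ⟨M' * M, Nat.one_le_iff_ne_zero.mpr (Nat.mul_ne_zero (by omega) (by omega)), ?_⟩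
    rw [mul_smul]
    exact hy'

open Groth.Agent.Lib.T2H7 Groth.Agent.Lib.Helper4 in
theorem GrFil_le_range {K : Type v} [CommRing K] [LambdaRing.LambdaOps K]
    (P : LambdaRing.PosStructure K) (hK : LambdaRing.HasSplitting K P) (d : ℕ)
    (hd : LambdaRing.gammaFiltration P (d + 1) = ⊥)
    (Φ : TensorProduct ℤ ℚ K →ₗ[ℚ] KGr.Gr P)
    (hΦ : ∀ x : K, Φ ((1 : ℚ) ⊗ₜ[ℤ] x) = KGr.chK P d x) (j : ℕ) (hj : j ≤ d + 1) :
    ChA.GrFil P (d + 1 - j) ≤ LinearMap.range Φ := by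
  induction j with
  | zero =>
    rw [Nat.sub_zero, ChA.GrFil_eq_bot P d hd (Nat.lt_succ_self d)]
    exact bot_le
  | succ j ih =>
    have ih' := ih (by omega)
    obtain ⟨n, hn⟩ : ∃ n, d + 1 - (j + 1) = n := ⟨_, rfl⟩
    have hn' : d + 1 - j = n + 1 := by omega
    rw [hn]
    rw [hn'] at ih'
    apply Submodule.span_le.mpr
    rintro g ⟨k, hk, y, rfl⟩
    rcases Nat.lt_or_ge n k with h | h
    · exact ih' (ChA.gclHom_mem_GrFil P h y)
    · have hkn : k = n := le_antisymm h hk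
      subst hkn
      have h1 := ChD.chK_sub_gclHom_mem hK d hd k (by omega) y.1 y.2
      have h2 : KGr.chK P d y.1 ∈ LinearMap.range Φ := ⟨_, hΦ y.1⟩
      have h3 := sub_mem h2 (ih' h1)
      rw [sub_sub_cancel] at h3
      exact h3

/-- Let K be a λ-ring with positive structure having the splitting property, whose γ-filtration
satisfies F^{d+1} K = 0. Then the Chern character ch : K ⟶ ℚGr K = ℚ ⊗ (⊕ F^n/F^{n+1}) (from the
Chern classes c^i(x) = γ^i(x - ε x) mod F^{i+1} through the Hirzebruch polynomials of exp, truncated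
at d) is additive and induces a bijection ℚ ⊗ K ⟶ ℚGr K: there is a ℚ-linear Φ with Φ(1 ⊗ x) = ch(x)
for all x, and it is bijective. -/
theorem result (K : Type v) [CommRing K] [LambdaRing.LambdaOps K] (P : LambdaRing.PosStructure K) (hK : LambdaRing.HasSplitting K P) (d : ℕ) (hd : LambdaRing.gammaFiltration P (d + 1) = ⊥)
    :
    ∃ Φ : TensorProduct ℤ ℚ K →ₗ[ℚ] KGr.Gr P, (∀ x : K, Φ ((1 : ℚ) ⊗ₜ[ℤ] x) = KGr.chK P d x) ∧ Function.Bijective Φ := by
  let Φ : TensorProduct ℤ ℚ K →ₗ[ℚ] KGr.Gr P :=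
    LinearMap.liftBaseChange ℚ (Groth.Agent.Lib.T2H7.ChD.chAdd (P := P) d hd).toIntLinearMap
  have hΦ : ∀ x : K, Φ ((1 : ℚ) ⊗ₜ[ℤ] x) = KGr.chK P d x := by
    intro x
    have h0 : Φ ((1 : ℚ) ⊗ₜ[ℤ] x) =
        (1 : ℚ) • (Groth.Agent.Lib.T2H7.ChD.chAdd (P := P) d hd) x := rfl
    rw [h0, one_smul]
    rfl
  refine ⟨Φ, hΦ, ?_, ?_⟩
  · -- injectivity
    rw [injective_iff_map_eq_zero]
    intro z hz
    have hloc : IsLocalizedModule (nonZeroDivisors ℤ) (TensorProduct.mk ℤ ℚ K 1) :=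
      (isLocalizedModule_iff_isBaseChange (nonZeroDivisors ℤ) ℚ _).mpr
        (TensorProduct.isBaseChange ℤ K ℚ)
    obtain ⟨⟨x, s⟩, hs⟩ := IsLocalizedModule.surj (nonZeroDivisors ℤ) (TensorProduct.mk ℤ ℚ K 1) z
    have hs' : (s : ℤ) • z = (1 : ℚ) ⊗ₜ[ℤ] x := hs
    have hs0 : (s : ℤ) ≠ 0 := nonZeroDivisors.ne_zero s.2
    have hx : KGr.chK P d x = 0 := by
      rw [← hΦ x, ← hs', map_zsmul, hz, smul_zero]
    obtain ⟨M, hM, hMx⟩ := exists_nsmul_mem P hK d hd x hx (d + 1) (le_refl _)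
    rw [hd, AddSubgroup.mem_bot] at hMx
    have h1 : (M : ℤ) • ((s : ℤ) • z) = 0 := by
      rw [hs', natCast_zsmul, ← TensorProduct.tmul_smul, hMx, TensorProduct.tmul_zero]
    rw [smul_smul] at h1
    have h2 : (((M : ℤ) * (s : ℤ) : ℤ) : ℚ) • z = 0 := by
      rw [Int.cast_smul_eq_zsmul]; exact h1
    have h3 : (((M : ℤ) * (s : ℤ) : ℤ) : ℚ) ≠ 0 := by
      have : (M : ℤ) * (s : ℤ) ≠ 0 := mul_ne_zero (by omega) hs0
      exact_mod_cast this
    exact (smul_eq_zero.mp h2).resolve_left h3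
  · -- surjectivity
    have h := GrFil_le_range P hK d hd Φ hΦ (d + 1) (le_refl _)
    rw [Nat.sub_self, Groth.Agent.Lib.T2H7.ChA.GrFil_zero, top_le_iff] at h
    exact LinearMap.range_eq_top.mp h

end Groth.Agent.S3794
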