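import Groth.Statements.S4087
import Groth.Agent.Lib.T2H7GrpdQSec
import Groth.Agent.S4085
import Groth.Agent.S4086

set_option autoImplicit false
universe u
open CategoryTheory MonoidalCategory CartesianMonoidalCategory MonObj GrpObj AlgebraicGeometry CategoryTheory.Limits
open GrpQ

namespace Groth.Agent.S4087

/-- Let (U, R, s, t, c) be a groupoid scheme over S and u : U' → U an immersion which is a
quasi-section: writing V = R ×_{t, U} U' for the arrows with target in U', the morphism V → U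
induced by s is finite locally free and surjective, and every subset of U' whose points are pairwise
equivalent (any two are the target and the source of one arrow) lies in an affine open of U'. Then
(t, s) has a coequalizer p : U → Y in schemes; p is surjective, open if t is open, universally
closed if t is; R → U ×_Y U is surjective; and if j = (t, s) is a monomorphism, R ≅ U ×_Y U, and p
is flat when t is flat. -/
theorem result (S : Scheme.{u}) (G : Grpd.GroupoidScheme S)
    (U' : Scheme.{u}) (u : U' ⟶ G.U) [IsImmersion u]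
    (h1 : Mor2.IsFinLocFree (pullback.fst G.t u ≫ G.s) ∧ Surjective (pullback.fst G.t u ≫ G.s))
    (h2 : ∀ E : Set U', (∀ x ∈ E, ∀ y ∈ E, ∃ r : G.R, G.t.base r = u.base x ∧ G.s.base r = u.base y) →
      ∃ W : U'.Opens, IsAffineOpen W ∧ E ⊆ (W : Set U')) :
    ∃ (Y : Scheme.{u}) (p : G.U ⟶ Y) (w : G.t ≫ p = G.s ≫ p),
      Nonempty (IsColimit (Cofork.ofπ p w)) ∧ Surjective p ∧
      (IsOpenMap G.t.base → IsOpenMap p.base) ∧ (UniversallyClosed G.t → UniversallyClosed p) ∧
      Function.Surjective (pullback.lift G.t G.s w).base ∧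
      (Mono G.j → IsPullback G.t G.s p p ∧ (Flat G.t → Flat p)) := by
  obtain ⟨⟨hf1, hf2, hf3⟩, hsurj⟩ := h1
  have hf1' : IsFinite (Groth.Agent.Lib.T2H7.GrpdRestr.v G u) := hf1
  have hf2' : Flat (Groth.Agent.Lib.T2H7.GrpdRestr.v G u) := hf2
  have hf3' : LocallyOfFinitePresentation (Groth.Agent.Lib.T2H7.GrpdRestr.v G u) := hf3
  have hsurj' : Surjective (Groth.Agent.Lib.T2H7.GrpdRestr.v G u) := hsurj
  have ha : Mor2.IsFinLocFree (Groth.Agent.Lib.T2H7.GrpdRestr.restr G u).s :=
    ⟨inferInstanceAs (IsFinite (pullback.snd (Groth.Agent.Lib.T2H7.GrpdRestr.v G u) u)),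
      inferInstanceAs (Flat (pullback.snd (Groth.Agent.Lib.T2H7.GrpdRestr.v G u) u)),
      inferInstanceAs (LocallyOfFinitePresentation
        (pullback.snd (Groth.Agent.Lib.T2H7.GrpdRestr.v G u) u))⟩
  have hb := Groth.Agent.Lib.T2H7.GrpdQSec.hb_restr G u h2
  obtain ⟨Y, p', w', ⟨hc⟩, hint, hsur, hopen, -, hlift, -⟩ :=
    Groth.Agent.S4085.result S (Groth.Agent.Lib.T2H7.GrpdRestr.restr G u) ha hb
  have hsur' : @Surjective U' Y p' := hsur
  have hint' : @IsIntegralHom U' Y p' := hint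
  have huc' : @UniversallyClosed U' Y p' := inferInstance
  refine ⟨Y, Groth.Agent.Lib.T2H7.GrpdQSec.p G u p' w',
    Groth.Agent.Lib.T2H7.GrpdQSec.p_coeq G u p' w',
    ⟨Groth.Agent.Lib.T2H7.GrpdQSec.isColimit_p G u p' w' hc⟩,
    Groth.Agent.Lib.T2H7.GrpdQSec.surjective_p G u p' w',
    fun ht => Groth.Agent.Lib.T2H7.GrpdQSec.isOpenMap_p G u p' w' hopen ht,
    fun ht => Groth.Agent.Lib.T2H7.GrpdQSec.universallyClosed_p G u p' w',
    Groth.Agent.Lib.T2H7.GrpdQSec.surjective_lift G u p' w' hlift, fun hmono => ?_⟩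
  have hm := Groth.Agent.Lib.T2H7.GrpdQSec.mono_j G u
  obtain ⟨hpb, hfl1, hfl2, hfl3⟩ :=
    Groth.Agent.S4086.result S (Groth.Agent.Lib.T2H7.GrpdRestr.restr G u) ha hb Y p' w' hc
  have hfl2' : @Flat U' Y p' := hfl2
  exact ⟨Groth.Agent.Lib.T2H7.GrpdQSec.isPullback_p G u p' w' hpb,
    fun hflat => Groth.Agent.Lib.T2H7.GrpdQSec.flat_p G u p' w'⟩

end Groth.Agent.S4087
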