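import Groth.Statements.S4329
import Groth.Agent.Lib.T2H1KhUnit
import Groth.Agent.S0101

set_option autoImplicit false
universe u
open CategoryTheory CategoryTheory.Limits AlgebraicGeometry Opposite
attribute [local instance] HasDerivedCategory.standard
open EtSix

namespace Groth.Agent.S4329

open Groth.Agent.Lib.T2H1.KhUnit in
theorem isIso_app {X Y Z : Scheme.{u}} (f : X ⟶ Y) (g : Y ⟶ Z)
    [DCoh.HasRpushEt X f] [DCoh.HasRpushEt Y g] [DCoh.HasRpushEt X (f ≫ g)]
    (I : CochainComplex (EtCoh.Ab X) ℤ) [I.IsKInjective] :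
    IsIso ((EtSix.compMap f g).app (DerivedCategory.Qh.obj
      ((HomotopyCategory.quotient (EtCoh.Ab X) (ComplexShape.up ℤ)).obj I))) := by
  have fac := Functor.rightDerived_fac_app (DCoh.RpushEt X (f ≫ g))
    ((DCoh.pushEtKh X (f ≫ g)).totalRightDerivedUnit DerivedCategory.Qh
      (HomotopyCategory.quasiIso (EtCoh.Ab X) (ComplexShape.up ℤ)))
    (HomotopyCategory.quasiIso (EtCoh.Ab X) (ComplexShape.up ℤ))
    (DCoh.RpushEt X f ⋙ DCoh.RpushEt Y g) (EtSix.compUnit f g)
    ((HomotopyCategory.quotient (EtCoh.Ab X) (ComplexShape.up ℤ)).obj I)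
  haveI h3 : IsIso (((DCoh.pushEtKh X (f ≫ g)).totalRightDerivedUnit DerivedCategory.Qh
      (HomotopyCategory.quasiIso (EtCoh.Ab X) (ComplexShape.up ℤ))).app
      ((HomotopyCategory.quotient (EtCoh.Ab X) (ComplexShape.up ℤ)).obj I)) :=
    isIso_app_quotient_of_isKInjective.{u + 1} (EtCoh.push (f ≫ g)) _ _ I
  haveI h1 : IsIso (((DCoh.pushEtKh X f).totalRightDerivedUnit DerivedCategory.Qh
      (HomotopyCategory.quasiIso (EtCoh.Ab X) (ComplexShape.up ℤ))).app
      ((HomotopyCategory.quotient (EtCoh.Ab X) (ComplexShape.up ℤ)).obj I)) :=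
    isIso_app_quotient_of_isKInjective.{u + 1} (EtCoh.push f) _ _ I
  haveI : PreservesFiniteLimits (EtCoh.pull f) := Groth.Agent.S0101.result f
  haveI : (EtCoh.pull f).Additive := (EtCoh.pullPushAdj f).left_adjoint_additive
  haveI : PreservesFiniteColimits (EtCoh.pull f) := by
    haveI := (EtCoh.pullPushAdj f).leftAdjoint_preservesColimits
    infer_instance
  haveI : (EtCoh.pull f).PreservesHomology := inferInstance
  haveI hKI : CochainComplex.IsKInjective (((EtCoh.push f).mapHomologicalComplex (ComplexShape.up ℤ)).obj I) :=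
    Groth.Agent.Lib.Helper16.KInjAdj.isKInjective_map (EtCoh.pullPushAdj f) I
  haveI h2 : IsIso (((DCoh.pushEtKh Y g).totalRightDerivedUnit DerivedCategory.Qh
      (HomotopyCategory.quasiIso (EtCoh.Ab Y) (ComplexShape.up ℤ))).app
      ((HomotopyCategory.quotient (EtCoh.Ab Y) (ComplexShape.up ℤ)).obj
        (((EtCoh.push f).mapHomologicalComplex (ComplexShape.up ℤ)).obj I))) :=
    isIso_app_quotient_of_isKInjective.{u + 1} (EtCoh.push g) _ _ _
  haveI h2' : IsIso (((DCoh.pushEtKh Y g).totalRightDerivedUnit DerivedCategory.Qh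
      (HomotopyCategory.quasiIso (EtCoh.Ab Y) (ComplexShape.up ℤ))).app
      (((EtCoh.push f).mapHomotopyCategory (ComplexShape.up ℤ)).obj
        ((HomotopyCategory.quotient (EtCoh.Ab X) (ComplexShape.up ℤ)).obj I))) :=
    h2
  haveI h0 : IsIso ((NatTrans.mapHomotopyCategory (EtCoh.pushComp g f).inv (ComplexShape.up ℤ)).app
      ((HomotopyCategory.quotient (EtCoh.Ab X) (ComplexShape.up ℤ)).obj I)) := by
    have e1 : NatTrans.mapHomotopyCategory (EtCoh.pushComp g f).inv (ComplexShape.up ℤ) ≫
        NatTrans.mapHomotopyCategory (EtCoh.pushComp g f).hom (ComplexShape.up ℤ) = 𝟙 _ := by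
      rw [← NatTrans.mapHomotopyCategory_comp, Iso.inv_hom_id, NatTrans.mapHomotopyCategory_id]
    have e2 : NatTrans.mapHomotopyCategory (EtCoh.pushComp g f).hom (ComplexShape.up ℤ) ≫
        NatTrans.mapHomotopyCategory (EtCoh.pushComp g f).inv (ComplexShape.up ℤ) = 𝟙 _ := by
      rw [← NatTrans.mapHomotopyCategory_comp, Iso.hom_inv_id, NatTrans.mapHomotopyCategory_id]
    exact ⟨(NatTrans.mapHomotopyCategory (EtCoh.pushComp g f).hom (ComplexShape.up ℤ)).app _,
      by rw [← NatTrans.comp_app, e1]; rfl, by rw [← NatTrans.comp_app, e2]; rfl⟩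
  haveI hU : IsIso ((EtSix.compUnit f g).app
      ((HomotopyCategory.quotient (EtCoh.Ab X) (ComplexShape.up ℤ)).obj I)) := by
    simp only [EtSix.compUnit, NatTrans.comp_app, Functor.whiskerRight_app, Functor.whiskerLeft_app,
      Functor.associator_hom_app, Functor.associator_inv_app, Category.comp_id, Category.id_comp,
      Functor.map_comp]
    infer_instance
  have : (EtSix.compMap f g).app (DerivedCategory.Qh.obj
      ((HomotopyCategory.quotient (EtCoh.Ab X) (ComplexShape.up ℤ)).obj I)) =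
      inv (((DCoh.pushEtKh X (f ≫ g)).totalRightDerivedUnit DerivedCategory.Qh
      (HomotopyCategory.quasiIso (EtCoh.Ab X) (ComplexShape.up ℤ))).app
      ((HomotopyCategory.quotient (EtCoh.Ab X) (ComplexShape.up ℤ)).obj I)) ≫
      (EtSix.compUnit f g).app
      ((HomotopyCategory.quotient (EtCoh.Ab X) (ComplexShape.up ℤ)).obj I) := by
    rw [IsIso.eq_inv_comp]
    exact fac
  rw [this]
  infer_instance

/-- Composition of derived direct images: for the small etale sites of schemes and abelian sheaves: let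
f : X -> Y and g : Y -> Z be morphisms of schemes and assume the unbounded derived direct images
Rf_*, Rg_* and R(g ∘ f)_* exist (they do; the existence is recorded as instance hypotheses). Then
the canonical morphism R(g ∘ f)_* -> Rg_* ∘ Rf_* of functors D(X_et) -> D(Z_et), induced by (g ∘
f)_* ≅ g_* ∘ f_* through the universal property of R(g ∘ f)_* as a right derived functor, is an
isomorphism. -/
theorem result {X Y Z : Scheme.{u}} (f : X ⟶ Y) (g : Y ⟶ Z)
    [DCoh.HasRpushEt X f] [DCoh.HasRpushEt Y g] [DCoh.HasRpushEt X (f ≫ g)] :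
    IsIso (EtSix.compMap f g) := by
  open Groth.Agent.Lib.T2H1.KhUnit in
  haveI : ∀ K, IsIso ((EtSix.compMap f g).app K) := by
    intro K
    obtain ⟨I, hI, ⟨e⟩⟩ := exists_iso_Q_obj_isKInjective.{u + 1} K
    rw [NatTrans.isIso_app_iff_of_iso _ e]
    exact isIso_app f g I
  exact NatIso.isIso_of_isIso_app _

end Groth.Agent.S4329
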