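import Groth.Statements.S4356
import Groth.Agent.Lib.T2H2RatFun2

set_option autoImplicit false
universe u
open TorSh

namespace Groth.Agent.S4356
open Groth.Agent.Lib.T2H2.RatFun Groth.Agent.Lib.Helper4.NormDelta Groth.Agent.Lib.Helper23.StalkLin

open AlgebraicGeometry in
open CategoryTheory in
/-- Converse assertion (the sheaf of rational functions of the integral scheme X being modelled as the
direct image of the structure sheaf of Spec of the function field under its canonical morphism to
X). On an integral scheme, a nonzero quasi-coherent sub-O_X-module of the sheaf of rational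
functions is torsion-free of rank 1: every stalk is a torsion-free module over the local ring, and
the stalk at the generic point is one-dimensional over the function field. (The published statement
does not exclude the zero submodule, whose generic stalk has dimension 0; it is excluded here.) -/
theorem result
    (X : Scheme.{u}) [IsIntegral X] (G : X.Modules) [Coh.IsQCoh G]
    (i : G ⟶ (Scheme.Modules.pushforward (X.fromSpecStalk (genericPoint X))).obj
        (Coh.structureModule (Spec (X.presheaf.stalk (genericPoint X))))) [Mono i]
    (hG : ¬ Limits.IsZero G) :
    TorSh.IsTorsionFree G ∧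
      Module.finrank (X.presheaf.stalk (genericPoint X)) (G.presheaf.stalk (genericPoint X)) = 1 := by
  refine ⟨isTorsionFree_of_mono i (isTorsionFree_KX X), ?_⟩
  have hnt : Nontrivial (G.presheaf.stalk (genericPoint X)) := by
    by_contra hcon
    rw [not_nontrivial_iff_subsingleton] at hcon
    exact hG (Limits.IsZero.of_mono_eq_zero i (eq_zero_of_subsingleton_stalk i hcon))
  let φ := stalkLin i (genericPoint X)
  have hφ : Function.Injective φ := stalkLin_injective i (genericPoint X)
  obtain ⟨v, hv⟩ := exists_ne (0 : G.presheaf.stalk (genericPoint X))
  rw [finrank_eq_one_iff_of_nonzero' v hv]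
  intro w
  obtain ⟨a, ha⟩ := exists_smul_unitGerm (φ v)
  obtain ⟨b, hb⟩ := exists_smul_unitGerm (φ w)
  have ha0 : a ≠ 0 := by
    rintro rfl
    rw [zero_smul] at ha
    exact hv (hφ (by rw [← ha, map_zero]))
  refine ⟨b * a⁻¹, hφ ?_⟩
  rw [map_smul, ← ha, smul_smul, mul_assoc, inv_mul_cancel₀ ha0, mul_one, hb]

end Groth.Agent.S4356
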