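import Groth.Statements.S4414
import Mathlib
import Groth.Agent.Lib.T2H6VAmpleG
import Groth.Agent.S9705

set_option autoImplicit false
universe u
open CategoryTheory CategoryTheory.Limits AlgebraicGeometry
open EGA2

namespace Groth.Agent.S4414

/-- Let Y be a quasi-compact separated scheme possessing an ample invertible O_Y-module, and f : X → Y a
morphism. Then f is quasi-projective (of finite type with some O_X-module ample relative to f) if
and only if f is of finite type and there are r ≥ 0 and an immersion i of X into projective r-space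
over Y with i followed by the projection equal to f. -/
theorem result {X Y : Scheme.{u}} [CompactSpace Y] [Y.IsSeparated]
    (hY : ∃ M : Y.Modules, CohB1.IsAmple M) (f : X ⟶ Y) :
    RelProj.IsQuasiProjective f ↔
      (LocallyOfFiniteType f ∧ QuasiCompact f ∧
        ∃ (r : ℕ) (i : X ⟶ CohB1.ProjSpaceOver r Y), IsImmersion i ∧ i ≫ CohB1.ProjSpaceOver.toBase r Y = f) := by
  obtain ⟨M, hM⟩ := hY
  constructor
  · rintro ⟨hlft, hqc, L, hL⟩
    obtain ⟨k, hk⟩ := Groth.Agent.Lib.T2H6.VAmpleG.exists_isAmple_of_isRelAmple M hM f L hL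
    obtain ⟨n, i, himm, hcomp⟩ := Groth.Agent.Lib.T2H6.VAmpleG.exists_immersion_of_isAmple f _ hk
    exact ⟨hlft, hqc, n, i, himm, hcomp⟩
  · rintro ⟨hlft, hqc, r, i, himm, hcomp⟩
    let p : CohB1.ProjSpaceOver r Y ⟶ Y := CohB1.ProjSpaceOver.toBase r Y
    haveI hp : IsProper p := Groth.Agent.S9705.isProper_toBase r Y
    have hcomp' : i ≫ p = f := hcomp
    haveI : QuasiCompact (i ≫ p) := by rw [hcomp']; exact hqc
    haveI : QuasiCompact i := QuasiCompact.of_comp i p
    obtain ⟨L, hL⟩ := Groth.Agent.Lib.T2H6.VAmpleG.exists_isAmple_of_immersion M hM r i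
    exact ⟨hlft, hqc, L, Groth.Agent.Lib.T2H6.VAmpleG.isRelAmple_of_isAmple f L hL⟩

end Groth.Agent.S4414
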