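import Groth.Statements.S4420
import Mathlib
import Groth.Agent.Lib.T2H6ProjQProj
import Groth.Agent.Lib.T2H6VAmpleG
import Groth.Agent.Lib.T2H6HProjChart

set_option autoImplicit false
universe u
open CategoryTheory CategoryTheory.Limits AlgebraicGeometry
open EGA2

namespace Groth.Agent.S4420

/-- Let Y be a quasi-compact separated scheme possessing an ample invertible O_Y-module and f : X → Y a
morphism. Then f is projective if and only if there are r ≥ 0 and a closed immersion of X into
projective r-space over Y compatible with the projections (f is H-projective). -/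
theorem result {X Y : Scheme.{u}} [CompactSpace Y] [Y.IsSeparated]
    (hY : ∃ M : Y.Modules, CohB1.IsAmple M) (f : X ⟶ Y) :
    RelProj.IsProjective f ↔ RelProj.IsHProjective f := by
  constructor
  · intro hf
    obtain ⟨M, hM⟩ := hY
    have hprop : IsProper f := Groth.Agent.Lib.T2H6.ProjProper.isProper_of_isProjective f hf
    obtain ⟨hlft, hqc, L, hL⟩ := Groth.Agent.Lib.T2H6.ProjQProj.isQuasiProjective_of_isProjective f hf
    obtain ⟨k, hk⟩ := Groth.Agent.Lib.T2H6.VAmpleG.exists_isAmple_of_isRelAmple M hM f L hL
    obtain ⟨n, i, hi, hif⟩ := Groth.Agent.Lib.T2H6.VAmpleG.exists_immersion_of_isAmple f _ hk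
    have hif' : i ≫ CohB1.ProjSpaceOver.toBase n Y = f := hif
    haveI hsep : IsProper (CohB1.ProjSpaceOver.toBase n Y) := Groth.Agent.S9705.isProper_toBase n Y
    haveI : IsProper (i ≫ CohB1.ProjSpaceOver.toBase n Y) := by rw [hif']; exact hprop
    haveI : IsProper i := IsProper.of_comp i (CohB1.ProjSpaceOver.toBase n Y)
    exact ⟨n, i, (IsClosedImmersion.iff_isProper_and_mono _).mpr ⟨inferInstance, inferInstance⟩, hif'⟩
  · rintro ⟨n, i, hi, rfl⟩
    exact Groth.Agent.Lib.T2H6.HProjChart.isProjective i

end Groth.Agent.S4420
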