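import Groth.Statements.S4421
import Mathlib
import Groth.Agent.Lib.T2H4ProjMorB
import Groth.Agent.Lib.T2H4ProjMorC
import Groth.Agent.S5731
import Groth.Agent.Lib.Helper20FormalPull
import Groth.Agent.Lib.T2H4VAmpleBC
set_option backward.isDefEq.respectTransparency.types false

set_option autoImplicit false
universe u
open CategoryTheory CategoryTheory.Limits AlgebraicGeometry
open EGA2

namespace Groth.Agent.S4421

/-- Let f : X → Y be a projective morphism and g : Y' → Y any morphism. Then the base change X ×_Y Y' →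
Y' of f is projective. -/
theorem result {X Y Y' : Scheme.{u}} (f : X ⟶ Y) (hf : RelProj.IsProjective f) (g : Y' ⟶ Y) :
    RelProj.IsProjective (pullback.snd f g) := by
  obtain ⟨E, 𝒯, j, P, p, chart, i, hE, hft, hsym, hP, hi, hif⟩ :=
    Groth.Agent.Lib.T2H4.ProjMor.exists_closedImmersion_of_isProjective f hf
  have : E.IsQuasicoherent := hE
  have : SheafOfModules.IsFiniteType (R := Y.ringCatSheaf) E := hft
  have hE' : Coh.IsQCoh ((Scheme.Modules.pullback g).obj E) :=
    Groth.Agent.Lib.Helper2.PullbackSec.isQuasicoherent_pullback g E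
  have hft' : CohB1.IsFT ((Scheme.Modules.pullback g).obj E) :=
    Groth.Agent.Lib.Helper20.FormalPull.isFiniteType_pullback g E
  obtain ⟨𝒯', j', hj', P', p', chart', hP', -, -, -⟩ :=
    Groth.Agent.Lib.T2H4.GrSym.exists_projBundle _ hE'
  obtain ⟨h, hpbh⟩ := Groth.Agent.S5731.result g E hE 𝒯 j hsym p chart hP 𝒯' j' hj' p' chart' hP'
  have hs : IsPullback (pullback.fst f g) (pullback.snd f g) (i ≫ p) g :=
    hif ▸ IsPullback.of_hasPullback f g
  have hw : (pullback.fst f g ≫ i) ≫ p = pullback.snd f g ≫ g := by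
    rw [Category.assoc, hs.w]
  have hleft := IsPullback.of_bot' hs hpbh
  have hci : IsClosedImmersion (hpbh.lift (pullback.fst f g ≫ i) (pullback.snd f g) hw) :=
    MorphismProperty.of_isPullback (P := @IsClosedImmersion) hleft hi
  exact Groth.Agent.Lib.T2H4.ProjMor.isProjective_of_isClosedImmersion_projBundle (pullback.snd f g)
    _ 𝒯' j' p' chart' (hpbh.lift (pullback.fst f g ≫ i) (pullback.snd f g) hw) hE' hft' hj' hP'
    (hpbh.lift_snd _ _ _)

end Groth.Agent.S4421
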