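import Groth.Statements.S4423
import Mathlib
import Groth.Agent.Lib.T2H4ProjMorB
import Groth.Agent.Lib.T2H4ProjMorC
import Groth.Agent.S5731
import Groth.Agent.Lib.Helper20FormalPull
import Groth.Agent.Lib.T2H4VAmpleBC
set_option backward.isDefEq.respectTransparency.types false

set_option autoImplicit false
universe u
open CategoryTheory CategoryTheory.Limits AlgebraicGeometry
open EGA2

namespace Groth.Agent.S4423

/-- Let f : X → Y and g : Y → Z be morphisms with f ≫ g projective and g separated. Then f is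
projective. -/
theorem result {X Y Z : Scheme.{u}} (f : X ⟶ Y) (g : Y ⟶ Z) [IsSeparated g]
    (h : RelProj.IsProjective (f ≫ g)) : RelProj.IsProjective f := by
  obtain ⟨E, 𝒯, j, P, p, chart, i, hE, hft, hsym, hP, hi, hif⟩ :=
    Groth.Agent.Lib.T2H4.ProjMor.exists_closedImmersion_of_isProjective (f ≫ g) h
  have : E.IsQuasicoherent := hE
  have : SheafOfModules.IsFiniteType (R := Z.ringCatSheaf) E := hft
  have hE' : Coh.IsQCoh ((Scheme.Modules.pullback g).obj E) :=
    Groth.Agent.Lib.Helper2.PullbackSec.isQuasicoherent_pullback g E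
  have hft' : CohB1.IsFT ((Scheme.Modules.pullback g).obj E) :=
    Groth.Agent.Lib.Helper20.FormalPull.isFiniteType_pullback g E
  obtain ⟨𝒯', j', hj', P', p', chart', hP', -, -, -⟩ :=
    Groth.Agent.Lib.T2H4.GrSym.exists_projBundle _ hE'
  obtain ⟨h', hpbh⟩ := Groth.Agent.S5731.result g E hE 𝒯 j hsym p chart hP 𝒯' j' hj' p' chart' hP'
  have hsep : IsSeparated h' := MorphismProperty.of_isPullback (P := @IsSeparated) hpbh.flip inferInstance
  have hci' : IsClosedImmersion (hpbh.lift i f hif ≫ h') := by
    rw [hpbh.lift_fst]; exact hi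
  have hci : IsClosedImmersion (hpbh.lift i f hif) := IsClosedImmersion.of_comp _ h'
  exact Groth.Agent.Lib.T2H4.ProjMor.isProjective_of_isClosedImmersion_projBundle f
    _ 𝒯' j' p' chart' (hpbh.lift i f hif) hE' hft' hj' hP' (hpbh.lift_snd _ _ _)

end Groth.Agent.S4423
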