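import Groth.Statements.S4424
import Mathlib
import Groth.Agent.Lib.T2H4ProjMorB
import Groth.Agent.Lib.T2H4ProjMorC
import Groth.Agent.S4421
set_option backward.isDefEq.respectTransparency.types false

set_option autoImplicit false
universe u
open CategoryTheory CategoryTheory.Limits AlgebraicGeometry
open EGA2

namespace Groth.Agent.S4424

/-- Let f : X → Y be a projective morphism, j : X₀ → X and k : Y₀ → Y surjective closed immersions with
X₀ and Y₀ reduced (the reduced schemes underlying X and Y), and f₀ : X₀ → Y₀ the induced morphism (j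
≫ f = f₀ ≫ k). Then f₀ is projective. -/
theorem result {X Y X₀ Y₀ : Scheme.{u}} (f : X ⟶ Y) (hf : RelProj.IsProjective f)
    (j : X₀ ⟶ X) (hj : MoreMor.IsThickening j) [IsReduced X₀] (k : Y₀ ⟶ Y) (hk : MoreMor.IsThickening k) [IsReduced Y₀]
    (f₀ : X₀ ⟶ Y₀) (hcomm : j ≫ f = f₀ ≫ k) : RelProj.IsProjective f₀ := by
  have hj' : IsClosedImmersion j := hj.1
  have hk' : IsClosedImmersion k := hk.1
  have hproj := Groth.Agent.S4421.result f hf k
  obtain ⟨E, 𝒯, jE, P, p, chart, i, hE, hft, hsym, hP, hi, hif⟩ :=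
    Groth.Agent.Lib.T2H4.ProjMor.exists_closedImmersion_of_isProjective _ hproj
  have hci' : IsClosedImmersion (pullback.lift j f₀ hcomm ≫ pullback.fst f k) := by
    rw [pullback.lift_fst]; exact hj'
  have hci : IsClosedImmersion (pullback.lift j f₀ hcomm) :=
    IsClosedImmersion.of_comp _ (pullback.fst f k)
  have hci2 : IsClosedImmersion (pullback.lift j f₀ hcomm ≫ i) := inferInstance
  exact Groth.Agent.Lib.T2H4.ProjMor.isProjective_of_isClosedImmersion_projBundle f₀
    E 𝒯 jE p chart (pullback.lift j f₀ hcomm ≫ i) hE hft hsym hP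
    (by rw [Category.assoc, hif, pullback.lift_snd])

end Groth.Agent.S4424
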