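import Groth.Statements.S4458
import Mathlib
import Groth.Agent.Lib.T2H5GenIsoD
-- import your own Groth.Agent.* helpers here

set_option autoImplicit false
universe u
open Coherent

namespace Groth.Agent.S4458

open AlgebraicGeometry CategoryTheory CategoryTheory.Limits in
/-- Let X be a Noetherian scheme and K' a class of O_X-modules, closed under isomorphism, containing 0,
such that in every short exact sequence of coherent modules with two terms in K' the third is in K',
and such that every coherent direct summand of a coherent module in K' is in K'. Let X' be a closed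
subset such that for every irreducible closed subset Z ⊆ X' with generic point y there is a coherent
module G in K' supported in Z, annihilated by the ideal sheaf of the reduced closed subscheme Z,
whose stalk at y is nonzero. Then every coherent O_X-module with support contained in X' belongs to
K'. (The published statement asks of G only that it lie in K' and have nonzero stalk at y, remarking
that this amounts to G having support Z; that is not sufficient: on the spectrum of the ring
k[e]/(e^2) of dual numbers over a field the free coherent modules form such a class K', containing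
the structure sheaf and not the residue field. This row asks G to be supported in Z and annihilated
by the ideal sheaf of Z, which is what the published proof uses, through the stalk of G at y being a
vector space over the residue field of y.) -/
theorem result (X : Scheme.{u}) [IsNoetherian X]
    (K' : ObjectProperty X.Modules) [K'.IsClosedUnderIsomorphisms]
    (h0 : ∀ M : X.Modules, IsZero M → K' M)
    (hex : ∀ S : ShortComplex X.Modules, S.ShortExact → Coh.IsCoh S.X₁ → Coh.IsCoh S.X₂ → Coh.IsCoh S.X₃ →
      (K' S.X₁ → K' S.X₂ → K' S.X₃) ∧ (K' S.X₁ → K' S.X₃ → K' S.X₂) ∧ (K' S.X₂ → K' S.X₃ → K' S.X₁))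
    (hsum : ∀ (M N : X.Modules) (i : N ⟶ M) (r : M ⟶ N), i ≫ r = 𝟙 N → Coh.IsCoh M → Coh.IsCoh N →
      K' M → K' N)
    (X' : Set X) (hX' : IsClosed X')
    (hgen : ∀ (Z : Set X) (hZ : IsClosed Z), IsIrreducible Z → Z ⊆ X' → ∀ y : X, closure {y} = Z →
      ∃ G : X.Modules, Coh.IsCoh G ∧ K' G ∧ CohB1.support G ⊆ Z ∧
        ClSub.KilledByIdeal (Scheme.IdealSheafData.vanishingIdeal ⟨Z, hZ⟩) G ∧ y ∈ CohB1.support G)
    (F : X.Modules) (hF : Coh.IsCoh F) (hsupp : CohB1.support F ⊆ X') : K' F := by
  have hP : ∀ M N : X.Modules, Nonempty (M ≅ N) → K' M → K' N := fun M N ⟨e⟩ h => K'.prop_of_iso e h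
  refine Groth.Agent.Lib.T2H5.Devissage.core K' hP h0 (fun S hS h1 h2 h3 => (hex S hS h1 h2 h3).2.1) X' ?_ F hF hsupp
  intro Z hZ hZirr hZX' ihN M hM hMk
  obtain ⟨y, hy⟩ := QuasiSober.sober hZirr hZ
  have hy' : closure {y} = Z := hy
  obtain ⟨G, hG, hKG, -, hGk, hyG⟩ := hgen Z hZ hZirr hZX' y hy'
  obtain ⟨m, c, hmc, hall⟩ := Groth.Agent.Lib.T2H5.GenIsoD.irr_step K' hP h0 Z hZ hZirr
    (fun S hS h1 h2 h3 _ => hex S hS h1 h2 h3) ihN y hy' G hG hGk hKG
  have hm : m ≠ 0 := by
    intro h
    subst h
    rw [Nat.cast_zero, zero_mul] at hmc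
    exact (Groth.Agent.Lib.T2H5.GenIsoA.lenAt_eq_zero_iff y G).1 hmc hyG
  have hK := hall M hM hMk
  refine hsum (∐ fun _ : Fin m => M) M (Sigma.ι (fun _ : Fin m => M) ⟨0, Nat.pos_of_ne_zero hm⟩)
    (Sigma.desc fun _ => 𝟙 M) ?_ (Groth.Agent.Lib.T2H5.GenIsoA.isCoh_sigma _ fun _ => hM) hM hK
  rw [Sigma.ι_desc]

end Groth.Agent.S4458
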