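import Groth.Statements.S4462
import Groth.Agent.Lib.T2H9FlatFib2

set_option autoImplicit false
set_option linter.style.haveILetI false
set_option linter.unusedVariables false
universe u
open Coherent

namespace Groth.Agent.S4462

open AlgebraicGeometry CategoryTheory in
/-- Second assertion: for a local base: let A be a Noetherian local ring with maximal ideal m and closed
point y, X a scheme proper over Spec A, F a coherent O_X-module flat over Spec A and n ≥ 0 such that
H^(n+1)(X_y, F_y) = 0, where X_y is the closed fibre and F_y the restriction of F to it. Then for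
every p ≥ 0 the canonical map H^n(X, F) → H^n(X, F/m^(p+1)F) is surjective. (For a general locally
Noetherian base the published statement is about the stalk of R^n f_* F at a point; over the local
ring of that point this is the module H^n(X, F) used here.) -/
theorem result (A : Type u) [CommRing A] [IsNoetherianRing A]
    [IsLocalRing A] (X : Scheme.{u}) [X.Over (Spec (CommRingCat.of A))]
    [IsProper (X ↘ Spec (CommRingCat.of A))] (F : X.Modules) (hF : Coh.IsCoh F)
    (hfl : FlatMod.IsFlatOver (X ↘ Spec (CommRingCat.of A)) F) (n : ℕ)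
    (hvan : Subsingleton (CohIII.fiberH (X ↘ Spec (CommRingCat.of A)) F (IsLocalRing.closedPoint A) (n + 1)))
    (p : ℕ) :
    Function.Surjective (Formal.toHHmodPow (IsLocalRing.maximalIdeal A) F n p) := by
  haveI := hF.1
  have hpb : IsPullback ((X ↘ Spec (CommRingCat.of A)).fiberι (IsLocalRing.closedPoint A))
      ((X ↘ Spec (CommRingCat.of A)).fiberToSpecResidueField (IsLocalRing.closedPoint A))
      (X ↘ Spec (CommRingCat.of A))
      ((Spec (CommRingCat.of A)).fromSpecResidueField (IsLocalRing.closedPoint A)) :=
    IsPullback.of_hasPullback _ _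
  haveI : IsClosedImmersion
      ((Spec (CommRingCat.of A)).fromSpecResidueField (IsLocalRing.closedPoint A)) :=
    (isClosed_singleton_iff_isClosedImmersion).1 (IsLocalRing.isClosed_singleton_closedPoint A)
  haveI : IsClosedImmersion
      ((X ↘ Spec (CommRingCat.of A)).fiberι (IsLocalRing.closedPoint A)) :=
    Groth.Agent.Lib.T2H9.FibQuot.isClosedImmersion_of_isPullback X _ _ _ hpb
  have hk : RingHom.ker (Groth.Agent.Lib.T2H9.FibQuot.φT
      ((Spec (CommRingCat.of A)).fromSpecResidueField (IsLocalRing.closedPoint A))) =
      IsLocalRing.maximalIdeal A :=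
    Groth.Agent.Lib.T2H9.FibQuot.ker_φT_fromSpecResidueField (IsLocalRing.closedPoint A)
  have h1 : Subsingleton (Coh.HH X (CategoryTheory.Limits.cokernel
      (Formal.smulFamily (IsLocalRing.maximalIdeal A) F)) (n + 1)) :=
    Groth.Agent.Lib.T2H9.FibQuot.subsingleton_HH_cokernel X F _ _ _ hpb
      (IsLocalRing.maximalIdeal A) hk _ (CategoryTheory.Iso.refl _) (n + 1) hvan
  exact Groth.Agent.Lib.T2H9.FlatFib.surjective_toHHmodPow X F (IsLocalRing.maximalIdeal A) hF n
    (Groth.Agent.Lib.T2H9.FlatFib.surjective_tL X F hfl (IsLocalRing.maximalIdeal A) n h1) p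

end Groth.Agent.S4462
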