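import Groth.Statements.S4463
import Groth.Agent.Lib.T2H9SteinFib

set_option autoImplicit false
set_option linter.style.haveILetI false
set_option linter.unusedVariables false
universe u
open Coherent

namespace Groth.Agent.S4463

open AlgebraicGeometry CategoryTheory in
/-- Stein factorisation. Let Y be locally Noetherian and f : X → Y proper, and let X → Y' → Y be its
Stein factorisation, Y' being the spectrum of the O_Y-algebra f_* O_X (realised here as the relative
normalization of Y in X, which is that spectrum because f_* O_X is integral over O_Y for f
universally closed). Then for every point y of Y the fibre of Y' → Y at y is finite, the map X_y →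
Y'_y induced on fibres is surjective, and two points of X_y have the same image if and only if they
lie in the same connected component of X_y: the connected components of X_y are in bijection with
the points of Y'_y. -/
theorem result {X Y : Scheme.{u}} (f : X ⟶ Y) [IsProper f]
    [IsLocallyNoetherian Y] (y : Y) :
    Finite ↥(f.fromNormalization.fiber y) ∧
    Function.Surjective (CohIII.fiberMapOver f.toNormalization f f.fromNormalization
        f.toNormalization_fromNormalization y).base ∧
    ∀ x x' : ↥(f.fiber y),
      (CohIII.fiberMapOver f.toNormalization f f.fromNormalization f.toNormalization_fromNormalization y).base x =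
        (CohIII.fiberMapOver f.toNormalization f f.fromNormalization f.toNormalization_fromNormalization y).base x' ↔
      connectedComponent x = connectedComponent x' := by
  haveI hfin := Groth.Agent.Lib.T2H9.SteinFib.isFinite_fromNormalization f
  set φ := CohIII.fiberMapOver f.toNormalization f f.fromNormalization
    f.toNormalization_fromNormalization y with hφdef
  have hφ : φ ≫ f.fromNormalization.fiberι y = f.fiberι y ≫ f.toNormalization :=
    CategoryTheory.Limits.pullback.lift_fst _ _ _
  have hφa : ∀ a : ↥(f.fiber y), (f.fromNormalization.fiberι y).base (φ.base a) =
      f.toNormalization.base ((f.fiberι y).base a) := fun a =>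
    congrArg (fun t => t.base a) hφ
  have hinj : Function.Injective (f.fromNormalization.fiberι y).base :=
    (f.fromNormalization.fiberι y).isEmbedding.injective
  have hfib : ∀ z : ↥(f.fromNormalization.fiber y),
      f.fromNormalization.base ((f.fromNormalization.fiberι y).base z) = y := fun z => by
    have : (f.fromNormalization.fiberι y).base z ∈ Set.range (f.fromNormalization.fiberι y).base :=
      ⟨z, rfl⟩
    rw [f.fromNormalization.range_fiberι y] at this
    exact this
  refine ⟨inferInstance, ?_, ?_⟩
  · intro z
    haveI := Groth.Agent.Lib.T2H9.SteinFib.isProper_toNormalization f
    have hsurj : Function.Surjective f.toNormalization.base := by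
      rw [← Set.range_eq_univ]
      have h1 : IsClosed (Set.range f.toNormalization.base) :=
        f.toNormalization.isClosedMap.isClosed_range
      rw [← h1.closure_eq]
      exact f.toNormalization.denseRange.closure_range
    obtain ⟨x, hx⟩ := hsurj ((f.fromNormalization.fiberι y).base z)
    have hxy : x ∈ Set.range (f.fiberι y).base := by
      rw [f.range_fiberι y]
      change f.base x = y
      have e : f.base x = f.fromNormalization.base (f.toNormalization.base x) :=
        congrArg (fun t => t.base x) f.toNormalization_fromNormalization.symm
      rw [e, hx]
      exact hfib z
    obtain ⟨a, ha⟩ := hxy
    refine ⟨a, hinj ?_⟩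
    rw [hφa, ha, hx]
  · intro x x'
    constructor
    · intro hxx
      set z := φ.base x with hz
      let T : Set ↥(f.fiber y) := (f.fiberι y).base ⁻¹'
        (f.toNormalization.base ⁻¹' {(f.fromNormalization.fiberι y).base z})
      have hxT : x ∈ T := (hφa x).symm
      have hx'T : x' ∈ T := by
        change f.toNormalization.base ((f.fiberι y).base x') = _
        rw [← hφa, ← hxx]
      have hS := Groth.Agent.Lib.T2H9.SteinFib.isConnected_preimage_toNormalization f
        ((f.fromNormalization.fiberι y).base z)
      have hsub : f.toNormalization.base ⁻¹' {(f.fromNormalization.fiberι y).base z} ⊆
          Set.range (f.fiberι y).base := by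
        intro w hw
        rw [f.range_fiberι y]
        change f.base w = y
        have e : f.base w = f.fromNormalization.base (f.toNormalization.base w) :=
          congrArg (fun t => t.base w) f.toNormalization_fromNormalization.symm
        rw [e, hw]
        exact hfib z
      have hT : _root_.IsPreconnected T := by
        rw [← (f.fiberι y).isEmbedding.toIsInducing.isPreconnected_image,
          Set.image_preimage_eq_of_subset hsub]
        exact hS.isPreconnected
      exact connectedComponent_eq (hT.subset_connectedComponent hxT hx'T)
    · intro hcc
      have hx' : x' ∈ connectedComponent x := by
        rw [hcc]; exact mem_connectedComponent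
      have hpre : _root_.IsPreconnected (φ.base '' connectedComponent x) :=
        isPreconnected_connectedComponent.image _ φ.continuous.continuousOn
      exact hpre.subsingleton ⟨x, mem_connectedComponent, rfl⟩ ⟨x', hx', rfl⟩

end Groth.Agent.S4463
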