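import Groth.Statements.S4475
import Groth.Agent.Lib.T2H2KzPoly2

set_option autoImplicit false
universe u
open Koszul3

namespace Groth.Agent.S4475

open Groth.Agent.Lib.T2H2.KzPoly in
theorem free_aux (A : Type u) [CommRing A] (r : ℕ) (j : ℤ) (hj : j = 0) :
    @Module.Free A (DL (MS A r) (xs A r) j) _ _
      (Module.compHom (DL (MS A r) (xs A r) j) (algebraMap A (Sr A r))) := by
  subst hj
  exact free_L A r

open CategoryTheory CategoryTheory.Limits in
/-- Let A be a ring, S = A[T_0, …, T_r] the polynomial ring and T = (T_0, …, T_r). Then the direct-limit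
Koszul cohomology H^i((T), S), the colimit over n of the Koszul cohomologies H^i(T^n, S), vanishes
for every i ≠ r + 1, and H^(r+1)((T), S) is a free A-module (the source gives an explicit basis
indexed by the monomials with all exponents positive). -/
theorem result (A : Type u) [CommRing A] (r : ℕ) :
    (∀ i : ℕ, i ≠ r + 1 →
      Subsingleton (CohIII.koszulHLim (List.ofFn (fun j : Fin (r + 1) => (MvPolynomial.X j : MvPolynomial (Fin (r + 1)) A)))
        (ModuleCat.of (MvPolynomial (Fin (r + 1)) A) (MvPolynomial (Fin (r + 1)) A)) i)) ∧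
    Module.Free A (RestrictScalars A (MvPolynomial (Fin (r + 1)) A)
      (CohIII.koszulHLim (List.ofFn (fun j : Fin (r + 1) => (MvPolynomial.X j : MvPolynomial (Fin (r + 1)) A)))
        (ModuleCat.of (MvPolynomial (Fin (r + 1)) A) (MvPolynomial (Fin (r + 1)) A)) (r + 1))) := by
  constructor
  · intro i hi
    have hK := Groth.Agent.Lib.T2H2.KzPoly.kacyc_xs A r
    have hne : (i : ℤ) - ((Groth.Agent.Lib.T2H2.KzPoly.xs A r).length : ℤ) ≠ 0 := by
      rw [List.length_ofFn]
      intro h0
      apply hi
      omega
    have key : ∀ z : CohIII.koszulHLim (Groth.Agent.Lib.T2H2.KzPoly.xs A r)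
        (Groth.Agent.Lib.T2H2.KzPoly.MS A r) i, z = 0 := by
      intro z
      obtain ⟨n, x, rfl⟩ := Module.DirectLimit.exists_of z
      have hz := hK.map_pow n _ hne
      have := ModuleCat.subsingleton_of_isZero hz
      rw [Subsingleton.elim x 0, map_zero]
      rfl
    exact ⟨fun a b => by rw [key a, key b]⟩
  · exact free_aux A r _ (by rw [List.length_ofFn]; push_cast; ring)

end Groth.Agent.S4475
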