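import Groth.Statements.S4479
import Groth.Agent.Lib.T2H4ProjCech

set_option autoImplicit false
universe u
open Koszul3

namespace Groth.Agent.S4479

open Groth.Agent.Lib.T2H4.ProjCech Groth.Agent.Lib.T2H4.YVan Groth.Agent.Lib.Helper16.CechLow

open AlgebraicGeometry CategoryTheory in
/-- For a graded module concentrated in nonnegative degrees. Let S be a nonnegatively graded ring, f_1,
…, f_r homogeneous elements of S of positive degrees, M a graded S-module, X = Proj S and U ⊆ X the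
union of the opens D_+(f_i). Then for every p ≥ 1 the direct sum over all integers n of the groups
H^p(U, M(n)~|_U) is isomorphic, as an additive group, to the direct-limit Koszul cohomology
H^(p+1)((f), M), the colimit over m of the Koszul cohomologies H^(p+1)(f^m, M) of M as an S-module.
(The source's isomorphism is canonical and of degree 0 for the gradings; only the existence of an
additive isomorphism is asserted.) -/
theorem result {R A : Type u} [CommRing R] [CommRing A]
    [Algebra R A] (𝒜 : ℕ → Submodule R A) [GradedAlgebra 𝒜] (fs : List A)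
    (hfs : ∀ a ∈ fs, ∃ d : ℕ, 0 < d ∧ a ∈ 𝒜 d) {M : Type u} [AddCommGroup M] [Module R M] [Module A M]
    [IsScalarTower R A M] (ℳ : ℕ → Submodule R M) [DirectSum.Decomposition ℳ] [SetLike.GradedSMul 𝒜 ℳ]
    (p : ℕ) (hp : 1 ≤ p) :
    Nonempty (DirectSum ℤ (fun n : ℤ => Coh.HHon (Proj 𝒜) (GrTilde.tilde 𝒜 ℳ n)
        (⨆ i : Fin fs.length, Proj.basicOpen 𝒜 (fs.get i)) p) ≃+
      CohIII.koszulHLim fs (ModuleCat.of A M) (p + 1)) := by
  have hU : (⨆ i : Fin fs.length, Proj.basicOpen 𝒜 (fs.get i)) = iSup (UP 𝒜 (aa fs)) := by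
    apply le_antisymm
    · exact iSup_le fun j => le_iSup (UP 𝒜 (aa fs)) (ULift.up j)
    · exact iSup_le fun i => le_iSup (fun j : Fin fs.length => Proj.basicOpen 𝒜 (fs.get j)) i.down
  rw [hU]
  have hex : ∀ i : II fs, ∃ d : ℕ, 0 < d ∧ aa fs i ∈ 𝒜 d :=
    fun i => hfs _ (List.get_mem fs i.down)
  choose dg hdg ha using hex
  have E0 : ∀ j : ℤ, Coh.HHon (Proj 𝒜) (GrTilde.tilde 𝒜 ℳ j) (iSup (UP 𝒜 (aa fs))) p ≃+
      (CK (UP 𝒜 (aa fs)) (GrTilde.tilde 𝒜 ℳ j).presheaf).homology p :=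
    fun j => (step1 𝒜 ℳ (aa fs) dg hdg ha j p).some
  obtain ⟨E1⟩ := cech_sum_equiv 𝒜 ℳ (aa fs) dg hdg ha p
  obtain ⟨E2⟩ := step3 fs M p hp
  exact ⟨(DFinsupp.mapRange.addEquiv E0).trans (E1.trans E2)⟩

end Groth.Agent.S4479
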