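import Groth.Statements.S4481
import Mathlib
import Groth.Prelude.Def_CohB1
import Groth.Agent.Lib.T2H4CechKz

set_option autoImplicit false
universe u
open Coherent

namespace Groth.Agent.S4481
open AlgebraicGeometry CategoryTheory Opposite TopologicalSpace CategoryTheory.Limits
open Groth.Agent.Lib.Helper6 Groth.Agent.Lib.T2H2.LowCechR Groth.Agent.Lib.T2H2.FlasqueKz
open Groth.Agent.Lib.Helper16.CechLow Groth.Agent.Lib.Helper16.CechH1
open Groth.Agent.Lib.T2H4.SecLoc Groth.Agent.Lib.T2H4.YVan Groth.Agent.Lib.Helper23.AffVanish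
open Groth.Agent.Lib.T2H4.CechKz

section General

lemma Ux_eq_iInf {Z : TopCat.{u}} {ι : Type u} (W : ι → Opens Z) {n : ℕ} (σ : Fin (n + 1) → ι) :
    Ux W σ = ⨅ a, W (σ a) :=
  le_antisymm (le_iInf (Ux_le W σ)) (le_Ux W σ _ (fun a => iInf_le _ a))

lemma mem_Ux {Z : TopCat.{u}} {ι : Type u} (W : ι → Opens Z) {n : ℕ} (σ : Fin (n + 1) → ι) (z : Z) :
    z ∈ Ux W σ ↔ ∀ a, z ∈ W (σ a) := by
  rw [Ux_eq_iInf, ← SetLike.mem_coe, Opens.coe_iInf, Set.mem_iInter]
  rfl

lemma map_comm {Z : TopCat.{u}} (P : (Opens Z)ᵒᵖ ⥤ AddCommGrpCat.{u}) {A B C D : Opens Z}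
    (m1 : op A ⟶ op B) (m2 : op B ⟶ op D) (m3 : op A ⟶ op C) (m4 : op C ⟶ op D) (y : P.obj (op A)) :
    P.map m2 (P.map m1 y) = P.map m4 (P.map m3 y) := by
  rw [← ConcreteCategory.comp_apply, ← ConcreteCategory.comp_apply, ← P.map_comp, ← P.map_comp]
  exact congrArg (fun m => (P.map m) y) (Subsingleton.elim _ _)

end General

section Spec

variable {A : Type u} [CommRing A] {ι : Type u} (a : ι → A) (N : Type u) [AddCommGroup N] [Module A N]

lemma iSup_fam_eq_top (ha : Ideal.span (Set.range a) = ⊤) :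
    (⨆ i, fam (φA A) a i) = ⊤ := by
  rw [eq_top_iff]
  intro x _
  by_contra hx
  have hle : Ideal.span (Set.range a) ≤ x.asIdeal := by
    rw [Ideal.span_le]
    rintro _ ⟨i, rfl⟩
    by_contra hi
    apply hx
    refine Opens.mem_iSup.2 ⟨i, ?_⟩
    change x ∈ (Spec (CommRingCat.of A)).basicOpen ((Scheme.ΓSpecIso (CommRingCat.of A)).inv (a i))
    rw [basicOpen_eq_of_affine]
    exact hi
  rw [ha] at hle
  exact x.isPrime.ne_top (top_le_iff.1 hle)

/-- Čech cohomology of `M~` for a covering of `Spec A` by basic opens vanishes -/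
theorem isZero_cech_spec (ha : Ideal.span (Set.range a) = ⊤) (p : ℕ) :
    IsZero ((CK (fam (φA A) a) (FM A N).presheaf).homology (p + 1)) := by
  obtain ⟨e⟩ := Groth.Agent.S0464.result (ab (FM A N)) (fam (φA A) a) (by
    intro p σ q
    rw [iInf_fam]
    exact subsingleton_HE_basicOpen (FM A N) q _) (p + 1)
  have h1 := subsingleton_HE_basicOpen (FM A N) p (1 : Γ(Spec (CommRingCat.of A), ⊤))
  have e1 : (Spec (CommRingCat.of A)).basicOpen (1 : Γ(Spec (CommRingCat.of A), ⊤)) = ⊤ :=
    (Spec (CommRingCat.of A)).basicOpen_of_isUnit isUnit_one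
  rw [e1, ← iSup_fam_eq_top a ha] at h1
  have h2 : Subsingleton (CohTop.HU (ab (FM A N)) (p + 1) (iSup (fam (φA A) a))) := h1
  have : Subsingleton ((CK (fam (φA A) a) (FM A N).presheaf).homology (p + 1)) :=
    e.toEquiv.subsingleton
  exact AddCommGrpCat.isZero_of_subsingleton _

end Spec

section Main

variable (X : Scheme.{u}) (n : ℕ) (f : Fin n → Γ(X, ⊤))

/-- the union of the basic opens -/
abbrev W : X.Opens := ⨆ i, X.basicOpen (f i)

/-- the restricted functions -/
noncomputable def fW (i : Fin n) : Γ(X, W X n f) :=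
  (X.presheaf.map (homOfLE (le_top : W X n f ≤ ⊤)).op).hom (f i)

/-- the functions on the open subscheme -/
noncomputable def a (i : ULift.{u} (Fin n)) : Γ((W X n f).toScheme, ⊤) :=
  (W X n f).topIso.inv.hom (fW X n f i.down)

/-- the family on `X` -/
abbrev famX (i : ULift.{u} (Fin n)) : X.Opens := X.basicOpen (f i.down)

/-- the family on the open subscheme -/
noncomputable abbrev famV : ULift.{u} (Fin n) → (W X n f).toScheme.Opens :=
  fam (RingHom.id Γ((W X n f).toScheme, ⊤)) (a X n f)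

lemma image_famV (i : ULift.{u} (Fin n)) : (W X n f).ι ''ᵁ famV X n f i = famX X n f i := by
  change (W X n f).ι ''ᵁ (W X n f).toScheme.basicOpen ((W X n f).topIso.inv (fW X n f i.down)) = _
  rw [Scheme.Opens.ι_image_basicOpen_topIso_inv, fW, Scheme.basicOpen_res]
  exact inf_eq_right.2 (le_iSup (fun i => X.basicOpen (f i)) i.down)

lemma mem_image_iff (V' : (W X n f).toScheme.Opens) (v : (W X n f).toScheme) :
    (W X n f).ι v ∈ (W X n f).ι ''ᵁ V' ↔ v ∈ V' := by
  constructor
  · rintro ⟨v', hv', hvv'⟩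
    have : v' = v := (W X n f).ι.isOpenEmbedding.injective hvv'
    rwa [← this]
  · intro hv
    exact ⟨v, hv, rfl⟩

lemma image_Ux {m : ℕ} (σ : Fin (m + 1) → ULift.{u} (Fin n)) :
    (W X n f).ι ''ᵁ (Ux (famV X n f) σ) = Ux (famX X n f) σ := by
  apply le_antisymm
  · refine le_Ux (famX X n f) σ _ (fun k => ?_)
    rw [← image_famV]
    exact (W X n f).ι.image_mono (Ux_le (famV X n f) σ k)
  · intro x hx
    have hx' := (mem_Ux (famX X n f) σ x).1 hx
    have hxW : x ∈ W X n f := Opens.mem_iSup.2 ⟨(σ 0).down, hx' 0⟩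
    let v : (W X n f).toScheme := ⟨x, hxW⟩
    have hv : v ∈ Ux (famV X n f) σ := (mem_Ux (famV X n f) σ v).2 (fun k => by
      rw [← mem_image_iff, image_famV]
      exact hx' k)
    exact ⟨v, hv, rfl⟩

lemma compactSpace_W (hqc : ∀ i, IsCompact (X.basicOpen (f i) : Set X)) :
    CompactSpace (W X n f).toScheme := by
  have : IsCompact ((W X n f : X.Opens) : Set X) := by
    rw [Opens.coe_iSup]
    exact isCompact_iUnion hqc
  exact isCompact_iff_compactSpace.1 this

lemma quasiSeparatedSpace_W [X.IsSeparated] : QuasiSeparatedSpace (W X n f).toScheme :=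
  quasiSeparatedSpace_of_quasiSeparated (W X n f).ι

lemma span_a (g : Fin n → Γ(X, ⨆ i, X.basicOpen (f i)))
    (hg : (Finset.univ.sum fun i => g i *
      (X.presheaf.map (homOfLE (le_top : (⨆ i, X.basicOpen (f i)) ≤ ⊤)).op).hom (f i)) = 1) :
    Ideal.span (Set.range (a X n f)) = ⊤ := by
  rw [Ideal.eq_top_iff_one]
  have h1 : (1 : Γ((W X n f).toScheme, ⊤)) =
      ∑ i, (W X n f).topIso.inv.hom (g i) * a X n f ⟨i⟩ := by
    have := congrArg (W X n f).topIso.inv.hom hg
    rw [map_sum, map_one] at this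
    rw [← this]
    refine Finset.sum_congr rfl (fun i _ => ?_)
    rw [map_mul]
    rfl
  rw [h1]
  exact Ideal.sum_mem _ (fun i _ => Ideal.mul_mem_left _ _ (Ideal.subset_span ⟨⟨i⟩, rfl⟩))

variable (G : X.Modules)

/-- sections over the finite intersections agree -/
noncomputable def eσ (m : ℕ) (σ : Fin (m + 1) → ULift.{u} (Fin n)) :
    G.presheaf.obj (op (Ux (famX X n f) σ)) ≃+
      (G.restrict (W X n f).ι).presheaf.obj (op (Ux (famV X n f) σ)) :=
  (G.presheaf.mapIso (eqToIso (congrArg op (image_Ux X n f σ).symm))).addCommGroupIsoToAddEquiv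

lemma eσ_face (m : ℕ) (σ : Fin (m + 2) → ULift.{u} (Fin n)) (i : Fin (m + 2))
    (y : G.presheaf.obj (op (Ux (famX X n f) (σ ∘ Fin.succAbove i)))) :
    eσ X n f G (m + 1) σ (G.presheaf.map (face (famX X n f) σ i).op y) =
      (G.restrict (W X n f).ι).presheaf.map (face (famV X n f) σ i).op
        (eσ X n f G m (σ ∘ Fin.succAbove i) y) :=
  map_comm G.presheaf (face (famX X n f) σ i).op (eqToHom (congrArg op (image_Ux X n f σ).symm))
    (eqToHom (congrArg op (image_Ux X n f (σ ∘ Fin.succAbove i)).symm))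
    ((W X n f).ι.opensFunctor.map (face (famV X n f) σ i)).op y

theorem main [X.IsSeparated] (hqc : ∀ i, IsCompact (X.basicOpen (f i) : Set X))
    (g : Fin n → Γ(X, ⨆ i, X.basicOpen (f i)))
    (hg : (Finset.univ.sum fun i => g i *
      (X.presheaf.map (homOfLE (le_top : (⨆ i, X.basicOpen (f i)) ≤ ⊤)).op).hom (f i)) = 1)
    [G.IsQuasicoherent] (p : ℕ) (hp : 0 < p) :
    IsZero (CohB1.cechH (fun i : ULift.{u} (Fin n) => X.basicOpen (f i.down)) G p) := by
  obtain ⟨q, rfl⟩ := Nat.exists_eq_succ_of_ne_zero hp.ne'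
  have := compactSpace_W X n f hqc
  have := quasiSeparatedSpace_W X n f
  have : (G.restrict (W X n f).ι).IsQuasicoherent :=
    Scheme.Modules.isQuasicoherent_restrictFunctor (W X n f).ι G
  obtain ⟨e0⟩ := Groth.Agent.Lib.T2H4.CechIso.nonempty_homology_equiv (famX X n f) (famV X n f)
    G.presheaf (G.restrict (W X n f).ι).presheaf (eσ X n f G) (eσ_face X n f G) (q + 1)
  obtain ⟨e1⟩ := Groth.Agent.Lib.T2H4.CechX.nonempty_homology_equiv (G.restrict (W X n f).ι)
    (FM Γ((W X n f).toScheme, ⊤) ((G.restrict (W X n f).ι).val.obj (op ⊤)))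
    (RingHom.id Γ((W X n f).toScheme, ⊤)) (φA Γ((W X n f).toScheme, ⊤))
    (ModuleCat.of Γ((W X n f).toScheme, ⊤) ((G.restrict (W X n f).ι).val.obj (op ⊤)))
    (eX (G.restrict (W X n f).ι))
    (eM Γ((W X n f).toScheme, ⊤) ((G.restrict (W X n f).ι).val.obj (op ⊤))) (a X n f) (q + 1)
  have hz := isZero_cech_spec (a X n f) ((G.restrict (W X n f).ι).val.obj (op ⊤))
    (span_a X n f g hg) q
  have := AddCommGrpCat.subsingleton_of_isZero hz
  have hs : Subsingleton ((CK (famX X n f) G.presheaf).homology (q + 1)) :=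
    (e0.trans e1).toEquiv.subsingleton
  exact @AddCommGrpCat.isZero_of_subsingleton _ hs

end Main


open AlgebraicGeometry CategoryTheory Opposite in
/-- Let X be a separated scheme, f_1, …, f_n global functions on X such that every open X_{f_i} is
quasi-compact, U the union of the X_{f_i}, and suppose there are sections g_1, …, g_n of O_X over U
with Σ g_i · (f_i|_U) = 1. Then for every quasi-coherent O_X-module G and every p > 0 the Čech
cohomology group of G in degree p with respect to the family of opens (X_{f_i}) is zero. (The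
published statement also covers a scheme whose underlying space is Noetherian, not necessarily
separated; this row treats separated X.) -/
theorem result (X : Scheme.{u}) [X.IsSeparated] (n : ℕ)
    (f : Fin n → Γ(X, ⊤)) (hqc : ∀ i, IsCompact (X.basicOpen (f i) : Set X))
    (g : Fin n → Γ(X, ⨆ i, X.basicOpen (f i)))
    (hg : (Finset.univ.sum fun i => g i *
      (X.presheaf.map (homOfLE (le_top : (⨆ i, X.basicOpen (f i)) ≤ ⊤)).op).hom (f i)) = 1)
    (G : X.Modules) [Coh.IsQCoh G] (p : ℕ) (hp : 0 < p) :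
    Limits.IsZero (CohB1.cechH (fun i : ULift.{u} (Fin n) => X.basicOpen (f i.down)) G p) := by
  exact main X n f G hqc g hg p hp

end Groth.Agent.S4481
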