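import Groth.Statements.S4487
import Groth.Agent.Lib.T2H4FlatFin
import Groth.Agent.S2440
import Mathlib

set_option autoImplicit false
universe u
open FlatCx

namespace Groth.Agent.S4487

section Helpers
open CategoryTheory CategoryTheory.Limits

theorem minimal_mem_freeLocus {B : Type u} [CommRing B] [IsReduced B] (M : Type u)
    [AddCommGroup M] [Module B M] (x : PrimeSpectrum B) (hx : x.asIdeal ∈ minimalPrimes B) :
    x ∈ Module.freeLocus B M := by
  rw [Module.mem_freeLocus]
  have : Ring.KrullDimLE 0 (Localization.AtPrime x.asIdeal) := .of_isLocalization _ hx _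
  let : Field (Localization.AtPrime x.asIdeal) := Ring.KrullDimLE.isField_of_isReduced.toField
  exact Module.Free.of_divisionRing _ _

theorem dense_of_minimal {B : Type u} [CommRing B] (W : Set (PrimeSpectrum B))
    (hW : ∀ x : PrimeSpectrum B, x.asIdeal ∈ minimalPrimes B → x ∈ W) : Dense W := by
  intro x
  obtain ⟨p, hp, hpx⟩ := Ideal.exists_minimalPrimes_le (bot_le : ⊥ ≤ x.asIdeal)
  have hpp : p.IsPrime := hp.1.1
  let y : PrimeSpectrum B := ⟨p, hpp⟩
  have hy : y ∈ W := hW y hp
  have hspec : y ⤳ x := (PrimeSpectrum.le_iff_specializes y x).mp hpx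
  exact closure_mono (Set.singleton_subset_iff.mpr hy) (specializes_iff_mem_closure.mp hspec)

theorem isHomeomorph_comap_nilradical (A : Type u) [CommRing A] :
    IsHomeomorph (PrimeSpectrum.comap (algebraMap A (A ⧸ nilradical A))) := by
  have hs : Function.Surjective (algebraMap A (A ⧸ nilradical A)) := Ideal.Quotient.mk_surjective
  rw [isHomeomorph_iff_isEmbedding_surjective]
  refine ⟨(PrimeSpectrum.isClosedEmbedding_comap_of_surjective _ _ hs).isEmbedding, ?_⟩
  intro x
  have hx : x ∈ Set.range (PrimeSpectrum.comap (algebraMap A (A ⧸ nilradical A))) := by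
    rw [range_comap_of_surjective _ _ hs, PrimeSpectrum.mem_zeroLocus]
    intro a ha
    have ha' : a ∈ nilradical A := by
      have : RingHom.ker (algebraMap A (A ⧸ nilradical A)) = nilradical A := Ideal.mk_ker
      rw [← this]; exact ha
    exact nilradical_le_prime x.asIdeal ha'
  exact hx

end Helpers

open CategoryTheory CategoryTheory.Limits in
/-- The case of the homological functor T_p(M) = H_p(P ⊗_A M) of a chain complex P of flat modules over
a commutative ring A. Let A be Noetherian and suppose P_i = 0 for i < i₀ and that every T_n(A) is a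
finitely generated A-module. Then for every integer N there is a dense open subset U of Spec A such
that, for every p ≤ N, the function x ↦ dim_{k(x)} H_p(P ⊗_A k(x)) is locally constant on U. (The
published statement says constant on U; over the product of two fields, with P the projective module
supported on one factor placed in degree 0, the only dense open set is the whole two-point spectrum
and the ranks there are 1 and 0, so locally constant on U is what holds; the argument produces U as
a disjoint union of opens, one dense in each irreducible component, on each of which the functions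
are constant.) -/
theorem result {A : Type u} [CommRing A] [IsNoetherianRing A]
    (P : ChainComplex (ModuleCat.{u} A) ℤ) (hP : ∀ i, Module.Flat A (P.X i)) (i₀ : ℤ)
    (hb : ∀ i < i₀, IsZero (P.X i))
    (hfg : ∀ n : ℤ, Module.Finite A (CohIII.T P n (ModuleCat.of A A))) (N : ℤ) :
    ∃ U : Set (PrimeSpectrum A), IsOpen U ∧ Dense U ∧
      ∀ p ≤ N, IsLocallyConstant (fun x : U => CohIII.dRank P p x) := by
  open Groth.Agent.Lib.Helper3 Groth.Agent.Lib.T2H4.FlatFin in
  classical
  let B := A ⧸ nilradical A
  have hred : IsReduced B :=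
    (Ideal.isRadical_iff_quotient_reduced (nilradical A)).mp (Ideal.radical_isRadical ⊥)
  let K := CohIII.bcCx (algebraMap A B) P
  have hK : ∀ i, Module.Flat B (K.X i) := flat_bcCx_X B P hP
  have hbK : ∀ i < i₀, IsZero (K.X i) := fun i hi =>
    (ModuleCat.extendScalars (algebraMap A B)).map_isZero (hb i hi)
  have hfin : ∀ q, Module.Finite B (K.homology q) := fun q =>
    finite_bc_homology B P q
      (T_finite P hP i₀ hb hfg (q - i₀ + 1).toNat q (by omega) B)
  have hfp : ∀ q, Module.FinitePresentation B (K.homology q) := fun q =>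
    have := hfin q
    Module.finitePresentation_of_finite B _
  let W : Set (PrimeSpectrum B) := ⋂ q ∈ Finset.Icc i₀ N, Module.freeLocus B (K.homology q)
  have hWo : IsOpen W := isOpen_biInter_finset (fun q _ => by
    have := hfp q
    exact Module.isOpen_freeLocus)
  have hWmin : ∀ x : PrimeSpectrum B, x.asIdeal ∈ minimalPrimes B → x ∈ W := by
    intro x hx
    simp only [W, Set.mem_iInter]
    intro q _
    exact minimal_mem_freeLocus _ x hx
  have hWd : Dense W := dense_of_minimal W hWmin
  let ψ : PrimeSpectrum B → PrimeSpectrum A := PrimeSpectrum.comap (algebraMap A B)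
  have hψ : IsHomeomorph ψ := isHomeomorph_comap_nilradical A
  refine ⟨ψ '' W, hψ.isOpenMap _ hWo, ?_, ?_⟩
  · exact hψ.surjective.denseRange.dense_image hψ.continuous hWd
  intro p hp
  rw [IsLocallyConstant.iff_exists_open]
  rintro ⟨x, w, hw, rfl⟩
  obtain ⟨v, ⟨f, rfl⟩, hfv, hvW⟩ :=
    PrimeSpectrum.isTopologicalBasis_basic_opens.exists_subset_of_mem_open hw hWo
  have hlc := locConst_bc K hK i₀ hbK hfin N f
    (fun q hq => hvW.trans (Set.biInter_subset_of_mem hq)) p hp
  let φ : PrimeSpectrum (Localization.Away f) → PrimeSpectrum B :=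
    PrimeSpectrum.comap (algebraMap B (Localization.Away f))
  have hφ : Topology.IsOpenEmbedding φ :=
    PrimeSpectrum.localization_away_isOpenEmbedding (Localization.Away f) f
  have hrange : Set.range φ = PrimeSpectrum.basicOpen f :=
    PrimeSpectrum.localization_away_comap_range _ f
  obtain ⟨y, rfl⟩ : w ∈ Set.range φ := by rw [hrange]; exact hfv
  obtain ⟨O, hO, hyO, hconst⟩ := (IsLocallyConstant.iff_exists_open _).mp hlc y
  have key : ∀ y' : PrimeSpectrum (Localization.Away f),
      CohIII.dRank (CohIII.bcCx (algebraMap B (Localization.Away f)) K) p y' =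
        CohIII.dRank P p (ψ (φ y')) := fun y' =>
    (Groth.Agent.S2440.result K hK p y').trans (Groth.Agent.S2440.result P hP p (φ y'))
  refine ⟨Subtype.val ⁻¹' (ψ '' (φ '' O)),
    (hψ.isOpenMap _ (hφ.isOpenMap _ hO)).preimage continuous_subtype_val,
    ⟨_, ⟨y, hyO, rfl⟩, rfl⟩, ?_⟩
  rintro ⟨_, _⟩ ⟨_, ⟨y', hy', rfl⟩, h2⟩
  show CohIII.dRank P p _ = CohIII.dRank P p (ψ (φ y))
  have h2' : ψ (φ y') = _ := h2
  rw [← h2', ← key, ← key]
  exact hconst y' hy'

end Groth.Agent.S4487
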