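import Groth.Statements.S4602
import Groth.Agent.Lib.T2H8GenFFMain

set_option autoImplicit false
universe u
open IsLocalRing
open EGA41

namespace Groth.Agent.S4602

/-- Let A be a regular local ring with fraction field of characteristic zero, B a domain containing A
and module-finite over it, with fraction field L, n a prime of B, C = B_n, q a prime of the
completion Ĉ with q ∩ C = 0. Then Ĉ_q is formally smooth over L for the adic topology of its maximal
ideal. (Case (ii) of the published statement, in characteristic p with a suitable filtered family of
subrings, is not stated.) -/
theorem result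
    {A B : Type u} [CommRing A] [IsRegularLocalRing A] [CharZero A] [CommRing B] [IsDomain B] [Algebra A B]
    [Module.Finite A B] (hinj : Function.Injective (algebraMap A B)) (n : Ideal B) [n.IsPrime]
    (q : Ideal (AdicCompletion (maximalIdeal (Localization.AtPrime n)) (Localization.AtPrime n))) [q.IsPrime]
    (hq : q.comap (algebraMap (Localization.AtPrime n)
      (AdicCompletion (maximalIdeal (Localization.AtPrime n)) (Localization.AtPrime n))) = ⊥)
    [Algebra B (Localization.AtPrime q)]
    [IsScalarTower B (AdicCompletion (maximalIdeal (Localization.AtPrime n)) (Localization.AtPrime n))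
      (Localization.AtPrime q)]
    [Algebra (FractionRing B) (Localization.AtPrime q)] [IsScalarTower B (FractionRing B) (Localization.AtPrime q)] :
    CAlgX.IsAdicFormallySmooth (FractionRing B) (Localization.AtPrime q) (maximalIdeal (Localization.AtPrime q)) := by
  haveI : IsDomain A := Groth.Agent.Lib.Helper5.isDomain_of_isRegularLocalRing A
  haveI : IsRegularRing A := Groth.Agent.Lib.Helper6.SepBC.isRegularRing_of_isRegularLocalRing A
  haveI hreg : IsRegularLocalRing (Localization.AtPrime q) :=
    Groth.Agent.Lib.T2H8.GenFFMain.isRegularLocalRing_generic_formalFibre hinj n q hq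
  haveI : IsRegularRing (Localization.AtPrime q) :=
    Groth.Agent.Lib.Helper6.SepBC.isRegularRing_of_isRegularLocalRing _
  have hinjL : Function.Injective (algebraMap A (FractionRing B)) := by
    rw [IsScalarTower.algebraMap_eq A B (FractionRing B)]
    exact (IsFractionRing.injective B (FractionRing B)).comp hinj
  haveI : CharZero (FractionRing B) := charZero_of_injective_algebraMap hinjL
  apply Groth.Agent.Lib.Helper19.FSFlat.isAdicFormallySmooth_of_isGeometricallyRegular
  intro k' _ _ hfin
  haveI := hfin
  haveI : Algebra.IsSeparable (FractionRing B) k' := inferInstance
  have h1 := Groth.Agent.Lib.Helper7.PsSep.isRegularRing_tensor_of_isSeparable_aux (FractionRing B) k'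
    (Localization.AtPrime q)
  exact IsRegularRing.of_ringEquiv
    (Algebra.TensorProduct.comm (FractionRing B) (Localization.AtPrime q) k').toRingEquiv

end Groth.Agent.S4602
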