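import Groth.Statements.S4633
import Groth.Agent.Lib.Helper2QuasiFlat2
import Groth.Agent.Lib.T2H3Birat

set_option autoImplicit false
set_option linter.style.haveILetI false
open CategoryTheory AlgebraicGeometry
universe u
open FDesc

namespace Groth.Agent.S4633

open CategoryTheory.Limits in
/-- Let f : X → Y be a morphism such that every irreducible component of X dominates an irreducible
component of Y (the closure of its image under f is an irreducible component of Y), and let g : Y' →
Y be quasi-flat (for instance flat). Then every irreducible component of X ×_Y Y' dominates an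
irreducible component of Y'. -/
theorem result {X Y Y' : Scheme.{u}} (f : X ⟶ Y) (g : Y' ⟶ Y)
    (hf : ∀ Z ∈ irreducibleComponents ↥X, closure (⇑f '' Z) ∈ irreducibleComponents ↥Y)
    (hg : FDesc.IsQuasiFlat g) (Z' : Set ↥(pullback f g)) (hZ' : Z' ∈ irreducibleComponents ↥(pullback f g)) :
    closure (⇑(pullback.snd f g) '' Z') ∈ irreducibleComponents ↥Y' := by
  classical
  open Groth.Agent.Lib.Helper2.QuasiFlat Groth.Agent.Lib.T2H3.Birat in
  let p := pullback.fst f g
  let f' := pullback.snd f g
  have sq : IsPullback p f' f g := IsPullback.of_hasPullback f g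
  have hp : FDesc.IsQuasiFlat p := isQuasiFlat_of_isPullback sq.flip hg
  have hpgen : GeneralizingMap p := generalizingMap_of_isQuasiFlat p hp
  -- the generic point of `Z'`
  obtain ⟨ξ', hξ'⟩ := QuasiSober.sober hZ'.1 (isClosed_of_mem_irreducibleComponents Z' hZ')
  have hξ'mem : ξ' ∈ genericPoints ↥(pullback f g) := by
    change closure {ξ'} ∈ irreducibleComponents ↥(pullback f g)
    rw [hξ'.def]
    exact hZ'
  have himg : closure (⇑f' '' Z') = closure {f' ξ'} := by
    rw [← hξ'.def]
    apply subset_antisymm
    · apply closure_minimal _ isClosed_closure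
      calc ⇑f' '' closure {ξ'} ⊆ closure (⇑f' '' {ξ'}) :=
            image_closure_subset_closure_image f'.continuous
        _ = closure {f' ξ'} := by rw [Set.image_singleton]
    · apply closure_mono
      rw [Set.singleton_subset_iff]
      exact ⟨ξ', subset_closure rfl, rfl⟩
  rw [himg]
  change f' ξ' ∈ genericPoints ↥Y'
  rw [mem_genericPoints_iff]
  intro y'' hy''
  -- `x = p ξ'` is a maximal point of `X`, so `f x` is a maximal point of `Y`
  let x := p ξ'
  have hx : x ∈ genericPoints ↥X := map_mem_genericPoints p hpgen hξ'mem
  have hfx : f x ∈ genericPoints ↥Y := by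
    have h1 := hf (closure {x}) hx
    have h2 : closure (⇑f '' closure {x}) = closure {f x} := by
      apply subset_antisymm
      · apply closure_minimal _ isClosed_closure
        calc ⇑f '' closure {x} ⊆ closure (⇑f '' {x}) :=
              image_closure_subset_closure_image f.continuous
          _ = closure {f x} := by rw [Set.image_singleton]
      · apply closure_mono
        rw [Set.singleton_subset_iff]
        exact ⟨x, subset_closure rfl, rfl⟩
    rw [h2] at h1
    exact h1
  let y := f x
  have hy' : g (f' ξ') = y := by
    rw [← Scheme.Hom.comp_apply, ← sq.w, Scheme.Hom.comp_apply]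
  have hy''y : g y'' = y := by
    have h1 : g y'' ⤳ g (f' ξ') := hy''.map g.continuous
    rw [hy'] at h1
    exact (mem_genericPoints_iff _).mp hfx _ h1
  -- points of the fibre of `g` over `y`
  obtain ⟨v', hv'⟩ : ∃ v' : ↥(g.fiber y), g.fiberι y v' = f' ξ' := by
    have : f' ξ' ∈ Set.range (g.fiberι y) := by rw [g.range_fiberι]; exact hy'
    exact this
  obtain ⟨v'', hv''⟩ : ∃ v'' : ↥(g.fiber y), g.fiberι y v'' = y'' := by
    have : y'' ∈ Set.range (g.fiberι y) := by rw [g.range_fiberι]; exact hy''y
    exact this
  have hvv : v'' ⤳ v' := by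
    rw [← (g.fiberι y).isEmbedding.toIsInducing.specializes_iff, hv', hv'']
    exact hy''
  -- the flat projection
  let q := pullback.snd f' (g.fiberι y)
  haveI : Flat q := MorphismProperty.of_isPullback (P := @Flat) (isPullback_θ sq y)
    inferInstance
  obtain ⟨w, hw1, hw2⟩ := exists_preimage_of_isPullback
    (IsPullback.of_hasPullback f' (g.fiberι y)) ξ' v' hv'.symm
  obtain ⟨w'', hw''s, hw''q⟩ := Flat.generalizingMap q (show v'' ⤳ q w by rw [hw2]; exact hvv)
  have hz : pullback.fst f' (g.fiberι y) w'' ⤳ ξ' := by
    rw [← hw1]
    exact hw''s.map (pullback.fst f' (g.fiberι y)).continuous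
  have hzeq := (mem_genericPoints_iff _).mp hξ'mem _ hz
  calc y'' = g.fiberι y v'' := hv''.symm
    _ = g.fiberι y (q w'') := by rw [hw''q]
    _ = f' (pullback.fst f' (g.fiberι y) w'') := by
        rw [← Scheme.Hom.comp_apply, ← Scheme.Hom.comp_apply, pullback.condition]
    _ = f' ξ' := by rw [hzeq]

end Groth.Agent.S4633
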