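import Groth.Statements.S4648
import Mathlib
import Groth.Agent.Lib.Helper2QuasiFlat
import Groth.Agent.Lib.Helper5Closure
import Groth.Agent.Lib.Helper5ProCons
import Groth.Agent.S3398

set_option autoImplicit false
open CategoryTheory AlgebraicGeometry
universe u
open FDesc

namespace Groth.Agent.S4648

/-- Let f : X → Y be a quasi-flat, surjective and quasi-compact morphism and Z a subset of Y. Then Z is
a locally closed pro-constructible subset of Y if and only if f⁻¹(Z) is a locally closed
pro-constructible subset of X. -/
theorem result {X Y : Scheme.{u}} (f : X ⟶ Y)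
    (hf : FDesc.IsQuasiFlat f) [Surjective f] [QuasiCompact f] (Z : Set ↥Y) :
    (IsLocallyClosed Z ∧ ProCons.IsProConstructible Z) ↔
      (IsLocallyClosed (⇑f ⁻¹' Z) ∧ ProCons.IsProConstructible (⇑f ⁻¹' Z)) := by
  have hgen := Groth.Agent.Lib.Helper2.QuasiFlat.generalizingMap_of_isQuasiFlat f hf
  have hquot := Groth.Agent.Lib.Helper2.QuasiFlat.isQuotientMap_of_generalizingMap f hgen
  constructor
  · rintro ⟨h1, h2⟩
    exact ⟨h1.preimage f.continuous,
      Groth.Agent.Lib.Helper5.isProConstructible_preimage f Z h2⟩
  · rintro ⟨h1, h2⟩
    have hZimg : Z = f.base '' (f.base ⁻¹' Z) := (Set.image_preimage_eq Z f.surjective).symm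
    have hZpro : ProCons.IsProConstructible Z := by
      rw [hZimg]
      exact Groth.Agent.S3398.result f _ h2
    refine ⟨?_, hZpro⟩
    -- preimage of the closure is the closure of the preimage
    have hcl : f.base ⁻¹' closure Z = closure (f.base ⁻¹' Z) := by
      apply subset_antisymm
      · intro x hx
        obtain ⟨z, hzZ, hz⟩ := Groth.Agent.Lib.Helper5.exists_specializes_of_mem_closure Y Z hZpro
          (f.base x) hx
        obtain ⟨x', hx', hfx'⟩ := hgen hz
        have hmem : x' ∈ f.base ⁻¹' Z := by
          show f.base x' ∈ Z
          rw [show f.base x' = z from hfx']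
          exact hzZ
        exact closure_mono (Set.singleton_subset_iff.mpr hmem) hx'.mem_closure
      · exact f.continuous.closure_preimage_subset _
    rw [isLocallyClosed_iff_isOpen_coborder, coborder, isOpen_compl_iff,
      ← hquot.isClosed_preimage, Set.preimage_sdiff, hcl]
    have := h1.isOpen_coborder
    rw [coborder, isOpen_compl_iff] at this
    exact this

end Groth.Agent.S4648
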