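import Groth.Statements.S4659
import Mathlib
import Groth.Agent.Lib.T2H6GeomRedMod

set_option autoImplicit false
open CategoryTheory AlgebraicGeometry
universe u
open FBase

namespace Groth.Agent.S4659

/-- Let X be a locally Noetherian scheme over a field k and F a coherent O_X-module. Then F ⊗_k k' is a
reduced module on X ⊗_k k' for every finite purely inseparable extension k' of k if and only if F
⊗_k K is a reduced module on X ⊗_k K for every extension K of k for which X ⊗_k K is locally
Noetherian. (The published statement takes K finitely generated over k, a hypothesis used only to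
make X ⊗_k K locally Noetherian.) -/
theorem result {k : Type u} [Field k] {X : Scheme.{u}} [IsLocallyNoetherian X]
    (f : X ⟶ Spec (CommRingCat.of k)) (F : X.Modules) (hF : Coh.IsCoh F) :
    (∀ (k' : Type u) [Field k'] [Algebra k k'] [FiniteDimensional k k'] [IsPurelyInseparable k k'],
        AssSch.IsReducedMod ((Scheme.Modules.pullback (FBase.bcπ f k')).obj F)) ↔
      ∀ (K : Type u) [Field K] [Algebra k K] [IsLocallyNoetherian (FBase.bc f K)],
        AssSch.IsReducedMod ((Scheme.Modules.pullback (FBase.bcπ f K)).obj F) := by
  constructor
  · intro H K _ _ _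
    exact Groth.Agent.Lib.T2H6.GeomRedMod.isReducedMod_pullback_of_forall_finite_purelyInseparable f
      (Groth.Agent.Lib.T2H6.GeomRedMod.sqBc f K) F H
  · intro H k' _ _ _ _
    haveI := Groth.Agent.Lib.T2H6.GeomRedMod.isLocallyNoetherian_bc_of_finite f k'
    exact H k'

end Groth.Agent.S4659
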