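import Groth.Statements.S4671
import Mathlib
import Groth.Agent.Lib.T2H6FieldTensC

set_option autoImplicit false
open CategoryTheory AlgebraicGeometry
universe u
open AssSch

namespace Groth.Agent.S4671

open CategoryTheory.Limits in
/-- Let f : X → S and g : Y → S be morphisms of schemes with X, Y, S and X ×_S Y locally Noetherian, F a
quasi-coherent O_X-module such that f maps every associated point of F to an associated point of
O_S, and G a quasi-coherent O_Y-module flat over S. If F and G have no embedded associated points,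
then F ⊗_S G (the tensor product on X ×_S Y of the pull-backs of F and G along the two projections)
has no embedded associated points. (The published statement assumes only X, S, the fibres of g and
the schemes Spec κ(x) ×_S Spec κ(y) locally Noetherian; this row assumes Y and X ×_S Y locally
Noetherian, which implies all of these, so that associated points are those whose maximal ideal is
the annihilator of an element of the stalk.) -/
theorem result {X Y S : Scheme.{u}} (f : X ⟶ S) (g : Y ⟶ S)
    [IsLocallyNoetherian X] [IsLocallyNoetherian Y] [IsLocallyNoetherian S] [IsLocallyNoetherian (pullback f g)]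
    (F : X.Modules) (hF : Coh.IsQCoh F) (G : Y.Modules) (hG : Coh.IsQCoh G) (hGfl : FlatMod.IsFlatOver g G)
    (hAss : ∀ x ∈ AssSch.Ass F, f x ∈ AssSch.Ass (Coh.structureModule S))
    (hFne : AssSch.NoEmbedded F) (hGne : AssSch.NoEmbedded G) :
    AssSch.NoEmbedded (CohB1.tensorMod ((Scheme.Modules.pullback (pullback.fst f g)).obj F) ((Scheme.Modules.pullback (pullback.snd f g)).obj G)) := by
  haveI : G.IsQuasicoherent := hG
  intro z₂ hz₂ z₁ hz₁ h12
  have hc := Groth.Agent.Lib.T2H6.FieldTens.hcFlip f g
  have hflat : ∀ z, FlatMod.IsFlatOverAt (pullback.fst f g)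
      ((Scheme.Modules.pullback (pullback.snd f g)).obj G) z := fun z =>
    Groth.Agent.Lib.Helper2.PullbackSec.isFlatOverAt_pullback_of_isPullback hc G z (hGfl _)
  obtain ⟨hxF₂, -⟩ := (Groth.Agent.Lib.T2H6.FlatAss.isAssPoint_tensor_pullback_iff (pullback.fst f g) F
    ((Scheme.Modules.pullback (pullback.snd f g)).obj G) z₂ (hflat z₂)).1 hz₂
  obtain ⟨hxF₁, -⟩ := (Groth.Agent.Lib.T2H6.FlatAss.isAssPoint_tensor_pullback_iff (pullback.fst f g) F
    ((Scheme.Modules.pullback (pullback.snd f g)).obj G) z₁ (hflat z₁)).1 hz₁
  have hp : pullback.fst f g z₂ = pullback.fst f g z₁ :=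
    hFne _ hxF₂ _ hxF₁ (h12.map (pullback.fst f g).continuous)
  have hq : pullback.snd f g z₂ = pullback.snd f g z₁ :=
    hGne _ (Groth.Agent.Lib.T2H6.AssFibProd.snd_mem_ass f g F G hGfl hAss z₂ hz₂) _
      (Groth.Agent.Lib.T2H6.AssFibProd.snd_mem_ass f g F G hGfl hAss z₁ hz₁)
      (h12.map (pullback.snd f g).continuous)
  exact Groth.Agent.Lib.T2H6.FieldTens.eq_of_specializes_of_fst_eq_of_snd_eq f g F G hGfl z₁ z₂ hz₁ hz₂ h12 hp hq

end Groth.Agent.S4671
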