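import Groth.Statements.S4685
import Mathlib
import Groth.Agent.Lib.T2H6FieldTensC

set_option autoImplicit false
open CategoryTheory AlgebraicGeometry
universe u
open AssSch

namespace Groth.Agent.S4685

open CategoryTheory.Limits in
/-- Let f : X → S and g : Y → S be morphisms of schemes with X, Y and X ×_S Y locally Noetherian, F a
quasi-coherent O_X-module without embedded associated points, and G a quasi-coherent O_Y-module,
flat over S, whose restriction to every fibre g⁻¹(s) has no embedded associated points. Then F ⊗_S G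
(the tensor product on X ×_S Y of the pull-backs of F and G along the two projections) has no
embedded associated points. (The published statement assumes only X, the fibres of g and the schemes
Spec κ(x) ×_S Spec κ(y) locally Noetherian; this row assumes Y and X ×_S Y locally Noetherian, which
implies all of these, so that associated points are those whose maximal ideal is the annihilator of
an element of the stalk.) -/
theorem result {X Y S : Scheme.{u}} (f : X ⟶ S) (g : Y ⟶ S)
    [IsLocallyNoetherian X] [IsLocallyNoetherian Y] [IsLocallyNoetherian (pullback f g)]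
    (F : X.Modules) (hF : Coh.IsQCoh F) (G : Y.Modules) (hG : Coh.IsQCoh G) (hGfl : FlatMod.IsFlatOver g G)
    (hFne : AssSch.NoEmbedded F)
    (hGne : ∀ s : ↥S, AssSch.NoEmbedded ((Scheme.Modules.pullback (g.fiberι s)).obj G)) :
    AssSch.NoEmbedded (CohB1.tensorMod ((Scheme.Modules.pullback (pullback.fst f g)).obj F) ((Scheme.Modules.pullback (pullback.snd f g)).obj G)) := by
  haveI : G.IsQuasicoherent := hG
  intro z₂ hz₂ z₁ hz₁ h12
  have hc := Groth.Agent.Lib.T2H6.FieldTens.hcFlip f g
  have hflat : ∀ z, FlatMod.IsFlatOverAt (pullback.fst f g)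
      ((Scheme.Modules.pullback (pullback.snd f g)).obj G) z := fun z =>
    Groth.Agent.Lib.Helper2.PullbackSec.isFlatOverAt_pullback_of_isPullback hc G z (hGfl _)
  obtain ⟨hxF₂, -⟩ := (Groth.Agent.Lib.T2H6.FlatAss.isAssPoint_tensor_pullback_iff (pullback.fst f g) F
    ((Scheme.Modules.pullback (pullback.snd f g)).obj G) z₂ (hflat z₂)).1 hz₂
  obtain ⟨hxF₁, -⟩ := (Groth.Agent.Lib.T2H6.FlatAss.isAssPoint_tensor_pullback_iff (pullback.fst f g) F
    ((Scheme.Modules.pullback (pullback.snd f g)).obj G) z₁ (hflat z₁)).1 hz₁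
  have hp : pullback.fst f g z₂ = pullback.fst f g z₁ :=
    hFne _ hxF₂ _ hxF₁ (h12.map (pullback.fst f g).continuous)
  obtain ⟨t₂, ht₂⟩ := Groth.Agent.Lib.T2H6.FieldTens.exists_fiber_point' (pullback.fst f g)
    (pullback.fst f g z₂) z₂ rfl
  obtain ⟨t₁, ht₁⟩ := Groth.Agent.Lib.T2H6.FieldTens.exists_fiber_point' (pullback.fst f g)
    (pullback.fst f g z₂) z₁ hp.symm
  have ht12 : t₁ ⤳ t₂ := by
    rw [← ((pullback.fst f g).fiberι (pullback.fst f g z₂)).isEmbedding.isInducing.specializes_iff, ht₁, ht₂]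
    exact h12
  have ha₁ := Groth.Agent.Lib.T2H6.FieldTens.isAssPoint_fiber_of_fibMap f g G _ t₁
    (Groth.Agent.Lib.T2H6.FieldTens.isAssPoint_fibMap_of_mem_ass f g F G hGfl _ t₁ (by rw [ht₁]; exact hz₁))
  have ha₂ := Groth.Agent.Lib.T2H6.FieldTens.isAssPoint_fiber_of_fibMap f g G _ t₂
    (Groth.Agent.Lib.T2H6.FieldTens.isAssPoint_fibMap_of_mem_ass f g F G hGfl _ t₂ (by rw [ht₂]; exact hz₂))
  have hy := hGne (f (pullback.fst f g z₂)) _ ha₂ _ ha₁
    (ht12.map (Groth.Agent.Lib.T2H6.FibBC.fibMap hc (pullback.fst f g z₂)).continuous)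
  have := Groth.Agent.Lib.T2H6.FieldTens.eq_of_specializes_of_fibMap_eq f g F G hGfl _ t₁ t₂
    (by rw [ht₁]; exact hz₁) (by rw [ht₂]; exact hz₂) ht12 hy
  rw [← ht₂, ← ht₁, this]

end Groth.Agent.S4685
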