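import Groth.Statements.S4707
import Groth.Agent.Lib.T2H1IntClBC

set_option autoImplicit false
universe u
open EGA4

namespace Groth.Agent.S4707

open TensorProduct in
/-- Let A be a Noetherian ring and A' a Noetherian A-algebra such that A → A' is a normal homomorphism
(flat, with geometrically normal fibres). Let B → C be a homomorphism of A-algebras and D the
integral closure of B in C. Then the integral closure in A' ⊗_A C of the image of A' ⊗_A B is the
image of A' ⊗_A D. (No finiteness is assumed on B or C.) -/
theorem result (A A' : Type u) [CommRing A] [CommRing A']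
    [IsNoetherianRing A] [IsNoetherianRing A'] [Algebra A A'] (h : EGA4.IsNormalHom A A')
    (B C : Type u) [CommRing B] [CommRing C] [Algebra A B] [Algebra A C] [Algebra B C] [IsScalarTower A B C] :
    (integralClosure
          ↥(Algebra.TensorProduct.map (AlgHom.id A' A') (IsScalarTower.toAlgHom A B C)).range (A' ⊗[A] C) :
        Set (A' ⊗[A] C)) =
      Set.range (Algebra.TensorProduct.map (AlgHom.id A' A')
        ((integralClosure B C).val.restrictScalars A)) := by
  classical
  set f := Algebra.TensorProduct.map (AlgHom.id A' A') (IsScalarTower.toAlgHom A B C) with hf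
  ext z
  simp only [SetLike.mem_coe, mem_integralClosure_iff, Set.mem_range]
  constructor
  · intro hz
    obtain ⟨q, hq, hqz⟩ := hz
    have hlift : q ∈ Polynomial.lifts f.rangeRestrict.toRingHom := by
      rw [Polynomial.lifts_iff_coeff_lifts]
      intro n
      obtain ⟨y, hy⟩ := f.rangeRestrict_surjective (q.coeff n)
      exact ⟨y, hy⟩
    obtain ⟨q', hq', -, hq'm⟩ := Polynomial.lifts_and_natDegree_eq_and_monic hlift hq
    have hint : f.toRingHom.IsIntegralElem z := by
      refine ⟨q', hq'm, ?_⟩
      have h1 : f.toRingHom = (algebraMap (↥f.range) (A' ⊗[A] C)).comp f.rangeRestrict.toRingHom :=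
        RingHom.ext (fun y => rfl)
      rw [h1, ← Polynomial.eval₂_map, hq']
      exact hqz
    obtain ⟨w, hw⟩ := Groth.Agent.Lib.T2H1.IntClBC.main A A' B C h z hint
    exact ⟨w, hw⟩
  · rintro ⟨w, rfl⟩
    induction w using TensorProduct.induction_on with
    | zero => rw [map_zero]; exact isIntegral_zero
    | tmul a d =>
      have h1 : Algebra.TensorProduct.map (AlgHom.id A' A')
          ((integralClosure B C).val.restrictScalars A) (a ⊗ₜ[A] d) =
          (a ⊗ₜ[A] (1 : C)) * ((1 : A') ⊗ₜ[A] (d : C)) := by
        simp [Algebra.TensorProduct.tmul_mul_tmul]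
      rw [h1]
      refine IsIntegral.mul ?_ ?_
      · have hmem : a ⊗ₜ[A] (1 : C) ∈ f.range := ⟨a ⊗ₜ 1, by simp [hf]⟩
        exact isIntegral_algebraMap (R := ↥f.range) (x := ⟨_, hmem⟩)
      · let φ : B →+* ↥f.range :=
          f.rangeRestrict.toRingHom.comp
            (Algebra.TensorProduct.includeRight : B →ₐ[A] A' ⊗[A] B).toRingHom
        exact d.2.map_of_comp_eq φ
          (Algebra.TensorProduct.includeRight : C →ₐ[A] A' ⊗[A] C).toRingHom (by
            ext b
            simp [φ, hf])
    | add x y hx hy =>
      rw [map_add]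
      exact hx.add hy

end Groth.Agent.S4707
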