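import Groth.Statements.S4839
import Groth.Agent.Lib.Helper2PairCons4
import Groth.Agent.S5893

set_option autoImplicit false
set_option linter.style.haveILetI false
open CategoryTheory AlgebraicGeometry
universe u
open Cons9

namespace Groth.Agent.S4839

open CategoryTheory.Limits in
/-- Let k be a field and X, Y two schemes of finite type over k. If for some field extension K of k
there is a K-isomorphism X ⊗_k K ≅ Y ⊗_k K (X and Y are geometrically isomorphic), then there are a
finite extension k' of k and a k'-isomorphism X ⊗_k k' ≅ Y ⊗_k k'. This is the case of the property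
of being an isomorphism (base changes are the chosen fibre products with Spec of the extension). -/
theorem result {k : Type u} [Field k] {X Y : Scheme.{u}}
    (p : X ⟶ Spec (CommRingCat.of k)) (q : Y ⟶ Spec (CommRingCat.of k))
    [LocallyOfFiniteType p] [QuasiCompact p] [LocallyOfFiniteType q] [QuasiCompact q]
    (K : Type u) [Field K] [Algebra k K]
    (e : pullback p (Spec.map (CommRingCat.ofHom (algebraMap k K))) ≅ pullback q (Spec.map (CommRingCat.ofHom (algebraMap k K))))
    (he : e.hom ≫ pullback.snd q (Spec.map (CommRingCat.ofHom (algebraMap k K))) = pullback.snd p (Spec.map (CommRingCat.ofHom (algebraMap k K)))) :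
    ∃ (k' : Type u) (_ : Field k') (_ : Algebra k k') (_ : Module.Finite k k')
      (e' : pullback p (Spec.map (CommRingCat.ofHom (algebraMap k k'))) ≅ pullback q (Spec.map (CommRingCat.ofHom (algebraMap k k')))),
      e'.hom ≫ pullback.snd q (Spec.map (CommRingCat.ofHom (algebraMap k k'))) = pullback.snd p (Spec.map (CommRingCat.ofHom (algebraMap k k'))) := by
  classical
  haveI : IsLocallyNoetherian X := LocallyOfFiniteType.isLocallyNoetherian p
  haveI : IsLocallyNoetherian Y := LocallyOfFiniteType.isLocallyNoetherian q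
  haveI : LocallyOfFinitePresentation p := LocallyOfFinitePresentation.iff_locallyOfFiniteType.2 inferInstance
  haveI : LocallyOfFinitePresentation q := LocallyOfFinitePresentation.iff_locallyOfFiniteType.2 inferInstance
  let D := Groth.Agent.Lib.Helper2.PairCons2.specDiagram k K
  let c : Limits.Cone D := Groth.Agent.Lib.Helper2.PairCons2.specCone k K
  have hc : Limits.IsLimit c := Groth.Agent.Lib.Helper2.PairCons2.specIsLimit k K
  let i₀ : (Groth.Agent.Lib.Helper2.PairCons2.FGSub k K)ᵒᵖ := Opposite.op ⟨⊥, Subalgebra.fg_bot⟩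
  let τ : ∀ j, D.obj j ⟶ Spec (CommRingCat.of k) := Groth.Agent.Lib.Helper2.PairCons2.toBase k K
  have hτ : ∀ j, c.π.app j ≫ τ j = Spec.map (CommRingCat.ofHom (algebraMap k K)) :=
    Groth.Agent.Lib.Helper2.PairCons2.π_toBase k K
  have hτmap : ∀ {i j} (f : i ⟶ j), D.map f ≫ τ j = τ i :=
    fun f => Groth.Agent.Lib.Helper2.PairCons2.map_toBase k K f
  obtain ⟨qX, hX0⟩ := Groth.Agent.Lib.Helper2.PairCons.exists_isPullback_of_comp
    (IsPullback.of_hasPullback p (τ i₀))
    (IsPullback.of_hasPullback p (Spec.map (CommRingCat.ofHom (algebraMap k K)))) (c.π.app i₀) (hτ i₀)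
  obtain ⟨qY, hY0⟩ := Groth.Agent.Lib.Helper2.PairCons.exists_isPullback_of_comp
    (IsPullback.of_hasPullback q (τ i₀))
    (IsPullback.of_hasPullback q (Spec.map (CommRingCat.ofHom (algebraMap k K)))) (c.π.app i₀) (hτ i₀)
  obtain ⟨i, φ', Xi, Yi, xi, yi, pX, pY, hXi, hYi, gi, hgi, hQgi⟩ :=
    Groth.Agent.Lib.Helper2.PairCons3.exists_stage_hom (MorphismProperty.isomorphisms Scheme.{u})
      Groth.Agent.S5893.limDescends_iso D c hc i₀ (pullback.snd p (τ i₀)) (pullback.snd q (τ i₀))
      qX _ hX0 qY _ hY0 e.hom he (inferInstanceAs (IsIso e.hom))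
  have hXi' : IsPullback (pX ≫ pullback.fst p (τ i₀)) xi p (τ i) := by
    have := hXi.paste_horiz (IsPullback.of_hasPullback p (τ i₀))
    rwa [hτmap] at this
  have hYi' : IsPullback (pY ≫ pullback.fst q (τ i₀)) yi q (τ i) := by
    have := hYi.paste_horiz (IsPullback.of_hasPullback q (τ i₀))
    rwa [hτmap] at this
  -- the stage is `Spec A` for a finitely generated subalgebra `A` of the field `K`
  obtain ⟨⟨A, hA⟩⟩ := i
  haveI : Algebra.FiniteType k A := ⟨(Subalgebra.fg_top A).2 hA⟩
  obtain ⟨m, hm⟩ := Ideal.exists_maximal A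
  letI : Field (A ⧸ m) := Ideal.Quotient.field m
  haveI : Algebra.FiniteType k (A ⧸ m) :=
    Algebra.FiniteType.of_surjective (Ideal.Quotient.mkₐ k m) (Ideal.Quotient.mkₐ_surjective k m)
  haveI : Module.Finite k (A ⧸ m) := finite_of_finite_type_of_isJacobsonRing k (A ⧸ m)
  let b : Spec (CommRingCat.of (A ⧸ m)) ⟶ D.obj (Opposite.op ⟨A, hA⟩) :=
    Spec.map (CommRingCat.ofHom (Ideal.Quotient.mk m))
  have hb : b ≫ τ (Opposite.op ⟨A, hA⟩) = Spec.map (CommRingCat.ofHom (algebraMap k (A ⧸ m))) := by
    change Spec.map _ ≫ Spec.map _ = Spec.map _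
    rw [← Spec.map_comp]
    rfl
  have hiso : IsIso gi := hQgi
  obtain ⟨g'', hg'', hQ''⟩ := Groth.Agent.Lib.Helper2.PairCons.exists_baseChange
    (MorphismProperty.isomorphisms Scheme.{u}) xi yi gi hgi hQgi b
  have hX' : IsPullback (pullback.fst xi b ≫ pX ≫ pullback.fst p (τ i₀)) (pullback.snd xi b) p
      (Spec.map (CommRingCat.ofHom (algebraMap k (A ⧸ m)))) := by
    have := (IsPullback.of_hasPullback xi b).paste_horiz hXi'
    rwa [hb] at this
  have hY' : IsPullback (pullback.fst yi b ≫ pY ≫ pullback.fst q (τ i₀)) (pullback.snd yi b) q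
      (Spec.map (CommRingCat.ofHom (algebraMap k (A ⧸ m)))) := by
    have := (IsPullback.of_hasPullback yi b).paste_horiz hYi'
    rwa [hb] at this
  haveI : IsIso g'' := hQ''
  let eX := hX'.isoPullback
  let eY := hY'.isoPullback
  refine ⟨A ⧸ m, inferInstance, inferInstance, inferInstance,
    eX.symm ≪≫ asIso g'' ≪≫ eY, ?_⟩
  simp only [Iso.trans_hom, Iso.symm_hom, asIso_hom, Category.assoc, eX, eY,
    IsPullback.isoPullback_hom_snd, hg'']
  rw [Iso.inv_comp_eq]
  exact (IsPullback.isoPullback_hom_snd hX').symm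

end Groth.Agent.S4839
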