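import Groth.Statements.S4901
import Mathlib
import Groth.Agent.Lib.T2H3InjStageSch
import Groth.Agent.Lib.Helper6LfpComp

set_option autoImplicit false
set_option linter.style.haveILetI false
universe u
open CategoryTheory AlgebraicGeometry
open EGA43

namespace Groth.Agent.S4901

open Limits Groth.Agent.Lib.Helper22.LimBC Groth.Agent.Lib.Helper26.FlatLim
  Groth.Agent.Lib.T2H3.InjStageSch Groth.Agent.Lib.T2H3.InjFlatOpen Groth.Agent.Lib.Helper23.QCohLocal
  Groth.Agent.Lib.Helper4.NormDelta Groth.Agent.Lib.Helper2.PullbackSec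

open CategoryTheory.Limits in
/-- Let S be the limit of a cofiltered system (S_i) of schemes with affine transition morphisms, i₀ an
index, f₀ : X₀ ⟶ Y₀ a morphism locally of finite presentation of S_{i₀}-schemes, F₀ and G₀
quasi-coherent O_{X₀}-modules of finite presentation and h₀ : F₀ ⟶ G₀ a homomorphism; let f : X ⟶ Y
and h = q^*h₀ be the base changes to S and x a point of X. Then the stalk map h_x is injective and
Coker h is f-flat at x if and only if there are an index i over i₀ and base changes f_i : X_i ⟶ Y_i,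
h_i = p^*h₀ to S_i (pullback squares with the compatible morphisms X ⟶ X_i, Y ⟶ Y_i) such that
(h_i)_{x_i} is injective and Coker h_i is f_i-flat at the image x_i of x. -/
theorem result {I : Type u} [SmallCategory I] [IsCofiltered I]
    (D : I ⥤ Scheme.{u}) (c : Limits.Cone D) (hc : Limits.IsLimit c)
    [∀ (i j : I) (φ : i ⟶ j), IsAffineHom (D.map φ)] (i₀ : I)
    {X₀ Y₀ : Scheme.{u}} (f₀ : X₀ ⟶ Y₀) (g₀ : Y₀ ⟶ D.obj i₀) [LocallyOfFinitePresentation f₀]
    (F₀ G₀ : X₀.Modules) [Coh.IsQCoh F₀] [Coh.IsQCoh G₀] (hF₀ : CohB1.IsFP F₀) (hG₀ : CohB1.IsFP G₀)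
    (h₀ : F₀ ⟶ G₀)
    {X Y : Scheme.{u}} (f : X ⟶ Y) (g : Y ⟶ c.pt) (qY : Y ⟶ Y₀) (qX : X ⟶ X₀)
    (hY : IsPullback qY g g₀ (c.π.app i₀)) (hX : IsPullback qX f f₀ qY) (x : X) :
    (Function.Injective ((TopCat.Presheaf.stalkFunctor Ab x).map
        (Scheme.Modules.Hom.mapPresheaf ((Scheme.Modules.pullback qX).map h₀))) ∧
      FlatMod.IsFlatOverAt f (cokernel ((Scheme.Modules.pullback qX).map h₀)) x) ↔
      ∃ (i : I) (φ : i ⟶ i₀) (Xi Yi : Scheme.{u}) (fi : Xi ⟶ Yi) (gi : Yi ⟶ D.obj i)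
        (pY : Yi ⟶ Y₀) (pX : Xi ⟶ X₀) (vY : Y ⟶ Yi) (vX : X ⟶ Xi),
        IsPullback pY gi g₀ (D.map φ) ∧ IsPullback pX fi f₀ pY ∧
          vY ≫ pY = qY ∧ vY ≫ gi = g ≫ c.π.app i ∧ vX ≫ pX = qX ∧ vX ≫ fi = f ≫ vY ∧
          Function.Injective ((TopCat.Presheaf.stalkFunctor Ab (vX x)).map
            (Scheme.Modules.Hom.mapPresheaf ((Scheme.Modules.pullback pX).map h₀))) ∧
          FlatMod.IsFlatOverAt fi (cokernel ((Scheme.Modules.pullback pX).map h₀)) (vX x) := by
  haveI hD : ∀ {i j : I} (φ : i ⟶ j), IsAffineHom (D.map φ) := fun φ => inferInstance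
  haveI : F₀.IsQuasicoherent := ‹Coh.IsQCoh F₀›
  haveI : G₀.IsQuasicoherent := ‹Coh.IsQCoh G₀›
  haveI : SheafOfModules.IsFinitePresentation (R := X₀.ringCatSheaf) F₀ := hF₀
  haveI : SheafOfModules.IsFinitePresentation (R := X₀.ringCatSheaf) G₀ := hG₀
  haveI : (cokernel h₀).IsQuasicoherent := isQuasicoherent_cokernel h₀
  haveI hQfp : SheafOfModules.IsFinitePresentation (R := X₀.ringCatSheaf) (cokernel h₀) :=
    isFinitePresentation_cokernel h₀
  constructor
  · rintro ⟨Hinj, Hfl⟩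
    have Hinj' : Function.Injective (stalkHom ((Scheme.Modules.pullback qX).map h₀) x) := Hinj
    have Hfl' : FlatMod.IsFlatOverAt f ((Scheme.Modules.pullback qX).obj (cokernel h₀)) x :=
      (isFlatOverAt_cokernel_pullback_iff qX f h₀ x).1 Hfl
    let j₀ : Over i₀ := Over.mk (𝟙 i₀)
    have hc' : IsLimit (bcCone i₀ hY) := isLimitBcCone i₀ hY hc
    haveI : IsIso (dFst D i₀ g₀ j₀) := by
      unfold dFst bcFst
      have : IsIso (D.map j₀.hom) := by
        show IsIso (D.map (𝟙 i₀))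
        infer_instance
      exact pullback_fst_iso_of_right_iso _ _
    let f₀' : X₀ ⟶ (bcDiagram D i₀ g₀).obj j₀ := f₀ ≫ inv (dFst D i₀ g₀ j₀)
    haveI : LocallyOfFinitePresentation f₀' := by
      show LocallyOfFinitePresentation (f₀ ≫ inv (dFst D i₀ g₀ j₀))
      infer_instance
    have hP' : IsPullback qX f f₀' ((bcCone i₀ hY).π.app j₀) := by
      refine IsPullback.of_iso hX (Iso.refl _) (Iso.refl _) (Iso.refl _) (asIso (dFst D i₀ g₀ j₀)).symm
        (by simp) (by simp) (by simp [f₀']) ?_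
      simp only [Iso.symm_hom, asIso_inv, Iso.refl_hom, Category.id_comp, bcCone_π_app,
        IsIso.comp_inv_eq]
      exact (bcπ_fst i₀ hY j₀).symm
    obtain ⟨ja, hja⟩ := exists_stage_isFlatOverAt (bcDiagram D i₀ g₀) (bcCone i₀ hY) hc' j₀ f₀'
      (cokernel h₀) (hF₀ := hQfp) hP' x Hfl'
    obtain ⟨jb, hjb⟩ := exists_stage_injective_stalkHom (bcDiagram D i₀ g₀) (bcCone i₀ hY) hc' j₀ f₀'
      h₀ hP' x Hinj' Hfl'
    let j : Over j₀ := IsCofiltered.min ja jb
    have hvY1 : bcπ i₀ hY j.left ≫ dFst D i₀ g₀ j.left = qY := bcπ_fst i₀ hY j.left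
    have hvY2 : bcπ i₀ hY j.left ≫ dSnd D i₀ g₀ j.left = g ≫ c.π.app j.left.left := bcπ_snd i₀ hY j.left
    let vX : X ⟶ pullback f₀ (dFst D i₀ g₀ j.left) :=
      pullback.lift qX (f ≫ bcπ i₀ hY j.left) (by rw [hX.w, Category.assoc, hvY1])
    have hvX1 : vX ≫ pullback.fst _ _ = qX := pullback.lift_fst _ _ _
    have hvX2 : vX ≫ pullback.snd _ _ = f ≫ bcπ i₀ hY j.left := pullback.lift_snd _ _ _
    have hpbj : IsPullback (pullback.fst f₀ (dFst D i₀ g₀ j.left)) (pullback.snd f₀ (dFst D i₀ g₀ j.left))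
        f₀' ((bcDiagram D i₀ g₀).map j.hom) := by
      refine IsPullback.of_iso (IsPullback.of_hasPullback f₀ (dFst D i₀ g₀ j.left))
        (Iso.refl _) (Iso.refl _) (Iso.refl _) (asIso (dFst D i₀ g₀ j₀)).symm
          (by simp) (by simp) (by simp [f₀']) ?_
      simp only [Iso.symm_hom, asIso_inv, Iso.refl_hom, Category.id_comp, IsIso.comp_inv_eq]
      exact (map_dFst D i₀ g₀ j.hom).symm
    refine ⟨j.left.left, j.left.hom, pullback f₀ (dFst D i₀ g₀ j.left), (bcDiagram D i₀ g₀).obj j.left,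
      pullback.snd _ _, dSnd D i₀ g₀ j.left, dFst D i₀ g₀ j.left, pullback.fst _ _,
      bcπ i₀ hY j.left, vX,
      isPullback_d D i₀ g₀ j.left, IsPullback.of_hasPullback _ _, hvY1, hvY2, hvX1, hvX2, ?_, ?_⟩
    · exact hjb j (IsCofiltered.minToRight ja jb) _ _ hpbj vX hvX1 hvX2
    · rw [isFlatOverAt_cokernel_pullback_iff]
      exact hja j (IsCofiltered.minToLeft ja jb) _ _ hpbj vX hvX1 hvX2
  · rintro ⟨i, φ, Xi, Yi, fi, gi, pY, pX, vY, vX, h1, h2, hvY, -, hvX, hv, Hinj, Hfl⟩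
    have Hfl' : FlatMod.IsFlatOverAt fi ((Scheme.Modules.pullback pX).obj (cokernel h₀)) (vX x) :=
      (isFlatOverAt_cokernel_pullback_iff pX fi h₀ (vX x)).1 Hfl
    refine ⟨?_, ?_⟩
    · have hleft : IsPullback vX f fi vY := by
        subst hvX hvY
        exact IsPullback.of_right hX hv h2
      haveI : LocallyOfFinitePresentation fi := MorphismProperty.of_isPullback h2 inferInstance
      haveI : ((Scheme.Modules.pullback pX).obj F₀).IsQuasicoherent := isQuasicoherent_pullback pX F₀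
      haveI : ((Scheme.Modules.pullback pX).obj G₀).IsQuasicoherent := isQuasicoherent_pullback pX G₀
      haveI : SheafOfModules.IsFinitePresentation (R := Xi.ringCatSheaf)
          ((Scheme.Modules.pullback pX).obj F₀) :=
        Groth.Agent.Helper18Strict.isFP_pullback pX F₀ hF₀
      haveI : SheafOfModules.IsFinitePresentation (R := Xi.ringCatSheaf)
          ((Scheme.Modules.pullback pX).obj G₀) :=
        Groth.Agent.Helper18Strict.isFP_pullback pX G₀ hG₀
      have h3 := injective_stalkHom_pullback_of_isPullback hleft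
        ((Scheme.Modules.pullback pX).map h₀) x Hinj Hfl
      let β : Scheme.Modules.pullback pX ⋙ Scheme.Modules.pullback vX ≅
          Scheme.Modules.pullback qX :=
        Scheme.Modules.pullbackComp vX pX ≪≫ Scheme.Modules.pullbackCongr hvX
      exact injective_stalkHom_of_natIso h₀ β x h3
    · rw [isFlatOverAt_cokernel_pullback_iff]
      exact isFlatOverAt_of_stage hX h2 hvX hvY hv (cokernel h₀) x Hfl'

end Groth.Agent.S4901
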