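import Groth.Statements.S4989
import Groth.Agent.Lib.T2H9SmStalk

set_option autoImplicit false
set_option linter.style.haveILetI false
set_option linter.unusedVariables false
universe u
open CategoryTheory CategoryTheory.Limits AlgebraicGeometry TopologicalSpace
open Unram17

namespace Groth.Agent.S4989

/-- Let f : X ⟶ Y be locally of finite presentation and smooth at a point x with image y. Then the local
ring of X at x is reduced if and only if the local ring of Y at y is reduced, and it is an
integrally closed domain if and only if the local ring of Y at y is one. (The published statement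
also covers geometrically unibranch local rings; this row states only the reduced and the integrally
closed cases.) -/
theorem result {X Y : Scheme.{u}} (f : X ⟶ Y)
    [LocallyOfFinitePresentation f] (x : ↥X) (hx : x ∈ f.smoothLocus) :
    (IsReduced ↑(X.presheaf.stalk x) ↔ IsReduced ↑(Y.presheaf.stalk (f.base x))) ∧
    ((IsDomain ↑(X.presheaf.stalk x) ∧ IsIntegrallyClosed ↑(X.presheaf.stalk x)) ↔
      (IsDomain ↑(Y.presheaf.stalk (f.base x)) ∧ IsIntegrallyClosed ↑(Y.presheaf.stalk (f.base x)))) := by
  haveI : Smooth (f.smoothLocus.ι ≫ f) := by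
    rw [← Scheme.Hom.smoothLocus_eq_top_iff, ← Scheme.Hom.preimage_smoothLocus_eq,
      Scheme.Opens.ι_preimage_self]
  let x' : f.smoothLocus := ⟨x, hx⟩
  let e : X.presheaf.stalk x ≃+* f.smoothLocus.toScheme.presheaf.stalk x' :=
    (asIso (f.smoothLocus.ι.stalkMap x')).commRingCatIsoToRingEquiv
  refine ⟨⟨fun h => ?_, fun h => ?_⟩, ⟨fun h => ?_, fun h => ?_⟩⟩
  · have h1 : IsReduced (f.smoothLocus.toScheme.presheaf.stalk x') :=
      isReduced_of_injective e.symm e.symm.injective
    exact Groth.Agent.Lib.Helper12.GeomRed.isReduced_stalk_of_flat (f.smoothLocus.ι ≫ f) x' h1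
  · have h1 : IsReduced (f.smoothLocus.toScheme.presheaf.stalk x') :=
      Groth.Agent.Lib.Helper12.GeomRed.isReduced_stalk_of_smooth (f.smoothLocus.ι ≫ f) x' h
    exact isReduced_of_injective e e.injective
  · have h1 : IsDomain (f.smoothLocus.toScheme.presheaf.stalk x') ∧
        IsIntegrallyClosed (f.smoothLocus.toScheme.presheaf.stalk x') := by
      haveI := h.2
      exact ⟨e.toMulEquiv.isDomain_iff.mp h.1, IsIntegrallyClosed.of_equiv e⟩
    exact Groth.Agent.Lib.T2H9.SmStalk.isNormal_stalk_of_flat (f.smoothLocus.ι ≫ f) x' h1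
  · have h1 := Groth.Agent.Lib.T2H9.SmStalk.isNormal_stalk_of_smooth (f.smoothLocus.ι ≫ f) x' h
    haveI := h1.2
    exact ⟨e.toMulEquiv.isDomain_iff.mpr h1.1, IsIntegrallyClosed.of_equiv e.symm⟩

end Groth.Agent.S4989
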