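import Groth.Statements.S5004
-- import your own Groth.Agent.* helpers here
import Mathlib
import Groth.Agent.S5803
import Groth.Agent.Lib.Helper5RegImm
import Groth.Agent.Lib.T2H2QRegLoc
import Groth.Agent.Lib.T2H2QRegStalk

set_option autoImplicit false
universe u
open CategoryTheory CategoryTheory.Limits AlgebraicGeometry TopologicalSpace
open Nrm16

namespace Groth.Agent.S5004

open Groth.Agent.Lib.Helper5.RegImm Groth.Agent.Lib.T2H2.QRegStalk

/-- On a locally Noetherian scheme, every quasi-regular (quasi-coherent) ideal sheaf is a regular ideal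
sheaf. -/
theorem result {X : Scheme.{u}} [IsLocallyNoetherian X] (I : X.IdealSheafData)
    (h : RegImm.IsRegularIdeal RegImm.Kind.quasi I) : RegImm.IsRegularIdeal RegImm.Kind.regular I := by
  intro x hx
  have hx' : x ∈ Set.range I.subschemeι := by rw [I.range_subschemeι]; exact hx
  obtain ⟨z, rfl⟩ := hx'
  obtain ⟨U, hzU, rs, hqr, hI⟩ := h _ hx
  have hker : RingHom.ker (I.subschemeι.stalkMap z).hom =
      Ideal.ofList (rs.map (X.presheaf.germ U.1 (I.subschemeι z) hzU).hom) := by
    rw [ker_stalkMap_eq_map_ker I.subschemeι z U.1 U.2 hzU, I.ker_subschemeι, hI, Ideal.map_ofList]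
  have hst : StalkReg I.subschemeι z :=
    stalkReg_of_quasiRegular I.subschemeι z U.1 U.2 hzU rs hqr hker
  obtain ⟨U', hU', hz', rs', hreg, hker'⟩ := regAt_of_stalkReg I.subschemeι z hst
  rw [I.ker_subschemeι] at hker'
  exact ⟨⟨U', hU'⟩, hz', rs', hreg, hker'⟩

end Groth.Agent.S5004
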