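import Groth.Statements.S5024
import Groth.Agent.Lib.T2H9SmSk

set_option autoImplicit false
set_option linter.style.haveILetI false
set_option linter.unusedVariables false
universe u
open CategoryTheory CategoryTheory.Limits AlgebraicGeometry TopologicalSpace
open Unram17

namespace Groth.Agent.S5024

/-- Let Y be locally Noetherian and f : X ⟶ Y locally of finite type, smooth on an open neighbourhood of
a point x with image y. Then for every n the local ring of X at x has Serre's property (S_n),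
respectively (R_n), if and only if the local ring of Y at y has it. -/
theorem result {X Y : Scheme.{u}} (f : X ⟶ Y)
    [IsLocallyNoetherian Y] [LocallyOfFiniteType f] (x : ↥X)
    (hx : ∃ U : X.Opens, x ∈ U ∧ Smooth (U.ι ≫ f)) (n : ℕ) :
    (LocCoh.HasSk n ↑(X.presheaf.stalk x) ↑(X.presheaf.stalk x) ↔
        LocCoh.HasSk n ↑(Y.presheaf.stalk (f.base x)) ↑(Y.presheaf.stalk (f.base x))) ∧
      (LocCoh.HasRk n ↑(X.presheaf.stalk x) ↔ LocCoh.HasRk n ↑(Y.presheaf.stalk (f.base x))) := by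
  obtain ⟨U, hxU, hsm⟩ := hx
  haveI := hsm
  haveI : IsLocallyNoetherian X := LocallyOfFiniteType.isLocallyNoetherian f
  let x' : U := ⟨x, hxU⟩
  let e : X.presheaf.stalk x ≃+* U.toScheme.presheaf.stalk x' :=
    (asIso (U.ι.stalkMap x')).commRingCatIsoToRingEquiv
  obtain ⟨h1, h2⟩ := Groth.Agent.Lib.T2H9.SmSk.stalk_iff_of_smooth (U.ι ≫ f) x' n
  refine ⟨⟨fun h => ?_, fun h => ?_⟩, ⟨fun h => ?_, fun h => ?_⟩⟩
  · exact h1.mp (Groth.Agent.Lib.Helper5.TensorSk.hasSk_self_of_ringEquiv e n h)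
  · exact Groth.Agent.Lib.Helper5.TensorSk.hasSk_self_of_ringEquiv e.symm n (h1.mpr h)
  · exact h2.mp (Groth.Agent.Lib.T2H9.SmSk.hasRk_of_ringEquiv e n h)
  · exact Groth.Agent.Lib.T2H9.SmSk.hasRk_of_ringEquiv e.symm n (h2.mpr h)

end Groth.Agent.S5024
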