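import Groth.Statements.S5065
import Mathlib

set_option autoImplicit false
set_option linter.style.haveILetI false
universe u
open Unram

namespace Groth.Agent.S5065

open TensorProduct

section aux

variable {A' : Type u} [CommRing A'] [IsIntegrallyClosed A']
  {K' : Type u} [Field K'] [Algebra A' K'] [IsFractionRing A' K']
  {C' : Type u} [CommRing C'] [Algebra A' C'] [Algebra.Etale A' C']

/-- An element of `Frac A' ⊗ C'` integral over the normal domain `A'` comes from `C'`, when `C'`
is étale over `A'` (smooth base change of integral closures). -/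
theorem exists_eq_one_tmul (y : K' ⊗[A'] C') (hy : IsIntegral A' y) :
    ∃ c : C', y = 1 ⊗ₜ c := by
  have key : ∀ z : C' ⊗[A'] integralClosure A' K', ∃ c : C',
      Algebra.TensorProduct.map (AlgHom.id C' C') (integralClosure A' K').val z
        = c ⊗ₜ 1 := by
    intro z
    induction z with
    | zero => exact ⟨0, by simp⟩
    | tmul c w =>
      obtain ⟨a, ha⟩ := IsIntegrallyClosed.isIntegral_iff.mp w.2
      refine ⟨a • c, ?_⟩
      simp only [Algebra.TensorProduct.map_tmul, AlgHom.coe_id, id_eq, Subalgebra.coe_val]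
      rw [← ha, Algebra.algebraMap_eq_smul_one, TensorProduct.smul_tmul]
    | add z₁ z₂ h₁ h₂ =>
      obtain ⟨c₁, h₁⟩ := h₁
      obtain ⟨c₂, h₂⟩ := h₂
      exact ⟨c₁ + c₂, by rw [map_add, h₁, h₂, TensorProduct.add_tmul]⟩
  have hy' : IsIntegral C' (Algebra.TensorProduct.comm A' K' C' y) :=
    (hy.map (Algebra.TensorProduct.comm A' K' C')).tower_top
  obtain ⟨z, hz⟩ := (TensorProduct.toIntegralClosure_bijective_of_smooth (R := A') (S := C')
    (B := K')).2 ⟨_, hy'⟩
  obtain ⟨c, hc⟩ := key z
  refine ⟨c, ?_⟩
  have h1 : Algebra.TensorProduct.comm A' K' C' y = c ⊗ₜ 1 := by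
    rw [← hc]
    have := congrArg Subtype.val hz
    simpa [TensorProduct.toIntegralClosure] using this.symm
  apply (Algebra.TensorProduct.comm A' K' C').injective
  rw [h1]; simp

omit [IsIntegrallyClosed A'] in
theorem one_tmul_injective :
    Function.Injective (fun c : C' => (1 : K') ⊗ₜ[A'] c) := by
  have : Module.Flat A' C' := inferInstance
  exact Algebra.TensorProduct.includeRight_injective (R := A') (A := K') (B := C')
    (IsFractionRing.injective A' K')

/-- In a reduced Artinian ring, a maximal ideal is cut out by an idempotent. -/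
theorem exists_idem {E : Type u} [CommRing E] [IsArtinianRing E] [IsReduced E] (M : Ideal E)
    [hM : M.IsMaximal] : ∃ e : E, 1 - e ∈ M ∧ ∀ z ∈ M, e * z = 0 := by
  classical
  let m₀ : MaximalSpectrum E := ⟨M, hM⟩
  let e : E := (IsArtinianRing.equivPi E).symm (Pi.single m₀ 1)
  have he : IsArtinianRing.equivPi E e = Pi.single m₀ 1 := by simp [e]
  refine ⟨e, ?_, ?_⟩
  · rw [← Ideal.Quotient.eq_zero_iff_mem, map_sub, map_one, sub_eq_zero]
    have := congrFun he m₀
    rw [IsArtinianRing.equivPi_apply, Pi.single_eq_same] at this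
    exact this.symm
  · intro z hz
    apply (IsArtinianRing.equivPi E).injective
    rw [map_mul, he, map_zero]
    funext m
    by_cases hm : m = m₀
    · subst hm
      rw [Pi.mul_apply, IsArtinianRing.equivPi_apply]
      have : (Ideal.Quotient.mk M) z = 0 := Ideal.Quotient.eq_zero_iff_mem.mpr hz
      change _ * (Ideal.Quotient.mk M) z = _
      rw [this, mul_zero]; rfl
    · rw [Pi.mul_apply, Pi.single_eq_of_ne hm, zero_mul]; rfl

variable {L₁ : Type u} [Field L₁] [Algebra A' L₁]

omit [IsFractionRing A' K'] in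
/-- The abstract form: `C'` étale over the normal domain `A'`, mapping to a field `L₁ ⊇ Frac A'`
with integral image generating `L₁` as a field; then the image is the integral closure of `A'`
in `L₁` and it is étale over `A'`. -/
theorem main_aux (K' : Type u) [Field K'] [Algebra A' K'] [IsFractionRing A' K']
    [Algebra K' L₁] [IsScalarTower A' K' L₁] (φ : C' →ₐ[A'] L₁) (hint : ∀ c, IsIntegral A' (φ c))
    (hgen : Subfield.closure (Set.range φ) = ⊤) :
    Algebra.Etale A' ↥(integralClosure A' L₁) ∧ integralClosure A' L₁ = φ.range := by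
  classical
  let ψ : K' ⊗[A'] C' →ₐ[K'] L₁ := Algebra.TensorProduct.lift (Algebra.ofId K' L₁) φ
    (fun _ _ => Commute.all _ _)
  have hψφ : ∀ c, ψ (1 ⊗ₜ c) = φ c := fun c => by simp [ψ]
  -- structure of E
  haveI : Module.Finite K' (K' ⊗[A'] C') := Algebra.FormallyUnramified.finite_of_free K' _
  haveI : IsArtinianRing (K' ⊗[A'] C') := IsArtinianRing.of_finite K' _
  haveI : IsReduced (K' ⊗[A'] C') := Algebra.FormallyUnramified.isReduced_of_field K' _
  -- ψ is surjective
  have hinv : ∀ x ∈ ψ.range, x⁻¹ ∈ ψ.range := by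
    intro x hx
    have hx' : IsAlgebraic K' x := by
      obtain ⟨y, rfl⟩ := hx
      exact ((Algebra.IsIntegral.isIntegral (R := K') y).map ψ).isAlgebraic
    exact Subalgebra.inv_mem_of_algebraic (A := ψ.range) (x := ⟨x, hx⟩) hx'
  let F : Subfield L₁ := { ψ.range.toSubring with inv_mem' := hinv }
  have hF : F = ⊤ := by
    rw [eq_top_iff, ← hgen, Subfield.closure_le]
    rintro _ ⟨c, rfl⟩
    exact show φ c ∈ ψ.range from (AlgHom.mem_range ψ).mpr ⟨1 ⊗ₜ c, hψφ c⟩
  have hψsurj : Function.Surjective ψ := by
    intro x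
    have : x ∈ F := by rw [hF]; trivial
    exact this
  -- the idempotent
  haveI hMmax : (RingHom.ker ψ.toRingHom).IsMaximal :=
    RingHom.ker_isMaximal_of_surjective ψ.toRingHom hψsurj
  have hM : ∀ z, z ∈ RingHom.ker ψ.toRingHom ↔ ψ z = 0 := fun z => Iff.rfl
  obtain ⟨e, he1, he2⟩ := exists_idem (RingHom.ker ψ.toRingHom)
  have hψe : ψ e = 1 := by
    have : ψ (1 - e) = 0 := (hM _).mp he1
    rw [map_sub, map_one, sub_eq_zero] at this
    exact this.symm
  have hee : e * e = e := by
    have := he2 (1 - e) he1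
    rw [mul_sub, mul_one, sub_eq_zero] at this
    exact this.symm
  -- the key claim
  have hkey : ∀ y₀ : K' ⊗[A'] C', IsIntegral A' (ψ y₀) → ∃ c : C', e * y₀ = 1 ⊗ₜ c := by
    intro y₀ hx
    obtain ⟨p, hp, hpx⟩ := hx
    apply exists_eq_one_tmul
    set y := e * y₀ with hy
    have hψy : ψ y = ψ y₀ := by rw [hy, map_mul, hψe, one_mul]
    have hpy : Polynomial.aeval y p ∈ RingHom.ker ψ.toRingHom := by
      rw [hM]
      have h := Polynomial.aeval_algHom_apply (ψ.restrictScalars A') y p
      rw [AlgHom.restrictScalars_apply, AlgHom.restrictScalars_apply, hψy] at h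
      rw [← h, Polynomial.aeval_def, hpx]
    have h0 : y * Polynomial.aeval y p = 0 := by
      have h := he2 _ hpy
      calc y * Polynomial.aeval y p = y₀ * (e * Polynomial.aeval y p) := by rw [hy]; ring
        _ = 0 := by rw [h, mul_zero]
    refine ⟨Polynomial.X * p, Polynomial.monic_X.mul hp, ?_⟩
    rw [Polynomial.eval₂_mul, Polynomial.eval₂_X, ← Polynomial.aeval_def, h0]
  -- the equality
  have hD : integralClosure A' L₁ = φ.range := by
    apply le_antisymm
    · intro x hx
      obtain ⟨y₀, rfl⟩ := hψsurj x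
      obtain ⟨c, hc⟩ := hkey y₀ hx
      refine (AlgHom.mem_range φ).mpr ⟨c, ?_⟩
      rw [← hψφ, ← hc, map_mul, hψe, one_mul]
    · rintro _ ⟨c, rfl⟩
      exact hint c
  refine ⟨?_, hD⟩
  -- étaleness
  obtain ⟨e', he'⟩ := hkey 1 (by rw [map_one]; exact isIntegral_one)
  rw [mul_one] at he'
  have hinj1 := one_tmul_injective (A' := A') (K' := K') (C' := C')
  have he'idem : IsIdempotentElem e' := by
    apply hinj1
    change (1 : K') ⊗ₜ[A'] (e' * e') = 1 ⊗ₜ e'
    have : (1 : K') ⊗ₜ[A'] (e' * e') = (1 ⊗ₜ e') * (1 ⊗ₜ e') := by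
      rw [Algebra.TensorProduct.tmul_mul_tmul, one_mul]
    rw [this, ← he', hee]
  let φD : C' →ₐ[A'] integralClosure A' L₁ := φ.codRestrict _ hint
  letI : Algebra C' (integralClosure A' L₁) := φD.toRingHom.toAlgebra
  haveI : IsScalarTower A' C' (integralClosure A' L₁) :=
    .of_algebraMap_eq fun a => (φD.commutes a).symm
  have halg : ∀ c : C', ((algebraMap C' (integralClosure A' L₁) c : integralClosure A' L₁) : L₁)
      = φ c := fun c => rfl
  have hker : RingHom.ker (algebraMap C' (integralClosure A' L₁)) = Ideal.span {1 - e'} := by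
    apply le_antisymm
    · intro c hc
      have hc0 : φ c = 0 := by
        rw [← halg, (RingHom.mem_ker).mp hc]; rfl
      have h1 : (1 : K') ⊗ₜ[A'] c ∈ RingHom.ker ψ.toRingHom := by
        rw [hM, hψφ, hc0]
      have h2 := he2 _ h1
      rw [he', Algebra.TensorProduct.tmul_mul_tmul, one_mul] at h2
      have h3 : e' * c = 0 := hinj1 (by simpa using h2)
      refine Ideal.mem_span_singleton'.mpr ⟨c, ?_⟩
      rw [mul_sub, mul_one, mul_comm c e', h3, sub_zero]
    · rw [Ideal.span_singleton_le_iff_mem, RingHom.mem_ker]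
      apply Subtype.ext
      rw [halg, ← hψφ, TensorProduct.tmul_sub, ← he', ← Algebra.TensorProduct.one_def, map_sub,
        map_one, hψe, sub_self]
      rfl
  have hsurj : Function.Surjective (algebraMap C' (integralClosure A' L₁)) := by
    intro d
    have hd : d.1 ∈ φ.range := by rw [← hD]; exact d.2
    obtain ⟨c, hc⟩ := (AlgHom.mem_range φ).mp hd
    exact ⟨c, Subtype.ext (by rw [halg, hc])⟩
  haveI : IsLocalization.Away e' (integralClosure A' L₁) :=
    IsLocalization.away_of_isIdempotentElem he'idem hker hsurj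
  haveI : Algebra.Etale C' (integralClosure A' L₁) := Algebra.Etale.of_isLocalizationAway e'
  exact Algebra.Etale.comp A' C' (integralClosure A' L₁)

end aux

/-- Let A ⊆ A' be integrally closed domains, L a field algebraic over the fraction field of A in which A
embeds and whose integral closure C over A is an étale A-algebra, and L₁ a field in which A' and L
both embed, compatibly over A, and which is generated as a field by the images of A' and L (a
compositum of L with the fraction field of A'; the map A' → L₁ is injective, so that the fraction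
field of A' is a subfield of L₁). Then the integral closure of A' in L₁ is an étale A'-algebra and
coincides with the A'-subalgebra generated by the image of C. -/
theorem result (A A' L L₁ : Type u) [CommRing A] [IsDomain A]
    [IsIntegrallyClosed A] [CommRing A'] [IsDomain A'] [IsIntegrallyClosed A'] [Algebra A A']
    [Field L] [Algebra A L] [Algebra.IsAlgebraic A L] (hinj : Function.Injective (algebraMap A L))
    [Algebra.Etale A ↥(integralClosure A L)]
    [Field L₁] [Algebra A' L₁] [Algebra L L₁] [Algebra A L₁] [IsScalarTower A A' L₁] [IsScalarTower A L L₁]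
    (hinj' : Function.Injective (algebraMap A' L₁))
    (hgen : Subfield.closure (Set.range (algebraMap A' L₁) ∪ Set.range (algebraMap L L₁)) = ⊤) :
    Algebra.Etale A' ↥(integralClosure A' L₁) ∧
      integralClosure A' L₁ = Algebra.adjoin A' ((algebraMap L L₁) '' {x : L | IsIntegral A x}) := by
  classical
  letI algK'L₁ : Algebra (FractionRing A') L₁ :=
    (IsFractionRing.lift hinj' : FractionRing A' →+* L₁).toAlgebra
  haveI : IsScalarTower A' (FractionRing A') L₁ :=
    .of_algebraMap_eq fun x => (IsFractionRing.lift_algebraMap hinj' x).symm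
  let φ : A' ⊗[A] (integralClosure A L) →ₐ[A'] L₁ := Algebra.TensorProduct.lift (Algebra.ofId A' L₁)
    ((IsScalarTower.toAlgHom A L L₁).comp (integralClosure A L).val) (fun _ _ => Commute.all _ _)
  have hφtmul : ∀ (a : A') (c : integralClosure A L),
      φ (a ⊗ₜ c) = algebraMap A' L₁ a * algebraMap L L₁ c.1 :=
    fun a c => Algebra.TensorProduct.lift_tmul (Algebra.ofId A' L₁)
      ((IsScalarTower.toAlgHom A L L₁).comp (integralClosure A L).val)
      (fun _ _ => Commute.all _ _) a c
  -- (1) the range of φ
  have hrange : (φ.range : Subalgebra A' L₁) =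
      Algebra.adjoin A' ((algebraMap L L₁) '' {x : L | IsIntegral A x}) := by
    apply le_antisymm
    · rintro _ ⟨z, rfl⟩
      change φ z ∈ _
      induction z using TensorProduct.induction_on with
      | zero => rw [map_zero]; exact zero_mem _
      | tmul a c =>
        rw [hφtmul]
        exact mul_mem (Subalgebra.algebraMap_mem _ a) (Algebra.subset_adjoin ⟨c.1, c.2, rfl⟩)
      | add z₁ z₂ h₁ h₂ => rw [map_add]; exact add_mem h₁ h₂
    · apply Algebra.adjoin_le
      rintro _ ⟨x, hx, rfl⟩
      exact (AlgHom.mem_range φ).mpr ⟨1 ⊗ₜ ⟨x, hx⟩, by rw [hφtmul, map_one, one_mul]⟩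
  -- every element of the range of φ is integral over A'
  have hφint : ∀ c, IsIntegral A' (φ c) := by
    intro c
    have hc : φ c ∈ Algebra.adjoin A' ((algebraMap L L₁) '' {x : L | IsIntegral A x}) := by
      rw [← hrange]; exact ⟨c, rfl⟩
    refine (Algebra.adjoin_le (S := integralClosure A' L₁) ?_) hc
    rintro _ ⟨x, hx, rfl⟩
    have h1 : IsIntegral A (algebraMap L L₁ x) := hx.map (IsScalarTower.toAlgHom A L L₁)
    exact h1.tower_top
  have hgen' : Subfield.closure (Set.range φ) = ⊤ := by
    rw [eq_top_iff, ← hgen, Subfield.closure_le]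
    rintro x (⟨a, rfl⟩ | ⟨l, rfl⟩)
    · apply Subfield.subset_closure
      exact ⟨a ⊗ₜ 1, by rw [hφtmul, OneMemClass.coe_one, map_one, mul_one]⟩
    · obtain ⟨a, ha, hal⟩ := (Algebra.IsAlgebraic.isAlgebraic (R := A) l).exists_integral_multiple
      have ha' : algebraMap A L a ≠ 0 := fun h => ha (hinj (by rw [h, map_zero]))
      have h1 : algebraMap L L₁ l =
          algebraMap L L₁ (a • l) * (algebraMap L L₁ (algebraMap A L a))⁻¹ := by
        rw [Algebra.smul_def, map_mul, mul_comm, ← mul_assoc, inv_mul_cancel₀, one_mul]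
        rwa [Ne, map_eq_zero]
      rw [h1]
      refine Subfield.mul_mem _ (Subfield.subset_closure ?_)
        (Subfield.inv_mem _ (Subfield.subset_closure ?_))
      · exact ⟨1 ⊗ₜ ⟨a • l, hal⟩, by rw [hφtmul, map_one, one_mul]⟩
      · exact ⟨1 ⊗ₜ ⟨algebraMap A L a, isIntegral_algebraMap⟩, by rw [hφtmul, map_one, one_mul]⟩
  obtain ⟨h1, h2⟩ := main_aux (FractionRing A') φ hφint hgen'
  exact ⟨h1, h2.trans hrange⟩

end Groth.Agent.S5065
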