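import Groth.Statements.S5105
import Groth.Agent.Lib.T2H4LocFactInv
import Groth.Agent.Lib.T2H4SecDivisor
set_option backward.isDefEq.respectTransparency.types false

set_option autoImplicit false
universe u
open CategoryTheory CategoryTheory.Limits AlgebraicGeometry TopologicalSpace
open Div21

namespace Groth.Agent.S5105

/-- For an integral scheme (X is locally factorial exactly when the canonical map Pic(X) → Cl(X) is a
bijection; in the presence of (i), being bijective means that each codimension-1 cycle arises as the
Weil divisor of some rational section of an invertible module): suppose X is an integral scheme that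
is normal and locally Noetherian. Then these two conditions are equivalent: (1) whenever Z is a
function from the points of X to the integers that is zero away from the points of codimension 1
(coheight 1) and whose support is locally finite, one can find an invertible O_X-module L together
with a nonzero rational section s of L (a nonzero element of the generic fibre of L) such that, at
each point of codimension 1, the order of s equals the value Z takes there; (2) each local ring of X
is a unique factorisation domain. -/
theorem result (X : Scheme.{u}) [IsIntegral X]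
    [IsLocallyNoetherian X] (hX : Pi1.IsNormalScheme X) :
    (∀ Z : ↥X → ℤ, (∀ x : ↥X, Order.coheight x ≠ 1 → Z x = 0) →
        (∀ x : ↥X, ∃ W : X.Opens, x ∈ W ∧ {z : ↥X | z ∈ W ∧ Z z ≠ 0}.Finite) →
        ∃ (L : X.Modules) (_ : PicF.IsInvertible L) (s : Cyc.secFibre L (genericPoint ↥X)), s ≠ 0 ∧
          ∀ x : ↥X, Order.coheight x = 1 →
            Cyc.secOrdAt L (genericPoint ↥X) x (genericPoint_specializes x) s = Z x) ↔
      ∀ x : ↥X, UniqueFactorizationMonoid ↑(X.presheaf.stalk x) := by
  classical
  constructor
  · -- every cycle is the divisor of a section of an invertible module ⟹ locally factorial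
    intro H x
    apply Groth.Agent.Lib.T2H2.LocFactSch.ufd_stalk_of_prime_cycles hX
    intro x₀ hx₀
    set Z : ↥X → ℤ := fun z => if z = x₀ then 1 else 0 with hZ
    have hZ0 : ∀ z : ↥X, Order.coheight z ≠ 1 → Z z = 0 := by
      intro z hz
      rw [hZ]
      dsimp only
      rw [if_neg]
      rintro rfl
      exact hz hx₀
    have hZfin : ∀ z : ↥X, ∃ W : X.Opens, z ∈ W ∧ {y : ↥X | y ∈ W ∧ Z y ≠ 0}.Finite := by
      intro z
      refine ⟨⊤, trivial, (Set.finite_singleton x₀).subset ?_⟩
      rintro y ⟨-, hy⟩
      by_contra hne
      apply hy
      rw [hZ]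
      dsimp only
      rw [if_neg (fun h => hne (Set.mem_singleton_iff.2 h))]
    obtain ⟨L, hL, s, hs, hord⟩ := H Z hZ0 hZfin
    obtain ⟨s₀, rfl⟩ := Submodule.Quotient.mk_surjective _ s
    have hs₀ : s₀ ≠ 0 := by
      rintro rfl
      exact hs (Submodule.Quotient.mk_zero _)
    obtain ⟨D, hDord⟩ := Groth.Agent.Lib.T2H4.SecDivisor.exists_divisor_of_invertible hX L hL s₀ hs₀
    refine ⟨D, fun g hg => ?_, fun z hz hz1 g hg => ?_⟩
    · rw [hDord x₀ hx₀ g hg, hord x₀ hx₀, hZ]
      dsimp only
      rw [if_pos rfl]
    · rw [hDord z hz1 g hg, hord z hz1, hZ]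
      dsimp only
      rw [if_neg hz]
  · -- locally factorial ⟹ every cycle is the divisor of a section of an invertible module
    intro hUFD Z hZ0 hZfin
    let D : AlgebraicCycle X ℤ :=
      { toFun := Z
        supportWithinDomain' := fun _ _ => Set.mem_univ _
        supportLocallyFiniteWithinDomain' := fun z _ => by
          obtain ⟨W, hzW, hfin⟩ := hZfin z
          exact ⟨W, W.isOpen.mem_nhds hzW, hfin.subset fun y hy => ⟨hy.1, hy.2⟩⟩ }
    obtain ⟨F, hF, s, hs, hord⟩ := Groth.Agent.Lib.T2H4.WeilDivSurj.main hX D hZ0
    exact ⟨F, Groth.Agent.Lib.T2H4.LocFactInv.isInvertible_of_ufd hX hUFD F hF, s, hs,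
      fun x hx => (hord x hx _).symm⟩

end Groth.Agent.S5105
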