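import Groth.Statements.S5129
import Groth.Agent.S0239
import Groth.Agent.S0268
import Groth.Agent.S14461
import Groth.Agent.Lib.T2H7ProperHens

set_option autoImplicit false
universe u
open Pi1

namespace Groth.Agent.S5129

set_option linter.style.haveILetI false

/-- `connectedComponentsMap` of a composite with a homeomorphism on the source -/
theorem bijective_ccMap_comp {P P' Y : Type*} [TopologicalSpace P] [TopologicalSpace P']
    [TopologicalSpace Y] (e : P ≃ₜ P') (p' : P' → Y) (hp' : Continuous p') (p : P → Y)
    (hp : Continuous p) (hpe : p = p' ∘ e)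
    (H : Function.Bijective hp'.connectedComponentsMap) :
    Function.Bijective hp.connectedComponentsMap := by
  subst hpe
  have h1 : ∀ c, (hp'.comp e.continuous).connectedComponentsMap c =
      hp'.connectedComponentsMap (e.continuous.connectedComponentsMap c) := by
    intro c
    obtain ⟨x, rfl⟩ := ConnectedComponents.surjective_coe c
    rfl
  have h2 : Function.Bijective e.continuous.connectedComponentsMap := by
    refine Function.bijective_iff_has_inverse.mpr ⟨e.symm.continuous.connectedComponentsMap, ?_, ?_⟩
    · intro c
      obtain ⟨x, rfl⟩ := ConnectedComponents.surjective_coe c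
      simp [Continuous.connectedComponentsMap_mk]
    · intro c
      obtain ⟨x, rfl⟩ := ConnectedComponents.surjective_coe c
      simp [Continuous.connectedComponentsMap_mk]
  have h3 : hp.connectedComponentsMap =
      hp'.connectedComponentsMap ∘ e.continuous.connectedComponentsMap := by
    funext c
    exact h1 c
  rw [h3]
  exact H.comp h2


open AlgebraicGeometry CategoryTheory CategoryTheory.Limits in
/-- Surjectivity of π₁(X) → π₁(Spec A), in terms of covers. Let A be a complete Noetherian local ring
with residue field k, k̄ an algebraic closure of k, ξ : Spec k̄ ⟶ Spec A the resulting geometric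
point, and X a proper A-scheme with X ×_A Spec k̄ connected. Then pulling back finite etale covers
along X ⟶ Spec A is fully faithful. -/
theorem result (A : Type u) [CommRing A]
    [IsNoetherianRing A] [IsLocalRing A] [IsAdicComplete (IsLocalRing.maximalIdeal A) A]
    {X : Scheme.{u}} (f : X ⟶ Spec (CommRingCat.of A)) [IsProper f]
    (ξ : Spec (CommRingCat.of (AlgebraicClosure (IsLocalRing.ResidueField A))) ⟶ Spec (CommRingCat.of A))
    (hξ : ξ = Spec.map (CommRingCat.ofHom ((algebraMap (IsLocalRing.ResidueField A)
      (AlgebraicClosure (IsLocalRing.ResidueField A))).comp (IsLocalRing.residue A))))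
    [ConnectedSpace ↥(pullback f ξ)] :
    (FEt.restrict f).Full ∧ (FEt.restrict f).Faithful := by
  subst hξ
  let q : Spec (CommRingCat.of (IsLocalRing.ResidueField A)) ⟶ Spec (CommRingCat.of A) :=
    Spec.map (CommRingCat.ofHom (IsLocalRing.residue A))
  haveI : IsClosedImmersion q :=
    IsClosedImmersion.spec_of_surjective _ Ideal.Quotient.mk_surjective
  haveI : IsClosedImmersion (pullback.fst f q) := MorphismProperty.pullback_fst _ _ inferInstance
  haveI : IsLocallyNoetherian X := LocallyOfFiniteType.isLocallyNoetherian f
  haveI : CompactSpace ↥X := QuasiCompact.compactSpace_of_compactSpace f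
  haveI : IsNoetherian X := ⟨⟩
  haveI : HenselianRing A (IsLocalRing.maximalIdeal A) := inferInstance
  -- restriction to the closed fibre is fully faithful
  have hc : ∀ Y : FEt.Cat X,
      Function.Bijective (pullback.fst Y.hom (pullback.fst f q)).continuous.connectedComponentsMap := by
    intro Y
    have hY : IsFinite Y.hom ∧ Etale Y.hom := Y.prop
    haveI := hY.1
    haveI := hY.2
    have H := Groth.Agent.Lib.T2H7.ProperHens.connectedComponentsMap_bijective_of_proper A
      (IsLocalRing.maximalIdeal A) (Y.hom ≫ f)
    refine bijective_ccMap_comp (pullbackRightPullbackFstIso f q Y.hom).hom.homeomorph _ _ _ _ ?_ H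
    have h1 : (pullbackRightPullbackFstIso f q Y.hom).hom ≫ pullback.fst (Y.hom ≫ f) q =
        pullback.fst Y.hom (pullback.fst f q) := pullbackRightPullbackFstIso_hom_fst f q Y.hom
    rw [← h1]
    rfl
  have hi := Groth.Agent.S14461.result (pullback.fst f q) hc
  -- the closed point
  have ha : (FEt.restrict q).IsEquivalence :=
    Groth.Agent.S0239.result A (IsLocalRing.maximalIdeal A)
  -- the closed fibre over the residue field
  haveI : CompactSpace ↥(pullback f q) :=
    QuasiCompact.compactSpace_of_compactSpace (pullback.snd f q)
  haveI : QuasiSeparatedSpace ↥(pullback f q) :=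
    quasiSeparatedSpace_of_quasiSeparated (pullback.snd f q)
  haveI : ConnectedSpace ↥(pullback (pullback.snd f q) (Spec.map (CommRingCat.ofHom
      (algebraMap (IsLocalRing.ResidueField A) (AlgebraicClosure (IsLocalRing.ResidueField A)))))) := by
    have heq : Spec.map (CommRingCat.ofHom ((algebraMap (IsLocalRing.ResidueField A)
        (AlgebraicClosure (IsLocalRing.ResidueField A))).comp (IsLocalRing.residue A))) =
        Spec.map (CommRingCat.ofHom (algebraMap (IsLocalRing.ResidueField A)
          (AlgebraicClosure (IsLocalRing.ResidueField A)))) ≫ q := by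
      rw [← Spec.map_comp]
      rfl
    haveI : ConnectedSpace ↥(pullback f (Spec.map (CommRingCat.ofHom
        (algebraMap (IsLocalRing.ResidueField A)
          (AlgebraicClosure (IsLocalRing.ResidueField A)))) ≫ q)) := by
      rw [← heq]
      infer_instance
    let e := pullbackLeftPullbackSndIso f q (Spec.map (CommRingCat.ofHom
      (algebraMap (IsLocalRing.ResidueField A) (AlgebraicClosure (IsLocalRing.ResidueField A)))))
    exact e.inv.homeomorph.surjective.connectedSpace e.inv.homeomorph.continuous
  have hb := Groth.Agent.S0268.result (IsLocalRing.ResidueField A) (pullback.snd f q)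
  -- assemble
  let e1 := MorphismProperty.Over.pullbackComp (P := FEt.prop) (Q := ⊤) (pullback.fst f q) f
  let e2 := MorphismProperty.Over.pullbackComp (P := FEt.prop) (Q := ⊤) (pullback.snd f q) q
    (pullback.fst f q ≫ f) pullback.condition
  let e : FEt.restrict f ⋙ FEt.restrict (pullback.fst f q) ≅
      FEt.restrict q ⋙ FEt.restrict (pullback.snd f q) := e1.symm ≪≫ e2
  haveI := ha
  haveI : (FEt.restrict (pullback.snd f q)).Full := hb.1
  haveI : (FEt.restrict (pullback.snd f q)).Faithful := hb.2
  haveI : (FEt.restrict f ⋙ FEt.restrict (pullback.fst f q)).Full := Functor.Full.of_iso e.symm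
  haveI : (FEt.restrict f ⋙ FEt.restrict (pullback.fst f q)).Faithful :=
    Functor.Faithful.of_iso e.symm
  haveI : (FEt.restrict (pullback.fst f q)).Faithful := hi.2
  exact ⟨Functor.Full.of_comp_faithful (FEt.restrict f) (FEt.restrict (pullback.fst f q)),
    Functor.Faithful.of_comp (FEt.restrict f) (FEt.restrict (pullback.fst f q))⟩

end Groth.Agent.S5129
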