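import Groth.Statements.S5186
import Mathlib
import Groth.Agent.Lib.T2H5SSSerre
import Groth.Agent.Lib.Helper21GSS
import Groth.Agent.Lib.T2H5RpushCoh
import Groth.Agent.Lib.T2H5RpushClosed
import Groth.Agent.Lib.T2H5GenIsoB
import Groth.Agent.Lib.T2H5Filt
import Groth.Agent.Lib.Helper21DerPost
-- import your own Groth.Agent.* helpers here

set_option autoImplicit false
universe u
open CategoryTheory AlgebraicGeometry
open Coherent

namespace Groth.Agent.S5186

/-- Let f : X → S be a proper morphism of schemes with S locally Noetherian, U an open subset of X with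
inclusion g : U → X, h = f ∘ g : U → S, F an O_U-module and n ≥ 0. If the higher direct images R^i
g_*(F) are coherent O_X-modules for all i ≤ n, then the higher direct images R^i h_*(F) are coherent
O_S-modules for all i ≤ n. (The existence of injective resolutions in the module categories is
carried as instance arguments.) -/
theorem result {X S : Scheme.{u}} (f : X ⟶ S) [IsProper f] [IsLocallyNoetherian S] (U : X.Opens) [HasInjectiveResolutions (U : Scheme.{u}).Modules] [HasInjectiveResolutions X.Modules] (F : (U : Scheme.{u}).Modules) (n : ℕ) (hg : ∀ i : ℕ, i ≤ n → Coh.IsCoh ((Coh.Rpush U.ι i).obj F)) (i : ℕ) (hi : i ≤ n) : Coh.IsCoh ((Coh.Rpush (U.ι ≫ f) i).obj F) := by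
  have hXN : IsLocallyNoetherian X := LocallyOfFiniteType.isLocallyNoetherian f
  have hadd1 : (Scheme.Modules.pushforward U.ι).Additive :=
    (Scheme.Modules.pullbackPushforwardAdjunction U.ι).right_adjoint_additive
  have hadd2 : (Scheme.Modules.pushforward f).Additive :=
    (Scheme.Modules.pullbackPushforwardAdjunction f).right_adjoint_additive
  have hadd3 : (Scheme.Modules.pushforward (U.ι ≫ f)).Additive :=
    (Scheme.Modules.pullbackPushforwardAdjunction (U.ι ≫ f)).right_adjoint_additive
  have hlim0 : Limits.PreservesLimitsOfSize.{0, 0} (Scheme.Modules.pushforward f) :=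
    (Scheme.Modules.pullbackPushforwardAdjunction f).rightAdjoint_preservesLimits
  have hlim : Limits.PreservesFiniteLimits (Scheme.Modules.pushforward f) :=
    Limits.PreservesLimitsOfSize.preservesFiniteLimits _
  have hT : ∀ Q : (U : Scheme.{u}).Modules, Injective Q → ∀ q : ℕ, 0 < q →
      Limits.IsZero (((Scheme.Modules.pushforward f).rightDerived q).obj
        ((Scheme.Modules.pushforward U.ι).obj Q)) := by
    intro Q hQ q hq
    obtain ⟨q, rfl⟩ : ∃ k, q = k + 1 := ⟨q - 1, by omega⟩
    exact @Groth.Agent.Lib.T2H5.RpushClosed.isZero_Rpush_pushforward_injective _ _ _ U.ι f _ Q hQ q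
  -- the abutment and the `E₂`-terms
  let Z0 : S.Modules := Limits.kernel (𝟙 (Coh.structureModule S))
  have hZ0 : Limits.IsZero Z0 := Limits.isZero_kernel_of_mono _
  let H : ℤ → S.Modules := fun m =>
    match m with
    | Int.ofNat k => (Coh.Rpush (U.ι ≫ f) k).obj F
    | Int.negSucc _ => Z0
  let E2 : ℤ → ℤ → S.Modules := fun p q =>
    match p, q with
    | Int.ofNat a, Int.ofNat b => (Coh.Rpush f a).obj ((Coh.Rpush U.ι b).obj F)
    | Int.ofNat _, Int.negSucc _ => Z0
    | Int.negSucc _, _ => Z0
  have hH : ∀ m : ℕ, Nonempty (((Scheme.Modules.pushforward U.ι ⋙ Scheme.Modules.pushforward f).rightDerived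
      m).obj F ≅ H m) := by
    intro m
    exact ⟨(Groth.Agent.Lib.Helper21.DerPost.natIsoRightDerived
      (Scheme.Modules.pushforwardComp U.ι f) m).app F⟩
  have hH' : ∀ m : ℤ, m < 0 → Limits.IsZero (H m) := by
    intro m hm
    cases m with
    | ofNat k => exact absurd hm (by simp)
    | negSucc k => exact hZ0
  have hE2 : ∀ p q : ℕ, Nonempty (((Scheme.Modules.pushforward f).rightDerived p).obj
      (((Scheme.Modules.pushforward U.ι).rightDerived q).obj F) ≅ E2 p q) := by
    intro p q
    exact ⟨Iso.refl _⟩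
  have hE2' : ∀ p q : ℤ, ¬ (0 ≤ p ∧ 0 ≤ q) → Limits.IsZero (E2 p q) := by
    intro p q hpq
    cases p with
    | ofNat a =>
      cases q with
      | ofNat b => exact absurd ⟨by simp, by simp⟩ hpq
      | negSucc b => exact hZ0
    | negSucc a => exact hZ0
  obtain ⟨E, a, hfin, -, hpq⟩ := Groth.Agent.Lib.Helper21.GSS.gss_general
    (Scheme.Modules.pushforward U.ι) (Scheme.Modules.pushforward f) hT F H hH hH' E2 hE2 hE2'
  -- coherent modules form a weak Serre class
  have hSerre : Groth.Agent.Lib.T2H5.SSSerre.IsWeakSerreClass (C := S.Modules) Coh.IsCoh :=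
    { iso := fun e h => Groth.Agent.Lib.T2H5.Devissage.isCoh_of_iso e h
      kernel := fun φ h1 h2 => Groth.Agent.Lib.T2H5.GenIsoB.isCoh_kernel φ h1 h2
      cokernel := fun φ h1 h2 => Groth.Agent.Lib.T2H5.GenIsoB.isCoh_cokernel φ h1 h2
      ext := fun T hT h1 h3 => Groth.Agent.Lib.T2H5.GenIsoA.isCoh_of_shortExact T hT h1 h3
      zero := fun M hM => Groth.Agent.Lib.T2H5.FiltCat.isCoh_of_isZero hM }
  have hres : Coh.IsCoh (H (i : ℤ)) := by
    refine Groth.Agent.Lib.T2H5.SSSerre.abutment_le hSerre E H a (n : ℤ) ?_ ?_ (i : ℤ)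
      (by exact_mod_cast hi) (hfin _)
    · rintro ⟨p, q⟩ hq
      obtain ⟨e⟩ := hpq p q
      refine Limits.IsZero.of_iso (hE2' p q ?_) e
      simp only at hq
      omega
    · rintro ⟨p, q⟩ hp hq hqn
      obtain ⟨e⟩ := hpq p q
      refine Groth.Agent.Lib.T2H5.Devissage.isCoh_of_iso e.symm ?_
      simp only at hp hq hqn
      cases p with
      | negSucc a => exact absurd hp (by simp)
      | ofNat a =>
        cases q with
        | negSucc b => exact absurd hq (by simp)
        | ofNat b =>
          have hb : b ≤ n := by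
            have : ((b : ℕ) : ℤ) ≤ n := hqn
            exact_mod_cast this
          exact Groth.Agent.Lib.T2H5.RpushCoh.isCoh_Rpush f _ (hg b hb) a
  exact hres

end Groth.Agent.S5186
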