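import Groth.Statements.S5232
import Groth.Agent.Lib.T2H7LocRep
import Groth.Agent.Lib.T2H7DescAffFppf
import Groth.Agent.Lib.T2H1RepIso
import Groth.Agent.Lib.Helper12AffineDescent

set_option autoImplicit false
open CategoryTheory CategoryTheory.Limits AlgebraicGeometry
universe u
open GrpQ

namespace Groth.Agent.S5232

/-- On the big fppf site of a scheme `S`, in the case where the local representing objects are affine
over the cover (so that the canonical descent datum is effective): if `Z` is an fppf sheaf over `S`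
and, for an fppf cover `S' ⟶ S`, the sheaf `Z ×_S S'` is represented over `S'` by a scheme affine
over `S'`, then `Z` is represented by a scheme affine over `S`. -/
theorem result {S S' : Scheme.{u}} (f : S' ⟶ S)
    [Flat f] [Surjective f] [LocallyOfFinitePresentation f]
    (Z : QuotSh.Sh Scheme.fppfPrecoverage S)
    (T' : Over S) (a : T' ⟶ Over.mk f) [IsAffineHom a.left]
    (φ : QuotSh.rep Scheme.fppfPrecoverage T' ≅ Z ⨯ QuotSh.rep Scheme.fppfPrecoverage (Over.mk f))
    (hφ : φ.hom ≫ prod.snd = QuotSh.repMap Scheme.fppfPrecoverage a) :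
    ∃ T : Over S, IsAffineHom T.hom ∧ Nonempty (QuotSh.rep Scheme.fppfPrecoverage T ≅ Z) := by
  -- the terminal object
  let T₀ : Over S := Over.mk (𝟙 S)
  have t : IsTerminal ((AlgSp.yon S).obj T₀) :=
    IsTerminal.isTerminalObj (AlgSp.yon S) _ Over.mkIdTerminal
  let w : Over.mk f ⟶ T₀ := Over.homMk f (Category.comp_id f)
  haveI : Flat w.left := inferInstanceAs (Flat f)
  haveI : Surjective w.left := inferInstanceAs (Surjective f)
  haveI : LocallyOfFinitePresentation w.left := inferInstanceAs (LocallyOfFinitePresentation f)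
  let eT' := QuotSh.repIsoUliftYoneda Scheme.fppfPrecoverage T'
  let eS' := QuotSh.repIsoUliftYoneda Scheme.fppfPrecoverage (Over.mk f)
  let Z' : AlgSp.Sp S := Z
  let π : Z' ⟶ (AlgSp.yon S).obj T₀ := t.from Z'
  let a0 : (AlgSp.yon S).obj T' ⟶ Z' := eT'.inv ≫ φ.hom ≫ prod.fst
  have sqH : IsPullback a0 ((AlgSp.yon S).map a) π ((AlgSp.yon S).map w) := by
    refine IsPullback.of_iso (IsPullback.of_hasBinaryProduct' Z'
      (QuotSh.rep Scheme.fppfPrecoverage (Over.mk f))) (φ.symm ≪≫ eT') (Iso.refl _) eS'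
      (terminalIsTerminal.uniqueUpToIso t) ?_ ?_ (t.hom_ext _ _) (t.hom_ext _ _)
    · simp only [Iso.refl_hom, Category.comp_id, Iso.trans_hom, Iso.symm_hom, a0, Category.assoc,
        Iso.hom_inv_id_assoc, Iso.inv_hom_id_assoc]
      rfl
    · have h1 : (prod.snd : Z' ⨯ QuotSh.rep Scheme.fppfPrecoverage (Over.mk f) ⟶ _) =
          φ.inv ≫ QuotSh.repMap Scheme.fppfPrecoverage a := by
        rw [← hφ, Iso.inv_hom_id_assoc]
      rw [h1, Category.assoc, Groth.Agent.Lib.T2H1.RepIso.repIso_hom_naturality]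
      simp only [Iso.trans_hom, Iso.symm_hom, Category.assoc]
      rfl
  haveI : IsAffineHom (Groth.Agent.Lib.T2H7.LocRep.dd Z' π w a0 a sqH).obj.hom :=
    inferInstanceAs (IsAffineHom a.left)
  have heff : (Desc.toDD w.left).essImage (Groth.Agent.Lib.T2H7.LocRep.dd Z' π w a0 a sqH) :=
    Groth.Agent.Lib.T2H7.DescAffFppf.affine_fppf_effective w.left _
  obtain ⟨Z₁, z, Φ, sqZ, e, he⟩ :=
    Groth.Agent.Lib.T2H7.LocRep.exists_isPullback' Z' π w a0 a sqH heff
  haveI : IsIso Φ := sqZ.isIso_fst_of_isIso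
  refine ⟨Z₁, ?_, ⟨QuotSh.repIsoUliftYoneda Scheme.fppfPrecoverage Z₁ ≪≫ asIso Φ⟩⟩
  -- affineness descends
  have hz : z.left = Z₁.hom := by
    have := Over.w z
    simpa [T₀] using this
  rw [← hz]
  haveI : MorphismProperty.IsLocalAtTarget (@IsAffineHom : MorphismProperty Scheme.{u})
      Scheme.fppfPrecoverage :=
    Groth.Agent.Lib.T2H1.RepIso.isLocalAtTarget_fppf _
      Groth.Agent.Lib.Helper12.descendsAlong_isAffineHom
  refine MorphismProperty.IsLocalAtTarget.of_forall_pullbackSnd (K := Scheme.fppfPrecoverage)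
    (f.singleton_mem_fppfPrecoverage) ?_
  rintro U g _ ⟨⟩
  have h1 : IsAffineHom (pullback.fst w.left z.left) := by
    rw [← he]
    infer_instance
  have h2 : pullback.snd z.left f = (pullbackSymmetry z.left f).hom ≫ pullback.fst f z.left :=
    (pullbackSymmetry_hom_comp_fst _ _).symm
  rw [h2]
  haveI : IsAffineHom (pullback.fst f z.left) := h1
  infer_instance

end Groth.Agent.S5232
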