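import Groth.Statements.S5255
import Groth.Agent.Lib.T2H7RigidG

set_option autoImplicit false
open CategoryTheory MonoidalCategory CartesianMonoidalCategory MonObj GrpObj AlgebraicGeometry
universe u
open SGA3x

namespace Groth.Agent.S5255

/-- Let K be an S-group locally of finite type over S whose fibres are connected, and i : H ⟶ K a
subgroup scheme of multiplicative type and of finite type which is normal in K. Then H is central in
K: for every S-scheme X, every X-point of K commutes with (the image of) every X-point of H. -/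
theorem result {S : Scheme.{u}} (K H : Over S) [GrpObj K] [GrpObj H]
    [LocallyOfFiniteType K.hom] (hconn : ∀ s : S, ConnectedSpace ↥(Limits.pullback K.hom (S.fromSpecResidueField s)))
    (i : H ⟶ K) [IsMonHom i] [Mono i] (hH : SGA3x.IsMultTypeFT H) (hn : AlgGrp.IsNormalHom i) :
    ∀ (X : Over S) (k : X ⟶ K) (h : X ⟶ H), k * (h ≫ i) = (h ≫ i) * k := by
  haveI : GeometricallyConnected K.hom :=
    Groth.Agent.Lib.T2H7.Rigid.geomConn_of_section η[K] hconn
  obtain ⟨Φ, hΦ⟩ := hn (K ⊗ H) (fst K H) (snd K H)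
  have hpt : ∀ (X : Over S) (k : X ⟶ K) (h : X ⟶ H),
      (lift k h ≫ Φ) ≫ i = k * (h ≫ i) * k⁻¹ := by
    intro X k h
    rw [Category.assoc, ← hΦ, MonObj.comp_mul, MonObj.comp_mul, GrpObj.comp_inv, lift_fst,
      ← Category.assoc, lift_snd]
  have hmul : ∀ (X : Over S) (g : X ⟶ K) (h h' : X ⟶ H),
      lift g (h * h') ≫ Φ = (lift g h ≫ Φ) * (lift g h' ≫ Φ) := by
    intro X g h h'
    rw [← cancel_mono i, hpt, MonObj.mul_comp, MonObj.mul_comp, hpt, hpt]
    group
  have hone : ∀ (X : Over S) (h : X ⟶ H), lift (toUnit X ≫ η[K]) h ≫ Φ = h := by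
    intro X h
    rw [← cancel_mono i, hpt]
    have : toUnit X ≫ η[K] = (1 : X ⟶ K) := rfl
    rw [this]
    group
  have h1 := Groth.Agent.Lib.T2H7.Rigid.eq_snd_of_multType Φ hH hmul η[K] hone
  intro X k h
  have h2 := hpt X k h
  rw [h1, lift_snd] at h2
  calc k * (h ≫ i) = (k * (h ≫ i) * k⁻¹) * k := by group
    _ = (h ≫ i) * k := by rw [← h2]

end Groth.Agent.S5255
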