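import Groth.Statements.S5280
import Groth.Agent.Lib.T2H7MultActMain

set_option autoImplicit false
open CategoryTheory MonoidalCategory CartesianMonoidalCategory MonObj GrpObj AlgebraicGeometry
universe u
open SGA3x

namespace Groth.Agent.S5280

/-- Let i₀ : S₀ ⟶ S be a closed immersion whose ideal is locally nilpotent (nilpotent on each member of
an affine open cover of S; in particular S₀ and S have the same underlying space), u : G ⟶ H a
homomorphism of S-groups with G of multiplicative type (fpqc-locally on S isomorphic, as a group, to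
diagonalisable groups D(M), M allowed to vary and taken in Type 0) and H locally of finite
presentation over S. If the restriction u₀ of u to S₀ is central (u(g) commutes with h for all
points g of G and h of H defined over an S₀-scheme), then u is central. -/
theorem result {S S₀ : Scheme.{u}} (i₀ : S₀ ⟶ S) [IsClosedImmersion i₀]
    (hnil : ∀ x : S, ∃ U : S.affineOpens, x ∈ (U : S.Opens) ∧ IsNilpotent (i₀.ker.ideal U))
    (G H : Over S) [GrpObj G] [GrpObj H] (hG : TwC.Locally S TwC.Topology.fpqc (fun S' f => ∃ (M : Type) (_ : AddCommGroup M), Nonempty (Grp.mk (Red.bc f G) ≅ Grp.mk (Red.DS S' M))))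
    [LocallyOfFinitePresentation H.hom] (u : G ⟶ H) [IsMonHom u]
    (h0 : ∀ (Y : Over S) (p : Y ⟶ Over.mk i₀) (g : Y ⟶ G) (h : Y ⟶ H), (g ≫ u) * h = h * (g ≫ u)) :
    ∀ (Y : Over S) (g : Y ⟶ G) (h : Y ⟶ H), (g ≫ u) * h = h * (g ≫ u) := by
  intro Y g h
  have hconj : ∀ {Y : Over S} (c h : Y ⟶ H), c * h * c⁻¹ = h ↔ c * h = h * c := by
    intro Y c h
    constructor
    · intro e
      have e2 := congrArg (fun t => t * c) e
      simpa [_root_.mul_assoc] using e2
    · intro e
      rw [e, _root_.mul_assoc, mul_inv_cancel, _root_.mul_one]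
  have key := Groth.Agent.Lib.T2H7.MultActMain.main i₀ hnil G H
    (fun Y g h => (g ≫ u) * h * (g ≫ u)⁻¹)
    (fun {Y₁ Y₂} t g h => by
      show t ≫ ((g ≫ u) * h * (g ≫ u)⁻¹) = ((t ≫ g) ≫ u) * (t ≫ h) * ((t ≫ g) ≫ u)⁻¹
      rw [MonObj.comp_mul, MonObj.comp_mul, GrpObj.comp_inv, Category.assoc])
    (fun Y h => by
      show ((1 : Y ⟶ G) ≫ u) * h * ((1 : Y ⟶ G) ≫ u)⁻¹ = h
      rw [MonObj.one_comp, _root_.one_mul h, inv_one, _root_.mul_one h])
    (fun Y g₁ g₂ h => by
      show ((g₁ * g₂) ≫ u) * h * ((g₁ * g₂) ≫ u)⁻¹ =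
        (g₁ ≫ u) * ((g₂ ≫ u) * h * (g₂ ≫ u)⁻¹) * (g₁ ≫ u)⁻¹
      rw [MonObj.mul_comp, _root_.mul_inv_rev]
      simp only [_root_.mul_assoc])
    (fun Y p g h => (hconj (g ≫ u) h).2 (h0 Y p g h)) hG Y g h
  exact (hconj (g ≫ u) h).1 key

end Groth.Agent.S5280
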