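import Groth.Statements.S5317
import Groth.Agent.Lib.T2H3GrpHomP
import Groth.Agent.S3694

set_option autoImplicit false
universe u
open CategoryTheory CategoryTheory.Limits MonoidalCategory CartesianMonoidalCategory MonObj GrpObj AlgebraicGeometry
open SGA3

namespace Groth.Agent.S5317

/-- Let u : G → H be a homomorphism of S-group schemes which is universally injective (for instance a
monomorphism), with G flat and locally of finite presentation over S and H locally of finite type
over S. Then the set U of points s of S such that u_s : G_s → H_s is an open immersion is open in S,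
and the restriction of u over every open of S contained in U is an open immersion. -/
theorem result (S : Scheme.{u}) (G H : Over S) [GrpObj G] [GrpObj H]
    (u : G ⟶ H) [IsMonHom u] [UniversallyInjective u.left]
    [Flat G.hom] [LocallyOfFinitePresentation G.hom] [LocallyOfFiniteType H.hom] :
    IsOpen {s : S | IsOpenImmersion ((Over.pullback (S.fromSpecResidueField s)).map u).left} ∧
    ∀ W : S.Opens, (W : Set S) ⊆ {s : S | IsOpenImmersion ((Over.pullback (S.fromSpecResidueField s)).map u).left} → IsOpenImmersion ((G.hom ⁻¹ᵁ W).ι ≫ u.left) := by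
  have key : ∀ s : S, IsOpenImmersion ((Over.pullback (S.fromSpecResidueField s)).map u).left ↔
      Etale ((Over.pullback (S.fromSpecResidueField s)).map u).left := by
    intro s
    have hpb := Groth.Agent.Lib.Helper3.GrpHomQF.isPullback_overPullback_map G H u
      (S.fromSpecResidueField s)
    haveI : UniversallyInjective ((Over.pullback (S.fromSpecResidueField s)).map u).left :=
      MorphismProperty.of_isPullback (P := @UniversallyInjective) hpb inferInstance
    exact ⟨fun h => inferInstance, fun h => Groth.Agent.S3694.result _⟩
  have hset : {s : S | IsOpenImmersion ((Over.pullback (S.fromSpecResidueField s)).map u).left} =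
      {s : S | Etale ((Over.pullback (S.fromSpecResidueField s)).map u).left} := by
    ext s
    exact key s
  rw [hset]
  refine ⟨(Groth.Agent.Lib.T2H3.GrpHomP.assemble G H u @Etale
    (fun x => Groth.Agent.Lib.T2H3.GrpHomP.etale_iff G H u x)).1, ?_⟩
  intro W hW
  haveI : Etale ((G.hom ⁻¹ᵁ W).ι ≫ u.left) := by
    apply Groth.Agent.Lib.Helper20.FlatDesc.of_forall_exists_nbhd
    intro z
    have hz : G.hom z.1 ∈ W := z.2
    obtain ⟨W', hxW', hW'⟩ := (Groth.Agent.Lib.T2H3.GrpHomP.etale_iff G H u z.1).mpr (hW hz)
    refine ⟨(G.hom ⁻¹ᵁ W).ι ⁻¹ᵁ W', hxW', ?_⟩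
    rw [← Category.assoc, ← (isPullback_morphismRestrict (G.hom ⁻¹ᵁ W).ι W').w, Category.assoc]
    haveI := hW'
    infer_instance
  haveI : UniversallyInjective ((G.hom ⁻¹ᵁ W).ι ≫ u.left) :=
    MorphismProperty.comp_mem _ _ _ inferInstance inferInstance
  exact Groth.Agent.S3694.result _

end Groth.Agent.S5317
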