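import Groth.Statements.S5320
import Groth.Agent.Lib.T2H3GrpHomP
import Groth.Agent.S19473

set_option autoImplicit false
universe u
open CategoryTheory CategoryTheory.Limits MonoidalCategory CartesianMonoidalCategory MonObj GrpObj AlgebraicGeometry
open SGA3

namespace Groth.Agent.S5320

/-- Let u : G → H be a homomorphism of S-group schemes which is locally of finite presentation, with
every fibre G_s locally of finite type over κ(s), and let i : K → G be the kernel of u (the square
i, u, unit of H is cartesian, K with the group structure making i a homomorphism). The following are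
equivalent: u is unramified (formally unramified); every fibre u_s : G_s → H_s is unramified; K is
unramified over S; the unit section of K is an open immersion. -/
theorem result (S : Scheme.{u}) (G H : Over S) [GrpObj G] [GrpObj H] (u : G ⟶ H) [IsMonHom u]
    [LocallyOfFinitePresentation u.left] (hG : ∀ s : S, LocallyOfFiniteType (G.hom.fiberToSpecResidueField s)) (K : Over S) [GrpObj K] (i : K ⟶ G) [IsMonHom i] (hK : AlgGrp.IsKernel i u) :
    (FormallyUnramified u.left ↔ ∀ s : S, FormallyUnramified ((Over.pullback (S.fromSpecResidueField s)).map u).left) ∧
    (FormallyUnramified u.left ↔ FormallyUnramified K.hom) ∧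
    (FormallyUnramified u.left ↔ IsOpenImmersion η[K].left) := by
  have hpbs : ∀ s : S, IsPullback (pullback.fst G.hom (S.fromSpecResidueField s))
      ((Over.pullback (S.fromSpecResidueField s)).map u).left u.left
      (pullback.fst H.hom (S.fromSpecResidueField s)) := fun s =>
    Groth.Agent.Lib.Helper3.GrpHomQF.isPullback_overPullback_map G H u (S.fromSpecResidueField s)
  have sq : IsPullback i.left (toUnit K).left u.left η[H].left := hK.map (Over.forget _)
  have hKhom : (toUnit K).left ≫ (𝟙_ (Over S)).hom = K.hom := Over.w (toUnit K)
  have hglob : (∀ x : G.left, (u.left.stalkMap x).hom.FormallyUnramified) →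
      FormallyUnramified u.left := fun h =>
    Groth.Agent.Lib.Helper20.FlatDesc.of_forall_exists_nbhd _ (fun x =>
      Groth.Agent.Lib.T2H3.EtaleAt.exists_open_formallyUnramified_of_stalkMap u.left x (h x))
  have h2 : FormallyUnramified u.left ↔ FormallyUnramified K.hom := by
    constructor
    · intro h
      haveI : FormallyUnramified (toUnit K).left :=
        MorphismProperty.of_isPullback (P := @FormallyUnramified) sq h
      rw [← hKhom]
      haveI : IsIso (𝟙_ (Over S)).hom := inferInstanceAs (IsIso (𝟙 S))
      exact (MorphismProperty.cancel_right_of_respectsIso @FormallyUnramified _ _).mpr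
        ‹FormallyUnramified (toUnit K).left›
    · intro h
      haveI : FormallyUnramified ((toUnit K).left ≫ (𝟙_ (Over S)).hom) := by rw [hKhom]; exact h
      haveI : FormallyUnramified (toUnit K).left :=
        FormallyUnramified.of_comp (toUnit K).left (𝟙_ (Over S)).hom
      apply hglob
      intro x
      rw [Groth.Agent.Lib.T2H3.GrpHomP.hom_iff_unitSec
        Groth.Agent.Lib.T2H3.GrpHomP.ptProp_formallyUnramified G H u trivial x]
      have hone : η[K].left ≫ i.left = η[G].left := by
        rw [← Over.comp_left, IsMonHom.one_hom]
      have hpt : i.left (Groth.Agent.Lib.Helper3.GrpFibDim.unitSec K (G.hom x)) =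
          Groth.Agent.Lib.Helper3.GrpFibDim.unitSec G (G.hom x) := by
        show i.left (η[K].left (G.hom x)) = η[G].left (G.hom x)
        rw [← Scheme.Hom.comp_apply, hone]
      rw [← hpt]
      exact Groth.Agent.Lib.T2H3.GrpHomP.ptProp_formallyUnramified.descent sq trivial _
        (FormallyUnramified.stalkMap (toUnit K).left _)
  refine ⟨?_, h2, ?_⟩
  · constructor
    · intro h s
      exact MorphismProperty.of_isPullback (P := @FormallyUnramified) (hpbs s) h
    · intro h
      exact Groth.Agent.Lib.Helper20.FlatDesc.of_forall_exists_nbhd _ (fun x =>
        (Groth.Agent.Lib.T2H3.GrpHomP.unram_iff G H u x).mpr (h (G.hom x)))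
  · rw [h2]
    haveI : LocallyOfFiniteType K.hom := by
      rw [← hKhom]
      haveI : LocallyOfFinitePresentation (toUnit K).left :=
        MorphismProperty.of_isPullback (P := @LocallyOfFinitePresentation) sq inferInstance
      haveI : IsIso (𝟙_ (Over S)).hom := inferInstanceAs (IsIso (𝟙 S))
      infer_instance
    exact Groth.Agent.S19473.result S K

end Groth.Agent.S5320
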