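import Groth.Statements.S5430
import Groth.Agent.Lib.T2H7RigidI

set_option autoImplicit false
universe u
open CategoryTheory MonoidalCategory CartesianMonoidalCategory MonObj GrpObj AlgebraicGeometry CategoryTheory.Limits
open SGA3x

namespace Groth.Agent.S5430

/-- Let S be a scheme and E an S-group scheme which is an extension of an S-group scheme U with
connected fibres by an S-group H of multiplicative type and of finite type: p : E → U is a
homomorphism which is surjective, flat and quasi-compact (U is the fpqc quotient E/H) and i : H → E
is its kernel. Then the extension is central: every point of H commutes with every point of E. -/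
theorem result (S : Scheme.{u}) (E H U : Over S) [GrpObj E] [GrpObj H] [GrpObj U]
    (p : E ⟶ U) [IsMonHom p] [Surjective p.left] [Flat p.left] [QuasiCompact p.left]
    (i : H ⟶ E) [IsMonHom i] (hker : AlgGrp.IsKernel i p) (hH : SGA3x.IsMultTypeFT H)
    (hU : ∀ s : S, _root_.IsConnected (U.hom.base ⁻¹' {s})) :
    ∀ (X : Over S) (h : X ⟶ H) (e : X ⟶ E), (h ≫ i) * e = e * (h ≫ i) := by
  haveI : GeometricallyConnected U.hom := by
    refine Groth.Agent.Lib.T2H7.Rigid.geomConn_of_section η[U] fun s => ?_
    have h1 : ConnectedSpace ↥(U.hom ⁻¹' {s}) := isConnected_iff_connectedSpace.1 (hU s)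
    exact (U.hom.fiberHomeo s).connectedSpace_iff.mpr h1
  exact Groth.Agent.Lib.T2H7.Rigid.central_of_extension p i hker hH

end Groth.Agent.S5430
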