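import Groth.Statements.S5442
import Groth.Agent.Lib.T2H7FixSmG

set_option autoImplicit false
universe u
open CategoryTheory MonoidalCategory CartesianMonoidalCategory MonObj GrpObj AlgebraicGeometry CategoryTheory.Limits
open SGA3x

namespace Groth.Agent.S5442

/-- Let S be a scheme, G an S-group scheme separated and smooth over S, and H an S-group of
multiplicative type and of finite type acting on G by group automorphisms (on points, h · (g g′) =
(h · g)(h · g′)). Then the functor Z = G^H of invariants (points of G fixed by all points of H after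
any base change) is representable by a closed subgroup scheme of G which is smooth over S: there are
an S-group Z and a homomorphism Z → G which is a closed immersion, with Z smooth over S, whose
points are exactly the invariant points. (The published statement allows any S-group of
multiplicative type; this row assumes it moreover of finite type.) -/
theorem result (S : Scheme.{u}) (H G : Over S) [GrpObj H] [GrpObj G] (hH : SGA3x.IsMultTypeFT H)
    [IsSeparated G.hom] [Smooth G.hom] (a : AlgGrp.Action H G)
    (hmul : ∀ (X : Over S) (h : X ⟶ H) (g g' : X ⟶ G),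
      lift h (g * g') ≫ a.act = (lift h g ≫ a.act) * (lift h g' ≫ a.act)) :
    ∃ (Z : Over S) (_ : GrpObj Z) (z : Z ⟶ G) (_ : IsMonHom z), IsClosedImmersion z.left ∧ Smooth Z.hom ∧
      ∀ (X : Over S) (g : X ⟶ G), (∃ x : X ⟶ Z, x ≫ z = g) ↔
        ∀ (X' : Over S) (f : X' ⟶ X) (h : X' ⟶ H), lift h (f ≫ g) ≫ a.act = f ≫ g := by
  have hH' := Groth.Agent.Lib.T2H7.FixSmG.locally_of_isMultTypeFT H hH
  obtain ⟨Z, z, hz, -, hsm, hZ⟩ :=
    Groth.Agent.Lib.T2H7.FixSmG.exists_smooth_closed_fixed H G hH' inferInstance a
  have hZ' : ∀ (X : Over S) (g : X ⟶ G), (∃ x : X ⟶ Z, x ≫ z = g) ↔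
      ∀ (X' : Over S) (f : X' ⟶ X) (h : X' ⟶ H), lift h (f ≫ g) ≫ a.act = f ≫ g := hZ
  have : Mono z := by
    have : Mono ((Over.forget S).map z) := inferInstanceAs (Mono z.left)
    exact (Over.forget S).mono_of_mono_map inferInstance
  -- the action fixes the unit section
  have hone : ∀ (X : Over S) (h : X ⟶ H), lift h (1 : X ⟶ G) ≫ a.act = 1 := by
    intro X h
    have h1 := hmul X h 1 1
    rw [_root_.one_mul] at h1
    exact mul_eq_left.1 h1.symm
  have hinv : ∀ (X : Over S) (h : X ⟶ H) (g : X ⟶ G),
      lift h g⁻¹ ≫ a.act = (lift h g ≫ a.act)⁻¹ := by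
    intro X h g
    have h1 := hmul X h g g⁻¹
    rw [mul_inv_cancel, hone] at h1
    exact (inv_eq_of_mul_eq_one_right h1.symm).symm
  obtain ⟨inst, hmon⟩ := Groth.Agent.Lib.Helper11SubGrp.exists_grpObj_of_pred z
    (fun X g => ∀ (X' : Over S) (f : X' ⟶ X) (h : X' ⟶ H), lift h (f ≫ g) ≫ a.act = f ≫ g) hZ'
    (by
      intro X' f h
      rw [MonObj.comp_one]
      exact hone X' h)
    (by
      intro T g g' hg hg' X' f h
      rw [MonObj.comp_mul, hmul, hg X' f h, hg' X' f h])
    (by
      intro T g hg X' f h
      rw [GrpObj.comp_inv, hinv, hg X' f h])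
  exact ⟨Z, inst, z, hmon, hz, hsm, hZ'⟩

end Groth.Agent.S5442
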