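import Groth.Statements.S5625
import Groth.Agent.Lib.T2H2DQCompA
import Groth.Agent.Lib.Helper20PullbackAff
import Groth.Agent.Lib.Helper23QCohLocal

set_option linter.style.haveILetI false

set_option autoImplicit false
universe u
open CategoryTheory AlgebraicGeometry
open QCohCat

namespace Groth.Agent.S5625

/-- Let f : X ⟶ Y be a morphism of quasi-compact quasi-separated schemes and Q_X, Q_Y coherators (right
adjoints of the inclusions QCoh ⥤ Mod) on X and Y. Then Q_Y ∘ f_* and f_* ∘ Q_X agree: the two
composite functors Mod(O_X) ⥤ Mod(O_Y) are naturally isomorphic (existence of a natural isomorphism;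
the source's isomorphism is the canonical one between two right adjoints of the same functor). -/
theorem result {X Y : Scheme.{u}} [CompactSpace X] [QuasiSeparatedSpace X]
    [CompactSpace Y] [QuasiSeparatedSpace Y] (f : X ⟶ Y)
    (QX : X.Modules ⥤ QCohCat.QCoh X) (adjX : (QCohCat.isQCoh X).ι ⊣ QX)
    (QY : Y.Modules ⥤ QCohCat.QCoh Y) (adjY : (QCohCat.isQCoh Y).ι ⊣ QY) :
    Nonempty ((QX ⋙ (QCohCat.isQCoh X).ι ⋙ Scheme.Modules.pushforward f) ≅
      (Scheme.Modules.pushforward f ⋙ QY ⋙ (QCohCat.isQCoh Y).ι)) := by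
  have hL : ∀ M : Y.Modules, QCohCat.isQCoh Y M →
      QCohCat.isQCoh X ((Scheme.Modules.pullback f).obj M) := by
    intro M hM
    haveI : M.IsQuasicoherent := hM
    exact Groth.Agent.Lib.Helper20.PullbackAff.isQuasicoherent_pullback f M
  have hR : ∀ K : X.Modules, QCohCat.isQCoh X K →
      QCohCat.isQCoh Y ((Scheme.Modules.pushforward f).obj K) := by
    intro K hK
    haveI : K.IsQuasicoherent := hK
    exact Groth.Agent.Lib.Helper23.QCohLocal.isQuasicoherent_pushforward f K
  haveI := Groth.Agent.Lib.T2H2.DQComp.isIso_comparison_natTrans (QCohCat.isQCoh X)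
    (QCohCat.isQCoh Y) (Scheme.Modules.pullbackPushforwardAdjunction f) adjX adjY hL hR
  exact ⟨asIso (Groth.Agent.Lib.T2H2.DQComp.comparison (QCohCat.isQCoh X) (QCohCat.isQCoh Y)
    adjX adjY hR)⟩

end Groth.Agent.S5625
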