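import Groth.Statements.S5630
import Groth.Agent.Lib.T2H1RpushTorAmpE
import Groth.Agent.Lib.Helper1CI7

set_option autoImplicit false
universe u
open CategoryTheory CategoryTheory.Limits AlgebraicGeometry
attribute [local instance] HasDerivedCategory.standard
open KSix

namespace Groth.Agent.S5630

/-- Over the base S = Y and for f flat: let f : X ⟶ Y be flat, quasi-compact and quasi-separated with Y
quasi-compact, and let N be an integer such that R^i f_* F = 0 for all i > N and all quasi-coherent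
O_X-modules F. If E ∈ D^b(O_X) has quasi-coherent cohomology and flat amplitude in [a, b] relative
to Y (represented by a complex of Y-flat modules placed in [a, b]), then Rf_* E has tor amplitude in
[a, b + N] on Y. (The source allows any S-morphism f and tor amplitude relative to S; the relative
notion used here is the flat-representative one, adequate for flat f.) -/
theorem result {X Y : Scheme.{u}} (f : X ⟶ Y) [Flat f] [QuasiCompact f] [QuasiSeparated f]
    [CompactSpace Y] [DCoh.HasRpush f] (N : ℕ)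
    (hN : ∀ (F : X.Modules), QCohCat.isQCoh X F →
      ∀ i : ℤ, (N : ℤ) < i → IsZero (DCoh.HD ((DCoh.Rpush f).obj (DCoh.inD X F)) i))
    (E : DCoh.D X) (hqc : DCoh.IsQCohD E) (c d : ℤ) [E.IsGE c] [E.IsLE d]
    (a b : ℤ) (hE : DCoh.HasRelFlatAmplitudeIn f a b E) :
    DCoh.HasTorAmplitudeIn a (b + N) ((DCoh.Rpush f).obj E) := by
  let F : CochainComplex X.Modules ℤ := (DerivedCategory.Q : _ ⥤ DCoh.D X).objPreimage E
  have eF : DCoh.toD X F ≅ E := (DerivedCategory.Q : _ ⥤ DCoh.D X).objObjPreimageIso E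
  have h1 : DerSch.HasTorAmplitude f a b F :=
    Groth.Agent.Lib.T2H1.RelPerfTilde.hasTorAmplitude_of_hasRelFlatAmplitudeIn (f := f) F a b (by
      obtain ⟨G, hG, hGf, ⟨e⟩⟩ := hE
      exact ⟨G, hG, hGf, ⟨e ≪≫ eF.symm⟩⟩)
  have hTA : ∀ x, Groth.Agent.Lib.T2H1.RelPerfTri.TAat (f ≫ 𝟙 Y) a b E x := fun x =>
    (Groth.Agent.Lib.T2H1.RpushTorAmp.tAat_congr (Category.comp_id f).symm E a b x).1
      (Groth.Agent.Lib.T2H1.RelPerfTri.TAat.of_iso f eF
        ((Groth.Agent.Lib.T2H1.RelPerfTri.tAat_toD_iff f a b F x).2 (h1 x)))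
  have h2 : ∀ y, Groth.Agent.Lib.T2H1.RelPerfTri.TAat (𝟙 Y) a (b + N)
      ((DCoh.Rpush f).obj E) y :=
    Groth.Agent.Lib.T2H1.RpushTorAmp.tAat_Rpush_of_module_bound f (𝟙 Y) N hN E hqc c a b hTA
  let F' : CochainComplex Y.Modules ℤ :=
    (DerivedCategory.Q : _ ⥤ DCoh.D Y).objPreimage ((DCoh.Rpush f).obj E)
  have eF' : DCoh.toD Y F' ≅ (DCoh.Rpush f).obj E :=
    (DerivedCategory.Q : _ ⥤ DCoh.D Y).objObjPreimageIso _
  have h3 : DerSch.HasTorAmplitude (𝟙 Y) a (b + N) F' := fun y =>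
    (Groth.Agent.Lib.T2H1.RelPerfTri.tAat_toD_iff _ a (b + N) F' y).1
      (Groth.Agent.Lib.T2H1.RelPerfTri.TAat.of_iso _ eF'.symm (h2 y))
  have h4 : DCoh.HasFlatAmplitudeIn a (b + N) (DCoh.toD Y F') :=
    (Groth.Agent.Lib.T2H1.StalkTorAmp.hasFlatAmplitudeIn_iff_hasTorAmplitude_id F' a (b + N)).2 h3
  obtain ⟨G, hG, hGf, ⟨e⟩⟩ := h4
  exact Groth.Agent.Lib.Helper1.CI.hasTorAmplitudeIn_of_hasFlatAmplitudeIn a (b + N)
    ⟨G, hG, hGf, ⟨e ≪≫ eF'⟩⟩

end Groth.Agent.S5630
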