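import Groth.Statements.S5631
import Groth.Agent.Lib.T2H1TorAmpBCSch

set_option autoImplicit false
universe u
open CategoryTheory CategoryTheory.Limits AlgebraicGeometry
attribute [local instance] HasDerivedCategory.standard
open KSix

namespace Groth.Agent.S5631

/-- For f flat (so that X and Y' are tor-independent over Y): let f : X ⟶ Y be flat, h : Y' ⟶ Y
arbitrary, X' = X ×_Y Y' with projections g : X' ⟶ X and f' : X' ⟶ Y', and E ∈ D⁻(O_X). If E has
flat amplitude in [a, b] relative to f (represented by a complex of Y-flat modules placed in [a, b])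
then Lg^* E has flat amplitude in [a, b] relative to f'. (The source assumes only tor-independence
of X and Y' over Y; the relative notion used here is the flat-representative one, adequate for flat
f and f'.) -/
theorem result {X Y Y' : Scheme.{u}} (f : X ⟶ Y) [Flat f] (h : Y' ⟶ Y)
    [DCoh.HasLpull (pullback.fst f h)] (E : DCoh.D X) (d : ℤ) [E.IsLE d] (a b : ℤ)
    (hE : DCoh.HasRelFlatAmplitudeIn f a b E) :
    DCoh.HasRelFlatAmplitudeIn (pullback.snd f h) a b ((DCoh.Lpull (pullback.fst f h)).obj E) := by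
  let F₀ : CochainComplex X.Modules ℤ := (DerivedCategory.Q : _ ⥤ DCoh.D X).objPreimage E
  have e₀ : DCoh.toD X F₀ ≅ E := (DerivedCategory.Q : _ ⥤ DCoh.D X).objObjPreimageIso E
  have hE₀ : DCoh.HasRelFlatAmplitudeIn f a b (DCoh.toD X F₀) := by
    obtain ⟨E', h1, h2, ⟨e⟩⟩ := hE
    exact ⟨E', h1, h2, ⟨e ≪≫ e₀.symm⟩⟩
  have h1 : DerSch.HasTorAmplitude f a b F₀ :=
    Groth.Agent.Lib.T2H1.RelPerfTilde.hasTorAmplitude_of_hasRelFlatAmplitudeIn f F₀ a b hE₀
  let G' : CochainComplex (pullback f h).Modules ℤ :=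
    (DerivedCategory.Q : _ ⥤ DCoh.D (pullback f h)).objPreimage
      ((DCoh.Lpull (pullback.fst f h)).obj E)
  have e' : DCoh.toD (pullback f h) G' ≅ (DCoh.Lpull (pullback.fst f h)).obj E :=
    (DerivedCategory.Q : _ ⥤ DCoh.D (pullback f h)).objObjPreimageIso _
  have h2 : DerSch.HasTorAmplitude (pullback.snd f h) a b G' := by
    intro x'
    have h3 : Groth.Agent.Lib.T2H1.RelPerfTri.TAat f a b E ((pullback.fst f h) x') :=
      Groth.Agent.Lib.T2H1.RelPerfTri.TAat.of_iso f e₀
        ((Groth.Agent.Lib.T2H1.RelPerfTri.tAat_toD_iff f a b F₀ _).2 (h1 _))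
    have h4 := Groth.Agent.Lib.T2H1.TorAmpBCSch.tAat_Lpull_baseChange_of_flat_left f h E a b x' h3
    exact (Groth.Agent.Lib.T2H1.RelPerfTri.tAat_toD_iff (pullback.snd f h) a b G' x').1
      (Groth.Agent.Lib.T2H1.RelPerfTri.TAat.of_iso (pullback.snd f h) e'.symm h4)
  obtain ⟨E', h5, h6, ⟨e⟩⟩ :=
    Groth.Agent.Lib.T2H1.RelFlatAmp.hasRelFlatAmplitudeIn_of_hasTorAmplitude (pullback.snd f h)
      G' a b h2
  exact ⟨E', h5, h6, ⟨e ≪≫ e'⟩⟩

end Groth.Agent.S5631
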