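import Groth.Statements.S5632
import Mathlib
import Groth.Agent.Lib.T2H6PosJ
import Groth.Agent.Lib.T2H6FGABridge
import Groth.Agent.Lib.T2H5AmplePn
import Groth.Agent.Lib.Helper23PB
import Groth.Agent.S9705
import Groth.Agent.Lib.T2H5Twist

set_option autoImplicit false
universe u
open CategoryTheory CategoryTheory.Limits AlgebraicGeometry
open Pic13

namespace Groth.Agent.S5632

/-- Let k be an algebraically closed field, X ⊆ P^n_k an integral closed subscheme of dimension r = s +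
1 ≥ 1, with O_X(1) and O_X(-1) the restrictions of O(1) and O(-1). Let L be an invertible O_X-module
with inverse L' (L ⊗ L' ≅ O_X) whose degree (c₁(L)·c₁(O_X(1))^{r-1}) is ≤ 0 and with H^0(X, L) ≠ 0.
Then L ≅ O_X (so that its degree is 0 and h^0(L) = 1). Intersection numbers are those of FGA.intNum,
which takes the inverse modules L', O_X(-1) as arguments. -/
theorem result (k : Type u) [Field k] [IsAlgClosed k] (n : ℕ) (X : Scheme.{u}) [X.Over (Spec (CommRingCat.of k))]
    (i : X ⟶ CohB1.ProjSpace n k) [IsClosedImmersion i] (hi : i ≫ CohB1.ProjSpace.toSpec n k = X ↘ Spec (CommRingCat.of k))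
    [IsIntegral X] (s : ℕ) (hdim : topologicalKrullDim X = (s + 1 : ℕ))
    (L L' : X.Modules) (hL : PicF.IsInvertible L) (hLL' : Nonempty (CohB1.tensorMod L L' ≅ Coh.structureModule X))
    (hdeg : FGA.intNum k X (s + 1)
      (Matrix.vecCons L' (fun _ : Fin s => (Scheme.Modules.pullback i).obj (Twist.twistProjSpace n k (-1))))
      (Coh.structureModule X) ≤ 0)
    (hsec : Nontrivial (Coh.HH X L 0)) :
    Nonempty (L ≅ Coh.structureModule X) := by
  haveI hprop : IsProper (X ↘ Spec (CommRingCat.of k)) := by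
    rw [← hi]
    haveI := Groth.Agent.S9705.isProper_projSpace_toSpec n k
    infer_instance
  have hd : topologicalKrullDim X ≤ ((s + 1 : ℕ) : WithBot ℕ∞) := hdim.le
  obtain ⟨eLL'⟩ := hLL'
  have hO1 := Groth.Agent.Lib.T2H5.Twist.isInvertible_twist n k (1 : ℤ)
  have hOm1 := Groth.Agent.Lib.T2H5.Twist.isInvertible_twist n k (-1 : ℤ)
  have hH1 : CohB1.IsAmple (Twist.twistProjSpace n k ((1 : ℕ) : ℤ)) :=
    Groth.Agent.Lib.T2H5.AmplePn.isAmple_twist_of_pos n k 1 Nat.one_pos
  have hH : CohB1.IsAmple ((Scheme.Modules.pullback i).obj (Twist.twistProjSpace n k 1)) :=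
    Groth.Agent.Lib.Helper23.PB.isAmple_pullback_of_isAffineHom i _ (by exact_mod_cast hH1)
  obtain ⟨eHH'⟩ : Nonempty (CohB1.tensorMod ((Scheme.Modules.pullback i).obj (Twist.twistProjSpace n k 1))
      ((Scheme.Modules.pullback i).obj (Twist.twistProjSpace n k (-1))) ≅ Coh.structureModule X) := by
    obtain ⟨e3⟩ := Groth.Agent.Lib.Helper23.PB.nonempty_pullback_tensorMod_iso i
      (Twist.twistProjSpace n k 1) (Twist.twistProjSpace n k (-1)) hO1 hOm1
    obtain ⟨e4⟩ := Groth.Agent.Lib.T2H5.Twist.nonempty_twist_tensor_iso n k (1 : ℤ) (-1 : ℤ) 0 (by ring)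
    obtain ⟨e5⟩ := Groth.Agent.Lib.T2H5.Twist.nonempty_twist_zero_iso n k
    exact ⟨e3.symm ≪≫ (Scheme.Modules.pullback i).mapIso (e4 ≪≫ e5) ≪≫
      Groth.Agent.Lib.Helper23.PB.pullbackUnitIso i⟩
  obtain ⟨a, ha⟩ := exists_ne (0 : Coh.HH X L 0)
  obtain ⟨σ, hσa⟩ := (Groth.Agent.Lib.T2H6.CurveSerre.bijective_evLin k L).2 a
  have hσ : σ ≠ 0 := by
    rintro rfl
    rw [map_zero] at hσa
    exact ha hσa.symm
  rw [Groth.Agent.Lib.T2H6.FGABridge.intNum_eq k (s + 1) hd] at hdeg
  haveI := Groth.Agent.Lib.T2H6.PosJ.isIso_of_degree_nonpos k s hdim L L' hL eLL' _ _ hH eHH' hdeg σ hσ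
  exact ⟨(asIso σ).symm⟩

end Groth.Agent.S5632
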