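import Groth.Statements.S5644
import Mathlib
import Groth.Agent.Lib.T2H6FGABridge
import Groth.Agent.Lib.T2H6TensorDeg
import Groth.Agent.Lib.T2H6CurveDeg
import Groth.Agent.Lib.Helper2TensorInv
import Groth.Agent.Lib.T2H6HilbCoeff
import Groth.Agent.Lib.T2H5QProjRes
import Groth.Agent.S11753
import Groth.Agent.S9705

set_option autoImplicit false
universe u
open CategoryTheory CategoryTheory.Limits AlgebraicGeometry
open Pic13

namespace Groth.Agent.S5644

/-- Let k be an algebraically closed field, X ⊆ P^n_k an integral closed subscheme of dimension r = s +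
1, O_X(1) and O_X(-1) the restrictions of O(1) and O(-1), and L an invertible O_X-module with
inverse L'. Write the Hilbert polynomials in the binomial basis, χ(L(m)) = Σ_{j ≤ r} a_j C(m+j, j)
and χ(O_X(m)) = Σ_{j ≤ r} e_j C(m+j, j) for m ≥ 0 (Euler characteristics in degrees ≤ r). Then (i)
a_r = e_r = (c₁(O_X(1))^r), the degree of X, and (ii) a_{r-1} - e_{r-1} = (c₁(L)·c₁(O_X(1))^{r-1}),
the degree of L. Intersection numbers are those of FGA.intNum, which takes the inverse modules L',
O_X(-1) as arguments. -/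
theorem result (k : Type u) [Field k] [IsAlgClosed k] (n : ℕ) (X : Scheme.{u}) [X.Over (Spec (CommRingCat.of k))]
    (i : X ⟶ CohB1.ProjSpace n k) [IsClosedImmersion i] (hi : i ≫ CohB1.ProjSpace.toSpec n k = X ↘ Spec (CommRingCat.of k))
    [IsIntegral X] (s : ℕ) (hdim : topologicalKrullDim X = (s + 1 : ℕ))
    (L L' : X.Modules) (hL : PicF.IsInvertible L) (hLL' : Nonempty (CohB1.tensorMod L L' ≅ Coh.structureModule X))
    (a e : Fin (s + 2) → ℤ)
    (ha : ∀ m : ℕ, FGA.eulerCharLE k X (Pic13.twistOn k i L m) (s + 1) = ∑ j : Fin (s + 2), a j * ((m + j).choose j : ℤ))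
    (he : ∀ m : ℕ, FGA.eulerCharLE k X (Pic13.twistOn k i (Coh.structureModule X) m) (s + 1) =
      ∑ j : Fin (s + 2), e j * ((m + j).choose j : ℤ)) :
    a (Fin.last (s + 1)) = e (Fin.last (s + 1)) ∧
      a (Fin.last (s + 1)) = FGA.intNum k X (s + 1)
        (fun _ : Fin (s + 1) => (Scheme.Modules.pullback i).obj (Twist.twistProjSpace n k (-1))) (Coh.structureModule X) ∧
      a (Fin.castSucc (Fin.last s)) - e (Fin.castSucc (Fin.last s)) = FGA.intNum k X (s + 1)
        (Matrix.vecCons L' (fun _ : Fin s => (Scheme.Modules.pullback i).obj (Twist.twistProjSpace n k (-1))))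
        (Coh.structureModule X) := by
  classical
  -- properness
  haveI hprop : IsProper (X ↘ Spec (CommRingCat.of k)) := by
    rw [← hi]
    haveI := Groth.Agent.S9705.isProper_projSpace_toSpec n k
    infer_instance
  have hd : topologicalKrullDim X ≤ ((s + 1 : ℕ) : WithBot ℕ∞) := hdim.le
  have hsuppdim : ∀ G : X.Modules, topologicalKrullDim (CohB1.support G) ≤ ((s + 1 : ℕ) : WithBot ℕ∞) :=
    fun G => (Topology.IsInducing.subtypeVal.topologicalKrullDim_le).trans hd
  obtain ⟨eLL'⟩ := hLL'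
  have hL' : PicF.IsInvertible L' :=
    Groth.Agent.Lib.Helper2.TensorInv.isInvertible_of_tensor_iso L' L
      (Groth.Agent.Lib.T2H6.TensorPows.braidIso L' L ≪≫ eLL')
  -- the hyperplane bundle and its inverse
  have hO1 := Groth.Agent.Lib.T2H5.Twist.isInvertible_twist n k (1 : ℤ)
  have hOm1 := Groth.Agent.Lib.T2H5.Twist.isInvertible_twist n k (-1 : ℤ)
  set H : X.Modules := (Scheme.Modules.pullback i).obj (Twist.twistProjSpace n k 1) with hHdef
  set H' : X.Modules := (Scheme.Modules.pullback i).obj (Twist.twistProjSpace n k (-1)) with hH'def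
  have hH : PicF.IsInvertible H := Groth.Agent.Lib.Helper23.PB.isInvertible_pullback i _ hO1
  have hH' : PicF.IsInvertible H' := Groth.Agent.Lib.Helper23.PB.isInvertible_pullback i _ hOm1
  obtain ⟨eHH'⟩ : Nonempty (CohB1.tensorMod H H' ≅ Coh.structureModule X) := by
    obtain ⟨e3⟩ := Groth.Agent.Lib.Helper23.PB.nonempty_pullback_tensorMod_iso i
      (Twist.twistProjSpace n k 1) (Twist.twistProjSpace n k (-1)) hO1 hOm1
    obtain ⟨e4⟩ := Groth.Agent.Lib.T2H5.Twist.nonempty_twist_tensor_iso n k (1 : ℤ) (-1 : ℤ) 0 (by ring)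
    obtain ⟨e5⟩ := Groth.Agent.Lib.T2H5.Twist.nonempty_twist_zero_iso n k
    exact ⟨e3.symm ≪≫ (Scheme.Modules.pullback i).mapIso (e4 ≪≫ e5) ≪≫
      Groth.Agent.Lib.Helper23.PB.pullbackUnitIso i⟩
  -- twists as tensor powers
  have htw : ∀ (G : X.Modules) (m : ℕ),
      Nonempty (Pic13.twistOn k i G (m : ℤ) ≅ CohB1.tensorMod (CohB1.tensorPow H m) G) := by
    intro G m
    obtain ⟨e1⟩ := Groth.Agent.Lib.Helper23.PB.nonempty_pullback_tensorPow_iso i
      (Twist.twistProjSpace n k 1) hO1 m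
    obtain ⟨e2⟩ := Groth.Agent.Lib.T2H5.AmplePn.nonempty_tensorPow_twist_iso n k 1 m
    rw [mul_one] at e2
    let a : CohB1.tensorPow H m ≅ (Scheme.Modules.pullback i).obj (Twist.twistProjSpace n k (m : ℤ)) :=
      e1.symm ≪≫ (Scheme.Modules.pullback i).mapIso e2
    exact ⟨Groth.Agent.Lib.T2H6.TensorPows.braidIso _ _ ≪≫
      Groth.Agent.Lib.Helper23.AmpleIso.tensorModIso a.symm (Iso.refl G)⟩
  have cL := Groth.Agent.Lib.T2H6.CurveDeg.isCoh_of_isInvertible L hL
  have cL' := Groth.Agent.Lib.T2H6.CurveDeg.isCoh_of_isInvertible L' hL'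
  have cH' := Groth.Agent.Lib.T2H6.CurveDeg.isCoh_of_isInvertible H' hH'
  have cO : Coh.IsCoh (Coh.structureModule X) := Groth.Agent.Lib.T2H5.GenIsoF.isCoh_structureModule
  -- the Hilbert function in the other binomial basis
  have hP : ∀ (G : X.Modules), Coh.IsCoh G → ∀ m : ℕ,
      FGA.eulerCharLE k X (Pic13.twistOn k i G (m : ℤ)) (s + 1) =
        ∑ j ∈ Finset.range (s + 2), ((m + j - 1).choose j : ℤ) *
          FGA.intNum k X (s + 1) (fun _ : Fin j => H') G := by
    intro G hG m
    obtain ⟨e⟩ := htw G m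
    rw [Groth.Agent.Lib.T2H6.FieldBC.eulerCharLE_eq_of_iso k X e (s + 1)]
    exact Groth.Agent.S11753.result k X (s + 1) hd H H' hH ⟨eHH'⟩ G hG (s + 1) (hsuppdim G) m
  have hcL := Groth.Agent.Lib.T2H6.HilbCoeff.top_coeffs s a
    (fun j => FGA.intNum k X (s + 1) (fun _ : Fin j => H') L) (fun m => by rw [← ha m, hP L cL m])
  have hcO := Groth.Agent.Lib.T2H6.HilbCoeff.top_coeffs s e
    (fun j => FGA.intNum k X (s + 1) (fun _ : Fin j => H') (Coh.structureModule X))
    (fun m => by rw [← he m, hP _ cO m])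
  -- general facts on intersection numbers
  have hcons : ∀ (r : ℕ) (C : X.Modules) (M : Fin r → X.Modules), PicF.IsInvertible C →
      (∀ j, PicF.IsInvertible (M j)) → ∀ G : X.Modules, Coh.IsCoh G →
      FGA.intNum k X (s + 1) (Fin.cons C M : Fin (r + 1) → X.Modules) G =
        FGA.intNum k X (s + 1) M G - FGA.intNum k X (s + 1) M (CohB1.tensorMod G C) := by
    intro r C M hC hM G hG
    have hinv : ∀ j, PicF.IsInvertible ((Fin.cons C M : Fin (r + 1) → X.Modules) j) := by
      intro j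
      refine Fin.cases ?_ (fun j' => ?_) j
      · simpa using hC
      · simpa using hM j'
    have h1 := Groth.Agent.Lib.T2H6.EffCartierInt.inum_succ k r (Fin.cons C M) hinv G hG
    have h2 : (fun j : Fin r => (Fin.cons C M : Fin (r + 1) → X.Modules) j.succ) = M :=
      funext fun j => by simp
    have h3 : (Fin.cons C M : Fin (r + 1) → X.Modules) 0 = C := by simp
    rw [h2, h3] at h1
    rw [Groth.Agent.Lib.T2H6.FGABridge.intNum_eq k (s + 1) hd, Groth.Agent.Lib.T2H6.FGABridge.intNum_eq k (s + 1) hd,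
      Groth.Agent.Lib.T2H6.FGABridge.intNum_eq k (s + 1) hd, h1, pow_succ]
    ring
  have hiso : ∀ (r : ℕ) (M : Fin r → X.Modules), (∀ j, PicF.IsInvertible (M j)) →
      ∀ (G G' : X.Modules), (G ≅ G') → Coh.IsCoh G →
      FGA.intNum k X (s + 1) M G = FGA.intNum k X (s + 1) M G' := by
    intro r M hM G G' ε hG
    rw [Groth.Agent.Lib.T2H6.FGABridge.intNum_eq k (s + 1) hd, Groth.Agent.Lib.T2H6.FGABridge.intNum_eq k (s + 1) hd,
      (Groth.Agent.Lib.T2H6.IntNum.isAddFn_inum k r M hM).iso ε hG]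
  have hvan : ∀ (M : Fin (s + 2) → X.Modules), (∀ j, PicF.IsInvertible (M j)) →
      ∀ G : X.Modules, Coh.IsCoh G → FGA.intNum k X (s + 1) M G = 0 := by
    intro M hM G hG
    rw [Groth.Agent.Lib.T2H6.FGABridge.intNum_eq k (s + 1) hd,
      Groth.Agent.Lib.T2H6.IntNum.inum_eq_zero k (s + 2) M hM G hG
        (lt_of_le_of_lt (hsuppdim G) (by exact_mod_cast Nat.lt_succ_self (s + 1))), mul_zero]
  have htwinv : ∀ (M : Fin (s + 1) → X.Modules), (∀ j, PicF.IsInvertible (M j)) →
      ∀ (C : X.Modules), PicF.IsInvertible C → ∀ G : X.Modules, Coh.IsCoh G →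
      FGA.intNum k X (s + 1) M (CohB1.tensorMod G C) = FGA.intNum k X (s + 1) M G := by
    intro M hM C hC G hG
    have h1 := hcons (s + 1) C M hC hM G hG
    have hinv : ∀ j, PicF.IsInvertible ((Fin.cons C M : Fin (s + 1 + 1) → X.Modules) j) := by
      intro j
      refine Fin.cases ?_ (fun j' => ?_) j
      · simpa using hC
      · simpa using hM j'
    rw [hvan (Fin.cons C M) hinv G hG] at h1
    linarith
  have hunit : ∀ (r : ℕ) (M : Fin r → X.Modules), (∀ j, PicF.IsInvertible (M j)) →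
      FGA.intNum k X (s + 1) M (CohB1.tensorMod (Coh.structureModule X) L) = FGA.intNum k X (s + 1) M L :=
    fun r M hM => hiso r M hM _ _ (Groth.Agent.Lib.Helper23.TensorUnit.unitTensorIso L)
      (Groth.Agent.Lib.T2H6.TensorDeg.isCoh_tensor _ _ cO cL)
  -- top coefficients agree
  have hA : FGA.intNum k X (s + 1) (fun _ : Fin (s + 1) => H') L =
      FGA.intNum k X (s + 1) (fun _ : Fin (s + 1) => H') (Coh.structureModule X) := by
    rw [← hunit (s + 1) _ (fun _ => hH')]
    exact htwinv _ (fun _ => hH') L hL _ cO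
  -- the degree
  have hM₀ : ∀ j, PicF.IsInvertible ((Fin.cons L' (fun _ : Fin s => H') : Fin (s + 1) → X.Modules) j) := by
    intro j
    refine Fin.cases ?_ (fun j' => ?_) j
    · simpa using hL'
    · simpa using hH'
  have hB : FGA.intNum k X (s + 1) (Fin.cons L' (fun _ : Fin s => H') : Fin (s + 1) → X.Modules)
      (Coh.structureModule X) =
      FGA.intNum k X (s + 1) (fun _ : Fin s => H') L -
        FGA.intNum k X (s + 1) (fun _ : Fin s => H') (Coh.structureModule X) := by
    rw [← htwinv _ hM₀ L hL _ cO, hunit (s + 1) _ hM₀, hcons s L' _ hL' (fun _ => hH') L cL,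
      hiso s _ (fun _ => hH') _ _ eLL' (Groth.Agent.Lib.T2H6.TensorDeg.isCoh_tensor _ _ cL cL')]
  refine ⟨?_, ?_, ?_⟩
  · rw [← hcL.1, ← hcO.1]
    exact hA
  · rw [← hcL.1]
    exact hA
  · change _ = FGA.intNum k X (s + 1) (Fin.cons L' (fun _ : Fin s => H') : Fin (s + 1) → X.Modules)
      (Coh.structureModule X)
    rw [hB]
    have h1 := hcL.2
    have h2 := hcO.2
    have h3 := hcL.1
    have h4 := hcO.1
    rw [hA] at h3
    linarith

end Groth.Agent.S5644
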