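import Groth.Statements.S5674
import Mathlib
import Groth.Agent.Lib.T2H6ExtCodimD
import Groth.Agent.Lib.LeadNonsing
import Groth.Agent.Lib.Helper6SmRegSch
import Groth.Agent.Lib.Helper3SmDim

set_option autoImplicit false
universe u
open CategoryTheory CategoryTheory.Limits AlgebraicGeometry
open ProjDual

attribute [local instance] Groth.Agent.Lib.Helper21.ExtShDelta.hasSheafHom

namespace Groth.Agent.S5674

/-- Let `k` be an algebraically closed field, `X` a nonsingular algebraic set of dimension `n` over `k`
— here: a quasi-compact `k`-scheme smooth of relative dimension `n` over `k` — `F` a coherent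
`O_X`-module whose support has dimension at most `n - p`, and `L` a finite locally free
`O_X`-module. Then the (global) groups `Ext^i_{O_X}(F, L)` vanish for `i < p`. (All components of
`X` have dimension `n`; for a nonsingular algebraic set with a component of smaller dimension the
conclusion fails. The Ext instance on the category of `O_X`-modules is taken as a hypothesis; it
holds since that category is Grothendieck abelian.) -/
theorem result (k : Type u) [Field k] [IsAlgClosed k] (n : ℕ) (X : Scheme.{u}) [X.Over (Spec (CommRingCat.of k))] [SmoothOfRelativeDimension n (X ↘ Spec (CommRingCat.of k))] [CompactSpace X] [HasExt.{u} X.Modules] (F : X.Modules) (hF : Coh.IsCoh F) (L : X.Modules) (hL : FlatMod.IsFinLocFree L) (p : ℕ) (hsupp : topologicalKrullDim ↥(CohB1.support F) + p ≤ n) (i : ℕ) (hi : i < p) : Subsingleton (Abelian.Ext F L i) := by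
  haveI := Groth.Agent.Lib.Helper21.ModTensor3.isGrothendieckAbelian X.sheaf
  haveI : HasInjectiveResolutions (ModSite.Mod X.sheaf) := inferInstance
  haveI : Smooth (X ↘ Spec (CommRingCat.of k)) := SmoothOfRelativeDimension.smooth n _
  haveI : LocallyOfFiniteType (X ↘ Spec (CommRingCat.of k)) := inferInstance
  haveI : IsLocallyNoetherian X :=
    LocallyOfFiniteType.isLocallyNoetherian (X ↘ Spec (CommRingCat.of k))
  haveI : Subsingleton ↥(Spec (CommRingCat.of k)) :=
    (inferInstance : Subsingleton (PrimeSpectrum k))
  refine Groth.Agent.Lib.T2H6.ExtCodim.subsingleton_ext_of_isZero_extSh F L p ?_ i hi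
  intro b hb
  refine Groth.Agent.Lib.T2H6.ExtCodim.isZero_extSh_locFree_of_pointwise F L hF hL b ?_
  intro x
  by_cases hx : Subsingleton (F.presheaf.stalk x)
  · exact Groth.Agent.Lib.T2H6.ExtCodim.subsingleton_ext_of_isZero_left
      (ModuleCat.isZero_of_subsingleton _) _ b
  · haveI : Nonempty ↥(CohB1.support F) := ⟨⟨x, hx⟩⟩
    obtain ⟨hpn, hd⟩ := Groth.Agent.Lib.T2H6.ExtCodim.le_sub_of_add_le _
      (Groth.Agent.Lib.T2H6.LocGlob.zero_le_topologicalKrullDim ↥(CohB1.support F)) p n hsupp
    haveI := Groth.Agent.Lib.Helper6.SmRegSch.isRegularLocalRing_stalk_of_smooth_over_field k X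
      (X ↘ Spec (CommRingCat.of k)) x
    have hloc : FlatMor.localDim X x = (n : WithBot ℕ∞) := by
      rw [← Groth.Agent.Lib.LeadNonsing.fibreDimAt_eq_localDim_of_subsingleton
        (X ↘ Spec (CommRingCat.of k)) x]
      exact Groth.Agent.Lib.Helper3.SmDim.fibreDimAt_eq_of_smoothOfRelativeDimension n _ x
    exact Groth.Agent.Lib.T2H6.ExtCodim.subsingleton_ext_stalk_of_dim_support k X F hF x n (n - p)
      hloc hd b (by omega)

end Groth.Agent.S5674
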