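import Groth.Statements.S5692
import Mathlib
import Groth.Agent.Lib.T2H6FittStratum

set_option autoImplicit false
universe u
open CategoryTheory CategoryTheory.Limits AlgebraicGeometry
open FGA

namespace Groth.Agent.S5692

/-- Let S be a locally Noetherian scheme, M a coherent module on S and r a natural number. Then there is
an immersion e : Z ⟶ S with the following universal property: for every scheme T and every morphism
g : T ⟶ S, the pullback of M along g is locally free of rank r if and only if g factors through e.
If moreover M is generated by r sections on a neighbourhood of every point of S (equivalently all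
fibres of M have rank at most r), then e is a closed immersion. -/
theorem result (S : Scheme.{u}) [IsLocallyNoetherian S]
    (M : S.Modules) (hM : Coh.IsCoh M) (r : ℕ) :
    ∃ (Z : Scheme.{u}) (e : Z ⟶ S), IsImmersion e ∧
      (∀ (T : Scheme.{u}) (g : T ⟶ S),
        FlatMod.IsFinLocFreeOfRank r ((Scheme.Modules.pullback g).obj M) ↔ ∃ g' : T ⟶ Z, g' ≫ e = g) ∧
      ((∀ s : ↥S, ∃ U : S.Opens, s ∈ U ∧ ∃ p : FlatMod.freeMod (↑U) r ⟶ M.restrict U.ι, Epi p) →
        IsClosedImmersion e) := by
  haveI : M.IsQuasicoherent := hM.1
  have hft : CohB1.IsFT M := hM.2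
  refine ⟨Groth.Agent.Lib.T2H6.FittStratum.Z M r, Groth.Agent.Lib.T2H6.FittStratum.i M r,
    inferInstance, fun T g => ?_, fun h => ?_⟩
  · exact (Groth.Agent.Lib.T2H6.FittStratum.factors_iff_isFinLocFreeOfRank M hft r g).symm
  · exact Groth.Agent.Lib.T2H6.FittStratum.isClosedImmersion_i M hft r h

end Groth.Agent.S5692
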