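import Groth.Statements.S5739
import Mathlib
import Groth.Agent.Lib.T2H5ComplNearB
-- import your own Groth.Agent.* helpers here

set_option autoImplicit false
universe u
open FCompl

namespace Groth.Agent.S5739

open AlgebraicGeometry CategoryTheory in
/-- Isomorphism case (completions presented by the closed subschemes of the powers of an ideal sheaf on
the base and of its inverse image ideals; the compatibility hypothesis hc always holds and is
carried as data for the completed morphism). Let Z be a locally Noetherian scheme, g : X → Z and h :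
Y → Z proper morphisms, f : X → Y a morphism with f ≫ h = g, and 𝓙 an ideal sheaf on Z. Then every
level of the completed morphism X̂ → Ŷ between the completions along the inverse image ideals of 𝓙
is an isomorphism if and only if there is an open subset U of Z containing the support of 𝓙 such
that the restriction g⁻¹(U) → h⁻¹(U) of f is an isomorphism. -/
theorem result {X Y Z : Scheme.{u}} [IsLocallyNoetherian Z]
    (g : X ⟶ Z) (h : Y ⟶ Z) [IsProper g] [IsProper h] (f : X ⟶ Y) (w : f ≫ h = g)
    (𝓙 : Z.IdealSheafData) (hc : FSch.PowCompat f (𝓙.comap g) (𝓙.comap h)) :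
    (∀ n : ℕ, IsIso ((FSch.completionMap f (𝓙.comap g) (𝓙.comap h) hc : FSch.Hom _ _).app n)) ↔
      ∃ U : Z.Opens, (𝓙.support : Set Z) ⊆ U ∧ IsIso (f ∣_ h ⁻¹ᵁ U) := by
  subst w
  have e : 𝓙.comap (f ≫ h) = (𝓙.comap h).comap f :=
    AlgebraicGeometry.Scheme.IdealSheafData.comap_comp 𝓙 f h
  have key : ∀ (𝓘 : X.IdealSheafData) (_ : 𝓘 = (𝓙.comap h).comap f)
      (hc : FSch.PowCompat f 𝓘 (𝓙.comap h)),
      (∀ n : ℕ, IsIso ((FSch.completionMap f 𝓘 (𝓙.comap h) hc : FSch.Hom _ _).app n)) ↔
        ∃ U : Z.Opens, (𝓙.support : Set Z) ⊆ U ∧ IsIso (f ∣_ h ⁻¹ᵁ U) := by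
    intro 𝓘 e hc
    subst e
    exact Groth.Agent.Lib.T2H5.ComplNear.main_isIso h f 𝓙 hc
  exact key _ e hc

end Groth.Agent.S5739
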