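import Groth.Statements.S5744
import Mathlib
import Groth.Agent.Lib.Helper23QCohSum
import Groth.Agent.Lib.Helper23TensorQCoh

set_option autoImplicit false
universe u
open Coherent

namespace Groth.Agent.S5744

open AlgebraicGeometry CategoryTheory CategoryTheory.Limits
open Groth.Agent.Lib.Helper23.QCohLocal Groth.Agent.Lib.Helper23.TensorQCoh

attribute [local instance] Abelian.hasFiniteBiproducts

/-- finite products of quasi-coherent modules are quasi-coherent -/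
theorem isQuasicoherent_piObj {X : Scheme.{u}} {J : Type u} [Finite J] (A : J → X.Modules)
    (hA : ∀ j, (A j).IsQuasicoherent) : (∏ᶜ A).IsQuasicoherent := by
  obtain ⟨n, ⟨e⟩⟩ := Finite.exists_equiv_fin J
  have h1 : (⨁ (A ∘ e.symm)).IsQuasicoherent :=
    isQuasicoherent_biproduct (A ∘ e.symm) (fun k => hA _)
  have e1 : (⨁ (A ∘ e.symm)) ≅ ∏ᶜ (A ∘ e.symm) := biproduct.isoProduct _
  have e2 : ∏ᶜ (A ∘ e.symm) ≅ ∏ᶜ A := Pi.reindex e.symm A
  exact isQuasicoherent_of_iso (e1 ≪≫ e2)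

open AlgebraicGeometry CategoryTheory in
theorem result {X : Scheme.{u}} [X.IsSeparated] {ι : Type u}
    [Finite ι] (𝒰 : ι → X.Opens) (h𝒰 : ∀ i, IsAffineOpen (𝒰 i)) (hcov : ⨆ i, 𝒰 i = ⊤)
    (F : X.Modules) [Coh.IsQCoh F] (p : ℕ) :
    Coh.IsQCoh (((CechOX.cechSh 𝒰).obj F).X p) := by
  change SheafOfModules.IsQuasicoherent
    (∏ᶜ fun i : (Fin (p + 1) → ι) => (CechOX.pushRestr (∏ᶜ (𝒰 ∘ i))).obj F)
  apply isQuasicoherent_piObj
  intro i
  have hsep : IsAffineHom (Limits.pullback.diagonal (Limits.terminal.from X)) := inferInstance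
  have hW : IsAffineOpen (∏ᶜ (𝒰 ∘ i)) := by
    have e : (∏ᶜ (𝒰 ∘ i)) = Finset.univ.inf' Finset.univ_nonempty (𝒰 ∘ i) := by
      change limit (Discrete.functor (𝒰 ∘ i)) = _
      rw [CompleteLattice.limit_eq_iInf, Finset.inf'_eq_inf, Finset.inf_univ_eq_iInf]
      apply le_antisymm
      · exact le_iInf fun j => iInf_le (fun j : Discrete (Fin (p + 1)) =>
          (Discrete.functor (𝒰 ∘ i)).obj j) ⟨j⟩
      · exact le_iInf fun j => iInf_le (𝒰 ∘ i) j.as
    rw [e]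
    exact Finset.inf'_induction (p := fun U : X.Opens => IsAffineOpen U) _ _
      (fun U hU V hV => @IsAffineOpen.inf X hsep U V hU hV) (fun j _ => h𝒰 (i j))
  have : IsAffine (∏ᶜ (𝒰 ∘ i) : X.Opens).toScheme := hW
  have haff : IsAffineHom (∏ᶜ (𝒰 ∘ i) : X.Opens).ι := by
    have : IsAffineHom ((∏ᶜ (𝒰 ∘ i) : X.Opens).ι ≫ Limits.terminal.from X) := inferInstance
    exact IsAffineHom.of_comp (∏ᶜ (𝒰 ∘ i) : X.Opens).ι (Limits.terminal.from X)
  exact isQuasicoherent_pushforward (∏ᶜ (𝒰 ∘ i) : X.Opens).ι _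

end Groth.Agent.S5744
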