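import Groth.Statements.S5750
import Mathlib
import Groth.Agent.Lib.T2H5ClosedTransfer
-- import your own Groth.Agent.* helpers here

set_option autoImplicit false
universe u
open Coherent

namespace Groth.Agent.S5750

open AlgebraicGeometry CategoryTheory in
/-- Let A be an Artinian local ring, i : X → P^r_A a closed immersion compatible with the structure
morphisms to Spec A, F a coherent O_X-module and F(n) = F ⊗ i^* O(n). If a polynomial P over ℚ
satisfies P(n) = χ_A(F(n)) = Σ_{j ≤ r} (-1)^j length_A H^j(X, F(n)) for every integer n (the Hilbert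
polynomial of F), then the leading coefficient of P is non-negative. -/
theorem result (A : Type u) [CommRing A]
    [IsArtinianRing A] [IsLocalRing A] (r : ℕ) (X : Scheme.{u}) [X.Over (Spec (CommRingCat.of A))]
    (i : X ⟶ CohB1.ProjSpace r A) [IsClosedImmersion i]
    (hi : i ≫ CohB1.ProjSpace.toSpec r A = X ↘ Spec (CommRingCat.of A)) (F : X.Modules) (hF : Coh.IsCoh F)
    (P : Polynomial ℚ)
    (hP : ∀ n : ℤ, ((Finset.range (r + 1)).sum fun j => (-1 : ℚ) ^ j *
        ((Module.length A (Coh.HH X (CohB1.tensorMod F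
          ((Scheme.Modules.pullback i).obj (Twist.twistProjSpace r A n))) j)).toNat : ℚ)) = P.eval (n : ℚ)) :
    0 ≤ P.leadingCoeff := by

  obtain ⟨d₀, h⟩ := Groth.Agent.Lib.T2H5.ClosedTransfer.serre_vanishing_closed r A i F hF
  have hnn : ∀ n : ℤ, d₀ ≤ n → 0 ≤ P.eval (n : ℚ) := by
    intro n hn
    rw [← hP n, Finset.sum_range_succ']
    have hz : ∀ j ∈ Finset.range r, (-1 : ℚ) ^ (j + 1) *
        ((Module.length A (Coh.HH X (CohB1.tensorMod F
          ((Scheme.Modules.pullback i).obj (Twist.twistProjSpace r A n))) (j + 1))).toNat : ℚ) = 0 := by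
      intro j _
      haveI := h n hn (j + 1) (by omega)
      rw [Module.length_eq_zero_iff.2 inferInstance]
      simp
    rw [Finset.sum_eq_zero hz]
    simp
  by_contra hlc
  push_neg at hlc
  by_cases hdeg : 0 < P.degree
  · have ht := Polynomial.tendsto_atBot_of_leadingCoeff_nonpos P hdeg hlc.le
    have ht2 : Filter.Tendsto (fun m : ℕ => P.eval (((d₀ + (m : ℤ) : ℤ)) : ℚ)) Filter.atTop Filter.atBot := by
      refine ht.comp ?_
      have : (fun m : ℕ => (((d₀ + (m : ℤ) : ℤ)) : ℚ)) = fun m : ℕ => (d₀ : ℚ) + (m : ℚ) := by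
        funext m; push_cast; rfl
      rw [this]
      exact Filter.tendsto_atTop_add_const_left _ _ tendsto_natCast_atTop_atTop
    obtain ⟨m, hm⟩ := (ht2.eventually (Filter.eventually_lt_atBot (0 : ℚ))).exists
    exact absurd (hnn (d₀ + m) (by omega)) (not_le.2 hm)
  · have hd : P.degree ≤ 0 := not_lt.1 hdeg
    have hc := Polynomial.eq_C_of_degree_le_zero hd
    have h0 := hnn d₀ le_rfl
    rw [hc, Polynomial.eval_C] at h0
    rw [hc, Polynomial.leadingCoeff_C] at hlc
    exact absurd h0 (not_le.2 hlc)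

end Groth.Agent.S5750
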