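import Groth.Statements.S5883
import Mathlib
import Groth.Agent.Lib.T2H5LocusMod
import Groth.Agent.Lib.T2H5LocusGen
-- import your own Groth.Agent.* helpers here

set_option autoImplicit false
universe u
open CategoryTheory AlgebraicGeometry
open ConsProp

namespace Groth.Agent.S5883

/-- Let P(X, F, k) be an ind-constructible property of algebraic schemes with a coherent module, S an
irreducible scheme with generic point η, u : X ⟶ S a morphism of finite presentation (locally of
finite presentation, quasi-compact and quasi-separated), F a quasi-coherent O_X-module of finite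
presentation, and E the set of points s of S such that P holds for (X_s, F_s) over κ(s). If η lies
in E, then E is a neighbourhood of η in S. -/
theorem result
    {P : ∀ ⦃Y T : Scheme.{u}⦄, (Y ⟶ T) → Y.Modules → Prop} (hP : ConsProp.IsIndConsMod P)
    {X S : Scheme.{u}} [IrreducibleSpace S] (u : X ⟶ S)
    [LocallyOfFinitePresentation u] [QuasiCompact u] [QuasiSeparated u]
    (F : X.Modules) [Coh.IsQCoh F] (hF : CohB1.IsFP F)
    (hη : genericPoint S ∈ ConsProp.locusMod P u F) :
    genericPoint S ∈ interior (ConsProp.locusMod P u F) := by
  refine Groth.Agent.Lib.T2H5.LocusGen.genericPoint_mem_interior_of_mem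
    (Groth.Agent.Lib.T2H5.LocusMod.isLocusFam_famMod hP.1) ?_
    ⟨X, u, F, inferInstance, inferInstance, inferInstance, inferInstance, hF, rfl⟩ hη
  rintro S _ _ E ⟨X, u, F, h1, h2, h3, hq, hfp, rfl⟩ hη'
  exact hP.2 u F (Groth.Agent.Lib.T2H5.LocusMod.isCoh_of_isFP F hq hfp) hη'

end Groth.Agent.S5883
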