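import Groth.Statements.S5917
import Mathlib
import Groth.Agent.Lib.T2H4QHomeoA
import Groth.Agent.Lib.T2H4QHomeoB
set_option backward.isDefEq.respectTransparency.types false

set_option autoImplicit false
universe u
open CategoryTheory
open EGA43

namespace Groth.Agent.S5917

/-- (a) ⇔ (c): for a continuous map f : X₀ ⟶ X of topological spaces the following are equivalent: U ↦
f⁻¹(U) is a bijection from the open subsets of X onto those of X₀ (that is, f is a
quasi-homeomorphism); the inverse image functor f^* from sheaves of sets on X to sheaves of sets on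
X₀ is an equivalence of categories; the inverse image functor f^* from sheaves of abelian groups on
X to sheaves of abelian groups on X₀ is an equivalence of categories. (Sheaves are taken with values
in sets, resp. abelian groups, of the universe of the two spaces.) -/
theorem result (X₀ X : TopCat.{u}) (f : X₀ ⟶ X) :
    [Function.Bijective (fun U : TopologicalSpace.Opens X => (TopologicalSpace.Opens.map f).obj U),
      (TopCat.Sheaf.pullback (Type u) f).IsEquivalence,
      (TopCat.Sheaf.pullback AddCommGrpCat.{u} f).IsEquivalence].TFAE := by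
  have hT1 : ∀ T : Type u, Limits.IsTerminal T → Subsingleton (ToType T) := by
    intro T hT
    have : Unique T := Limits.Types.isTerminalEquivUnique T hT
    exact (inferInstance : Subsingleton T)
  have hT2 : ∀ T : AddCommGrpCat.{u}, Limits.IsTerminal T → Subsingleton (ToType T) := by
    intro T hT
    have hz : Limits.IsZero T :=
      (Limits.isZero_zero AddCommGrpCat.{u}).of_iso
        (hT.uniqueUpToIso (Limits.isZero_zero AddCommGrpCat.{u}).isTerminal)
    exact AddCommGrpCat.subsingleton_of_isZero hz
  have hb1 : (⟨false⟩ : ULift.{u} Bool) ≠ ⟨true⟩ := by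
    intro h
    exact Bool.false_ne_true (congrArg ULift.down h)
  have hb2 : (0 : ULift.{u} ℤ) ≠ ⟨1⟩ := by
    intro h
    have := congrArg ULift.down h
    exact zero_ne_one this
  tfae_have 1 → 2 := fun h => Groth.Agent.Lib.T2H4.QHomeo.pullback_isEquivalence f (Type u) h
  tfae_have 1 → 3 := fun h =>
    Groth.Agent.Lib.T2H4.QHomeo.pullback_isEquivalence f AddCommGrpCat.{u} h
  tfae_have 2 → 1 := fun h =>
    Groth.Agent.Lib.T2H4.QHomeo.map_bijective_of_pullback_isEquivalence f (Type u) hT1
      (ULift.{u} Bool) ⟨false⟩ ⟨true⟩ hb1
  tfae_have 3 → 1 := fun h =>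
    Groth.Agent.Lib.T2H4.QHomeo.map_bijective_of_pullback_isEquivalence f AddCommGrpCat.{u} hT2
      (AddCommGrpCat.of (ULift.{u} ℤ)) (0 : ULift.{u} ℤ) (⟨1⟩ : ULift.{u} ℤ) hb2
  tfae_finish

end Groth.Agent.S5917
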