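import Groth.Statements.S5956
import Groth.Agent.Lib.T2H2PPTrans
-- import your own Groth.Agent.* helpers here

set_option autoImplicit false
universe u
open CategoryTheory CategoryTheory.Limits AlgebraicGeometry TopologicalSpace Opposite
open Nrm16

namespace Groth.Agent.S5956

/-- Let f : X ⟶ S be a morphism of schemes, F and G two O_X-modules and D : F ⟶ G a differential
operator of order at most n relative to S. Then D is a differential operator of order at most m for
every m ≥ n. -/
theorem result {X S : Scheme.{u}} (f : X ⟶ S) (F G : X.Modules) {n m : ℕ} (h : n ≤ m)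
    (D : F.presheaf ⟶ G.presheaf) (hD : PrinPart.IsDiffOpLE f F G n D) :
    PrinPart.IsDiffOpLE f F G m D := by
  obtain ⟨u, hu⟩ := hD
  have h1 : PrinPart.infNbhdMap (PrinPart.diagCl f) h ≫ PrinPart.pr1 f m = PrinPart.pr1 f n := by
    rw [PrinPart.pr1, PrinPart.pr1, PrinPart.nbhdι, PrinPart.nbhdι, Category.assoc, Category.assoc,
      PrinPart.infNbhdMap_ι_assoc]
  have h2 : PrinPart.infNbhdMap (PrinPart.diagCl f) h ≫ PrinPart.pr2 f m = PrinPart.pr2 f n := by
    rw [PrinPart.pr2, PrinPart.pr2, PrinPart.nbhdι, PrinPart.nbhdι, Category.assoc, Category.assoc,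
      PrinPart.infNbhdMap_ι_assoc]
  refine ⟨Groth.Agent.Lib.T2H2.PPTrans.transHom _ _ _ _ _ h1 h2 F ≫ u, fun U t => ?_⟩
  rw [hu U t, Scheme.Modules.Hom.comp_app, ConcreteCategory.comp_apply, PrinPart.dP_apply,
    PrinPart.dP_apply]
  congr 1
  exact (Groth.Agent.Lib.T2H2.PPTrans.transHom_app _ _ _ _ _ h1 h2 F U t
    (PrinPart.preimage_pr1 f m U) (PrinPart.preimage_pr1 f n U)).symm

end Groth.Agent.S5956
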