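import Groth.Statements.S5973
import Groth.Agent.Lib.Helper23RelAmpleCounit
import Groth.Agent.Lib.Helper20FormalPull
import Groth.Agent.Lib.Helper6ClosedLfp
import Groth.Agent.Lib.Helper2PullbackSec

set_option linter.style.haveILetI false
-- import your own Groth.Agent.* helpers here

set_option autoImplicit false
universe u
open CategoryTheory CategoryTheory.Limits AlgebraicGeometry TopologicalSpace Opposite
open Nrm16

namespace Groth.Agent.S5973

/-- Let f : Y ⟶ X be a closed immersion which is locally of finite presentation. Then for every n the
n-th graded piece Gr_n(f) = I^n/I^(n+1) of the ideal of f, as an O_Y-module, is quasi-coherent of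
finite type. (The published statement allows any immersion locally of finite presentation; this row
states the case of a closed immersion.) -/
theorem result {Y X : Scheme.{u}} (f : Y ⟶ X) [IsClosedImmersion f]
    [LocallyOfFinitePresentation f] (n : ℕ) :
    Coh.IsCoh (PrinPart.grMod f n) := by
  have hFT : ∀ W : X.affineOpens, ((f.ker ^ n).ideal W).FG := by
    intro W
    have h1 := (Groth.Agent.Lib.Helper6.locallyOfFinitePresentation_iff_ker_fg_of_isClosedImmersion
      f).mp inferInstance W
    rw [Scheme.IdealSheafData.ideal_pow, Pi.pow_apply, Scheme.Hom.ker_apply]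
    exact h1.pow
  haveI : (ClSub.idealMod (f.ker ^ n)).IsQuasicoherent :=
    Groth.Agent.Lib.Helper20.OmegaAff.isQuasicoherent_idealMod _
  haveI : SheafOfModules.IsFiniteType (R := X.ringCatSheaf) (ClSub.idealMod (f.ker ^ n)) :=
    Groth.Agent.Lib.Helper23.RelAmpleCounit.isFT_idealMod _ hFT
  unfold PrinPart.grMod
  exact ⟨Groth.Agent.Lib.Helper2.PullbackSec.isQuasicoherent_pullback f _,
    Groth.Agent.Lib.Helper20.FormalPull.isFiniteType_pullback f _⟩

end Groth.Agent.S5973
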