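import Groth.Statements.S5977
import Groth.Agent.Lib.T2H3PnEpi

set_option autoImplicit false
set_option linter.style.haveILetI false
universe u
open CategoryTheory CategoryTheory.Limits AlgebraicGeometry TopologicalSpace Opposite
open Nrm16

namespace Groth.Agent.S5977

/-- Let f : Y ⟶ Z be a morphism and j : X ⟶ Y a closed immersion, and let φ : j^* P^n_{Y/Z} ⟶ P^n_{X/Z}
be the canonical O_X-linear map of sheaves of principal parts of order n, the one sending the
pullback of d^n b to d^n (j♯ b). Then φ is an epimorphism. (The published statement also identifies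
the kernel of φ as the ideal generated by the pullback of d^n of the ideal of j; this row states the
surjectivity.) -/
theorem result {X Y Z : Scheme.{u}} (f : Y ⟶ Z) (j : X ⟶ Y) [IsClosedImmersion j] (n : ℕ)
    (φ : (Scheme.Modules.pullback j).obj (PrinPart.P f n) ⟶ PrinPart.P (j ≫ f) n)
    (hφ : PrinPart.IsPMap f (j ≫ f) j n φ) :
    Epi φ := by
  apply Groth.Agent.Lib.T2H3.PnEpi.epi_of_isPMap f (j ≫ f) j n φ hφ
  intro U' b' x' hx'
  obtain ⟨t, ht, htU'⟩ := j.isEmbedding.isInducing.isOpen_iff.mp U'.isOpen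
  have hjx : j x' ∈ (⟨t, ht⟩ : Y.Opens) := by
    have : x' ∈ j ⁻¹' t := by rw [htU']; exact hx'
    exact this
  obtain ⟨U, hU, hjxU, hUt⟩ := exists_isAffineOpen_mem_and_subset hjx
  have h1 : j ⁻¹ᵁ U ≤ U' := by
    intro y hy
    have h2 : y ∈ j ⁻¹' t := hUt hy
    rw [htU'] at h2
    exact h2
  obtain ⟨b, hb⟩ := j.app_surjective U hU (X.presheaf.map (homOfLE h1).op b')
  refine ⟨U, b, j ⁻¹ᵁ U, hjxU, h1, le_rfl, ?_⟩
  rw [hb]
  have h3 : (homOfLE (le_refl (j ⁻¹ᵁ U))).op = 𝟙 _ := rfl
  rw [h3, X.presheaf.map_id]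
  rfl

end Groth.Agent.S5977
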