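import Groth.Statements.S6001
import Mathlib
import Groth.Agent.Lib.Helper19ComplUnram
import Groth.Agent.Lib.Helper20EtLocalRing
import Groth.Agent.Lib.Helper6ReducedEtale

set_option autoImplicit false
universe u
open SGA1

namespace Groth.Agent.S6001

/-- Let A be a Noetherian local ring which is analytically reduced (its completion has no nonzero
nilpotents), and let B be the local ring at a prime q, lying over the maximal ideal of A, of an
A-algebra C of finite type that is etale over A at q (an etale local homomorphism A ⟶ B). Then B is
analytically reduced, and in particular reduced. -/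
theorem result (A C : Type u) [CommRing A] [IsLocalRing A]
    [IsNoetherianRing A] [CommRing C] [Algebra A C] [Algebra.FiniteType A C] (q : Ideal C) [q.IsPrime]
    (hq : Ideal.comap (algebraMap A C) q = IsLocalRing.maximalIdeal A) (hC : Algebra.IsEtaleAt A q)
    (hA : IsReduced (AdicCompletion (IsLocalRing.maximalIdeal A) A)) :
    IsReduced (AdicCompletion (IsLocalRing.maximalIdeal (Localization.AtPrime q)) (Localization.AtPrime q)) ∧
      IsReduced (Localization.AtPrime q) := by
  classical
  haveI : IsNoetherianRing C := Algebra.FiniteType.isNoetherianRing A C
  haveI : IsNoetherianRing (Localization.AtPrime q) :=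
    IsLocalization.isNoetherianRing q.primeCompl (Localization.AtPrime q) inferInstance
  haveI : Algebra.FinitePresentation A C :=
    Algebra.FinitePresentation.of_finiteType.mp inferInstance
  haveI : Algebra.IsEtaleAt A q := hC
  haveI hflat : Module.Flat A (Localization.AtPrime q) :=
    Groth.Agent.Lib.Helper20.EtLocal.flat_localization_of_isEtaleAt A C q
  haveI hloc : IsLocalHom (algebraMap A (Localization.AtPrime q)) := by
    constructor
    intro a ha
    rw [IsScalarTower.algebraMap_apply A C (Localization.AtPrime q),
      IsLocalization.AtPrime.isUnit_to_map_iff (Localization.AtPrime q) q] at ha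
    by_contra hna
    have hmem : a ∈ IsLocalRing.maximalIdeal A := (IsLocalRing.mem_maximalIdeal a).mpr hna
    rw [← hq] at hmem
    exact ha hmem
  haveI : Algebra.EssFiniteType C (Localization.AtPrime q) :=
    .of_isLocalization (Localization.AtPrime q) q.primeCompl
  haveI : Algebra.EssFiniteType A (Localization.AtPrime q) := .comp A C (Localization.AtPrime q)
  haveI : Algebra.FormallyEtale A (Localization.AtPrime q) := hC
  haveI : Algebra.FormallyUnramified A (Localization.AtPrime q) := inferInstance
  have hm : (IsLocalRing.maximalIdeal A).map (algebraMap A (Localization.AtPrime q)) =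
      IsLocalRing.maximalIdeal (Localization.AtPrime q) :=
    Algebra.FormallyUnramified.map_maximalIdeal
  let ψ : AdicCompletion (IsLocalRing.maximalIdeal A) A →+*
      AdicCompletion (IsLocalRing.maximalIdeal (Localization.AtPrime q)) (Localization.AtPrime q) :=
    FSch.complMap (IsLocalRing.maximalIdeal A) (IsLocalRing.maximalIdeal (Localization.AtPrime q))
      (algebraMap A (Localization.AtPrime q)) hm.le
  have hψ : ψ.comp (algebraMap A (AdicCompletion (IsLocalRing.maximalIdeal A) A)) =
      (algebraMap (Localization.AtPrime q)
        (AdicCompletion (IsLocalRing.maximalIdeal (Localization.AtPrime q))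
          (Localization.AtPrime q))).comp (algebraMap A (Localization.AtPrime q)) := by
    apply RingHom.ext
    intro s
    apply AdicCompletion.ext_evalₐ
    intro n
    simp only [RingHom.comp_apply, ψ]
    rw [Groth.Agent.Lib.Helper19.evalₐ_complMap, AdicCompletion.algebraMap_apply,
      AdicCompletion.evalₐ_of, AdicCompletion.algebraMap_apply, AdicCompletion.evalₐ_of,
      Ideal.quotientMap_mk]
    rfl
  have het : ψ.Etale :=
    (Groth.Agent.Lib.Helper19.ComplUnram.etale_iff_completion A (Localization.AtPrime q) ψ hψ).mp
      ⟨hflat, hm, inferInstance, inferInstance⟩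
  haveI : IsNoetherianRing (AdicCompletion (IsLocalRing.maximalIdeal A) A) :=
    Groth.Agent.Lib.Helper19.isNoetherianRing_adicCompletion _
  have hred : IsReduced (AdicCompletion (IsLocalRing.maximalIdeal (Localization.AtPrime q))
      (Localization.AtPrime q)) := by
    letI := ψ.toAlgebra
    haveI : Algebra.Etale (AdicCompletion (IsLocalRing.maximalIdeal A) A)
      (AdicCompletion (IsLocalRing.maximalIdeal (Localization.AtPrime q))
        (Localization.AtPrime q)) := het
    haveI := hA
    exact Groth.Agent.Lib.Helper6.isReduced_of_flat_of_formallyUnramified
      (AdicCompletion (IsLocalRing.maximalIdeal A) A) _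
  refine ⟨hred, ?_⟩
  haveI : Module.FaithfullyFlat (Localization.AtPrime q)
      (AdicCompletion (IsLocalRing.maximalIdeal (Localization.AtPrime q))
        (Localization.AtPrime q)) :=
    Groth.Agent.Lib.Helper19.faithfullyFlat_adicCompletion_of_le_jacobson _ _
      (IsLocalRing.maximalIdeal_le_jacobson ⊥)
  exact isReduced_of_injective (algebraMap (Localization.AtPrime q)
      (AdicCompletion (IsLocalRing.maximalIdeal (Localization.AtPrime q))
        (Localization.AtPrime q)))
    (FaithfulSMul.algebraMap_injective _ _)

end Groth.Agent.S6001
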