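import Groth.Statements.S6006
import Groth.Agent.Lib.T2H3H90

set_option autoImplicit false
universe u
open CategoryTheory AlgebraicGeometry
open SGA1

namespace Groth.Agent.S6006

/-- Every principal homogeneous bundle under the additive group over S (a pseudo-torsor which acquires
sections on the members of some fpqc covering family of S) is locally trivial, i.e. is a torsor for
the Zariski topology: S is covered by open subschemes over which it acquires sections. -/
theorem result {S : Scheme.{u}} (X : Over S)
    (a : AlgGrp.Action (Red.Ga S) X) (h : NonAbH1.IsTorsorFor Scheme.fpqcPrecoverage a) :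
    NonAbH1.IsTorsorFor Scheme.zariskiPrecoverage a := by
  refine ⟨h.1, Groth.Agent.Lib.T2H3.H90.isLocallyTrivialFor_zariski_of_forall X ?_⟩
  intro x
  obtain ⟨_, ⟨U, hU, rfl⟩, hxU, -⟩ := S.isBasis_affineOpens.exists_subset_of_mem_open
    (Set.mem_univ x) isOpen_univ
  have : IsAffine (Over.mk (Scheme.Opens.ι U)).left := hU
  obtain ⟨σ⟩ := Groth.Agent.Lib.T2H3.H90.nonempty_hom_Ga X a h (Over.mk (Scheme.Opens.ι U))
  exact ⟨U, hxU, σ.left, Over.w σ⟩

end Groth.Agent.S6006
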