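import Groth.Statements.S6043
import Groth.Agent.Lib.T2H7FpqcSheaf
import Groth.Agent.Lib.T2H7DiagProp
import Groth.Agent.Lib.T2H1RepIso
import Groth.Agent.Lib.Helper12Descent
import Groth.Agent.S9884
-- import your own Groth.Agent.* helpers here

set_option autoImplicit false
open CategoryTheory CategoryTheory.Limits AlgebraicGeometry MonoidalCategory
universe u
open GrpQ

namespace Groth.Agent.S6043

/-- a categorical equivalence relation on schemes over `S` is an equivalence relation on points. -/
theorem isEqvRel_of_equivalenceRelation {S : Scheme.{u}} {R U : Over S} (s t : R ⟶ U)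
    (e : EquivalenceRelation s t) : AlgSp.IsEqvRel s t := by
  refine ⟨fun T r r' h1 h2 => e.right_cancellation r r' h2 h1, fun T => ⟨?_, ?_, ?_⟩⟩
  · intro a
    refine ⟨a ≫ e.r, ?_, ?_⟩
    · rw [Category.assoc, e.reflexivity₂, Category.comp_id]
    · rw [Category.assoc, e.reflexivity₁, Category.comp_id]
  · rintro a b ⟨r, rfl, rfl⟩
    refine ⟨r ≫ e.s, ?_, ?_⟩
    · rw [Category.assoc, e.symmetry₂]
    · rw [Category.assoc, e.symmetry₁]
  · rintro a b c ⟨r₁, rfl, hb⟩ ⟨r₂, h2, rfl⟩
    have hcond : r₂ ≫ t = r₁ ≫ s := by rw [h2, hb]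
    refine ⟨e.isLimit.lift (PullbackCone.mk r₂ r₁ hcond) ≫ e.t, ?_, ?_⟩
    · rw [Category.assoc, e.transitivity₂, ← Category.assoc]
      exact congrArg (fun m => m ≫ t) (e.isLimit.fac (PullbackCone.mk r₂ r₁ hcond) WalkingCospan.right)
    · rw [Category.assoc, e.transitivity₁, ← Category.assoc]
      exact congrArg (fun m => m ≫ s) (e.isLimit.fac (PullbackCone.mk r₂ r₁ hcond) WalkingCospan.left)

/-- the symmetry of an equivalence relation is an involution. -/
theorem symm_symm {S : Scheme.{u}} {R U : Over S} (s t : R ⟶ U)
    (e : EquivalenceRelation s t) : e.s ≫ e.s = 𝟙 R := by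
  apply e.right_cancellation
  · rw [Category.assoc, e.symmetry₁, e.symmetry₂, Category.id_comp]
  · rw [Category.assoc, e.symmetry₂, e.symmetry₁, Category.id_comp]

open CartesianMonoidalCategory in
/-- The comparison of topologies, for an equivalence relation of schemes over a base scheme `S` with
closed graph: let `s, t : R ⇉ U` be an equivalence relation of schemes over `S` with `s` flat,
surjective and locally of finite presentation and `(t, s) : R ⟶ U ×_S U` a closed immersion. Then
the fppf quotient sheaf `U/R` on schemes over `S` satisfies the sheaf condition for the fpqc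
topology. (The published statement takes `R ⟶ U` faithfully flat and quasi-compact and says that its
fpqc quotient sheaf is also the quotient for the canonical topology; this row takes `R ⟶ U` flat,
surjective and locally of finite presentation and says that the fppf quotient sheaf is already an
fpqc sheaf.) -/
theorem result {S : Scheme.{u}} {R U : Over S} (s t : R ⟶ U)
    [IsEquivalenceRelation s t]
    [Flat s.left] [Surjective s.left] [LocallyOfFinitePresentation s.left]
    (hc : IsClosedImmersion (lift t s).left) :
    Presheaf.IsSheaf (QuotSh.J Scheme.fpqcPrecoverage S)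
      (QuotSh.quot Scheme.fppfPrecoverage s t).obj := by
  obtain ⟨e⟩ := IsEquivalenceRelation.nonempty_equivalenceRelation (p₁ := s) (p₂ := t)
  have hEqv : AlgSp.IsEqvRel s t := isEqvRel_of_equivalenceRelation s t e
  have sq := Groth.Agent.Lib.T2H1.RepIso.isPullback_yon_quotπ s t hEqv
  set p := (QuotSh.repIsoUliftYoneda Scheme.fppfPrecoverage U).inv ≫
    QuotSh.quotπ Scheme.fppfPrecoverage s t with hp
  haveI : Epi (QuotSh.quotπ Scheme.fppfPrecoverage s t) := by
    unfold QuotSh.quotπ
    exact coequalizer.π_epi
  haveI : Epi p := epi_comp _ _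
  haveI : Sheaf.IsLocallySurjective p := (Sheaf.isLocallySurjective_iff_epi _).mpr inferInstance
  -- `t` is locally of finite type
  haveI : IsIso e.s := ⟨⟨e.s, symm_symm s t e, symm_symm s t e⟩⟩
  haveI : IsIso e.s.left := inferInstanceAs (IsIso ((Over.forget S).map e.s))
  haveI : LocallyOfFiniteType t.left := by
    have h1 : t.left = e.s.left ≫ s.left := by rw [← Over.comp_left, e.symmetry₁]
    rw [h1]
    infer_instance
  -- the quotient is separated
  have hsep : AlgSp.IsSeparatedSp (QuotSh.quot Scheme.fppfPrecoverage s t) := by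
    haveI : MorphismProperty.IsLocalAtTarget (@IsClosedImmersion : MorphismProperty Scheme.{u})
        Scheme.fppfPrecoverage :=
      Groth.Agent.Lib.T2H1.RepIso.isLocalAtTarget_fppf _
        Groth.Agent.Lib.Helper12.descendsAlong_isClosedImmersion
    exact Groth.Agent.Lib.T2H7.DiagProp.repWith_diag _ p s t sq @IsClosedImmersion hc
  -- the atlas is representable
  have hrep : AlgSp.Representable p :=
    Functor.relativelyRepresentable.of_diag
      (Groth.Agent.Lib.T2H7.DiagRep.representable_diag _ p s t sq) p
  have key : ∀ (P : MorphismProperty Scheme.{u}) [P.IsStableUnderBaseChange]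
      [P.IsLocalAtTarget Scheme.fppfPrecoverage], P s.left → AlgSp.RepWith P p := by
    intro P _ _ h
    exact Groth.Agent.S9884.result S _ _ _ p hrep p _ ((AlgSp.yon S).map t) ((AlgSp.yon S).map s)
      sq P ((AlgSp.repWith_yon_map_iff P s).2 h)
  haveI : MorphismProperty.IsLocalAtTarget (@Flat : MorphismProperty Scheme.{u})
      Scheme.fppfPrecoverage :=
    Groth.Agent.Lib.T2H1.RepIso.isLocalAtTarget_fppf _ Groth.Agent.Lib.Helper12.descendsAlong_flat
  haveI : MorphismProperty.IsLocalAtTarget (@Surjective : MorphismProperty Scheme.{u})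
      Scheme.fppfPrecoverage :=
    Groth.Agent.Lib.T2H1.RepIso.isLocalAtTarget_fppf_surjective
  haveI : MorphismProperty.IsLocalAtTarget
      (@LocallyOfFinitePresentation : MorphismProperty Scheme.{u}) Scheme.fppfPrecoverage :=
    Groth.Agent.Lib.T2H1.RepIso.isLocalAtTarget_fppf _ inferInstance
  exact Groth.Agent.Lib.T2H7.FpqcSheaf.isSheaf_fpqc _ hsep p
    (key @Flat inferInstance) (key @Surjective inferInstance)
    (key @LocallyOfFinitePresentation inferInstance)

end Groth.Agent.S6043
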