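import Groth.Statements.S6179
import Groth.Agent.Lib.T2H8StrictHens2

set_option autoImplicit false
open CategoryTheory CategoryTheory.Limits AlgebraicGeometry Opposite
universe u
open EtDesc

namespace Groth.Agent.S6179

/-- Let R be a strictly henselian local ring, X = Spec R and x̄ : Spec κ(R) -> X the closed geometric
point. For every etale sheaf of sets F on X the canonical map Γ(X, F) -> F_x̄ into the stalk (the
colimit of F(X') over the x̄-pointed etale X-schemes X', taken at X' = X) is bijective; in
particular the global-sections functor is isomorphic to the fibre functor at x̄ and commutes with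
all colimits. -/
theorem result (R : Type u) [CommRing R]
    [HenselianLocalRing R] [IsSepClosed (IsLocalRing.ResidueField R)]
    (F : EtDesc.Sh (Spec (CommRingCat.of R))) :
    Function.Bijective ((Scheme.pointSmallEtale
      (Spec.map (CommRingCat.ofHom (IsLocalRing.residue R)))).toPresheafFiber (A := Type (u + 1))
        (EtCoh.top (Spec (CommRingCat.of R)))
        (Over.homMk (Spec.map (CommRingCat.ofHom (IsLocalRing.residue R))) (Category.comp_id _)) F.obj) := by
  let X := Spec (CommRingCat.of R)
  let Φ := Scheme.pointSmallEtale (Spec.map (CommRingCat.ofHom (IsLocalRing.residue R)))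
  let x₀ : Φ.fiber.obj (EtCoh.top X) :=
    Over.homMk (Spec.map (CommRingCat.ofHom (IsLocalRing.residue R))) (Category.comp_id _)
  -- sections through fibre points
  have key : ∀ (U : X.Etale) (x : Φ.fiber.obj U), ∃ m : EtCoh.top X ⟶ U, Φ.fiber.map m x₀ = x := by
    intro U x
    have : Etale U.hom := U.prop
    have hw : x.left ≫ U.hom = Spec.map (CommRingCat.ofHom (IsLocalRing.residue R)) := Over.w x
    obtain ⟨σ, hσ, hσ'⟩ := Groth.Agent.Lib.T2H8.StrictHens.exists_section_through R U.hom x.left hw
    refine ⟨MorphismProperty.Over.homMk σ hσ, ?_⟩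
    apply Over.OverMorphism.ext
    exact hσ'
  constructor
  · intro z₁ z₂ h
    obtain ⟨Y, f, y, hy, hz⟩ := (Φ.toPresheafFiber_eq_iff' (P := F.obj) (EtCoh.top X) x₀ z₁ z₂).1 h
    obtain ⟨m, hm⟩ := key Y y
    have hmf : m ≫ f = 𝟙 _ := (EtCore.topIsTerminal X).hom_ext _ _
    have h1 : F.obj.map (m ≫ f).op z₁ = F.obj.map (m ≫ f).op z₂ := by
      rw [op_comp, F.obj.map_comp]
      exact congrArg (F.obj.map m.op) hz
    rw [hmf] at h1
    simpa using h1
  · intro p
    obtain ⟨U, x, z, rfl⟩ := Φ.toPresheafFiber_jointly_surjective (P := F.obj) p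
    obtain ⟨m, hm⟩ := key U x
    refine ⟨F.obj.map m.op z, ?_⟩
    have hw := Φ.toPresheafFiber_w m x₀ F.obj
    rw [hm] at hw
    exact ConcreteCategory.congr_hom hw z

end Groth.Agent.S6179
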