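import Groth.Statements.S6181
import Groth.Agent.Lib.T2H8StalkFinite

set_option autoImplicit false
open CategoryTheory CategoryTheory.Limits AlgebraicGeometry Opposite
universe u
open EtDesc

namespace Groth.Agent.S6181

set_option backward.isDefEq.respectTransparency.types false in
theorem aux {X Y : Scheme.{u}} (f : X ⟶ Y) [IsFinite f]
    {Ω : Type u} [Field Ω] [IsAlgClosed Ω] (η : Spec (CommRingCat.of Ω) ⟶ Y) :
    Nonempty (EtDesc.pushSh f ⋙ (Scheme.pointSmallEtale η).sheafFiber (A := Type (u + 1)) ≅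
      ∏ᶜ fun ξ : {ξ : Spec (CommRingCat.of Ω) ⟶ X // ξ ≫ f = η} =>
        ((Scheme.pointSmallEtale ξ.1).sheafFiber (A := Type (u + 1)) : EtDesc.Sh X ⥤ Type (u + 1))) := by
  let Ξ := {ξ : Spec (CommRingCat.of Ω) ⟶ X // ξ ≫ f = η}
  let Gf : Ξ → (EtDesc.Sh X ⥤ Type (u + 1)) := fun ξ =>
    ((Scheme.pointSmallEtale ξ.1).sheafFiber (A := Type (u + 1)) : EtDesc.Sh X ⥤ Type (u + 1))
  let θn : ∀ ξ : Ξ,
      (EtDesc.pushSh f ⋙ (Scheme.pointSmallEtale η).sheafFiber (A := Type (u + 1))) ⟶ Gf ξ :=
    fun ξ =>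
      { app := fun F => Groth.Agent.Lib.T2H8StalkFinite.θ f ξ.1 η ξ.2 F.obj
        naturality := by
          intro F G φ
          exact Groth.Agent.Lib.T2H8StalkFinite.θ_naturality f ξ.1 η ξ.2 φ.hom }
  let Θ : (EtDesc.pushSh f ⋙ (Scheme.pointSmallEtale η).sheafFiber (A := Type (u + 1))) ⟶ ∏ᶜ Gf :=
    Pi.lift θn
  have happ : ∀ F : EtDesc.Sh X, IsIso (Θ.app F) := by
    intro F
    have hFs : Presieve.IsSheaf X.smallEtaleTopology (F.obj ⋙ forget (Type (u + 1))) :=
      (isSheaf_iff_isSheaf_of_type _ _).mp F.property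
    have hiso : IsIso (Pi.lift (fun ξ : Ξ => (θn ξ).app F) :
        ((EtDesc.pushSh f ⋙ (Scheme.pointSmallEtale η).sheafFiber (A := Type (u + 1))).obj F) ⟶
          ∏ᶜ fun ξ => (Gf ξ).obj F) :=
      Groth.Agent.Lib.T2H8StalkFinite.isIso_pi_lift_θ (A := Type (u + 1)) f η F.obj hFs
    have e : Θ.app F = (Pi.lift (fun ξ : Ξ => (θn ξ).app F) :
        ((EtDesc.pushSh f ⋙ (Scheme.pointSmallEtale η).sheafFiber (A := Type (u + 1))).obj F) ⟶
          ∏ᶜ fun ξ => (Gf ξ).obj F) ≫ (piObjIso Gf F).inv := by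
      rw [Iso.eq_comp_inv]
      apply Pi.hom_ext
      intro ξ
      rw [Category.assoc, piObjIso_hom_comp_π, Pi.lift_π, ← NatTrans.comp_app, Pi.lift_π]
    rw [e]
    infer_instance
  have : IsIso Θ := NatIso.isIso_of_isIso_app Θ
  exact ⟨asIso Θ⟩

/-- Let f : X -> Y be a finite morphism of schemes, Ω an algebraically closed field and η : Spec Ω -> Y
a geometric point. The functor F ↦ (f_* F)_η on etale sheaves of sets on X is isomorphic to the
product, over the geometric points ξ : Spec Ω -> X lying over η, of the fibre functors F ↦ F_ξ. (The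
published statement gives a canonical isomorphism and indexes the product by the points of the
geometric fibre over a separable closure of the residue field; this row asserts only that an
isomorphism of functors exists and indexes the product by the Ω-valued points of X over η, which for
Ω algebraically closed correspond to those points.) -/
theorem result {X Y : Scheme.{u}} (f : X ⟶ Y) [IsFinite f]
    {Ω : Type u} [Field Ω] [IsAlgClosed Ω] (η : Spec (CommRingCat.of Ω) ⟶ Y) :
    Nonempty (EtDesc.pushSh f ⋙ (Scheme.pointSmallEtale η).sheafFiber (A := Type (u + 1)) ≅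
      ∏ᶜ fun ξ : {ξ : Spec (CommRingCat.of Ω) ⟶ X // ξ ≫ f = η} =>
        ((Scheme.pointSmallEtale ξ.1).sheafFiber (A := Type (u + 1)) : EtDesc.Sh X ⥤ Type (u + 1))) := by
  exact aux f η

end Groth.Agent.S6181
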