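import Groth.Statements.S6193
import Groth.Agent.Lib.T2H1RpushTorAmpD

set_option autoImplicit false
universe u
open CategoryTheory CategoryTheory.Limits AlgebraicGeometry
attribute [local instance] HasDerivedCategory.standard
open KSix

namespace Groth.Agent.S6193

/-- Let f : X ⟶ Y be quasi-compact, quasi-separated and locally of finite tor dimension (the structure
sheaf of X is locally of finite tor amplitude relative to f, stalkwise), the derived direct image
being assumed to exist, and let E ∈ D(O_X), given by a cochain complex F, have bounded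
quasi-coherent cohomology. If E is locally of finite tor dimension in the absolute sense on X, then
Rf_* E is locally of finite tor dimension in the absolute sense on Y. -/
theorem result {X Y : Scheme.{u}} (f : X ⟶ Y) [QuasiCompact f] [QuasiSeparated f]
    [DCoh.HasRpush f] (hf : DerSch.LocFiniteTorDim f) (F : CochainComplex X.Modules ℤ)
    (hqc : DCoh.IsQCohD (DCoh.toD X F)) (c d : ℤ) [(DCoh.toD X F).IsGE c] [(DCoh.toD X F).IsLE d]
    (hE : DCoh.LocHasFiniteTorDim (DCoh.toD X F)) :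
    DCoh.LocHasFiniteTorDim ((DCoh.Rpush f).obj (DCoh.toD X F)) := by
  have hTA : Groth.Agent.Lib.T2H1.RelPerfTri.LocTA (f ≫ 𝟙 Y) (DCoh.toD X F) := by
    intro x
    obtain ⟨V₁, a, b, hx₁, h₁⟩ :=
      Groth.Agent.Lib.T2H1.RpushTorAmp.locTA_id_of_locHasFiniteTorDim F hE x
    obtain ⟨V₂, a', b', hx₂, h₂⟩ := hf x
    refine ⟨V₁ ⊓ V₂, a - (-a').toNat, b, ⟨hx₁, hx₂⟩, fun y hy => ?_⟩
    rw [Groth.Agent.Lib.T2H1.RelPerfTri.tAat_toD_iff]
    have h3 := Groth.Agent.Lib.T2H1.RpushTorAmp.hasTorAmplitudeAt_comp (𝟙 X) f y a' b'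
      (h₂ y hy.2) F a b
      ((Groth.Agent.Lib.T2H1.RelPerfTri.tAat_toD_iff _ a b F y).1 (h₁ y hy.1))
    have hc : 𝟙 X ≫ f = f ≫ 𝟙 Y := by simp
    rw [hc] at h3
    exact h3
  intro y
  obtain ⟨V, a, b, hyV, h⟩ :=
    Groth.Agent.Lib.T2H1.RpushTorAmp.exists_nhd_tAat_Rpush f (𝟙 Y) _ hqc hTA y
  exact ⟨V, a, b, hyV, fun F' ⟨e⟩ =>
    Groth.Agent.Lib.T2H1.RpushTorAmp.hasFlatAmplitudeIn_restrict_of_tAat_id _ V a b h F' e⟩

end Groth.Agent.S6193
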