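import Groth.Statements.S6197
import Groth.Agent.Lib.T2H1PerfRelClosed
set_option backward.isDefEq.respectTransparency.types false

set_option autoImplicit false
universe u
open CategoryTheory CategoryTheory.Limits AlgebraicGeometry
attribute [local instance] HasDerivedCategory.standard
open KSix

namespace Groth.Agent.S6197

open Groth.Agent.Lib.T2H1.SmoothTorAmpSch Groth.Agent.Lib.T2H1.PolyTorAmp
  Groth.Agent.Lib.T2H1.TorAmpBC Groth.Agent.Lib.Helper1.Tor Groth.Agent.Lib.Helper1.Sky
  Groth.Agent.Lib.Helper1.KBC Groth.Agent.Lib.Helper1.KF DTen DerivedCategory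
  Groth.Agent.Lib.T2H1.RelFlatAmp Groth.Agent.Lib.T2H1.StalkTorAmp
  Groth.Agent.Lib.T2H1.PerfAmp Groth.Agent.Lib.T2H8.PerfLocal Groth.Agent.Lib.T2H2.AffRed
  Groth.Agent.Lib.T2H1.PerfRelClosed

/-- stalkwise tor amplitude on an open gives flat amplitude of the restriction of any
representative -/
theorem hasFlatAmplitudeIn_restrict_of_stalkwise {Y : Scheme.{u}} (G : CochainComplex Y.Modules ℤ)
    (V : Y.Opens) (a b : ℤ)
    (h : ∀ y : Y, y ∈ V → DRing.HasTorAmplitudeIn (Ox y) a b (Q.obj ((stalkC y).obj G)))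
    (F' : CochainComplex Y.Modules ℤ) (e : DCoh.toD Y F' ≅ DCoh.toD Y G) :
    DCoh.HasFlatAmplitudeIn a b (DerivedCategory.Q.obj ((DCoh.restrictCx V).obj F')) := by
  let GV : CochainComplex (V : Scheme.{u}).Modules ℤ := (DCoh.restrictCx V).obj G
  have h1 : DerSch.HasTorAmplitude (𝟙 (V : Scheme.{u})) a b GV :=
    hasTorAmplitude_id_of_stalkC GV a b
      (fun u => hasTorAmp_stalkC_restrict V.ι u G a b (h (V.ι u) u.2))
  have h2 : DCoh.HasFlatAmplitudeIn a b (DCoh.toD V GV) :=
    hasFlatAmplitudeIn_of_hasTorAmplitude_id GV a b h1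
  refine hasFlatAmplitudeIn_of_iso ?_ a b h2
  exact ((Scheme.Modules.restrictFunctor V.ι).mapDerivedCategoryFactors.app G).symm ≪≫
    (rD V.ι).mapIso e.symm ≪≫
    (Scheme.Modules.restrictFunctor V.ι).mapDerivedCategoryFactors.app F'

/-- Let i : X ⟶ X' be a closed immersion, f' : X' ⟶ Y smooth, f = i ≫ f', and F a cochain complex of
O_X-modules. Then F is locally of finite tor amplitude relative to f (stalkwise form) if and only if
the termwise direct image i_* F is locally of finite tor dimension in the absolute sense on X'. -/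
theorem result {X X' Y : Scheme.{u}} (i : X ⟶ X')
    [IsClosedImmersion i] (f' : X' ⟶ Y) [Smooth f'] (F : CochainComplex X.Modules ℤ) :
    DerSch.LocFiniteTorAmplitude (i ≫ f') F ↔
      DCoh.LocHasFiniteTorDim (DCoh.toD X' (((Scheme.Modules.pushforward i).mapHomologicalComplex (ComplexShape.up ℤ)).obj F)) := by
  constructor
  · intro hlt y
    obtain ⟨n, hq⟩ := exists_chartTorAmpShiftAt_of_smooth f' y
    obtain ⟨V₀, hy₀, hV₀⟩ := hq.exists_nhds
    by_cases hyr : y ∈ Set.range i.base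
    · obtain ⟨x, rfl⟩ := hyr
      obtain ⟨W, a, b, hxW, hW⟩ := hlt x
      obtain ⟨t, ht, htW⟩ :=
        (IsClosedImmersion.isClosedEmbedding i).isInducing.isOpen_iff.1 W.isOpen
      let V₁ : X'.Opens := ⟨t, ht⟩
      have hxt : i x ∈ t := by
        have : x ∈ i.base ⁻¹' t := by rw [htW]; exact hxW
        exact this
      refine ⟨V₀ ⊓ V₁, a - n, b, ⟨hy₀, hxt⟩, fun F' ⟨e⟩ => ?_⟩
      refine hasFlatAmplitudeIn_restrict_of_stalkwise _ (V₀ ⊓ V₁) (a - n) b ?_ F' e
      intro y' hy'
      refine hasTorAmp_stalkC_pushforward i f' F a b y' n (hV₀ y' hy'.1) (fun x' hx' => hW x' ?_)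
      have : x' ∈ i.base ⁻¹' t := by
        show i x' ∈ t
        rw [hx']
        exact hy'.2
      rw [htW] at this
      exact this
    · let T : X'.Opens := ⟨(Set.range i.base)ᶜ,
        (IsClosedImmersion.isClosedEmbedding i).isClosed_range.isOpen_compl⟩
      refine ⟨T, 0, 0, hyr, fun F' ⟨e⟩ => ?_⟩
      refine hasFlatAmplitudeIn_restrict_of_stalkwise _ T 0 0 ?_ F' e
      intro y' hy'
      exact hasTorAmp_of_isZero _ (isZero_Q_stalkC_pushforward i F y' hy') _ _
  · intro hK x
    haveI : Flat f' := inferInstance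
    obtain ⟨V, a, b, hyV, H⟩ := hK (i x)
    have hfa := H _ ⟨Iso.refl _⟩
    refine ⟨i ⁻¹ᵁ V, a, b, hyV, fun x' hx' => ?_⟩
    have h1 := hasTorAmplitudeIn_stalkC_of_restrict _ V a b hfa ⟨i x', hx'⟩
    have h2 : DerSch.HasTorAmplitudeAt f' a b
        (((Scheme.Modules.pushforward i).mapHomologicalComplex (ComplexShape.up ℤ)).obj F) (i x') :=
      hasTorAmp_of_iso (Q.mapIso (stalkCxOverIso f' (i x') _).symm)
        (hasTorAmp_resCx_of_flat (f'.stalkMap (i x')).hom (Flat.stalkMap f' _) _ a b h1)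
    exact (hasTorAmplitudeAt_comp_iff_pushforward i f' x'
      (IsClosedImmersion.isClosedEmbedding i).isInducing F a b).2 h2

end Groth.Agent.S6197
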