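import Groth.Statements.S6198
import Groth.Agent.Lib.T2H1RpushTorAmpC

set_option autoImplicit false
universe u
open CategoryTheory CategoryTheory.Limits AlgebraicGeometry
attribute [local instance] HasDerivedCategory.standard
open KSix

namespace Groth.Agent.S6198

/-- Let S be a scheme, p : X ⟶ S and q : Y ⟶ S with q quasi-compact (Y quasi-compact over S), and f : X
⟶ Y a quasi-compact and quasi-separated morphism with f ≫ q = p (so X too is quasi-compact over S),
the derived direct image being assumed to exist. If F is a cochain complex of O_X-modules whose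
image in D(O_X) has bounded quasi-coherent cohomology and which is locally of finite tor amplitude
relative to p (stalkwise form), then Rf_* F is locally of finite tor amplitude relative to q. -/
theorem result {X Y S : Scheme.{u}} (p : X ⟶ S) (q : Y ⟶ S) (f : X ⟶ Y)
    (w : f ≫ q = p) [QuasiCompact f] [QuasiSeparated f] [QuasiCompact q] [DCoh.HasRpush f]
    (F : CochainComplex X.Modules ℤ) (hqc : DCoh.IsQCohD (DCoh.toD X F)) (c d : ℤ)
    [(DCoh.toD X F).IsGE c] [(DCoh.toD X F).IsLE d] (hF : DerSch.LocFiniteTorAmplitude p F) :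
    DerSch.LocFiniteTorAmplitudeD q ((DCoh.Rpush f).obj (DCoh.toD X F)) := by
  subst w
  intro F' ⟨e⟩ y
  have hTA : Groth.Agent.Lib.T2H1.RelPerfTri.LocTA (f ≫ q) (DCoh.toD X F) := fun x => by
    obtain ⟨V, a, b, hx, h⟩ := hF x
    exact ⟨V, a, b, hx, fun y hy =>
      (Groth.Agent.Lib.T2H1.RelPerfTri.tAat_toD_iff _ a b F y).2 (h y hy)⟩
  obtain ⟨V, a, b, hy, h⟩ :=
    Groth.Agent.Lib.T2H1.RpushTorAmp.exists_nhd_tAat_Rpush f q _ hqc hTA y
  exact ⟨V, a, b, hy, fun y' hy' =>
    (Groth.Agent.Lib.T2H1.RelPerfTri.tAat_toD_iff q a b F' y').1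
      (Groth.Agent.Lib.T2H1.RelPerfTri.TAat.of_iso q e.symm (h y' hy'))⟩

end Groth.Agent.S6198
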