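import Groth.Statements.S6206
import Groth.Agent.Lib.T2H1RelPCcomp

set_option autoImplicit false
universe u
open CategoryTheory CategoryTheory.Limits AlgebraicGeometry
attribute [local instance] HasDerivedCategory.standard
open KSix

namespace Groth.Agent.S6206

/-- Retired milestone (weight 0, no credit; kept so that existing proof files which import this module still build). Let f : X ⟶ Y and g : Y ⟶ Z be locally of finite type with g pseudo-coherent (O_Y placed in degree 0
is n-pseudo-coherent relative to g for every integer n), r an integer and E an object of D(O_X) with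
bounded above cohomology. Then E is r-pseudo-coherent relative to f if and only if E is
r-pseudo-coherent relative to f ≫ g (chart form). -/
theorem result {X Y Z : Scheme.{u}} (f : X ⟶ Y) (g : Y ⟶ Z)
    [LocallyOfFiniteType f] [LocallyOfFiniteType g] (hg : ∀ n : ℤ, DerSch.IsNPseudoCoherent g n)
    (r b : ℤ) (E : DCoh.D X) [E.IsLE b] :
    DerSch.IsPseudoCoherentRel f r E ↔ DerSch.IsPseudoCoherentRel (f ≫ g) r E := by
  exact Groth.Agent.Lib.T2H1.RelPCpt.isPseudoCoherentRel_comp_iff f g E r hg

end Groth.Agent.S6206
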