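import Groth.Statements.S6213
import Groth.Agent.Lib.T2H1RelPCmod
import Groth.Agent.Lib.Helper1TorDim

set_option autoImplicit false
universe u
open CategoryTheory CategoryTheory.Limits AlgebraicGeometry
attribute [local instance] HasDerivedCategory.standard
open KSix

namespace Groth.Agent.S6213

open Groth.Agent.Lib.Helper1.Tor Groth.Agent.Lib.Helper1.TorDim in
/-- tor amplitude `[0, 0]` of a module in degree `0` at a point is flatness of the stalk over the
local ring of the base -/
theorem hasTorAmplitudeAt_single_iff {X Y : Scheme.{u}} (f : X ⟶ Y) (M : X.Modules) (x : X) :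
    DerSch.HasTorAmplitudeAt f 0 0 ((HomologicalComplex.single _ (ComplexShape.up ℤ) 0).obj M) x ↔
      FlatMod.IsFlatOverAt f M x := by
  let A := Y.presheaf.stalk (f.base x)
  let N : ModuleCat.{u} A := (DerSch.stalkOver f x).obj M
  have e : DRing.toD ((DerSch.stalkCxOver f x).obj
        ((HomologicalComplex.single _ (ComplexShape.up ℤ) 0).obj M)) ≅ Dual.inD A N :=
    DerivedCategory.Q.mapIso
        ((HomologicalComplex.singleMapHomologicalComplex (DerSch.stalkOver f x)
          (ComplexShape.up ℤ) 0).app M) ≪≫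
      ((DerivedCategory.singleFunctorIsoCompQ (ModuleCat.{u} A) 0).app N).symm
  have h1 := hasTorDimLE_iff_hasTorAmp (R := A) N 0
  simp only [Nat.cast_zero, neg_zero] at h1
  have h2 := hasTorDimLE_zero_iff_flat (R := A) N
  change DRing.HasTorAmplitudeIn A 0 0 _ ↔ Module.Flat A N
  rw [← h2, h1]
  exact ⟨fun h => hasTorAmp_of_iso e h, fun h => hasTorAmp_of_iso e.symm h⟩

/-- Let f : X ⟶ Y be locally of finite type and M an O_X-module. Then M placed in degree 0 has perfect
amplitude in [0, 0] relative to f (pseudo-coherent relative to f in chart form and of stalkwise tor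
amplitude in [0, 0] over the local rings of Y) if and only if M is flat over Y at every point of X
and M placed in degree 0 is (-1)-pseudo-coherent relative to f (that is, finitely presented relative
to f). -/
theorem result {X Y : Scheme.{u}} (f : X ⟶ Y)
    [LocallyOfFiniteType f] (M : X.Modules) :
    DerSch.HasPerfAmplitudeRel f 0 0 ((HomologicalComplex.single _ (ComplexShape.up ℤ) 0).obj M) ↔
      (FlatMod.IsFlatOver f M ∧ DerSch.IsPseudoCoherentRel f (-1) (DCoh.toD X ((HomologicalComplex.single _ (ComplexShape.up ℤ) 0).obj M))) := by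
  constructor
  · rintro ⟨hpc, htor⟩
    exact ⟨fun x => (hasTorAmplitudeAt_single_iff f M x).1 (htor x), hpc (-1)⟩
  · rintro ⟨hfl, hfp⟩
    refine ⟨fun m => ?_, fun x => (hasTorAmplitudeAt_single_iff f M x).2 (hfl x)⟩
    exact (Groth.Agent.Lib.T2H1.RelPCmod.isPseudoCoherentRel_of_iso f m
      (Groth.Agent.Lib.T2H1.RelPCmod.singleIso M)).2
      (Groth.Agent.Lib.T2H1.RelPCmod.isPseudoCoherentRel_of_flat f M hfl
        ((Groth.Agent.Lib.T2H1.RelPCmod.isPseudoCoherentRel_of_iso f (-1)
          (Groth.Agent.Lib.T2H1.RelPCmod.singleIso M)).1 hfp) m)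

end Groth.Agent.S6213
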