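import Groth.Statements.S6225
import Groth.Agent.Lib.T2H1ChartPCMor

set_option autoImplicit false
universe u
open CategoryTheory CategoryTheory.Limits AlgebraicGeometry
attribute [local instance] HasDerivedCategory.standard
open KSix

namespace Groth.Agent.S6225

/-- Last assertion: a morphism f : X ⟶ Y locally of finite type is (-1)-pseudo-coherent (O_X placed in
degree 0 is (-1)-pseudo-coherent relative to f, in chart form) if and only if f is locally of finite
presentation. -/
theorem result {X Y : Scheme.{u}} (f : X ⟶ Y) [LocallyOfFiniteType f] :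
    DerSch.IsNPseudoCoherent f (-1) ↔ LocallyOfFinitePresentation f := by
  constructor
  · intro hf
    rw [HasRingHomProperty.iff_exists_appLE (P := @LocallyOfFinitePresentation)
      (RingHom.finitePresentation_stableUnderComposition.stableUnderCompositionWithLocalizationAway
        RingHom.finitePresentation_holdsForLocalizationAway).left]
    intro x
    obtain ⟨U, V, hU, hV, h, n, φ, hxU, hφ, hpc⟩ :=
      Groth.Agent.Lib.T2H1.ChartPC.exists_chart_of_isNPseudoCoherent f (-1) hf x
    refine ⟨⟨V, hV⟩, ⟨U, hU⟩, hxU, h, ?_⟩
    have h1 := (Groth.Agent.Lib.T2H1.ChartPCRing.isPC_negOne_iff_finitePresentation φ hφ.1).1 hpc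
    rw [hφ.2] at h1
    exact h1
  · intro hf
    refine Groth.Agent.Lib.T2H1.ChartPC.isNPseudoCoherent_of_forall f (-1)
      fun U V hU hV h n φ hφ => ?_
    refine (Groth.Agent.Lib.T2H1.ChartPCRing.isPC_negOne_iff_finitePresentation φ hφ.1).2 ?_
    rw [hφ.2]
    exact f.finitePresentation_appLE hV hU h

end Groth.Agent.S6225
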