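import Groth.Statements.S6214
import Groth.Agent.Lib.T2H1ChartPCMor
import Groth.Agent.Lib.T2H1SmoothTorSch
import Groth.Agent.Lib.T2H7PerfKos
import Groth.Agent.S6225

set_option autoImplicit false
universe u
open CategoryTheory CategoryTheory.Limits AlgebraicGeometry
attribute [local instance] HasDerivedCategory.standard
open KSix

namespace Groth.Agent.S6214

/-- A morphism f : X ⟶ Y locally of finite type has perfect dimension at most 0 (O_X placed in degree 0
is pseudo-coherent relative to f in chart form and has stalkwise tor amplitude in [0, 0] over the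
local rings of Y) if and only if f is flat and locally of finite presentation. -/
theorem result {X Y : Scheme.{u}} (f : X ⟶ Y) [LocallyOfFiniteType f] :
    DerSch.HasPerfDimLE f 0 ↔ (Flat f ∧ LocallyOfFinitePresentation f) := by
  constructor
  · rintro ⟨hpc, htor⟩
    refine ⟨?_, (Groth.Agent.S6225.result f).1 (hpc (-1))⟩
    rw [Flat.iff_flat_stalkMap]
    intro x
    letI : Algebra (Y.presheaf.stalk (f.base x)) (X.presheaf.stalk x) :=
      (f.stalkMap x).hom.toAlgebra
    have h1 := (Groth.Agent.Lib.T2H1.SmoothTorSch.hasTorDimLE_iff f 0).1 htor x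
    exact (Groth.Agent.Lib.Helper1.TorDim.hasTorDimLE_zero_iff_flat _).1 h1
  · rintro ⟨hfl, hfp⟩
    have hperf := Groth.Agent.Lib.T2H7.PerfKos.perfMor_of_flat_lfp f
    refine ⟨fun m => ?_, ?_⟩
    · refine Groth.Agent.Lib.T2H1.ChartPC.isNPseudoCoherent_of_forall f m
        fun U V hU hV h n φ hφ => ?_
      letI : Algebra Γ(Y, V) Γ(X, U) := (f.appLE V U h).hom.toAlgebra
      exact Groth.Agent.Lib.T2H1.ChartPCRing.isPC_of_pcHom φ hφ.1 hφ.2 (hperf U V hU hV h).1 m
    · refine (Groth.Agent.Lib.T2H1.SmoothTorSch.hasTorDimLE_iff f 0).2 fun x => ?_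
      letI : Algebra (Y.presheaf.stalk (f.base x)) (X.presheaf.stalk x) :=
        (f.stalkMap x).hom.toAlgebra
      exact (Groth.Agent.Lib.Helper1.TorDim.hasTorDimLE_zero_iff_flat _).2 (Flat.stalkMap f x)

end Groth.Agent.S6214
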