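import Groth.Statements.S6223
import Groth.Agent.Lib.T2H1RpushTorAmpE
import Groth.Agent.Lib.T2H1RelPCnoeth
import Groth.Agent.Lib.T2H2AffRedB
import Groth.Agent.S6220

set_option autoImplicit false
universe u
open CategoryTheory CategoryTheory.Limits AlgebraicGeometry
attribute [local instance] HasDerivedCategory.standard
open KSix

namespace Groth.Agent.S6223

/-- Case of a locally Noetherian base: let S be locally Noetherian, p : X ⟶ S and q : Y ⟶ S locally of
finite type, f : X ⟶ Y proper with f ≫ q = p, and F a cochain complex of O_X-modules whose class in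
D(O_X) has bounded cohomology and which is perfect relative to p (pseudo-coherent relative to p in
chart form, and locally on X of finite stalkwise tor amplitude over the local rings of S). Then,
Rf_* being assumed to exist, Rf_* F is perfect relative to q: every cochain complex representing it
is. -/
theorem result {X Y S : Scheme.{u}} [IsLocallyNoetherian S]
    (p : X ⟶ S) (q : Y ⟶ S) [LocallyOfFiniteType p] [LocallyOfFiniteType q] (f : X ⟶ Y) [IsProper f] (w : f ≫ q = p)
    [DCoh.HasRpush f] (F : CochainComplex X.Modules ℤ) (a b : ℤ) [(DCoh.toD X F).IsGE a] [(DCoh.toD X F).IsLE b]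
    (hF : DerSch.IsPerfectRel p F) :
    ∀ F' : CochainComplex Y.Modules ℤ, Nonempty (DCoh.toD Y F' ≅ (DCoh.Rpush f).obj (DCoh.toD X F)) →
      DerSch.IsPerfectRel q F' := by
  intro F' ⟨e⟩
  obtain ⟨hpc, hta⟩ := hF
  haveI : IsLocallyNoetherian X := LocallyOfFiniteType.isLocallyNoetherian p
  refine ⟨?_, ?_⟩
  · have h := Groth.Agent.S6220.result p q f w (DCoh.toD X F) a hpc
    intro m
    rw [Groth.Agent.Lib.T2H1.RelPCnoeth.isPseudoCoherentRel_iff_of_isLocallyNoetherian q m]
    exact Groth.Agent.Lib.T2H2.AffRed.isPseudoCoherentD_of_iso e.symm m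
      ((Groth.Agent.Lib.T2H1.RelPCnoeth.isPseudoCoherentRel_iff_of_isLocallyNoetherian q m _).1
        (h m))
  · subst w
    have hq : DCoh.IsQCohD (DCoh.toD X F) :=
      Groth.Agent.Lib.T2H2.AffRed.isQCohD_of_forall_isPseudoCoherentD _ (fun m =>
        (Groth.Agent.Lib.T2H1.RelPCnoeth.isPseudoCoherentRel_iff_of_isLocallyNoetherian
          (f ≫ q) m _).1 (hpc m))
    have hTA : Groth.Agent.Lib.T2H1.RelPerfTri.LocTA (f ≫ q) (DCoh.toD X F) := fun x => by
      obtain ⟨V, a', b', hx, h⟩ := hta x
      exact ⟨V, a', b', hx, fun y hy =>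
        (Groth.Agent.Lib.T2H1.RelPerfTri.tAat_toD_iff _ a' b' F y).2 (h y hy)⟩
    intro y
    obtain ⟨V, a', b', hy, h⟩ :=
      Groth.Agent.Lib.T2H1.RpushTorAmp.exists_nhd_tAat_Rpush f q _ hq hTA y
    exact ⟨V, a', b', hy, fun y' hy' =>
      (Groth.Agent.Lib.T2H1.RelPerfTri.tAat_toD_iff q a' b' F' y').1
        (Groth.Agent.Lib.T2H1.RelPerfTri.TAat.of_iso q e.symm (h y' hy'))⟩

end Groth.Agent.S6223
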