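import Groth.Statements.S6228
import Groth.Agent.Lib.T2H1RelPCcomp
import Groth.Agent.Lib.T2H2TorAmpComp

set_option autoImplicit false
universe u
open CategoryTheory CategoryTheory.Limits AlgebraicGeometry
attribute [local instance] HasDerivedCategory.standard
open KSix

namespace Groth.Agent.S6228

/-- Let f : X ⟶ Y and g : Y ⟶ Z be locally of finite type, n a natural number with g of perfect
dimension at most n (O_Y placed in degree 0 is pseudo-coherent relative to g in chart form, with
stalkwise tor amplitude in [-n, 0] over the local rings of Z), a and b integers, and F a cochain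
complex of O_X-modules with perfect amplitude in [a, b] relative to f. Then F has perfect amplitude
in [a - n, b] relative to f ≫ g. -/
theorem result {X Y Z : Scheme.{u}} (f : X ⟶ Y) (g : Y ⟶ Z)
    [LocallyOfFiniteType f] [LocallyOfFiniteType g] (n : ℕ) (hg : DerSch.HasPerfDimLE g n) (a b : ℤ)
    (F : CochainComplex X.Modules ℤ) (hF : DerSch.HasPerfAmplitudeRel f a b F) :
    DerSch.HasPerfAmplitudeRel (f ≫ g) (a - n) b F := by
  obtain ⟨hgpc, hgtor⟩ := hg
  obtain ⟨hFpc, hFtor⟩ := hF
  exact ⟨fun m => (Groth.Agent.Lib.T2H1.RelPCpt.isPseudoCoherentRel_comp_iff f g _ m hgpc).1 (hFpc m),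
    Groth.Agent.Lib.T2H2.TorAmpComp.hasTorAmplitude_comp f g n hgtor F a b hFtor⟩

end Groth.Agent.S6228
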