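import Groth.Statements.S6238
import Groth.Agent.Lib.T2H1ChartPCMor
import Groth.Agent.Lib.T2H1KoszulTor

set_option autoImplicit false
universe u
open CategoryTheory CategoryTheory.Limits AlgebraicGeometry
attribute [local instance] HasDerivedCategory.standard
open KSix

namespace Groth.Agent.S6238

/-- An immersion i : Z ⟶ X which is Koszul-regular of codimension d (around every point, over an affine
open of X on which i is a closed immersion, the ideal is generated by d sections whose Koszul
complex is acyclic in positive degrees) has perfect dimension at most d: O_Z placed in degree 0 is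
pseudo-coherent relative to i (chart form) with stalkwise tor amplitude in [-d, 0] over the local
rings of X. -/
theorem result {Z X : Scheme.{u}} (i : Z ⟶ X) (d : ℕ)
    (hi : RegImm.IsRegularImmersionOfCodim RegImm.Kind.koszul d i) :
    DerSch.HasPerfDimLE i d := by
  obtain ⟨himm, hloc⟩ := hi
  haveI := himm
  have hreg : RegImm.IsRegularImmersion .koszul i := ⟨himm, fun z => by
    obtain ⟨U, hzU, hcl, rs, -, hrs, hker⟩ := hloc z
    exact ⟨U, hzU, hcl, rs, hrs, hker⟩⟩
  have hperf := Groth.Agent.Lib.T2H7.PerfKos.perfMor_of_koszulRegularImmersion i hreg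
  refine ⟨fun m => ?_, ?_⟩
  · refine Groth.Agent.Lib.T2H1.ChartPC.isNPseudoCoherent_of_forall i m
      fun U V hU hV h n φ hφ => ?_
    letI : Algebra Γ(X, V) Γ(Z, U) := (i.appLE V U h).hom.toAlgebra
    exact Groth.Agent.Lib.T2H1.ChartPCRing.isPC_of_pcHom φ hφ.1 hφ.2 (hperf U V hU hV h).1 m
  · refine (Groth.Agent.Lib.T2H1.SmoothTorSch.hasTorDimLE_iff i d).2 fun z => ?_
    obtain ⟨U, hzU, hcl, rs, hlen, hrs, hker⟩ := hloc z
    have hVa : IsAffine ((i ⁻¹ᵁ U.1 : Z.Opens) : Scheme.{u}) :=
      isAffine_of_isAffineHom (i ∣_ U.1)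
    have hV : IsAffineOpen (i ⁻¹ᵁ U.1) := hVa
    have hsurj : Function.Surjective (i.app U.1).hom := by
      have h1 : Function.Surjective (i ∣_ U.1).appTop.hom :=
        (i ∣_ U.1).app_surjective ⊤ (isAffineOpen_top _)
      rw [morphismRestrict_appTop] at h1
      have h2 : Function.Surjective (i.app (U.1.ι ''ᵁ ⊤)).hom := by
        intro y
        obtain ⟨x, hx⟩ := h1 ((Z.presheaf.map
          (eqToHom (image_morphismRestrict_preimage i U.1 ⊤)).op).hom y)
        refine ⟨x, ?_⟩
        have hinj : Function.Injective (Z.presheaf.map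
            (eqToHom (image_morphismRestrict_preimage i U.1 ⊤)).op).hom :=
          ((ConcreteCategory.isIso_iff_bijective _).1 inferInstance).1
        exact hinj hx
      exact Groth.Agent.Lib.T2H7.PerfKos.surjective_app_congr i _ _
        (Scheme.Opens.ι_image_top U.1) h2
    have h1 := Groth.Agent.Lib.T2H1.KoszulTor.hasTorDimLE_of_surjective_of_ker_koszul
      (i.app U.1).hom hsurj rs hrs hker
    rw [hlen] at h1
    have h2 : (i.appLE U.1 (i ⁻¹ᵁ U.1) le_rfl).hom = (i.app U.1).hom := by
      rw [Scheme.Hom.appLE_eq_app]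
    exact Groth.Agent.Lib.T2H1.KoszulTor.hasTorDimLE_stalk_of_section i z U.2 hV hzU le_rfl d
      (Groth.Agent.Lib.T2H1.SmoothTorSch.hasTorDimLE_congr_hom _ _ h2.symm d h1)

end Groth.Agent.S6238
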