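import Groth.Statements.S6239


set_option autoImplicit false
universe u
open CategoryTheory CategoryTheory.Limits AlgebraicGeometry
attribute [local instance] HasDerivedCategory.standard
open KSix

namespace Groth.Agent.S6239

/-- Let f : X ⟶ Y be a morphism with X quasi-compact and F a cochain complex of O_X-modules which is
perfect relative to f (pseudo-coherent relative to f in chart form, and locally on X of finite
stalkwise tor amplitude over the local rings of Y). Then F has finite perfect amplitude relative to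
f: one interval [a, b] works at every point of X. -/
theorem result {X Y : Scheme.{u}} [CompactSpace X] (f : X ⟶ Y)
    (F : CochainComplex X.Modules ℤ) (hF : DerSch.IsPerfectRel f F) :
    DerSch.HasFinitePerfAmplitudeRel f F := by
  obtain ⟨hpc, hloc⟩ := hF
  have mono : ∀ (a b a' b' : ℤ) (x : X), a' ≤ a → b ≤ b' →
      DerSch.HasTorAmplitudeAt f a b F x → DerSch.HasTorAmplitudeAt f a' b' F x := by
    intro a b a' b' x ha hb h
    obtain ⟨E, hE, hfl, hiso⟩ := h
    exact ⟨E, fun i hi => hE i (by omega), hfl, hiso⟩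
  choose V a b hxV hV using hloc
  obtain ⟨t, ht⟩ := isCompact_univ.elim_finite_subcover (fun x => ((V x : X.Opens) : Set X))
    (fun x => (V x).isOpen) (fun x _ => Set.mem_iUnion.2 ⟨x, hxV x⟩)
  refine ⟨-((t.sup fun x => (a x).natAbs : ℕ) : ℤ), ((t.sup fun x => (b x).natAbs : ℕ) : ℤ),
    hpc, fun x => ?_⟩
  obtain ⟨y, hy⟩ := Set.mem_iUnion.1 (ht (Set.mem_univ x))
  obtain ⟨hyt, hxy⟩ := Set.mem_iUnion.1 hy
  have h1 : (a y).natAbs ≤ t.sup fun x => (a x).natAbs :=
    Finset.le_sup (f := fun x => (a x).natAbs) hyt
  have h2 : (b y).natAbs ≤ t.sup fun x => (b x).natAbs :=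
    Finset.le_sup (f := fun x => (b x).natAbs) hyt
  refine mono (a y) (b y) _ _ x ?_ ?_ (hV y x hxy)
  · omega
  · omega

end Groth.Agent.S6239
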