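import Groth.Statements.S6242
import Groth.Agent.Lib.T2H1TorDimBC

set_option autoImplicit false
universe u
open CategoryTheory CategoryTheory.Limits AlgebraicGeometry
attribute [local instance] HasDerivedCategory.standard
open KSix

namespace Groth.Agent.S6242

/-- Flat second factor: let S be a scheme and, for i = 1, 2, f_i : X_i ⟶ Y_i a morphism of S-schemes
(structure morphisms q_i : Y_i ⟶ S, and X_i over S through f_i ≫ q_i), with X₂ and Y₂ flat over S.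
Let X = X₁ ×_S X₂ and Y = Y₁ ×_S Y₂, given by pullback squares, and f : X ⟶ Y the morphism
compatible with the two projections. If f₁ has tor dimension at most n₁ and f₂ has tor dimension at
most n₂ (stalkwise: the local ring of the source at each point is isomorphic, in the derived
category of the local ring of the target, to a complex of flat modules placed in [-n_i, 0]), then f
has tor dimension at most n₁ + n₂; in particular f has finite tor dimension. (The published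
statement assumes only that X₁, X₂ and Y₁, Y₂ are tor-independent over S; this row takes X₂ and Y₂
flat over S, which implies both conditions, and records the bound n₁ + n₂ that the published proof
gives.) -/
theorem result {S X₁ Y₁ X₂ Y₂ X Y : Scheme.{u}} (f₁ : X₁ ⟶ Y₁) (q₁ : Y₁ ⟶ S)
    (f₂ : X₂ ⟶ Y₂) (q₂ : Y₂ ⟶ S) [Flat q₂] [Flat (f₂ ≫ q₂)]
    (pX₁ : X ⟶ X₁) (pX₂ : X ⟶ X₂) (hX : IsPullback pX₁ pX₂ (f₁ ≫ q₁) (f₂ ≫ q₂))
    (pY₁ : Y ⟶ Y₁) (pY₂ : Y ⟶ Y₂) (hY : IsPullback pY₁ pY₂ q₁ q₂)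
    (f : X ⟶ Y) (hf₁ : f ≫ pY₁ = pX₁ ≫ f₁) (hf₂ : f ≫ pY₂ = pX₂ ≫ f₂)
    (n₁ n₂ : ℕ) (h₁ : DerSch.HasTorDimLE f₁ n₁) (h₂ : DerSch.HasTorDimLE f₂ n₂) :
    DerSch.HasTorDimLE f (n₁ + n₂) := by
  open Groth.Agent.Lib.T2H1.TorDimBC in
  have hZ : IsPullback (pullback.fst q₁ (f₂ ≫ q₂)) (pullback.snd q₁ (f₂ ≫ q₂)) q₁ (f₂ ≫ q₂) :=
    IsPullback.of_hasPullback _ _
  let g₁ : X ⟶ pullback q₁ (f₂ ≫ q₂) := pullback.lift (pX₁ ≫ f₁) pX₂ (by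
    rw [Category.assoc]; exact hX.w)
  let g₂ : pullback q₁ (f₂ ≫ q₂) ⟶ Y := hY.lift (pullback.fst q₁ (f₂ ≫ q₂))
    (pullback.snd q₁ (f₂ ≫ q₂) ≫ f₂) (by rw [Category.assoc]; exact pullback.condition)
  have hg₁₁ : g₁ ≫ pullback.fst q₁ (f₂ ≫ q₂) = pX₁ ≫ f₁ := pullback.lift_fst _ _ _
  have hg₁₂ : g₁ ≫ pullback.snd q₁ (f₂ ≫ q₂) = pX₂ := pullback.lift_snd _ _ _
  have hg₂₁ : g₂ ≫ pY₁ = pullback.fst q₁ (f₂ ≫ q₂) := hY.lift_fst _ _ _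
  have hg₂₂ : g₂ ≫ pY₂ = pullback.snd q₁ (f₂ ≫ q₂) ≫ f₂ := hY.lift_snd _ _ _
  have hfg : f = g₁ ≫ g₂ := by
    apply hY.hom_ext
    · rw [Category.assoc, hg₂₁, hf₁, hg₁₁]
    · rw [Category.assoc, hg₂₂, hf₂, ← Category.assoc, hg₁₂]
  have hsq₁ : IsPullback g₁ pX₁ (pullback.fst q₁ (f₂ ≫ q₂)) f₁ := by
    refine IsPullback.of_right (h₁₂ := pullback.snd q₁ (f₂ ≫ q₂)) (h₂₂ := q₁)
      (v₁₃ := f₂ ≫ q₂) ?_ hg₁₁ hZ.flip
    rw [hg₁₂]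
    exact hX.flip
  haveI : Flat (pullback.fst q₁ (f₂ ≫ q₂)) := MorphismProperty.pullback_fst _ _ inferInstance
  have hpg₁ : DerSch.HasTorDimLE g₁ n₁ :=
    hasTorDimLE_of_isPullback_of_flat f₁ g₁ pX₁ (pullback.fst q₁ (f₂ ≫ q₂)) hsq₁.flip n₁ h₁
  have hpg₂ : DerSch.HasTorDimLE g₂ n₂ :=
    hasTorDimLE_torIndep q₁ q₂ f₂ pY₁ pY₂ hY _ _ hZ g₂ hg₂₁ hg₂₂ n₂ h₂
  have h := Groth.Agent.Lib.T2H2.TorAmpComp.hasTorAmplitude_comp g₁ g₂ n₂ hpg₂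
    (DerSch.unitCx X) (-(n₁ : ℤ)) 0 hpg₁
  have hn : (-(n₁ : ℤ) - (n₂ : ℤ)) = -((n₁ + n₂ : ℕ) : ℤ) := by push_cast; ring
  rw [hn] at h
  rw [hfg]
  exact h

end Groth.Agent.S6242
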