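import Groth.Statements.S6256
import Groth.Agent.Lib.T2H1RelPCLTensorLpull
import Groth.Agent.Lib.T2H1LpullTensorTorAmp

set_option autoImplicit false
universe u
open CategoryTheory CategoryTheory.Limits AlgebraicGeometry
attribute [local instance] HasDerivedCategory.standard
open KSix

namespace Groth.Agent.S6256

/-- Let f : X ⟶ Y and g : Y ⟶ Z be morphisms of schemes locally of finite type with composite h, let a,
b, c, d be integers, let E be a cochain complex of O_X-modules with perfect amplitude in [a, b]
relative to f (pseudo-coherent relative to f in chart form, with stalkwise tor amplitude in [a, b]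
over the local rings of Y) and F a cochain complex of O_Y-modules with perfect amplitude in [c, d]
relative to g. Then, the derived pullback Lf^* and the derived tensor product with E being assumed
to exist, Lf^* F ⊗^L E has perfect amplitude in [a + c, b + d] relative to h: every cochain complex
representing it does; in particular it is perfect relative to h when E and F are perfect relative to
f and g. (The published statement writes the relative derived tensor product of E and F over Y,
defined as E ⊗^L Lf^* F; this row takes the derived tensor product with E as the fixed right-hand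
factor.) -/
theorem result {X Y Z : Scheme.{u}} (f : X ⟶ Y) (g : Y ⟶ Z) (h : X ⟶ Z)
    (w : f ≫ g = h) [LocallyOfFiniteType f] [LocallyOfFiniteType g] (a b c d : ℤ)
    (E : CochainComplex X.Modules ℤ) (hE : DerSch.HasPerfAmplitudeRel f a b E)
    (F : CochainComplex Y.Modules ℤ) (hF : DerSch.HasPerfAmplitudeRel g c d F)
    [DCoh.HasLpull f] [DCoh.HasLTensorCx E] :
    ∀ K : CochainComplex X.Modules ℤ,
      Nonempty (DCoh.toD X K ≅ (DCoh.LTensorCx E).obj ((DCoh.Lpull f).obj (DCoh.toD Y F))) →
        DerSch.HasPerfAmplitudeRel h (a + c) (b + d) K := by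
  subst w
  intro K ⟨eK⟩
  haveI : LocallyOfFiniteType (f ≫ g) := inferInstance
  have hEq : DCoh.IsQCohD (DCoh.toD X E) :=
    Groth.Agent.Lib.T2H8.PCohRelQCoh.main_S6235 f _ hE.1
  have hFq : DCoh.IsQCohD (DCoh.toD Y F) :=
    Groth.Agent.Lib.T2H8.PCohRelQCoh.main_S6235 g _ hF.1
  refine ⟨fun t => ?_, ?_⟩
  · have h1 := Groth.Agent.Lib.T2H1.RelPCLTensorLpull.isPseudoCoherentRel_LTensorCx_Lpull f g E hEq
      hE.1 (DCoh.toD Y F) hFq hF.1 t
    rw [Groth.Agent.Lib.T2H1.RelPCpt.isPseudoCoherentRel_iff_forall_relPt] at h1 ⊢
    exact fun x => (Groth.Agent.Lib.T2H1.RelPCpt.relPt_of_iso (f ≫ g) t eK x).2 (h1 x)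
  · exact Groth.Agent.Lib.T2H1.LpullTensorTorAmp.hasTorAmplitudeD_LTensorCx_Lpull f g E a b hE.2
      F c d hF.2 K ⟨eK⟩

end Groth.Agent.S6256
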