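import Groth.Statements.S6260
import Groth.Agent.Lib.T2H1TorIndepBC

set_option autoImplicit false
universe u
open CategoryTheory CategoryTheory.Limits AlgebraicGeometry
attribute [local instance] HasDerivedCategory.standard
open KSix

namespace Groth.Agent.S6260

/-- Let S be a scheme and, for i = 1, 2, f_i : X_i ⟶ Y_i a morphism of S-schemes (structure morphisms
q_i : Y_i ⟶ S), with X₂ and Y₂ flat over S; let X = X₁ ×_S X₂ and Y = Y₁ ×_S Y₂ be given by pullback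
squares, with projections p₁ : X ⟶ X₁, p₂ : X ⟶ X₂, and f : X ⟶ Y the morphism compatible with the
projections. If f₁ and f₂ are locally of finite type and pseudo-coherent (their structure sheaves in
degree 0 are n-pseudo-coherent relative to them for every n, in chart form), then f = f₁ ×_S f₂ is
pseudo-coherent. (The published statement assumes only that X₁, X₂ and Y₁, Y₂ are tor-independent
over S; this row takes X₂ and Y₂ flat over S, which implies both conditions.) -/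
theorem result {S X₁ Y₁ X₂ Y₂ X Y : Scheme.{u}} (f₁ : X₁ ⟶ Y₁) (q₁ : Y₁ ⟶ S)
    (f₂ : X₂ ⟶ Y₂) (q₂ : Y₂ ⟶ S) [Flat q₂] [Flat (f₂ ≫ q₂)]
    (pX₁ : X ⟶ X₁) (pX₂ : X ⟶ X₂) (hX : IsPullback pX₁ pX₂ (f₁ ≫ q₁) (f₂ ≫ q₂))
    (pY₁ : Y ⟶ Y₁) (pY₂ : Y ⟶ Y₂) (hY : IsPullback pY₁ pY₂ q₁ q₂)
    (f : X ⟶ Y) (hf₁ : f ≫ pY₁ = pX₁ ≫ f₁) (hf₂ : f ≫ pY₂ = pX₂ ≫ f₂)
    [LocallyOfFiniteType f₁] [LocallyOfFiniteType f₂]
    (h₁ : ∀ n : ℤ, DerSch.IsNPseudoCoherent f₁ n) (h₂ : ∀ n : ℤ, DerSch.IsNPseudoCoherent f₂ n) (n : ℤ) :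
    DerSch.IsNPseudoCoherent f n := by
  open Groth.Agent.Lib.T2H1.PCm Groth.Agent.Lib.T2H1.TorIndepBC in
  rw [isNPseudoCoherent_iff_ppcm]
  have hp₁ : Ppcm n f₁ := (isNPseudoCoherent_iff_ppcm f₁ n).1 (h₁ n)
  have hp₂ : Ppcm n f₂ := (isNPseudoCoherent_iff_ppcm f₂ n).1 (h₂ n)
  have hZ : IsPullback (pullback.fst q₁ (f₂ ≫ q₂)) (pullback.snd q₁ (f₂ ≫ q₂)) q₁ (f₂ ≫ q₂) :=
    IsPullback.of_hasPullback _ _
  let g₁ : X ⟶ pullback q₁ (f₂ ≫ q₂) := pullback.lift (pX₁ ≫ f₁) pX₂ (by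
    rw [Category.assoc]; exact hX.w)
  let g₂ : pullback q₁ (f₂ ≫ q₂) ⟶ Y := hY.lift (pullback.fst q₁ (f₂ ≫ q₂))
    (pullback.snd q₁ (f₂ ≫ q₂) ≫ f₂) (by rw [Category.assoc]; exact pullback.condition)
  have hg₁₁ : g₁ ≫ pullback.fst q₁ (f₂ ≫ q₂) = pX₁ ≫ f₁ := pullback.lift_fst _ _ _
  have hg₁₂ : g₁ ≫ pullback.snd q₁ (f₂ ≫ q₂) = pX₂ := pullback.lift_snd _ _ _
  have hg₂₁ : g₂ ≫ pY₁ = pullback.fst q₁ (f₂ ≫ q₂) := hY.lift_fst _ _ _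
  have hg₂₂ : g₂ ≫ pY₂ = pullback.snd q₁ (f₂ ≫ q₂) ≫ f₂ := hY.lift_snd _ _ _
  have hfg : f = g₁ ≫ g₂ := by
    apply hY.hom_ext
    · rw [Category.assoc, hg₂₁, hf₁, hg₁₁]
    · rw [Category.assoc, hg₂₂, hf₂, ← Category.assoc, hg₁₂]
  have hsq₁ : IsPullback g₁ pX₁ (pullback.fst q₁ (f₂ ≫ q₂)) f₁ := by
    refine IsPullback.of_right (h₁₂ := pullback.snd q₁ (f₂ ≫ q₂)) (h₂₂ := q₁)
      (v₁₃ := f₂ ≫ q₂) ?_ hg₁₁ hZ.flip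
    rw [hg₁₂]
    exact hX.flip
  haveI : Flat (pullback.fst q₁ (f₂ ≫ q₂)) := MorphismProperty.pullback_fst _ _ inferInstance
  have hpg₁ : Ppcm n g₁ := ppcm_baseChange n f₁ g₁ pX₁ (pullback.fst q₁ (f₂ ≫ q₂)) hsq₁.flip hp₁
  have hpg₂ : Ppcm n g₂ :=
    ppcm_torIndep n q₁ q₂ f₂ pY₁ pY₂ hY _ _ hZ g₂ hg₂₁ hg₂₂ hp₂
  have h := ppcm_comp g₁ g₂ n n hpg₁ hpg₂
  rw [max_self] at h
  rw [hfg]
  exact h

end Groth.Agent.S6260
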