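import Groth.Statements.S6481
import Mathlib
import Mathlib
import Groth.Agent.Lib.T2H4GlueF
set_option backward.isDefEq.respectTransparency.types false

set_option autoImplicit false
universe u
open CycAlg

namespace Groth.Agent.S6481

/-- Let (A, 𝔪) be a 2-dimensional Noetherian local ring, t ∈ 𝔪 a nonzerodivisor with V(t) = {𝔪, 𝔮_1, …,
𝔮_r}, and A_{𝔮_i} ⊂ B_i finite ring extensions with B_i/A_{𝔮_i} annihilated by a power of t and with
t a nonzerodivisor on each B_i. Then A admits some finite extension A ⊂ B whose quotient B/A is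
killed by some power of t, such that for every i the localization B_{𝔮_i} = B ⊗_A A_{𝔮_i} is
isomorphic to B_i (existence of an A_{𝔮_i}-algebra isomorphism; B itself is only asserted to exist).
(The published statement allows any finite ring extensions A_{𝔮_i} ⊂ B_i; this row asks t to be a
nonzerodivisor on each B_i, the case its proof treats, where B_i sits inside t^{-n}A_{𝔮_i}. The
published statement also makes B local with the same residue field as A; this row omits that
clause.) Finite extension with quotient killed by a power of t: CycAlg.IsFinExt with the ideal (t). -/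
theorem result (A : Type u) [CommRing A] [IsNoetherianRing A] [IsLocalRing A] (hA : ringKrullDim A = 2) (t : A) (ht : t ∈ IsLocalRing.maximalIdeal A) (htnz : t ∈ nonZeroDivisors A) (r : ℕ) (q : Fin r → Ideal A) (hq : ∀ i, (q i).IsPrime) (hinj : Function.Injective q) (hqm : ∀ i, q i ≠ IsLocalRing.maximalIdeal A) (htq : ∀ i, t ∈ q i) (hV : ∀ p : Ideal A, p.IsPrime → t ∈ p → p = IsLocalRing.maximalIdeal A ∨ ∃ i, p = q i) (B : Fin r → Type u) [∀ i, CommRing (B i)] [∀ i, Algebra (Localization.AtPrime (q i)) (B i)] (hB : ∀ i, CycAlg.IsFinExt (Localization.AtPrime (q i)) (B i) (Ideal.span {algebraMap A (Localization.AtPrime (q i)) t})) (htB : ∀ i, IsSMulRegular (B i) (algebraMap A (Localization.AtPrime (q i)) t)) : ∃ (C : Type u) (_ : CommRing C) (_ : Algebra A C), CycAlg.IsFinExt A C (Ideal.span {t}) ∧ ∀ i, Nonempty (TensorProduct A (Localization.AtPrime (q i)) C ≃ₐ[Localization.AtPrime (q i)] B i) := by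
  classical
  -- common exponent
  choose hinjB hfinite nI hnI using fun i => hB i
  set n : ℕ := ∑ i, nI i with hndef
  have hn : ∀ i (b : B i), ∃ α : Localization.AtPrime (q i),
      algebraMap (Localization.AtPrime (q i)) (B i) α =
        (algebraMap A (Localization.AtPrime (q i)) t) ^ n • b := by
    intro i b
    have hle : nI i ≤ n := Finset.single_le_sum (f := nI) (fun _ _ => Nat.zero_le _) (Finset.mem_univ i)
    have hmem : (algebraMap A (Localization.AtPrime (q i)) t) ^ n ∈
        Ideal.span {algebraMap A (Localization.AtPrime (q i)) t} ^ nI i := by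
      have e : n = (n - nI i) + nI i := by omega
      rw [e, pow_add]
      exact Ideal.mul_mem_left _ _ (Ideal.pow_mem_pow (Ideal.mem_span_singleton_self _) _)
    obtain ⟨α, hα⟩ := hnI i _ hmem b
    exact ⟨α, hα⟩
  -- incomparability of the q i
  have hmax_height : (IsLocalRing.maximalIdeal A).height = 2 := by
    have h3 : ((IsLocalRing.maximalIdeal A).height : WithBot ℕ∞) = 2 := by
      rw [IsLocalRing.maximalIdeal_height_eq_ringKrullDim, hA]
    have h4 : ((IsLocalRing.maximalIdeal A).height : WithBot ℕ∞) = ((2 : ℕ∞) : WithBot ℕ∞) := by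
      rw [h3]; rfl
    exact WithBot.coe_injective h4
  have hne : ∀ i j, q j ≤ q i → j = i := by
    intro i j hji
    by_contra hne
    have hlt : q j < q i := lt_of_le_of_ne hji (fun h => hne (hinj h))
    have hlt2 : q i < IsLocalRing.maximalIdeal A :=
      lt_of_le_of_ne (IsLocalRing.le_maximalIdeal (hq i).ne_top) (hqm i)
    have h1 : (1 : ℕ∞) ≤ (q j).height :=
      (Ideal.one_le_height_span_singleton_of_mem_nonZeroDivisors htnz).trans
        (Ideal.height_mono ((Ideal.span_singleton_le_iff_mem _).mpr (htq j)))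
    have h2 := Ideal.height_add_one_le_of_lt_of_isPrime hlt
    have h3 := Ideal.height_add_one_le_of_lt_of_isPrime hlt2
    rw [hmax_height] at h3
    have h4 : (1 : ℕ∞) + 1 + 1 ≤ 2 :=
      ((add_le_add_left ((add_le_add_left h1 1).trans h2) 1).trans h3)
    exact absurd h4 (by decide)
  have hrad : ∀ i, ∀ p : Ideal A, p.IsPrime → p ≤ q i → t ∈ p → p = q i := by
    intro i p hp hpq htp
    rcases hV p hp htp with h | ⟨j, hj⟩
    · exfalso
      rw [h] at hpq
      exact hqm i (le_antisymm (IsLocalRing.le_maximalIdeal (hq i).ne_top) hpq)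
    · rw [hj] at hpq ⊢
      rw [hne i j hpq]
  obtain ⟨c, hc⟩ := Groth.Agent.Lib.T2H4.Glue.exists_pow_smul_le (t := t) (q := q) (B := B)
    hV hinjB htB n hn
  haveI hCfin := Groth.Agent.Lib.T2H4.Glue.finite_glueSub hc
  refine ⟨Groth.Agent.Lib.T2H4.Glue.glueSub n c hc, inferInstance, inferInstance,
    ⟨?_, hCfin, ⟨n, ?_⟩⟩, fun i => ?_⟩
  · intro a b hab
    have h1 : algebraMap A (Localization.Away t) a = algebraMap A (Localization.Away t) b :=
      congrArg Subtype.val hab
    exact IsLocalization.injective (Localization.Away t) (Submonoid.powers_le.mpr htnz) h1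
  · intro y hy cc
    rw [Ideal.span_singleton_pow, Ideal.mem_span_singleton'] at hy
    obtain ⟨β, rfl⟩ := hy
    obtain ⟨⟨a, ha⟩, -⟩ := Groth.Agent.Lib.T2H4.Glue.glueSub_le_Mn hc cc.2
    refine ⟨β * a, Subtype.ext ?_⟩
    change algebraMap A (Localization.Away t) (β * a) = ((β * t ^ n) • cc : _)
    rw [Subalgebra.coe_smul, Algebra.smul_def, map_mul, map_mul, map_pow, ← ha]
    ring
  · exact Groth.Agent.Lib.T2H4.Glue.nonempty_tensor_glueSub i hc hqm hne hrad hinjB htB hn

end Groth.Agent.S6481
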