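import Groth.Statements.S6484
import Mathlib
-- import your own Groth.Agent.* helpers here

set_option autoImplicit false
universe u
open CategoryTheory AlgebraicGeometry
open CategoryTheory.Limits
open Cyc

namespace Groth.Agent.S6484

theorem desc_eq {X : Scheme.{u}} (K : Type u) [Field K] (x : X) (ψ : X.residueField x ⟶ .of K)
    (s : Spec (.of K) ⟶ X) (hs : s = Spec.map ψ ≫ X.fromSpecResidueField x) :
    ∃ e : s (IsLocalRing.closedPoint K) = x,
      Scheme.descResidueField (Scheme.stalkClosedPointTo s) = (X.residueFieldCongr e).hom ≫ ψ := by
  subst hs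
  have h2 := (Scheme.SpecToEquivOfField K X).right_inv ⟨x, ψ⟩
  rw [Scheme.SpecToEquivOfField_eq_iff] at h2
  exact h2

/-- If f : Y → X is completely decomposed (this prelude's Cyc.IsCompletelyDecomposed: over every point
of X lies a point of Y with trivial residue field extension) and g : X' → X is any morphism of
schemes, then the base change Y ×_X X' → X' is completely decomposed. Consequently the base change
of an envelope (a proper completely decomposed morphism) is an envelope, properness being preserved
by base change. (The published envelope statement takes X′ → X between schemes locally of finite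
type over a base; this row allows any g.) -/
theorem result (X X' Y : Scheme.{u}) (f : Y ⟶ X) (g : X' ⟶ X) (hcd : Cyc.IsCompletelyDecomposed f) : Cyc.IsCompletelyDecomposed (pullback.snd f g) := by
  intro x'
  obtain ⟨y, hy, hsurj⟩ := hcd (g x')
  have hbij : Function.Bijective (f.residueFieldMap y).hom :=
    ⟨(f.residueFieldMap y).hom.injective, hsurj⟩
  have hiso : IsIso (f.residueFieldMap y) := by
    rw [ConcreteCategory.isIso_iff_bijective]
    exact hbij
  let φ : Y.residueField y ⟶ X'.residueField x' :=
    inv (f.residueFieldMap y) ≫ (X.residueFieldCongr hy).hom ≫ g.residueFieldMap x'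
  have hφ : f.residueFieldMap y ≫ φ = (X.residueFieldCongr hy).hom ≫ g.residueFieldMap x' := by
    simp only [φ, IsIso.hom_inv_id_assoc]
  let a : Spec (X'.residueField x') ⟶ Y := Spec.map φ ≫ Y.fromSpecResidueField y
  let b : Spec (X'.residueField x') ⟶ X' := X'.fromSpecResidueField x'
  have hab : a ≫ f = b ≫ g := by
    simp only [a, b, Category.assoc]
    rw [← Scheme.Hom.SpecMap_residueFieldMap_fromSpecResidueField,
      ← Scheme.Hom.SpecMap_residueFieldMap_fromSpecResidueField, ← Spec.map_comp_assoc, hφ,
      Spec.map_comp_assoc, Scheme.residueFieldCongr_fromSpecResidueField]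
  let t : Spec (.of (X'.residueField x')) ⟶ pullback f g := pullback.lift a b hab
  have htb : t ≫ pullback.snd f g = X'.fromSpecResidueField x' := pullback.lift_snd _ _ _
  let pt : Spec (.of (X'.residueField x')) := IsLocalRing.closedPoint (X'.residueField x')
  refine ⟨t pt, ?_, ?_⟩
  · rw [← Scheme.Hom.comp_apply, htb]
    exact Scheme.fromSpecResidueField_apply _ _
  · have h1 := Scheme.descResidueField_stalkClosedPointTo_comp (pullback.snd f g) t
    obtain ⟨e2, he2⟩ := desc_eq (X'.residueField x') x' (𝟙 _) (t ≫ pullback.snd f g)
      (by rw [htb, Spec.map_id]; exact (Category.id_comp _).symm)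
    rw [Category.comp_id] at he2
    replace h1 := he2.symm.trans h1
    intro z
    let ψ := Scheme.descResidueField (Scheme.stalkClosedPointTo t)
    have key : ∀ w, ψ.hom ((Scheme.Hom.residueFieldMap (pullback.snd f g) (t pt)).hom w) =
        (X'.residueFieldCongr e2).hom.hom w := by
      intro w
      exact (congrArg (fun m => m.hom w) h1).symm
    refine ⟨(X'.residueFieldCongr e2).inv.hom (ψ.hom z), ?_⟩
    apply ψ.hom.injective
    refine (key _).trans ?_
    exact congrArg (fun m => m.hom (ψ.hom z)) (X'.residueFieldCongr e2).inv_hom_id

end Groth.Agent.S6484
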