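import Groth.Statements.S6500
import Groth.Agent.Lib.Helper6SmRegSch
import Groth.Agent.Lib.Helper4FibDimL
import Groth.Agent.Lib.T2H7PdTorC
import Groth.Agent.S0563

set_option autoImplicit false
universe u
open CategoryTheory CategoryTheory.Limits AlgebraicGeometry
attribute [local instance] HasDerivedCategory.standard
open IntMult

namespace Groth.Agent.S6500

/-- Let X be a nonsingular variety of dimension n and F, G coherent O_X-modules. The Tor sheaves
Tor_p^{O_X}(F, G), whose stalks are Tor_p^{O_{X,x}}(F_x, G_x), are nonzero only for p ∈ {0, …, n}: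
for every point x and every p > n, Tor_p^{O_{X,x}}(F_x, G_x) = 0. (Coherence of the Tor sheaves and
the support statement are not restated.) Nonsingular variety: X → Spec K smooth, separated,
quasi-compact, X integral, K algebraically closed; n = dim X. -/
theorem result (K : Type u) [Field K] [IsAlgClosed K] (X : Scheme.{u}) (f : X ⟶ Spec (CommRingCat.of K)) [Smooth f] [IsSeparated f] [QuasiCompact f] [IsIntegral X] (n : ℕ) (hn : topologicalKrullDim X = n) (F G : X.Modules) (hF : Coh.IsCoh F) (hG : Coh.IsCoh G) (x : X) (p : ℕ) (hp : n < p) : Subsingleton (DRing.Tor ↑(X.presheaf.stalk x) p ↑(F.presheaf.stalk x) ↑(G.presheaf.stalk x)) := by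
  have hreg : IsRegularLocalRing (X.presheaf.stalk x) :=
    Groth.Agent.Lib.Helper6.SmRegSch.isRegularLocalRing_stalk_of_smooth_over_field K X f x
  have hdle : ringKrullDim (X.presheaf.stalk x) ≤ n :=
    (Groth.Agent.Lib.Helper4.FibDim.ringKrullDim_stalk_le_topologicalKrullDim X x).trans hn.le
  have hne : ringKrullDim (X.presheaf.stalk x) ≠ ⊤ := ringKrullDim_ne_top
  have hne' : ringKrullDim (X.presheaf.stalk x) ≠ ⊥ := ringKrullDim_ne_bot
  obtain ⟨d', hd'⟩ := WithBot.ne_bot_iff_exists.mp hne'
  have hd'top : d' ≠ ⊤ := by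
    rintro rfl
    exact hne hd'.symm
  obtain ⟨d, hdd⟩ := ENat.ne_top_iff_exists.mp hd'top
  have hdim : ringKrullDim (X.presheaf.stalk x) = (d : ℕ) := by
    rw [← hd', ← hdd]
    rfl
  have hdn : d ≤ n := by
    rw [hdim] at hdle
    exact_mod_cast hdle
  have hpd := Groth.Agent.S0563.result (X.presheaf.stalk x) d hdim (F.presheaf.stalk x)
  have hpd' : HasProjectiveDimensionLT
      (ModuleCat.of (X.presheaf.stalk x) (F.presheaf.stalk x)) p :=
    hasProjectiveDimensionLT_of_ge _ (d + 1) p (by omega)
  have hz := Groth.Agent.Lib.T2H7.PdTorC.isZero_tor_of_hasProjectiveDimensionLT p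
    (F.presheaf.stalk x) hpd' (ModuleCat.of (X.presheaf.stalk x) (G.presheaf.stalk x))
  exact ModuleCat.subsingleton_of_isZero hz

end Groth.Agent.S6500
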