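import Groth.Statements.S6514
import Mathlib
import Groth.Agent.S0481
import Groth.Agent.Lib.T2H5FlatPullback
-- import your own Groth.Agent.* helpers here

set_option autoImplicit false
universe u
open CategoryTheory
open DCoh

namespace Groth.Agent.S6514

open AlgebraicGeometry in
/-- If f : X → Y is a flat morphism of schemes and I is a K-injective complex of O_X-modules, then f_* I
(direct image applied termwise) is a K-injective complex of O_Y-modules. (The published statement is
for flat morphisms of ringed spaces; this row is for flat morphisms of schemes.) -/
theorem result {X Y : Scheme.{u}} (f : X ⟶ Y) [Flat f]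
    (I : CochainComplex X.Modules ℤ) (hI : I.IsKInjective) :
    CochainComplex.IsKInjective (((Scheme.Modules.pushforward f).mapHomologicalComplex (ComplexShape.up ℤ)).obj I) := by
  haveI := Groth.Agent.Lib.T2H5.FlatPullback.preservesFiniteLimits_pullback f
  haveI := Groth.Agent.Lib.T2H5.FlatPullback.preservesFiniteColimits_pullback f
  haveI := Groth.Agent.Lib.T2H5.FlatPullback.additive_pullback f
  exact Groth.Agent.S0481.result (Scheme.Modules.pushforward f) (Scheme.Modules.pullback f)
    (Scheme.Modules.pullbackPushforwardAdjunction f) I hI

end Groth.Agent.S6514
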