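import Groth.Statements.S6544
import Groth.Agent.Lib.T2H9CurveOmega
import Groth.Agent.Lib.T2H9CurvH0
import Groth.Agent.Lib.T2H6CurveSmooth
import Groth.Agent.Lib.T2H9PtDeg

set_option autoImplicit false
set_option linter.style.haveILetI false
set_option linter.unusedVariables false
universe u
open CategoryTheory CategoryTheory.Limits AlgebraicGeometry
open Curves

namespace Groth.Agent.S6544

/-- Let X be a proper curve over the field k (proper, integral, of dimension one) which is smooth and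
geometrically irreducible over k, of genus 0. If X has an invertible O_X-module of odd degree, then
X is isomorphic to P^1_k over k. -/
theorem result (k : Type u) [Field k] (X : Scheme.{u}) [X.Over (Spec (CommRingCat.of k))]
    [IsIntegral X] [IsProper (X ↘ (Spec (CommRingCat.of k)))] (hdim : topologicalKrullDim X = 1)
    [Smooth (X ↘ (Spec (CommRingCat.of k)))] [GeometricallyIrreducible (X ↘ (Spec (CommRingCat.of k)))] (hg : Curv2.genus k X = 0)
    (L : X.Modules) (hL : PicF.IsInvertible L) (hodd : Odd (Curv2.deg k X L 1)) :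
    ∃ e : X ≅ CohB1.ProjSpace 1 k, e.hom ≫ CohB1.ProjSpace.toSpec 1 k = X ↘ (Spec (CommRingCat.of k)) := by
  have hreg := fun x => Groth.Agent.Lib.T2H6.CurveSmooth.isRegularLocalRing_stalk k X x
  haveI : GeometricallyConnected (X ↘ Spec (CommRingCat.of k)) := by
    refine ⟨fun K _ y Z fst snd h => ?_⟩
    haveI : IrreducibleSpace Z :=
      GeometricallyIrreducible.geometrically_irreducibleSpace (f := X ↘ Spec (CommRingCat.of k)) y fst snd h
    exact inferInstanceAs (ConnectedSpace Z)
  have h0 : Module.finrank k (Coh.HH X (Coh.structureModule X) 0) = 1 :=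
    (Groth.Agent.Lib.T2H9.CurvH0.main k X).1.2 inferInstance
  obtain ⟨ω, tr', -, -, hinv, hdω, -, -⟩ :=
    Groth.Agent.Lib.T2H9.CurveOmega.exists_omega k hdim hreg h0 (X := X)
  rw [hg] at hdω
  have hO := Groth.Agent.Lib.T2H5.GenIsoF.isCoh_structureModule (Z := X)
  haveI : Module.Finite k (Coh.HH X (Coh.structureModule X) 1) :=
    Groth.Agent.Lib.T2H6.EulerField.finite_HH k X _ hO 1
  have h1 : Subsingleton (Coh.HH X (Coh.structureModule X) 1) :=
    (Module.finrank_zero_iff (R := k)).1 hg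
  obtain ⟨a, ha⟩ := hodd
  have hL' : Curv2.deg k X L 1 ∈ Groth.Agent.Lib.T2H9.PtDeg.degSubgroup k hdim := ⟨L, hL, rfl⟩
  have hω' : (-2 : ℤ) ∈ Groth.Agent.Lib.T2H9.PtDeg.degSubgroup k hdim :=
    ⟨ω, hinv, by rw [hdω]; norm_num⟩
  have h1' : (1 : ℤ) ∈ Groth.Agent.Lib.T2H9.PtDeg.degSubgroup k hdim := by
    have h2 := (Groth.Agent.Lib.T2H9.PtDeg.degSubgroup k hdim).add_mem hL'
      ((Groth.Agent.Lib.T2H9.PtDeg.degSubgroup k hdim).zsmul_mem hω' a)
    have h3 : Curv2.deg k X L 1 + a • (-2 : ℤ) = 1 := by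
      rw [ha, smul_eq_mul]
      ring
    rwa [h3] at h2
  obtain ⟨N, hN, hdN⟩ := h1'
  exact Groth.Agent.Lib.T2H9.P1Iso.exists_iso_of_h1_zero k hdim h1 N hN hdN

end Groth.Agent.S6544
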