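import Groth.Statements.S6554
import Mathlib
import Groth.Agent.Lib.T2H3GenEtale

set_option autoImplicit false
set_option linter.style.haveILetI false
universe u
open CategoryTheory CategoryTheory.Limits AlgebraicGeometry
open Curves

namespace Groth.Agent.S6554

/-- (3) ⇔ (4) ⇔ (5): let k be a field and f : X → Y a morphism over k of smooth curves over k (integral,
separated, of finite type and smooth over k, of dimension one) which is nonconstant: f(ξ_X) = ξ_Y
for the generic points ξ_X of X and ξ_Y of Y (hypothesis e), so that the function field k(Y) maps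
into k(X). Then: some nonempty open U ⊆ X has f|_U unramified if and only if some nonempty open U ⊆
X has f|_U étale; and the latter holds if and only if k(X)/k(Y) is a finite separable extension.
(The published statement also lists two further equivalent conditions, that df : f^*Ω_{Y/k} →
Ω_{X/k} is nonzero and that Ω_{X/Y} is supported on a proper closed subset; this row omits them. For
a constant f every condition stated here fails, so assuming f nonconstant loses nothing.) -/
theorem result (k : Type u) [Field k]
    (X Y : Scheme.{u}) [X.Over (Spec (CommRingCat.of k))] [Y.Over (Spec (CommRingCat.of k))]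
    [IsIntegral X] [IsSeparated (X ↘ (Spec (CommRingCat.of k)))] [LocallyOfFiniteType (X ↘ (Spec (CommRingCat.of k)))] [QuasiCompact (X ↘ (Spec (CommRingCat.of k)))] (hdX : topologicalKrullDim X = 1) [Smooth (X ↘ (Spec (CommRingCat.of k)))]
    [IsIntegral Y] [IsSeparated (Y ↘ (Spec (CommRingCat.of k)))] [LocallyOfFiniteType (Y ↘ (Spec (CommRingCat.of k)))] [QuasiCompact (Y ↘ (Spec (CommRingCat.of k)))] (hdY : topologicalKrullDim Y = 1) [Smooth (Y ↘ (Spec (CommRingCat.of k)))]
    (f : X ⟶ Y) (hf : f ≫ (Y ↘ (Spec (CommRingCat.of k))) = X ↘ (Spec (CommRingCat.of k))) (e : f (genericPoint X) = genericPoint Y) :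
    letI := ((Y.presheaf.stalkSpecializes (specializes_of_eq e) ≫ f.stalkMap (genericPoint X)).hom).toAlgebra
    ((∃ U : X.Opens, (U : Set X).Nonempty ∧ FormallyUnramified (U.ι ≫ f)) ↔
      (∃ U : X.Opens, (U : Set X).Nonempty ∧ Etale (U.ι ≫ f))) ∧
    ((∃ U : X.Opens, (U : Set X).Nonempty ∧ Etale (U.ι ≫ f)) ↔
      (FiniteDimensional Y.functionField X.functionField ∧ Algebra.IsSeparable Y.functionField X.functionField)) := by
  let alg : Algebra Y.functionField X.functionField :=
    ((Y.presheaf.stalkSpecializes (specializes_of_eq e) ≫ f.stalkMap (genericPoint X)).hom).toAlgebra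
  have hflat : Flat f := Groth.Agent.Lib.T2H3.GenEtale.flat_of_generic k X Y
    (Y ↘ (Spec (CommRingCat.of k))) hdY f e
  have hnoeth : IsLocallyNoetherian Y :=
    LocallyOfFiniteType.isLocallyNoetherian (Y ↘ (Spec (CommRingCat.of k)))
  have hlft : LocallyOfFiniteType f := by
    have : LocallyOfFiniteType (f ≫ (Y ↘ (Spec (CommRingCat.of k)))) := hf ▸ inferInstance
    exact locallyOfFiniteType_of_comp f (Y ↘ (Spec (CommRingCat.of k)))
  have hlfp : LocallyOfFinitePresentation f :=
    LocallyOfFinitePresentation.iff_locallyOfFiniteType.mpr hlft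
  have key1 : ∀ U : X.Opens, FormallyUnramified (U.ι ≫ f) → Etale (U.ι ≫ f) := by
    intro U hU
    exact Etale.of_formallyUnramified_of_flat (U.ι ≫ f)
  have part1 : (∃ U : X.Opens, (U : Set X).Nonempty ∧ FormallyUnramified (U.ι ≫ f)) ↔
      (∃ U : X.Opens, (U : Set X).Nonempty ∧ Etale (U.ι ≫ f)) :=
    ⟨fun ⟨U, hne, h⟩ => ⟨U, hne, key1 U h⟩, fun ⟨U, hne, h⟩ => ⟨U, hne, inferInstance⟩⟩
  refine ⟨part1, ?_⟩
  rw [← part1]
  constructor
  · rintro ⟨U, hne, hU⟩
    have hξ : genericPoint X ∈ U :=
      ((genericPoint_spec X).mem_open_set_iff U.isOpen).mpr (by simpa using hne)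
    let x : U.toScheme := ⟨genericPoint X, hξ⟩
    have hfu : (f.stalkMap (genericPoint X)).hom.FormallyUnramified :=
      Groth.Agent.Lib.T2H3.GenEtale.stalkMap_formallyUnramified_of_comp U.ι f x
    have heft := LocallyOfFiniteType.stalkMap f (genericPoint X)
    have hiso : IsIso (Y.presheaf.stalkSpecializes (specializes_of_eq e)) :=
      (Y.presheaf.stalkCongr (Inseparable.of_eq e.symm)).isIso_hom
    have hfu' : (Y.presheaf.stalkSpecializes (specializes_of_eq e) ≫
        f.stalkMap (genericPoint X)).hom.FormallyUnramified := by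
      rw [CommRingCat.hom_comp, RingHom.FormallyUnramified.respectsIso.cancel_left_isIso]
      exact hfu
    have heft' : (Y.presheaf.stalkSpecializes (specializes_of_eq e) ≫
        f.stalkMap (genericPoint X)).hom.EssFiniteType := by
      rw [CommRingCat.hom_comp, RingHom.EssFiniteType.respectsIso.cancel_left_isIso]
      exact heft
    have h1 : Algebra.FormallyUnramified Y.functionField X.functionField := hfu'
    have h2 : Algebra.EssFiniteType Y.functionField X.functionField := heft'
    exact ⟨Algebra.FormallyUnramified.finite_of_free Y.functionField X.functionField,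
      Algebra.FormallyUnramified.isSeparable Y.functionField X.functionField⟩
  · rintro ⟨hfin, hsep⟩
    obtain ⟨V, hV, hξV, -⟩ := exists_isAffineOpen_mem_and_subset (X := Y)
      (x := genericPoint Y) (U := ⊤) trivial
    obtain ⟨W, hW, hξW, hWV⟩ := exists_isAffineOpen_mem_and_subset (X := X)
      (x := genericPoint X) (U := f ⁻¹ᵁ V) (show f (genericPoint X) ∈ V from e ▸ hξV)
    haveI : Nonempty V := ⟨⟨_, hξV⟩⟩
    haveI : Nonempty W := ⟨⟨_, hξW⟩⟩
    letI algAB : Algebra Γ(Y, V) Γ(X, W) := (f.appLE V W hWV).hom.toAlgebra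
    haveI := functionField_isFractionRing_of_isAffineOpen Y V hV
    haveI := functionField_isFractionRing_of_isAffineOpen X W hW
    letI algAL : Algebra Γ(Y, V) X.functionField :=
      ((algebraMap Γ(X, W) X.functionField).comp (algebraMap Γ(Y, V) Γ(X, W))).toAlgebra
    haveI : IsScalarTower Γ(Y, V) Γ(X, W) X.functionField := IsScalarTower.of_algebraMap_eq' rfl
    haveI : IsScalarTower Γ(Y, V) Y.functionField X.functionField := by
      apply IsScalarTower.of_algebraMap_eq'
      have hcompat : Y.presheaf.germ V (genericPoint Y) hξV ≫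
          Y.presheaf.stalkSpecializes (specializes_of_eq e) ≫ f.stalkMap (genericPoint X) =
          f.appLE V W hWV ≫ X.presheaf.germ W (genericPoint X) hξW := by
        rw [TopCat.Presheaf.germ_stalkSpecializes_assoc, Scheme.Hom.germ_stalkMap,
          Scheme.Hom.appLE, Category.assoc, X.presheaf.germ_res]
      exact (congrArg CommRingCat.Hom.hom hcompat).symm
    haveI : Algebra.FiniteType Γ(Y, V) Γ(X, W) :=
      HasRingHomProperty.appLE (P := @LocallyOfFiniteType) f hlft ⟨V, hV⟩ ⟨W, hW⟩ hWV
    obtain ⟨b, hb0, hb⟩ := Groth.Agent.Lib.T2H3.GenEtale.exists_away_formallyUnramified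
      Γ(Y, V) Γ(X, W) Y.functionField X.functionField
    refine ⟨X.basicOpen b, ?_, ?_⟩
    · rw [Set.nonempty_iff_ne_empty]
      intro h
      apply hb0
      have h' : X.basicOpen b = ⊥ := TopologicalSpace.Opens.ext h
      exact (basicOpen_eq_bot_iff b).mp h'
    · apply Groth.Agent.Lib.T2H3.GenEtale.formallyUnramified_ι_comp_of_appLE f V hV
        (X.basicOpen b) (hW.basicOpen b) ((X.basicOpen_le b).trans hWV)
      rw [← f.appLE_map hWV (homOfLE (X.basicOpen_le b)).op, CommRingCat.hom_comp]
      haveI : IsLocalization.Away b Γ(X, X.basicOpen b) := hW.isLocalization_basicOpen b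
      letI : Algebra Γ(Y, V) Γ(X, X.basicOpen b) :=
        ((algebraMap Γ(X, W) Γ(X, X.basicOpen b)).comp (algebraMap Γ(Y, V) Γ(X, W))).toAlgebra
      haveI : IsScalarTower Γ(Y, V) Γ(X, W) Γ(X, X.basicOpen b) :=
        IsScalarTower.of_algebraMap_eq' rfl
      let e' : Localization.Away b ≃ₐ[Γ(X, W)] Γ(X, X.basicOpen b) :=
        IsLocalization.algEquiv (Submonoid.powers b) _ _
      have hfin' : Algebra.FormallyUnramified Γ(Y, V) Γ(X, X.basicOpen b) :=
        Algebra.FormallyUnramified.of_equiv (e'.restrictScalars Γ(Y, V))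
      exact hfin'

end Groth.Agent.S6554
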