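import Groth.Statements.S6555
import Groth.Agent.Lib.T2H3OmegaDVR

set_option autoImplicit false
set_option linter.style.haveILetI false
universe u
open CategoryTheory CategoryTheory.Limits AlgebraicGeometry
attribute [local instance] Curv2.resAlgebra Curv2.stalkAlgebra
open Curves

namespace Groth.Agent.S6555

/-- Let X be a scheme over the field k and x ∈ X a closed point near which X → Spec k is smooth of
relative dimension 1 (on some open neighbourhood of x), with κ(x)/k separable. If s is an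
irreducible element of the local ring O_{X,x} (a discrete valuation ring, so s generates its maximal
ideal), then Ω_{O_{X,x}/k}, which is the stalk of Ω_{X/k} at x, is free of rank one with basis d s:
the map a ↦ a · d s from O_{X,x} to Ω_{O_{X,x}/k} is bijective. -/
theorem result (k : Type u) [Field k] (X : Scheme.{u}) [X.Over (Spec (CommRingCat.of k))]
    (x : X) (hx : IsClosed ({x} : Set X))
    (hsm : ∃ U : X.Opens, x ∈ U ∧ SmoothOfRelativeDimension 1 (U.ι ≫ (X ↘ (Spec (CommRingCat.of k)))))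
    (hsep : Algebra.IsSeparable k (X.residueField x))
    (s : X.presheaf.stalk x) (hs : Irreducible s) :
    Function.Bijective (fun a : X.presheaf.stalk x => a • KaehlerDifferential.D k (X.presheaf.stalk x) s) := by
  obtain ⟨U₀, hxU, hsm⟩ := hsm
  set g := X ↘ (Spec (CommRingCat.of k)) with hg
  obtain ⟨W, hW, V, hV, hx'V, e, hstd⟩ :=
    SmoothOfRelativeDimension.exists_isStandardSmoothOfRelativeDimension (n := 1)
      (f := U₀.ι ≫ g) (⟨x, hxU⟩ : U₀)
  -- `W = ⊤`
  have hWtop : W = ⊤ := by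
    refine eq_top_iff.mpr fun y _ => ?_
    have : y = (U₀.ι ≫ g) (⟨x, hxU⟩ : U₀) := Subsingleton.elim _ _
    rw [this]
    exact e hx'V
  subst hWtop
  -- the affine open `V'` of `X`
  set V' : X.Opens := U₀.ι ''ᵁ V with hV'def
  have hV' : IsAffineOpen V' := hV.image_of_isOpenImmersion U₀.ι
  have hxV' : x ∈ V' := ⟨⟨x, hxU⟩, hx'V, rfl⟩
  have hle : V' ≤ g ⁻¹ᵁ ⊤ := fun _ _ => trivial
  -- the `k`-algebra structure on `Γ(X, V')`
  let ψ : k →+* Γ(X, V') :=
    ((Scheme.ΓSpecIso (CommRingCat.of k)).inv ≫ g.appLE ⊤ V' hle).hom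
  have hψ : ψ.IsStandardSmoothOfRelativeDimension 1 := by
    have h1 : g.appLE ⊤ V' hle ≫ (U₀.ι.appIso V).hom = (U₀.ι ≫ g).appLE ⊤ V e := by
      rw [Scheme.Hom.appIso_hom', Scheme.Hom.appLE_comp_appLE]
    have h2 : g.appLE ⊤ V' hle = (U₀.ι ≫ g).appLE ⊤ V e ≫ (U₀.ι.appIso V).inv := by
      rw [← h1, Category.assoc, Iso.hom_inv_id, Category.comp_id]
    have hP := RingHom.isStandardSmoothOfRelativeDimension_respectsIso (n := 1)
    refine (hP.cancel_left_isIso (Scheme.ΓSpecIso (CommRingCat.of k)).inv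
      (g.appLE ⊤ V' hle)).mpr ?_
    rw [h2]
    exact (hP.cancel_right_isIso ((U₀.ι ≫ g).appLE ⊤ V e) (U₀.ι.appIso V).inv).mpr hstd
  letI algkT : Algebra k Γ(X, V') := ψ.toAlgebra
  letI algTB : Algebra Γ(X, V') (X.presheaf.stalk x) :=
    X.presheaf.algebra_section_stalk ⟨x, hxV'⟩
  haveI hloc : IsLocalization.AtPrime (X.presheaf.stalk x)
      (hV'.primeIdealOf ⟨x, hxV'⟩).asIdeal := hV'.isLocalization_stalk ⟨x, hxV'⟩
  haveI : IsScalarTower k Γ(X, V') (X.presheaf.stalk x) := by
    apply IsScalarTower.of_algebraMap_eq'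
    have h1 : algebraMap k (X.presheaf.stalk x) =
        ((Scheme.ΓSpecIso (CommRingCat.of k)).inv ≫ g.appTop ≫
          X.presheaf.germ ⊤ x trivial).hom := rfl
    have h2 : (algebraMap Γ(X, V') (X.presheaf.stalk x)).comp (algebraMap k Γ(X, V')) =
        (((Scheme.ΓSpecIso (CommRingCat.of k)).inv ≫ g.appLE ⊤ V' hle) ≫
          X.presheaf.germ V' x hxV').hom := rfl
    rw [h1, h2]
    congr 1
    rw [Category.assoc]
    congr 1
    rw [Scheme.Hom.appLE, Category.assoc, TopCat.Presheaf.germ_res]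
    rfl
  haveI hss : Algebra.IsStandardSmoothOfRelativeDimension 1 k Γ(X, V') := hψ.toAlgebra
  haveI : Algebra.IsStandardSmooth k Γ(X, V') := hss.isStandardSmooth
  haveI : Nontrivial Γ(X, V') := by
    have := hloc
    exact (algebraMap Γ(X, V') (X.presheaf.stalk x)).domain_nontrivial
  haveI : Algebra.FormallySmooth k Γ(X, V') := inferInstance
  haveI : Algebra.FormallySmooth Γ(X, V') (X.presheaf.stalk x) :=
    Algebra.FormallySmooth.of_isLocalization (hV'.primeIdealOf ⟨x, hxV'⟩).asIdeal.primeCompl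
  haveI : Algebra.FormallySmooth k (X.presheaf.stalk x) :=
    Algebra.FormallySmooth.comp k Γ(X, V') _
  haveI : IsNoetherianRing Γ(X, V') := Algebra.FiniteType.isNoetherianRing k _
  haveI : IsNoetherianRing (X.presheaf.stalk x) :=
    IsLocalization.isNoetherianRing (hV'.primeIdealOf ⟨x, hxV'⟩).asIdeal.primeCompl _ inferInstance
  -- the residue field
  have hinst : Curv2.resAlgebra k X x =
      (inferInstance : Algebra k (IsLocalRing.ResidueField (X.presheaf.stalk x))) :=
    Algebra.algebra_ext _ _ (fun r => rfl)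
  haveI hsep' : @Algebra.IsSeparable k (IsLocalRing.ResidueField (X.presheaf.stalk x)) _ _
      inferInstance := hinst ▸ hsep
  haveI : Algebra.FormallyEtale k (IsLocalRing.ResidueField (X.presheaf.stalk x)) :=
    Algebra.FormallyEtale.of_isSeparable k _
  haveI : Algebra.FormallySmooth k (IsLocalRing.ResidueField (X.presheaf.stalk x)) := inferInstance
  haveI : Subsingleton Ω[IsLocalRing.ResidueField (X.presheaf.stalk x)⁄k] := inferInstance
  -- the basis of `Ω`
  have hrank : Module.finrank Γ(X, V') Ω[Γ(X, V')⁄k] = 1 := by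
    have := Algebra.IsStandardSmoothOfRelativeDimension.rank_kaehlerDifferential
      (R := k) (S := Γ(X, V')) 1
    exact Module.finrank_eq_of_rank_eq this
  let b := Module.basisUnique (R := Γ(X, V')) (M := Ω[Γ(X, V')⁄k]) Unit hrank
  let b' := b.ofIsLocalizedModule (X.presheaf.stalk x)
    (hV'.primeIdealOf ⟨x, hxV'⟩).asIdeal.primeCompl
    (KaehlerDifferential.map k k Γ(X, V') (X.presheaf.stalk x))
  let e : X.presheaf.stalk x ≃ₗ[X.presheaf.stalk x] Ω[X.presheaf.stalk x⁄k] :=
    (b'.repr ≪≫ₗ Finsupp.uniqueLinearEquiv _ _ ()).symm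
  exact Groth.Agent.Lib.T2H3.OmegaDVR.bijective_smul_D_of_irreducible k _ e s hs

end Groth.Agent.S6555
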