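import Groth.Statements.S6557
import Mathlib
import Groth.Agent.Lib.Helper10CurveFlat
import Groth.Agent.Lib.Helper12SmoothSrc
import Groth.Agent.Lib.Helper7Dim

set_option autoImplicit false
universe u
open CategoryTheory CategoryTheory.Limits AlgebraicGeometry
open Curves

namespace Groth.Agent.S6557

/-- Let k be a field and f : X → Y a surjective morphism over k of curves over k (integral, separated,
of finite type over k, of dimension one). If X is smooth over k and every local ring of Y is an
integrally closed domain, then Y is also smooth over k. -/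
theorem result (k : Type u) [Field k]
    (X Y : Scheme.{u}) [X.Over (Spec (CommRingCat.of k))] [Y.Over (Spec (CommRingCat.of k))]
    [IsIntegral X] [IsSeparated (X ↘ (Spec (CommRingCat.of k)))] [LocallyOfFiniteType (X ↘ (Spec (CommRingCat.of k)))] [QuasiCompact (X ↘ (Spec (CommRingCat.of k)))] (hdX : topologicalKrullDim X = 1) [IsIntegral Y] [IsSeparated (Y ↘ (Spec (CommRingCat.of k)))] [LocallyOfFiniteType (Y ↘ (Spec (CommRingCat.of k)))] [QuasiCompact (Y ↘ (Spec (CommRingCat.of k)))] (hdY : topologicalKrullDim Y = 1)
    (f : X ⟶ Y) (hf : f ≫ (Y ↘ (Spec (CommRingCat.of k))) = X ↘ (Spec (CommRingCat.of k))) [Surjective f]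
    [Smooth (X ↘ (Spec (CommRingCat.of k)))] (hY : Pi1.IsNormalScheme Y) :
    Smooth (Y ↘ (Spec (CommRingCat.of k))) := by
  have hnt : Nontrivial Y := by
    by_contra hnt
    rw [not_nontrivial_iff_subsingleton] at hnt
    have h1 : topologicalKrullDim Y = @Order.krullDim Y (specializationPreorder Y) :=
      Groth.Agent.Lib.Helper7.topologicalKrullDim_eq_krullDim_points
    have h2 : @Order.krullDim Y (specializationPreorder Y) ≤ 0 :=
      @Order.krullDim_nonpos_of_subsingleton Y (specializationPreorder Y) hnt
    rw [← h1, hdY] at h2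
    exact absurd h2 (by norm_num)
  have hnc : (Set.range f.base).Nontrivial := by
    have : Set.range f.base = Set.univ := Set.range_eq_univ.mpr f.surjective
    rw [this]
    exact Set.nontrivial_univ
  haveI hflat : Flat f := Groth.Agent.Lib.Helper10.CurveFlat.main k X Y
    (Y ↘ (Spec (CommRingCat.of k))) hdY hY f hnc
  haveI : IsLocallyNoetherian (Spec (CommRingCat.of k)) := inferInstance
  haveI : LocallyOfFinitePresentation (Y ↘ (Spec (CommRingCat.of k))) :=
    LocallyOfFinitePresentation.iff_locallyOfFiniteType.mpr inferInstance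
  haveI : Smooth (f ≫ (Y ↘ (Spec (CommRingCat.of k)))) := hf ▸ inferInstance
  exact Groth.Agent.Lib.Helper12.SmoothSrc.smooth_of_flat_surjective_of_field k f
    (Y ↘ (Spec (CommRingCat.of k)))

end Groth.Agent.S6557
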