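import Groth.Statements.S6712
import Groth.Agent.Lib.Helper3IsoFib

set_option autoImplicit false
set_option linter.style.haveILetI false
universe u
open CategoryTheory AlgebraicGeometry
open DEquiv

namespace Groth.Agent.S6712

open CategoryTheory.Limits in
/-- Let S be a Noetherian scheme, s ∈ S, and p : X ⟶ Y a morphism over S where X ⟶ S and Y ⟶ S are
proper and X ⟶ S is flat. If the fibre X_s ⟶ Y_s of p is an isomorphism, then there is an open
neighbourhood U of s such that the base change X_U ⟶ Y_U of p is an isomorphism. -/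
theorem result
    {S X Y : Scheme.{u}} [IsNoetherian S] (s : S) (g : X ⟶ S) (h : Y ⟶ S) (p : X ⟶ Y)
    (w : p ≫ h = g) [IsProper g] [IsProper h] [Flat g]
    (hs : IsIso (pullback.map g (S.fromSpecResidueField s) h (S.fromSpecResidueField s) p (𝟙 _)
      (𝟙 _) ((Category.comp_id g).trans w.symm)
      ((Category.comp_id _).trans (Category.id_comp _).symm))) :
    ∃ U : S.Opens, s ∈ U ∧
      IsIso (pullback.map g U.ι h U.ι p (𝟙 _) (𝟙 _) ((Category.comp_id g).trans w.symm)
        ((Category.comp_id _).trans (Category.id_comp _).symm)) := by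
  subst w
  haveI : LocallyOfFinitePresentation (p ≫ h) :=
    LocallyOfFinitePresentation.iff_locallyOfFiniteType.mpr inferInstance
  haveI : IsIso (CohIII.fiberMapOver p (p ≫ h) h rfl s) := hs
  obtain ⟨U, hsU, hU⟩ :=
    Groth.Agent.Lib.Helper3.IsoFib.exists_isIso_morphismRestrict_of_fibre_iso p h s
  refine ⟨U, hsU, ?_⟩
  haveI := hU
  have hUU : (p ≫ h) ⁻¹ᵁ U = p ⁻¹ᵁ h ⁻¹ᵁ U := rfl
  let e : pullback (p ≫ h) U.ι ⟶ pullback h U.ι :=
    (pullbackRestrictIsoRestrict (p ≫ h) U).hom ≫ (X.isoOfEq hUU).hom ≫ (p ∣_ (h ⁻¹ᵁ U)) ≫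
      (pullbackRestrictIsoRestrict h U).inv
  have he : pullback.map (p ≫ h) U.ι h U.ι p (𝟙 _) (𝟙 _) ((Category.comp_id (p ≫ h)).trans rfl)
      ((Category.comp_id _).trans (Category.id_comp _).symm) = e := by
    rw [← cancel_mono (pullback.fst h U.ι)]
    simp only [e, Category.assoc, pullbackRestrictIsoRestrict_inv_fst]
    rw [morphismRestrict_ι, Scheme.isoOfEq_hom_ι_assoc, pullbackRestrictIsoRestrict_hom_ι_assoc]
    exact pullback.lift_fst _ _ _
  rw [he]
  infer_instance

end Groth.Agent.S6712
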