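import Groth.Statements.S6718
import Mathlib
import Groth.Agent.Lib.T1H4SerreA
set_option backward.isDefEq.respectTransparency.types false

set_option autoImplicit false
universe w v u
open CategoryTheory
open DEquiv

namespace Groth.Agent.S6718

open CategoryTheory.Limits CategoryTheory.Pretriangulated in
/-- Let k be a field and T a k-linear (pre)triangulated category with dim_k Hom(X, Y) < ∞ for all X, Y.
The following are equivalent: (1) there are a k-linear equivalence S : T ⥤ T and k-linear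
isomorphisms c_{X,Y} : Hom(X, Y) ≅ Hom(Y, S X)^∨ natural in X and in Y; (2) for every object X the
functor Y ↦ Hom(X, Y)^∨ is representable and the functor Y ↦ Hom(Y, X)^∨ is corepresentable, by
k-linear isomorphisms natural in Y. (Here V^∨ is the k-linear dual.) -/
theorem result
    {k : Type w} [Field k]
    {T : Type u} [Category.{v} T] [Preadditive T] [Linear k T] [HasZeroObject T] [HasShift T ℤ]
    [∀ n : ℤ, (shiftFunctor T n).Additive] [∀ n : ℤ, (shiftFunctor T n).Linear k] [Pretriangulated T]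
    [∀ X Y : T, Module.Finite k (X ⟶ Y)] :
    (∃ (S : T ≌ T) (_ : S.functor.Additive) (_ : S.functor.Linear k)
        (c : ∀ X Y : T, (X ⟶ Y) ≃ₗ[k] Module.Dual k (Y ⟶ S.functor.obj X)),
        (∀ (X Y Y' : T) (f : X ⟶ Y) (g : Y ⟶ Y'),
          c X Y' (f ≫ g) = (c X Y f) ∘ₗ Linear.leftComp k (S.functor.obj X) g) ∧
        (∀ (X' X Y : T) (a : X' ⟶ X) (f : X ⟶ Y),
          c X' Y (a ≫ f) = (c X Y f) ∘ₗ Linear.rightComp k Y (S.functor.map a))) ↔
    ((∀ X : T, ∃ (SX : T) (e : ∀ Y : T, (Y ⟶ SX) ≃ₗ[k] Module.Dual k (X ⟶ Y)),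
        ∀ (Y Y' : T) (g : Y' ⟶ Y) (f : Y ⟶ SX),
          e Y' (g ≫ f) = (e Y f) ∘ₗ Linear.rightComp k X g) ∧
      (∀ X : T, ∃ (RX : T) (e : ∀ Y : T, (RX ⟶ Y) ≃ₗ[k] Module.Dual k (Y ⟶ X)),
        ∀ (Y Y' : T) (g : Y ⟶ Y') (f : RX ⟶ Y),
          e Y' (f ≫ g) = (e Y f) ∘ₗ Linear.leftComp k X g)) := by
  classical
  constructor
  · rintro ⟨S, _, _, c, hc1, hc2⟩
    refine ⟨fun X => ?_, fun X => ?_⟩
    · refine ⟨S.functor.obj X, fun Y => Groth.Agent.Lib.T1H4.Serre.flipEquiv (c X Y), ?_⟩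
      intro Y Y' g f
      ext φ
      rw [LinearMap.comp_apply, Linear.rightComp_apply,
        Groth.Agent.Lib.T1H4.Serre.flipEquiv_apply, Groth.Agent.Lib.T1H4.Serre.flipEquiv_apply,
        hc1, LinearMap.comp_apply, Linear.leftComp_apply]
    · let ε : S.functor.obj (S.inverse.obj X) ≅ X := S.counitIso.app X
      let L : ∀ Y : T, (Y ⟶ X) ≃ₗ[k] (Y ⟶ S.functor.obj (S.inverse.obj X)) := fun Y =>
        LinearEquiv.ofLinear (Linear.rightComp k Y ε.inv) (Linear.rightComp k Y ε.hom)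
          (by ext h; simp) (by ext h; simp)
      refine ⟨S.inverse.obj X, fun Y => (c (S.inverse.obj X) Y) ≪≫ₗ (L Y).dualMap, ?_⟩
      intro Y Y' g f
      ext h
      rw [LinearEquiv.trans_apply, LinearEquiv.dualMap_apply, hc1, LinearMap.comp_apply,
        LinearMap.comp_apply, LinearEquiv.trans_apply, LinearEquiv.dualMap_apply]
      simp [L]
  · rintro ⟨h1, h2⟩
    choose SX e he using h1
    choose RX e' he' using h2
    let D : Groth.Agent.Lib.T1H4.Serre.RepData k T := ⟨SX, e, he⟩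
    let D' : Groth.Agent.Lib.T1H4.Serre.CorepData k T := ⟨RX, e', he'⟩
    haveI : D.Sfun.IsEquivalence := D.isEquivalence D'
    refine ⟨D.Sfun.asEquivalence, (inferInstance : D.Sfun.Additive),
      (inferInstance : D.Sfun.Linear k), fun X Y => D.c X Y, ?_, ?_⟩
    · intro X Y Y' f g
      exact D.c_nat_right X Y Y' f g
    · intro X' X Y a f
      exact D.c_nat_left X' X Y a f

end Groth.Agent.S6718
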