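import Groth.Statements.S6827
import Groth.Agent.Lib.T2H3SmoothLift4

set_option autoImplicit false
set_option linter.style.haveILetI false
universe u
open Smoothing

namespace Groth.Agent.S6827

/-- Let R → R₀ be a surjective ring map with kernel I (so R₀ = R/I) and A₀ a smooth R₀-algebra. Then
there is a smooth R-algebra A with A/IA isomorphic to A₀ as an R/I-algebra. -/
theorem result {R A₀ : Type u} [CommRing R] (I : Ideal R) [CommRing A₀]
    [Algebra (R ⧸ I) A₀] [Algebra.Smooth (R ⧸ I) A₀] :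
    ∃ (A : Type u) (_ : CommRing A) (_ : Algebra R A), Algebra.Smooth R A ∧
      Nonempty ((A ⧸ I.map (algebraMap R A)) ≃ₐ[R ⧸ I] A₀) := by
  letI : Algebra R A₀ := ((algebraMap (R ⧸ I) A₀).comp (Ideal.Quotient.mk I)).toAlgebra
  haveI : IsScalarTower R (R ⧸ I) A₀ := IsScalarTower.of_algebraMap_eq (fun _ => rfl)
  obtain ⟨A, _, _, hsm, π, hπ, hker⟩ :=
    Groth.Agent.Lib.T2H3.SmoothLift.exists_smooth_lift (A₀ := A₀) I
  refine ⟨A, inferInstance, inferInstance, hsm, ⟨?_⟩⟩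
  let e₁ : (A ⧸ I.map (algebraMap R A)) ≃ₐ[R] (A ⧸ RingHom.ker π) :=
    Ideal.quotientEquivAlgOfEq R hker.symm
  let e₂ : (A ⧸ RingHom.ker π) ≃ₐ[R] A₀ := Ideal.quotientKerAlgEquivOfSurjective hπ
  let e := e₁.trans e₂
  refine AlgEquiv.ofRingEquiv (f := e.toRingEquiv) ?_
  intro x
  obtain ⟨r, rfl⟩ := Ideal.Quotient.mk_surjective x
  have h1 : algebraMap (R ⧸ I) (A ⧸ I.map (algebraMap R A)) (Ideal.Quotient.mk I r) =
      algebraMap R (A ⧸ I.map (algebraMap R A)) r := rfl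
  have h2 : algebraMap (R ⧸ I) A₀ (Ideal.Quotient.mk I r) = algebraMap R A₀ r := rfl
  rw [h1, h2]
  exact e.commutes r

end Groth.Agent.S6827
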