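import Groth.Statements.S6918
import Groth.Agent.Lib.Helper3FlatBC
-- import your own Groth.Agent.* helpers here

set_option autoImplicit false
set_option linter.style.haveILetI false
universe u
open FlatMor

namespace Groth.Agent.S6918

/-- Let `R → S` be a ring map, `J ⊆ S` an ideal, `M` an `S`-module, `I ⊆ R` an ideal, `R → R'` a ring
map and `I' ⊇ IR'`; put `S' = S ⊗_R R'`, `M' = M ⊗_R R'`. If `M_𝔮` is flat over `R` for all primes
`𝔮 ⊇ IS + J` of `S`, then `M'_{𝔮'}` is flat over `R'` for all primes `𝔮' ⊇ I'S' + JS'` of `S'`. (The
published statement passes from an arbitrary pair `(R', I')` over `R` to a further pair `(R'',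
I'')`; this row takes the first pair to be `(R, I)`.) -/
theorem result {R S R' S' : Type u} [CommRing R] [CommRing S] [CommRing R'] [CommRing S']
    [Algebra R S] [Algebra R R'] [Algebra S S'] [Algebra R' S'] [Algebra R S'] [IsScalarTower R S S']
    [IsScalarTower R R' S'] [Algebra.IsPushout R S R' S']
    (I : Ideal R) (I' : Ideal R') (hII' : I.map (algebraMap R R') ≤ I')
    {M M' : Type u} [AddCommGroup M] [Module S M] [Module R M] [IsScalarTower R S M]
    [AddCommGroup M'] [Module S' M'] [Module R' M'] [IsScalarTower R' S' M'] [Module S M'] [IsScalarTower S S' M']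
    (f : M →ₗ[S] M') (hf : IsBaseChange S' f) (J : Ideal S)
    (h : (∀ (q : Ideal S) [q.IsPrime], I.map (algebraMap R S) ⊔ J ≤ q → FlatCA.FlatAt R q M)) :
    (∀ (q : Ideal S') [q.IsPrime], I'.map (algebraMap R' S') ⊔ J.map (algebraMap S S') ≤ q → FlatCA.FlatAt R' q M') := by
  intro q' _ hq'
  -- the `R`-module structure on `M'`
  letI : Module R M' := Module.compHom M' (algebraMap R R')
  haveI : IsScalarTower R R' M' := IsScalarTower.of_algebraMap_smul fun r x => rfl
  haveI : IsScalarTower R S' M' := by
    refine IsScalarTower.of_algebraMap_smul fun r x => ?_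
    rw [IsScalarTower.algebraMap_apply R R' S', algebraMap_smul]
    rfl
  haveI : IsScalarTower R S M' := by
    refine IsScalarTower.of_algebraMap_smul fun r x => ?_
    rw [← algebraMap_smul S' (algebraMap R S r) x, ← IsScalarTower.algebraMap_apply R S S',
      algebraMap_smul]
  haveI : Algebra.IsPushout R R' S S' := Algebra.IsPushout.symm inferInstance
  have hbc : IsBaseChange R' (f.restrictScalars R) :=
    Groth.Agent.Lib.Helper3.FlatLoc.isBaseChange_restrictScalars_of_isPushout
      (A := R) (R := R') (PA := S) (PR := S') f hf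
  -- the prime below
  let q : Ideal S := q'.comap (algebraMap S S')
  haveI : q.IsPrime := Ideal.IsPrime.comap _
  have hq : I.map (algebraMap R S) ⊔ J ≤ q := by
    refine sup_le ?_ ?_
    · rw [Ideal.map_le_iff_le_comap]
      intro r hr
      change algebraMap S S' (algebraMap R S r) ∈ q'
      rw [← IsScalarTower.algebraMap_apply R S S', IsScalarTower.algebraMap_apply R R' S']
      apply hq'
      apply Ideal.mem_sup_left
      apply Ideal.mem_map_of_mem
      exact hII' (Ideal.mem_map_of_mem _ hr)
    · intro s hs
      change algebraMap S S' s ∈ q'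
      exact hq' (Ideal.mem_sup_right (Ideal.mem_map_of_mem _ hs))
  have hflat : Module.Flat R (LocalizedModule q.primeCompl M) := h q hq
  change Module.Flat R' (LocalizedModule q'.primeCompl M')
  exact Groth.Agent.Lib.Helper3.FlatLoc.flat_localizedModule_of_isBaseChange
    (A := R) (R := R') (SA := S) (SR := S') f hbc q.primeCompl q'.primeCompl
    (fun s hs => hs) hflat

end Groth.Agent.S6918
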