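import Groth.Statements.S6919
import Groth.Agent.Lib.T2H2FlatAtDesc
import Groth.Agent.Lib.Helper18Sch4
-- import your own Groth.Agent.* helpers here

set_option autoImplicit false
set_option linter.style.haveILetI false
universe u
open FlatMor

namespace Groth.Agent.S6919

/-- Let `R → S` be a ring map, `J ⊆ S` an ideal, `M` an `S`-module and `I ⊆ R` an ideal; let `R → R'` be
a ring map and `I' ⊆ R'` an ideal containing `IR'`, and put `S' = S ⊗_R R'`, `M' = M ⊗_R R'`. Assume
that every prime of `R` containing `I` is the contraction of a prime of `R'` containing `I'`, and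
that `R'_{𝔭'}` is flat over `R` for every prime `𝔭' ⊇ I'`. If `M'_{𝔮'}` is flat over `R'` for every
prime `𝔮' ⊇ I'S' + JS'` of `S'`, then `M_𝔮` is flat over `R` for every prime `𝔮 ⊇ IS + J` of `S`.
(The published statement descends from a pair `(R'', I'')` to an arbitrary pair `(R', I')` over `R`;
this row takes `(R', I') = (R, I)`.) -/
theorem result {R S R' S' : Type u} [CommRing R] [CommRing S] [CommRing R'] [CommRing S']
    [Algebra R S] [Algebra R R'] [Algebra S S'] [Algebra R' S'] [Algebra R S'] [IsScalarTower R S S']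
    [IsScalarTower R R' S'] [Algebra.IsPushout R S R' S']
    (I : Ideal R) (I' : Ideal R') (hII' : I.map (algebraMap R R') ≤ I')
    {M M' : Type u} [AddCommGroup M] [Module S M] [Module R M] [IsScalarTower R S M]
    [AddCommGroup M'] [Module S' M'] [Module R' M'] [IsScalarTower R' S' M'] [Module S M'] [IsScalarTower S S' M']
    (f : M →ₗ[S] M') (hf : IsBaseChange S' f) (J : Ideal S)
    (hsurj : ∀ (p : Ideal R) [p.IsPrime], I ≤ p → ∃ (p' : Ideal R') (_ : p'.IsPrime), I' ≤ p' ∧ p'.comap (algebraMap R R') = p)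
    (hflat : ∀ (p' : Ideal R') [p'.IsPrime], I' ≤ p' → Module.Flat R (Localization.AtPrime p'))
    (h : (∀ (q : Ideal S') [q.IsPrime], I'.map (algebraMap R' S') ⊔ J.map (algebraMap S S') ≤ q → FlatCA.FlatAt R' q M')) :
    (∀ (q : Ideal S) [q.IsPrime], I.map (algebraMap R S) ⊔ J ≤ q → FlatCA.FlatAt R q M) := by
  intro q _ hq
  -- the `R`-module structure on `M'`
  letI : Module R M' := Module.compHom M' (algebraMap R R')
  haveI : IsScalarTower R R' M' := IsScalarTower.of_algebraMap_smul fun r x => rfl
  haveI : IsScalarTower R S' M' := by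
    refine IsScalarTower.of_algebraMap_smul fun r x => ?_
    rw [IsScalarTower.algebraMap_apply R R' S', algebraMap_smul]
    rfl
  haveI : IsScalarTower R S M' := by
    refine IsScalarTower.of_algebraMap_smul fun r x => ?_
    rw [← algebraMap_smul S' (algebraMap R S r) x, ← IsScalarTower.algebraMap_apply R S S',
      algebraMap_smul]
  -- the prime of `R` below `q`
  let p : Ideal R := q.comap (algebraMap R S)
  haveI : p.IsPrime := Ideal.IsPrime.comap _
  have hp : I ≤ p := by
    intro r hr
    change algebraMap R S r ∈ q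
    exact hq (Ideal.mem_sup_left (Ideal.mem_map_of_mem _ hr))
  obtain ⟨p', hp'prime, hI'p', hp'p⟩ := hsurj p hp
  haveI := hp'prime
  -- a prime of `S'` over `q` and `p'`
  obtain ⟨𝔮, h𝔮, h1, h2⟩ := Groth.Agent.Lib.Helper18Sch4.exists_prime_tensor (R := R) q p'
    hp'p.symm
  haveI := h𝔮
  let e := Algebra.IsPushout.equiv R S R' S'
  let q' : Ideal S' := 𝔮.comap e.symm.toRingEquiv.toRingHom
  haveI hq'prime : q'.IsPrime := Ideal.IsPrime.comap _
  have hq'S : q'.comap (algebraMap S S') = q := by
    ext s
    change e.symm (algebraMap S S' s) ∈ 𝔮 ↔ _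
    rw [Algebra.IsPushout.equiv_symm_algebraMap_left, h1]
  have hq'R : q'.comap (algebraMap R' S') = p' := by
    ext r
    change e.symm (algebraMap R' S' r) ∈ 𝔮 ↔ _
    rw [Algebra.IsPushout.equiv_symm_algebraMap_right, h2]
  haveI : q'.LiesOver q := ⟨hq'S.symm⟩
  haveI : q'.LiesOver p' := ⟨hq'R.symm⟩
  have hq' : I'.map (algebraMap R' S') ⊔ J.map (algebraMap S S') ≤ q' := by
    refine sup_le ?_ ?_
    · rw [Ideal.map_le_iff_le_comap, hq'R]
      exact hI'p'
    · rw [Ideal.map_le_iff_le_comap, hq'S]
      exact le_sup_right.trans hq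
  exact Groth.Agent.Lib.T2H2.FlatAtDesc.flat_localizedModule_descent (R := R) (S := S) (R' := R')
    (S' := S') f hf q q' p' (hflat p' hI'p') (h q' hq')

end Groth.Agent.S6919
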