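import Groth.Statements.S6932
import Groth.Agent.Lib.T2H2LocFP2

set_option autoImplicit false
universe u
open CAlg

namespace Groth.Agent.S6932

attribute [local instance] MvPolynomial.algebraMvPolynomial

/-- Local finite generation of the kernel of a presentation at a prime of the base. -/
theorem aux {R S : Type u} [CommRing R] [CommRing S] [Algebra R S] (n : ℕ)
    (π : MvPolynomial (Fin n) R →ₐ[R] S) (hπ : Function.Surjective π) (p : Ideal R) [p.IsPrime]
    (hloc : Algebra.FinitePresentation (Localization.AtPrime p)
      (Localization (Algebra.algebraMapSubmonoid S p.primeCompl))) :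
    ∃ K' : Ideal (MvPolynomial (Fin n) R), K'.FG ∧ K' ≤ RingHom.ker π.toRingHom ∧
      ∀ k ∈ RingHom.ker π.toRingHom, ∃ a : R, a ∉ p ∧ MvPolynomial.C a * k ∈ K' := by
  classical
  let _ : Algebra (MvPolynomial (Fin n) R) S := π.toRingHom.toAlgebra
  have htower : IsScalarTower R (MvPolynomial (Fin n) R) S :=
    IsScalarTower.of_algebraMap_eq' π.comp_algebraMap.symm
  -- the localized presentation
  let ψ : MvPolynomial (Fin n) (Localization.AtPrime p) →ₐ[Localization.AtPrime p]
      Localization (Algebra.algebraMapSubmonoid S p.primeCompl) :=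
    MvPolynomial.aeval fun i => algebraMap S _ (π (MvPolynomial.X i))
  have hcompat : ∀ q : MvPolynomial (Fin n) R,
      ψ (MvPolynomial.map (algebraMap R (Localization.AtPrime p)) q) =
        algebraMap S (Localization (Algebra.algebraMapSubmonoid S p.primeCompl)) (π q) := by
    intro q
    induction q using MvPolynomial.induction_on with
    | C r =>
      rw [MvPolynomial.map_C, ← MvPolynomial.algebraMap_eq, AlgHom.commutes,
        ← MvPolynomial.algebraMap_eq, AlgHom.commutes,
        ← IsScalarTower.algebraMap_apply, ← IsScalarTower.algebraMap_apply]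
    | add a b ha hb => rw [map_add, map_add, ha, hb, map_add, map_add]
    | mul_X a i ha =>
      rw [map_mul, map_mul, ha, MvPolynomial.map_X, map_mul, map_mul]
      congr 1
      exact MvPolynomial.aeval_X _ i
  have hψ : Function.Surjective ψ := by
    intro y
    obtain ⟨x, t, rfl⟩ := IsLocalization.exists_mk'_eq
      (Algebra.algebraMapSubmonoid S p.primeCompl) y
    obtain ⟨a, ha, hat⟩ := t.2
    obtain ⟨q, rfl⟩ := hπ x
    refine ⟨MvPolynomial.C (IsLocalization.mk' (Localization.AtPrime p) (1 : R)
      (⟨a, ha⟩ : p.primeCompl)) * MvPolynomial.map (algebraMap R (Localization.AtPrime p)) q, ?_⟩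
    rw [map_mul, hcompat, ← MvPolynomial.algebraMap_eq, AlgHom.commutes,
      IsLocalization.eq_mk'_iff_mul_eq]
    have h1 : algebraMap (Localization.AtPrime p)
        (Localization (Algebra.algebraMapSubmonoid S p.primeCompl))
          (IsLocalization.mk' (Localization.AtPrime p) (1 : R) (⟨a, ha⟩ : p.primeCompl)) *
        algebraMap S (Localization (Algebra.algebraMapSubmonoid S p.primeCompl))
          (algebraMap R S a) = 1 := by
      rw [← IsScalarTower.algebraMap_apply R S,
        IsScalarTower.algebraMap_apply R (Localization.AtPrime p), ← map_mul,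
        IsLocalization.mk'_spec, map_one, map_one]
    rw [← hat, mul_assoc, mul_comm (algebraMap S _ (π q)), ← mul_assoc, h1, one_mul]
  have hkerfg : (RingHom.ker ψ.toRingHom).FG :=
    Algebra.FinitePresentation.ker_fG_of_surjective ψ hψ
  let _ : Algebra (MvPolynomial (Fin n) (Localization.AtPrime p))
      (Localization (Algebra.algebraMapSubmonoid S p.primeCompl)) := ψ.toRingHom.toAlgebra
  have hfp : Module.FinitePresentation (MvPolynomial (Fin n) (Localization.AtPrime p))
      (Localization (Algebra.algebraMapSubmonoid S p.primeCompl)) := by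
    refine Module.finitePresentation_of_surjective
      (Algebra.linearMap (MvPolynomial (Fin n) (Localization.AtPrime p))
        (Localization (Algebra.algebraMapSubmonoid S p.primeCompl))) hψ ?_
    have hker : LinearMap.ker (Algebra.linearMap (MvPolynomial (Fin n) (Localization.AtPrime p))
        (Localization (Algebra.algebraMapSubmonoid S p.primeCompl))) = RingHom.ker ψ.toRingHom := by
      ext x
      exact Iff.rfl
    rw [hker]
    exact hkerfg
  have htower3 : IsScalarTower (MvPolynomial (Fin n) R)
      (MvPolynomial (Fin n) (Localization.AtPrime p))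
      (Localization (Algebra.algebraMapSubmonoid S p.primeCompl)) :=
    IsScalarTower.of_algebraMap_eq fun q => by
      rw [IsScalarTower.algebraMap_apply (MvPolynomial (Fin n) R) S]
      exact (hcompat q).symm
  let T : Submonoid (MvPolynomial (Fin n) R) := Submonoid.map MvPolynomial.C p.primeCompl
  have hTloc : IsLocalization T (MvPolynomial (Fin n) (Localization.AtPrime p)) :=
    MvPolynomial.isLocalization p.primeCompl (Localization.AtPrime p)
  have hTS : Algebra.algebraMapSubmonoid S T = Algebra.algebraMapSubmonoid S p.primeCompl := by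
    ext x
    constructor
    · rintro ⟨_, ⟨a, ha, rfl⟩, rfl⟩
      exact ⟨a, ha, (π.commutes a).symm⟩
    · rintro ⟨a, ha, rfl⟩
      exact ⟨MvPolynomial.C a, ⟨a, ha, rfl⟩, π.commutes a⟩
  have hlocS : IsLocalization (Algebra.algebraMapSubmonoid S T)
      (Localization (Algebra.algebraMapSubmonoid S p.primeCompl)) := by
    rw [hTS]; infer_instance
  have hg : IsLocalizedModule T (IsScalarTower.toAlgHom (MvPolynomial (Fin n) R) S
      (Localization (Algebra.algebraMapSubmonoid S p.primeCompl))).toLinearMap :=
    isLocalizedModule_iff_isLocalization.mpr hlocS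
  obtain ⟨K', hfg, hle, hK'⟩ :=
    Groth.Agent.Lib.T2H2.LocFP.exists_fg_le_ker_of_isLocalizedModule T
      (MvPolynomial (Fin n) (Localization.AtPrime p))
      (IsScalarTower.toAlgHom (MvPolynomial (Fin n) R) S
        (Localization (Algebra.algebraMapSubmonoid S p.primeCompl))).toLinearMap
      (Algebra.linearMap (MvPolynomial (Fin n) R) S) hπ
  refine ⟨K', hfg, fun k hk => hle hk, fun k hk => ?_⟩
  obtain ⟨t, ⟨a, ha, rfl⟩, htk⟩ := hK' k hk
  exact ⟨a, ha, htk⟩

/-- Let `R → S` be a ring map of finite type with `S` flat over `R`, such that `R → ∏_j R_{𝔭_j}` is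
injective for some finite set of primes `𝔭_j` and each localization `S_𝔭` (at a prime `𝔭` of `R`) is
a finitely presented `R_𝔭`-algebra. Then `S` is a finitely presented `R`-algebra. -/
theorem result {R S : Type u} [CommRing R] [CommRing S]
    [Algebra R S] [Algebra.FiniteType R S] [Module.Flat R S] (s : Finset (PrimeSpectrum R))
    (hs : Function.Injective fun r : R => fun p : s => algebraMap R (Localization.AtPrime p.1.asIdeal) r)
    (hloc : ∀ (p : Ideal R) [p.IsPrime],
      Algebra.FinitePresentation (Localization.AtPrime p) (Localization (Algebra.algebraMapSubmonoid S p.primeCompl))) :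
    Algebra.FinitePresentation R S := by
  classical
  obtain ⟨n, π, hπ⟩ := Algebra.FiniteType.iff_quotient_mvPolynomial''.mp
    (inferInstance : Algebra.FiniteType R S)
  let _ : Algebra (MvPolynomial (Fin n) R) S := π.toRingHom.toAlgebra
  have htower : IsScalarTower R (MvPolynomial (Fin n) R) S :=
    IsScalarTower.of_algebraMap_eq' π.comp_algebraMap.symm
  have hfg : (LinearMap.ker (Algebra.linearMap (MvPolynomial (Fin n) R) S)).FG := by
    refine Groth.Agent.Lib.T2H2.LocFP.fg_ker_of_flat_of_locally_fg n s hs
      (Algebra.linearMap (MvPolynomial (Fin n) R) S) hπ ?_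
    intro p
    obtain ⟨K', hfg, hle, hK'⟩ := aux n π hπ p.asIdeal (hloc p.asIdeal)
    refine ⟨K', hfg, fun k hk => hle hk, fun k hk => ?_⟩
    obtain ⟨a, ha, hak⟩ := hK' k hk
    exact ⟨a, ha, hak⟩
  exact Algebra.FinitePresentation.of_surjective hπ hfg

end Groth.Agent.S6932
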