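import Groth.Statements.S6951
import Groth.Agent.Lib.T2H4TorRes
import Groth.Agent.Lib.Helper1LBC
import Groth.Agent.Lib.Helper1DT2

set_option autoImplicit false
universe u
open CategoryTheory CategoryTheory.Limits
attribute [local instance] HasDerivedCategory.standard
open DRing

namespace Groth.Agent.S6951

/-- Let R → A → B be homomorphisms of commutative rings with A → B faithfully flat, such that the
derived base change D(A) → D(B) exists, and let K be an object of D(A). Then for all integers a, b,
the following are equivalent: the restriction of K to D(R) is of tor amplitude within [a, b]; the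
restriction of K ⊗^L_A B to D(R) is of tor amplitude within [a, b]. -/
theorem result {R A B : Type u}
    [CommRing R] [CommRing A] [CommRing B] [Algebra R A] [Algebra A B] [Algebra R B] [IsScalarTower R A B]
    [Module.FaithfullyFlat A B] [DRing.HasLBaseChange (algebraMap A B)] (K : Dual.D A) (a b : ℤ) :
    DRing.HasTorAmplitudeIn R a b ((DRing.restrictD (algebraMap R A)).obj K) ↔
      DRing.HasTorAmplitudeIn R a b ((DRing.restrictD (algebraMap R B)).obj ((DRing.LBaseChange (algebraMap A B)).obj K)) := by
  
  obtain ⟨P, hP, -, ⟨e⟩⟩ := Groth.Agent.Lib.Helper1.DT.exists_kproj_iso K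
  have e1 : (DRing.restrictD (algebraMap R A)).obj (DerivedCategory.Q.obj P) ≅
      (DRing.restrictD (algebraMap R A)).obj K := (DRing.restrictD (algebraMap R A)).mapIso e
  have e2 : (DRing.restrictD (algebraMap R B)).obj
      (DerivedCategory.Q.obj ((DTen.extCx (algebraMap A B)).obj P)) ≅
      (DRing.restrictD (algebraMap R B)).obj ((DRing.LBaseChange (algebraMap A B)).obj K) :=
    (DRing.restrictD (algebraMap R B)).mapIso
      ((Groth.Agent.Lib.Helper1.LDer.lbcIso (algebraMap A B) P).symm ≪≫
        (DRing.LBaseChange (algebraMap A B)).mapIso e)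
  have key := Groth.Agent.Lib.T2H4.TorRes.torAmp_restrict_iff_of_faithfullyFlat
    (algebraMap R A) (algebraMap R B) (IsScalarTower.algebraMap_eq R A B) P a b
  constructor
  · intro h
    exact Groth.Agent.Lib.Helper1.Tor.hasTorAmp_of_iso e2
      (key.1 (Groth.Agent.Lib.Helper1.Tor.hasTorAmp_of_iso e1.symm h))
  · intro h
    exact Groth.Agent.Lib.Helper1.Tor.hasTorAmp_of_iso e1
      (key.2 (Groth.Agent.Lib.Helper1.Tor.hasTorAmp_of_iso e2.symm h))

end Groth.Agent.S6951
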