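import Groth.Statements.S6966
import Mathlib

set_option autoImplicit false
universe u
open CategoryTheory CategoryTheory.Limits
attribute [local instance] HasDerivedCategory.standard
open CAlg

namespace Groth.Agent.S6966

open DerivedCategory in
lemma hom_proj_eq_zero {R : Type u} [CommRing R] (P N : ModuleCat.{u} R) [Projective P]
    (x : (singleFunctor (ModuleCat.{u} R) 0).obj P ⟶
      ((singleFunctor (ModuleCat.{u} R) 0).obj N)⟦(1 : ℤ)⟧) : x = 0 := by
  rw [← cancel_mono (((singleFunctors (ModuleCat.{u} R)).shiftIso 1 (-1) 0 (by lia)).hom.app N),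
    zero_comp]
  exact from_singleFunctor_obj_eq_zero_of_projective
    (L := (CochainComplex.singleFunctor (ModuleCat.{u} R) (-1)).obj N) (n := -1) _ (by lia)


/-- Let R be a commutative ring, I an ideal of R and M an R-module. Then the following two conditions
coincide: for each a ∈ I, the endomorphism of M given by multiplication by a can be written as a
composite M → P → M with P some projective R-module; and for every R-module N and every a ∈ I, a
annihilates Ext^1_R(M, N) = Hom(M[0], N[1]) in D(R). -/
theorem result (R : Type u) [CommRing R] (I : Ideal R) (M : Type u)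
    [AddCommGroup M] [Module R M] :
    (∀ a ∈ I, ∃ (P : Type u) (_ : AddCommGroup P) (_ : Module R P) (_ : Module.Projective R P)
        (f : M →ₗ[R] P) (g : P →ₗ[R] M), g ∘ₗ f = a • LinearMap.id) ↔
      ∀ (N : Type u) [AddCommGroup N] [Module R N], ∀ a ∈ I,
        ∀ x : DRing.ExtD R (Dual.inD R M) (Dual.inD R N) 1, a • x = 0 := by
  constructor
  · intro h N _ _ a ha x
    obtain ⟨P, _, _, hP, f, g, hgf⟩ := h a ha
    haveI : Projective (ModuleCat.of R P) := (IsProjective.iff_projective P).mp hP
    have h1 : a • x = (a • 𝟙 (Dual.inD R M)) ≫ x := by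
      rw [Linear.smul_comp, Category.id_comp]
    have h2 : a • 𝟙 (Dual.inD R M) =
        (DerivedCategory.singleFunctor (ModuleCat.{u} R) 0).map (ModuleCat.ofHom f) ≫
          (DerivedCategory.singleFunctor (ModuleCat.{u} R) 0).map (ModuleCat.ofHom g) := by
      rw [← Functor.map_comp, ← ModuleCat.ofHom_comp, hgf]
      have : ModuleCat.ofHom (a • (LinearMap.id : M →ₗ[R] M)) = a • 𝟙 (ModuleCat.of R M) := by
        ext; rfl
      rw [this, Functor.map_smul, CategoryTheory.Functor.map_id]
    have h3 := hom_proj_eq_zero (ModuleCat.of R P) (ModuleCat.of R N)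
      ((DerivedCategory.singleFunctor (ModuleCat.{u} R) 0).map (ModuleCat.ofHom g) ≫ x)
    rw [h1, h2, Category.assoc, h3, comp_zero]
  · intro h a ha
    let π : (M →₀ R) →ₗ[R] M := Finsupp.linearCombination R id
    have hπ : Function.Surjective π := Finsupp.linearCombination_id_surjective R M
    have hS := LinearMap.shortExact_shortComplexKer hπ
    have hT := hS.singleTriangle_distinguished
    have hδ := h (LinearMap.ker π) a ha hS.singleδ
    have h1 : (a • 𝟙 (Dual.inD R M)) ≫ hS.singleδ = 0 := by
      rw [Linear.smul_comp, Category.id_comp]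
      exact hδ
    obtain ⟨φ, hφ⟩ := Pretriangulated.Triangle.coyoneda_exact₃ _ hT (a • 𝟙 (Dual.inD R M)) h1
    obtain ⟨φ₀, rfl⟩ := (DerivedCategory.singleFunctor (ModuleCat.{u} R) 0).map_surjective φ
    have h2 : (DerivedCategory.singleFunctor (ModuleCat.{u} R) 0).map
        (a • 𝟙 (ModuleCat.of R M)) =
        (DerivedCategory.singleFunctor (ModuleCat.{u} R) 0).map (φ₀ ≫ ModuleCat.ofHom π) := by
      rw [Functor.map_smul, CategoryTheory.Functor.map_id, Functor.map_comp]
      exact hφ
    have h3 := (DerivedCategory.singleFunctor (ModuleCat.{u} R) 0).map_injective h2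
    refine ⟨(M →₀ R), inferInstance, inferInstance, inferInstance, φ₀.hom, π, ?_⟩
    have h4 := congrArg ModuleCat.Hom.hom h3
    rw [ModuleCat.hom_comp, ModuleCat.hom_ofHom] at h4
    rw [← h4]
    ext; rfl

end Groth.Agent.S6966
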