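import Groth.Statements.S6970
import Groth.Agent.S7013
import Groth.Agent.Lib.T2H4ProjLift
import Groth.Agent.Lib.Helper5NilFree
import Groth.Agent.Lib.Helper1ProjRes
import Groth.Agent.Lib.Helper1PCNil2

set_option autoImplicit false
universe u
open CategoryTheory CategoryTheory.Limits
attribute [local instance] HasDerivedCategory.standard
open DRing

namespace Groth.Agent.S6970

/-- Let R be a commutative ring and I a nilpotent ideal of R such that the derived base change D(R) →
D(R/I) exists. Let K be an object of D(R) and E a bounded above cochain complex of projective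
R/I-modules which is isomorphic in D(R/I) to K ⊗^L_R R/I. Then there is a bounded above cochain
complex P of projective R-modules which is isomorphic to K in D(R) and whose termwise reduction P
⊗_R R/I is isomorphic to E as a complex of R/I-modules. -/
theorem result (R : Type u) [CommRing R] (I : Ideal R)
    (hI : IsNilpotent I) [DRing.HasLBaseChange (Ideal.Quotient.mk I)] (K : Dual.D R)
    (E : DRing.Cx (R ⧸ I)) (b : ℤ) (hEb : DRing.VanishesAbove E b)
    (hEp : ∀ i : ℤ, Module.Projective (R ⧸ I) (E.X i))
    (hE : Nonempty (DRing.toD E ≅ (DRing.LBaseChange (Ideal.Quotient.mk I)).obj K)) :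
    ∃ (P : DRing.Cx R) (b' : ℤ), DRing.VanishesAbove P b' ∧ (∀ i : ℤ, Module.Projective R (P.X i)) ∧
      Nonempty (DRing.toD P ≅ K) ∧ Nonempty ((((ModuleCat.extendScalars (Ideal.Quotient.mk I)).mapHomologicalComplex (ComplexShape.up ℤ)).obj P) ≅ E) := by
  classical
  let Pc : ObjectProperty (ModuleCat.{u} R) := fun X => Module.Projective R X
  haveI : Pc.IsClosedUnderIsomorphisms := ⟨fun {X Y} e hX => by
    have : Module.Projective R X := hX
    exact (Module.Projective.of_equiv' e.toLinearEquiv : Module.Projective R Y)⟩
  obtain ⟨eE⟩ := hE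
  have hb : K.IsLE b := by
    obtain ⟨k, hk⟩ := hI
    refine Groth.Agent.Lib.Helper1.PCNil.isLE_of_isLE_LBC (Ideal.Quotient.mk I)
      Ideal.Quotient.mk_surjective k ?_ K b ?_
    · rw [Ideal.mk_ker, hk]
      rfl
    · haveI : E.IsStrictlyLE b := (CochainComplex.isStrictlyLE_iff E b).2 hEb
      haveI : (DRing.toD E).IsLE b := by
        rw [DerivedCategory.isLE_Q_obj_iff]
        infer_instance
      exact DerivedCategory.TStructure.t.isLE_of_iso eE b
  obtain ⟨Q, hQle, hQproj, ⟨eQ⟩⟩ := Groth.Agent.Lib.Helper1.ProjRes.exists_iso_Q_proj K b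
  refine Groth.Agent.S7013.result R I Pc (fun X hX => hX) ?_ ?_ K
    ⟨Q, b, fun i hi => Q.isZero_of_isStrictlyLE b i hi, fun i => ?_, ⟨eQ⟩⟩ E b hEb ?_ ⟨eE⟩
  · intro X Y hX
    have : Module.Projective R X := hX
    constructor
    · intro hXY
      have : Module.Projective R (X × Y) := hXY
      exact (Module.Projective.of_split (LinearMap.inr R X Y) (LinearMap.snd R X Y)
        (by ext; simp) : Module.Projective R Y)
    · intro hY
      have : Module.Projective R Y := hY
      exact (inferInstance : Module.Projective R (X × Y))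
  · intro X Y f _ _ h
    exact LinearMap.range_eq_top.1
      (Groth.Agent.Lib.Helper5.eq_top_of_sup_smul_top_eq_top_of_isNilpotent hI h)
  · have := hQproj i
    exact (ModuleCat.projective_of_module_projective _ : Module.Projective R (Q.X i))
  · intro i
    have : Module.Projective (R ⧸ I) (E.X i) := hEp i
    obtain ⟨X, _, _, hX, ⟨e⟩⟩ :=
      Groth.Agent.Lib.T2H4.ProjLift.exists_projective_lift I hI (E.X i)
    exact ⟨ModuleCat.of R X, hX, ⟨e⟩⟩

end Groth.Agent.S6970
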