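import Groth.Statements.S6973
import Groth.Agent.S7013
import Groth.Agent.Lib.T2H4StablyFree
import Groth.Agent.Lib.LeadHensProj

set_option autoImplicit false
universe u
open CategoryTheory CategoryTheory.Limits
attribute [local instance] HasDerivedCategory.standard
open DRing

namespace Groth.Agent.S6973

/-- Let (R, I) be a henselian pair such that the derived base change D(R) → D(R/I) exists, K a
pseudo-coherent object of D(R), and E a bounded above cochain complex of finite projective
R/I-modules which is isomorphic in D(R/I) to K ⊗^L_R R/I. Then there is a bounded above cochain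
complex P of finite projective R-modules, isomorphic to K in D(R), whose termwise reduction P ⊗_R
R/I is isomorphic to E as a complex, and such that P^i is free for every i for which E^i is free. -/
theorem result (R : Type u) [CommRing R]
    (I : Ideal R) [HenselianRing R I] [DRing.HasLBaseChange (Ideal.Quotient.mk I)] (K : Dual.D R)
    (hK : DRing.IsPseudoCoherent' R K) (E : DRing.Cx (R ⧸ I)) (b : ℤ) (hEb : DRing.VanishesAbove E b)
    (hEp : DRing.TermwiseFiniteProjective E)
    (hE : Nonempty (DRing.toD E ≅ (DRing.LBaseChange (Ideal.Quotient.mk I)).obj K)) :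
    ∃ (P : DRing.Cx R) (b' : ℤ), DRing.VanishesAbove P b' ∧ DRing.TermwiseFiniteProjective P ∧
      Nonempty (DRing.toD P ≅ K) ∧ Nonempty ((((ModuleCat.extendScalars (Ideal.Quotient.mk I)).mapHomologicalComplex (ComplexShape.up ℤ)).obj P) ≅ E) ∧
      ∀ i : ℤ, Module.Free (R ⧸ I) (E.X i) → Module.Free R (P.X i) := by
  classical
  have hI : I ≤ Ideal.jacobson (⊥ : Ideal R) := HenselianRing.jac
  let Pc : ObjectProperty (ModuleCat.{u} R) :=
    fun X => Module.Finite R X ∧ Module.Projective R X
  haveI : Pc.IsClosedUnderIsomorphisms := ⟨fun {X Y} e hX => by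
    obtain ⟨h1, h2⟩ := hX
    exact ⟨Module.Finite.equiv e.toLinearEquiv, Module.Projective.of_equiv' e.toLinearEquiv⟩⟩
  have H : Groth.Agent.Lib.T2H4.CxLift.PHyp I Pc :=
    { h1 := fun X hX => hX.2
      h2 := fun X Y hX => by
        have := hX.1
        have := hX.2
        constructor
        · rintro ⟨hf, hs⟩
          have hf' : Module.Finite R (X × Y) := hf
          have hs' : Module.Projective R (X × Y) := hs
          exact ⟨Module.Finite.of_surjective (LinearMap.snd R X Y) LinearMap.snd_surjective,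
            (Module.Projective.of_split (LinearMap.inr R X Y) (LinearMap.snd R X Y)
              (by ext; simp) : Module.Projective R Y)⟩
        · rintro ⟨hf, hs⟩
          exact ⟨(inferInstance : Module.Finite R (X × Y)),
            (inferInstance : Module.Projective R (X × Y))⟩
      h3 := fun X Y f _ hY h => by
        have := hY.1
        exact Groth.Agent.Lib.T2H4.StablyFree.surjective_of_le_jacobson hI f.hom h }
  have hK' : ∃ (Q : DRing.Cx R) (c : ℤ), DRing.VanishesAbove Q c ∧ (∀ i : ℤ, Pc (Q.X i)) ∧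
      Nonempty (DRing.toD Q ≅ K) := by
    obtain ⟨Q, c, hQc, hQff, hQK⟩ := hK
    refine ⟨Q, c, hQc, fun i => ⟨(hQff i).1, ?_⟩, hQK⟩
    have := (hQff i).2
    infer_instance
  have hEt : ∀ i : ℤ, ∃ X : ModuleCat.{u} R, Pc X ∧
      Nonempty (TensorProduct R (R ⧸ I) X ≃ₗ[R ⧸ I] E.X i) := by
    intro i
    have := (hEp i).1
    have := (hEp i).2
    obtain ⟨X, _, _, hXfin, hXproj, ⟨θ⟩⟩ :=
      Groth.Agent.Lib.LeadHensProj.exists_finiteProjective_lift I (E.X i)
    exact ⟨ModuleCat.of R X, ⟨hXfin, hXproj⟩, ⟨θ⟩⟩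
  obtain ⟨P, b', hPb, hPc, hPK, ⟨eP⟩⟩ :=
    Groth.Agent.S7013.result R I Pc H.h1 H.h2 H.h3 K hK' E b hEb hEt hE
  refine ⟨P, b', hPb, hPc, hPK, ⟨eP⟩, ?_⟩
  intro i hfreeE
  have hfin := (hPc i).1
  exact @Groth.Agent.Lib.T2H4.StablyFree.free_of_iso R _ I Pc _ H
    (fun G hfin hfree => ⟨hfin, inferInstance⟩) (P.X i) (hPc i) hfin (E.X i) _ _ hfreeE
    (((HomologicalComplex.eval _ _ i).mapIso eP).toLinearEquiv)

end Groth.Agent.S6973
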