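import Groth.Statements.S6980
import Groth.Agent.Lib.T2H4TwoIdeal
import Groth.Agent.Lib.T2H4LDerExist

set_option autoImplicit false
universe u
open CategoryTheory CategoryTheory.Limits
attribute [local instance] HasDerivedCategory.standard
open DRing

namespace Groth.Agent.S6980

/-- Let R be a commutative ring, I and J ideals of R such that the derived base changes D(R) → D(R/I),
D(R/J), D(R/IJ) exist, and K an object of D(R). If K ⊗^L_R R/I is perfect in D(R/I) and K ⊗^L_R R/J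
is perfect in D(R/J), then K ⊗^L_R R/IJ is perfect in D(R/IJ). -/
theorem result (R : Type u) [CommRing R] (I J : Ideal R)
    [DRing.HasLBaseChange (Ideal.Quotient.mk I)] [DRing.HasLBaseChange (Ideal.Quotient.mk J)]
    [DRing.HasLBaseChange (Ideal.Quotient.mk (I * J))] (K : Dual.D R)
    (hI : DRing.IsPerfect (R ⧸ I) ((DRing.LBaseChange (Ideal.Quotient.mk I)).obj K))
    (hJ : DRing.IsPerfect (R ⧸ J) ((DRing.LBaseChange (Ideal.Quotient.mk J)).obj K)) :
    DRing.IsPerfect (R ⧸ (I * J)) ((DRing.LBaseChange (Ideal.Quotient.mk (I * J))).obj K) := by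
  
  have hIle : I * J ≤ I := Ideal.mul_le_left
  have hJle : I * J ≤ J := Ideal.mul_le_right
  haveI : DRing.HasLBaseChange (Ideal.Quotient.factor hIle) :=
    Groth.Agent.Lib.T2H4.LDerExist.hasLBaseChange _
  haveI : DRing.HasLBaseChange (Ideal.Quotient.factor hJle) :=
    Groth.Agent.Lib.T2H4.LDerExist.hasLBaseChange _
  obtain ⟨e₁⟩ := Groth.Agent.Lib.T2H4.TwoIdeal.nonempty_lbc_trans (Ideal.Quotient.mk (I * J))
    (Ideal.Quotient.factor hIle) (Ideal.Quotient.mk I) (Ideal.Quotient.factor_comp_mk hIle) K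
  obtain ⟨e₂⟩ := Groth.Agent.Lib.T2H4.TwoIdeal.nonempty_lbc_trans (Ideal.Quotient.mk (I * J))
    (Ideal.Quotient.factor hJle) (Ideal.Quotient.mk J) (Ideal.Quotient.factor_comp_mk hJle) K
  have hp₁ : DRing.IsPerfect (R ⧸ I) ((DRing.LBaseChange (Ideal.Quotient.factor hIle)).obj
      ((DRing.LBaseChange (Ideal.Quotient.mk (I * J))).obj K)) := by
    obtain ⟨E, a, b, h1, h2, ⟨e⟩⟩ := hI
    exact ⟨E, a, b, h1, h2, ⟨e ≪≫ e₁.symm⟩⟩
  have hp₂ : DRing.IsPerfect (R ⧸ J) ((DRing.LBaseChange (Ideal.Quotient.factor hJle)).obj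
      ((DRing.LBaseChange (Ideal.Quotient.mk (I * J))).obj K)) := by
    obtain ⟨E, a, b, h1, h2, ⟨e⟩⟩ := hJ
    exact ⟨E, a, b, h1, h2, ⟨e ≪≫ e₂.symm⟩⟩
  have hker : RingHom.ker (Ideal.Quotient.factor hIle) * RingHom.ker (Ideal.Quotient.factor hJle)
      = ⊥ := by
    rw [Ideal.Quotient.factor_ker, Ideal.Quotient.factor_ker, ← Ideal.map_mul,
      Ideal.map_quotient_self]
  exact Groth.Agent.Lib.T2H4.TwoIdeal.isPerfect_of_LBC₂ _ _
    (Ideal.Quotient.factor_surjective hIle) (Ideal.Quotient.factor_surjective hJle) hker _ hp₁ hp₂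

end Groth.Agent.S6980
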