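import Groth.Statements.S6989
import Mathlib
import Groth.Agent.S6988
import Groth.Agent.S6942
import Groth.Agent.Lib.Helper1PCTower
import Groth.Agent.Lib.T2H4ExtCocycle

set_option autoImplicit false
universe u
open CategoryTheory CategoryTheory.Limits
attribute [local instance] HasDerivedCategory.standard
open DRing

namespace Groth.Agent.S6989


open DerivedCategory HomologicalComplex Groth.Agent.Lib.Helper1.Compact
open Groth.Agent.Lib.Helper21.DTrunc Groth.Agent.S6988 Groth.Agent.Lib.T2H4.ExtCocycle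

variable {R : Type u} [CommRing R]

/-- Artin–Rees consequence: a submodule `N` with `m N ≠ N` is not contained in all `m^n M`. -/
lemma exists_not_le_pow [IsNoetherianRing R] (m : Ideal R) {M : Type u} [AddCommGroup M]
    [Module R M] [Module.Finite R M] (N : Submodule R M) (hN : ¬ N ≤ m • N) :
    ∃ n : ℕ, ¬ N ≤ (m ^ n • ⊤ : Submodule R M) := by
  obtain ⟨k, hk⟩ := Ideal.exists_pow_inf_eq_pow_smul m N
  refine ⟨k + 1, fun h => hN ?_⟩
  have h1 : N = m ^ (k + 1) • ⊤ ⊓ N := (inf_eq_right.2 h).symm
  rw [hk (k + 1) (Nat.le_succ k), Nat.add_sub_cancel_left, pow_one] at h1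
  calc N = m • (m ^ k • ⊤ ⊓ N) := h1
    _ ≤ m • N := Submodule.smul_mono le_rfl inf_le_right

/-- the chain map `P ⟶ (P^i/B^i)/J [-i]`. -/
lemma homologyι_comp_eq_zero (P : DRing.Cx R) (i : ℤ) {E : ModuleCat.{u} R}
    (q : P.opcycles i ⟶ E)
    (h : homologyMap (toOpcycles P i ≫
      (HomologicalComplex.single (ModuleCat.{u} R) (ComplexShape.up ℤ) i).map q) i = 0) :
    P.homologyι i ≫ q = 0 := by
  set c := toOpcycles P i ≫
      (HomologicalComplex.single (ModuleCat.{u} R) (ComplexShape.up ℤ) i).map q with hc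
  have h0 : (Sg i E).d (i - 1) i = 0 := HomologicalComplex.single_obj_d _ _ _ _ _
  have hiso : IsIso ((Sg i E).pOpcycles i) :=
    (Sg i E).isIso_pOpcycles (i - 1) i (by simp) h0
  have hcf : c.f i = P.pOpcycles i ≫ q ≫ (singleObjXSelf (ComplexShape.up ℤ) i E).inv := by
    rw [hc, toOpcycles, toSingle_comp, toSingle_f, Category.assoc]
  have h1 : P.pOpcycles i ≫ opcyclesMap c i =
      P.pOpcycles i ≫ (q ≫ (singleObjXSelf (ComplexShape.up ℤ) i E).inv ≫
        (Sg i E).pOpcycles i) := by
    rw [p_opcyclesMap, hcf, Category.assoc, Category.assoc]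
  have h2 : opcyclesMap c i = q ≫ (singleObjXSelf (ComplexShape.up ℤ) i E).inv ≫
        (Sg i E).pOpcycles i := (cancel_epi _).1 h1
  have h3 : homologyMap c i ≫ (Sg i E).homologyι i = P.homologyι i ≫ opcyclesMap c i :=
    homologyι_naturality _ _
  rw [h, zero_comp, h2, ← Category.assoc] at h3
  have : IsIso ((singleObjXSelf (ComplexShape.up ℤ) i E).inv ≫ (Sg i E).pOpcycles i) :=
    inferInstance
  exact ((cancel_mono _).1 (h3.symm.trans (zero_comp).symm))


/-- Let A be a Noetherian commutative ring, K an object of D(A) whose cohomology vanishes in large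
degrees and whose cohomology modules are all finitely generated, m a maximal ideal of A and i an
integer such that m H^i(K) ≠ H^i(K). Then some finitely generated A-module E killed by a power of m
receives a morphism K → E[-i] in D(A) whose induced map H^i(K) → H^i(E[-i]) is nonzero. -/
theorem result (A : Type u) [CommRing A]
    [IsNoetherianRing A] (K : Dual.D A) (hb : ∃ b : ℤ, ∀ j : ℤ, b < j → Subsingleton (Dual.HD A K j))
    (hfin : ∀ j : ℤ, Module.Finite A (Dual.HD A K j)) (m : Ideal A) [m.IsMaximal] (i : ℤ)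
    (hi : m • (⊤ : Submodule A (Dual.HD A K i)) ≠ ⊤) :
    ∃ (E : Type u) (_ : AddCommGroup E) (_ : Module A E) (_ : Module.Finite A E) (n : ℕ)
      (_ : m ^ n • (⊤ : Submodule A E) = ⊥) (f : K ⟶ (shiftFunctor (Dual.D A) (-i)).obj (Dual.inD A E)),
      (DerivedCategory.homologyFunctor (ModuleCat.{u} A) i).map f ≠ 0 := by
  have hpc : DRing.IsPseudoCoherent' A K := by
    apply Groth.Agent.Lib.Helper1.PCTower.isPseudoCoherent'_of_forall
    intro m'
    exact ((Groth.Agent.S6942.result A m' K PUnit.{u + 1}).1).2 ⟨hb, fun j _ => hfin j⟩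
  obtain ⟨P, b, hPb, hff, ⟨e⟩⟩ := hpc
  have := (hff i).1
  have hsurj : Function.Surjective (P.pOpcycles i).hom :=
    (ModuleCat.epi_iff_surjective _).1 inferInstance
  have hMfin : Module.Finite A (P.opcycles i) := Module.Finite.of_surjective _ hsurj
  -- the iso on homology
  let φ : (homologyFunctor (ModuleCat.{u} A) i).obj K ≅ P.homology i :=
    (homologyFunctor (ModuleCat.{u} A) i).mapIso e.symm ≪≫
      (homologyFunctorFactors (ModuleCat.{u} A) i).app P
  have hi' : m • (⊤ : Submodule A (P.homology i)) ≠ ⊤ := by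
    intro h
    apply hi
    rw [eq_top_iff]
    intro x _
    have hx : φ.hom.hom x ∈ m • (⊤ : Submodule A (P.homology i)) := by rw [h]; trivial
    have := map_smul_top_le m φ.inv.hom hx
    have h2 : φ.inv.hom (φ.hom.hom x) = x := by
      have := ConcreteCategory.congr_hom φ.hom_inv_id x
      simpa using this
    rwa [h2] at this
  -- the submodule `N`
  have hinj : Function.Injective (P.homologyι i).hom :=
    (ModuleCat.mono_iff_injective _).1 inferInstance
  have hN : ¬ LinearMap.range (P.homologyι i).hom ≤ m • LinearMap.range (P.homologyι i).hom := by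
    intro h
    apply hi'
    rw [eq_top_iff]
    intro x _
    have hx : (P.homologyι i).hom x ∈ m • LinearMap.range (P.homologyι i).hom := h ⟨x, rfl⟩
    rw [LinearMap.range_eq_map, ← Submodule.map_smul''] at hx
    obtain ⟨y, hy, hyx⟩ := hx
    rwa [← hinj hyx]
  obtain ⟨n, hn⟩ := exists_not_le_pow m _ hN
  let J : Submodule A (P.opcycles i) := m ^ n • ⊤
  let q : P.opcycles i ⟶ ModuleCat.of A ((P.opcycles i) ⧸ J) := ModuleCat.ofHom J.mkQ
  have hkill : m ^ n • (⊤ : Submodule A ((P.opcycles i) ⧸ J)) = ⊥ := by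
    have h1 : (⊤ : Submodule A ((P.opcycles i) ⧸ J)) = Submodule.map J.mkQ ⊤ := by
      rw [Submodule.map_top, Submodule.range_mkQ]
    rw [h1, ← Submodule.map_smul'']
    exact (Submodule.mkQ_map_self J)
  refine ⟨(P.opcycles i) ⧸ J, inferInstance, inferInstance, inferInstance, n, hkill,
    e.inv ≫ Q.map (toOpcycles P i ≫
      (HomologicalComplex.single (ModuleCat.{u} A) (ComplexShape.up ℤ) i).map q) ≫
      (shiftSingleIso (-i) i (by lia) (ModuleCat.of A ((P.opcycles i) ⧸ J))).inv, ?_⟩
  intro hz
  rw [Functor.map_comp, Functor.map_comp] at hz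
  have h1 : (homologyFunctor (ModuleCat.{u} A) i).map (Q.map (toOpcycles P i ≫
      (HomologicalComplex.single (ModuleCat.{u} A) (ComplexShape.up ℤ) i).map q)) = 0 := by
    have h2 := congrArg (fun t => (homologyFunctor (ModuleCat.{u} A) i).map e.hom ≫ t ≫
      (homologyFunctor (ModuleCat.{u} A) i).map
        (shiftSingleIso (-i) i (by lia) (ModuleCat.of A ((P.opcycles i) ⧸ J))).hom) hz
    simp only [Category.assoc, ← Functor.map_comp, Iso.inv_hom_id, Functor.map_id, Category.comp_id,
      comp_zero, zero_comp] at h2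
    simpa [← Functor.map_comp_assoc] using h2
  rw [homologyFunctor_map_Q_eq_zero_iff] at h1
  have h3 := homologyι_comp_eq_zero P i q h1
  apply hn
  rintro _ ⟨x, rfl⟩
  have := ConcreteCategory.congr_hom h3 x
  have h4 : J.mkQ ((P.homologyι i).hom x) = 0 := this
  rwa [Submodule.mkQ_apply, Submodule.Quotient.mk_eq_zero] at h4

end Groth.Agent.S6989
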