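import Groth.Statements.S7002
import Mathlib
import Groth.Agent.Lib.T2H4CutCx
import Groth.Agent.Lib.Helper1PCBiprod
import Groth.Agent.S7004
import Groth.Agent.S6976
import Groth.Agent.S6938

set_option autoImplicit false
universe u
open CategoryTheory CategoryTheory.Limits
attribute [local instance] HasDerivedCategory.standard
open DRing

namespace Groth.Agent.S7002

/-- Let R be a commutative ring, p a prime ideal of R with residue field κ(p), such that the derived
base change D(R) → D(κ(p)) exists; let i be an integer and K a cochain complex of R-modules which is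
pseudo-coherent in D(R) and satisfies H^i(K ⊗^L_R κ(p)) = 0. Then there is an element f ∈ R with f ∉
p such that, for the termwise localization K_f of K over R_f, the truncation τ_(≥ i+1) K_f is
perfect in D(R_f), its tor amplitude lying in [i+1, b] for some integer b, and K_f ≅ τ_(≥ i+1) K_f ⊕
τ_(≤ i-1) K_f in D(R_f) by an isomorphism carrying K_f → τ_(≥ i+1) K_f to the first projection and
τ_(≤ i-1) K_f → K_f to the second inclusion. -/
theorem result (R : Type u) [CommRing R]
    (p : Ideal R) [p.IsPrime] [DRing.HasLBaseChange (algebraMap R p.ResidueField)] (i : ℤ) (K : DRing.Cx R)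
    (hK : DRing.IsPseudoCoherent' R (DRing.toD K))
    (hi : Subsingleton (Dual.HD p.ResidueField ((DRing.LBaseChange (algebraMap R p.ResidueField)).obj (DRing.toD K)) i)) :
    ∃ f : R, f ∉ p ∧
      let Kf := DRing.toD (((ModuleCat.extendScalars (algebraMap R (Localization.Away f))).mapHomologicalComplex
        (ComplexShape.up ℤ)).obj K)
      let t := (DerivedCategory.TStructure.t : Triangulated.TStructure (Dual.D (Localization.Away f)))
      let Kge := (t.truncGE (i + 1)).obj Kf
      let Klt := (t.truncLT i).obj Kf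
      DRing.IsPerfect (Localization.Away f) Kge ∧
        (∃ b : ℤ, DRing.HasTorAmplitudeIn (Localization.Away f) (i + 1) b Kge) ∧
        ∀ [HasBinaryBiproduct Kge Klt], ∃ e : Kf ≅ Kge ⊞ Klt,
          e.hom ≫ biprod.fst = (t.truncGEπ (i + 1)).app Kf ∧ (t.truncLTι i).app Kf ≫ e.hom = biprod.inr := by
  
  obtain ⟨F, b₀, hFb, hff, ⟨e⟩⟩ := id hK
  have hex := Groth.Agent.Lib.T2H4.CutCx.exact_lTensor_of_subsingleton (κ := p.ResidueField)
    i F b₀ hFb hff (DRing.toD K) e hi
  have hfin : ∀ j, Module.Finite R (F.X j) := fun j => (hff j).1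
  have hfree : ∀ j, Module.Free R (F.X j) := fun j => (hff j).2
  have hba : (F.d i (i + 1)).hom ∘ₗ (F.d (i - 1) i).hom = 0 := by
    have h1 := F.d_comp_d (i - 1) i (i + 1)
    have h2 := congrArg ModuleCat.Hom.hom h1
    exact h2
  obtain ⟨f, hf, t, s, hts⟩ := Groth.Agent.Lib.T2H4.CutCx.exists_splitting_up_to_unit p
    (fun x => Ideal.algebraMap_residueField_eq_zero)
    (Groth.Agent.Lib.T2H4.CutCx.residueField_frac p) (F.d (i - 1) i).hom (F.d i (i + 1)).hom hba hex
  refine ⟨f, hf, ?_⟩
  intro Kf tt Kge Klt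
  -- the localized representative
  obtain ⟨G, hG⟩ : ∃ G : DRing.Cx (Localization.Away f),
      G = (Groth.Agent.Lib.Helper1.Extend.extCx R (Localization.Away f)).obj F := ⟨_, rfl⟩
  have eG : DerivedCategory.Q.obj G ≅ Kf := by
    rw [hG]
    exact (Groth.Agent.Lib.Helper1.Extend.mapQIso
        (Groth.Agent.Lib.Helper1.Extend.ext R (Localization.Away f)) F).symm ≪≫
      (Groth.Agent.Lib.Helper1.Extend.extD R (Localization.Away f)).mapIso e ≪≫
      Groth.Agent.Lib.Helper1.Extend.mapQIso
        (Groth.Agent.Lib.Helper1.Extend.ext R (Localization.Away f)) K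
  have hGb : DRing.VanishesAbove G b₀ := by
    intro j hj
    rw [hG]
    exact (Groth.Agent.Lib.Helper1.Extend.ext R (Localization.Away f)).map_isZero (hFb j hj)
  have hGff : DRing.TermwiseFiniteFree G := by
    intro j
    rw [hG]
    exact Groth.Agent.Lib.Helper1.Extend.FF_ext _ (hff j)
  haveI : G.IsKProjective := Groth.Agent.Lib.Helper1.LDer.isKProjective_of_vanishesAbove G b₀ hGb
    (fun j => by
      have := (hGff j).2
      infer_instance)
  have hvan : ∀ (M : Type u) [AddCommGroup M] [Module (Localization.Away f) M],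
      Subsingleton (Kf ⟶ (shiftFunctor (Dual.D (Localization.Away f)) (-i)).obj
        (Dual.inD (Localization.Away f) M)) := by
    intro M _ _
    refine Groth.Agent.Lib.T2H4.CutCx.subsingleton_hom_of_Q_map_eq_zero i Kf G eG (fun B g => ?_) M
    subst hG
    exact Groth.Agent.Lib.T2H4.CutCx.Q_map_eq_zero_of_splitting
      (algebraMap R (Localization.Away f)) F i f (IsLocalization.Away.algebraMap_isUnit f) t s hts B g
  -- boundedness above
  have hKb : ∃ b : ℤ, ∀ j : ℤ, b < j → Subsingleton (Dual.HD (Localization.Away f) Kf j) := by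
    refine ⟨b₀, fun j hj => ?_⟩
    have hGle : G.IsStrictlyLE b₀ := by
      rw [CochainComplex.isStrictlyLE_iff]
      exact hGb
    have hQle : (DerivedCategory.Q.obj G).IsLE b₀ := inferInstance
    have hKle : Kf.IsLE b₀ := tt.isLE_of_iso eG b₀
    exact ModuleCat.subsingleton_of_isZero ((DerivedCategory.isLE_iff Kf b₀).1 hKle j hj)
  obtain ⟨⟨e', he1, he2⟩, P, b, hPv, hPp, ⟨eP⟩⟩ :=
    Groth.Agent.S7004.result (Localization.Away f) i Kf hKb hvan
  -- pseudo-coherence
  have hpcf : ∀ m : ℤ, DRing.IsPseudoCoherent (Localization.Away f) m Kf := by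
    intro m
    have h1 := Groth.Agent.Lib.Helper1.Extend.isPC'_extD (B := Localization.Away f) (DRing.toD K) hK
    exact Groth.Agent.Lib.Helper1.PC.isPC_of_iso (Groth.Agent.Lib.Helper1.Extend.mapQIso
        (Groth.Agent.Lib.Helper1.Extend.ext R (Localization.Away f)) K)
      (Groth.Agent.S6938.isPC_of_pc' _ h1 m)
  have hpcge : DRing.IsPseudoCoherent' (Localization.Away f) Kge :=
    Groth.Agent.Lib.Helper1.PCTower.isPseudoCoherent'_of_forall Kge (fun m =>
      (Groth.Agent.Lib.Helper1.PCBiprod.isPC_of_biprod m Klt Kge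
        (Groth.Agent.Lib.Helper1.PC.isPC_of_iso e' (hpcf m))).2)
  have h76 := (Groth.Agent.S6976.result (Localization.Away f) Kge hpcge (i + 1) b).1
    ⟨P, hPv, hPp, ⟨eP⟩⟩
  refine ⟨h76.1, ⟨b, h76.2⟩, ?_⟩
  intro inst
  refine ⟨e' ≪≫ biprod.braiding Klt Kge, ?_, ?_⟩
  · rw [Iso.trans_hom, Category.assoc, biprod.braiding_hom, biprod.lift_fst]
    exact he2
  · rw [Iso.trans_hom, ← Category.assoc]
    erw [he1]
    rw [biprod.braiding_hom]
    apply biprod.hom_ext
    · rw [Category.assoc, biprod.lift_fst, biprod.inl_snd, biprod.inr_fst]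
    · rw [Category.assoc, biprod.lift_snd, biprod.inl_fst, biprod.inr_snd]

end Groth.Agent.S7002
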