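import Groth.Statements.S7009
import Groth.Agent.Lib.T2H4PerfDescend

set_option autoImplicit false
universe u
open CategoryTheory CategoryTheory.Limits
attribute [local instance] HasDerivedCategory.standard
open DRing

namespace Groth.Agent.S7009

/-- Let (R_j) be a diagram of commutative rings over a small filtered category with colimit R, such that
the derived base change D(R_j) → D(R) exists for every j, and let K be a perfect object of D(R).
Then there exist an index j and a perfect object K_j of D(R_j) such that K_j ⊗^L R is isomorphic to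
K in D(R). -/
theorem result {J : Type u} [SmallCategory J] [IsFiltered J]
    (F : J ⥤ CommRingCat.{u}) (c : Cocone F) (hc : IsColimit c)
    [∀ j : J, DRing.HasLBaseChange (c.ι.app j).hom] (K : Dual.D c.pt) (hK : DRing.IsPerfect c.pt K) :
    ∃ (j : J) (Kj : Dual.D (F.obj j)), DRing.IsPerfect (F.obj j) Kj ∧
      Nonempty ((DRing.LBaseChange (c.ι.app j).hom).obj Kj ≅ K) := by
  
  obtain ⟨E, a, b, hv, hp, ⟨e⟩⟩ := hK
  obtain ⟨N, 𝒟, h0, hsplit⟩ := Groth.Agent.Lib.T2H4.PerfDescend.exists_data E a b hv hp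
  obtain ⟨j, 𝒟j, h0j, hmap⟩ :=
    Groth.Agent.Lib.T2H4.PerfDescend.exists_descend_data F c hc 𝒟 a b h0
  obtain ⟨Y, hY⟩ := 𝒟j.exists_split
  have hYv := Groth.Agent.Lib.T2H4.PerfDescend.Data.IsSplit.vanishes 𝒟j hY a b h0j
  have hYp := Groth.Agent.Lib.T2H4.PerfDescend.Data.IsSplit.termwise 𝒟j hY
  have hbc : 𝒟.IsSplit ((Groth.Agent.Lib.Helper1.LDer.bcCx (c.ι.app j).hom).obj Y) :=
    hmap ▸ Groth.Agent.Lib.T2H4.PerfDescend.Data.IsSplit.bc 𝒟j (c.ι.app j).hom hY
  obtain ⟨e'⟩ := Groth.Agent.Lib.T2H4.PerfDescend.Data.IsSplit.unique 𝒟 hbc hsplit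
  have : Y.IsKProjective :=
    Groth.Agent.Lib.Helper1.LDer.isKProjective_of_vanishesAbove Y b (fun i hi => hYv i (Or.inr hi))
      (fun i => (hYp i).2)
  exact ⟨j, DerivedCategory.Q.obj Y, ⟨Y, a, b, hYv, hYp, ⟨Iso.refl _⟩⟩,
    ⟨Groth.Agent.Lib.Helper1.LDer.lbcIso _ Y ≪≫ DerivedCategory.Q.mapIso e' ≪≫ e⟩⟩

end Groth.Agent.S7009
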