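import Groth.Statements.S7058
import Groth.Agent.S7160
import Groth.Agent.Lib.Helper10DerComplete4

set_option autoImplicit false
universe u
attribute [local instance] HasDerivedCategory.standard
open CategoryTheory
open DRing

namespace Groth.Agent.S7058

open Groth.Agent.Lib.Helper10.DerComplete

/-- Let A be a commutative ring, I a finitely generated ideal, and assume the derived completion functor
(left adjoint to the inclusion of derived complete objects of D(A)) exists. If K is a cochain
complex of A-modules and some f in I acts bijectively on every term of K, then the derived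
completion of K is zero. -/
theorem result {A : Type u} [CommRing A] (I : Ideal A) (hI : I.FG)
    [DRing.HasDerivedCompletion I] (K : DRing.Cx A) (f : A) (hf : f ∈ I)
    (hK : ∀ i : ℤ, Function.Bijective (fun x : K.X i => f • x)) :
    Limits.IsZero ((DRing.derivedCompletion I).obj (DRing.toD K)).obj := by
  classical
  let L := DRing.derivedCompletion I
  let adj := DRing.derivedCompletionAdj I
  let Z := L.obj (DRing.toD K)
  have hcx : IsIso (f • 𝟙 K : K ⟶ K) := by
    have : ∀ i, IsIso ((f • 𝟙 K : K ⟶ K).f i) := fun i => by
      rw [ConcreteCategory.isIso_iff_bijective]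
      exact hK i
    exact HomologicalComplex.Hom.isIso_of_components _
  have hμ : IsIso (f • 𝟙 (DRing.toD K) : DRing.toD K ⟶ DRing.toD K) := by
    have h0 : (f • 𝟙 (DRing.toD K)) = DerivedCategory.Q.map (f • 𝟙 K) := by
      rw [Functor.map_smul, CategoryTheory.Functor.map_id]
    rw [h0]
    infer_instance
  obtain ⟨ψ, hψ⟩ := (ObjectProperty.ι (DRing.IsDerivedComplete I)).map_surjective
    (f • 𝟙 Z.obj : Z.obj ⟶ Z.obj)
  have hLμ : L.map (f • 𝟙 (DRing.toD K)) = ψ := by
    apply (adj.homEquiv _ _).injective
    rw [adj.homEquiv_unit, adj.homEquiv_unit, hψ]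
    have nat := adj.unit.naturality (f • 𝟙 (DRing.toD K))
    simp only [Functor.id_map, Functor.comp_map] at nat
    rw [← nat, Linear.smul_comp, Linear.comp_smul]
    erw [Category.id_comp, Category.comp_id]
  have hψiso : IsIso ψ := by
    rw [← hLμ]
    infer_instance
  have hfZ : IsIso (f • 𝟙 Z.obj : Z.obj ⟶ Z.obj) := by
    rw [← hψ]
    infer_instance
  have hcrit := (isDerivedComplete_iff_forall_crit I Z.obj).1 Z.property f hf
  have hz : ∀ i, Limits.IsZero ((DerivedCategory.homologyFunctor (ModuleCat.{u} A) i).obj Z.obj) := by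
    intro i
    have h1 : IsIso ((DerivedCategory.homologyFunctor (ModuleCat.{u} A) i).map
        (f • 𝟙 Z.obj : Z.obj ⟶ Z.obj)) := inferInstance
    rw [Groth.Agent.S7160.homologyFunctor_map_smul_id] at h1
    have hs : Function.Surjective (fun x : Dual.HD A Z.obj i => f • x) :=
      ((ConcreteCategory.isIso_iff_bijective _).1 h1).2
    have : Subsingleton (Dual.HD A Z.obj i) := ⟨fun x y => by
      rw [(hcrit i).eq_zero_of_surjective hs x, (hcrit i).eq_zero_of_surjective hs y]⟩
    exact ModuleCat.isZero_of_subsingleton _
  have h1 : Z.obj.IsLE 0 := (DerivedCategory.isLE_iff _ 0).2 (fun i _ => hz i)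
  have h2 : Z.obj.IsGE 1 := (DerivedCategory.isGE_iff _ 1).2 (fun i _ => hz i)
  exact DerivedCategory.TStructure.t.isZero Z.obj 0 1


end Groth.Agent.S7058
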