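import Groth.Statements.S7066
import Groth.Agent.Lib.T2H7PerfHom
import Groth.Agent.Lib.T2H7PolyTorB
import Groth.Agent.S6954

set_option autoImplicit false
universe u
attribute [local instance] HasDerivedCategory.standard
open MoreMor

namespace Groth.Agent.S7066

/-- A homomorphism of commutative rings A → B is perfect, i.e. pseudo-coherent with B of finite tor
dimension as an A-module, if and only if B is a quotient of a polynomial ring A[x_1, …, x_n] over
which B is a perfect module, i.e. B placed in degree 0 is isomorphic in the derived category of the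
polynomial ring to a bounded complex of finite projective modules. -/
theorem result (A B : Type u) [CommRing A] [CommRing B] [Algebra A B] :
    MoreMor.IsPerfectHom A B ↔
      ∃ (n : ℕ) (φ : MvPolynomial (Fin n) A →ₐ[A] B), Function.Surjective φ ∧
        letI := φ.toRingHom.toAlgebra
        DRing.IsPerfectModule (MvPolynomial (Fin n) A) B := by
  constructor
  · rintro ⟨⟨n, φ, hφ, hpc⟩, ⟨d, hd⟩⟩
    refine ⟨n, φ, hφ, ?_⟩
    let _ : Algebra (MvPolynomial (Fin n) A) B := φ.toRingHom.toAlgebra
    have tower : IsScalarTower A (MvPolynomial (Fin n) A) B :=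
      .of_algebraMap_eq' φ.comp_algebraMap.symm
    have hT : DRing.HasTorDimLE (MvPolynomial (Fin n) A) (d + n) B :=
      Groth.Agent.Lib.T2H7.PolyTorB.hasTorDimLE_mvPolynomial A n B d hd
    exact (Groth.Agent.S6954.result (MvPolynomial (Fin n) A)
      (Dual.inD (MvPolynomial (Fin n) A) B)).2
      ⟨hpc, Groth.Agent.Lib.T2H7.PerfHom.hasFiniteTorDimCx_of_hasFiniteTorDim B ⟨d + n, hT⟩⟩
  · rintro ⟨n, φ, hφ, hperf⟩
    let _ : Algebra (MvPolynomial (Fin n) A) B := φ.toRingHom.toAlgebra
    have tower : IsScalarTower A (MvPolynomial (Fin n) A) B :=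
      .of_algebraMap_eq' φ.comp_algebraMap.symm
    obtain ⟨hpc, hft⟩ := (Groth.Agent.S6954.result (MvPolynomial (Fin n) A)
      (Dual.inD (MvPolynomial (Fin n) A) B)).1 hperf
    exact ⟨⟨n, φ, hφ, hpc⟩,
      Groth.Agent.Lib.T2H7.PerfHom.hasFiniteTorDim_restrict_of_flat A (MvPolynomial (Fin n) A) B hft⟩

end Groth.Agent.S7066
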