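import Groth.Statements.S7069
import Groth.Agent.Lib.T2H7PerfHom

set_option autoImplicit false
universe u
attribute [local instance] HasDerivedCategory.standard
open MoreMor

namespace Groth.Agent.S7069

/-- A finite type homomorphism of commutative rings A → B, where A is a regular ring of finite Krull
dimension, is perfect: pseudo-coherent with B of finite tor dimension as an A-module. -/
theorem result (A B : Type u) [CommRing A] [CommRing B] [Algebra A B]
    [IsRegularRing A] (hdim : ringKrullDim A < ⊤) [Algebra.FiniteType A B] : MoreMor.IsPerfectHom A B := by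
  obtain ⟨n, f, hf⟩ := Algebra.FiniteType.iff_quotient_mvPolynomial''.1
    (inferInstance : Algebra.FiniteType A B)
  let _ : Algebra (MvPolynomial (Fin n) A) B := f.toRingHom.toAlgebra
  have tower : IsScalarTower A (MvPolynomial (Fin n) A) B :=
    .of_algebraMap_eq' f.comp_algebraMap.symm
  have hfin : Module.Finite (MvPolynomial (Fin n) A) B :=
    Module.Finite.of_surjective (Algebra.linearMap (MvPolynomial (Fin n) A) B) hf
  have hpc : DRing.IsPseudoCoherentModule' (MvPolynomial (Fin n) A) B :=
    (Groth.Agent.S6942.result (MvPolynomial (Fin n) A) 0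
      (Dual.inD (MvPolynomial (Fin n) A) B) B).2.2 hfin
  refine ⟨⟨n, f, hf, hpc⟩, ?_⟩
  -- the Krull dimension of the polynomial ring is finite
  have hreg : IsRegularRing (MvPolynomial (Fin n) A) := inferInstance
  have hkd : ringKrullDim (MvPolynomial (Fin n) A) = ringKrullDim A + Nat.card (Fin n) :=
    MvPolynomial.ringKrullDim_of_isNoetherianRing
  have key : ∀ x : WithBot ℕ∞, x < ⊤ → ∃ m : ℕ, x ≤ (m : WithBot ℕ∞) := by
    intro x hx
    induction x using WithBot.recBotCoe with
    | bot => exact ⟨0, bot_le⟩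
    | coe x =>
      have hx' : x ≠ ⊤ := fun h => by rw [h] at hx; exact lt_irrefl _ hx
      obtain ⟨m, hm⟩ := ENat.ne_top_iff_exists.1 hx'
      exact ⟨m, by rw [← hm]; rfl⟩
  obtain ⟨m, hm⟩ := key _ hdim
  have hd : ringKrullDim (MvPolynomial (Fin n) A) ≤ ((m + n : ℕ) : WithBot ℕ∞) := by
    rw [hkd, Nat.card_fin]
    push_cast
    exact add_le_add hm le_rfl
  have hpd : CategoryTheory.HasProjectiveDimensionLT
      (ModuleCat.of (MvPolynomial (Fin n) A) B) (m + n + 1) :=
    Groth.Agent.Lib.Helper1.GlDim.gldim_of_regular_le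
      (fun p => IsRegularRing.isRegularLocalRing_localization p.asIdeal) (m + n) hd B
  have hT : DRing.HasTorDimLE (MvPolynomial (Fin n) A) (m + n) B :=
    Groth.Agent.Lib.T2H7.PerfHom.hasTorDimLE_of_hasProjectiveDimensionLT B (m + n) hpd
  exact Groth.Agent.Lib.T2H7.PerfHom.hasFiniteTorDim_restrict_of_flat A (MvPolynomial (Fin n) A) B
    (Groth.Agent.Lib.T2H7.PerfHom.hasFiniteTorDimCx_of_hasFiniteTorDim B ⟨m + n, hT⟩)

end Groth.Agent.S7069
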