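import Groth.Statements.S7091
import Groth.Agent.Lib.T2H4DCompMain

set_option autoImplicit false
universe u
attribute [local instance] HasDerivedCategory.standard
open CategoryTheory
open DRing

namespace Groth.Agent.S7091

/-- Let A be a commutative ring, I a finitely generated ideal, and assume the derived completion functor
(left adjoint to the inclusion of derived complete objects) exists. If a morphism K → L in D(A)
induces isomorphisms on cohomology in degrees ≥ 1 and a surjection in degree 0, then so does the
induced morphism between the derived completions. -/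
theorem result {A : Type u} [CommRing A] (I : Ideal A) (hI : I.FG)
    [DRing.HasDerivedCompletion I] {K L : Dual.D A} (φ : K ⟶ L)
    (hiso : ∀ i : ℤ, 1 ≤ i → IsIso ((DerivedCategory.homologyFunctor (ModuleCat.{u} A) i).map φ))
    (hepi : Epi ((DerivedCategory.homologyFunctor (ModuleCat.{u} A) 0).map φ)) :
    (∀ i : ℤ, 1 ≤ i → IsIso ((DerivedCategory.homologyFunctor (ModuleCat.{u} A) i).map
        ((DRing.derivedCompletion I).map φ).hom)) ∧
      Epi ((DerivedCategory.homologyFunctor (ModuleCat.{u} A) 0).map ((DRing.derivedCompletion I).map φ).hom) := by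
  
  obtain ⟨s, hs⟩ := hI
  obtain ⟨Z, a, b, hT⟩ := Pretriangulated.distinguished_cocone_triangle φ
  obtain ⟨Z', a', b', hT'⟩ := Pretriangulated.distinguished_cocone_triangle
    ((DRing.derivedCompletion I).map φ).hom
  have hb := (Groth.Agent.Lib.T2H4.DComp.bounds_cone I s hs φ _ _ hT hT' (Iso.refl _) (Iso.refl _)
    ((Category.comp_id _).trans (Category.id_comp _).symm) (Iso.refl _) (Iso.refl _)
    ((Category.comp_id _).trans (Category.id_comp _).symm)).2
  have hconn : Groth.Agent.Lib.Helper1.PC.Conn 0 φ := ⟨fun i hi => hiso i (by lia), hepi⟩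
  have h1 : Z.IsLE (0 - 1) := (Groth.Agent.Lib.Helper1.PC.conn_iff_of_distTriang _ hT 0).1 hconn
  have h2 : Z'.IsLE (0 - 1) := by
    rw [DerivedCategory.isLE_iff]
    intro n hn
    apply hb n
    intro i hi
    exact (DerivedCategory.isLE_iff _ _).1 h1 i (by lia)
  have h3 := (Groth.Agent.Lib.Helper1.PC.conn_iff_of_distTriang _ hT' 0).2 h2
  exact ⟨fun i hi => h3.1 i (by lia), h3.2⟩

end Groth.Agent.S7091
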