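import Groth.Statements.S7092
import Groth.Agent.Lib.T2H4DCompMain

set_option autoImplicit false
universe u
attribute [local instance] HasDerivedCategory.standard
open CategoryTheory
open DRing

namespace Groth.Agent.S7092

/-- Let A be a commutative ring, I an ideal generated by a finite set of r elements, and assume the
derived completion functor exists. If a morphism K → L in D(A) induces isomorphisms on cohomology in
degrees ≤ -1 and an injection in degree 0, then the induced morphism of derived completions induces
isomorphisms on cohomology in degrees ≤ -r-1 and an injection in degree -r. -/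
theorem result {A : Type u} [CommRing A] (I : Ideal A) (s : Finset A)
    (hs : Ideal.span (s : Set A) = I) [DRing.HasDerivedCompletion I] {K L : Dual.D A} (φ : K ⟶ L)
    (hiso : ∀ i : ℤ, i ≤ -1 → IsIso ((DerivedCategory.homologyFunctor (ModuleCat.{u} A) i).map φ))
    (hmono : Mono ((DerivedCategory.homologyFunctor (ModuleCat.{u} A) 0).map φ)) :
    (∀ i : ℤ, i ≤ -(s.card : ℤ) - 1 → IsIso ((DerivedCategory.homologyFunctor (ModuleCat.{u} A) i).map
        ((DRing.derivedCompletion I).map φ).hom)) ∧
      Mono ((DerivedCategory.homologyFunctor (ModuleCat.{u} A) (-(s.card : ℤ))).map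
        ((DRing.derivedCompletion I).map φ).hom) := by
  
  obtain ⟨Z, a, b, hT⟩ := Pretriangulated.distinguished_cocone_triangle φ
  obtain ⟨Z', a', b', hT'⟩ := Pretriangulated.distinguished_cocone_triangle
    ((DRing.derivedCompletion I).map φ).hom
  have hb := (Groth.Agent.Lib.T2H4.DComp.bounds_cone I s hs φ _ _ hT hT' (Iso.refl _) (Iso.refl _)
    ((Category.comp_id _).trans (Category.id_comp _).symm) (Iso.refl _) (Iso.refl _)
    ((Category.comp_id _).trans (Category.id_comp _).symm)).1
  have h1 : Z.IsGE 0 := (Groth.Agent.Lib.T2H4.DComp.coconn_iff_of_distTriang _ hT 0).1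
    ⟨fun i hi => hiso i (by lia), hmono⟩
  have h2 : Z'.IsGE (-(s.card : ℤ)) := by
    rw [DerivedCategory.isGE_iff]
    intro n hn
    apply hb n
    intro i hi
    exact (DerivedCategory.isGE_iff _ _).1 h1 i (by lia)
  have h3 := (Groth.Agent.Lib.T2H4.DComp.coconn_iff_of_distTriang _ hT' (-(s.card : ℤ))).2 h2
  exact ⟨fun i hi => h3.1 i (by lia), h3.2⟩

end Groth.Agent.S7092
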