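import Groth.Statements.S7138
import Mathlib
import Groth.Agent.Lib.T2H9ComplDescent
import Groth.Agent.Lib.Helper19ComplDVR

set_option autoImplicit false
universe u
open EtAlg

namespace Groth.Agent.S7138

open TensorProduct in
/-- Let A be a discrete valuation ring, K its field of fractions, A^ its completion and K^ the fraction
field of A^. Every finite separable extension M of K^ arises by base change: M ≅ K^ ⊗_K L as
K^-algebras for some finite separable extension L/K. -/
theorem result (A K : Type u) [CommRing A] [IsDomain A]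
    [IsDiscreteValuationRing A] [Field K] [Algebra A K] [IsFractionRing A K]
    (Kh : Type u) [Field Kh] [Algebra (AdicCompletion (IsLocalRing.maximalIdeal A) A) Kh]
    [IsFractionRing (AdicCompletion (IsLocalRing.maximalIdeal A) A) Kh] [Algebra A Kh] [Algebra K Kh]
    [IsScalarTower A (AdicCompletion (IsLocalRing.maximalIdeal A) A) Kh] [IsScalarTower A K Kh]
    (M : Type u) [Field M] [Algebra Kh M] [FiniteDimensional Kh M] [Algebra.IsSeparable Kh M] :
    ∃ (L : Type u) (_ : Field L) (_ : Algebra K L), FiniteDimensional K L ∧ Algebra.IsSeparable K L ∧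
      Nonempty ((Kh ⊗[K] L) ≃ₐ[Kh] M) := by
  have hdom : IsDomain (AdicCompletion (IsLocalRing.maximalIdeal A) A) :=
    Function.Injective.isDomain (algebraMap (AdicCompletion (IsLocalRing.maximalIdeal A) A) Kh)
      (IsFractionRing.injective _ _)
  obtain ⟨_, hdvr⟩ := (Groth.Agent.Lib.Helper19.isDiscreteValuationRing_iff_adicCompletion A).mp
    ⟨inferInstance, inferInstance⟩
  have happrox : ∀ (x : AdicCompletion (IsLocalRing.maximalIdeal A) A) (N : ℕ), ∃ a : A,
      x - algebraMap A (AdicCompletion (IsLocalRing.maximalIdeal A) A) a ∈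
        IsLocalRing.maximalIdeal (AdicCompletion (IsLocalRing.maximalIdeal A) A) ^ N := by
    intro x N
    have hfg : (IsLocalRing.maximalIdeal A).FG := (IsLocalRing.maximalIdeal A).fg_of_isNoetherianRing
    obtain ⟨a, ha⟩ := Submodule.mkQ_surjective _
      (AdicCompletion.eval (IsLocalRing.maximalIdeal A) A N x)
    refine ⟨a, ?_⟩
    rw [AdicCompletion.maximalIdeal_eq_map, ← Ideal.map_pow, ← Submodule.restrictScalars_mem A,
      ← Ideal.smul_top_eq_map, AdicCompletion.pow_smul_top_eq_ker_eval hfg, LinearMap.mem_ker,
      map_sub, AdicCompletion.algebraMap_apply, Algebra.algebraMap_self, RingHom.id_apply,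
      AdicCompletion.eval_of, ha, sub_self]
  exact Groth.Agent.Lib.T2H9.ComplDescent.descent A K
    (AdicCompletion (IsLocalRing.maximalIdeal A) A) Kh M happrox

end Groth.Agent.S7138
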