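import Groth.Statements.S7143
import Groth.Agent.Lib.T2H9ProdVal

set_option autoImplicit false
universe u
open CategoryTheory
open EtAlg

namespace Groth.Agent.S7143

/-- Every normal domain A with fraction field K is the fibre product V ×_L K for suitable rings V and L
with maps A → V, V → L, K → L (together with the given A → K), where every ideal of V is flat (weak
dimension at most one) and V → L is flat, injective and an epimorphism of rings. -/
theorem result (A K : Type u) [CommRing A] [IsDomain A] [Field K] [Algebra A K]
    [IsFractionRing A K] [IsIntegrallyClosed A] :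
    ∃ (V L : Type u) (_ : CommRing V) (_ : CommRing L) (f : A →+* V) (g : V →+* L) (h : K →+* L),
      g.comp f = h.comp (algebraMap A K) ∧
      (∀ I : Ideal V, Module.Flat V I) ∧ g.Flat ∧ Function.Injective g ∧ Epi (CommRingCat.ofHom g) ∧
      ∀ (v : V) (k : K), g v = h k → ∃! a : A, f a = v ∧ algebraMap A K a = k := by
  classical
  let ι : Type u := {W : ValuationSubring K // ∀ a : A, algebraMap A K a ∈ W}
  let W : ι → ValuationSubring K := fun i => i.1
  let f : A →+* (∀ i, W i) :=
    RingHom.pi (fun i => (algebraMap A K).codRestrict (W i) (fun a => i.2 a))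
  let h : K →+* (ι → K) := RingHom.pi (fun _ => RingHom.id K)
  refine ⟨(∀ i, W i), (ι → K), inferInstance, inferInstance, f,
    Groth.Agent.Lib.T2H9.ProdVal.incl W, h, ?_, Groth.Agent.Lib.T2H9.ProdVal.flat_ideal W, ?_,
    Groth.Agent.Lib.T2H9.ProdVal.incl_injective W, ?_, ?_⟩
  · exact RingHom.ext fun a => funext fun i => rfl
  · have hloc := Groth.Agent.Lib.T2H9.ProdVal.isLocalization W
    let _ := (Groth.Agent.Lib.T2H9.ProdVal.incl W).toAlgebra
    exact IsLocalization.flat (ι → K) (Groth.Agent.Lib.T2H9.ProdVal.nz W)
  · have hloc := Groth.Agent.Lib.T2H9.ProdVal.isLocalization W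
    let _ := (Groth.Agent.Lib.T2H9.ProdVal.incl W).toAlgebra
    exact IsLocalization.epi (Groth.Agent.Lib.T2H9.ProdVal.nz W) (ι → K)
  · intro v k hvk
    have hv : ∀ i : ι, ((v i : W i) : K) = k := fun i => congrFun hvk i
    have hint : IsIntegral A k := by
      by_contra hk
      have hk' : k ∉ (integralClosure A K).toSubring := hk
      obtain ⟨V, hV1, hV2⟩ := Subring.exists_le_valuationSubring_of_isIntegrallyClosedIn hk'
      have hmem : ∀ a : A, algebraMap A K a ∈ V := fun a =>
        hV1 ((integralClosure A K).algebraMap_mem a)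
      apply hV2
      have := hv ⟨V, hmem⟩
      rw [← this]
      exact (v ⟨V, hmem⟩).2
    obtain ⟨a, ha⟩ := IsIntegrallyClosed.isIntegral_iff.mp hint
    refine ⟨a, ⟨?_, ha⟩, ?_⟩
    · funext i
      apply Subtype.ext
      rw [hv i, ← ha]
      rfl
    · intro b hb
      exact IsFractionRing.injective A K (hb.2.trans ha.symm)

end Groth.Agent.S7143
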