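import Groth.Statements.S7156
import Groth.Agent.Lib.T2H9PIStepSol
import Groth.Agent.Lib.T2H9PIStepNag
import Groth.Agent.Lib.T2H9ASCases
import Groth.Agent.S7157

set_option autoImplicit false
universe u
open EtAlg

namespace Groth.Agent.S7156

open TensorProduct in
/-- Let A → B → C be injective local homomorphisms of discrete valuation rings whose fields of fractions
are K ⊆ L ⊆ M, and let π be a uniformizer of A; suppose B is a Nagata ring, A → B is weakly
unramified, and M/L is purely inseparable of prime degree p. Then one of the following holds: the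
extension A → C is itself weakly unramified; or else C = B[π^(1/p)]; or else there is a separable
degree-p extension K₁/K, totally ramified with respect to A, for which L ⊗_K K₁ and M ⊗_K K₁ are
fields and the integral closures A₁ → B₁ → C₁ are weakly unramified extensions, i.e. K₁ is a weak
solution for A ⊆ B and for A ⊆ C. -/
theorem result (p : ℕ) (hp : p.Prime) (A B C K L M : Type u)
    [CommRing A] [IsDomain A] [IsDiscreteValuationRing A] [CommRing B] [IsDomain B] [IsDiscreteValuationRing B]
    [CommRing C] [IsDomain C] [IsDiscreteValuationRing C]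
    [Algebra A B] [Algebra B C] [Algebra A C] [IsScalarTower A B C]
    (hAB : Function.Injective (algebraMap A B)) (hBC : Function.Injective (algebraMap B C))
    [IsLocalHom (algebraMap A B)] [IsLocalHom (algebraMap B C)]
    [Field K] [Field L] [Field M] [Algebra A K] [IsFractionRing A K] [Algebra B L] [IsFractionRing B L]
    [Algebra C M] [IsFractionRing C M] [Algebra K L] [Algebra L M] [Algebra K M] [IsScalarTower K L M]
    [Algebra A L] [IsScalarTower A K L] [IsScalarTower A B L] [Algebra B M] [IsScalarTower B L M] [IsScalarTower B C M]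
    [Algebra A M] [IsScalarTower A K M] [IsScalarTower A C M]
    (π : A) (hπ : IsLocalRing.maximalIdeal A = Ideal.span {π}) (hB : CAlg.IsNagata B)
    (hw : EtRam.IsWeaklyUnramified A B) [IsPurelyInseparable L M] (hdeg : Module.finrank L M = p) :
    EtRam.IsWeaklyUnramified A C ∨
      (∃ c : C, c ^ p = algebraMap A C π ∧ Algebra.adjoin B {c} = ⊤) ∨
      ∃ (K₁ : Type u) (_ : Field K₁) (_ : Algebra K K₁),
        Module.finrank K K₁ = p ∧ Algebra.IsSeparable K K₁ ∧
          EtRam.IsTotallyRamified A ((algebraMap K K₁).comp (algebraMap A K)) ∧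
          IsField (L ⊗[K] K₁) ∧ IsField (M ⊗[K] K₁) ∧
          EtRam.IsWeakSolution B K L K₁ ∧ EtRam.IsWeakSolution C K M K₁ := by
  classical
  rcases Groth.Agent.Lib.T2H9.PIStepBasic.structure_thm p A B C L M hp hBC π hπ hw hdeg with
    h1 | ⟨πC, u, hπCirr, hπC⟩
  · exact Or.inl h1
  right
  by_cases hgood : ∃ (m : ℕ) (c : ℕ → B) (b : B),
      (u : B) = ∑ i ∈ Finset.range m, c i ^ p * algebraMap A B π ^ i +
        b * algebraMap A B π ^ m ∧
      ∀ r : B, IsLocalRing.residue B b ≠ IsLocalRing.residue B r ^ p
  · right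
    obtain ⟨m, c, b, hu, hb⟩ := hgood
    have : Fact p.Prime := ⟨hp⟩
    have : CharP L p := Groth.Agent.Lib.T2H9.PIStepBasic.charP_of_finrank p L M hp hdeg
    have : CharP K p := ((algebraMap K L).charP_iff (algebraMap K L).injective p).mpr inferInstance
    have : CharP (IsLocalRing.ResidueField A) p :=
      Groth.Agent.Lib.T2H9.ASCases.charP_residue p A K
    obtain ⟨K₁, fK₁, aKK₁, aAK₁, tw, hdegK₁, hsep, htot, x, b₀, b₀', hxint, hb₀int, hb₀'int,
      hx1, hx2⟩ := Groth.Agent.S7157.result p hp A K π hπ (m + 2) (by omega) 1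
    rw [pow_one] at hdegK₁ hx1
    have : FiniteDimensional K K₁ := Module.finite_of_finrank_pos (hdegK₁ ▸ hp.pos)
    have htot' : EtRam.IsTotallyRamified A ((algebraMap K K₁).comp (algebraMap A K)) := by
      rw [← IsScalarTower.algebraMap_eq A K K₁]
      exact htot
    have hfieldL : IsField (L ⊗[K] K₁) :=
      Groth.Agent.Lib.T2H9.TotRamDeg.isField_tensor A B K L K₁ hw htot'
    refine ⟨K₁, fK₁, aKK₁, hdegK₁, hsep, htot', hfieldL,
      Groth.Agent.Lib.T2H9.PIStepSol.isField_tensor_top K L M K₁ hfieldL, ?_, ?_⟩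
    · intro M' _ _ _ _ _ _ hgen W hW
      exact (Groth.Agent.Lib.T2H9.TotRamDeg.core A B K L K₁ M' hw htot' hgen W hW).2
    · exact Groth.Agent.Lib.T2H9.PIStepSol.weakSol p A B C K L M K₁ hp π hπ hw hdeg πC u hπC m c b
        hu hb hdegK₁ x b₀ hb₀int hx1
  · left
    push Not at hgood
    exact Groth.Agent.Lib.T2H9.PIStepNag.case2 p A B C L M hp hBC π hπ hB hw hdeg πC u hπCirr hπC
      hgood

end Groth.Agent.S7156
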