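import Groth.Statements.S7164
import Groth.Agent.Lib.T2H4ExtSeq

set_option autoImplicit false
universe u
open CategoryTheory
attribute [local instance] HasDerivedCategory.standard
open CAlg

namespace Groth.Agent.S7164

open Groth.Agent.Lib.T2H4.ExtCocycle Groth.Agent.Lib.T2H4.ExtSeq

/-- Let A be a Noetherian ring, I an ideal, K a pseudo-coherent object of D(A) and a an integer. Assume
that for every finite A-module M and every i ≥ a the module Ext^i_A(K, M) is I-power torsion. Then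
for i ≥ a and M finite the inverse system (Ext^i_A(K, M/IⁿM))_n is essentially constant with value
Ext^i_A(K, M) (so that Ext^i_A(K, M) = lim Ext^i_A(K, M/IⁿM)): concretely, some comparison map
Ext^i(K, M) → Ext^i(K, M/I^mM) is injective and for every n there is m' ≥ n such that the image of
the transition map Ext^i(K, M/I^(m')M) → Ext^i(K, M/IⁿM) is contained in the image of Ext^i(K, M).
Here Ext^i(K, X) = Hom_{D(A)}(K, X[i]). -/
theorem result (A : Type u) [CommRing A] [IsNoetherianRing A]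
    (I : Ideal A) (K : Dual.D A) (hK : DRing.IsPseudoCoherent' A K) (a : ℤ)
    (htors : ∀ (M : Type u) [AddCommGroup M] [Module A M], Module.Finite A M → ∀ i : ℤ, a ≤ i →
      ∀ e : K ⟶ (Dual.inD A M)⟦i⟧, ∃ n : ℕ, ∀ x ∈ I ^ n, x • e = 0)
    (M : Type u) [AddCommGroup M] [Module A M] [Module.Finite A M] (i : ℤ) (hi : a ≤ i) :
    let Mq : ℕ → Submodule A M := fun n => I ^ n • ⊤
    let c : ∀ n : ℕ, (K ⟶ (Dual.inD A M)⟦i⟧) → (K ⟶ (Dual.inD A (M ⧸ Mq n))⟦i⟧) :=
      fun n e => e ≫ ((DerivedCategory.singleFunctor (ModuleCat.{u} A) 0).map (ModuleCat.ofHom (Mq n).mkQ))⟦i⟧'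
    let t : ∀ n m : ℕ, n ≤ m → (K ⟶ (Dual.inD A (M ⧸ Mq m))⟦i⟧) → (K ⟶ (Dual.inD A (M ⧸ Mq n))⟦i⟧) :=
      fun n m hnm e => e ≫ ((DerivedCategory.singleFunctor (ModuleCat.{u} A) 0).map (ModuleCat.ofHom
        (Submodule.mapQ (Mq m) (Mq n) (LinearMap.id : M →ₗ[A] M) (Submodule.smul_mono_left (Ideal.pow_le_pow_right hnm)))))⟦i⟧'
    (∃ m : ℕ, Function.Injective (c m)) ∧
      ∀ n : ℕ, ∃ (m' : ℕ) (hnm : n ≤ m'), Set.range (t n m' hnm) ⊆ Set.range (c n) := by
  
  intro Mq c t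
  have hsub : ∀ (e1 e2 : K ⟶ (Dual.inD A M)⟦i⟧) (m : ℕ), c m e1 = c m e2 → c m (e1 - e2) = 0 := by
    intro e1 e2 m h
    show (e1 - e2) ≫ _ = 0
    rw [Preadditive.sub_comp]
    exact sub_eq_zero.2 h
  refine ⟨?_, ?_⟩
  · obtain ⟨c0, hc0⟩ := artinRees_ext I K hK M i
    have hfin := finite_ext K hK M i
    obtain ⟨t0, ht0⟩ := exists_pow_smul_eq_zero I (htors M inferInstance i hi)
    refine ⟨c0 + t0, fun e1 e2 h => ?_⟩
    have h0 := hsub e1 e2 _ h
    obtain ⟨e', he'⟩ := exact_mid (Mq (c0 + t0)) K i (e1 - e2) h0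
    have hmem := hc0 (c0 + t0) (Nat.le_add_right _ _) _ (Mq (c0 + t0)).subtype (fun x => x.2) e'
    rw [← he', Nat.add_sub_cancel_left] at hmem
    exact sub_eq_zero.1 (eq_zero_of_mem_smul_top _ ht0 hmem)
  · intro n
    have hN : Module.Finite A ↥(Mq n) := inferInstance
    obtain ⟨c1, hc1⟩ := artinRees_ext I K hK ↥(Mq n) (i + 1)
    have hfin := finite_ext K hK ↥(Mq n) (i + 1)
    obtain ⟨t1, ht1⟩ := exists_pow_smul_eq_zero I (htors ↥(Mq n) hN (i + 1) (by omega))
    have hnm : n ≤ n + (c1 + t1) := Nat.le_add_right _ _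
    refine ⟨n + (c1 + t1), hnm, ?_⟩
    rintro _ ⟨x, rfl⟩
    have hle : Mq (n + (c1 + t1)) ≤ Mq n :=
      Submodule.smul_mono_left (Ideal.pow_le_pow_right hnm)
    have key : t n (n + (c1 + t1)) hnm x ≫ ((ses_shortExact (Mq n)).singleδ)⟦i⟧' = 0 := by
      show (x ≫ _) ≫ _ = 0
      rw [Category.assoc, ← Functor.map_comp, δ_naturality hle, Functor.map_comp,
        ← Category.assoc]
      refine comp_shift_shift_eq_zero _ i (fun y' => ?_) _
      have hmem := hc1 (c1 + t1) (Nat.le_add_right _ _) _ (Submodule.inclusion hle) (fun z => by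
        obtain ⟨y, hy, hyz⟩ := mem_pow_smul_top_sub I n (c1 + t1) z.1 z.2
        have : Submodule.inclusion hle z = y := Subtype.ext hyz.symm
        rw [this]
        exact hy) y'
      rw [Nat.add_sub_cancel_left] at hmem
      exact eq_zero_of_mem_smul_top _ ht1 hmem
    obtain ⟨e, he⟩ := exact_quot (Mq n) K i _ key
    exact ⟨e, he.symm⟩

end Groth.Agent.S7164
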