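import Groth.Statements.S7170
import Groth.Agent.Lib.T2H7PCLocal

set_option autoImplicit false
universe u
attribute [local instance] HasDerivedCategory.standard
open FlatMor

namespace Groth.Agent.S7170

open AlgebraicGeometry CategoryTheory Limits in
/-- For a finite morphism f : X → S, pseudo-coherence of f is equivalent to pseudo-coherence of the
O_S-module f_* O_X; as f is affine, the latter means that O_X(f⁻¹ V) is a pseudo-coherent
O_S(V)-module for every affine open V of S, the form used here. -/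
theorem result {X S : Scheme.{u}} (f : X ⟶ S) [IsFinite f] :
    MoreMor.IsPseudoCoherentMor f ↔ ∀ (V : S.Opens), IsAffineOpen V →
      (letI := (f.app V).hom.toAlgebra
       DRing.IsPseudoCoherentModule' Γ(S, V) Γ(X, f ⁻¹ᵁ V)) := by
  have hfin : ∀ (V : S.Opens), IsAffineOpen V →
      @Module.Finite Γ(S, V) Γ(X, f ⁻¹ᵁ V) _ _ (f.app V).hom.toAlgebra.toModule :=
    fun V hV => IsFinite.finite_app f V hV
  constructor
  · intro hf V hV
    let _ := (f.app V).hom.toAlgebra
    have := hfin V hV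
    have h1 := hf (f ⁻¹ᵁ V) V (hV.preimage f) hV le_rfl
    have h2 : MoreMor.IsPseudoCoherentHom Γ(S, V) Γ(X, f ⁻¹ᵁ V) := by
      refine Groth.Agent.Lib.T2H7.PCLocal.qpc_congr_algebra _ _ (fun r => ?_) h1
      change (f.appLE V (f ⁻¹ᵁ V) le_rfl).hom r = (f.app V).hom r
      rw [Scheme.Hom.appLE_eq_app]
    exact (Groth.Agent.Lib.T2H7.PCLocal.pcHom_iff_pcModule_of_finite _ _).1 h2
  · intro h
    rw [Groth.Agent.Lib.T2H7.PCLocal.pcMor_iff_exists]
    intro x
    obtain ⟨V, hV, hxV, -⟩ := TopologicalSpace.Opens.isBasis_iff_nbhd.mp S.isBasis_affineOpens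
      (TopologicalSpace.Opens.mem_top <| f x)
    refine ⟨f ⁻¹ᵁ V, V, le_rfl, hV.preimage f, hV, hxV, ?_⟩
    have h2 : @MoreMor.IsPseudoCoherentHom Γ(S, V) Γ(X, f ⁻¹ᵁ V) _ _ (f.app V).hom.toAlgebra := by
      let _ := (f.app V).hom.toAlgebra
      have := hfin V hV
      exact (Groth.Agent.Lib.T2H7.PCLocal.pcHom_iff_pcModule_of_finite _ _).2 (h V hV)
    refine Groth.Agent.Lib.T2H7.PCLocal.qpc_congr_algebra _ _ (fun r => ?_) h2
    change (f.app V).hom r = (f.appLE V (f ⁻¹ᵁ V) le_rfl).hom r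
    rw [Scheme.Hom.appLE_eq_app]

end Groth.Agent.S7170
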