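import Groth.Statements.S7173
import Groth.Agent.S1503
import Groth.Agent.Lib.T2H7RegGlDim

set_option autoImplicit false
universe u
attribute [local instance] HasDerivedCategory.standard
open FlatMor

namespace Groth.Agent.S7173

open AlgebraicGeometry CategoryTheory Limits in
/-- A morphism locally of finite type to a regular scheme S (locally Noetherian with all local rings
regular) whose affine opens have finite Krull dimension is perfect. (The published statement carries
no dimension hypothesis; its proof is the ring statement for a finite type algebra over a regular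
ring of finite dimension, so finite Krull dimension of the affine opens of S is assumed here.) -/
theorem result {X S : Scheme.{u}} (f : X ⟶ S) [LocallyOfFiniteType f] [IsLocallyNoetherian S]
    (hreg : ∀ s : S, IsRegularLocalRing (S.presheaf.stalk s))
    (hdim : ∀ V : S.Opens, IsAffineOpen V → ringKrullDim Γ(S, V) < ⊤) :
    MoreMor.IsPerfectMor f := by
  have hpc : MoreMor.IsPseudoCoherentMor f := (Groth.Agent.S1503.result f).mpr inferInstance
  intro U V hU hV hUV
  refine ⟨hpc U V hU hV hUV, ?_⟩
  have hN : IsNoetherianRing Γ(S, V) := IsLocallyNoetherian.component_noetherian ⟨V, hV⟩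
  have hlt := hdim V hV
  obtain ⟨e, he⟩ : ∃ e : ℕ, ringKrullDim Γ(S, V) ≤ (e : WithBot ℕ∞) := by
    by_cases hbot : ringKrullDim Γ(S, V) = ⊥
    · exact ⟨0, by rw [hbot]; exact bot_le⟩
    · obtain ⟨d', hd'⟩ := WithBot.ne_bot_iff_exists.mp hbot
      have hd'top : d' ≠ ⊤ := by
        rintro rfl
        rw [← hd'] at hlt
        exact lt_irrefl _ hlt
      obtain ⟨d, hdd⟩ := ENat.ne_top_iff_exists.mp hd'top
      refine ⟨d, ?_⟩
      rw [← hd', ← hdd]
      exact le_rfl
  let _ : Algebra Γ(S, V) Γ(X, U) := (f.appLE V U hUV).hom.toAlgebra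
  refine ⟨e, Groth.Agent.Lib.T2H7.RegGlDim.hasTorDimLE_of_regular e (fun m hm => ?_) he _⟩
  have hmp : m.IsPrime := hm.isPrime
  let y : PrimeSpectrum Γ(S, V) := ⟨m, hmp⟩
  have hy : hV.fromSpec y ∈ V := (hV.isoSpec.inv _).2
  let _ : Algebra Γ(S, V) (S.presheaf.stalk (hV.fromSpec y)) :=
    TopCat.Presheaf.algebra_section_stalk S.presheaf ⟨hV.fromSpec y, hy⟩
  have hloc : IsLocalization.AtPrime (S.presheaf.stalk (hV.fromSpec y)) m :=
    hV.isLocalization_stalk' y hy
  have := hreg (hV.fromSpec y)
  exact IsRegularLocalRing.of_ringEquiv (IsLocalization.algEquiv m.primeCompl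
    (S.presheaf.stalk (hV.fromSpec y)) (Localization.AtPrime m)).toRingEquiv

end Groth.Agent.S7173
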