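import Groth.Statements.S7191
import Groth.Agent.S4787
import Groth.Agent.Lib.Helper22LimBC
import Groth.Agent.Lib.T2H3ProConsBasic
import Groth.Agent.Lib.T2H3ComplDecomp
import Groth.Agent.Lib.T2H3ResFieldSys

set_option autoImplicit false
set_option linter.style.haveILetI false
universe u
open CategoryTheory AlgebraicGeometry
open FlatMor

namespace Groth.Agent.S7191

open Groth.Agent.Lib.Helper22.LimBC Groth.Agent.Lib.T2H3.ComplDecomp
  Groth.Agent.Lib.T2H3.ResFieldSys Groth.Agent.Lib.T2H3.ProConsBasic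

/-- Let S = lim S_i be a cofiltered limit of schemes with affine transition morphisms, f₀ : X₀ → Y₀ a
morphism over some S_{i₀} with Y₀ quasi-compact and quasi-separated and f₀ locally of finite
presentation, and f : X → Y its base change to S. If f is completely decomposed (every point of Y is
the image of a point of X with the same residue field), then some base change f_i : X_i → Y_i of f₀
to an S_i, i → i₀, is completely decomposed. -/
theorem result {I : Type u} [SmallCategory I] [IsCofiltered I]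
    (D : I ⥤ Scheme.{u}) (c : Limits.Cone D) (hc : Limits.IsLimit c)
    [∀ (i j : I) (a : i ⟶ j), IsAffineHom (D.map a)]
    (i0 : I) {X0 Y0 X Y : Scheme.{u}} (f0 : X0 ⟶ Y0) (q0 : Y0 ⟶ D.obj i0) [CompactSpace ↥Y0] [QuasiSeparatedSpace ↥Y0]
    [LocallyOfFinitePresentation f0]
    (f : X ⟶ Y) (q : Y ⟶ c.pt) (pY : Y ⟶ Y0) (pX : X ⟶ X0)
    (hY : IsPullback pY q q0 (c.π.app i0)) (hX : IsPullback pX f f0 pY)
    (hcd : ∀ y : Y, ∃ x : X, f x = y ∧ Function.Bijective (f.residueFieldMap x)) :
    ∃ (i : I) (a : i ⟶ i0) (Xi Yi : Scheme.{u}) (fi : Xi ⟶ Yi) (qi : Yi ⟶ D.obj i) (pYi : Yi ⟶ Y0) (pXi : Xi ⟶ X0),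
      IsPullback pYi qi q0 (D.map a) ∧ IsPullback pXi fi f0 pYi ∧
      ∀ y : Yi, ∃ x : Xi, fi x = y ∧ Function.Bijective (fi.residueFieldMap x) := by
  classical
  haveI : ∀ {i j : I} (a : i ⟶ j), IsAffineHom (D.map a) := fun a => inferInstance
  let DY : Over i0 ⥤ Scheme.{u} := bcDiagram D i0 q0
  let cY : Limits.Cone DY := bcCone i0 hY
  have hcY : Limits.IsLimit cY := isLimitBcCone i0 hY hc
  haveI : ∀ (i j : Over i0) (a : i ⟶ j), IsAffineHom (DY.map a) := fun _ _ a => inferInstance
  let j0 : Over i0 := Over.mk (𝟙 i0)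
  haveI : CompactSpace (DY.obj j0) := inferInstanceAs (CompactSpace ((bcDiagram D i0 q0).obj j0))
  -- the stage morphisms
  let fj : ∀ j : Over i0, Limits.pullback f0 (dFst D i0 q0 j) ⟶ DY.obj j :=
    fun j => Limits.pullback.snd _ _
  haveI : ∀ j, LocallyOfFinitePresentation (fj j) := fun j =>
    MorphismProperty.pullback_snd (P := @LocallyOfFinitePresentation) _ _ inferInstance
  -- compatibility of the completely decomposed loci
  have hFm : ∀ (i j : Over i0) (φ : i ⟶ j), ⇑(DY.map φ) ⁻¹' cdLocus (fj j) ⊆ cdLocus (fj i) := by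
    intro i j φ b' hb'
    have hw : Limits.pullback.fst f0 (dFst D i0 q0 i) ≫ f0 =
        (Limits.pullback.snd f0 (dFst D i0 q0 i) ≫ DY.map φ) ≫ dFst D i0 q0 j := by
      rw [Category.assoc, map_dFst, Limits.pullback.condition]
    let p' : Limits.pullback f0 (dFst D i0 q0 i) ⟶ Limits.pullback f0 (dFst D i0 q0 j) :=
      Limits.pullback.lift _ _ hw
    have sq : IsPullback p' (fj i) (fj j) (DY.map φ) := by
      refine IsPullback.of_right ?_ (Limits.pullback.lift_snd _ _ hw)
        (IsPullback.of_hasPullback f0 (dFst D i0 q0 j))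
      rw [Limits.pullback.lift_fst, map_dFst]
      exact IsPullback.of_hasPullback f0 (dFst D i0 q0 i)
    exact mem_cdLocus_of_isPullback (fj j) sq hb'
  -- every point of the limit is completely decomposed at some stage
  have hB : (⋂ j, ⇑(cY.π.app j) ⁻¹' (fun j => (Set.univ : Set (DY.obj j))) j : Set cY.pt) ⊆
      (⋃ j, ⇑(cY.π.app j) ⁻¹' cdLocus (fj j) : Set cY.pt) := by
    intro y _
    change Y at y
    obtain ⟨σ, hσ⟩ := exists_section_of_mem_cdLocus f (hcd y)
    let t : DY ⟶ (Functor.const (Over i0)).obj Y0 :=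
      { app := fun j => dFst D i0 q0 j
        naturality := fun j k φ => by
          simp only [Functor.const_obj_obj, Functor.const_obj_map, Category.comp_id]
          exact map_dFst D i0 q0 φ }
    have ha : ∀ j, (σ ≫ pX) ≫ f0 = cY.pt.fromSpecResidueField y ≫ cY.π.app j ≫ t.app j := by
      intro j
      rw [Category.assoc, hX.w, ← Category.assoc, hσ]
      congr 1
      exact (bcπ_fst i0 hY j).symm
    obtain ⟨j, g, hg⟩ := exists_stage_hom DY cY y hcY f0 t (σ ≫ pX) ha
    refine Set.mem_iUnion.mpr ⟨j, ?_⟩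
    show cY.π.app j y ∈ cdLocus (fj j)
    exact mem_cdLocus_of_section_resField (fj j) _ (Limits.pullback.lift g _ hg)
      (Limits.pullback.lift_snd _ _ hg)
  obtain ⟨i, -, hi⟩ := (Groth.Agent.S4787.result DY cY hcY j0 (fun j => (Set.univ : Set (DY.obj j)))
    (fun j => cdLocus (fj j))
    (fun j => isProConstructible_of_isClosed isClosed_univ)
    (fun j => isIndConstructible_cdLocus (fj j))
    (fun _ _ _ => Set.subset_univ _) hFm).mp hB
  refine ⟨i.left, i.hom, _, _, fj i, dSnd D i0 q0 i, dFst D i0 q0 i,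
    Limits.pullback.fst f0 (dFst D i0 q0 i), isPullback_d D i0 q0 i,
    IsPullback.of_hasPullback f0 (dFst D i0 q0 i), fun y => ?_⟩
  exact hi i (𝟙 i) (Set.mem_univ y)

end Groth.Agent.S7191
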