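import Groth.Statements.S7199
import Groth.Agent.Lib.T2H2AlgIndepLin

set_option autoImplicit false
universe u
open FlatMor

namespace Groth.Agent.S7199

/-- Take a field k, an integral domain A that is a finitely generated k-algebra, n ≥ 2 and g_1, …, g_n ∈
A, and suppose some irreducible component of the common zero locus of g_1 and g_2 in Spec A has
dimension dim A − 2. Then for suitable c_1, …, c_n ∈ k the n + 2 elements x_1, …, x_n, Σ g_i x_i, Σ
c_i g_i of the rational function field Frac(A)(x_1, …, x_n) form an algebraically independent family
over k. -/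
theorem result {k A : Type u} [Field k] [CommRing A] [IsDomain A] [Algebra k A]
    [Algebra.FiniteType k A] (m : ℕ) (g : Fin (m + 2) → A)
    (p : Ideal A) (hp : p ∈ (Ideal.span {g 0, g 1}).minimalPrimes) (hdim : ringKrullDim (A ⧸ p) + 2 = ringKrullDim A) :
    ∃ c : Fin (m + 2) → k,
      AlgebraicIndependent k
        (Sum.elim
          (fun i : Fin (m + 2) => algebraMap (MvPolynomial (Fin (m + 2)) (FractionRing A)) (FractionRing (MvPolynomial (Fin (m + 2)) (FractionRing A))) (MvPolynomial.X i))
          ![∑ i, algebraMap A (FractionRing (MvPolynomial (Fin (m + 2)) (FractionRing A))) (g i) *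
              algebraMap (MvPolynomial (Fin (m + 2)) (FractionRing A)) (FractionRing (MvPolynomial (Fin (m + 2)) (FractionRing A))) (MvPolynomial.X i),
            algebraMap A (FractionRing (MvPolynomial (Fin (m + 2)) (FractionRing A))) (∑ i, c i • g i)]) := by
  classical
  open Groth.Agent.Lib.T2H2.AlgIndepLin in
  have hpp : p.IsPrime := hp.1.1
  have hN : IsNoetherianRing A := Algebra.FiniteType.isNoetherianRing k A
  have hht : p.height = 2 := height_eq_two (k := k) p hdim
  have hab : AlgebraicIndependent k ![g 0, g 1] :=
    algebraicIndependent_pair_of_height (k := k) (g 0) (g 1) p hp hht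
  -- push to the fraction field
  have hinj : Function.Injective (IsScalarTower.toAlgHom k A (FractionRing A)) :=
    IsFractionRing.injective A (FractionRing A)
  have hab' : AlgebraicIndependent k
      ![algebraMap A (FractionRing A) (g 0), algebraMap A (FractionRing A) (g 1)] := by
    have h := hab.map' (f := IsScalarTower.toAlgHom k A (FractionRing A)) hinj
    convert h using 1
    ext j
    fin_cases j <;> rfl
  have h01 : (0 : Fin (m + 2)) ≠ 1 := by
    intro h
    have := congrArg Fin.val h
    simp at this
  have hmain := algebraicIndependent_fam (k := k)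
    (fun i => algebraMap A (FractionRing A) (g i)) 0 1 h01 hab'
  -- push to the fraction field of the polynomial ring
  have hinj2 : Function.Injective (IsScalarTower.toAlgHom k
      (MvPolynomial (Fin (m + 2)) (FractionRing A))
      (FractionRing (MvPolynomial (Fin (m + 2)) (FractionRing A)))) :=
    IsFractionRing.injective _ _
  have hmain2 := hmain.map' (f := IsScalarTower.toAlgHom k
      (MvPolynomial (Fin (m + 2)) (FractionRing A))
      (FractionRing (MvPolynomial (Fin (m + 2)) (FractionRing A)))) hinj2
  refine ⟨fun i => if i = 1 then 1 else 0, ?_⟩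
  convert hmain2 using 1
  ext j
  rcases j with i | j
  · rfl
  · fin_cases j
    · simp only [fam, Fin.zero_eta, Sum.elim_inr, Matrix.cons_val_zero, Function.comp_apply,
        IsScalarTower.coe_toAlgHom', map_sum, map_mul]
      refine Finset.sum_congr rfl fun i _ => ?_
      congr 1
    · simp only [fam, Fin.mk_one, Sum.elim_inr, Matrix.cons_val_one, Matrix.cons_val_zero,
        Function.comp_apply, IsScalarTower.coe_toAlgHom']
      have hsum : ∑ i, (if i = (1 : Fin (m + 2)) then (1 : k) else 0) • g i = g 1 := by
        simp
      rw [hsum, IsScalarTower.algebraMap_apply A (MvPolynomial (Fin (m + 2)) (FractionRing A))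
        (FractionRing (MvPolynomial (Fin (m + 2)) (FractionRing A))), MvPolynomial.algebraMap_apply]

end Groth.Agent.S7199
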