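import Groth.Statements.S7222
import Mathlib
import Groth.Agent.Lib.T2H2NLBC3
import Groth.Agent.Lib.T2H2NLBC4

set_option autoImplicit false
set_option linter.style.haveILetI false
universe u
open CategoryTheory CategoryTheory.Limits TensorProduct
attribute [local instance] HasDerivedCategory.standard
open FlatMor

namespace Groth.Agent.S7222

/-- Let A → B and A → A' be ring homomorphisms and B' an algebra over A' and over B making the square
cocartesian, B' = B ⊗_A A'. If B is flat over A, then the canonical chain map NL_{B/A} ⊗_B B' →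
NL_{B'/A'} (for the presentations by the polynomial algebras on all elements) is a
quasi-isomorphism. If moreover NL_{B/A} has tor-amplitude in [-1, 0], then, the derived base change
functor along B → B' being assumed to exist, NL_{B/A} ⊗^L_B B' is isomorphic to NL_{B'/A'} in D(B')
(existence of an isomorphism only: the derived comparison map is not named here). -/
theorem result (A B A' B' : Type u) [CommRing A] [CommRing B]
    [CommRing A'] [CommRing B'] [Algebra A B] [Algebra A' B'] [Algebra A A'] [Algebra B B'] [Algebra A B']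
    [IsScalarTower A A' B'] [IsScalarTower A B B'] [Algebra.IsPushout A A' B B'] [Module.Flat A B] :
    QuasiIso (NLCx.bcMapSelf A B A' B') ∧
      (DRing.HasTorAmplitudeIn B (-1) 0 (LCI.NL A B) → ∀ [DRing.HasLBaseChange (algebraMap B B')],
        Nonempty ((DRing.LBaseChange (algebraMap B B')).obj (LCI.NL A B) ≅ LCI.NL A' B')) := by
  have hq : QuasiIso (NLCx.bcMapSelf A B A' B') :=
    Groth.Agent.Lib.T2H2.NLBC3.quasiIso_bcMapSelf A B A' B'
  refine ⟨hq, fun hTA _ => ?_⟩
  set P := (Algebra.Generators.self A B).toExtension with hP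
  have hrel : (ComplexShape.up ℤ).Rel (-1) 0 := by simp
  have hz : ∀ i : ℤ, i ≠ -1 → i ≠ 0 → IsZero ((LCI.NLcx A B).X i) := fun i h1 h0 =>
    HomologicalComplex.isZero_double_X _ _ i h1 h0
  -- degree `0` is free
  have h0 : Module.Flat B ((LCI.NLcx A B).X 0) := by
    have e := (HomologicalComplex.doubleXIso₁ (ModuleCat.ofHom P.cotangentComplex) hrel
      (by decide)).toLinearEquiv
    haveI : Module.Free B P.CotangentSpace :=
      Module.Free.of_basis (Algebra.Generators.self A B).cotangentSpaceBasis
    exact Module.Flat.of_linearEquiv e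
  -- degree `-1` is flat by the tor amplitude hypothesis
  have h1 : Module.Flat B ((LCI.NLcx A B).X (-1)) :=
    Groth.Agent.Lib.T2H2.NLBC4.flat_neg_one_of_hasTorAmp _ hz h0 hTA
  have hflat : DRing.TermwiseFlat (LCI.NLcx A B) := by
    intro i
    by_cases hi1 : i = -1
    · subst hi1; exact h1
    · by_cases hi0 : i = 0
      · subst hi0; exact h0
      · haveI := ModuleCat.subsingleton_of_isZero (hz i hi1 hi0)
        infer_instance
  have hb : DRing.VanishesAbove (LCI.NLcx A B) 0 := fun i hi => hz i (by lia) (by lia)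
  obtain ⟨e₁⟩ := Groth.Agent.Lib.T2H2.NLBC4.nonempty_lbc_iso_of_flat (algebraMap B B')
    (LCI.NLcx A B) 0 hb hflat
  -- compare the two models of the termwise base change
  let e₂ : (Groth.Agent.Lib.Helper1.LDer.bcCx (algebraMap B B')).obj (LCI.NLcx A B) ≅
      NLCx.bcCx P B' :=
    (asIso (Groth.Agent.Lib.T2H2.NLBC4.doubleBcHom (B' := B') P.cotangentComplex)).symm
  have hq' : IsIso (DerivedCategory.Q.map (NLCx.bcMapSelf A B A' B')) :=
    (DerivedCategory.isIso_Q_map_iff_quasiIso (φ := NLCx.bcMapSelf A B A' B')).2 hq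
  exact ⟨e₁ ≪≫ DerivedCategory.Q.mapIso e₂ ≪≫
    @asIso _ _ _ _ (DerivedCategory.Q.map (NLCx.bcMapSelf A B A' B')) hq'⟩

end Groth.Agent.S7222
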