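import Groth.Statements.S7223
import Groth.Agent.Lib.T2H2NLKer
import Groth.Agent.Lib.T2H7NLg

set_option autoImplicit false
universe u
open CategoryTheory CategoryTheory.Limits TensorProduct
attribute [local instance] HasDerivedCategory.standard
open FlatMor

namespace Groth.Agent.S7223

open Groth.Agent.Lib.T2H7.NLc Groth.Agent.Lib.T2H7.NLg Groth.Agent.Lib.T2H2.NLKer in
/-- the conormal module of the presentation attached to an lci structure is finite projective -/
theorem aux_gensOf {A B : Type u} [CommRing A] [CommRing B] [Algebra A B] {n : ℕ}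
    (f : MvPolynomial (Fin n) A →ₐ[A] B) (hf : Function.Surjective f)
    (hK : LCI.IsKoszulRegularIdeal (RingHom.ker f.toRingHom)) :
    Module.Finite B (gensOf f hf).toExtension.Cotangent ∧
      Module.Projective B (gensOf f hf).toExtension.Cotangent := by
  have hfg : (gensOf f hf).toExtension.ker.FG := by
    rw [gensOf_ker]
    exact Groth.Agent.Lib.T2H7.SyntH.fg_of_isKoszulRegularIdeal _ hK
  refine ⟨Algebra.Extension.Cotangent.finite hfg, ?_⟩
  apply projective_cotangent_of_ker
  apply projective_cotangent_of_isKoszulRegularIdeal
  rw [gensOf_ker]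
  exact hK

/-- reindexing a presentation along `ULift`. -/
noncomputable def gensULift {A B : Type u} [CommRing A] [CommRing B] [Algebra A B] {n : ℕ}
    (G : Algebra.Generators A B (Fin n)) : Algebra.Generators A B (ULift.{u} (Fin n)) :=
  Algebra.Generators.ofSurjective (fun i : ULift.{u} (Fin n) => G.val i.down) (by
    intro s
    obtain ⟨p, rfl⟩ := G.aeval_val_surjective s
    refine ⟨MvPolynomial.rename (fun i : Fin n => (ULift.up i : ULift.{u} (Fin n))) p, ?_⟩
    rw [MvPolynomial.aeval_rename]
    rfl)

/-- Let A → B and A → A' be ring homomorphisms and B' an algebra over A' and over B making the square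
cocartesian, B' = B ⊗_A A'. If A → B and A' → B' are both local complete intersection homomorphisms
(of finite type, with Koszul-regular kernel for a polynomial presentation), then the kernel of the
canonical map H^{-1}(NL_{B/A} ⊗_B B') → H^{-1}(NL_{B'/A'}) (presentations on all elements) is a
finite projective B'-module. -/
theorem result (A B A' B' : Type u) [CommRing A] [CommRing B]
    [CommRing A'] [CommRing B'] [Algebra A B] [Algebra A' B'] [Algebra A A'] [Algebra B B'] [Algebra A B']
    [IsScalarTower A A' B'] [IsScalarTower A B B'] [Algebra.IsPushout A A' B B']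
    (hB : LCI.IsLCI A B) (hB' : LCI.IsLCI A' B') :
    Module.Finite B' (LinearMap.ker (NLCx.bcH1Map
        ((Algebra.Generators.self A B).defaultHom (Algebra.Generators.self A' B')).toExtensionHom)) ∧
      Module.Projective B' (LinearMap.ker (NLCx.bcH1Map
        ((Algebra.Generators.self A B).defaultHom (Algebra.Generators.self A' B')).toExtensionHom)) := by
  obtain ⟨-, n, π, hπ, hK⟩ := hB
  obtain ⟨-, m, π', hπ', hK'⟩ := hB'
  obtain ⟨hfin₀, hproj₀⟩ := aux_gensOf π hπ hK
  obtain ⟨hfin₀', hproj₀'⟩ := aux_gensOf π' hπ' hK'
  let G₀ := Groth.Agent.Lib.T2H7.NLc.gensOf π hπ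
  let G₀' := Groth.Agent.Lib.T2H7.NLc.gensOf π' hπ'
  let G := gensULift G₀
  let G' := Groth.Agent.Lib.T2H2.NLKer.gensBC A' B' G
  have hfree : Module.Projective B G.toExtension.CotangentSpace :=
    Module.Projective.of_basis G.cotangentSpaceBasis
  have hfinS : Module.Finite B G.toExtension.CotangentSpace :=
    Module.Finite.of_basis G.cotangentSpaceBasis
  have hfree' : Module.Projective B' G'.toExtension.CotangentSpace :=
    Module.Projective.of_basis G'.cotangentSpaceBasis
  have hfinG : Module.Finite B G.toExtension.Cotangent :=
    Groth.Agent.Lib.T2H2.NLKer.cotangent_finite_of (G.defaultHom G₀).toExtensionHom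
      (G₀.defaultHom G).toExtensionHom
  have hprojG : Module.Projective B G.toExtension.Cotangent :=
    Groth.Agent.Lib.T2H2.NLKer.cotangent_projective_of (G.defaultHom G₀).toExtensionHom
      (G₀.defaultHom G).toExtensionHom
  have hprojG' : Module.Projective B' G'.toExtension.Cotangent :=
    Groth.Agent.Lib.T2H2.NLKer.cotangent_projective_of (G'.defaultHom G₀').toExtensionHom
      (G₀'.defaultHom G').toExtensionHom
  exact Groth.Agent.Lib.T2H2.NLKer.ker_bcH1Map_self_finite_projective A' B' G

end Groth.Agent.S7223
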