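import Groth.Statements.S7225
import Groth.Agent.Lib.T2H2NLCx
-- import your own Groth.Agent.* helpers here

set_option autoImplicit false
set_option linter.style.haveILetI false
universe u
open CategoryTheory CategoryTheory.Limits TensorProduct
open FlatMor

namespace Groth.Agent.S7225

open MvPolynomial in
theorem toAlgHom_eq_map (A A' B : Type u) [CommRing A] [CommRing A'] [CommRing B]
    [Algebra A A'] [Algebra A' B] [Algebra A B] [IsScalarTower A A' B]
    {ι : Type u} (G : Algebra.Generators A B ι) (G' : Algebra.Generators A' B ι)
    (h : ∀ i, G'.val i = algebraMap B B (G.val i)) (x : MvPolynomial ι A) :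
    ((NLCx.sameVarsHom (S' := B) G G' h).toAlgHom x : MvPolynomial ι A') =
      MvPolynomial.map (algebraMap A A') x := by
  change MvPolynomial.aeval (fun i => (X i : MvPolynomial ι A')) x = _
  induction x using MvPolynomial.induction_on with
  | C a => simp [MvPolynomial.algebraMap_eq, IsScalarTower.algebraMap_apply A A' (MvPolynomial ι A')]
  | add p q hp hq => simp [hp, hq]
  | mul_X p i hp => simp [hp]

/-- Let A be a ring, M a submonoid of A, A' a localization of A at M and B an A'-algebra, viewed also as
an A-algebra. Let G be a presentation of B over A by a polynomial algebra and G' the presentation of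
B over A' with the same generators (G'(i) = G(i), written through the identity algebra map of B).
Then the canonical chain map NL(G) → NL(G') from the naive cotangent complex of the presentation
over A to that of the presentation over A' is an isomorphism of complexes (so that NL_{B/A} →
NL_{B/A'} is a homotopy equivalence). -/
theorem result (A A' B : Type u) [CommRing A] [CommRing A'] [CommRing B]
    [Algebra A A'] (M : Submonoid A) [IsLocalization M A'] [Algebra A' B] [Algebra A B] [IsScalarTower A A' B]
    {ι : Type u} (G : Algebra.Generators A B ι) (G' : Algebra.Generators A' B ι) (h : ∀ i, G'.val i = algebraMap B B (G.val i)) :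
    IsIso (NLCx.map (NLCx.sameVarsHom (S' := B) G G' h).toExtensionHom) := by
  set f := (NLCx.sameVarsHom (S' := B) G G' h).toExtensionHom with hf
  have hmap : ∀ x : MvPolynomial ι A, (f.toRingHom x : MvPolynomial ι A') =
      MvPolynomial.map (algebraMap A A') x := toAlgHom_eq_map A A' B G G' h
  apply Groth.Agent.Lib.T2H2.NLCx.isIso_map f
  · -- the map on `I/I²`
    refine Groth.Agent.Lib.T2H2.NLCx.cotangent_map_bijective_of_isLocalization f
      (M.map (MvPolynomial.C (σ := ι))) ?_ ?_
    · have h1 : f.toRingHom.toAlgebra =
          (MvPolynomial.algebraMvPolynomial : Algebra (MvPolynomial ι A) (MvPolynomial ι A')) := by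
        apply Algebra.algebra_ext
        intro r
        exact hmap r
      change @IsLocalization (MvPolynomial ι A) _ _ (MvPolynomial ι A') _ f.toRingHom.toAlgebra
      rw [h1]
      exact MvPolynomial.isLocalization M A'
    · rintro n ⟨m, hm, rfl⟩
      have h2 : algebraMap G.toExtension.Ring B (algebraMap A G.toExtension.Ring m) =
          algebraMap A B m := (IsScalarTower.algebraMap_apply A G.toExtension.Ring B m).symm
      change IsUnit (algebraMap G.toExtension.Ring B (algebraMap A G.toExtension.Ring m))
      rw [h2, IsScalarTower.algebraMap_apply A A' B]
      exact (IsLocalization.map_units A' ⟨m, hm⟩).map _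
  · -- the map on `B ⊗ Ω`
    have hb : ∀ i, Algebra.Extension.CotangentSpace.map f (G.cotangentSpaceBasis i) =
        G'.cotangentSpaceBasis i := by
      intro i
      rw [Algebra.Generators.cotangentSpaceBasis_apply, Algebra.Generators.cotangentSpaceBasis_apply]
      refine (Algebra.Extension.CotangentSpace.map_tmul f (1 : B)
        (MvPolynomial.X i : G.toExtension.Ring)).trans ?_
      rw [map_one]
      congr 2
      exact (hmap _).trans (MvPolynomial.map_X _ _)
    let e : G.toExtension.CotangentSpace ≃ₗ[B] G'.toExtension.CotangentSpace :=
      G.cotangentSpaceBasis.equiv G'.cotangentSpaceBasis (Equiv.refl ι)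
    have he : ∀ x, Algebra.Extension.CotangentSpace.map f x = e x := by
      intro x
      have : (Algebra.Extension.CotangentSpace.map f : _ →ₗ[B] _) = e.toLinearMap := by
        apply G.cotangentSpaceBasis.ext
        intro i
        rw [hb i]
        simp [e]
      exact congrArg (fun g => g x) this
    have : (Algebra.Extension.CotangentSpace.map f : _ → _) = e := funext he
    rw [this]
    exact e.bijective

end Groth.Agent.S7225
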