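import Groth.Statements.S7257
import Groth.Agent.Lib.T2H2AffPushD
import Groth.Agent.Lib.T2H1KhUnit

set_option autoImplicit false
set_option linter.style.haveILetI false
universe u
open CategoryTheory CategoryTheory.Limits AlgebraicGeometry
attribute [local instance] HasDerivedCategory.standard
open Perf

namespace Groth.Agent.S7257

/-- Let f : X ⟶ S be an affine morphism of schemes. Assuming Rf_* exists on the unbounded derived
category, Rf_* restricted to D_QCoh(O_X) reflects isomorphisms: if α : E ⟶ F is a morphism in D(O_X)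
between objects with quasi-coherent cohomology sheaves and Rf_*(α) is an isomorphism, then α is an
isomorphism. -/
theorem result {X S : Scheme.{u}} (f : X ⟶ S) [IsAffineHom f] [DCoh.HasRpush f]
    {E F : DCoh.D X} (hE : DCoh.IsQCohD E) (hF : DCoh.IsQCohD F) (α : E ⟶ F)
    (hα : IsIso ((DCoh.Rpush f).map α)) : IsIso α := by
  haveI := Groth.Agent.Lib.T2H2.ModLim.isGrothendieckAbelian_modules X
  obtain ⟨IE, hIE, ⟨eE⟩⟩ := Groth.Agent.Lib.T2H1.KhUnit.exists_iso_Q_obj_isKInjective.{u} E
  obtain ⟨IF, hIF, ⟨eF⟩⟩ := Groth.Agent.Lib.T2H1.KhUnit.exists_iso_Q_obj_isKInjective.{u} F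
  haveI := hIE
  haveI := hIF
  obtain ⟨a, ha⟩ := Groth.Agent.Lib.Helper17.KInj.exists_Q_map_eq (eE.inv ≫ α ≫ eF.hom)
  haveI h1 : IsIso (((DCoh.pushKh f).totalRightDerivedUnit DerivedCategory.Qh
      (HomotopyCategory.quasiIso X.Modules (ComplexShape.up ℤ))).app
      ((HomotopyCategory.quotient X.Modules (ComplexShape.up ℤ)).obj IE)) :=
    Groth.Agent.Lib.T2H1.KhUnit.isIso_app_quotient_of_isKInjective.{u}
      (Scheme.Modules.pushforward f) (DCoh.Rpush f) _ IE
  haveI h2 : IsIso (((DCoh.pushKh f).totalRightDerivedUnit DerivedCategory.Qh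
      (HomotopyCategory.quasiIso X.Modules (ComplexShape.up ℤ))).app
      ((HomotopyCategory.quotient X.Modules (ComplexShape.up ℤ)).obj IF)) :=
    Groth.Agent.Lib.T2H1.KhUnit.isIso_app_quotient_of_isKInjective.{u}
      (Scheme.Modules.pushforward f) (DCoh.Rpush f) _ IF
  have nat := ((DCoh.pushKh f).totalRightDerivedUnit DerivedCategory.Qh
      (HomotopyCategory.quasiIso X.Modules (ComplexShape.up ℤ))).naturality
      ((HomotopyCategory.quotient X.Modules (ComplexShape.up ℤ)).map a)
  haveI h3 : IsIso ((DCoh.Rpush f).map (DerivedCategory.Q.map a)) := by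
    rw [ha, Functor.map_comp, Functor.map_comp]
    infer_instance
  haveI h3' : IsIso ((DerivedCategory.Qh ⋙ DCoh.Rpush f).map
      ((HomotopyCategory.quotient X.Modules (ComplexShape.up ℤ)).map a)) := h3
  have h4 : IsIso ((DCoh.pushKh f).map
      ((HomotopyCategory.quotient X.Modules (ComplexShape.up ℤ)).map a)) := by
    have h5 : IsIso ((DCoh.pushKh f).map
        ((HomotopyCategory.quotient X.Modules (ComplexShape.up ℤ)).map a) ≫
        ((DCoh.pushKh f).totalRightDerivedUnit DerivedCategory.Qh
          (HomotopyCategory.quasiIso X.Modules (ComplexShape.up ℤ))).app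
          ((HomotopyCategory.quotient X.Modules (ComplexShape.up ℤ)).obj IF)) := by
      rw [nat]
      infer_instance
    exact IsIso.of_isIso_comp_right _ (((DCoh.pushKh f).totalRightDerivedUnit DerivedCategory.Qh
          (HomotopyCategory.quasiIso X.Modules (ComplexShape.up ℤ))).app
          ((HomotopyCategory.quotient X.Modules (ComplexShape.up ℤ)).obj IF))
  have h5 : IsIso (DerivedCategory.Q.map
      (((Scheme.Modules.pushforward f).mapHomologicalComplex (ComplexShape.up ℤ)).map a)) := h4
  have ha' : QuasiIso (((Scheme.Modules.pushforward f).mapHomologicalComplex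
      (ComplexShape.up ℤ)).map a) := (DerivedCategory.isIso_Q_map_iff_quasiIso _ _).1 h5
  haveI := Groth.Agent.Lib.T2H2.AffPush.isIso_Q_map_of_quasiIso_push f
    (fun i => Groth.Agent.Lib.T2H8.QCohDCoprod.isQCoh_of_iso
      ((DerivedCategory.homologyFunctor X.Modules i).mapIso eE) (hE i))
    (fun i => Groth.Agent.Lib.T2H8.QCohDCoprod.isQCoh_of_iso
      ((DerivedCategory.homologyFunctor X.Modules i).mapIso eF) (hF i)) a ha'
  have hα' : α = eE.hom ≫ DerivedCategory.Q.map a ≫ eF.inv := by
    rw [ha]
    simp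
  rw [hα']
  infer_instance

end Groth.Agent.S7257
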