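import Groth.Statements.S7394
import Mathlib
import Groth.Agent.Lib.T2H3CommonField

set_option autoImplicit false
set_option linter.style.haveILetI false
universe u
open CategoryTheory AlgebraicGeometry
open Lim

namespace Groth.Agent.S7394

/-- Let `S` be a scheme and `T_i → S`, `i ∈ I`, surjective affine morphisms. Then any product of the
`T_i` in the category of schemes over `S` maps surjectively onto `S`. -/
theorem result {S : Scheme.{u}} {I : Type u} (T : I → Over S)
    (hT : ∀ i, IsAffineHom (T i).hom ∧ Surjective (T i).hom) (c : Limits.Fan T) (hc : Limits.IsLimit c) :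
    Surjective c.pt.hom := by
  refine ⟨fun s => ?_⟩
  -- for each `i`, a point of the fibre `T_i ×_S Spec κ(s)`
  have hfib : ∀ i, Nonempty ↥(Limits.pullback (T i).hom (S.fromSpecResidueField s)) := fun i => by
    haveI : Surjective (T i).hom := (hT i).2
    haveI : Surjective (Limits.pullback.snd (T i).hom (S.fromSpecResidueField s)) :=
      MorphismProperty.pullback_snd _ _ inferInstance
    haveI : Nonempty ↥(Spec (S.residueField s)) :=
      inferInstanceAs (Nonempty (PrimeSpectrum (S.residueField s)))
    obtain ⟨z, -⟩ := (Limits.pullback.snd (T i).hom (S.fromSpecResidueField s)).surjective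
      (Classical.arbitrary _)
    exact ⟨z⟩
  let z : ∀ i, ↥(Limits.pullback (T i).hom (S.fromSpecResidueField s)) :=
    fun i => Classical.choice (hfib i)
  -- the structure maps `κ(s) → κ(z_i)`
  let φ : ∀ i, S.residueField s ⟶
      (Limits.pullback (T i).hom (S.fromSpecResidueField s)).residueField (z i) := fun i =>
    Spec.preimage ((Limits.pullback (T i).hom (S.fromSpecResidueField s)).fromSpecResidueField (z i) ≫
      Limits.pullback.snd (T i).hom (S.fromSpecResidueField s))
  have hφ : ∀ i, Spec.map (φ i) =
      (Limits.pullback (T i).hom (S.fromSpecResidueField s)).fromSpecResidueField (z i) ≫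
        Limits.pullback.snd (T i).hom (S.fromSpecResidueField s) := fun i => Spec.map_preimage _
  letI : ∀ i, Algebra (S.residueField s)
      ((Limits.pullback (T i).hom (S.fromSpecResidueField s)).residueField (z i)) :=
    fun i => (φ i).hom.toAlgebra
  obtain ⟨Ω, hΩf, hΩa, hΩ⟩ := Groth.Agent.Lib.T2H3.CommonField.exists_common_extension
    (S.residueField s)
    (fun i => (Limits.pullback (T i).hom (S.fromSpecResidueField s)).residueField (z i))
  let ψ : ∀ i, (Limits.pullback (T i).hom (S.fromSpecResidueField s)).residueField (z i)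
      →ₐ[S.residueField s] Ω := fun i => Classical.choice (hΩ i)
  -- the `Ω`-point of `S`
  let b : Spec (CommRingCat.of Ω) ⟶ S :=
    Spec.map (CommRingCat.ofHom (algebraMap (S.residueField s) Ω)) ≫ S.fromSpecResidueField s
  let a : ∀ i, Spec (CommRingCat.of Ω) ⟶ (T i).left := fun i =>
    Spec.map (CommRingCat.ofHom (ψ i).toRingHom) ≫
      (Limits.pullback (T i).hom (S.fromSpecResidueField s)).fromSpecResidueField (z i) ≫
        Limits.pullback.fst (T i).hom (S.fromSpecResidueField s)
  have ha : ∀ i, a i ≫ (T i).hom = b := by
    intro i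
    have h1 : CommRingCat.ofHom (algebraMap (S.residueField s) Ω) =
        φ i ≫ CommRingCat.ofHom (ψ i).toRingHom := by
      ext x
      exact ((ψ i).commutes x).symm
    show (Spec.map (CommRingCat.ofHom (ψ i).toRingHom) ≫
      (Limits.pullback (T i).hom (S.fromSpecResidueField s)).fromSpecResidueField (z i) ≫
        Limits.pullback.fst (T i).hom (S.fromSpecResidueField s)) ≫ (T i).hom =
      Spec.map (CommRingCat.ofHom (algebraMap (S.residueField s) Ω)) ≫ S.fromSpecResidueField s
    rw [h1, Spec.map_comp, hφ i]
    simp only [Category.assoc]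
    rw [Limits.pullback.condition]
    rfl
  let fan : Limits.Fan T := Limits.Fan.mk (Over.mk b) (fun i => Over.homMk (a i) (ha i))
  let l := hc.lift fan
  have hl : l.left ≫ c.pt.hom = b := Over.w l
  haveI : Nonempty ↥(Spec (CommRingCat.of Ω)) := inferInstanceAs (Nonempty (PrimeSpectrum Ω))
  let pt : ↥(Spec (CommRingCat.of Ω)) := Classical.arbitrary _
  refine ⟨l.left pt, ?_⟩
  rw [← Scheme.Hom.comp_apply, hl]
  show (S.fromSpecResidueField s) _ = s
  exact Scheme.fromSpecResidueField_apply _ _

end Groth.Agent.S7394
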