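import Groth.Statements.S7426
import Groth.Agent.Lib.T2H8AWNSch2

set_option autoImplicit false
universe u
open CategoryTheory AlgebraicGeometry
open HTop

namespace Groth.Agent.S7426

/-- For a scheme `X` the following are equivalent: `X` is absolutely weakly normal; `X^awn → X` is an
isomorphism (equivalently, the identity of `X` is an absolute weak normalization); every universal
homeomorphism `Y → X` with `Y` reduced is an isomorphism. -/
theorem result (X : Scheme.{u}) :
    (HTop.IsAWN X ↔ HTop.IsAWNormalization (𝟙 X)) ∧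
    (HTop.IsAWN X ↔ ∀ (Y : Scheme.{u}) (π : Y ⟶ X), FlatMor.IsUnivHomeo π → AlgebraicGeometry.IsReduced Y → IsIso π) := by
  open Groth.Agent.Lib.T2H8.AWNSch in
  refine ⟨⟨fun h => isAWNormalization_of_isAWN (𝟙 X) (isUnivHomeo_id X) h,
    fun h => isAWN_of_isAWNormalization (𝟙 X) h⟩, ⟨fun hX Y π hπ hY => ?_, fun H => ?_⟩⟩
  · exact isIso_of_isAWN_of_isReduced π hπ hX
  · have : IsIso (fromAwn X) :=
      H _ (fromAwn X) (isUnivHomeo_fromAwn X) (isReduced_of_isAWN (isAWN_awnScheme X))
    exact isAWN_of_iso (asIso (fromAwn X)).symm (isAWN_awnScheme X)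

end Groth.Agent.S7426
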