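import Groth.Statements.S7446
import Mathlib
import Groth.Agent.Lib.Helper2BddFib

set_option autoImplicit false
universe u
open CategoryTheory AlgebraicGeometry
open BddFib

namespace Groth.Agent.S7446

set_option linter.style.haveILetI false

open Groth.Agent.Lib.Helper2.BddFib CategoryTheory.Limits

/-- evaluation at a point of an affine scheme finite over a field is surjective. -/
theorem surjective_Γevaluation (k : Type u) [Field k] {T : Scheme.{u}} [IsAffine T]
    (σ : k →+* Γ(T, ⊤)) (hfin : letI := σ.toAlgebra; Module.Finite k Γ(T, ⊤)) (x : T) :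
    Function.Surjective (T.Γevaluation x).hom := by
  letI : Algebra k Γ(T, ⊤) := σ.toAlgebra
  haveI : Module.Finite k Γ(T, ⊤) := hfin
  letI : Algebra k (T.residueField x) := ((T.Γevaluation x).hom.comp σ).toAlgebra
  let evA : Γ(T, ⊤) →ₐ[k] T.residueField x :=
    { (T.Γevaluation x).hom with commutes' := fun c => rfl }
  intro r
  obtain ⟨t, rfl⟩ : ∃ t, (T.residue x).hom t = r :=
    IsLocalRing.residue_surjective (R := T.presheaf.stalk x) r
  have hU : IsAffineOpen (⊤ : T.Opens) := isAffineOpen_top T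
  let xU : (⊤ : T.Opens) := ⟨x, trivial⟩
  letI : Algebra Γ(T, ⊤) (T.presheaf.stalk x) :=
    TopCat.Presheaf.algebra_section_stalk T.presheaf xU
  haveI : IsLocalization.AtPrime (T.presheaf.stalk x) (hU.primeIdealOf xU).asIdeal :=
    hU.isLocalization_stalk xU
  obtain ⟨⟨a, s⟩, has⟩ := IsLocalization.surj (hU.primeIdealOf xU).asIdeal.primeCompl t
  have hsu : IsUnit (algebraMap Γ(T, ⊤) (T.presheaf.stalk x) s) :=
    IsLocalization.map_units (T.presheaf.stalk x) s
  have h1 : (T.residue x).hom t * evA s = evA a := by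
    have := congrArg (T.residue x).hom has
    rw [map_mul] at this
    exact this
  have hs0 : evA (s : Γ(T, ⊤)) ≠ 0 := (hsu.map (T.residue x).hom).ne_zero
  have halg : IsAlgebraic k (evA (s : Γ(T, ⊤))) :=
    ((Algebra.IsIntegral.isIntegral (R := k) (s : Γ(T, ⊤))).map evA).isAlgebraic
  have hinv : (evA (s : Γ(T, ⊤)))⁻¹ ∈ evA.range :=
    Subalgebra.inv_mem_of_algebraic (A := evA.range) (x := ⟨evA s, ⟨s, rfl⟩⟩) halg
  obtain ⟨b, hb⟩ := hinv
  have hb' : evA b = (evA (s : Γ(T, ⊤)))⁻¹ := hb
  refine ⟨a * b, ?_⟩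
  show evA (a * b) = _
  rw [map_mul, hb', ← h1, mul_assoc, mul_inv_cancel₀ hs0, mul_one]

/-- the residue degree is bounded by the `k`-dimension of the quotient by the kernel of
evaluation. -/
theorem residueDegree_le (k : Type u) [Field k] {T : Scheme.{u}} [IsAffine T]
    (p : T ⟶ Spec (CommRingCat.of k))
    (hfin : letI := (sm k p).toAlgebra; Module.Finite k Γ(T, ⊤)) (x : T) :
    letI := (sm k p).toAlgebra
    p.residueDegree x ≤ Module.finrank k (Γ(T, ⊤) ⧸ RingHom.ker (T.Γevaluation x).hom) := by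
  letI : Algebra k Γ(T, ⊤) := (sm k p).toAlgebra
  haveI : Module.Finite k Γ(T, ⊤) := hfin
  have hsurj := surjective_Γevaluation k (sm k p) hfin x
  let I := RingHom.ker (T.Γevaluation x).hom
  let e : (Γ(T, ⊤) ⧸ I) ≃+* T.residueField x := RingHom.quotientKerEquivOfSurjective hsurj
  let K := (Spec (CommRingCat.of k)).residueField (p x)
  let ρ : k →+* K := ((Spec (CommRingCat.of k)).Γevaluation (p x)).hom.comp
    (Scheme.ΓSpecIso (CommRingCat.of k)).inv.hom
  letI : Algebra k K := ρ.toAlgebra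
  letI : Algebra K (T.residueField x) := (p.residueFieldMap x).hom.toAlgebra
  letI : Algebra k (T.residueField x) := ((p.residueFieldMap x).hom.comp ρ).toAlgebra
  haveI : IsScalarTower k K (T.residueField x) := IsScalarTower.of_algebraMap_eq' rfl
  have hmul := Module.finrank_mul_finrank k K (T.residueField x)
  have hcompat : ∀ c : k, (T.Γevaluation x).hom (sm k p c) = (p.residueFieldMap x).hom (ρ c) := by
    intro c
    exact (Scheme.Γevaluation_naturality_apply p x _).symm
  let eL : (Γ(T, ⊤) ⧸ I) ≃ₗ[k] T.residueField x :=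
    { e.toAddEquiv with
      map_smul' := fun c b => by
        obtain ⟨b, rfl⟩ := Ideal.Quotient.mk_surjective b
        show e (c • Ideal.Quotient.mk I b) = c • e (Ideal.Quotient.mk I b)
        rw [Algebra.smul_def, Algebra.smul_def, map_mul]
        congr 1
        exact hcompat c }
  have h2 : Module.finrank k (Γ(T, ⊤) ⧸ I) = Module.finrank k (T.residueField x) :=
    eL.finrank_eq
  haveI : Nontrivial (Γ(T, ⊤) ⧸ I) := e.toEquiv.nontrivial
  have hpos : 0 < Module.finrank k (Γ(T, ⊤) ⧸ I) := Module.finrank_pos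
  show Module.finrank K (T.residueField x) ≤ Module.finrank k (Γ(T, ⊤) ⧸ I)
  rw [h2, ← hmul]
  have h0 : 0 < Module.finrank k K := by
    by_contra h0
    rw [Nat.pos_iff_ne_zero, not_not] at h0
    rw [h0, zero_mul] at hmul
    omega
  exact Nat.le_mul_of_pos_left _ h0

theorem sum_le (k : Type u) [Field k] {T : Scheme.{u}} (p : T ⟶ Spec (CommRingCat.of k)) (n : ℕ)
    (h : BddFib.FiniteOfDegLE (CommRingCat.of k) p n) :
    Finite T ∧ ∑ᶠ x : T, p.residueDegree x ≤ n := by
  obtain ⟨hfinT, hdisc⟩ := finite_discrete_of_fdl k p n h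
  refine ⟨hfinT, ?_⟩
  rw [fdl_iff] at h
  letI : Algebra k Γ(T, ⊤) := (sm k p).toAlgebra
  obtain ⟨haff, hfinm, hrk⟩ := h
  haveI := haff
  haveI := hfinm
  have := Fintype.ofFinite T
  rw [finsum_eq_sum_of_fintype]
  let I : T → Ideal Γ(T, ⊤) := fun x => RingHom.ker (T.Γevaluation x).hom
  have hmax : ∀ x, (I x).IsMaximal := fun x =>
    RingHom.ker_isMaximal_of_surjective _ (surjective_Γevaluation k (sm k p) hfinm x)
  have hne : ∀ x y : T, x ≠ y → I x ≠ I y := by
    intro x y hxy hI
    have hopen : IsOpen ({x} : Set T) := isOpen_discrete _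
    obtain ⟨_, ⟨b, rfl⟩, hxb, hbx⟩ := TopologicalSpace.Opens.isBasis_iff_nbhd.mp
      (isBasis_basicOpen T) (U := ⟨{x}, hopen⟩) (x := x) rfl
    have h1 : b ∉ I x := by
      intro hb
      exact ((T.evaluation_eq_zero_iff_notMem_basicOpen (U := ⊤) x trivial b).mp hb) hxb
    have h2 : b ∈ I y := by
      show (T.Γevaluation y).hom b = 0
      rw [Scheme.evaluation_eq_zero_iff_notMem_basicOpen]
      intro hyb
      exact hxy (hbx hyb).symm
    exact h1 (hI ▸ h2)
  have hcop : Pairwise (fun x y : T => IsCoprime (I x) (I y)) := by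
    intro x y hxy
    rw [Ideal.isCoprime_iff_sup_eq]
    exact Ideal.IsMaximal.coprime_of_ne (hmax x) (hmax y) (hne x y hxy)
  let φ : Γ(T, ⊤) →ₗ[k] (∀ x : T, Γ(T, ⊤) ⧸ I x) :=
    LinearMap.pi fun x => (Ideal.Quotient.mkₐ k (I x)).toLinearMap
  have hφ : Function.Surjective φ := by
    intro y
    obtain ⟨x, hx⟩ := Ideal.quotientInfToPiQuotient_surj hcop y
    obtain ⟨b, rfl⟩ := Ideal.Quotient.mk_surjective x
    refine ⟨b, ?_⟩
    rw [← hx]
    rfl
  have h1 := LinearMap.finrank_le_finrank_of_surjective hφ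
  rw [Module.finrank_pi_fintype] at h1
  calc ∑ x : T, p.residueDegree x ≤ ∑ x : T, Module.finrank k (Γ(T, ⊤) ⧸ I x) :=
        Finset.sum_le_sum fun x _ => residueDegree_le k p hfinm x
    _ ≤ Module.finrank k Γ(T, ⊤) := h1
    _ ≤ n := hrk

/-- When every fibre of `f : X → Y` has degree at most `n`, then for every field `k` and every `Spec k →
Y`, writing `X_k = {x_1, …, x_t}`, one has `Σ_i [κ(x_i) : k] ≤ n`. (Residue degrees are taken along
`X_k → Spec k`; `X_k` is finite, so the sum is a finite sum.) -/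
theorem result {X Y : Scheme.{u}} (f : X ⟶ Y) (n : ℕ) (hf : BddFib.FibreDegLE f n)
    (k : Type u) [Field k] (g : Spec (CommRingCat.of k) ⟶ Y) :
    Finite ↥(Limits.pullback f g) ∧
      ∑ᶠ x : ↥(Limits.pullback f g), (Limits.pullback.snd f g).residueDegree x ≤ n := by
  exact sum_le k _ n (DegLE_of_fibreDegLE f n hf k g)

end Groth.Agent.S7446
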