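import Groth.Statements.S7468
import Groth.Agent.Lib.T2H8ValLift

set_option autoImplicit false
universe w u
open HTop

namespace Groth.Agent.S7468

open CategoryTheory CategoryTheory.Limits AlgebraicGeometry in
/-- If T is affine and a finite family is obtained by restricting one proper surjective morphism U -> T
to the pieces of a finite affine open cover of U, then the family is a standard V covering. -/
theorem result {T : Scheme.{u}} (E : PreZeroHypercover.{w} T) (hE : HTop.IsStandardPh E) : HTop.IsStandardV E :=
  Groth.Agent.Lib.T2H8.ValLift.isStandardV_of_isStandardPh E hE

end Groth.Agent.S7468
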