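import Groth.Statements.S7488
import Groth.Agent.Lib.T2H7GrpdFin
import Groth.Agent.Lib.Helper12QuotSh

set_option autoImplicit false
universe u
open CategoryTheory CategoryTheory.Limits AlgebraicGeometry
open Grpd

namespace Groth.Agent.S7488

/-- Let (U, R, s, t, c) be a groupoid scheme over S with U and R affine, s and t finite locally free,
and j = (t, s) : R -> U x_S U a monomorphism. Let C be the ring of R-invariant functions on U and M
= Spec C. Then the structure morphism U -> S factors uniquely through U -> M, and for the resulting
structure of scheme over S on M, the morphism U -> M represents the quotient sheaf U/R in the fppf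
topology: it coequalizes s and t and the induced map from the coequalizer of h_R => h_U (sheaves of
sets on the big fppf site of S) to h_M is an isomorphism. (The published statement also asserts that
U -> M is finite locally free and that R = U x_M U; this row states only the quotient-sheaf clause.)
(A groupoid scheme carries U, R, s, t, c, e, i over S with the groupoid axioms on T-points; c is
defined on the fibre product of s and t and sends a pair (a, b) with s(a) = t(b) to a composed with
b.) -/
theorem result (S : Scheme.{u}) (G : Grpd.GroupoidScheme S) [IsAffine G.U] [IsAffine G.R] [IsFinite G.s] [Flat G.s] [LocallyOfFinitePresentation G.s] [IsFinite G.t] [Flat G.t] [LocallyOfFinitePresentation G.t] [Mono G.j] : ∃! m : Spec (CommRingCat.of G.invariants) ⟶ S, ∃ h : G.toQuot ≫ m = G.pU, QuotSh.IsQuotient Scheme.fppfPrecoverage (Over.homMk G.s G.s_over : Over.mk G.pR ⟶ Over.mk G.pU) (Over.homMk G.t G.t_over : Over.mk G.pR ⟶ Over.mk G.pU) (Over.homMk G.toQuot h : Over.mk G.pU ⟶ Over.mk m) := by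
  have : Surjective G.toQuot := ⟨Groth.Agent.Lib.T2H7.GrpdBridge.toQuot_surjective G⟩
  have : Flat G.toQuot := Groth.Agent.Lib.T2H7.GrpdFin.flat_toQuot G
  have : LocallyOfFinitePresentation G.toQuot := Groth.Agent.Lib.T2H7.GrpdFin.lfp_toQuot G
  have := isRegularEpi_of_flat_of_surjective_of_isAffine G.toQuot
  have hk : IsKernelPair G.toQuot G.t G.s := Groth.Agent.Lib.T2H7.GrpdFin.isPullback_toQuot G
  obtain ⟨m, hm⟩ := IsRegularEpi.exists_of_isKernelPair G.toQuot hk G.pU
    (by rw [G.t_over, G.s_over])
  refine ⟨m, ⟨hm, ?_⟩, ?_⟩
  · refine Groth.Agent.Lib.Helper12.QuotShLib.isQuotient_of_isKernelPair _ _ _ _ ?_ ?_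
    · refine IsPullback.of_map (Over.forget S) ?_ ?_
      · apply Over.OverMorphism.ext
        simp only [Over.comp_left, Over.homMk_left]
        exact hk.w.symm
      · exact hk.flip
    · exact G.toQuot.singleton_mem_fppfPrecoverage
  · rintro m' ⟨h', -⟩
    have : Epi G.toQuot := Flat.epi_of_flat_of_surjective _
    rw [← cancel_epi G.toQuot, h', hm]

end Groth.Agent.S7488
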