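import Groth.Statements.S7493
import Groth.Agent.Lib.T2H7FieldAut
import Groth.Agent.Lib.T2H7ResFieldIso

set_option autoImplicit false
universe u
open CategoryTheory CategoryTheory.Limits AlgebraicGeometry
open Grpd

namespace Groth.Agent.S7493

/-- Let (U, R, s, t, c) be a groupoid scheme over S with U = Spec k for a field k, and let r be a point
of R. Then there exist a field extension k -> k' with k' algebraically closed and a point r' of the
restriction R' of R along g : U' = Spec k' -> U, that is R' = (U' x_(g,U,t) R) x_(s pr, U, g) U'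
with t' the projection to the first factor U' and s' the projection to the last factor U', such that
r' maps to r under R' -> R and both s' and t' induce isomorphisms on residue fields at r' (k' ->
κ(r') bijective). (A groupoid scheme carries U, R, s, t, c, e, i over S with the groupoid axioms on
T-points; c is defined on the fibre product of s and t and sends a pair (a, b) with s(a) = t(b) to a
composed with b.) -/
theorem result (S : Scheme.{u}) (G : Grpd.GroupoidScheme S) (k : Type u) [Field k] (eU : G.U ≅ Spec (CommRingCat.of k)) (r : G.R) : ∃ (k' : Type u) (_ : Field k') (_ : IsAlgClosed k') (_ : Algebra k k'), ∃ r' : ↑(pullback (pullback.snd (Spec.map (CommRingCat.ofHom (algebraMap k k')) ≫ eU.inv) G.t ≫ G.s) (Spec.map (CommRingCat.ofHom (algebraMap k k')) ≫ eU.inv)), (pullback.fst (pullback.snd (Spec.map (CommRingCat.ofHom (algebraMap k k')) ≫ eU.inv) G.t ≫ G.s) (Spec.map (CommRingCat.ofHom (algebraMap k k')) ≫ eU.inv) ≫ pullback.snd (Spec.map (CommRingCat.ofHom (algebraMap k k')) ≫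 eU.inv) G.t) r' = r ∧ IsIso ((pullback.snd (pullback.snd (Spec.map (CommRingCat.ofHom (algebraMap k k')) ≫ eU.inv) G.t ≫ G.s) (Spec.map (CommRingCat.ofHom (algebraMap k k')) ≫ eU.inv)).residueFieldMap r') ∧ IsIso ((pullback.fst (pullback.snd (Spec.map (CommRingCat.ofHom (algebraMap k k')) ≫ eU.inv) G.t ≫ G.s) (Spec.map (CommRingCat.ofHom (algebraMap k k')) ≫ eU.inv) ≫ pullback.fst (Spec.map (CommRingCat.ofHom (algebraMap k k')) ≫ eU.inv) G.t).residueFieldMap r') := by
  -- the residue field of `r` with its two embeddings of `k`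
  let K := G.R.residueField r
  let xr : Spec K ⟶ G.R := G.R.fromSpecResidueField r
  let σt : CommRingCat.of k ⟶ K := Spec.preimage (xr ≫ G.t ≫ eU.hom)
  let σs : CommRingCat.of k ⟶ K := Spec.preimage (xr ≫ G.s ≫ eU.hom)
  have hσt : Spec.map σt = xr ≫ G.t ≫ eU.hom := Spec.map_preimage _
  have hσs : Spec.map σs = xr ≫ G.s ≫ eU.hom := Spec.map_preimage _
  obtain ⟨Ω, hΩ, hac, ι, β, hβ⟩ := Groth.Agent.Lib.T2H7.FieldAut.exists_conj k K σt.hom σs.hom
  let ιc : K ⟶ CommRingCat.of Ω := CommRingCat.ofHom ι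
  let βc : CommRingCat.of Ω ⟶ CommRingCat.of Ω := CommRingCat.ofHom (β : Ω →+* Ω)
  have hβc : IsIso βc :=
    ⟨CommRingCat.ofHom (β.symm : Ω →+* Ω), by ext a; exact β.symm_apply_apply a,
      by ext a; exact β.apply_symm_apply a⟩
  have hβ' : σt ≫ ιc ≫ βc = σs ≫ ιc := by
    ext a
    exact hβ a
  let A : Algebra k Ω := (σt ≫ ιc).hom.toAlgebra
  refine ⟨Ω, hΩ, hac, A, ?_⟩
  have halg : CommRingCat.ofHom (algebraMap k Ω) = σt ≫ ιc := rfl
  have c₁ : Spec.map (CommRingCat.ofHom (algebraMap k Ω)) ≫ eU.inv = (Spec.map ιc ≫ xr) ≫ G.t := by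
    rw [halg, Spec.map_comp, hσt]
    simp only [Category.assoc, Iso.hom_inv_id, Category.comp_id]
  have c₂ : (Spec.map ιc ≫ xr) ≫ G.s =
      Spec.map βc ≫ Spec.map (CommRingCat.ofHom (algebraMap k Ω)) ≫ eU.inv := by
    rw [halg, ← Category.assoc (Spec.map βc), ← Spec.map_comp, Category.assoc σt, hβ', Spec.map_comp,
      hσs]
    simp only [Category.assoc, Iso.hom_inv_id, Category.comp_id]
  have : IsIso (Spec.map βc) := inferInstance
  obtain ⟨r', h1, h2, h3⟩ := Groth.Agent.Lib.T2H7.ResFieldIso.exists_point_restriction G.s G.t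
    (Spec.map (CommRingCat.ofHom (algebraMap k Ω)) ≫ eU.inv) (Spec.map ιc ≫ xr) (Spec.map βc)
    c₁ c₂ (IsLocalRing.closedPoint Ω)
  refine ⟨r', ?_, h2, h3⟩
  rw [h1, Scheme.Hom.comp_apply]
  exact Scheme.fromSpecResidueField_apply r _

end Groth.Agent.S7493
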