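import Groth.Statements.S7502
import Mathlib
import Groth.Agent.S2515
import Groth.Agent.Lib.Helper2PullbackSec
import Groth.Agent.Lib.Helper23QCohAbelian
import Groth.Agent.Lib.T2H5Devissage
import Groth.Agent.Lib.T2H5FlatPullback
-- import your own Groth.Agent.* helpers here

set_option autoImplicit false
universe u
open CategoryTheory CategoryTheory.Limits AlgebraicGeometry
open Coh

namespace Groth.Agent.S7502

/-- Let f : Y -> X be a morphism of schemes which is quasi-compact, quasi-separated, flat and
surjective, with X and Y locally Noetherian. Let F be a quasi-coherent O_X-module, G a coherent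
O_Y-module and φ : G -> f^*F an injective map of O_Y-modules. Then the O_X-module F ∩ f_*G, defined
as the fibre product of the adjunction unit F -> f_*f^*F with f_*φ : f_*G -> f_*f^*F, is coherent.
('Coherent' is quasi-coherent of finite type, the usual notion on locally Noetherian schemes.) -/
theorem result {X Y : Scheme.{u}} (f : Y ⟶ X) [QuasiCompact f] [QuasiSeparated f] [Flat f] [Surjective f] [IsLocallyNoetherian X] [IsLocallyNoetherian Y] (F : X.Modules) (hF : Coh.IsQCoh F) (G : Y.Modules) (hG : Coh.IsCoh G) (φ : G ⟶ (Scheme.Modules.pullback f).obj F) [Mono φ] : Coh.IsCoh (Limits.pullback ((Scheme.Modules.pullbackPushforwardAdjunction f).unit.app F) ((Scheme.Modules.pushforward f).map φ)) := by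
  have adj := Scheme.Modules.pullbackPushforwardAdjunction f
  haveI hFq : F.IsQuasicoherent := hF
  haveI hGq : G.IsQuasicoherent := hG.1
  haveI h1 : ((Scheme.Modules.pullback f).obj F).IsQuasicoherent :=
    Groth.Agent.Lib.Helper2.PullbackSec.isQuasicoherent_pullback f F
  haveI h2 : ((Scheme.Modules.pushforward f).obj G).IsQuasicoherent :=
    Groth.Agent.Lib.Helper23.QCohLocal.isQuasicoherent_pushforward f G
  haveI h3 : ((Scheme.Modules.pushforward f).obj
      ((Scheme.Modules.pullback f).obj F)).IsQuasicoherent :=
    Groth.Agent.Lib.Helper23.QCohLocal.isQuasicoherent_pushforward f _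
  have key : ∀ (a : F ⟶ (Scheme.Modules.pushforward f).obj ((Scheme.Modules.pullback f).obj F))
      (ha : a = (Scheme.Modules.pullbackPushforwardAdjunction f).unit.app F),
      Coh.IsCoh (Limits.pullback a ((Scheme.Modules.pushforward f).map φ)) := by
    intro a ha
    have hH : (Limits.pullback a ((Scheme.Modules.pushforward f).map φ)).IsQuasicoherent :=
      Groth.Agent.Lib.Helper23.QCohLocal.isQuasicoherent_pullback a _
    haveI hra : (Scheme.Modules.pushforward f).IsRightAdjoint :=
      (Scheme.Modules.pullbackPushforwardAdjunction f).isRightAdjoint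
    haveI hb : Mono ((Scheme.Modules.pushforward f).map φ) := inferInstance
    haveI hfst : Mono (pullback.fst a ((Scheme.Modules.pushforward f).map φ)) := inferInstance
    obtain ⟨q', hq'def⟩ : ∃ q' : (Scheme.Modules.pullback f).obj
        (Limits.pullback a ((Scheme.Modules.pushforward f).map φ)) ⟶ G, q' =
      (Scheme.Modules.pullback f).map (pullback.snd a ((Scheme.Modules.pushforward f).map φ)) ≫
        (Scheme.Modules.pullbackPushforwardAdjunction f).counit.app G := ⟨_, rfl⟩
    have hq : q' ≫ φ = (Scheme.Modules.pullback f).map
        (pullback.fst a ((Scheme.Modules.pushforward f).map φ)) := by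
      have hn := (Scheme.Modules.pullbackPushforwardAdjunction f).counit.naturality φ
      simp only [Functor.comp_map, Functor.id_map, Functor.comp_obj, Functor.id_obj] at hn
      have ht := (Scheme.Modules.pullbackPushforwardAdjunction f).left_triangle_components F
      rw [hq'def, Category.assoc]
      rw [← hn, ← Functor.map_comp_assoc, ← pullback.condition, Functor.map_comp_assoc, ha]
      erw [ht]
      exact Category.comp_id _
    haveI hm : Mono ((Scheme.Modules.pullback f).map
        (pullback.fst a ((Scheme.Modules.pushforward f).map φ))) :=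
      Groth.Agent.Lib.T2H5.FlatPullback.mono_pullback_map f _
    haveI hq' : Mono q' := by
      haveI : Mono (q' ≫ φ) := by rw [hq]; exact hm
      exact mono_of_mono q' φ
    have hpq : ((Scheme.Modules.pullback f).obj
        (Limits.pullback a ((Scheme.Modules.pushforward f).map φ))).IsQuasicoherent :=
      Groth.Agent.Lib.Helper2.PullbackSec.isQuasicoherent_pullback f _
    have hc : Coh.IsCoh ((Scheme.Modules.pullback f).obj
        (Limits.pullback a ((Scheme.Modules.pushforward f).map φ))) :=
      Groth.Agent.Lib.T2H5.Devissage.isCoh_of_mono q' hG hpq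
    exact Groth.Agent.S2515.result f _ hH hc
  exact key _ rfl

end Groth.Agent.S7502
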