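import Groth.Statements.S7503
import Groth.Agent.Lib.T2H8GrpdRedCl

set_option autoImplicit false
universe u
open CategoryTheory CategoryTheory.Limits AlgebraicGeometry
open Grpd

namespace Groth.Agent.S7503

/-- Let (U, R, s, t, c) be a groupoid scheme over S with U the spectrum of a perfect field and let Z be
the reduced closed subscheme of U x_S U whose underlying set is the closure of the image of j = (t,
s). Then (U, Z, pr_0|_Z, pr_1|_Z, pr_02) is a groupoid scheme over S; stated as: there are a
groupoid scheme G' over S with G'.R reduced and an isomorphism of schemes over S from G'.U to U such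
that j' = (t', s') : G'.R -> G'.U x_S G'.U is a closed immersion and the image of j' followed by the
induced isomorphism G'.U x_S G'.U -> U x_S U is the closure of the image of j. (No morphism from (U,
R, s, t, c) to G' is asserted: when R is not reduced, j need not factor through the reduced
subscheme Z.) (A groupoid scheme carries U, R, s, t, c, e, i over S with the groupoid axioms on
T-points; c is defined on the fibre product of s and t and sends a pair (a, b) with s(a) = t(b) to a
composed with b.) -/
theorem result (S : Scheme.{u}) (G : Grpd.GroupoidScheme S) (k : Type u) [Field k] [PerfectField k] (eU : G.U ≅ Spec (CommRingCat.of k)) : ∃ (G' : Grpd.GroupoidScheme S) (ψ : G'.U ≅ G.U) (hψ : ψ.hom ≫ G.pU = G'.pU), IsReduced G'.R ∧ IsClosedImmersion G'.j ∧ Set.range ⇑(G'.j ≫ pullback.map G'.pU G'.pU G.pU G.pU ψ.hom ψ.hom (𝟙 S) ((Category.comp_id _).trans hψ.symm) ((Category.comp_id _).trans hψ.symm)) = closure (Set.range ⇑G.j) := by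
  let f := Groth.Agent.Lib.T2H8.GrpdPair.toPair G
  have eU2 : (Groth.Agent.Lib.T2H8.GrpdPair.pair G.pU).U ≅ Spec (CommRingCat.of k) := eU
  obtain ⟨Z, ι, hcl, e', he, i', hi, c', hc, hred, hrange⟩ :=
    Groth.Agent.Lib.T2H8.GrpdRedCl.exists_redClosure f k eU2
  have hj : ((Groth.Agent.Lib.T2H8.GrpdSub.sub (Groth.Agent.Lib.T2H8.GrpdPair.pair G.pU)
      ι e' he i' hi c' hc).j : Z ⟶ pullback G.pU G.pU) = ι := by
    refine (Groth.Agent.Lib.T2H8.GrpdPair.sub_j (Groth.Agent.Lib.T2H8.GrpdPair.pair G.pU)
      ι e' he i' hi c' hc).trans ?_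
    exact (congrArg (ι ≫ ·) (Groth.Agent.Lib.T2H8.GrpdPair.pair_j G.pU)).trans
      (Category.comp_id _)
  refine ⟨Groth.Agent.Lib.T2H8.GrpdSub.sub (Groth.Agent.Lib.T2H8.GrpdPair.pair G.pU)
    ι e' he i' hi c' hc, Iso.refl _, Category.id_comp _, ?_, ?_, ?_⟩
  · exact hred
  · exact (congrArg (fun m => IsClosedImmersion m) hj).mpr hcl
  · have hmap : ∀ h1 h2, (pullback.map G.pU G.pU G.pU G.pU (𝟙 G.U) (𝟙 G.U) (𝟙 S) h1 h2) = 𝟙 _ := by
      intro h1 h2
      apply pullback.hom_ext
      · exact (pullback.lift_fst _ _ _).trans ((Category.comp_id _).trans (Category.id_comp _).symm)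
      · exact (pullback.lift_snd _ _ _).trans ((Category.comp_id _).trans (Category.id_comp _).symm)
    have key : Set.range ⇑((ι : Z ⟶ pullback G.pU G.pU) ≫ 𝟙 (pullback G.pU G.pU)) =
        closure (Set.range ⇑G.j) :=
      (congrArg (fun m : Z ⟶ pullback G.pU G.pU => Set.range ⇑m) (Category.comp_id ι)).trans hrange
    refine Eq.trans ?_ key
    refine congrArg (fun m : Z ⟶ pullback G.pU G.pU => Set.range ⇑m) ?_
    exact (congrArg₂ (· ≫ ·) hj (hmap _ _))

end Groth.Agent.S7503
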