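import Groth.Statements.S7509
import Groth.Agent.Lib.T2H8GrpdPair

set_option autoImplicit false
universe u
open CategoryTheory CategoryTheory.Limits AlgebraicGeometry
open Grpd

namespace Groth.Agent.S7509

/-- Let (U, R, s, t, c) be a groupoid scheme over S with U the spectrum of a field and R quasi-compact
(equivalently s, t quasi-compact), and let Z be the scheme-theoretic image of j = (t, s) : R -> U
x_S U. Then (U, Z, pr_0|_Z, pr_1|_Z, pr_02) is a groupoid scheme over S; stated as: there are a
groupoid scheme G' over S and a morphism of groupoid schemes φ : (U, R, s, t, c) -> G' which is an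
isomorphism on object schemes, such that j' : G'.R -> G'.U x_S G'.U is a closed immersion whose
kernel ideal sheaf equals the kernel ideal sheaf of j followed by the induced isomorphism U x_S U ->
G'.U x_S G'.U (so G'.R is the scheme-theoretic image of j, transported). (A groupoid scheme carries
U, R, s, t, c, e, i over S with the groupoid axioms on T-points; c is defined on the fibre product
of s and t and sends a pair (a, b) with s(a) = t(b) to a composed with b.) -/
theorem result (S : Scheme.{u}) (G : Grpd.GroupoidScheme S) (k : Type u) [Field k] (eU : G.U ≅ Spec (CommRingCat.of k)) [CompactSpace G.R] : ∃ (G' : Grpd.GroupoidScheme S) (φ : Grpd.GroupoidScheme.Hom G G'), IsIso φ.fU ∧ IsClosedImmersion G'.j ∧ G'.j.ker = (G.j ≫ pullback.map G.pU G.pU G'.pU G'.pU φ.fU φ.fU (𝟙 S) ((Category.comp_id _).trans φ.fU_over.symm) ((Category.comp_id _).trans φ.fU_over.symm)).ker := by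
  obtain ⟨hI, hS⟩ := Groth.Agent.Lib.T2H8.GrpdClosure.fieldLike k eU
  have hAff : IsAffine G.U := IsAffine.of_isIso eU.hom
  have hqs : QuasiSeparatedSpace ↥(pullback G.pU G.pU) :=
    Groth.Agent.Lib.T2H8.GrpdPair.quasiSeparatedSpace_pullback G.pU
  have hqc : QuasiCompact G.j := inferInstance
  let f := Groth.Agent.Lib.T2H8.GrpdPair.toPair G
  have hqc2 : QuasiCompact f.fR := hqc
  have hI2 : IsIntegral (Groth.Agent.Lib.T2H8.GrpdPair.pair G.pU).U := hI
  have hS2 : Subsingleton (Groth.Agent.Lib.T2H8.GrpdPair.pair G.pU).U := hS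
  have ha : f.fR.toImage ≫ f.fR.imageι = f.fR := Scheme.Hom.toImage_imageι f.fR
  have hq : QuasiCompact f.fR.toImage := by
    have : QuasiCompact (f.fR.toImage ≫ f.fR.imageι) := by rw [ha]; infer_instance
    exact QuasiCompact.of_comp f.fR.toImage f.fR.imageι
  have hcl : IsClosedImmersion f.fR.imageι := inferInstance
  have hj : ((Groth.Agent.Lib.T2H8.SchImage.imgGrpd f f.fR.imageι f.fR.toImage ha).j :
      f.fR.image ⟶ pullback G.pU G.pU) = f.fR.imageι := by
    refine (Groth.Agent.Lib.T2H8.GrpdPair.imgGrpd_j f f.fR.imageι f.fR.toImage ha).trans ?_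
    exact (congrArg (f.fR.imageι ≫ ·) (Groth.Agent.Lib.T2H8.GrpdPair.pair_j G.pU)).trans
      (Category.comp_id _)
  refine ⟨Groth.Agent.Lib.T2H8.SchImage.imgGrpd f f.fR.imageι f.fR.toImage ha,
    Groth.Agent.Lib.T2H8.SchImage.toImg f f.fR.imageι f.fR.toImage ha, ?_, ?_, ?_⟩
  · exact IsIso.id _
  · exact (congrArg (fun m => IsClosedImmersion m) hj).mpr hcl
  · have hmap : ∀ h1 h2, (pullback.map G.pU G.pU G.pU G.pU (𝟙 G.U) (𝟙 G.U) (𝟙 S) h1 h2) = 𝟙 _ := by
      intro h1 h2
      apply pullback.hom_ext
      · exact (pullback.lift_fst _ _ _).trans ((Category.comp_id _).trans (Category.id_comp _).symm)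
      · exact (pullback.lift_snd _ _ _).trans ((Category.comp_id _).trans (Category.id_comp _).symm)
    have key : (f.fR.imageι).ker = (G.j ≫ 𝟙 _).ker := by
      rw [Category.comp_id]
      exact Scheme.IdealSheafData.ker_subschemeι _
    refine Eq.trans (congrArg Scheme.Hom.ker hj) (key.trans ?_)
    exact congrArg (fun m => Scheme.Hom.ker (G.j ≫ m)) (hmap _ _).symm

end Groth.Agent.S7509
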