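import Groth.Statements.S7513
import Groth.Agent.Lib.T2H7GrpdFitt

set_option autoImplicit false
universe u
open CategoryTheory CategoryTheory.Limits AlgebraicGeometry
open Grpd

namespace Groth.Agent.S7513

/-- Let (U, R, s, t, c) be a groupoid scheme over S with s and t finite. Then there are closed
subschemes U = Z_0 ⊇ Z_1 ⊇ Z_2 ⊇ ..., each invariant under R, (given by quasi-coherent ideal sheaves
I_0 = 0 ≤ I_1 ≤ I_2 ≤ ...) with empty intersection such that for every r the restriction of s over
the locally closed stratum Z_r minus Z_(r+1) (the open of the subscheme Z_r complementary to the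
support of Z_(r+1)) is finite locally free of rank r + 1. R-invariance of Z_r is expressed as an
isomorphism between the pullbacks of s and of t along Z_r -> U compatible with the maps to R;
'finite locally free of rank n' is finite, flat, locally of finite presentation with constant rank
n. (A groupoid scheme carries U, R, s, t, c, e, i over S with the groupoid axioms on T-points; c is
defined on the fibre product of s and t and sends a pair (a, b) with s(a) = t(b) to a composed with
b.) -/
theorem result (S : Scheme.{u}) (G : Grpd.GroupoidScheme S) [IsFinite G.s] [IsFinite G.t] : ∃ Z : ℕ → G.U.IdealSheafData, Z 0 = ⊥ ∧ Monotone Z ∧ (⋂ r, ((Z r).support : Set G.U)) = ∅ ∧ (∀ r, ∃ φ : pullback G.s (Z r).subschemeι ≅ pullback G.t (Z r).subschemeι, φ.hom ≫ pullback.fst G.t (Z r).subschemeι = pullback.fst G.s (Z r).subschemeι) ∧ ∀ r, Mor2.IsFinLocFreeOfDeg (r + 1) (pullback.snd G.s (((Z r).subschemeι ⁻¹ᵁ (Z (r + 1)).support.compl).ι ≫ (Z r).subschemeι)) := by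
  refine ⟨fun r => Groth.Agent.Lib.T2H7.FinFitt.fitt G.s r, ?_, ?_, ?_, ?_, ?_⟩
  · exact Groth.Agent.Lib.T2H7.FinFitt.fitt_zero_of_section G.s G.e G.e_s
  · intro k k' h
    exact Groth.Agent.Lib.T2H7.FinFitt.fitt_mono' G.s h
  · rw [Set.eq_empty_iff_forall_notMem]
    intro u hu
    obtain ⟨n, hn⟩ := Groth.Agent.Lib.T2H7.FinFitt.exists_notMem_support G.s u
    exact hn (Set.mem_iInter.1 hu n)
  · intro r
    exact Groth.Agent.Lib.T2H7.GrpdFitt.exists_iso_of_comap_eq _ G.s G.t
      (Groth.Agent.Lib.T2H7.GrpdFitt.comap_s_eq_comap_t G r)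
  · intro r
    beta_reduce
    refine Groth.Agent.Lib.T2H7.GrpdFitt.isFinLocFreeOfDeg_pullback_snd G.s _ (r + 1) ?_ ?_
    · intro k hk
      rw [← le_bot_iff]
      refine le_trans (Scheme.IdealSheafData.comap_mono _
        (Groth.Agent.Lib.T2H7.FinFitt.fitt_mono' G.s (Nat.lt_succ_iff.1 hk))) ?_
      beta_reduce
      rw [Scheme.IdealSheafData.comap_comp,
        Groth.Agent.Lib.T2H6.FittStratum.comap_subschemeι_self, Scheme.IdealSheafData.comap_bot]
    · rw [Groth.Agent.Lib.T2H6.FittStratum.comap_eq_top_iff]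
      intro t
      have h2 : (Scheme.Opens.ι _ t) ∈ ((Groth.Agent.Lib.T2H7.FinFitt.fitt G.s r).subschemeι ⁻¹ᵁ
          (Groth.Agent.Lib.T2H7.FinFitt.fitt G.s (r + 1)).support.compl) := by
        have h4 := Set.mem_range_self (f := Scheme.Opens.ι ((Groth.Agent.Lib.T2H7.FinFitt.fitt G.s r).subschemeι ⁻¹ᵁ
          (Groth.Agent.Lib.T2H7.FinFitt.fitt G.s (r + 1)).support.compl)) t
        rwa [Scheme.Opens.range_ι] at h4
      exact h2

end Groth.Agent.S7513
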