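import Groth.Statements.S7521
import Groth.Agent.Lib.T2H7DescFin
import Groth.Agent.Lib.Helper23SecTw9

set_option autoImplicit false
open CategoryTheory CategoryTheory.Limits AlgebraicGeometry
universe u
open Desc

namespace Groth.Agent.S7521

/-- Let p : X -> Y be a surjective finite locally free morphism and V a scheme over X which has an
invertible module ample relative to V -> X. Then every descent datum on V relative to p is
effective. (A quasi-projective morphism V -> X, in particular a projective one, carries such a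
module.) (Descent data are taken in functor-of-points form.) -/
theorem result {X Y : Scheme.{u}} (p : X ⟶ Y) [Surjective p] [IsFinite p] [Flat p] [LocallyOfFinitePresentation p] (D : Desc.SchDD p) (L : D.obj.left.Modules) (hL : RelAmple.IsRelAmple D.obj.hom L) : ∃ W : Over Y, Nonempty ((Desc.toDD p).obj W ≅ D) := by
  apply Groth.Agent.Lib.T2H7.DescFin.finLocFree_effective p D
  intro y s hs
  obtain ⟨Y₀, hY₀, hyY₀, -⟩ := exists_isAffineOpen_mem_and_subset (x := y) (U := ⊤) trivial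
  have hX₀ : IsAffineOpen (p ⁻¹ᵁ Y₀) := hY₀.preimage p
  set V₀ : D.obj.left.Opens := D.obj.hom ⁻¹ᵁ (p ⁻¹ᵁ Y₀) with hV₀
  have hample : CohB1.IsAmple (L.restrict V₀.ι) := hL.2 ⟨p ⁻¹ᵁ Y₀, hX₀⟩
  have := hample.2.1
  have hsV₀ : ∀ v ∈ s, v ∈ V₀ := by
    intro v hv
    show p (D.obj.hom v) ∈ Y₀
    rw [hs v hv]
    exact hyY₀
  have hfin : (V₀.ι ⁻¹' (s : Set D.obj.left)).Finite :=
    s.finite_toSet.preimage V₀.ι.isOpenEmbedding.injective.injOn
  obtain ⟨n, σ, h1, -, h3⟩ := Groth.Agent.Lib.Helper23.SecTw.exists_affine_genLocus_of_finite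
    (L.restrict V₀.ι) hample (V₀.ι ⁻¹' (s : Set D.obj.left)) hfin ⊤ (fun _ _ => trivial)
  refine ⟨V₀.ι ''ᵁ (CohB1.genLocus _ σ), h3.image_of_isOpenImmersion V₀.ι, fun v hv => ?_⟩
  exact ⟨⟨v, hsV₀ v hv⟩, h1 (show V₀.ι ⟨v, hsV₀ v hv⟩ ∈ (s : Set D.obj.left) from hv), rfl⟩

end Groth.Agent.S7521
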