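import Groth.Statements.S7645
import Mathlib
import Groth.Agent.Lib.T2H6AmpCurveG

set_option autoImplicit false
universe u
open CategoryTheory CategoryTheory.Limits AlgebraicGeometry
open Variety

namespace Groth.Agent.S7645

/-- A proper scheme of dimension at most one over a field k is H-projective over k, i.e. admits a closed
immersion into P^n_k over k for some n. -/
theorem result (k : Type u) [Field k] (X : Scheme.{u}) [X.Over (Spec (CommRingCat.of k))] [IsProper (X ↘ (Spec (CommRingCat.of k)))]
    (hdim : topologicalKrullDim X ≤ 1) :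
    ∃ (n : ℕ) (i : X ⟶ CohB1.ProjSpace n k), IsClosedImmersion i ∧
      i ≫ CohB1.ProjSpace.toSpec n k = X ↘ (Spec (CommRingCat.of k)) := by
  haveI : IsNoetherian X :=
    Groth.Agent.Lib.T2H6.AmpCurve.isNoetherian_of_finiteType (X ↘ Spec (CommRingCat.of k))
  haveI : X.IsSeparated :=
    Groth.Agent.Lib.T2H6.AmpCurve.isSeparated_of_over_affine (X ↘ Spec (CommRingCat.of k))
  obtain ⟨L, hL⟩ := Groth.Agent.Lib.T2H6.AmpCurve.exists_ample_of_dim_le_one X hdim
  exact Groth.Agent.Lib.T2H6.ProjOfAmple.exists_closedImmersion_projSpace (X ↘ Spec (CommRingCat.of k)) L hL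

end Groth.Agent.S7645
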