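import Groth.Statements.S7646
import Mathlib
import Groth.Agent.Lib.T2H6AmpCurveJ

set_option autoImplicit false
universe u
open CategoryTheory CategoryTheory.Limits AlgebraicGeometry
open Variety

namespace Groth.Agent.S7646

/-- Let X be separated and of finite type over a field k with dim X ≤ 1, and assume that no irreducible
component of X of dimension one, given its reduced induced structure, is proper over k. Then X is
affine. -/
theorem result (k : Type u) [Field k] (X : Scheme.{u}) [X.Over (Spec (CommRingCat.of k))]
    [IsSeparated (X ↘ (Spec (CommRingCat.of k)))] [LocallyOfFiniteType (X ↘ (Spec (CommRingCat.of k)))]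
    [IsNoetherian X] (hdim : topologicalKrullDim X ≤ 1)
    (h : ∀ (C : Set X) (hC : C ∈ irreducibleComponents (X : Type u)), topologicalKrullDim C = 1 →
      ¬ IsProper ((X.irreducibleComponentIdeal C hC).radical.subschemeι ≫ (X ↘ (Spec (CommRingCat.of k))))) :
    IsAffine X := by
  classical
  apply Groth.Agent.Lib.T2H6.AmpCurve.isAffine_of_irreducibleComponents
  intro W hW
  haveI : IsIntegral (Scheme.IdealSheafData.vanishingIdeal W).subscheme :=
    Groth.Agent.Lib.T2H5.GenIsoE.isIntegral_subscheme_vanishingIdeal (W : Set X) W.isClosed hW.1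
  haveI : QuasiCompact (X ↘ Spec (CommRingCat.of k)) := inferInstance
  letI : (Scheme.IdealSheafData.vanishingIdeal W).subscheme.Over (Spec (CommRingCat.of k)) :=
    ⟨(Scheme.IdealSheafData.vanishingIdeal W).subschemeι ≫ (X ↘ Spec (CommRingCat.of k))⟩
  haveI : IsSeparated ((Scheme.IdealSheafData.vanishingIdeal W).subscheme ↘ Spec (CommRingCat.of k)) :=
    inferInstanceAs (IsSeparated ((Scheme.IdealSheafData.vanishingIdeal W).subschemeι ≫
      (X ↘ Spec (CommRingCat.of k))))
  haveI : LocallyOfFiniteType ((Scheme.IdealSheafData.vanishingIdeal W).subscheme ↘ Spec (CommRingCat.of k)) :=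
    inferInstanceAs (LocallyOfFiniteType ((Scheme.IdealSheafData.vanishingIdeal W).subschemeι ≫
      (X ↘ Spec (CommRingCat.of k))))
  haveI : QuasiCompact ((Scheme.IdealSheafData.vanishingIdeal W).subscheme ↘ Spec (CommRingCat.of k)) :=
    inferInstanceAs (QuasiCompact ((Scheme.IdealSheafData.vanishingIdeal W).subschemeι ≫
      (X ↘ Spec (CommRingCat.of k))))
  have hdimZ : topologicalKrullDim (Scheme.IdealSheafData.vanishingIdeal W).subscheme =
      topologicalKrullDim (W : Set X) :=
    Groth.Agent.Lib.Helper4.IsolFib.topologicalKrullDim_subscheme_vanishingIdeal W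
  have hdimW : topologicalKrullDim (W : Set X) ≤ 1 :=
    (Topology.IsInducing.subtypeVal.topologicalKrullDim_le).trans hdim
  by_cases h1 : topologicalKrullDim (W : Set X) = 1
  · rcases Groth.Agent.S1627.result k (Scheme.IdealSheafData.vanishingIdeal W).subscheme (hdimZ.trans h1) with
      haff | ⟨d, c, hc, hck⟩
    · exact haff
    · exfalso
      refine h (W : Set X) hW h1 ?_
      have hrad : (X.irreducibleComponentIdeal (W : Set X) hW).radical =
          Scheme.IdealSheafData.vanishingIdeal W := by
        rw [← Scheme.IdealSheafData.vanishingIdeal_support]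
        rfl
      rw [hrad]
      haveI := hc
      haveI hprop : IsProper (CohB1.ProjSpace.toSpec d k) := Groth.Agent.S9705.isProper_projSpace_toSpec d k
      have hck' : c ≫ CohB1.ProjSpace.toSpec d k = (Scheme.IdealSheafData.vanishingIdeal W).subschemeι ≫
          (X ↘ Spec (CommRingCat.of k)) := hck
      rw [← hck']
      infer_instance
  · have h0 : topologicalKrullDim (Scheme.IdealSheafData.vanishingIdeal W).subscheme ≤ 0 := by
      rw [hdimZ]
      exact Groth.Agent.Lib.T2H6.AffPts.le_zero_of_le_one_of_ne _ hdimW h1
    have hpt : ∀ z : (Scheme.IdealSheafData.vanishingIdeal W).subscheme,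
        z = genericPoint (Scheme.IdealSheafData.vanishingIdeal W).subscheme := fun z =>
      Groth.Agent.Lib.T2H6.AffPts.eq_genericPoint_of_krullDimLE_zero z
        ((Groth.Agent.Lib.Helper4.FibDim.ringKrullDim_stalk_le_topologicalKrullDim _ z).trans h0)
    obtain ⟨_, ⟨U, hU, rfl⟩, hgU, -⟩ :=
      (Scheme.IdealSheafData.vanishingIdeal W).subscheme.isBasis_affineOpens.exists_subset_of_mem_open
        (Set.mem_univ (genericPoint (Scheme.IdealSheafData.vanishingIdeal W).subscheme)) isOpen_univ
    have hUtop : U = ⊤ := by
      rw [eq_top_iff]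
      intro z _
      rw [hpt z]
      exact hgU
    rw [hUtop] at hU
    haveI : IsAffine (↑(⊤ : (Scheme.IdealSheafData.vanishingIdeal W).subscheme.Opens) : Scheme.{u}) := hU
    exact IsAffine.of_isIso (Scheme.topIso _).inv

end Groth.Agent.S7646
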