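import Groth.Statements.S7647
import Mathlib
import Groth.Agent.Lib.T2H6IntersectDeg

set_option autoImplicit false
universe u
open CategoryTheory CategoryTheory.Limits AlgebraicGeometry
open Variety

namespace Groth.Agent.S7647

/-- Let X be proper over a field k, Z ⊆ X a closed subscheme of dimension ≤ 1 and L an invertible
module. Then the intersection number (L · Z), i.e. the coefficient of n in the polynomial computing
χ(X, O_Z ⊗ L^{⊗n}), equals the degree of L|_Z on Z. -/
theorem result (k : Type u) [Field k] (X : Scheme.{u}) [X.Over (Spec (CommRingCat.of k))] [IsProper (X ↘ (Spec (CommRingCat.of k)))]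
    (D : X.IdealSheafData) (hD : topologicalKrullDim (D.support : Set X) ≤ 1)
    (L : X.Modules) (hL : PicF.IsInvertible L) (P : MvPolynomial (Fin 1) ℚ)
    (hP : ∀ n : Fin 1 → ℕ, (Curv2.euler k X (Curv2.tensorPows (ClSub.quotMod D) 1 (fun _ => L) n) : ℚ) = MvPolynomial.eval (fun i => (n i : ℚ)) P) :
    MvPolynomial.coeff (Finsupp.equivFunOnFinite.symm fun _ : Fin 1 => 1) P =
      (@Curv2.deg k _ D.subscheme ⟨D.subschemeι ≫ (X ↘ (Spec (CommRingCat.of k)))⟩
        ((Scheme.Modules.pullback D.subschemeι).obj L) 1 : ℚ) := by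
  refine Groth.Agent.Lib.T2H6.IntersectDeg.coeff_of_eval_affine P _
    ((@Curv2.euler k _ D.subscheme ⟨D.subschemeι ≫ (X ↘ (Spec (CommRingCat.of k)))⟩
        (Coh.structureModule D.subscheme) : ℤ) : ℚ) ?_
  intro n
  rw [← hP n]
  have h := Groth.Agent.Lib.T2H6.IntersectDeg.euler_quotMod_tensorPow k D hD L hL (n 0)
  have h0 : Curv2.tensorPows (ClSub.quotMod D) 1 (fun _ => L) n =
      CohB1.tensorMod (ClSub.quotMod D) (CohB1.tensorPow L (n 0)) := rfl
  rw [h0, h]
  push_cast
  ring

end Groth.Agent.S7647
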