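import Groth.Statements.S7671
import Mathlib
import Groth.Agent.Lib.T2H5PicDescGeo
-- import your own Groth.Agent.* helpers here

set_option autoImplicit false
universe u
open CategoryTheory CategoryTheory.Limits AlgebraicGeometry
open Variety

namespace Groth.Agent.S7671

/-- Let A → B be faithfully flat and X a quasi-compact and quasi-separated scheme over A such that
H^0(X, O_X) is a semi-local ring. Then Pic(X) → Pic(X_B) is injective: an invertible module on X
which becomes trivial on X_B is trivial. -/
theorem result (A B : Type u) [CommRing A]
    [CommRing B] [Algebra A B] [Module.FaithfullyFlat A B]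
    (X : Scheme.{u}) (f : X ⟶ Spec (CommRingCat.of A)) [CompactSpace X] [QuasiSeparatedSpace X]
    (hsl : Finite (MaximalSpectrum Γ(X, ⊤))) (L : X.Modules) (hL : PicF.IsInvertible L)
    (htriv : Nonempty ((Scheme.Modules.pullback
        (pullback.fst f (Spec.map (CommRingCat.ofHom (algebraMap A B))))).obj L ≅
      Coh.structureModule (pullback f (Spec.map (CommRingCat.ofHom (algebraMap A B)))))) :
    Nonempty (L ≅ Coh.structureModule X) := by
  have hff : (CommRingCat.ofHom (algebraMap A B)).hom.FaithfullyFlat :=
    RingHom.faithfullyFlat_algebraMap_iff.2 inferInstance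
  obtain ⟨hfl, hsurj⟩ := (flat_and_surjective_SpecMap_iff (CommRingCat.ofHom (algebraMap A B))).2 hff
  have := hfl
  have := hsurj
  exact Groth.Agent.Lib.T2H5.PicDescGeo.nonempty_iso_structureModule_of_pullback f
    (Spec.map (CommRingCat.ofHom (algebraMap A B)))
    (pullback.fst f (Spec.map (CommRingCat.ofHom (algebraMap A B))))
    (pullback.snd f (Spec.map (CommRingCat.ofHom (algebraMap A B))))
    (IsPullback.of_hasPullback f _) hsl L hL htriv

end Groth.Agent.S7671
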