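import Groth.Statements.S8303
import Mathlib
import Groth.Agent.Lib.T2H4QCohAlgH
set_option backward.isDefEq.respectTransparency.types false

set_option autoImplicit false
universe u
open CategoryTheory CategoryTheory.Limits AlgebraicGeometry Opposite TopologicalSpace
noncomputable section
open EGA2

namespace Groth.Agent.S8303

/-- For the algebra f_*O_X of a scheme X affine over S: let f : X → S be an affine morphism and F a
quasi-coherent O_X-module. Then F is of finite type (locally on X generated by finitely many
sections) if and only if the direct image f_*F is of finite type as a module over the sheaf of rings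
f_*O_X (locally on S generated by finitely many sections over f_*O_X). -/
theorem result {X S : Scheme.{u}} (f : X ⟶ S) [IsAffineHom f]
    (F : X.Modules) (hF : Coh.IsQCoh F) :
    SheafOfModules.IsFiniteType.{u} (R := X.ringCatSheaf) F ↔
      SheafOfModules.IsFiniteType.{u} (R := AMod.ringSheaf (RelSpec.QCAlg.directImage f)) ((AMod.dirImg f).obj F) := by
  haveI : F.IsQuasicoherent := hF
  have hB := Groth.Agent.Lib.T2H4.QCohAlg.isQuasicoherent_res_unit_directImage f
  have hG : ((SheafOfModules.restrictScalars.{u} (AMod.strHom (RelSpec.QCAlg.directImage f))).obj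
      ((AMod.dirImg f).obj F)).IsQuasicoherent :=
    (Groth.Agent.Lib.Helper23.QCohLocal.isQuasicoherent_pushforward f F :
      ((Scheme.Modules.pushforward f).obj F).IsQuasicoherent)
  constructor
  · intro hft
    haveI := hft
    apply Groth.Agent.Lib.T2H4.QCohAlg.isFiniteType_of_finite_sections
      (AMod.strHom (RelSpec.QCAlg.directImage f)) hB _ hG
    intro V
    have hU : IsAffineOpen (f ⁻¹ᵁ (V : S.Opens)) := V.2.preimage f
    exact (Groth.Agent.Lib.Helper23.FinType.finite_of_isFiniteType F hU :
      Module.Finite Γ(X, f ⁻¹ᵁ (V : S.Opens)) Γ(F, f ⁻¹ᵁ (V : S.Opens)))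
  · intro hft
    haveI := hft
    obtain ⟨W, hxW, hfin⟩ := Groth.Agent.Lib.T2H4.QCohAlg.exists_cover_finite_sections
      (AMod.strHom (RelSpec.QCAlg.directImage f)) hB _ hG
    have hV : ∀ x : X, ∃ V : S.Opens, IsAffineOpen V ∧ f.base x ∈ V ∧ V ≤ W (f.base x) := by
      intro x
      obtain ⟨V, hV, hxV, hVW⟩ := (S.isBasis_affineOpens).exists_subset_of_mem_open (hxW (f.base x))
        (W (f.base x)).isOpen
      obtain ⟨V', hV', rfl⟩ := hV
      exact ⟨V', hV', hxV, hVW⟩
    choose V hVa hxV hVW using hV
    refine Groth.Agent.Lib.Helper23.FinType.isFiniteType_of_finite F (fun x => f ⁻¹ᵁ V x) ?_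
      (fun x => (hVa x).preimage f) (fun x => ?_)
    · rw [TopologicalSpace.IsOpenCover, eq_top_iff]
      intro x _
      exact TopologicalSpace.Opens.mem_iSup.2 ⟨x, hxV x⟩
    · exact hfin (f.base x) (V x) (hVa x) (hVW x)

end Groth.Agent.S8303
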