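import Groth.Statements.S8317
import Mathlib
import Groth.Agent.Lib.T2H4GrauertS
import Groth.Agent.Lib.Helper10QAffRelSpec
set_option backward.isDefEq.respectTransparency.types false

set_option autoImplicit false
universe u
open CategoryTheory CategoryTheory.Limits AlgebraicGeometry Opposite TopologicalSpace
open scoped HomogeneousIdeal
noncomputable section
open EGA2

namespace Groth.Agent.S8317

/-- Let f : X → Y be a separated quasi-compact morphism such that f^♯ : O_Y → f_*O_X is an isomorphism,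
L an invertible O_X-module, V = V(L) = Spec(Sym L) its line bundle with projection π : V → X, and C
= Spec((f∘π)_*O_V) the relative spectrum over Y of the direct-image algebra of f∘π. (The published
statement takes C to be the affine cone Spec(O_Y ⊕ ⊕_{n≥1} f_*(L^{⊗n})); when f^♯ is an isomorphism
that cone is this relative spectrum.) Then: if X is integral, C is integral; and if X is locally
integral (every point has an integral open neighbourhood) and normal (all local rings integrally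
closed domains), then C is normal. -/
theorem result {X Y : Scheme.{u}} (f : X ⟶ Y) [IsSeparated f] [QuasiCompact f]
    (hlam : IsIso f.c) (L : X.Modules) (hL : PicF.IsInvertible L) (hLq : Coh.IsQCoh L)
    (𝒜 : RelSpec.QCAlg X) (jL : L ⟶ 𝒜.toModule) (hA : RelSpec.IsSymAlg L 𝒜 jL) :
    (IsIntegral X → IsIntegral (RelSpec.QCAlg.directImage (𝒜.π ≫ f)).spec) ∧
      ((∀ x : X, ∃ U : X.Opens, x ∈ U ∧ IsIntegral (U : Scheme.{u})) → Pi1.IsNormalScheme X →
        Pi1.IsNormalScheme (RelSpec.QCAlg.directImage (𝒜.π ≫ f)).spec) := by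
  have hq'' : L.IsQuasicoherent := hLq
  have hq'π := Groth.Agent.Lib.Helper10.QAffRelSpec.can_π (𝒜.π ≫ f)
  have hq' := Groth.Agent.Lib.Helper10.QAffRelSpec.algHom_can (𝒜.π ≫ f)
  have hbij := Groth.Agent.Lib.T2H4.LocInt.app_bijective (𝒜.π ≫ f)
    (Groth.Agent.Lib.Helper10.QAffRelSpec.can (𝒜.π ≫ f)) hq'π hq'
  refine ⟨fun hX => ?_, fun hloc hX => ?_⟩
  · have hV : IsIntegral 𝒜.spec := Groth.Agent.Lib.T2H4.LocInt.isIntegral_lineBundle L 𝒜 jL hA hL
    exact Groth.Agent.Lib.T2H4.LocInt.isIntegral_of_bijective_app _ hbij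
  · intro c
    obtain ⟨U, hU, hyU, -⟩ := exists_isAffineOpen_mem_and_subset
      (x := (RelSpec.QCAlg.directImage (𝒜.π ≫ f)).π.base c) (U := ⊤) trivial
    have hZ : IsAffineOpen ((RelSpec.QCAlg.directImage (𝒜.π ≫ f)).π ⁻¹ᵁ U) :=
      hU.preimage (RelSpec.QCAlg.directImage (𝒜.π ≫ f)).π
    refine Groth.Agent.Lib.T2H4.LocInt.stalk_normal_of_bijective_app _ hbij
      (Groth.Agent.Lib.T2H4.LocInt.locally_integral_lineBundle L 𝒜 jL hA hL hloc)
      (Groth.Agent.Lib.T2H4.LocInt.isNormalScheme_lineBundle L 𝒜 jL hA hL hloc hX) _ hZ ?_ c hyU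
    have heq : Groth.Agent.Lib.Helper10.QAffRelSpec.can (𝒜.π ≫ f) ⁻¹ᵁ
        ((RelSpec.QCAlg.directImage (𝒜.π ≫ f)).π ⁻¹ᵁ U) = (𝒜.π ≫ f) ⁻¹ᵁ U := by
      rw [← Scheme.Hom.comp_preimage, hq'π]
    rw [heq]
    exact (𝒜.π ≫ f).isCompact_preimage hU.isCompact

end Groth.Agent.S8317
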