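import Groth.Statements.S8366
import Groth.Agent.Lib.T2H7NilGrpLawB
import Groth.Agent.Lib.T2H7DiagDS

set_option autoImplicit false
universe u
open CategoryTheory MonoidalCategory MonObj AlgebraicGeometry
open SGA3

namespace Groth.Agent.S8366

/-- Over an affine base S = Spec R with S₀ = Spec (R/I) for a nilpotent ideal I: let X be an S-scheme
which is flat and either quasi-compact or locally of finite presentation over S, and P : X ×_S X → X
a composition law. If P is associative and its base change to S₀ is the multiplication of some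
group-scheme structure on X ×_S S₀, then P is the multiplication of a group-scheme structure on X.
(The published statement is over an arbitrary base scheme with S₀ defined by a nilpotent
quasi-coherent ideal; this row is its case of an affine base.) -/
theorem result (R : Type u) [CommRing R] (I : Ideal R)
    (hI : IsNilpotent I) (X : Over (Spec (CommRingCat.of R))) [Flat X.hom]
    (hX : QuasiCompact X.hom ∨ LocallyOfFinitePresentation X.hom) (P : X ⊗ X ⟶ X)
    (hassoc : (P ▷ X) ≫ P = (α_ X X X).hom ≫ (X ◁ P) ≫ P)
    (h0 : ∃ _ : GrpObj ((Over.pullback (Spec.map (CommRingCat.ofHom (Ideal.Quotient.mk I)))).obj X),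
      μ[(Over.pullback (Spec.map (CommRingCat.ofHom (Ideal.Quotient.mk I)))).obj X] =
        Functor.LaxMonoidal.μ (Over.pullback (Spec.map (CommRingCat.ofHom (Ideal.Quotient.mk I)))) X X ≫ (Over.pullback (Spec.map (CommRingCat.ofHom (Ideal.Quotient.mk I)))).map P) :
    ∃ _ : GrpObj X, μ[X] = P := by
  haveI : IsClosedImmersion (Spec.map (CommRingCat.ofHom (Ideal.Quotient.mk I))) :=
    IsClosedImmersion.spec_of_surjective _ Ideal.Quotient.mk_surjective
  have hnil : Groth.Agent.Lib.T2H7.MultActCore.LocNilp
      (Spec.map (CommRingCat.ofHom (Ideal.Quotient.mk I))) := by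
    intro x
    obtain ⟨U, hxU, hU⟩ := Groth.Agent.Lib.T2H7.DiagDS.locNilp_spec_quotient R I hI x
    refine ⟨U.1, U.2, hxU, ?_⟩
    rw [Scheme.Hom.ker_apply] at hU
    exact hU
  exact Groth.Agent.Lib.T2H7.NilGrpLawB.main
    (Spec.map (CommRingCat.ofHom (Ideal.Quotient.mk I))) hnil X hX P hassoc h0

end Groth.Agent.S8366
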