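import Groth.Statements.S8513
import Mathlib

set_option autoImplicit false
open CategoryTheory MonoidalCategory CartesianMonoidalCategory MonObj GrpObj AlgebraicGeometry
universe u
open Par

namespace Groth.Agent.S8513

/-- Let G be a reductive S-group and P, Q two parabolic subgroups of G in transversal position (the
multiplication morphism P ×_S Q ⟶ G is smooth). Then P ∩ Q (a fibre product of P and Q over G) is
smooth over S. -/
theorem result {S : Scheme.{u}} {G P Q I : Over S} [GrpObj G] [GrpObj P] [GrpObj Q]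
    (hG : Red.IsReductive G) (p : P ⟶ G) (q : Q ⟶ G) (hP : Red.IsParabolic p) (hQ : Red.IsParabolic q)
    (htr : Smooth ((p ⊗ₘ q) ≫ μ[G]).left) (m : I ⟶ P) (m' : I ⟶ Q) (hI : IsPullback m m' p q) :
    Smooth I.hom := by
  have hp : IsMonHom p := hP.1
  have hq : IsMonHom q := hQ.1
  -- the fibre of the multiplication over the unit section
  have hmul : ∀ {T : Over S} (a : T ⟶ P ⊗ Q),
      a ≫ (p ⊗ₘ q) ≫ μ[G] = ((a ≫ fst P Q) ≫ p) * ((a ≫ snd P Q) ≫ q) := by
    intro T a
    rw [Hom.mul_def]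
    rw [← Category.assoc]
    congr 1
    ext <;> simp
  have hq_inv : ∀ {T : Over S} (b : T ⟶ Q), b⁻¹ ≫ q = (b ≫ q)⁻¹ := by
    intro T b
    exact GrpObj.inv_comp b q
  have hw : lift m (m')⁻¹ ≫ (p ⊗ₘ q) ≫ μ[G] = toUnit I ≫ η[G] := by
    rw [hmul, lift_fst, lift_snd, hq_inv, ← hI.w, mul_inv_cancel]
    rfl
  have hcond : ∀ s : Limits.PullbackCone ((p ⊗ₘ q) ≫ μ[G]) η[G],
      (s.fst ≫ fst P Q) ≫ p = (s.fst ≫ snd P Q)⁻¹ ≫ q := by
    intro s
    have h1 := s.condition
    rw [hmul] at h1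
    have h2 : s.snd ≫ η[G] = 1 := by
      rw [toUnit_unique s.snd (toUnit _)]
      rfl
    rw [h2] at h1
    rw [hq_inv]
    exact eq_inv_of_mul_eq_one_left h1
  have sq : IsPullback (lift m (m')⁻¹) (toUnit I) ((p ⊗ₘ q) ≫ μ[G]) η[G] := by
    refine ⟨⟨hw⟩, ⟨Limits.PullbackCone.IsLimit.mk _
      (fun s => hI.lift (s.fst ≫ fst P Q) (s.fst ≫ snd P Q)⁻¹ (hcond s)) ?_ ?_ ?_⟩⟩
    · intro s
      apply CartesianMonoidalCategory.hom_ext
      · rw [Category.assoc, lift_fst, hI.lift_fst]
      · rw [Category.assoc, lift_snd, GrpObj.comp_inv, hI.lift_snd, _root_.inv_inv]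
    · intro s
      exact toUnit_unique _ _
    · intro s l hl1 hl2
      apply hI.hom_ext
      · rw [hI.lift_fst, ← hl1, Category.assoc, lift_fst]
      · rw [hI.lift_snd, ← hl1, Category.assoc, lift_snd, GrpObj.comp_inv, _root_.inv_inv]
  have sq' := sq.map (Over.forget S)
  have h3 : Smooth ((Over.forget S).map (toUnit I)) :=
    MorphismProperty.of_isPullback (P := @Smooth) sq' htr
  have h4 : (Over.forget S).map (toUnit I) = I.hom := by
    have h5 := Over.w (toUnit I)
    change (toUnit I).left ≫ 𝟙 S = I.hom at h5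
    exact (Category.comp_id _).symm.trans h5
  rw [← h4]
  exact h3

end Groth.Agent.S8513
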