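import Groth.Statements.S8547
import Groth.Agent.Lib.T2H8SecPull

set_option autoImplicit false
universe u
open CategoryTheory CategoryTheory.Limits AlgebraicGeometry Opposite
open EtBC

namespace Groth.Agent.S8547

/-- Let h : Y → X and p : X̄ → X be morphisms of schemes with X, Y, X̄ quasi-compact and quasi-separated
(p need not be surjective), and Ȳ = Y ×_X X̄ with projections h̄ : Ȳ → X̄ and p_Y : Ȳ → Y. If the
pullback map on global sections Γ(X, F) → Γ(Y, h^*F) is injective for every sheaf of sets F on X and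
the base change morphism h^* p_* F̄ → p_{Y*} h̄^* F̄ is a monomorphism for every sheaf of sets F̄ on
X̄, then Γ(X̄, F̄) → Γ(Ȳ, h̄^*F̄) is injective for every F̄. If the maps for h are bijective and the
base change morphisms are isomorphisms, then the maps for h̄ are bijective. -/
theorem result {X Y Xb Yb : Scheme.{u}} [CompactSpace X]
    [QuasiSeparatedSpace X] [CompactSpace Y] [QuasiSeparatedSpace Y] [CompactSpace Xb] [QuasiSeparatedSpace Xb]
    (h : Y ⟶ X) (p : Xb ⟶ X) (hb : Yb ⟶ Xb) (pY : Yb ⟶ Y) (sq : IsPullback hb pY p h) :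
    ((∀ F : EtDesc.Sh X, Function.Injective (EtDesc.secPull h F)) →
      (∀ Fb : EtDesc.Sh Xb, Mono (EtBC.baseChange0Sh p h pY hb sq.w Fb)) →
      ∀ Fb : EtDesc.Sh Xb, Function.Injective (EtDesc.secPull hb Fb)) ∧
    ((∀ F : EtDesc.Sh X, Function.Bijective (EtDesc.secPull h F)) →
      (∀ Fb : EtDesc.Sh Xb, IsIso (EtBC.baseChange0Sh p h pY hb sq.w Fb)) →
      ∀ Fb : EtDesc.Sh Xb, Function.Bijective (EtDesc.secPull hb Fb)) := by
  have key := Groth.Agent.Lib.T2H8SecPull.baseChange0Sh_secPull p h pY hb sq.w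
  have inj : ∀ Fb : EtDesc.Sh Xb, (∀ F : EtDesc.Sh X, Function.Injective (EtDesc.secPull h F)) →
      Mono (EtBC.baseChange0Sh p h pY hb sq.w Fb) → Function.Injective (EtDesc.secPull hb Fb) := by
    intro Fb hinj hmono s t hst
    have e : (EtBC.baseChange0Sh p h pY hb sq.w Fb).hom.app (op (EtCoh.top Y))
        (EtDesc.secPull h ((EtDesc.pushSh p).obj Fb) (Fb.obj.map (EtCore.bcTopIso p).hom.op s)) =
        (EtBC.baseChange0Sh p h pY hb sq.w Fb).hom.app (op (EtCoh.top Y))
        (EtDesc.secPull h ((EtDesc.pushSh p).obj Fb) (Fb.obj.map (EtCore.bcTopIso p).hom.op t)) := by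
      rw [key, key, hst]
    have e2 := hinj _ (Groth.Agent.Lib.T2H8SecPull.injective_app_of_mono _ _ e)
    exact (Groth.Agent.Lib.T2H8SecPull.map_iso_bijective Fb.obj (EtCore.bcTopIso p)).1 e2
  constructor
  · intro hinj hmono Fb
    exact inj Fb hinj (hmono Fb)
  · intro hbij hiso Fb
    haveI := hiso Fb
    refine ⟨inj Fb (fun F => (hbij F).1) inferInstance, ?_⟩
    intro c
    obtain ⟨d, hd⟩ := (Groth.Agent.Lib.T2H8SecPull.bijective_app_of_isIso
      (EtBC.baseChange0Sh p h pY hb sq.w Fb) (op (EtCoh.top Y))).2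
      (((EtDesc.pullSh hb).obj Fb).obj.map (EtCore.bcTopIso pY).hom.op c)
    obtain ⟨σ, hσ⟩ := (hbij ((EtDesc.pushSh p).obj Fb)).2 d
    obtain ⟨t, ht⟩ := (Groth.Agent.Lib.T2H8SecPull.map_iso_bijective Fb.obj (EtCore.bcTopIso p)).2 σ
    refine ⟨t, ?_⟩
    apply (Groth.Agent.Lib.T2H8SecPull.map_iso_bijective ((EtDesc.pullSh hb).obj Fb).obj
      (EtCore.bcTopIso pY)).1
    rw [← key, ht, hσ, hd]

end Groth.Agent.S8547
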