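import Groth.Statements.S8654
import Groth.Agent.Lib.T2H9KoszulComp

set_option autoImplicit false
set_option linter.style.haveILetI false
universe u
open CategoryTheory CategoryTheory.Limits AlgebraicGeometry
open RegImm

namespace Groth.Agent.S8654

/-- Let i : Y ⟶ X and j : Z ⟶ Y be Koszul-regular immersions (not necessarily closed). Then the
composite Z ⟶ X is a Koszul-regular immersion. -/
theorem result {X Y Z : Scheme.{u}} (i : Y ⟶ X) (j : Z ⟶ Y)
    (hi : RegImm.IsRegularImmersion .koszul i) (hj : RegImm.IsRegularImmersion .koszul j) :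
    RegImm.IsRegularImmersion .koszul (j ≫ i) := by
  obtain ⟨himm, hat⟩ := hi
  obtain ⟨hjmm, hjat⟩ := hj
  haveI := himm
  haveI := hjmm
  refine ⟨inferInstance, fun z => ?_⟩
  obtain ⟨U, h1, h2, fs, h3, h4⟩ := hat (j z)
  obtain ⟨V, g1, g2, gs, g3, g4⟩ := hjat z
  obtain ⟨U', k1, k2, rs, -, k3, k4⟩ :=
    Groth.Agent.Lib.T2H9.KoszulComp.atLen_koszul_comp fs.length gs.length i j z
      ⟨U, h1, h2, fs, rfl, h3, h4⟩ ⟨V, g1, g2, gs, rfl, g3, g4⟩
  exact ⟨U', k1, k2, rs, k3, k4⟩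

end Groth.Agent.S8654
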