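import Groth.Statements.S9758
import Groth.Agent.Lib.T2H7SyntG
import Groth.Agent.Lib.T2H7SyntH
import Groth.Agent.Lib.T2H7LCIMor

set_option autoImplicit false
universe u
open FlatMor

namespace Groth.Agent.S9758

open AlgebraicGeometry CategoryTheory Limits in
/-- A morphism of schemes f : X ⟶ S is flat and a local complete intersection morphism (Koszul at every
point) if and only if it is syntomic. -/
theorem result {X S : Scheme.{u}} (f : X ⟶ S) :
    (Flat f ∧ ∀ x : X, Synt.IsKoszulAt f x) ↔ Synt.IsSyntomicMor f := by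
  open Groth.Agent.Lib.T2H7.LCIMor Groth.Agent.Lib.T2H7.KRegN in
  rw [forall_isKoszulAt_iff_plci]
  constructor
  · rintro ⟨hflat, hlci⟩ x
    obtain ⟨_, ⟨V, hV, rfl⟩, hxV, -⟩ := S.isBasis_affineOpens.exists_subset_of_mem_open
      (Set.mem_univ (f x)) isOpen_univ
    obtain ⟨_, ⟨U, hU, rfl⟩, hxU, hUV⟩ := X.isBasis_affineOpens.exists_subset_of_mem_open
      (show x ∈ ((f ⁻¹ᵁ V : X.Opens) : Set X) from hxV) (f ⁻¹ᵁ V).isOpen
    refine ⟨⟨U, hU⟩, ⟨V, hV⟩, hUV, hxU, ?_⟩
    have h1 : RingHom.Flat (f.appLE V U hUV).hom :=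
      HasRingHomProperty.appLE (P := @Flat) f hflat ⟨V, hV⟩ ⟨U, hU⟩ hUV
    have h2 : Q (f.appLE V U hUV).hom :=
      HasRingHomProperty.appLE (P := Plci) f hlci ⟨V, hV⟩ ⟨U, hU⟩ hUV
    let _ := (f.appLE V U hUV).hom.toAlgebra
    exact Groth.Agent.Lib.T2H7.SyntH.isSyntomic_of_flat_of_isLCI _ h1 h2
  · intro h
    have key : ∀ x : X, ∃ (V : S.affineOpens) (U : X.affineOpens) (_ : x ∈ U.1)
        (e : U.1 ≤ f ⁻¹ᵁ V.1), RingHom.Flat (f.appLE V.1 U.1 e).hom ∧ Q (f.appLE V.1 U.1 e).hom := by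
      intro x
      obtain ⟨U, V, e, hxU, hsyn⟩ := h x
      refine ⟨V, U, hxU, e, ?_⟩
      let _ := (f.appLE V.1 U.1 e).hom.toAlgebra
      exact ⟨hsyn.1, Groth.Agent.Lib.T2H7.SyntG.isLCI_of_isSyntomic _ hsyn⟩
    constructor
    · rw [HasRingHomProperty.iff_exists_appLE (P := @Flat)
        (RingHom.Flat.stableUnderComposition.stableUnderCompositionWithLocalizationAway
          RingHom.Flat.holdsForLocalizationAway).left]
      intro x
      obtain ⟨V, U, hxU, e, h1, -⟩ := key x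
      exact ⟨V, U, hxU, e, h1⟩
    · rw [HasRingHomProperty.iff_exists_appLE (P := Plci)
        Q_stableUnderCompositionWithLocalizationAway.left]
      intro x
      obtain ⟨V, U, hxU, e, -, h2⟩ := key x
      exact ⟨V, U, hxU, e, h2⟩

end Groth.Agent.S9758
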