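import Groth.Statements.S8716
import Groth.Agent.Lib.T2H3ExactRigid
import Groth.Agent.Lib.T2H3ConstGrpHom

set_option autoImplicit false
universe u
open CategoryTheory CategoryTheory.Limits MonoidalCategory CartesianMonoidalCategory MonObj AlgebraicGeometry
open SGA7

namespace Groth.Agent.S8716

/-- Let k be a field, Z a commutative group without non-trivial elements of finite order, P a
commutative k-group scheme of finite type (so that its group of connected components is a finite,
hence torsion, group), G the constant k-group scheme Z_k (through the isomorphism eG), and u : G →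
E, v : E → P homomorphisms of commutative k-group schemes forming a sequence 1 → G → E → P → 1 exact
for the fppf topology. Then the extension is rigid: every automorphism of the k-group scheme E
compatible with u and v is the identity. (The published statement assumes only P locally of finite
type with torsion component group; this row takes P of finite type, the case it names.) -/
theorem result (k : Type u) [Field k]
    (Z : Type u) [CommGroup Z] (hZ : ∀ z : Z, IsOfFinOrder z → z = 1)
    (P E G : Over (Spec (CommRingCat.of k))) [GrpObj P] [GrpObj E] [GrpObj G]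
    [IsCommMonObj P] [IsCommMonObj E]
    [LocallyOfFiniteType P.hom] [QuasiCompact P.hom]
    (eG : G ≅ TwC.const (Spec (CommRingCat.of k)) Z) (hG : TwC.IsConstGrp Z G eG)
    (u : G ⟶ E) (v : E ⟶ P) (hex : NonAbH1.IsExactSeq Scheme.fppfPrecoverage u v)
    (φ : E ≅ E) [IsMonHom φ.hom] (hφu : u ≫ φ.hom = u) (hφv : φ.hom ≫ v = v) :
    φ.hom = 𝟙 E := by
  obtain ⟨hu0, hv0, huv, hpb, hloc⟩ := hex
  have hcov : Groth.Agent.Lib.T2H3.ExactDescent.IsCov Scheme.fppfTopology v :=
    Groth.Agent.Lib.T2H3.ExactDescent.isCov_of_isLocallyTrivialFor le_rfl v hloc
  have : CompactSpace P.left := by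
    have : QuasiCompact P.hom := inferInstance
    exact HasAffineProperty.iff_of_isAffine.mp this
  refine Groth.Agent.Lib.T2H3.ExactRigid.rigid huv hpb hcov ?_ φ.hom hφu hφv
  intro c hc
  exact Groth.Agent.Lib.T2H3.ConstGrpHom.hom_eq_one eG hG hZ c

end Groth.Agent.S8716
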