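import Groth.Statements.S8731
import Mathlib
import Groth.Agent.Lib.T2H6HypBridgeD
import Groth.Agent.Lib.Helper11FixOver

set_option autoImplicit false
universe u
open CategoryTheory CategoryTheory.Limits AlgebraicGeometry
open LefPen

namespace Groth.Agent.S8731

/-- (iv), the assertions on the structure sheaf: let k be an algebraically closed field, n >= 1, and Q a
quadratic form in n + 2 variables whose zero scheme X = V(Q) ⊂ P^{n+1}_k is smooth over k of
relative dimension n (a smooth quadric of dimension n). Then H^i(X, O_X) = 0 for every i >= 1, and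
the structure map identifies k with H^0(X, O_X). (The published item also computes H^1(X, O_X(1)),
the canonical sheaf and the Picard group, not stated here.) -/
theorem result (k : Type u) [Field k] [IsAlgClosed k] (n : ℕ) (hn : 1 ≤ n)
    (Q : LefPen.Form (n + 1) k 2)
    [SmoothOfRelativeDimension n ((LefPen.hypIdeal Q).subschemeι ≫ CohB1.ProjSpace.toSpec (n + 1) k)] :
    (∀ i : ℕ, 1 ≤ i → Subsingleton (Coh.HH (LefPen.hypIdeal Q).subscheme
        (Coh.structureModule (LefPen.hypIdeal Q).subscheme) i)) ∧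
      Function.Bijective ((LefPen.hypIdeal Q).subschemeι ≫ CohB1.ProjSpace.toSpec (n + 1) k).appTop.hom := by
  haveI : IsIntegral (CohB1.ProjSpace (n + 1) k) := inferInstance
  obtain hT := fun p : ℕ => Groth.Agent.Lib.T2H6.HypBridge.nonempty_HH_quotMod_linearEquiv k
    (LefPen.hypIdeal Q) p
  -- cohomology of `O` on projective space
  have hO : ∀ i : ℕ, 1 ≤ i → Subsingleton (Coh.HH (CohB1.ProjSpace (n + 1) k)
      (Coh.structureModule (CohB1.ProjSpace (n + 1) k)) i) := fun i hi =>
    Groth.Agent.Lib.T2H5.Chevalley.subsingleton_HH_of_iso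
      (Groth.Agent.Lib.T2H5.Twist.nonempty_twist_zero_iso (n + 1) k).some i
      (Groth.Agent.Lib.T2H5.PnVanish.subsingleton_HH_twist (n + 1) k 0 i (fun h => by omega)
        (fun h => by omega))
  haveI hiso1 : IsIso (CohB1.ProjSpace.toSpec (n + 1) k).appTop :=
    Groth.Agent.Lib.Helper27ProjGamma.isIso_toSpec_appTop (n + 1) k
  have hcomp : ((LefPen.hypIdeal Q).subschemeι ≫ CohB1.ProjSpace.toSpec (n + 1) k).appTop =
      (CohB1.ProjSpace.toSpec (n + 1) k).appTop ≫ (LefPen.hypIdeal Q).subschemeι.appTop :=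
    Scheme.Hom.comp_appTop _ _
  by_cases hQ : Q = 0
  · -- the whole projective space
    have hbot : LefPen.hypIdeal Q = ⊥ := by
      rw [hQ]; exact Groth.Agent.Lib.T2H6.HypBridge.hypIdeal_zero 2
    haveI hiso2 : IsIso (LefPen.hypIdeal Q).subschemeι :=
      (Scheme.isIso_subschemeι_iff_eq_bot _).mpr hbot
    have hz : IsZero (ClSub.idealMod (LefPen.hypIdeal Q)) := by
      have := Groth.Agent.Helper18UT.isZero_idealMod_of_isIso (LefPen.hypIdeal Q).subschemeι
      rwa [Scheme.IdealSheafData.ker_subschemeι] at this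
    refine ⟨fun i hi => ?_, ?_⟩
    · obtain ⟨e⟩ := hT i
      have h3 : Subsingleton (Coh.HH (CohB1.ProjSpace (n + 1) k)
          (ClSub.quotMod (LefPen.hypIdeal Q)) i) :=
        Groth.Agent.Lib.T2H5.HHSub.subsingleton_X₃
          (Groth.Agent.Lib.T2H6.AmpleCrit.idealSC (LefPen.hypIdeal Q))
          (Groth.Agent.Lib.T2H6.AmpleCrit.idealSC_shortExact _) i (hO i hi)
          (Groth.Agent.Lib.T2H5.Chevalley.subsingleton_HH_of_isZero hz (i + 1))
      exact e.symm.injective.subsingleton
    · rw [hcomp]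
      haveI : IsIso (LefPen.hypIdeal Q).subschemeι.appTop :=
        (inferInstance : IsIso ((LefPen.hypIdeal Q).subschemeι.app ⊤))
      exact ConcreteCategory.bijective_of_isIso _
  · obtain ⟨e⟩ := Groth.Agent.Lib.T2H6.HypBridge.nonempty_idealMod_hypIdeal_iso Q hQ
    -- `(O/I)(0) ≅ O/I`
    have hz : ∀ p : ℕ, Nonempty (Coh.HH (CohB1.ProjSpace (n + 1) k)
        (Groth.Agent.Lib.T2H6.HypCoh.twSC k (n + 1) (LefPen.hypIdeal Q) 0).X₃ p ≃ₗ[k]
        Coh.HH (CohB1.ProjSpace (n + 1) k) (ClSub.quotMod (LefPen.hypIdeal Q)) p) := fun p =>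
      ⟨Groth.Agent.Lib.T2H6.HHLin.HHequiv k
        ((Groth.Agent.Lib.T2H5.Twist.twZero (n + 1) k).app (ClSub.quotMod (LefPen.hypIdeal Q))) p⟩
    refine ⟨fun i hi => ?_, ?_, ?_⟩
    · obtain ⟨e1⟩ := hT i
      obtain ⟨e2⟩ := hz i
      suffices h : Subsingleton (Coh.HH (CohB1.ProjSpace (n + 1) k)
          (Groth.Agent.Lib.T2H6.HypCoh.twSC k (n + 1) (LefPen.hypIdeal Q) 0).X₃ i) from
        (e2.trans e1).symm.injective.subsingleton
      by_cases h1 : n + 1 ≤ i
      · exact Groth.Agent.Lib.T2H6.HypCoh.subsingleton_HH_quot_of_ge _ (2 : ℤ) e 0 i h1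
      by_cases h2 : i + 1 < n + 1
      · exact Groth.Agent.Lib.T2H6.HypCoh.subsingleton_HH_quot_mid _ (2 : ℤ) e 0 i hi h2
      have hin : i = n := by omega
      subst hin
      haveI := Groth.Agent.Lib.T2H6.HypCoh.finite_HH_X₃ (LefPen.hypIdeal Q) 0 i
      rw [← Module.finrank_zero_iff (R := k),
        Groth.Agent.Lib.T2H6.HypCoh.finrank_HH_quot_top _ (2 : ℤ) e 0 i hi rfl]
      have e3 : (-((0 : ℤ) - 2) - 1).toNat = 1 := by norm_num
      have e4 : (-(0 : ℤ) - 1).toNat = 0 := by norm_num
      rw [e3, e4, Nat.choose_eq_zero_of_lt (by omega), Nat.choose_eq_zero_of_lt (by omega)]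
    · -- injectivity
      have hne : Nonempty ↥(LefPen.hypIdeal Q).subscheme := by
        apply Groth.Agent.Lib.T2H6.HypBridge.nonempty_subscheme_of_not_subsingleton k
        intro hsub
        obtain ⟨e2⟩ := hz 0
        haveI : Subsingleton (Coh.HH (CohB1.ProjSpace (n + 1) k)
          (Groth.Agent.Lib.T2H6.HypCoh.twSC k (n + 1) (LefPen.hypIdeal Q) 0).X₃ 0) :=
          e2.injective.subsingleton
        have h0 := Groth.Agent.Lib.T2H6.HypCoh.finrank_HH_quot_zero (LefPen.hypIdeal Q) (2 : ℤ) e 0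
          (by omega : 2 ≤ n + 1)
        rw [Module.finrank_zero_of_subsingleton] at h0
        have e5 : ((0 : ℤ) + ((n + 1 : ℕ) : ℤ)).toNat = n + 1 := by
          rw [zero_add]; exact Int.toNat_natCast _
        have e6 : ((0 : ℤ) - 2 + ((n + 1 : ℕ) : ℤ)).toNat < n + 1 := by omega
        rw [e5, Nat.choose_self, Nat.choose_eq_zero_of_lt e6] at h0
        omega
      haveI : Nonempty ↥(⊤ : (LefPen.hypIdeal Q).subscheme.Opens) :=
        ⟨⟨Classical.arbitrary _, trivial⟩⟩
      haveI : Nontrivial Γ((LefPen.hypIdeal Q).subscheme, ⊤) := inferInstance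
      letI : Field Γ(Spec (CommRingCat.of k), ⊤) :=
        (Groth.Agent.Lib.Helper11FixOver.isField_Γ_Spec k).toField
      exact RingHom.injective _
    · -- surjectivity
      rw [hcomp]
      have hs2 : Function.Surjective (LefPen.hypIdeal Q).subschemeι.appTop.hom :=
        Groth.Agent.Lib.T2H6.HypBridge.surjective_subschemeι_appTop k _
          (Groth.Agent.Lib.T2H5.Chevalley.subsingleton_HH_of_iso e.symm 1
            (Groth.Agent.Lib.T2H5.PnVanish.subsingleton_HH_twist (n + 1) k (-(2 : ℤ)) 1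
              (fun h => by omega) (fun h => by omega)))
      have hs1 : Function.Surjective (CohB1.ProjSpace.toSpec (n + 1) k).appTop.hom :=
        (ConcreteCategory.bijective_of_isIso (CohB1.ProjSpace.toSpec (n + 1) k).appTop).2
      exact hs2.comp hs1

end Groth.Agent.S8731
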