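import Groth.Statements.S8738
import Groth.Agent.Lib.T2H2SeidenbergB

set_option autoImplicit false
universe u
open SGA7II

namespace Groth.Agent.S8738

/-- Let k be a field of characteristic zero and A a reduced Noetherian local k-algebra of Krull
dimension one, essentially of finite type over k (the local ring of a reduced curve over k at one of
its points), and let A' be the integral closure of A in its total ring of fractions (the
normalization). Then every k-derivation D of A extends to a k-derivation D' of A', i.e. D' agrees
with D on the image of A. -/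
theorem result (k : Type u) [Field k] [CharZero k] (A : Type u) [CommRing A]
    [Algebra k A] [IsReduced A] [IsNoetherianRing A] [IsLocalRing A] [Algebra.EssFiniteType k A]
    (hdim : ringKrullDim A = 1) (D : Derivation k A A) :
    ∃ D' : Derivation k ↥(integralClosure A (FractionRing A)) ↥(integralClosure A (FractionRing A)),
      ∀ a : A, (D' (algebraMap A ↥(integralClosure A (FractionRing A)) a) : FractionRing A) =
        algebraMap A (FractionRing A) (D a) := by
  classical
  have hFE : Algebra.FormallyEtale A (FractionRing A) :=
    Algebra.FormallyEtale.of_isLocalization (nonZeroDivisors A)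
  let DQ : Derivation k (FractionRing A) (FractionRing A) :=
    Groth.Agent.Lib.T2H2.Seidenberg.extendDer k A (FractionRing A) D
  have hDQ : ∀ a, DQ (algebraMap A (FractionRing A) a) = algebraMap A (FractionRing A) (D a) :=
    Groth.Agent.Lib.T2H2.Seidenberg.extendDer_algebraMap k A (FractionRing A) D
  have hmem : ∀ x ∈ integralClosure A (FractionRing A),
      DQ x ∈ integralClosure A (FractionRing A) := by
    intro x hx
    have hfg : (Subalgebra.toSubmodule (Algebra.adjoin A {x})).FG :=
      IsIntegral.fg_adjoin_singleton hx
    obtain ⟨s, hs, hI⟩ := FractionalIdeal.isFractional_of_fg (S := nonZeroDivisors A) hfg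
    refine Groth.Agent.Lib.T2H2.Seidenberg.isIntegral_der D DQ hDQ x s
      (IsLocalization.map_units _ ⟨s, hs⟩) ?_
    intro i
    have hxi : x ^ i ∈ Algebra.adjoin A {x} := pow_mem (Algebra.subset_adjoin (Set.mem_singleton x)) i
    obtain ⟨a, ha⟩ := hI (x ^ i) hxi
    exact ⟨a, by rw [ha, Algebra.smul_def]⟩
  let L : ↥(integralClosure A (FractionRing A)) →ₗ[k] ↥(integralClosure A (FractionRing A)) :=
    { toFun := fun y => ⟨DQ y.1, hmem y.1 y.2⟩
      map_add' := fun y z => Subtype.ext (map_add DQ y.1 z.1)
      map_smul' := fun r y => Subtype.ext (DQ.map_smul r y.1) }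
  refine ⟨Derivation.mk' L ?_, ?_⟩
  · intro a b
    apply Subtype.ext
    change DQ (a.1 * b.1) = a.1 * DQ b.1 + b.1 * DQ a.1
    rw [Derivation.leibniz, smul_eq_mul, smul_eq_mul]
  · intro a
    exact hDQ a

end Groth.Agent.S8738
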