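import Groth.Statements.S8740
import Groth.Agent.Lib.T2H8AdeqFlat
import Groth.Agent.Lib.Helper13AdeqD

set_option autoImplicit false
universe u
open CategoryTheory Limits
open Adeq

namespace Groth.Agent.S8740

/-- For an adequate functor `F` on `A`-algebras and a flat map of `A`-algebras `f : B → B'`, the
canonical map `B' ⊗_B F(B) → F(B')` is an isomorphism. -/
theorem result (A : Type u) [CommRing A] (F : Adeq.MVF A) (hF : Adeq.adequate A F)
    {B B' : Adeq.Alg A} (f : B ⟶ B') (hf : f.hom.toRingHom.Flat) : IsIso (F.bc f) := by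
  obtain ⟨M, N, φ, i, hinj, hex⟩ := (Groth.Agent.Helper13Adeq.adequate_iff F).1 hF
  letI : Algebra B B' := f.hom.toRingHom.toAlgebra
  haveI : IsScalarTower A B B' := IsScalarTower.of_algebraMap_eq (fun a => (f.hom.commutes a).symm)
  haveI : Module.Flat B B' := hf
  letI : Module B (F.obj (pt B')) := Module.compHom _ f.hom.toRingHom
  haveI : IsScalarTower B B' (F.obj (pt B')) := ⟨fun b b' x => by
    show (f.hom b * b') • x = f.hom b • (b' • x)
    rw [mul_smul]⟩
  let σ : F.obj (pt B) →ₗ[B] F.obj (pt B') :=
    { toFun := fun x => Groth.Agent.Helper13Adeq.mapEl F f x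
      map_add' := Groth.Agent.Helper13Adeq.mapEl_add F f
      map_smul' := fun b x => Groth.Agent.Helper13Adeq.mapEl_smul F f b x }
  have hbij := Groth.Agent.Lib.T2H8.AdeqFlat.bijective_liftBaseChange_of_exact φ.hom
    (i.app (pt B)).hom (hinj B) (hex B) (i.app (pt B')).hom (hinj B') (hex B') σ (fun v => by
      show i.app (pt B') (Groth.Agent.Helper13Adeq.mapEl F f v) = _
      rw [Groth.Agent.Helper13Adeq.app_mapEl, Groth.Agent.Helper13Adeq.underline_mapEl]
      rfl)
  rw [ConcreteCategory.isIso_iff_bijective]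
  have heq : ∀ w, (F.bc f) w = σ.liftBaseChange B' w := by
    intro w
    induction w using TensorProduct.induction_on with
    | zero => exact (map_zero (F.bc f).hom).trans (map_zero (σ.liftBaseChange B')).symm
    | tmul b' x =>
      have h1 : (LinearMap.liftBaseChange (↑B') σ) ((b' : B') ⊗ₜ[↑B] x) = (b' : B') • σ x :=
        LinearMap.liftBaseChange_tmul _ _ _ _
      refine Eq.trans ?_ h1.symm
      rfl
    | add x y hx hy =>
      exact (map_add (F.bc f).hom x y).trans ((congrArg₂ (· + ·) hx hy).trans
        (map_add (σ.liftBaseChange B') x y).symm)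
  constructor
  · intro w w' h
    apply hbij.1
    rw [← heq, ← heq]
    exact h
  · intro v
    obtain ⟨w, hw⟩ := hbij.2 v
    exact ⟨w, (heq w).trans hw⟩

end Groth.Agent.S8740
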