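import Groth.Statements.S8757
import Groth.Agent.Lib.T2H8AdeqSheafP
import Groth.Agent.S8755

set_option autoImplicit false
universe u
open CategoryTheory Limits AlgebraicGeometry
open Adeq

namespace Groth.Agent.S8757

/-- The pullback `f^* M` of an adequate `O`-module `M` on the big fppf site of `S` along a morphism of
schemes `f : T → S` is an adequate `O`-module on the big fppf site of `T`. -/
theorem result {S T : Scheme.{u}} (f : T ⟶ S) (M : BigSite.Mod Scheme.fppfPrecoverage S)
    (hM : Adeq.adequateMod Scheme.fppfPrecoverage S M) :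
    Adeq.adequateMod Scheme.fppfPrecoverage T ((BigSite.pullMod Scheme.fppfPrecoverage f).obj M) := by
  have : BigSite.OSh (Scheme.precoverage (@Flat ⊓ @LocallyOfFinitePresentation)) :=
    inferInstanceAs (BigSite.OSh Scheme.fppfPrecoverage)
  exact Groth.Agent.Lib.T2H8.AdeqSheaf.adequateMod_of_charts (@Flat ⊓ @LocallyOfFinitePresentation)
    (fun f _ => ⟨inferInstance, inferInstance⟩) T _
    (fun R b => (Groth.Agent.Lib.T2H8.AdeqSheaf.adequate_pull_iff _ f M b).2
      (Groth.Agent.S8755.result S M hM R (b ≫ f)))

end Groth.Agent.S8757
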