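import Groth.Statements.S8762
import Groth.Agent.Lib.T2H8AdeqSheafColim
import Groth.Agent.S8755

set_option autoImplicit false
universe u
open CategoryTheory Limits AlgebraicGeometry
open Adeq

namespace Groth.Agent.S8762

/-- The cokernel, in the category of all `O`-modules on the big fppf site of `S`, of a morphism between
adequate `O`-modules is adequate. -/
theorem result (S : Scheme.{u}) {M N : BigSite.Mod Scheme.fppfPrecoverage S} (φ : M ⟶ N)
    (hM : Adeq.adequateMod Scheme.fppfPrecoverage S M) (hN : Adeq.adequateMod Scheme.fppfPrecoverage S N) :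
    Adeq.adequateMod Scheme.fppfPrecoverage S (cokernel φ) := by
  have : BigSite.OSh (Scheme.precoverage (@Flat ⊓ @LocallyOfFinitePresentation)) :=
    inferInstanceAs (BigSite.OSh Scheme.fppfPrecoverage)
  exact Groth.Agent.Lib.T2H8.AdeqSheaf.adequateMod_cokernel (@Flat ⊓ @LocallyOfFinitePresentation)
    (fun f hf => by
      obtain ⟨_, _⟩ := hf
      exact f.isOpenMap)
    (fun f _ => ⟨inferInstance, inferInstance⟩)
    (fun f hf => hf.1) φ
    (fun R a => Groth.Agent.S8755.result S M hM R a)
    (fun R a => Groth.Agent.S8755.result S N hN R a)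

end Groth.Agent.S8762
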