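import Groth.Statements.S8764
import Groth.Agent.Lib.T2H8AdeqSheafColim
import Groth.Agent.S8755

set_option autoImplicit false
universe u
open CategoryTheory Limits AlgebraicGeometry
open Adeq

namespace Groth.Agent.S8764

/-- The category of adequate `O`-modules on the big fppf site of `S` has colimits and they agree with
colimits of `O`-modules: the colimit, in all `O`-modules, of a diagram of adequate modules is
adequate. -/
theorem result (S : Scheme.{u}) {J : Type (u + 1)} [SmallCategory J]
    (D : J ⥤ BigSite.Mod Scheme.fppfPrecoverage S) (hD : ∀ j, Adeq.adequateMod Scheme.fppfPrecoverage S (D.obj j)) :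
    Adeq.adequateMod Scheme.fppfPrecoverage S (colimit D) := by
  have : BigSite.OSh (Scheme.precoverage (@Flat ⊓ @LocallyOfFinitePresentation)) :=
    inferInstanceAs (BigSite.OSh Scheme.fppfPrecoverage)
  exact Groth.Agent.Lib.T2H8.AdeqSheaf.adequateMod_colimit (@Flat ⊓ @LocallyOfFinitePresentation)
    (fun f hf => by
      obtain ⟨_, _⟩ := hf
      exact f.isOpenMap)
    (fun f _ => ⟨inferInstance, inferInstance⟩)
    (fun f hf => hf.1) D
    (fun j R a => Groth.Agent.S8755.result S (D.obj j) (hD j) R a)

end Groth.Agent.S8764
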