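import Groth.Statements.S8767
import Groth.Agent.Lib.T2H8AdeqParasitic2

set_option autoImplicit false
universe u
open CategoryTheory Limits AlgebraicGeometry
open Adeq

namespace Groth.Agent.S8767

/-- For an adequate `O`-module `M` on the big fppf site of `S` the following are equivalent: `M` is
parasitic; `M` is parasitic for the fppf topology; `M(U) = 0` for every open `U ⊂ S`; `M(U_i) = 0`
for the members of some affine open covering `S = ⋃ U_i`. (The published statement has a fifth
equivalent condition, the vanishing of the quasi-coherent module obtained by restriction to the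
small Zariski site; it is not included here.) -/
theorem result (S : Scheme.{u}) (M : BigSite.Mod Scheme.fppfPrecoverage S)
    (hM : Adeq.adequateMod Scheme.fppfPrecoverage S M) :
    List.TFAE [Adeq.parasitic Scheme.fppfPrecoverage S M, Adeq.parasiticFor Scheme.fppfPrecoverage S M,
      ∀ U : S.Opens, Subsingleton (BigSite.sectMod Scheme.fppfPrecoverage M ((BigSite.zarIncl S).obj U)),
      ∃ (ι : Type u) (U : ι → S.Opens), (∀ i, IsAffineOpen (U i)) ∧ (⨆ i, U i) = ⊤ ∧
        ∀ i, Subsingleton (BigSite.sectMod Scheme.fppfPrecoverage M ((BigSite.zarIncl S).obj (U i)))] := by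
  have : BigSite.OSh (Scheme.precoverage (@Flat ⊓ @LocallyOfFinitePresentation)) :=
    inferInstanceAs (BigSite.OSh Scheme.fppfPrecoverage)
  tfae_have 1 → 2 := by
    intro h Pv hPv V g hg
    apply h (Over.mk g)
    have hPv' : Pv ∈ Scheme.precoverage (@Flat ⊓ @LocallyOfFinitePresentation) S := hPv
    exact (hPv'.2 hg).1
  tfae_have 2 → 3 := by
    intro h U
    let X : Unit ⊕ Unit → Scheme.{u} := Sum.elim (fun _ => (U : Scheme.{u})) (fun _ => S)
    let f : ∀ i, X i ⟶ S := fun i =>
      Sum.rec (motive := fun i => X i ⟶ S) (fun _ => U.ι) (fun _ => 𝟙 S) i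
    have hmem : Presieve.ofArrows X f ∈ Scheme.fppfPrecoverage.coverings S := by
      change Presieve.ofArrows X f ∈ Scheme.precoverage (@Flat ⊓ @LocallyOfFinitePresentation) S
      rw [Scheme.ofArrows_mem_precoverage_iff]
      refine ⟨fun x => ⟨Sum.inr (), x, rfl⟩, fun i => ?_⟩
      rcases i with i | i
      · exact ⟨inferInstanceAs (Flat U.ι), inferInstanceAs (LocallyOfFinitePresentation U.ι)⟩
      · exact ⟨inferInstanceAs (Flat (𝟙 S)), inferInstanceAs (LocallyOfFinitePresentation (𝟙 S))⟩
    exact h hmem (f (Sum.inl ())) (Presieve.ofArrows.mk (Sum.inl ()))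
  tfae_have 3 → 4 := by
    intro h
    exact ⟨S.affineOpens, fun i => i.1, fun i => i.2, iSup_affineOpens_eq_top S, fun i => h i.1⟩
  tfae_have 4 → 1 := by
    rintro ⟨ι, U, hU, hcov, h0⟩
    exact Groth.Agent.Lib.T2H8.AdeqSheaf.parasitic_of_affine_cover
      (@Flat ⊓ @LocallyOfFinitePresentation)
      (fun f hf => by
        obtain ⟨_, _⟩ := hf
        exact f.isOpenMap)
      (fun f _ => ⟨inferInstance, inferInstance⟩) M hM U hU hcov h0
  tfae_finish

end Groth.Agent.S8767
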