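import Groth.Statements.S8780
import Groth.Agent.Lib.T2H8AdeqTF2
import Groth.Agent.Lib.T2H8InjSurj

set_option autoImplicit false
universe u
open CategoryTheory Limits
open AdeqTF

namespace Groth.Agent.S8780

/-- Take `I` injective in the category of module-valued functors on `A`-algebras. For every `A`-algebra
`B` and every short exact sequence `0 → N₁ → N → N₂ → 0` of `B`-modules, the induced map of tangent
modules `TI(B, N) → TI(B, N₂)` is surjective (`TI(B, N)` is the kernel of `I(B[N]) → I(B)`, `B[N]`
the trivial square-zero extension). (The published statement asserts that `TI(B, N₁) → TI(B, N) →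
TI(B, N₂) → 0` is exact; exactness at the middle term is false: for `A = B = ℚ`, the split sequence
`0 → ℚ → ℚ² → ℚ → 0` and the injective functor `D ↦ Map(Hom(D, ℚ[ε]/(ε²)), E)` with `E` an injective
hull of `ℚ[ε]/(ε²)`, the indicator function of the first coordinate form lies in the kernel of
`TI(B, ℚ²) → TI(B, ℚ)` and not in the image of `TI(B, ℚ) → TI(B, ℚ²)`. This row keeps the
surjectivity, which the published argument does establish.) -/
theorem result (A : Type u) [CommRing A] (I : Adeq.MVF A) [Injective I]
    (B : Adeq.Alg A) (S : ShortComplex (ModuleCat.{u} B)) (hS : S.ShortExact) :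
    Function.Surjective (AdeqTF.tangentMap B I S.g) := by
  classical
  have hg : Function.Surjective S.g := (ModuleCat.epi_iff_surjective S.g).1 hS.epi_g
  have hπ : Function.Surjective (AdeqTF.map B S.g) :=
    Groth.Agent.Lib.T2H8.AdTF.map_surjective B S.g hg
  have : Epi (AdeqTF.map B S.g) := ConcreteCategory.epi_of_surjective _ hπ
  have hsurj : Function.Surjective (I.map (Adeq.ptHom (AdeqTF.map B S.g))) :=
    Groth.Agent.Lib.T2H8.InjSurj.map_surjective_of_injective (C₀ := (Adeq.Alg A)ᵒᵖ) (Adeq.ringOf A) I
      (AdeqTF.map B S.g).op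
  intro z
  obtain ⟨y, hy⟩ := hsurj z.1
  have hz : Groth.Agent.Helper13Adeq.mapEl I (AdeqTF.fst B S.X₃) z.1 = 0 := z.2
  have hy' : Groth.Agent.Helper13Adeq.mapEl I (AdeqTF.map B S.g) y = z.1 := hy
  have h0 : Groth.Agent.Helper13Adeq.mapEl I (AdeqTF.fst B S.X₂) y = 0 := by
    rw [← AdeqTF.map_fst B S.g, Groth.Agent.Helper13Adeq.mapEl_comp, hy', hz]
  refine ⟨⟨y, h0⟩, Subtype.ext ?_⟩
  exact hy

end Groth.Agent.S8780
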