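import Groth.Statements.S8783
import Groth.Agent.Lib.T2H8AdeqTF

set_option autoImplicit false
universe u
open CategoryTheory Limits
open AdeqTF

namespace Groth.Agent.S8783

/-- Let `F` be a module-valued functor on `A`-algebras with right exact tangent functors (for every
`A`-algebra `B` and short exact `0 → N₁ → N → N₂ → 0` of `B`-modules, `TF(B, N₁) → TF(B, N) → TF(B,
N₂) → 0` is exact). Then `TF(B, N₁ ⊕ N₂) = TF(B, N₁) ⊕ TF(B, N₂)`: the map from the product induced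
by the two inclusions is bijective. -/
theorem result (A : Type u) [CommRing A] (F : Adeq.MVF A)
    (hF : (∀ (B : Adeq.Alg A) (S : ShortComplex (ModuleCat.{u} B)), S.ShortExact →
        Function.Surjective (AdeqTF.tangentMap B F S.g) ∧
          (AdeqTF.tangentMap B F S.g).ker = (AdeqTF.tangentMap B F S.f).range))
    (B : Adeq.Alg A) (N₁ N₂ : ModuleCat.{u} B) :
    Function.Bijective ((AdeqTF.tangentMap B F (biprod.inl : N₁ ⟶ N₁ ⊞ N₂)).coprod
      (AdeqTF.tangentMap B F (biprod.inr : N₂ ⟶ N₁ ⊞ N₂))) := by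
  classical
  have hS := (ShortComplex.Splitting.ofHasBinaryBiproduct N₁ N₂).shortExact
  obtain ⟨-, hker⟩ := hF B _ hS
  have hker' : ∀ z : AdeqTF.tangent B (N₁ ⊞ N₂) F,
      AdeqTF.tangentMap B F (biprod.snd : N₁ ⊞ N₂ ⟶ N₂) z = 0 →
        ∃ x, AdeqTF.tangentMap B F (biprod.inl : N₁ ⟶ N₁ ⊞ N₂) x = z := by
    intro z hz
    have : z ∈ (AdeqTF.tangentMap B F (biprod.snd : N₁ ⊞ N₂ ⟶ N₂)).ker := hz
    rw [show (AdeqTF.tangentMap B F (biprod.snd : N₁ ⊞ N₂ ⟶ N₂)).ker =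
      (AdeqTF.tangentMap B F (biprod.inl : N₁ ⟶ N₁ ⊞ N₂)).range from hker] at this
    exact this
  have h11 : ∀ x, AdeqTF.tangentMap B F (biprod.fst : N₁ ⊞ N₂ ⟶ N₁)
      (AdeqTF.tangentMap B F (biprod.inl : N₁ ⟶ N₁ ⊞ N₂) x) = x := by
    intro x
    rw [← Groth.Agent.Lib.T2H8.AdTF.tangentMap_comp, biprod.inl_fst,
      Groth.Agent.Lib.T2H8.AdTF.tangentMap_id]
  have h22 : ∀ x, AdeqTF.tangentMap B F (biprod.snd : N₁ ⊞ N₂ ⟶ N₂)
      (AdeqTF.tangentMap B F (biprod.inr : N₂ ⟶ N₁ ⊞ N₂) x) = x := by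
    intro x
    rw [← Groth.Agent.Lib.T2H8.AdTF.tangentMap_comp, biprod.inr_snd,
      Groth.Agent.Lib.T2H8.AdTF.tangentMap_id]
  have h12 : ∀ x, AdeqTF.tangentMap B F (biprod.snd : N₁ ⊞ N₂ ⟶ N₂)
      (AdeqTF.tangentMap B F (biprod.inl : N₁ ⟶ N₁ ⊞ N₂) x) = 0 := by
    intro x
    rw [← Groth.Agent.Lib.T2H8.AdTF.tangentMap_comp, biprod.inl_snd,
      Groth.Agent.Lib.T2H8.AdTF.tangentMap_zero]
  constructor
  · rw [injective_iff_map_eq_zero]
    rintro ⟨x, y⟩ hxy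
    rw [AddMonoidHom.coprod_apply] at hxy
    have hy : y = 0 := by
      have := congrArg (AdeqTF.tangentMap B F (biprod.snd : N₁ ⊞ N₂ ⟶ N₂)) hxy
      rw [map_add, h12, h22, zero_add, map_zero] at this
      exact this
    subst hy
    rw [map_zero, add_zero] at hxy
    have hx : x = 0 := by
      have := congrArg (AdeqTF.tangentMap B F (biprod.fst : N₁ ⊞ N₂ ⟶ N₁)) hxy
      rw [h11, map_zero] at this
      exact this
    subst hx
    rfl
  · intro z
    set y := AdeqTF.tangentMap B F (biprod.snd : N₁ ⊞ N₂ ⟶ N₂) z with hy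
    obtain ⟨x, hx⟩ := hker' (z - AdeqTF.tangentMap B F (biprod.inr : N₂ ⟶ N₁ ⊞ N₂) y) (by
      rw [map_sub, h22, sub_self])
    refine ⟨(x, y), ?_⟩
    rw [AddMonoidHom.coprod_apply]
    show AdeqTF.tangentMap B F biprod.inl x + AdeqTF.tangentMap B F biprod.inr y = z
    rw [hx, sub_add_cancel]

end Groth.Agent.S8783
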