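import Groth.Statements.S8823
import Groth.Agent.Lib.T2H8ApproxHz

set_option autoImplicit false
universe u
open AdicRing

namespace Groth.Agent.S8823

/-- Let A be a Noetherian G-ring and I an ideal of A. Let B and C be A-algebras of finite type, φ an
A-algebra map from the IB-adic completion of B to the IC-adic completion of C, and N ≥ 1. Then one
can find an etale C-algebra C' for which the induced map C/IC → C'/IC' is a bijection, together with
a homomorphism of A-algebras ψ : B → C' that approximates φ to order N: given any b ∈ B, some c ∈ C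
satisfies ψ(b) − c ∈ I^N C', while the image of φ(b) in C/I^N C (the N-th truncation of the
completion) coincides with the class of c. -/
theorem result (A : Type u) [CommRing A] (hA : CAlg.IsGRing A) (I : Ideal A) (B C : Type u) [CommRing B] [Algebra A B] [Algebra.FiniteType A B] [CommRing C] [Algebra A C] [Algebra.FiniteType A C] (φ : (AdicCompletion (I.map (algebraMap A B)) B) →ₐ[A] (AdicCompletion (I.map (algebraMap A C)) C)) (N : ℕ) (hN : 1 ≤ N) : ∃ (C' : Type u) (_ : CommRing C') (_ : Algebra C C') (_ : Algebra A C') (_ : IsScalarTower A C C') (_ : Algebra.Etale C C') (ψ : B →ₐ[A] C'), ((∀ c' : C', ∃ c : C, algebraMap C C' c - c' ∈ I.map (algebraMap A C')) ∧ ∀ c : C, algebraMap C C' c ∈ I.map (algebraMap A C') → c ∈ I.map (algebraMap A C)) ∧ ∀ b : B, ∃ c : C, ψ b - algebraMap C C' c ∈ (I.map (algebraMap A C')) ^ N ∧ AdicCompletion.eval (I.map (algebraMap A C)) C N (φ (AdicCompletion.of (I.map (algebraMap A B)) B b)) = Submodule.Quotient.mk c := by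
  classical
  haveI := hA.1
  have hGC : CAlg.IsGRing C := Groth.Agent.Lib.Helper7.PolyGRing2.isGRing_of_finiteType A hA C
  haveI : Algebra.FinitePresentation A B :=
    Algebra.FinitePresentation.of_finiteType.mp inferInstance
  obtain ⟨J, hJ⟩ : ∃ J : Ideal C, J = I.map (algebraMap A C) := ⟨_, rfl⟩
  subst hJ
  -- the map from `B`
  let ofB : B →ₐ[A] AdicCompletion (I.map (algebraMap A B)) B :=
    (Algebra.ofId B (AdicCompletion (I.map (algebraMap A B)) B)).restrictScalars A
  let f₀ : B →ₐ[A] AdicCompletion (I.map (algebraMap A C)) C := φ.comp ofB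
  let f : TensorProduct A C B →ₐ[C] AdicCompletion (I.map (algebraMap A C)) C :=
    Algebra.TensorProduct.lift (Algebra.ofId C _) f₀ (fun _ _ => Commute.all _ _)
  obtain ⟨i, ρ, hρ⟩ := Groth.Agent.Lib.T2H8.ApproxHz.approx_nbhd C hGC (I.map (algebraMap A C))
    (TensorProduct A C B) f N (Nat.one_le_iff_ne_zero.mp hN)
  letI algAi : Algebra A i.C := ((algebraMap C i.C).comp (algebraMap A C)).toAlgebra
  haveI towAi : IsScalarTower A C i.C := IsScalarTower.of_algebraMap_eq (fun _ => rfl)
  have hmap : (I.map (algebraMap A C)).map (algebraMap C i.C) = I.map (algebraMap A i.C) :=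
    Groth.Agent.Lib.Helper26.PairHz.map_map_tower I
  let ψ : B →ₐ[A] i.C := (ρ.restrictScalars A).comp Algebra.TensorProduct.includeRight
  refine ⟨i.C, inferInstance, inferInstance, algAi, towAi, inferInstance, ψ, ⟨?_, ?_⟩, ?_⟩
  · intro c'
    obtain ⟨c, hc⟩ := i.isNbhd.surj c'
    refine ⟨c, ?_⟩
    rw [hmap] at hc
    have h1 : algebraMap C i.C c - c' = -(c' - algebraMap C i.C c) := by ring
    rw [h1]
    exact Ideal.neg_mem_iff _ |>.mpr hc
  · intro c hc
    rw [← hmap] at hc
    exact i.isNbhd.inj c hc
  · intro b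
    obtain ⟨c, hc⟩ := Ideal.Quotient.mk_surjective
      (AdicCompletion.evalₐ (I.map (algebraMap A C)) N
        (φ (AdicCompletion.of (I.map (algebraMap A B)) B b)))
    refine ⟨c, ?_, ?_⟩
    · rw [← hmap]
      have h1 : f (TensorProduct.tmul A (1 : C) b) = φ (AdicCompletion.of (I.map (algebraMap A B)) B b) := by
        show Algebra.TensorProduct.lift (Algebra.ofId C _) f₀ (fun _ _ => Commute.all _ _)
          (TensorProduct.tmul A (1 : C) b) = _
        rw [Algebra.TensorProduct.lift_tmul, map_one, one_mul]
        rfl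
      exact hρ (TensorProduct.tmul A (1 : C) b) c (by rw [h1]; exact hc.symm)
    · rw [← AdicCompletion.factor_evalₐ_eq_eval _ _ (le_of_eq (Ideal.mul_top _).symm), ← hc]
      rfl

end Groth.Agent.S8823
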