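import Groth.Statements.S8825
import Groth.Agent.Lib.Helper14RigClosed
import Groth.Agent.Lib.Helper7RegComp
import Groth.Agent.Lib.Helper7PsGRing

set_option autoImplicit false
universe u
open AdicRing

namespace Groth.Agent.S8825

/-- Let A be a Noetherian ring which is complete for the adic topology of an ideal I, let p be a
rig-closed prime of A (I ⊄ p and p is maximal among the primes not containing I), and let n ≥ 1.
Then the ring map from A/p to the restricted power series ring (A/p){x_1, …, x_n}, i.e. the I-adic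
completion of the polynomial ring (A/p)[x_1, …, x_n], is a regular ring map (flat, with Noetherian
and geometrically regular fibres). (The consequence for the fibre over the fraction field is not
stated.) -/
theorem result (A : Type u) [CommRing A] [IsNoetherianRing A] (I : Ideal A) [IsAdicComplete I A] (p : PrimeSpectrum A) (hp : ¬ I ≤ p.asIdeal ∧ ∀ q : PrimeSpectrum A, p ≤ q → ¬ I ≤ q.asIdeal → q = p) (n : ℕ) (hn : 1 ≤ n) : CAlg.IsRegularHom (A ⧸ p.asIdeal) (AdicCompletion (I.map (algebraMap A (MvPolynomial (Fin n) (A ⧸ p.asIdeal)))) (MvPolynomial (Fin n) (A ⧸ p.asIdeal))) := by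
  classical
  have h5 := Groth.Agent.Lib.Helper14.RigClosed.one_to_five A I p hp
  obtain ⟨hdim, hmax, hcpl⟩ := Groth.Agent.Lib.Helper14.RigClosed.five_to_eight A I p h5
  haveI : IsLocalRing (A ⧸ p.asIdeal) := by
    obtain ⟨m, hm⟩ := Ideal.exists_maximal (A ⧸ p.asIdeal)
    exact IsLocalRing.of_unique_max_ideal ⟨m, hm, fun m' hm' => (hmax m' hm').trans (hmax m hm).symm⟩
  have hmeq : IsLocalRing.maximalIdeal (A ⧸ p.asIdeal) =
      (I.map (Ideal.Quotient.mk p.asIdeal)).radical :=
    hmax _ (IsLocalRing.maximalIdeal.isMaximal _)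
  haveI : IsAdicComplete (IsLocalRing.maximalIdeal (A ⧸ p.asIdeal)) (A ⧸ p.asIdeal) := by
    rw [hmeq]; exact hcpl
  have hD : CAlg.IsGRing (A ⧸ p.asIdeal) :=
    Groth.Agent.Lib.Helper7.PsGRing.isGRing_of_isAdicComplete_local (A ⧸ p.asIdeal)
  have hB : CAlg.IsGRing (MvPolynomial (Fin n) (A ⧸ p.asIdeal)) :=
    Groth.Agent.Lib.Helper7.PolyGRing2.isGRing_mvPolynomial_fin (A ⧸ p.asIdeal) hD n
  haveI := hB.1
  haveI : Algebra.Smooth (A ⧸ p.asIdeal) (MvPolynomial (Fin n) (A ⧸ p.asIdeal)) :=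
    ⟨inferInstance, inferInstance⟩
  have h1 : CAlg.IsRegularHom (A ⧸ p.asIdeal) (MvPolynomial (Fin n) (A ⧸ p.asIdeal)) :=
    Groth.Agent.Lib.Helper6.SmRegHom.isRegularHom_of_smooth (A ⧸ p.asIdeal) _
  have h2 := Groth.Agent.S0600.result (MvPolynomial (Fin n) (A ⧸ p.asIdeal)) hB
    (I.map (algebraMap A (MvPolynomial (Fin n) (A ⧸ p.asIdeal))))
  haveI : IsNoetherianRing (AdicCompletion (I.map (algebraMap A (MvPolynomial (Fin n) (A ⧸ p.asIdeal))))
      (MvPolynomial (Fin n) (A ⧸ p.asIdeal))) :=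
    Groth.Agent.Lib.Helper19.isNoetherianRing_adicCompletion _
  exact Groth.Agent.Lib.Helper7.RegComp.isRegularHom_comp (A ⧸ p.asIdeal)
    (MvPolynomial (Fin n) (A ⧸ p.asIdeal)) _ h1 h2

end Groth.Agent.S8825
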