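import Groth.Statements.S8833
import Groth.Agent.Lib.T2H3PolyMapC

set_option autoImplicit false
set_option linter.style.haveILetI false
universe u
open scoped BigOperators TensorProduct
open LocCoh

namespace Groth.Agent.S8833

/-- Let A be a Noetherian ring, f_1, …, f_r ∈ A and I = (f_1, …, f_r) with cd(A, I) = 1; let c ≥ 1 and
φ_j : I^c → A be A-linear maps with x = Σ_j f_j φ_j(x) for all x ∈ I^c. Let B be a Noetherian
A-algebra and N a finite B-module. Then there is c' ≥ c with the following property. Write φ_j again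
for the restrictions of the φ_j to I^{c'} and let Φ be a graded A-algebra homomorphism from ⊕_{n ≥
0} I^{nc'} to A[T_1, …, T_r] with Φ(g) = Σ_j φ_j(g) T_j for g ∈ I^{c'} (there is exactly one; it is
encoded by functions Φ_n : A → A[T_1, …, T_r] whose values on I^{nc'} are additive, A-homogeneous,
homogeneous of degree n and multiplicative across degrees, with Φ_0 the structure map and Φ_1 as
prescribed). Then for every n there is a unique B-linear map Ψ_n from the submodule I^{nc'}N of N to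
N[T_1, …, T_r] = B[T_1, …, T_r] ⊗_B N with Ψ_n(g x) = Φ_n(g) ⊗ x for g ∈ I^{nc'} and x ∈ N; that is,
the Ψ_n form the unique graded B-module map from ⊕_n I^{nc'}N to N[T_1, …, T_r] with this property.
Moreover substituting T_j ↦ f_j after Ψ_n gives back the inclusion of I^{nc'}N into N. -/
theorem result (A : Type u) [CommRing A] [IsNoetherianRing A] (r : ℕ) (f : Fin r → A) (I : Ideal A) (hI : I = Ideal.span (Set.range f)) (h1 : LocCoh.CdLE A I 1) (h0 : ¬ LocCoh.CdLE A I 0) (c : ℕ) (hc : 1 ≤ c) (φ : Fin r → (↥(I ^ c) →ₗ[A] A)) (hφ : ∀ x : ↥(I ^ c), (x : A) = ∑ j, f j * φ j x) (B : Type u) [CommRing B] [Algebra A B] [IsNoetherianRing B] (N : Type u) [AddCommGroup N] [Module B N] [Module.Finite B N] : ∃ c' : ℕ, ∃ hcc' : c ≤ c', ∀ Φ : ℕ → A → MvPolynomial (Fin r) A, ((∀ n : ℕ, ∀ g ∈ I ^ (n * c'), ∀ h ∈ I ^ (n * c'), Φ n (g + h) = Φ n g + Φ n h) ∧ (∀ (n : ℕ) (a : A), ∀ g ∈ I ^ (n * c'), Φ n (a * g) = a • Φ n g) ∧ (∀ n : ℕ, ∀ g ∈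 I ^ (n * c'), (Φ n g).IsHomogeneous n) ∧ (∀ n m : ℕ, ∀ g ∈ I ^ (n * c'), ∀ h ∈ I ^ (m * c'), Φ (n + m) (g * h) = Φ n g * Φ m h) ∧ (∀ a : A, Φ 0 a = MvPolynomial.C a) ∧ (∀ (g : A) (hg : g ∈ I ^ c'), Φ 1 g = ∑ j, MvPolynomial.C (φ j ⟨g, Ideal.pow_le_pow_right hcc' hg⟩) * MvPolynomial.X j)) → ∀ n : ℕ, ∃ Ψ : ↥(Submodule.span B {y : N | ∃ g ∈ I ^ (n * c'), ∃ x : N, y = algebraMap A B g • x}) →ₗ[B] (MvPolynomial (Fin r) B ⊗[B] N), (∀ (g : A) (hg : g ∈ I ^ (n * c')) (x : N), Ψ ⟨algebraMap A B g • x, Submodule.subset_span ⟨g, hg, x, rfl⟩⟩ = MvPolynomial.map (algebraMap A B) (Φ n g) ⊗ₜ[B] x) ∧ (∀ y : ↥(Submodule.span B {y : N | ∃ g ∈ I ^ (n * c'), ∃ x : N, y = algebraMap A B g • x}), TensorProduct.lift ((LinearMap.lsmul B N).comp (MvPolynomial.aeval (fun j ↦ algebraMap A B (f j))).toLinearMap) (Ψ y) = (y : N)) ∧ (∀ Ψ' : ↥(Submodule.span B {y : N | ∃ g ∈ I ^ (n * c'), ∃ x : N, y = algebraMap A B g • x}) →ₗ[B] (MvPolynomial (Fin r) B ⊗[B]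 N), (∀ (g : A) (hg : g ∈ I ^ (n * c')) (x : N), Ψ' ⟨algebraMap A B g • x, Submodule.subset_span ⟨g, hg, x, rfl⟩⟩ = MvPolynomial.map (algebraMap A B) (Φ n g) ⊗ₜ[B] x) → Ψ' = Ψ) := by
  subst hI
  open Groth.Agent.Lib.T2H3.PolyMap in
  obtain ⟨m₀, hm₀⟩ := exists_artinRees (Ideal.span (Set.range f)) B N c
  refine ⟨c + m₀, Nat.le_add_right c m₀, ?_⟩
  rintro Φ ⟨hadd, -, -, hmul, h0', h1'⟩ n
  open Groth.Agent.Lib.T2H3.PolyMap in
  have hAR : ∀ w : N, w ∈ W (Ideal.span (Set.range f)) B N (c + m₀ - c) →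
      (∀ g ∈ (Ideal.span (Set.range f)) ^ c, algebraMap A B g • w = 0) → w = 0 := by
    rw [Nat.add_sub_cancel_left]
    exact hm₀
  open Groth.Agent.Lib.T2H3.PolyMap in
  have hΦ : ∀ (n : ℕ) (g : A), g ∈ (Ideal.span (Set.range f)) ^ (n * (c + m₀)) →
      Φ n g = Phi (Ideal.span (Set.range f)) (c + m₀)
        (res (Ideal.span (Set.range f)) c φ (Nat.le_add_right c m₀)) n g :=
    eq_Phi (Ideal.span (Set.range f)) (c + m₀)
      (res (Ideal.span (Set.range f)) c φ (Nat.le_add_right c m₀)) Φ hadd hmul h0'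
      (fun g hg => h1' g hg)
  open Groth.Agent.Lib.T2H3.PolyMap in
  have hφ' : ∀ x : ↥((Ideal.span (Set.range f)) ^ (c + m₀)),
      (x : A) = ∑ j, f j * res (Ideal.span (Set.range f)) c φ (Nat.le_add_right c m₀) j x :=
    fun x => hφ ⟨x, Ideal.pow_le_pow_right (Nat.le_add_right c m₀) x.2⟩
  open Groth.Agent.Lib.T2H3.PolyMap in
  obtain ⟨Ψ, hΨ⟩ := exists_Psi (Ideal.span (Set.range f)) c φ (Nat.le_add_right c m₀) B N hAR n
  refine ⟨Ψ, ?_, ?_, ?_⟩
  · intro g hg x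
    rw [hΦ n g hg]
    exact hΨ g hg x
  · intro y
    have key : (TensorProduct.lift ((LinearMap.lsmul B N).comp
        (MvPolynomial.aeval (fun j ↦ algebraMap A B (f j))).toLinearMap)) ∘ₗ Ψ =
        Submodule.subtype _ := by
      apply Groth.Agent.Lib.T2H3.PolyMap.ext_span
      rintro s ⟨g, hg, x, rfl⟩
      have h2 := hΨ g hg x
      change TensorProduct.lift ((LinearMap.lsmul B N).comp
        (MvPolynomial.aeval (fun j ↦ algebraMap A B (f j))).toLinearMap) (Ψ _) =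
        algebraMap A B g • x
      refine (congrArg _ h2).trans ?_
      rw [TensorProduct.lift.tmul]
      change (MvPolynomial.aeval (fun j ↦ algebraMap A B (f j)))
        (MvPolynomial.map (algebraMap A B) _) • x = algebraMap A B g • x
      rw [MvPolynomial.aeval_map_algebraMap]
      have h3 : (MvPolynomial.aeval (fun j ↦ algebraMap A B (f j)))
          (Groth.Agent.Lib.T2H3.PolyMap.Phi (Ideal.span (Set.range f)) (c + m₀)
            (Groth.Agent.Lib.T2H3.PolyMap.res (Ideal.span (Set.range f)) c φ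
              (Nat.le_add_right c m₀)) n g) = algebraMap A B g := by
        have h4 := MvPolynomial.aeval_algebraMap_apply B f
          (Groth.Agent.Lib.T2H3.PolyMap.Phi (Ideal.span (Set.range f)) (c + m₀)
            (Groth.Agent.Lib.T2H3.PolyMap.res (Ideal.span (Set.range f)) c φ
              (Nat.le_add_right c m₀)) n g)
        rw [Groth.Agent.Lib.T2H3.PolyMap.aeval_Phi f _ _ _ hφ' n hg] at h4
        exact h4
      rw [h3]
    exact LinearMap.congr_fun key y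
  · intro Ψ' hΨ'
    apply Groth.Agent.Lib.T2H3.PolyMap.ext_span
    rintro s ⟨g, hg, x, rfl⟩
    rw [hΨ' g hg x, hΦ n g hg]
    exact (hΨ g hg x).symm

end Groth.Agent.S8833
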