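import Groth.Statements.S8893
-- import your own Groth.Agent.* helpers here
import Mathlib
import Groth.Agent.S5803
import Groth.Agent.Lib.Helper5StalkSpec
import Groth.Agent.Lib.T2H2FlatRegQuot
import Groth.Agent.Lib.T2H2QRegLoc

set_option autoImplicit false
universe u
open CategoryTheory CategoryTheory.Limits AlgebraicGeometry TopologicalSpace
open SDiv

namespace Groth.Agent.S8893

open Groth.Agent.Lib.T2H2.FlatRegQuot Groth.Agent.Lib.T2H2.QRegLoc

open CategoryTheory AlgebraicGeometry in
/-- transport of surjectivity of `i.app` along an equality of opens -/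
theorem app_surjective_of_eq {Z X : Scheme.{u}} (i : Z ⟶ X) {V V' : X.Opens} (h : V = V')
    (hs : Function.Surjective (i.app V).hom) : Function.Surjective (i.app V').hom := by
  subst h; exact hs

open CategoryTheory AlgebraicGeometry in
/-- for `i ∣_ U` a closed immersion with `U` affine: `i⁻¹U` is affine and `i.app U` is surjective. -/
theorem affine_and_surjective {Z X : Scheme.{u}} (i : Z ⟶ X) (U : X.Opens) (hU : IsAffineOpen U)
    [IsClosedImmersion (i ∣_ U)] :
    IsAffineOpen (i ⁻¹ᵁ U) ∧ Function.Surjective (i.app U).hom := by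
  have : IsAffine U.toScheme := hU
  obtain ⟨h1, h2⟩ := IsClosedImmersion.isAffine_surjective_of_isAffine (i ∣_ U)
  refine ⟨h1, ?_⟩
  rw [morphismRestrict_appTop] at h2
  have h3 : Function.Surjective (i.app (U.ι ''ᵁ ⊤)).hom := by
    intro c
    obtain ⟨a, ha⟩ := h2 ((Z.presheaf.map (eqToHom (image_morphismRestrict_preimage i U ⊤)).op).hom c)
    refine ⟨a, ?_⟩
    have hinj : Function.Injective
        (Z.presheaf.map (eqToHom (image_morphismRestrict_preimage i U ⊤)).op).hom :=
      (ConcreteCategory.bijective_of_isIso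
        (Z.presheaf.map (eqToHom (image_morphismRestrict_preimage i U ⊤)).op)).1
    exact hinj ha
  exact app_surjective_of_eq i (by simp) h3

/-- Let f : X ⟶ S be a morphism of schemes and i : Z ⟶ X a relative quasi-regular immersion (a
quasi-regular immersion with Z flat over S). If z is a point of Z such that O_{X, i z} is
Noetherian, then f is flat at i z. -/
theorem result {Z X S : Scheme.{u}} (f : X ⟶ S) (i : Z ⟶ X)
    (hi : RegImm.IsRelRegularImmersion RegImm.Kind.quasi f i) (z : ↥Z) [IsNoetherianRing ↑(X.presheaf.stalk (i z))] :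
    (f.stalkMap (i z)).hom.Flat := by
  obtain ⟨⟨himm, hreg⟩, hflat⟩ := hi
  obtain ⟨U, hzU, hcl, rs, hqr, hker⟩ := hreg z
  obtain ⟨hW, hsurj⟩ := affine_and_surjective i U.1 U.2
  have hqr' : CAlgX.IsQuasiRegular rs.get := hqr
  set g := (X.presheaf.germ U.1 (i z) hzU).hom with hg
  have hsq : ∀ a, (Z.presheaf.germ (i ⁻¹ᵁ U.1) z hzU).hom ((i.app U.1).hom a)
      = (i.stalkMap z).hom (g a) := fun a =>
    (i.germ_stalkMap_apply U.1 z hzU a).symm
  have hkerstalk : RingHom.ker (i.stalkMap z).hom = Ideal.ofList (rs.map g) := by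
    have h := Groth.Agent.Lib.Helper5.StalkSpec.ker_eq_map_of_isLocalization
      g (Z.presheaf.germ (i ⁻¹ᵁ U.1) z hzU).hom (i.app U.1).hom
      (i.stalkMap z).hom hsq hsurj _ (U.2.isLocalization_stalk ⟨i z, hzU⟩) _
      (hW.isLocalization_stalk ⟨z, hzU⟩)
    rw [h, hker, Ideal.map_ofList]
  -- quasi-regularity in the stalk
  have hq' : CAlgX.IsQuasiRegular (fun j => g (rs.get j)) := by
    let _ : Algebra Γ(X, U.1) (X.presheaf.stalk (i z)) := g.toAlgebra
    have : IsLocalization.AtPrime (X.presheaf.stalk (i z)) (U.2.primeIdealOf ⟨i z, hzU⟩).asIdeal :=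
      U.2.isLocalization_stalk ⟨i z, hzU⟩
    exact isQuasiRegular_of_isLocalization (U.2.primeIdealOf ⟨i z, hzU⟩).asIdeal.primeCompl
      (X.presheaf.stalk (i z)) rs.get hqr'
  have hlist : List.ofFn (fun j => g (rs.get j)) = rs.map g := by
    change List.ofFn (g ∘ rs.get) = _
    rw [← List.map_ofFn, List.ofFn_get]
  have hmem : ∀ r ∈ rs.map g, r ∈ IsLocalRing.maximalIdeal (X.presheaf.stalk (i z)) := by
    intro r hr
    have h1 : r ∈ RingHom.ker (i.stalkMap z).hom := by
      rw [hkerstalk]
      exact Ideal.subset_span hr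
    rw [IsLocalRing.mem_maximalIdeal, mem_nonunits_iff]
    intro hu
    have := hu.map (i.stalkMap z).hom
    rw [RingHom.mem_ker.mp h1] at this
    exact not_isUnit_zero this
  have hwr : RingTheory.Sequence.IsWeaklyRegular (X.presheaf.stalk (i z)) (rs.map g) := by
    rw [← hlist]
    refine Groth.Agent.S5803.result _ rs.length _ (fun j => ?_) hq'
    rw [← Ideal.jacobson_bot, IsLocalRing.jacobson_eq_maximalIdeal ⊥ bot_ne_top]
    apply hmem
    rw [← hlist]
    exact List.mem_ofFn.mpr ⟨j, rfl⟩
  have : Flat (i ≫ f) := hflat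
  have hflatC : ((i ≫ f).stalkMap z).hom.Flat := Flat.stalkMap (i ≫ f) z
  have hcomp : ((i ≫ f).stalkMap z).hom = (i.stalkMap z).hom.comp (f.stalkMap (i z)).hom := by
    rw [Scheme.Hom.stalkMap_comp]
    rfl
  rw [hcomp] at hflatC
  exact flat_of_surjective_of_ker_eq_ofList (f.stalkMap (i z)).hom (i.stalkMap z).hom
    (i.stalkMap_surjective z) (rs.map g) hmem hwr hkerstalk hflatC

end Groth.Agent.S8893
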