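import Groth.Statements.S8899
-- import your own Groth.Agent.* helpers here
import Mathlib
import Groth.Agent.Lib.Helper26FpqcFlat
import Groth.Agent.Lib.T2H2WeakAssPull

set_option autoImplicit false
universe u
open CategoryTheory CategoryTheory.Limits AlgebraicGeometry TopologicalSpace
open SDiv

namespace Groth.Agent.S8899

open Groth.Agent.Lib.Helper1.Sky Groth.Agent.Lib.Helper1.StalkTensor Groth.Agent.Lib.Helper26.FpqcMod
  Groth.Agent.Lib.T2H2.WeakAssPull
open scoped TensorProduct

/-- Let f : X ⟶ S be a morphism of schemes, G a quasi-coherent O_S-module and x a point of X over s = f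
x such that f is flat at x, no point of f⁻¹(s) other than x specialises to x (x is the generic point
of some irreducible component of the fibre X_s), and s is weakly associated to G. Then x is weakly
associated to f^*G. -/
theorem result {X S : Scheme.{u}} (f : X ⟶ S) (G : S.Modules) (hG : Coh.IsQCoh G)
    (x : ↥X) (hfl : (f.stalkMap x).hom.Flat) (hgen : ∀ y : ↥X, f y = f x → y ⤳ x → y = x)
    (hs : Curv2.IsWeakAssPoint G (f x)) : Curv2.IsWeakAssPoint ((Scheme.Modules.pullback f).obj G) x := by
  obtain ⟨m, hm⟩ := hs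
  let algA : Algebra (Ox (f x)) (Ox x) := (f.stalkMap x).hom.toAlgebra
  have hflat : Module.Flat (Ox (f x)) (Ox x) := hfl
  have hloc : IsLocalHom (algebraMap (Ox (f x)) (Ox x)) :=
    inferInstanceAs (IsLocalHom (f.stalkMap x).hom)
  let Mx : ModuleCat.{u} (Ox (f x)) := (stalkFun (f x)).obj G
  let e : ((stalkFun x).obj ((Scheme.Modules.pullback f).obj G)) ≃ₗ[Ox x] (Ox x) ⊗[Ox (f x)] Mx :=
    ((stalkPullbackIso f x).app G).toLinearEquiv
  have key := radical_ker_tmul (R := Ox (f x)) (R' := Ox x) (M := Mx) m hm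
    (fun q hq hle => eq_maximalIdeal_of_generic f x hgen q hq hle)
  exact ⟨e.symm ((1 : Ox x) ⊗ₜ[Ox (f x)] m),
    (congrArg Ideal.radical (ker_toSpanSingleton_symm e _)).trans key⟩

end Groth.Agent.S8899
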