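import Groth.Statements.S8932
import Groth.Agent.Lib.T2H4FibGor6

set_option autoImplicit false
universe u
open CategoryTheory
open scoped TensorProduct
attribute [local instance] HasDerivedCategory.standard
open Dual

namespace Groth.Agent.S8932

/-- For a field extension K/k, a finite type k-algebra A and a dualizing complex ω for A, the derived
base change of ω along A → K ⊗_k A is a dualizing complex for K ⊗_k A (the derived base change
functor being assumed to exist). -/
theorem result (k K : Type u) [Field k] [Field K] [Algebra k K] (A : Type u) [CommRing A] [Algebra k A] [Algebra.FiniteType k A] [DRing.HasLBaseChange (Algebra.TensorProduct.includeRight : A →ₐ[k] K ⊗[k] A).toRingHom] (ω : Dual.D A) (hω : Dual.IsDualizing A ω) : Dual.IsDualizing (K ⊗[k] A) ((DRing.LBaseChange (Algebra.TensorProduct.includeRight : A →ₐ[k] K ⊗[k] A).toRingHom).obj ω) := by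
  
  haveI : IsNoetherianRing A := hω.isNoetherianRing
  haveI : DRing.HasLBaseChange (algebraMap A (A ⊗[k] K)) :=
    Groth.Agent.Lib.T2H4.LDerExist.hasLBaseChange _
  have h1 := Groth.Agent.Lib.T2H4.FibGor.isDualizing_lbc_tensor_field k K A ω hω
  haveI : IsNoetherianRing (A ⊗[k] K) := h1.isNoetherianRing
  let φ : A ⊗[k] K →+* K ⊗[k] A := (Algebra.TensorProduct.comm k A K).toRingEquiv.toRingHom
  have hφ : Function.Bijective φ := (Algebra.TensorProduct.comm k A K).toRingEquiv.bijective
  haveI : DRing.HasLBaseChange φ := Groth.Agent.Lib.T2H4.LDerExist.hasLBaseChange _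
  have hcomp : φ.comp (algebraMap A (A ⊗[k] K)) =
      (Algebra.TensorProduct.includeRight : A →ₐ[k] K ⊗[k] A).toRingHom := by
    ext a
    simp [φ]
  obtain ⟨i1⟩ := Groth.Agent.Lib.T2H4.TwoIdeal.nonempty_lbc_trans (algebraMap A (A ⊗[k] K)) φ
    (Algebra.TensorProduct.includeRight : A →ₐ[k] K ⊗[k] A).toRingHom hcomp ω
  exact Groth.Agent.Lib.T2H4.DualFinite.isDualizing_of_iso i1
    (Groth.Agent.Lib.T2H4.MvPoly.isDualizing_lbc_of_bijective φ hφ _ h1)

end Groth.Agent.S8932
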