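import Groth.Statements.S8980
import Groth.Agent.Lib.T2H8HSigma

set_option autoImplicit false
universe u
open HTop

namespace Groth.Agent.S8980

open CategoryTheory CategoryTheory.Limits AlgebraicGeometry in
/-- A family of morphisms T_i → T, indexed by a type in the universe of T and all locally of finite
presentation, is an h covering if and only if the one-member family given by the induced morphism
from the coproduct of the T_i to T is an h covering. (The published statement also lists, as a
further equivalent condition, that some h covering refines the family; that equivalence is immediate
from the definitions and is not restated here.) -/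
theorem result {T : Scheme.{u}} (E : PreZeroHypercover.{u} T) (hE : ∀ i, LocallyOfFinitePresentation (E.f i)) : HTop.IsHCover E ↔ HTop.IsHCover (PreZeroHypercover.singleton.{0} (Sigma.desc E.f)) := by
  constructor
  · intro h
    refine ⟨fun _ => IsZariskiLocalAtSource.sigmaDesc (fun i => hE i), ?_⟩
    exact Groth.Agent.Lib.T2H8.VSubm.isVCover_of_refines E _ h.2
      (fun i => ⟨PUnit.unit, Sigma.ι E.X i, Sigma.ι_desc _ _⟩)
  · intro h
    exact ⟨hE, Groth.Agent.Lib.T2H8.HSigma.isVCover_of_isVCover_sigmaDesc E h.2⟩

end Groth.Agent.S8980
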