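import Groth.Statements.S9005
import Groth.Agent.Lib.T2H2PureProj
-- import your own Groth.Agent.* helpers here

set_option autoImplicit false
universe u
open FlatMor

namespace Groth.Agent.S9005

/-- For an affine finite type morphism Spec B → Spec A: a finite B-module which is projective as an
A-module is universally pure over Spec A. (The published statement allows any base scheme S and asks
the direct image to be locally projective; over an affine base a projective module gives such a
direct image, so this row is that case.) -/
theorem result {A B : Type u} [CommRing A] [CommRing B] [Algebra A B] [Algebra.FiniteType A B] (N : Type u) [AddCommGroup N] [Module B N] [Module A N] [IsScalarTower A B N] [Module.Finite B N] [Module.Projective A N] : FlatCA.IsUnivPure A B N := by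
  intro p _ A' B' N' _ _ _ _ _ _ _ _ _ _ _ _ _ _ f t' t _ _ P _ himp
  obtain ⟨hpush, hbc, htt, htp, hPt', hass, hno⟩ := himp
  -- the `A`-module structure on `N'`
  letI : Module A N' := Module.compHom N' (algebraMap A A')
  haveI : IsScalarTower A A' N' := IsScalarTower.of_algebraMap_smul fun r x => rfl
  haveI : IsScalarTower A B' N' := by
    refine IsScalarTower.of_algebraMap_smul fun r x => ?_
    rw [IsScalarTower.algebraMap_apply A A' B', algebraMap_smul]
    rfl
  haveI : IsScalarTower A B N' := by
    refine IsScalarTower.of_algebraMap_smul fun r x => ?_
    rw [← algebraMap_smul B' (algebraMap A B r) x, ← IsScalarTower.algebraMap_apply A B B',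
      algebraMap_smul]
  haveI : Algebra.IsPushout A A' B B' := Algebra.IsPushout.symm hpush
  have hbc' : IsBaseChange A' (f.restrictScalars A) :=
    Groth.Agent.Lib.Helper3.FlatLoc.isBaseChange_restrictScalars_of_isPushout
      (A := A) (R := A') (PA := B) (PR := B') f hbc
  haveI : Module.Projective A' N' := Module.Projective.of_equiv hbc'.equiv
  obtain ⟨P', hP', hle, hover⟩ :=
    Groth.Agent.Lib.T2H2.PureProj.exists_prime_lying_over_of_mem_ass t' t htt P hass
  exact hno P' hle hover

end Groth.Agent.S9005
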