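import Groth.Statements.S9023
-- import your own Groth.Agent.* helpers here
import Mathlib
import Groth.Agent.Lib.Helper26FpqcGen
import Groth.Agent.Lib.Helper26FpqcBC
import Groth.Agent.Lib.Helper26FpqcFlat
import Groth.Agent.Lib.Helper26FlatLimC
import Groth.Agent.Lib.T2H2ResTrdeg

set_option autoImplicit false
universe u
open FlatMor

namespace Groth.Agent.S9023

open Groth.Agent.Lib.Helper26.FpqcGen Groth.Agent.Lib.Helper26.FpqcBC Groth.Agent.Lib.Helper26.FpqcFlat
  Groth.Agent.Lib.Helper26.FlatLim Groth.Agent.Lib.Helper20.PullbackAff Groth.Agent.Lib.T2H2.ResTrdeg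

open CategoryTheory CategoryTheory.Limits AlgebraicGeometry Opposite in
/-- For f : X → S locally of finite type, F a quasi-coherent O_X-module of finite type and n ≥ 0, the
functor F_n on schemes over S (one point on T when the base change F_T on X_T = X ×_S T is flat over
T in dimensions ≥ n, that is every point of X_T at which F_T is not flat over T has residue field of
transcendence degree less than n over the residue field of its image in T; empty otherwise; written
as the subfunctor of the final functor generated by that condition) satisfies the sheaf condition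
for the fpqc topology. -/
theorem result {X S : Scheme.{u}} (f : X ⟶ S) [LocallyOfFiniteType f] (F : X.Modules) [Coh.IsQCoh F] (hF : CohB1.IsFT F)
    (n : ℕ) :
    Presheaf.IsSheaf (QuotSh.J Scheme.fpqcPrecoverage S)
      (FlatFun.genPSp S (fun T => FlatFun.DimFibresLT n (PicF.XTproj f T)
        {x | ¬ FlatMod.IsFlatOverAt (PicF.XTproj f T) (FGA.ET f F T) x})) := by
  refine isSheaf_genPSp_fpqc S _ ?_ ?_
  · intro T T₀ g h x hx
    have : ((Scheme.Modules.pullback (pullback.fst f T₀.hom)).obj F).IsQuasicoherent :=
      isQuasicoherent_pullback _ F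
    -- the image of `x` in `X_{T₀}` is a point of non-flatness
    have hx₀ : ¬ FlatMod.IsFlatOverAt (pullback.snd f T₀.hom)
        ((Scheme.Modules.pullback (pullback.fst f T₀.hom)).obj F) (bcMap f g x) := by
      intro h0
      apply hx
      have h1 := Groth.Agent.Lib.Helper2.PullbackSec.isFlatOverAt_pullback_of_isPullback
        (isPullback_bcMap f g) _ x h0
      exact isFlatOverAt_of_iso _ ((Scheme.Modules.pullbackComp (bcMap f g) (pullback.fst f T₀.hom)).app F ≪≫
        (Scheme.Modules.pullbackCongr (bcMap_fst f g)).app F) x h1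
    exact lt_of_le_of_lt (resTrdeg_le_of_isPullback (isPullback_bcMap f g) x) (h _ hx₀)
  · intro T ι Ti g hfl hs H x hx
    obtain ⟨i, ti, hti⟩ := hs ((pullback.snd f T.hom) x)
    obtain ⟨z, hzx, hzt, hz⟩ := exists_resTrdeg_le_of_isPullback (isPullback_bcMap f (g i)) x ti hti.symm
    have := hfl i
    have := flat_bcMap f (g i)
    have hzn : ¬ FlatMod.IsFlatOverAt (pullback.snd f (Ti i).hom)
        ((Scheme.Modules.pullback (pullback.fst f (Ti i).hom)).obj F) z := by
      intro h0
      apply hx
      have h1 : FlatMod.IsFlatOverAt (pullback.snd f (Ti i).hom)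
          ((Scheme.Modules.pullback (bcMap f (g i))).obj
            ((Scheme.Modules.pullback (pullback.fst f T.hom)).obj F)) z :=
        isFlatOverAt_of_iso _ ((Scheme.Modules.pullbackComp (bcMap f (g i)) (pullback.fst f T.hom)).app F ≪≫
          (Scheme.Modules.pullbackCongr (bcMap_fst f (g i))).app F).symm z h0
      have h2 := isFlatOverAt_of_pullback (bcMap_snd f (g i)) _ z h1
      rwa [hzx] at h2
    exact lt_of_le_of_lt hz (H i z hzn)

end Groth.Agent.S9023
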