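import Groth.Statements.S9033
import Groth.Agent.Lib.T2H2CpctLoc

set_option autoImplicit false
universe u
open Cpct

namespace Groth.Agent.S9033

open CategoryTheory CategoryTheory.Limits AlgebraicGeometry Opposite in
/-- Let S be a quasi-compact and quasi-separated scheme. In the category of compactifications over S —
objects the pairs (X, X̄) with X̄ proper over S and X a quasi-compact open of X̄, morphisms the
morphisms X̄' → X̄ over S mapping X' into X — the collection of morphisms (u, ū) : (X', X̄') → (X,
X̄) with u : X' → X an isomorphism is a right multiplicative system: it contains the identities and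
is closed under composition; for f : (Y, Ȳ) → (X, X̄) and (u, ū) : (X', X̄') → (X, X̄) in the
collection there are (v, v̄) : (Y', Ȳ') → (Y, Ȳ) in the collection and g : (Y', Ȳ') → (X', X̄') with
f ∘ (v, v̄) = (u, ū) ∘ g; and if two morphisms (X, X̄) → (Y, Ȳ) become equal after composing with
some (Y, Ȳ) → (Y', Ȳ') of the collection, they become equal after precomposing with some (X', X̄') →
(X, X̄) of the collection. -/
theorem result (S : Scheme.{u}) [CompactSpace S] [QuasiSeparatedSpace S] :
    (Cpct.isoOpen S).HasRightCalculusOfFractions := by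
  rw [Groth.Agent.Lib.T2H2.CpctLoc.isoOpen_eq]
  refine Groth.Agent.Lib.T2H2.LocFrac.hasRightCalculusOfFractions (Cpct.openFunctor S) ?_ ?_
  · intro A B g
    obtain ⟨A', s, f, hs, hf⟩ := Groth.Agent.Lib.T2H2.CpctLoc.exists_fraction A B g
    exact ⟨A', s, f, (Groth.Agent.Lib.T2H2.CpctLoc.isIso_map_iff s).2 hs, hf⟩
  · intro A B f g hfg
    have h1 : Cpct.restr f = Cpct.restr g := by
      have h2 := congrArg (fun k => k.hom.left) hfg
      exact h2
    obtain ⟨A', s, hs, hsfg⟩ := Groth.Agent.Lib.T2H2.CpctLoc.exists_equalizing A B f g h1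
    exact ⟨A', s, (Groth.Agent.Lib.T2H2.CpctLoc.isIso_map_iff s).2 hs, hsfg⟩

end Groth.Agent.S9033
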