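import Groth.Statements.S9034
import Groth.Agent.Lib.T2H2CpctLoc

set_option autoImplicit false
universe u
open Cpct

namespace Groth.Agent.S9034

open CategoryTheory CategoryTheory.Limits AlgebraicGeometry Opposite in
/-- Fix a scheme S which is quasi-separated and quasi-compact. Sending a pair (X, X̄) to X gives a
functor from the category of compactifications over S (pairs of a scheme X̄ proper over S and a
quasi-compact open X ⊆ X̄, with morphisms the S-morphisms X̄' → X̄ sending X' into X) to the
category of compactifyable schemes over S (the full subcategory of schemes over S that are the open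
part of such a pair), and this functor is a localization functor for the class of morphisms whose
open part X' → X is an isomorphism: it inverts that class and the induced functor from the localized
category is an equivalence. -/
theorem result (S : Scheme.{u}) [CompactSpace S] [QuasiSeparatedSpace S] :
    (Cpct.openFunctor S).IsLocalization (Cpct.isoOpen S) := by
  rw [Groth.Agent.Lib.T2H2.CpctLoc.isoOpen_eq]
  have : (Cpct.openFunctor S).EssSurj := ⟨fun X => by
    obtain ⟨A, ⟨i⟩⟩ := X.property
    exact ⟨A, ⟨ObjectProperty.isoMk _ i⟩⟩⟩
  refine Groth.Agent.Lib.T2H2.LocFrac.isLocalization (Cpct.openFunctor S) ?_ ?_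
  · intro A B g
    obtain ⟨A', s, f, hs, hf⟩ := Groth.Agent.Lib.T2H2.CpctLoc.exists_fraction A B g
    exact ⟨A', s, f, (Groth.Agent.Lib.T2H2.CpctLoc.isIso_map_iff s).2 hs, hf⟩
  · intro A B f g hfg
    have h1 : Cpct.restr f = Cpct.restr g := by
      have h2 := congrArg (fun k => k.hom.left) hfg
      exact h2
    obtain ⟨A', s, hs, hsfg⟩ := Groth.Agent.Lib.T2H2.CpctLoc.exists_equalizing A B f g h1
    exact ⟨A', s, (Groth.Agent.Lib.T2H2.CpctLoc.isIso_map_iff s).2 hs, hsfg⟩

end Groth.Agent.S9034
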