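import Groth.Statements.S9132
import Mathlib
-- import your own Groth.Agent.* helpers here

set_option autoImplicit false
set_option linter.unusedSectionVars false
universe u
open CAlg

namespace Groth.Agent.S9132


section aux

variable (R : Type u) [CommRing R] [IsDomain R] [IsNoetherianRing R] [IsLocalRing R]

/-- a valuation subring of the fraction field dominating `R` -/
lemma exists_valuationSubring :
    ∃ V : ValuationSubring (FractionRing R), (∀ r : R, algebraMap R (FractionRing R) r ∈ V) ∧
      ∀ r : R, r ∈ IsLocalRing.maximalIdeal R →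
        ∀ y : FractionRing R, y ∈ V → algebraMap R (FractionRing R) r * y ≠ 1 := by
  obtain ⟨V, hle, hloc⟩ :=
    (LocalSubring.range (algebraMap R (FractionRing R))).exists_le_valuationSubring
  have hmem : ∀ r : R, algebraMap R (FractionRing R) r ∈ V := fun r =>
    hle ⟨r, rfl⟩
  refine ⟨V, hmem, ?_⟩
  intro r hr y hy hry
  -- the element `algebraMap r` of the range becomes a unit of `V`
  let a : (LocalSubring.range (algebraMap R (FractionRing R))).toSubring :=
    ⟨algebraMap R (FractionRing R) r, ⟨r, rfl⟩⟩
  have hu : IsUnit (Subring.inclusion hle a) := by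
    refine IsUnit.of_mul_eq_one (⟨y, hy⟩ : V.toSubring) ?_
    exact Subtype.ext hry
  have ha : IsUnit a := hloc.map_nonunit a hu
  obtain ⟨b, hb⟩ := ha.exists_right_inv
  obtain ⟨b', hb'⟩ := b.2
  have h1 : algebraMap R (FractionRing R) (r * b') = 1 := by
    rw [map_mul]
    have := congrArg Subtype.val hb
    rw [hb']
    exact this
  have h2 : r * b' = 1 := by
    apply IsFractionRing.injective R (FractionRing R)
    rw [h1, map_one]
  exact (IsLocalRing.mem_maximalIdeal r).mp hr (IsUnit.of_mul_eq_one _ h2)

end aux

/-- A Noetherian local domain R that is not a field is dominated by a Noetherian local ring R' of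
dimension one lying between R and its fraction field, with R' essentially of finite type over R. -/
theorem result (R : Type u) [CommRing R] [IsDomain R]
    [IsNoetherianRing R] [IsLocalRing R] (hR : ¬ IsField R) :
    ∃ R' : Subalgebra R (FractionRing R), ∃ _ : IsLocalRing R',
      IsNoetherianRing R' ∧ ringKrullDim R' = 1 ∧ IsLocalHom (algebraMap R R') ∧
        Algebra.EssFiniteType R R' := by
  classical
  set K := FractionRing R with hK
  obtain ⟨V, hV1, hV2⟩ := exists_valuationSubring R
  -- generators of the maximal ideal
  obtain ⟨s, hs⟩ := (IsNoetherian.noetherian (IsLocalRing.maximalIdeal R) :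
    (IsLocalRing.maximalIdeal R).FG)
  have hm0 : IsLocalRing.maximalIdeal R ≠ ⊥ := fun h =>
    hR (IsLocalRing.isField_iff_maximalIdeal_eq.mpr h)
  have hsne : s.Nonempty := by
    rw [Finset.nonempty_iff_ne_empty]
    rintro rfl
    apply hm0
    rw [← hs]
    simp
  -- element of `s` of largest valuation
  obtain ⟨x, hxs, hxmax⟩ := Finset.exists_max_image s
    (fun y => V.valuation (algebraMap R K y)) hsne
  have hxm : x ∈ IsLocalRing.maximalIdeal R := by
    rw [← hs]; exact Ideal.subset_span hxs
  have hx0 : x ≠ 0 := by
    rintro rfl
    apply hm0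
    rw [← hs, Ideal.span_eq_bot]
    intro y hy
    have h1 := hxmax y hy
    simp only [map_zero] at h1
    have h2 : V.valuation (algebraMap R K y) = 0 := le_antisymm h1 zero_le
    rw [map_eq_zero] at h2
    exact (IsFractionRing.injective R K) (by rw [h2, map_zero])
  have hxK : algebraMap R K x ≠ 0 := fun h =>
    hx0 ((IsFractionRing.injective R K) (by rw [h, map_zero]))
  -- the quotients lie in `V`
  have hquot : ∀ y ∈ s, algebraMap R K y / algebraMap R K x ∈ V := by
    intro y hy
    rw [← ValuationSubring.valuation_le_one_iff, map_div₀]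
    exact div_le_one_of_le₀ (hxmax y hy) zero_le
  -- the blow-up chart
  let S : Subalgebra R K :=
    Algebra.adjoin R (↑(s.image fun y => algebraMap R K y / algebraMap R K x) : Set K)
  have hSV : ∀ z : K, z ∈ S → z ∈ V := by
    intro z hz
    induction hz using Algebra.adjoin_induction with
    | mem z hz =>
      simp only [Finset.coe_image, Set.mem_image, Finset.mem_coe] at hz
      obtain ⟨y, hy, rfl⟩ := hz
      exact hquot y hy
    | algebraMap r => exact hV1 r
    | add a b _ _ ha hb => exact V.add_mem _ _ ha hb
    | mul a b _ _ ha hb => exact V.mul_mem _ _ ha hb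
  have hSft : Algebra.FiniteType R S :=
    (Subalgebra.fg_iff_finiteType S).mp (Subalgebra.fg_adjoin_finset _)
  have hSnoeth : IsNoetherianRing S := Algebra.FiniteType.isNoetherianRing R S
  -- the principal ideal generated by `x`
  let ξ : S := algebraMap R S x
  have hξ0 : ξ ≠ 0 := by
    intro h
    apply hxK
    have := congrArg (algebraMap S K) h
    rwa [← IsScalarTower.algebraMap_apply, map_zero] at this
  have hIne : Ideal.span {ξ} ≠ ⊤ := by
    intro h
    rw [Ideal.span_singleton_eq_top] at h
    obtain ⟨u, hu⟩ := h.exists_right_inv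
    apply hV2 x hxm (u : K) (hSV _ u.2)
    have := congrArg (algebraMap S K) hu
    rw [map_mul, map_one] at this
    exact this
  obtain ⟨⟨q, hq⟩⟩ := Ideal.nonempty_minimalPrimes hIne
  have hqprime : q.IsPrime := hq.1.1
  have hξq : ξ ∈ q := hq.1.2 (Ideal.mem_span_singleton_self ξ)
  have hqht : q.height ≤ 1 :=
    Ideal.height_le_one_of_isPrincipal_of_mem_minimalPrimes (Ideal.span {ξ}) q hq
  -- the maximal ideal of `R` lands in `q`
  have hmq : ∀ r ∈ IsLocalRing.maximalIdeal R, algebraMap R S r ∈ q := by
    intro r hr
    rw [← hs] at hr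
    induction hr using Submodule.span_induction with
    | mem y hy =>
      have hyS : algebraMap R K y / algebraMap R K x ∈ S :=
        Algebra.subset_adjoin (by
          simp only [Finset.coe_image, Set.mem_image, Finset.mem_coe]
          exact ⟨y, hy, rfl⟩)
      have : algebraMap R S y = (⟨_, hyS⟩ : S) * ξ := by
        apply Subtype.ext
        show algebraMap R K y = algebraMap R K y / algebraMap R K x * algebraMap R K x
        rw [div_mul_cancel₀ _ hxK]
      rw [this]
      exact q.mul_mem_left _ hξq
    | zero => rw [map_zero]; exact q.zero_mem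
    | add a b _ _ ha hb => rw [map_add]; exact q.add_mem ha hb
    | smul a b _ hb => rw [smul_eq_mul, map_mul]; exact q.mul_mem_left _ hb
  -- the local ring of `S` at `q`, inside `K`
  have hqle : q.primeCompl ≤ nonZeroDivisors S := Ideal.primeCompl_le_nonZeroDivisors q
  let T : Subalgebra S K := Localization.subalgebra.ofField K q.primeCompl hqle
  have hTloc : IsLocalization.AtPrime T q :=
    Localization.subalgebra.isLocalization_ofField K q.primeCompl hqle
  have hTlocal : IsLocalRing T := IsLocalization.AtPrime.isLocalRing T q
  have hTnoeth : IsNoetherianRing T := IsLocalization.isNoetherianRing q.primeCompl T hSnoeth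
  have hTnotfield : ¬ IsField T := by
    intro hf
    have hne : algebraMap S T ξ ≠ 0 := by
      intro h
      apply hξ0
      exact (IsLocalization.injective T hqle) (by rw [h, map_zero])
    obtain ⟨b, hb⟩ := hf.mul_inv_cancel hne
    have hu : IsUnit (algebraMap S T ξ) := IsUnit.of_mul_eq_one b hb
    rw [IsLocalization.AtPrime.isUnit_to_map_iff T q] at hu
    exact hu hξq
  have hTdim : ringKrullDim T = 1 := by
    have h1 : ringKrullDim T ≤ 1 := by
      rw [IsLocalization.AtPrime.ringKrullDim_eq_height q T]
      exact_mod_cast hqht
    have h0 : ¬ ringKrullDim T ≤ 0 := fun h => by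
      have : Ring.KrullDimLE 0 T := Ring.krullDimLE_iff.mpr h
      exact hTnotfield Ring.KrullDimLE.isField_of_isDomain
    exact le_antisymm h1 (Order.succ_le_of_lt (lt_of_not_ge h0))
  have hTlochom : IsLocalHom (algebraMap R T) := by
    constructor
    intro r hr
    by_contra hnu
    have hrm : r ∈ IsLocalRing.maximalIdeal R := (IsLocalRing.mem_maximalIdeal r).mpr hnu
    have h1 : algebraMap R T r = algebraMap S T (algebraMap R S r) :=
      IsScalarTower.algebraMap_apply R S T r
    rw [h1, IsLocalization.AtPrime.isUnit_to_map_iff T q] at hr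
    exact hr (hmq r hrm)
  have hTess : Algebra.EssFiniteType R T := by
    have : Algebra.EssFiniteType S T := Algebra.EssFiniteType.of_isLocalization T q.primeCompl
    exact Algebra.EssFiniteType.comp R S T
  exact ⟨T.restrictScalars R, hTlocal, hTnoeth, hTdim, hTlochom, hTess⟩


end Groth.Agent.S9132
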