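import Groth.Statements.S9135
import Mathlib

set_option autoImplicit false
set_option linter.style.haveILetI false
universe u
open CAlg

namespace Groth.Agent.S9135

open TensorProduct Polynomial

theorem fiber_finite (R S : Type u) [CommRing R] [CommRing S] [Algebra R S]
    [Algebra.FiniteType R S] (p : Ideal R) [p.IsPrime] (hfin : (p.primesOver S).Finite) :
    Module.Finite p.ResidueField (p.Fiber S) := by
  rw [Module.finite_iff_isArtinianRing, isArtinianRing_iff_isNoetherianRing_krullDimLE_zero]
  have : IsJacobsonRing (p.Fiber S) := isJacobsonRing_of_finiteType (A := p.ResidueField)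
  have H : (PrimeSpectrum.comap (algebraMap R S) ⁻¹' {⟨p, ‹_›⟩}).Finite := by
    refine Set.Finite.of_finite_image (f := PrimeSpectrum.asIdeal) (hfin.subset ?_)
      (fun _ _ _ _ h => PrimeSpectrum.ext h)
    rintro _ ⟨q, hq, rfl⟩
    refine ⟨q.isPrime, ⟨?_⟩⟩
    have := congrArg PrimeSpectrum.asIdeal hq
    exact this.symm
  have : Finite (PrimeSpectrum (p.Fiber S)) :=
    (PrimeSpectrum.preimageEquivFiber R S ⟨p, ‹_›⟩).finite_iff.mp H
  exact ⟨Algebra.FiniteType.isNoetherianRing p.ResidueField _,
    (PrimeSpectrum.discreteTopology_iff_finite_and_krullDimLE_zero.mp inferInstance).right⟩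

theorem exists_mul_pow_eq_zero (R : Type u) [CommRing R] (p : Ideal R) (hp : p ∈ minimalPrimes R)
    (π : R) (hπ : π ∈ p) : ∃ u : R, u ∉ p ∧ ∃ n : ℕ, u * π ^ n = 0 := by
  haveI : p.IsPrime := hp.1.1
  have h1 := IsLocalization.AtPrime.radical_map_of_mem_minimalPrimes (A := Localization.AtPrime p)
    p ⊥ hp
  have h2 : algebraMap R (Localization.AtPrime p) π ∈
      ((⊥ : Ideal R).map (algebraMap R (Localization.AtPrime p))).radical := by
    rw [h1]; exact Ideal.mem_map_of_mem _ hπ
  obtain ⟨n, hn⟩ := h2
  rw [Ideal.map_bot, Ideal.mem_bot, ← map_pow] at hn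
  obtain ⟨u, hu⟩ := (IsLocalization.map_eq_zero_iff p.primeCompl (Localization.AtPrime p) _).mp hn
  exact ⟨u, u.2, n, hu⟩

theorem exists_mul_pow_eq_zero' (R S : Type u) [CommRing R] [CommRing S] [Algebra R S]
    (p : Ideal R) (hp : p ∈ minimalPrimes R)
    (y : S) (hy : y ∈ p.map (algebraMap R S)) :
    ∃ u : R, u ∉ p ∧ ∃ n : ℕ, algebraMap R S u * y ^ n = 0 := by
  haveI : p.IsPrime := hp.1.1
  induction hy using Submodule.span_induction with
  | mem y hy =>
    obtain ⟨π, hπ, rfl⟩ := hy
    obtain ⟨u, hu, n, hn⟩ := exists_mul_pow_eq_zero R p hp π hπ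
    exact ⟨u, hu, n, by rw [← map_pow, ← map_mul, hn, map_zero]⟩
  | zero => exact ⟨1, p.one_notMem, 1, by simp⟩
  | add y z _ _ hy hz =>
    obtain ⟨u, hu, n, hn⟩ := hy
    obtain ⟨v, hv, m, hm⟩ := hz
    refine ⟨u * v, ‹p.IsPrime›.mul_notMem hu hv, n + m, ?_⟩
    -- the ideal of elements killed by `u * v`
    let K : Ideal S := LinearMap.ker (LinearMap.mulLeft S (algebraMap R S (u * v)))
    have hK : ∀ w, w ∈ K ↔ algebraMap R S (u * v) * w = 0 := fun w => Iff.rfl
    have h1 : y ^ n ∈ K := by
      rw [hK, map_mul, mul_right_comm, hn, zero_mul]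
    have h2 : z ^ m ∈ K := by
      rw [hK, map_mul, mul_assoc, hm, mul_zero]
    exact (hK _).mp (K.add_pow_mem_of_pow_mem_of_le h1 h2 (by omega))
  | smul s y _ hy =>
    obtain ⟨u, hu, n, hn⟩ := hy
    exact ⟨u, hu, n, by rw [smul_eq_mul, mul_pow, mul_left_comm, hn, mul_zero]⟩

/-- the kernel of `S → κ(p) ⊗ S`. -/
theorem exists_mul_mem_of_tmul_eq_zero (R S : Type u) [CommRing R] [CommRing S] [Algebra R S]
    (p : Ideal R) [p.IsPrime] (y : S) (hy : (1 : p.ResidueField) ⊗ₜ[R] y = 0) :
    ∃ t : R, t ∉ p ∧ algebraMap R S t * y ∈ p.map (algebraMap R S) := by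
  letI : Algebra S (p.Fiber S) := Algebra.TensorProduct.rightAlgebra
  have e := Ideal.Fiber.algEquivAux₁ (S := S) p
  have h1 : algebraMap S (p.Fiber S) y = 0 := hy
  have h2 := congrArg e h1
  rw [map_zero, AlgEquiv.commutes, IsScalarTower.algebraMap_apply S
    (Localization (Algebra.algebraMapSubmonoid S p.primeCompl)), Ideal.Quotient.algebraMap_eq,
    Ideal.Quotient.eq_zero_iff_mem] at h2
  obtain ⟨m, ⟨t, ht, rfl⟩, hm⟩ := (IsLocalization.algebraMap_mem_map_algebraMap_iff
    (Algebra.algebraMapSubmonoid S p.primeCompl) _ _ _).mp h2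
  exact ⟨t, ht, hm⟩

theorem exists_smul_isIntegral (R S : Type u) [CommRing R] [CommRing S] [Algebra R S]
    [Algebra.FiniteType R S] (p : Ideal R) (hp : p ∈ minimalPrimes R)
    (hfin : (p.primesOver S).Finite) (x : S) : ∃ m : R, m ∉ p ∧ IsIntegral R (m • x) := by
  haveI : p.IsPrime := hp.1.1
  haveI := fiber_finite R S p hfin
  have h1 : IsIntegral p.ResidueField ((1 : p.ResidueField) ⊗ₜ[R] x : p.Fiber S) :=
    Algebra.IsIntegral.isIntegral _
  haveI : Algebra.IsIntegral (Localization.AtPrime p) p.ResidueField :=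
    Algebra.isIntegral_of_surjective IsLocalRing.residue_surjective
  have h2 : IsIntegral (Localization.AtPrime p) ((1 : p.ResidueField) ⊗ₜ[R] x : p.Fiber S) :=
    isIntegral_trans _ h1
  obtain ⟨m, hm⟩ := IsIntegral.exists_multiple_integral_of_isLocalization p.primeCompl
    (Rₘ := Localization.AtPrime p) _ h2
  obtain ⟨Q, hQm, hQ⟩ := hm
  have h3 : (1 : p.ResidueField) ⊗ₜ[R] (aeval ((m : R) • x) Q) = 0 := by
    have e1 : (Algebra.TensorProduct.includeRight : S →ₐ[R] p.Fiber S) (aeval ((m : R) • x) Q) =
        aeval ((Algebra.TensorProduct.includeRight : S →ₐ[R] p.Fiber S) ((m : R) • x)) Q :=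
      (Polynomial.aeval_algHom_apply _ _ _).symm
    rw [Algebra.TensorProduct.includeRight_apply, Algebra.TensorProduct.includeRight_apply] at e1
    rw [e1]
    have e2 : (1 : p.ResidueField) ⊗ₜ[R] ((m : R) • x) = m • ((1 : p.ResidueField) ⊗ₜ[R] x) := by
      rw [Submonoid.smul_def, TensorProduct.tmul_smul]
    rw [e2]
    exact hQ
  obtain ⟨t, ht, hty⟩ := exists_mul_mem_of_tmul_eq_zero R S p _ h3
  obtain ⟨u, hu, n, hn⟩ := exists_mul_pow_eq_zero' R S p hp _ hty
  have hP : (C (u * t ^ n) * Q ^ n).eval₂ (algebraMap R S) ((m : R) • x) = 0 := by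
    rw [eval₂_mul, eval₂_C, eval₂_pow, map_mul, map_pow, mul_assoc, ← mul_pow]
    exact hn
  have hlc : (C (u * t ^ n) * Q ^ n).leadingCoeff = u * t ^ n := by
    rw [leadingCoeff_mul_monic (hQm.pow n), leadingCoeff_C]
  have h4 := RingHom.isIntegralElem_leadingCoeff_mul (algebraMap R S) _ _ hP
  rw [hlc] at h4
  refine ⟨u * t ^ n * m, ?_, ?_⟩
  · exact ‹p.IsPrime›.mul_notMem (‹p.IsPrime›.mul_notMem hu (fun h => ht (‹p.IsPrime›.mem_of_pow_mem n h))) m.2
  · have : (u * t ^ n * (m : R)) • x = algebraMap R S (u * t ^ n) * ((m : R) • x) := by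
      rw [mul_smul, Algebra.smul_def (u * t ^ n)]
    rw [this]
    exact h4


/-- Let R → S be of finite type and p a minimal prime of R over which only finitely many primes of S
lie. Then for some g ∈ R outside p the localized map R_g → S_g is finite. -/
theorem result (R S : Type u) [CommRing R] [CommRing S]
    [Algebra R S] [Algebra.FiniteType R S] (p : Ideal R) (hp : p ∈ minimalPrimes R)
    (hfin : (p.primesOver S).Finite) :
    ∃ g : R, g ∉ p ∧ (Localization.awayMap (algebraMap R S) g).Finite := by
  classical
  haveI : p.IsPrime := hp.1.1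
  obtain ⟨G, hG⟩ := (Algebra.FiniteType.out : (⊤ : Subalgebra R S).FG)
  have hm : ∀ x : S, ∃ m : R, m ∉ p ∧ IsIntegral R (m • x) :=
    exists_smul_isIntegral R S p hp hfin
  choose m hmp hmi using hm
  set g : R := ∏ x ∈ G, m x with hg
  have hgp : g ∉ p := by
    have : g ∈ p.primeCompl := Submonoid.prod_mem p.primeCompl (fun x _ => hmp x)
    exact this
  refine ⟨g, hgp, ?_⟩
  rw [RingHom.finite_iff_isIntegral_and_finiteType]
  refine ⟨?_, RingHom.localization_away_map_finiteType R S _ _ (algebraMap R S) g
    (RingHom.finiteType_algebraMap.mpr inferInstance)⟩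
  -- integrality
  letI : Algebra (Localization.Away g) (Localization.Away (algebraMap R S g)) :=
    (Localization.awayMap (algebraMap R S) g).toAlgebra
  haveI : IsScalarTower R (Localization.Away g) (Localization.Away (algebraMap R S g)) :=
    IsScalarTower.of_algebraMap_eq (fun r => by
      rw [RingHom.algebraMap_toAlgebra, Localization.awayMap, IsLocalization.Away.map,
        IsLocalization.map_eq]
      exact IsScalarTower.algebraMap_apply R S _ r)
  intro y
  change IsIntegral (Localization.Away g) y
  set C := integralClosure (Localization.Away g) (Localization.Away (algebraMap R S g)) with hC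
  change y ∈ C
  -- generators
  have h1 : ∀ x ∈ G, algebraMap S (Localization.Away (algebraMap R S g)) x ∈ C := by
    intro x hx
    have i1 : IsIntegral R (algebraMap S (Localization.Away (algebraMap R S g)) (m x • x)) :=
      (hmi x).map (IsScalarTower.toAlgHom R S (Localization.Away (algebraMap R S g)))
    have i2 : IsIntegral (Localization.Away g)
        (algebraMap S (Localization.Away (algebraMap R S g)) (m x • x)) := i1.tower_top
    have hu : IsUnit (algebraMap R (Localization.Away g) (m x)) :=
      IsLocalization.Away.isUnit_of_dvd g (Finset.dvd_prod_of_mem m hx)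
    obtain ⟨v, hv⟩ := hu.exists_left_inv
    have e : algebraMap S (Localization.Away (algebraMap R S g)) x =
        algebraMap (Localization.Away g) (Localization.Away (algebraMap R S g)) v *
          algebraMap S (Localization.Away (algebraMap R S g)) (m x • x) := by
      have e0 : algebraMap S (Localization.Away (algebraMap R S g)) (algebraMap R S (m x)) =
          algebraMap (Localization.Away g) (Localization.Away (algebraMap R S g))
            (algebraMap R (Localization.Away g) (m x)) :=
        (IsScalarTower.algebraMap_apply R S _ (m x)).symm.trans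
          (IsScalarTower.algebraMap_apply R (Localization.Away g) _ (m x))
      rw [Algebra.smul_def, map_mul, e0, ← mul_assoc, ← map_mul, hv, map_one, one_mul]
    rw [e]
    exact C.mul_mem (C.algebraMap_mem v) i2
  have h2 : ∀ s : S, algebraMap S (Localization.Away (algebraMap R S g)) s ∈ C := by
    intro s
    have hs : s ∈ Algebra.adjoin R (G : Set S) := by rw [hG]; trivial
    induction hs using Algebra.adjoin_induction with
    | mem x hx => exact h1 x hx
    | algebraMap r =>
      have e0 : algebraMap S (Localization.Away (algebraMap R S g)) (algebraMap R S r) =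
          algebraMap (Localization.Away g) (Localization.Away (algebraMap R S g))
            (algebraMap R (Localization.Away g) r) :=
        (IsScalarTower.algebraMap_apply R S _ r).symm.trans
          (IsScalarTower.algebraMap_apply R (Localization.Away g) _ r)
      rw [e0]
      exact C.algebraMap_mem _
    | add x y _ _ hx hy => rw [map_add]; exact C.add_mem hx hy
    | mul x y _ _ hx hy => rw [map_mul]; exact C.mul_mem hx hy
  obtain ⟨n, a, hna⟩ := IsLocalization.Away.surj (algebraMap R S g) y
  have hu : IsUnit (algebraMap R (Localization.Away g) (g ^ n)) := by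
    rw [map_pow]; exact (IsLocalization.Away.algebraMap_isUnit g).pow n
  obtain ⟨v, hv⟩ := hu.exists_left_inv
  have e : y = algebraMap (Localization.Away g) (Localization.Away (algebraMap R S g)) v *
      algebraMap S (Localization.Away (algebraMap R S g)) a := by
    have e0 : algebraMap S (Localization.Away (algebraMap R S g)) (algebraMap R S (g ^ n)) =
        algebraMap (Localization.Away g) (Localization.Away (algebraMap R S g))
          (algebraMap R (Localization.Away g) (g ^ n)) :=
      (IsScalarTower.algebraMap_apply R S _ (g ^ n)).symm.trans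
        (IsScalarTower.algebraMap_apply R (Localization.Away g) _ (g ^ n))
    rw [← hna, ← map_pow, ← map_pow, e0, mul_left_comm, ← map_mul, hv, map_one, mul_one]
  rw [e]
  exact C.mul_mem (C.algebraMap_mem v) (h2 a)

end Groth.Agent.S9135
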