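import Groth.Statements.S9146
import Groth.Agent.Lib.T2H9SyntMor

set_option autoImplicit false
set_option linter.style.haveILetI false
universe u
open Synt

namespace Groth.Agent.S9146

open Groth.Agent.Lib.T2H9.SyntMor Groth.Agent.Lib.T2H9.CIBaseChange in
/-- the fibre local rings of a basic open localization are the fibre local rings -/
theorem fibLocRing_away_equiv {R S : Type u} [CommRing R] [CommRing S] [Algebra R S] (g : S)
    (q' : Ideal (Localization.Away g)) [q'.IsPrime] :
    Nonempty (EGA4.FibLocRing R (Localization.Away g) q' ≃+*
      EGA4.FibLocRing R S (q'.comap (algebraMap S (Localization.Away g)))) := by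
  have hp' : q'.comap (algebraMap R (Localization.Away g)) =
      (q'.comap (algebraMap S (Localization.Away g))).comap (algebraMap R S) := by
    rw [IsScalarTower.algebraMap_eq R S (Localization.Away g), ← Ideal.comap_comap]
  haveI : IsScalarTower S (Localization.Away g) (Localization.AtPrime q') := inferInstance
  haveI loc : IsLocalization.AtPrime (Localization.AtPrime q')
      (q'.comap (algebraMap S (Localization.Away g))) :=
    IsLocalization.isLocalization_isLocalization_atPrime_isLocalization (Submonoid.powers g)
      (Localization.AtPrime q') q'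
  let φ : Localization.AtPrime ((q'.comap (algebraMap S (Localization.Away g))).comap
      (algebraMap R S)) →+* Localization.AtPrime q' :=
    Localization.localRingHom _ q' (algebraMap R (Localization.Away g)) hp'.symm
  have hφ1 : φ.comp (algebraMap R _) =
      (algebraMap (Localization.Away g) (Localization.AtPrime q')).comp
        (algebraMap R (Localization.Away g)) := by
    ext a
    exact Localization.localRingHom_to_map _ _ _ hp'.symm a
  have hφ2 : φ.comp (algebraMap R _) =
      (algebraMap S (Localization.AtPrime q')).comp (algebraMap R S) := by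
    rw [hφ1]
    ext a
    simp only [RingHom.comp_apply]
    rw [IsScalarTower.algebraMap_apply R S (Localization.Away g)]
    rfl
  obtain ⟨e1⟩ := nonempty_quot_equiv_fibLocRing (A := R) (B := Localization.Away g)
    (A' := Localization.AtPrime ((q'.comap (algebraMap S (Localization.Away g))).comap
      (algebraMap R S))) (B' := Localization.AtPrime q') q' _ hp' φ hφ1
  obtain ⟨e2⟩ := nonempty_quot_equiv_fibLocRing (A := R) (B := S)
    (A' := Localization.AtPrime ((q'.comap (algebraMap S (Localization.Away g))).comap
      (algebraMap R S))) (B' := Localization.AtPrime q')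
    (q'.comap (algebraMap S (Localization.Away g))) _ rfl φ hφ2
  exact ⟨e1.symm.trans e2⟩

/-- Being syntomic is local on the target ring: if finitely many elements of S generating the unit ideal
have syntomic localizations R → S_g, then R → S is syntomic. -/
theorem result (R S : Type u) [CommRing R] [CommRing S] [Algebra R S]
    (s : Finset S) (hs : Ideal.span (s : Set S) = ⊤)
    (h : ∀ g ∈ s, Synt.IsSyntomic R (Localization.Away g)) : Synt.IsSyntomic R S := by
  rw [Groth.Agent.Lib.T2H9.SyntMor.isSyntomic_iff_fibLocRing]
  have h' := fun g hg => (Groth.Agent.Lib.T2H9.SyntMor.isSyntomic_iff_fibLocRing _ _).mp (h g hg)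
  refine ⟨?_, ?_, ?_⟩
  · rw [← RingHom.flat_algebraMap_iff]
    apply RingHom.Flat.ofLocalizationSpanTarget _ (s : Set S) hs
    rintro ⟨r, hr⟩
    rw [← IsScalarTower.algebraMap_eq, RingHom.flat_algebraMap_iff]
    exact (h' r hr).1
  · rw [← RingHom.finitePresentation_algebraMap]
    apply RingHom.finitePresentation_ofLocalizationSpanTarget _ (s : Set S) hs
    rintro ⟨r, hr⟩
    rw [← IsScalarTower.algebraMap_eq, RingHom.finitePresentation_algebraMap]
    exact (h' r hr).2.1
  · intro q hq
    have hex : ∃ g ∈ s, g ∉ q := by
      by_contra hcon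
      push Not at hcon
      have hle : Ideal.span (s : Set S) ≤ q := Ideal.span_le.mpr fun g hg => hcon g hg
      rw [hs] at hle
      exact hq.ne_top (top_le_iff.mp hle)
    obtain ⟨g, hgs, hgq⟩ := hex
    have hd : Disjoint (Submonoid.powers g : Set S) q := by
      rw [Set.disjoint_left]
      rintro x ⟨n, rfl⟩ hx
      exact hgq (hq.mem_of_pow_mem n hx)
    haveI hq' : (q.map (algebraMap S (Localization.Away g))).IsPrime :=
      IsLocalization.isPrime_of_isPrime_disjoint (Submonoid.powers g) _ q hq hd
    have hcomap : (q.map (algebraMap S (Localization.Away g))).comap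
        (algebraMap S (Localization.Away g)) = q :=
      IsLocalization.under_map_of_isPrime_disjoint (Submonoid.powers g) _ hq hd
    obtain ⟨e⟩ := fibLocRing_away_equiv (R := R) g (q.map (algebraMap S (Localization.Away g)))
    have hP := (h' g hgs).2.2 (q.map (algebraMap S (Localization.Away g)))
    have hP' := Groth.Agent.Lib.T2H9.CIBaseChange.isoInv_pci _ _ e hP
    have key : ∀ (q₁ : Ideal S) (h₁ : q₁.IsPrime) (q₂ : Ideal S) (h₂ : q₂.IsPrime), q₁ = q₂ →
        Groth.Agent.Lib.T2H9.CIBaseChange.PCI (EGA4.FibLocRing R S q₁) →
        Groth.Agent.Lib.T2H9.CIBaseChange.PCI (EGA4.FibLocRing R S q₂) := by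
      intro q₁ h₁ q₂ h₂ heq
      subst heq
      exact id
    exact key _ _ _ _ hcomap hP'

end Groth.Agent.S9146
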