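import Groth.Statements.S9149
import Groth.Agent.Lib.T2H9SyntComp
import Groth.Agent.S18945

set_option autoImplicit false
set_option linter.style.haveILetI false
universe u
open Synt

namespace Groth.Agent.S9149

open Polynomial in
theorem aux : ∀ (n : ℕ) (A : Type u) [CommRing A] (P : A[X]), P.Monic → P.natDegree = n →
    ∃ (A' : Type u) (_ : CommRing A') (_ : Algebra A A'),
      Synt.IsSyntomic A A' ∧ Module.Finite A A' ∧ Module.Free A A' ∧ Module.FaithfullyFlat A A' ∧
        ∃ s : Multiset A', P.map (algebraMap A A') = (s.map fun b => X - C b).prod := by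
  intro n
  induction n with
  | zero =>
    intro A _ P hP hdeg
    have hP1 : P = 1 := hP.natDegree_eq_zero.mp hdeg
    refine ⟨A, inferInstance, inferInstance, Groth.Agent.Lib.T2H9.SyntComp.isSyntomic_self A,
      inferInstance, inferInstance, inferInstance, 0, ?_⟩
    rw [hP1]
    simp
  | succ n ih =>
    intro A _ P hP hdeg
    haveI : Nontrivial A := by
      by_contra hnt
      rw [not_nontrivial_iff_subsingleton] at hnt
      have : P = 0 := Subsingleton.elim _ _
      rw [this, natDegree_zero] at hdeg
      omega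
    -- first step: adjoin a root
    obtain ⟨hs1, hff1⟩ := Groth.Agent.S18933.synt_of_equiv (fun _ : Fin 1 => P) (fun _ => hP)
      (fun _ _ => by rw [hdeg]; omega) (Groth.Agent.S18945.oneEquiv P)
    haveI hfin1 : Module.Finite A (AdjoinRoot P) := hP.finite_adjoinRoot
    haveI hfree1 : Module.Free A (AdjoinRoot P) := hP.free_adjoinRoot
    haveI : Nontrivial (AdjoinRoot P) := by
      apply Module.nontrivial_of_finrank_pos (R := A)
      rw [(AdjoinRoot.powerBasis' hP).finrank, AdjoinRoot.powerBasis'_dim, hdeg]
      omega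
    have hroot : (P.map (algebraMap A (AdjoinRoot P))).IsRoot (AdjoinRoot.root P) :=
      AdjoinRoot.isRoot_root P
    have hmul : (X - C (AdjoinRoot.root P)) * (P.map (algebraMap A (AdjoinRoot P)) /ₘ
        (X - C (AdjoinRoot.root P))) = P.map (algebraMap A (AdjoinRoot P)) :=
      Polynomial.mul_divByMonic_eq_iff_isRoot.mpr hroot
    have hPm : (P.map (algebraMap A (AdjoinRoot P))).Monic := hP.map _
    have hdegm : (P.map (algebraMap A (AdjoinRoot P))).natDegree = n + 1 := by
      rw [hP.natDegree_map, hdeg]
    have hQmonic : (P.map (algebraMap A (AdjoinRoot P)) /ₘ (X - C (AdjoinRoot.root P))).Monic := by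
      have h1 : (X - C (AdjoinRoot.root P)).degree ≤ (P.map (algebraMap A (AdjoinRoot P))).degree := by
        rw [degree_X_sub_C, degree_eq_natDegree hPm.ne_zero, hdegm]
        exact_mod_cast Nat.succ_le_succ (Nat.zero_le n)
      have := Polynomial.leadingCoeff_divByMonic_of_monic (monic_X_sub_C (AdjoinRoot.root P)) h1
      rw [Monic, this]
      exact hPm
    have hQdeg : (P.map (algebraMap A (AdjoinRoot P)) /ₘ (X - C (AdjoinRoot.root P))).natDegree = n := by
      rw [Polynomial.natDegree_divByMonic _ (monic_X_sub_C _), hdegm, natDegree_X_sub_C]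
      omega
    obtain ⟨A₂, i1, i2, hs2, hfin2, hfree2, hff2, s, hsplit⟩ := ih (AdjoinRoot P) _ hQmonic hQdeg
    letI algA : Algebra A A₂ := ((algebraMap (AdjoinRoot P) A₂).comp (algebraMap A (AdjoinRoot P))).toAlgebra
    haveI : IsScalarTower A (AdjoinRoot P) A₂ := IsScalarTower.of_algebraMap_eq fun _ => rfl
    refine ⟨A₂, i1, algA, Groth.Agent.Lib.T2H9.SyntComp.isSyntomic_comp A (AdjoinRoot P) A₂ hs1 hs2,
      Module.Finite.trans (AdjoinRoot P) A₂, Module.Free.trans (S := AdjoinRoot P), Module.FaithfullyFlat.trans A (AdjoinRoot P) A₂,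
      algebraMap (AdjoinRoot P) A₂ (AdjoinRoot.root P) ::ₘ s, ?_⟩
    have h1 : P.map (algebraMap A A₂) = (P.map (algebraMap A (AdjoinRoot P))).map (algebraMap (AdjoinRoot P) A₂) := by
      rw [Polynomial.map_map]
      rfl
    rw [h1, ← hmul, Polynomial.map_mul, hsplit, Multiset.map_cons, Multiset.prod_cons]
    simp


open Polynomial in
/-- A monic polynomial over a ring A splits into linear factors over some A-algebra A' that is syntomic,
finite free and faithfully flat over A. -/
theorem result (A : Type u) [CommRing A] (P : A[X]) (hP : P.Monic) :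
    ∃ (A' : Type u) (_ : CommRing A') (_ : Algebra A A'),
      Synt.IsSyntomic A A' ∧ Module.Finite A A' ∧ Module.Free A A' ∧ Module.FaithfullyFlat A A' ∧
        ∃ s : Multiset A', P.map (algebraMap A A') = (s.map fun b => X - C b).prod := by
  exact aux P.natDegree A P hP rfl

end Groth.Agent.S9149
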