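import Groth.Statements.S9166
import Mathlib

set_option autoImplicit false
set_option linter.style.haveILetI false
universe u
open CAlg

namespace Groth.Agent.S9166

open scoped BigOperators

theorem flat_quot (R S S' : Type u) [CommRing R] [CommRing S] [CommRing S'] [Algebra R S]
    [Algebra R S'] (f : S →ₐ[R] S') (hf : Function.Surjective f) (q : Ideal S) [q.IsPrime]
    (hflat : letI : Module S S' := f.toRingHom.toModule
      Module.Flat R (LocalizedModule q.primeCompl S')) :
    Module.Flat R (Localization.AtPrime q ⧸
      (RingHom.ker f.toRingHom).map (algebraMap S (Localization.AtPrime q))) := by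
  letI : Module S S' := f.toRingHom.toModule
  have hsmul : ∀ (s : S) (x : S'), s • x = f s * x := fun s x => rfl
  let fl : S →ₗ[S] S' :=
    { toFun := f
      map_add' := map_add f
      map_smul' := fun s x => by simp [hsmul] }
  have hfl : Function.Surjective fl := hf
  let J : Ideal S := RingHom.ker f.toRingHom
  have hker : LinearMap.ker fl = J := by
    ext x
    rfl
  let e₀ : (S ⧸ J) ≃ₗ[S] S' :=
    (Submodule.quotEquivOfEq _ _ hker.symm).trans (fl.quotKerEquivOfSurjective hfl)
  let g₁ := Submodule.toLocalizedQuotient' (Localization.AtPrime q) q.primeCompl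
    (Algebra.linearMap S (Localization.AtPrime q)) J
  let g₂ := g₁ ∘ₗ e₀.symm.toLinearMap
  haveI : IsLocalizedModule q.primeCompl g₂ := IsLocalizedModule.of_linearEquiv_right _ _ e₀.symm
  let e := IsLocalizedModule.iso q.primeCompl g₂
  have heR : ∀ (r : R) (x : LocalizedModule q.primeCompl S'), e (r • x) = r • e x := by
    intro r x
    have h1 : r • x = (algebraMap R S r) • x := by
      rw [Algebra.algebraMap_eq_smul_one]
      exact (OreLocalization.smul_one_smul r x).symm
    rw [h1, map_smul, algebraMap_smul]
  let eR : LocalizedModule q.primeCompl S' ≃ₗ[R] (Localization.AtPrime q ⧸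
      J.localized' (Localization.AtPrime q) q.primeCompl
        (Algebra.linearMap S (Localization.AtPrime q))) :=
    { e.toAddEquiv with
      map_smul' := heR }
  have h2 : Module.Flat R (Localization.AtPrime q ⧸
      J.localized' (Localization.AtPrime q) q.primeCompl
        (Algebra.linearMap S (Localization.AtPrime q))) := Module.Flat.of_linearEquiv eR.symm
  have h3 : J.localized' (Localization.AtPrime q) q.primeCompl
        (Algebra.linearMap S (Localization.AtPrime q)) =
      J.map (algebraMap S (Localization.AtPrime q)) :=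
    Ideal.localized'_eq_map (Localization.AtPrime q) q.primeCompl J
  rw [h3] at h2
  exact h2


theorem inf_map_le_mul_of_flat_quotient (R T : Type u) [CommRing R] [CommRing T] [Algebra R T]
    (N : Ideal T) (I : Ideal R) [Module.Flat R (T ⧸ N)] :
    N ⊓ I.map (algebraMap R T) ≤ I.map (algebraMap R T) * N := by
  classical
  intro x hx
  obtain ⟨hxN, hxI'⟩ := Ideal.mem_inf.mp hx
  have hxI : x ∈ Ideal.span ((algebraMap R T) '' (I : Set R)) := hxI'
  obtain ⟨t, ht, c, rfl⟩ := (Submodule.mem_span_image_iff_exists_fun (R := T)).mp hxI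
  set π : T →ₐ[R] T ⧸ N := Ideal.Quotient.mkₐ R N with hπ
  have hπ0 : ∀ y, π y = 0 ↔ y ∈ N := fun y => Ideal.Quotient.eq_zero_iff_mem
  have hπs : Function.Surjective π := Ideal.Quotient.mkₐ_surjective R N
  have hrel : ∑ a : t, (a : R) • π (c a) = 0 := by
    have : π (∑ a : t, c a • algebraMap R T a) = 0 := (hπ0 _).mpr hxN
    rw [← this, map_sum]
    refine Finset.sum_congr rfl fun a _ => ?_
    rw [← map_smul, Algebra.smul_def, smul_eq_mul, mul_comm]
  have h := Module.Flat.isTrivialRelation_of_sum_smul_eq_zero (R := R) (M := T ⧸ N)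
    (f := fun a : t => (a : R)) (x := fun a : t => π (c a)) hrel
  have h' : ∃ (k : ℕ) (b : t → Fin k → R) (y : Fin k → T ⧸ N),
    (∀ i : t, π (c i) = ∑ j, b i j • y j) ∧ ∀ j, ∑ i : t, (i : R) * b i j = 0 := h
  obtain ⟨k, b, y, hy, hb⟩ := h'
  choose z hz using fun j => hπs (y j)
  have hn : ∀ a : t, c a - ∑ j, b a j • z j ∈ N := by
    intro a
    rw [← hπ0, map_sub, hy a, map_sum, sub_eq_zero]
    refine Finset.sum_congr rfl fun j _ => ?_
    rw [map_smul, hz]
  have key : ∑ a : t, c a • algebraMap R T a =
      ∑ a : t, algebraMap R T a * (c a - ∑ j, b a j • z j) := by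
    have h0 : ∑ a : t, algebraMap R T a * ∑ j, b a j • z j = 0 := by
      simp_rw [Finset.mul_sum]
      rw [Finset.sum_comm]
      refine Finset.sum_eq_zero fun j _ => ?_
      have : ∀ a : t, algebraMap R T a * b a j • z j = ((a : R) * b a j) • z j := by
        intro a
        rw [mul_smul, Algebra.smul_def (a : R)]
      simp_rw [this]
      rw [← Finset.sum_smul, hb j, zero_smul]
    simp_rw [mul_sub]
    rw [Finset.sum_sub_distrib, h0, sub_zero]
    refine Finset.sum_congr rfl fun a _ => ?_
    rw [smul_eq_mul, mul_comm]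
  rw [key]
  refine Ideal.sum_mem _ fun a _ => Ideal.mul_mem_mul ?_ (hn a)
  exact Ideal.mem_map_of_mem _ (ht a.2)


theorem ker_fg (R S S' : Type u) [CommRing R] [CommRing S]
    [CommRing S'] [Algebra R S] [Algebra R S'] [Algebra.FiniteType R S]
    [Algebra.FinitePresentation R S'] (f : S →ₐ[R] S') (hf : Function.Surjective f) :
    (RingHom.ker f.toRingHom).FG := by
  obtain ⟨n, g, hg⟩ := Algebra.FiniteType.iff_quotient_mvPolynomial''.mp
    (inferInstance : Algebra.FiniteType R S)
  convert! (Algebra.FinitePresentation.ker_fg_of_mvPolynomial (f.comp g) (hf.comp hg)).map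
    g.toRingHom
  simp_rw [RingHom.ker_eq_comap_bot, AlgHom.toRingHom_eq_coe, AlgHom.comp_toRingHom]
  rw [← Ideal.comap_comap, Ideal.map_comap_of_surjective (g : MvPolynomial (Fin n) R →+* S) hg]

/-- Let I be an ideal of a ring R, S → S' a surjective homomorphism of R-algebras with S of finite type
and S' of finite presentation over R, and q a prime of S containing IS. Assume S'_q is flat over R
and that S_q/IS_q → S'_q/IS'_q is an isomorphism, which for a surjection says: every element of the
kernel of S → S' maps into I·S_q. Then for some g ∉ q the localized map S_g → S'_g is bijective. -/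
theorem result (R S S' : Type u) [CommRing R] [CommRing S]
    [CommRing S'] [Algebra R S] [Algebra R S'] [Algebra.FiniteType R S] [Algebra.FinitePresentation R S']
    (I : Ideal R) (f : S →ₐ[R] S') (hf : Function.Surjective f) (q : Ideal S) [q.IsPrime]
    (hq : I.map (algebraMap R S) ≤ q)
    (hker : ∀ j : S, f j = 0 →
      algebraMap S (Localization.AtPrime q) j ∈ I.map (algebraMap R (Localization.AtPrime q)))
    (hflat : letI : Module S S' := f.toRingHom.toModule
      Module.Flat R (LocalizedModule q.primeCompl S')) :
    ∃ g : S, g ∉ q ∧ Function.Bijective (Localization.awayMap f.toRingHom g) := by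
  classical
  have hflatQ : Module.Flat R (Localization.AtPrime q ⧸
      (RingHom.ker f.toRingHom).map (algebraMap S (Localization.AtPrime q))) :=
    flat_quot R S S' f hf q hflat
  have hJfg : (RingHom.ker f.toRingHom).FG := ker_fg R S S' f hf
  set J : Ideal S := RingHom.ker f.toRingHom with hJ
  set N : Ideal (Localization.AtPrime q) := J.map (algebraMap S (Localization.AtPrime q)) with hNdef
  have h3 : I.map (algebraMap R (Localization.AtPrime q)) ≤
      IsLocalRing.maximalIdeal (Localization.AtPrime q) := by
    rw [IsScalarTower.algebraMap_eq R S (Localization.AtPrime q), ← Ideal.map_map]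
    exact (Ideal.map_mono hq).trans (le_of_eq (Localization.AtPrime.map_eq_maximalIdeal))
  have hN : N ≤ IsLocalRing.maximalIdeal (Localization.AtPrime q) * N := by
    rw [hNdef, Ideal.map_le_iff_le_comap]
    intro j hj
    have h1 : algebraMap S (Localization.AtPrime q) j ∈
        N ⊓ I.map (algebraMap R (Localization.AtPrime q)) :=
      ⟨Ideal.mem_map_of_mem _ hj, hker j hj⟩
    have h2 := inf_map_le_mul_of_flat_quotient R (Localization.AtPrime q) N I h1
    exact Ideal.mul_mono_left h3 h2
  have hN0 : N = ⊥ :=
    Submodule.eq_bot_of_le_smul_of_le_jacobson_bot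
      (IsLocalRing.maximalIdeal (Localization.AtPrime q)) N (hJfg.map _)
      (by rwa [smul_eq_mul]) (by rw [IsLocalRing.jacobson_eq_maximalIdeal ⊥ bot_ne_top])
  obtain ⟨s, hs⟩ := hJfg
  have hkill : ∀ j ∈ s, ∃ g : q.primeCompl, (g : S) * j = 0 := by
    intro j hj
    have hmem : algebraMap S (Localization.AtPrime q) j ∈ N :=
      Ideal.mem_map_of_mem _ (hs ▸ Ideal.subset_span hj)
    rw [hN0, Ideal.mem_bot] at hmem
    exact (IsLocalization.map_eq_zero_iff q.primeCompl (Localization.AtPrime q) j).mp hmem
  choose! g hg using hkill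
  refine ⟨∏ j ∈ s, (g j : S), ?_, ?_⟩
  · exact (Submonoid.prod_mem q.primeCompl (fun j _ => (g j).2) : _ ∈ q.primeCompl)
  · refine ⟨Localization.awayMap_injective_iff.mpr ?_, Localization.awayMap_surjective_iff.mpr ?_⟩
    · have hall : ∀ a ∈ Ideal.span (s : Set S), (∏ j ∈ s, (g j : S)) * a = 0 := by
        intro a haJ
        induction haJ using Submodule.span_induction with
        | mem x hx =>
          rw [← Finset.prod_erase_mul _ _ hx, mul_assoc, hg x hx, mul_zero]
        | zero => rw [mul_zero]
        | add x y _ _ hx hy => rw [mul_add, hx, hy, add_zero]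
        | smul r x _ hx => rw [smul_eq_mul, mul_left_comm, hx, mul_zero]
      intro a ha
      refine ⟨1, ?_⟩
      rw [pow_one]
      exact hall a (by rw [hs]; exact ha)
    · intro a
      obtain ⟨b, rfl⟩ := hf a
      exact ⟨b, 0, by simp⟩

end Groth.Agent.S9166
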