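import Groth.Statements.S9168
import Mathlib

set_option autoImplicit false
universe u
open CAlg

namespace Groth.Agent.S9168

theorem exists_local_subring {A T : Type*} [CommRing A] [CommRing T] [IsLocalRing T]
    (g : A →+* T) :
    ∃ (T₀ : Subring T) (h : ∀ a, g a ∈ T₀), ∃ (_ : IsLocalRing T₀),
      IsLocalHom T₀.subtype ∧ (g.codRestrict T₀ h).EssFiniteType := by
  classical
  set B : Subring T := g.range with hB
  set p : Ideal B := (IsLocalRing.maximalIdeal T).comap B.subtype with hp
  haveI : p.IsPrime := Ideal.comap_isPrime _ _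
  have hunits : ∀ y : p.primeCompl, IsUnit (B.subtype y) := by
    intro y
    have h' : B.subtype (y : B) ∉ IsLocalRing.maximalIdeal T := fun h => y.2 h
    exact IsLocalRing.notMem_maximalIdeal.mp h'
  set ι : Localization.AtPrime p →+* T := IsLocalization.lift hunits with hι
  set T₀ : Subring T := ι.range with hT₀
  have hmem : ∀ a, g a ∈ T₀ := fun a =>
    ⟨algebraMap B _ ⟨g a, a, rfl⟩, by rw [hι, IsLocalization.lift_eq]; rfl⟩
  haveI : IsLocalRing T₀ := IsLocalRing.of_surjective' ι.rangeRestrict ι.rangeRestrict_surjective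
  refine ⟨T₀, hmem, inferInstance, ?_, ?_⟩
  · refine ⟨fun z hz => ?_⟩
    obtain ⟨l, rfl⟩ := ι.rangeRestrict_surjective z
    suffices IsUnit l from this.map ι.rangeRestrict
    obtain ⟨b, s, rfl⟩ := IsLocalization.exists_mk'_eq p.primeCompl l
    rw [IsLocalization.AtPrime.isUnit_mk'_iff (Localization.AtPrime p) p]
    have h1 : (b : T) = (s : B) * ι (IsLocalization.mk' _ b s) :=
      (IsLocalization.lift_mk'_spec (S := Localization.AtPrime p) (hg := hunits) b
        (ι (IsLocalization.mk' _ b s)) s).mp rfl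
    have h2 : IsUnit (ι (IsLocalization.mk' (Localization.AtPrime p) b s)) := hz
    have h3 : IsUnit (b : T) := by
      rw [h1]; exact (hunits s).mul h2
    intro hb
    have : (b : T) ∈ IsLocalRing.maximalIdeal T := hb
    exact (IsLocalRing.mem_maximalIdeal _).mp this h3
  · have h1 : (g.rangeRestrict : A →+* B).EssFiniteType :=
      (RingHom.FiniteType.of_surjective _ g.rangeRestrict_surjective).essFiniteType
    have h2 : (algebraMap B (Localization.AtPrime p)).EssFiniteType :=
      RingHom.essFiniteType_algebraMap.mpr (Algebra.EssFiniteType.of_isLocalization _ p.primeCompl)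
    have h3 : (ι.rangeRestrict).EssFiniteType :=
      (RingHom.FiniteType.of_surjective _ ι.rangeRestrict_surjective).essFiniteType
    have heq : g.codRestrict T₀ hmem =
        ι.rangeRestrict.comp ((algebraMap B (Localization.AtPrime p)).comp g.rangeRestrict) := by
      ext a
      simp only [hι, RingHom.codRestrict_apply, RingHom.comp_apply, RingHom.coe_rangeRestrict,
        IsLocalization.lift_eq]
      rfl
    rw [heq]
    exact (h1.comp h2).comp h3


/-- For a local homomorphism of local rings R → S and finite subsets E ⊆ R, F ⊆ S there are local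
subrings R₀ ⊆ R and S₀ ⊆ S containing E and F, with R → S mapping R₀ into S₀, such that the
inclusions and the induced map R₀ → S₀ are local homomorphisms, R₀ is essentially of finite type
over ℤ and S₀ is essentially of finite type over R₀. (So R → S is the directed colimit of such R₀ →
S₀.) -/
theorem result (R S : Type u) [CommRing R] [CommRing S] [IsLocalRing R]
    [IsLocalRing S] [Algebra R S] [IsLocalHom (algebraMap R S)] (E : Finset R) (F : Finset S) :
    ∃ (R₀ : Subring R) (S₀ : Subring S) (h : ∀ x ∈ R₀, algebraMap R S x ∈ S₀),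
      (E : Set R) ⊆ R₀ ∧ (F : Set S) ⊆ S₀ ∧ ∃ (_ : IsLocalRing R₀) (_ : IsLocalRing S₀),
        IsLocalHom R₀.subtype ∧ IsLocalHom S₀.subtype ∧
          IsLocalHom ((algebraMap R S).restrict R₀ S₀ h) ∧
          (algebraMap ℤ R₀).EssFiniteType ∧ ((algebraMap R S).restrict R₀ S₀ h).EssFiniteType := by
  classical
  obtain ⟨R₀, hR₀mem, hR₀loc, hR₀hom, hR₀ess⟩ := exists_local_subring
    (MvPolynomial.eval₂Hom (Int.castRingHom R) (fun e : E => (e : R)))
  let g₂ : MvPolynomial F R₀ →+* S :=
    MvPolynomial.eval₂Hom ((algebraMap R S).comp R₀.subtype) (fun f : F => (f : S))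
  obtain ⟨S₀, hS₀mem, hS₀loc, hS₀hom, hS₀ess⟩ := exists_local_subring g₂
  have h : ∀ x ∈ R₀, algebraMap R S x ∈ S₀ := fun x hx => by
    have := hS₀mem (MvPolynomial.C ⟨x, hx⟩)
    simpa [g₂] using this
  refine ⟨R₀, S₀, h, ?_, ?_, hR₀loc, hS₀loc, hR₀hom, hS₀hom, ?_, ?_, ?_⟩
  · intro e he
    have := hR₀mem (MvPolynomial.X ⟨e, he⟩)
    simpa using this
  · intro f hf
    have := hS₀mem (MvPolynomial.X ⟨f, hf⟩)
    simpa [g₂] using this
  · refine ⟨fun x hx => ?_⟩
    have h1 : IsUnit (S₀.subtype ((algebraMap R S).restrict R₀ S₀ h x)) := hx.map S₀.subtype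
    have h2 : IsUnit (algebraMap R S (x : R)) := h1
    have h3 : IsUnit (x : R) := isUnit_of_map_unit (algebraMap R S) _ h2
    exact isUnit_of_map_unit R₀.subtype x h3
  · have : algebraMap ℤ R₀ = (RingHom.codRestrict _ R₀ hR₀mem).comp
        (algebraMap ℤ (MvPolynomial E ℤ)) := RingHom.ext_int _ _
    rw [this]
    exact (RingHom.essFiniteType_algebraMap.mpr inferInstance).comp hR₀ess
  · have : (algebraMap R S).restrict R₀ S₀ h =
        (g₂.codRestrict S₀ hS₀mem).comp (algebraMap R₀ (MvPolynomial F R₀)) := by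
      ext x
      simp [g₂]
    rw [this]
    exact (RingHom.essFiniteType_algebraMap.mpr inferInstance).comp hS₀ess

end Groth.Agent.S9168
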