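import Groth.Statements.S9169
import Groth.Agent.Lib.T2H7SyntP
import Groth.Agent.Lib.T2H7SyntR

set_option autoImplicit false
universe u
open Synt

namespace Groth.Agent.S9169

open TensorProduct in
/-- Let R → S be a ring map and q a prime of S lying over p; write Q for the prime of the fibre ring
κ(p) ⊗ S that pulls back to q. Equivalent: (1) some basic open neighbourhood S_g of q is syntomic
over R; (2) some S_g is isomorphic over R to a relative global complete intersection; (3) some S_g
is of finite presentation over R, the local ring S_q is flat over R (equivalently over R_p), and the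
fibre local ring (κ(p) ⊗ S)_Q is a complete intersection over κ(p). Stated as (1) ↔ (2) and (1) ↔
(3). -/
theorem result (R S : Type u) [CommRing R] [CommRing S] [Algebra R S]
    (p : Ideal R) [p.IsPrime] (q : Ideal S) [q.IsPrime] [q.LiesOver p]
    (Q : Ideal (p.Fiber S)) [Q.IsPrime]
    (hQ : Q.comap (Algebra.TensorProduct.includeRight.toRingHom) = q) :
    ((∃ g : S, g ∉ q ∧ Synt.IsSyntomic R (Localization.Away g)) ↔
        ∃ g : S, g ∉ q ∧ ∃ (n c : ℕ) (F : Fin c → MvPolynomial (Fin n) R), Synt.IsRelGCI R n c F ∧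
          Nonempty (Localization.Away g ≃ₐ[R] Synt.RelGCIRing R n c F)) ∧
      ((∃ g : S, g ∉ q ∧ Synt.IsSyntomic R (Localization.Away g)) ↔
        ∃ g : S, g ∉ q ∧ Algebra.FinitePresentation R (Localization.Away g) ∧
          Module.Flat R (Localization.AtPrime q) ∧
          Synt.IsCIOver p.ResidueField (Localization.AtPrime Q)) := by
  refine ⟨⟨Groth.Agent.Lib.T2H7.SyntP.exists_relGCI_of_exists_syntomic R S q,
    Groth.Agent.Lib.T2H7.SyntP.exists_syntomic_of_exists_relGCI R S q⟩, ⟨?_, ?_⟩⟩
  · rintro ⟨g, hg, hsyn⟩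
    obtain ⟨hflat, hfp, hfib⟩ := hsyn
    exact ⟨g, hg, hfp, Groth.Agent.Lib.T2H7.SyntP.flat_atPrime_of_flat_away R S q g hg hflat,
      Groth.Agent.Lib.T2H7.SyntP.isCIOver_atPrime_fibre_of_away R S p q Q hQ g hg
        (hfib ⟨p, inferInstance⟩)⟩
  · intro h
    exact Groth.Agent.Lib.T2H7.SyntP.exists_syntomic_of_exists_relGCI R S q
      (Groth.Agent.Lib.T2H7.SyntR.exists_relGCI_of_local_conditions R S p q Q hQ h)

end Groth.Agent.S9169
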