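import Groth.Statements.S9179
import Mathlib

set_option autoImplicit false
universe u
open CategoryTheory CategoryTheory.Limits
open CAlg

namespace Groth.Agent.S9179

section Construction

variable {R A : Type u} [CommRing R] [CommRing A] [Algebra R A] {n : ℕ}
  (φ : MvPolynomial (Fin n) R →ₐ[R] A)

/-- the ideal generated by a finite set of elements of the kernel -/
noncomputable def idl (T : Finset (RingHom.ker φ)) : Ideal (MvPolynomial (Fin n) R) :=
  Ideal.span ((fun k : RingHom.ker φ => (k : MvPolynomial (Fin n) R)) '' (T : Set (RingHom.ker φ)))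

lemma idl_mono {T T' : Finset (RingHom.ker φ)} (h : T ≤ T') : idl φ T ≤ idl φ T' :=
  Ideal.span_mono (Set.image_mono (by exact_mod_cast h))

lemma idl_le_ker (T : Finset (RingHom.ker φ)) : idl φ T ≤ RingHom.ker φ := by
  rw [idl, Ideal.span_le]
  rintro _ ⟨k, -, rfl⟩
  exact k.2

lemma idl_fg (T : Finset (RingHom.ker φ)) : (idl φ T).FG := by
  classical
  refine ⟨T.image (fun k : RingHom.ker φ => (k : MvPolynomial (Fin n) R)), ?_⟩
  rw [Finset.coe_image]
  rfl

/-- the map to `A` -/
noncomputable def iota (T : Finset (RingHom.ker φ)) :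
    (MvPolynomial (Fin n) R ⧸ idl φ T) →+* A :=
  Ideal.Quotient.lift (idl φ T) φ.toRingHom (fun _ ha => idl_le_ker φ T ha)

lemma iota_mk (T : Finset (RingHom.ker φ)) (p : MvPolynomial (Fin n) R) :
    iota φ T (Ideal.Quotient.mk _ p) = φ p := rfl

/-- The diagram. -/
noncomputable def F : Finset (RingHom.ker φ) ⥤ Under (CommRingCat.of R) where
  obj T := Under.mk (CommRingCat.ofHom (algebraMap R (MvPolynomial (Fin n) R ⧸ idl φ T)))
  map {T T'} f := Under.homMk (CommRingCat.ofHom (Ideal.Quotient.factor (idl_mono φ (leOfHom f)))) (by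
    ext a
    rfl)
  map_id T := by
    apply Under.UnderMorphism.ext
    apply CommRingCat.hom_ext
    refine RingHom.ext fun x => ?_
    obtain ⟨p, rfl⟩ := Ideal.Quotient.mk_surjective x
    rfl
  map_comp {j k l} f g := by
    apply Under.UnderMorphism.ext
    apply CommRingCat.hom_ext
    refine RingHom.ext fun x => ?_
    obtain ⟨p, rfl⟩ := Ideal.Quotient.mk_surjective x
    rfl

/-- The cocone. -/
noncomputable def cocone : Cocone (F φ) where
  pt := Under.mk (CommRingCat.ofHom (algebraMap R A))
  ι :=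
    { app := fun T => Under.homMk (CommRingCat.ofHom (iota φ T)) (by
        ext a
        exact φ.commutes a)
      naturality := by
        intro j k f
        apply Under.UnderMorphism.ext
        apply CommRingCat.hom_ext
        refine RingHom.ext fun x => ?_
        obtain ⟨p, rfl⟩ := Ideal.Quotient.mk_surjective x
        rfl }

/-- The cocone is a colimit. -/
noncomputable def isColimitCocone (hφ : Function.Surjective φ) : IsColimit (cocone φ) := by
  classical
  haveI : IsConnected (Finset (RingHom.ker φ)) := IsFiltered.isConnected _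
  apply isColimitOfReflects (Under.forget (CommRingCat.of R))
  haveI : ReflectsColimit (F φ ⋙ Under.forget (CommRingCat.of R)) (forget CommRingCat.{u}) :=
    reflectsColimit_of_reflectsIsomorphisms _ _
  apply isColimitOfReflects (forget CommRingCat.{u})
  apply Types.FilteredColimit.isColimitOf'
  · intro x
    have hx : ∃ b : A, b = x := ⟨x, rfl⟩
    obtain ⟨b, hb⟩ := hx
    obtain ⟨p, hp⟩ := hφ b
    refine ⟨∅, Ideal.Quotient.mk _ p, ?_⟩
    rw [← hb, ← hp]
    rfl
  · intro j x y hxy
    have hx : ∃ x' : MvPolynomial (Fin n) R ⧸ idl φ j, x' = x := ⟨x, rfl⟩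
    obtain ⟨x', hx'⟩ := hx
    have hy : ∃ y' : MvPolynomial (Fin n) R ⧸ idl φ j, y' = y := ⟨y, rfl⟩
    obtain ⟨y', hy'⟩ := hy
    have hxy' : iota φ j x' = iota φ j y' := by
      rw [hx', hy']
      exact hxy
    obtain ⟨p, hp⟩ := Ideal.Quotient.mk_surjective x'
    obtain ⟨q, hq⟩ := Ideal.Quotient.mk_surjective y'
    rw [← hp, ← hq, iota_mk, iota_mk] at hxy'
    have hk : p - q ∈ RingHom.ker φ := by
      rw [RingHom.mem_ker, map_sub, hxy', sub_self]
    refine ⟨insert ⟨p - q, hk⟩ j, homOfLE (Finset.subset_insert _ _), ?_⟩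
    rw [← hx', ← hy', ← hp, ← hq]
    have hle : idl φ j ≤ idl φ (insert ⟨p - q, hk⟩ j) := idl_mono φ (Finset.subset_insert _ _)
    show Ideal.Quotient.factor hle (Ideal.Quotient.mk _ p) =
      Ideal.Quotient.factor hle (Ideal.Quotient.mk _ q)
    rw [Ideal.Quotient.factor_mk, Ideal.Quotient.factor_mk, Ideal.Quotient.eq]
    refine Ideal.subset_span ⟨⟨p - q, hk⟩, ?_, rfl⟩
    simp

end Construction

theorem result (R A : Type u) [CommRing R] [CommRing A]
    [Algebra R A] [Algebra.FiniteType R A] :
    ∃ (I : Type u) (_ : SmallCategory I) (_ : IsFiltered I) (D : I ⥤ Under (CommRingCat.of R))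
      (c : Cocone D) (_ : IsColimit c),
      (∀ i, (D.obj i).hom.hom.FinitePresentation) ∧
      (∀ (i j : I) (φ : i ⟶ j), Function.Surjective (D.map φ).right.hom) ∧
      Nonempty (c.pt ≅ Under.mk (CommRingCat.ofHom (algebraMap R A))) := by
  obtain ⟨n, φ, hφ⟩ := Algebra.FiniteType.iff_quotient_mvPolynomial''.mp
    (inferInstance : Algebra.FiniteType R A)
  refine ⟨Finset (RingHom.ker φ), inferInstance, inferInstance, F φ, cocone φ, isColimitCocone φ hφ,
    ?_, ?_, ⟨Iso.refl _⟩⟩
  · intro T
    exact RingHom.finitePresentation_algebraMap.mpr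
      (Algebra.FinitePresentation.quotient (idl_fg φ T))
  · intro T T' f
    exact Ideal.Quotient.factor_surjective (idl_mono φ (leOfHom f))

end Groth.Agent.S9179
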