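import Groth.Statements.S9203
import Mathlib
import Groth.Agent.Lib.T2H6Chevalley

set_option autoImplicit false
universe u v
open CategoryTheory AlgebraicGeometry
open Lim

namespace Groth.Agent.S9203

theorem aux (X : Scheme.{u}) {κ : Type u} [Finite κ]
    (Z : κ → Scheme.{u}) (ι : ∀ k, Z k ⟶ X) [∀ k, IsClosedImmersion (ι k)] [∀ k, IsAffine (Z k)]
    (hcov : ∀ x : X, ∃ k, x ∈ Set.range (ι k).base) : IsAffine X := by
  classical
  let f : ∐ Z ⟶ X := Limits.Sigma.desc ι
  have hf : ∀ k, Limits.Sigma.ι Z k ≫ f = ι k := fun k => Limits.Sigma.ι_desc _ _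
  have hpt : ∀ x : ↥(∐ Z), ∃ k, ∃ z : Z k, Limits.Sigma.ι Z k z = x := by
    intro x
    obtain ⟨⟨k, z⟩, rfl⟩ := (sigmaMk Z).surjective x
    exact ⟨k, z, (sigmaMk_mk Z k z).symm⟩
  haveI : Surjective f := by
    constructor
    intro x
    obtain ⟨k, z, hz⟩ := hcov x
    refine ⟨Limits.Sigma.ι Z k z, ?_⟩
    rw [← Scheme.Hom.comp_apply, hf]
    exact hz
  haveI : QuasiCompact f := by
    rw [quasiCompact_iff_forall_isAffineOpen]
    intro U hU
    have heq : ((f ⁻¹ᵁ U : (∐ Z).Opens) : Set ↥(∐ Z)) =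
        ⋃ k, (Limits.Sigma.ι Z k) '' (((ι k) ⁻¹ᵁ U : (Z k).Opens) : Set (Z k)) := by
      ext x
      simp only [Set.mem_iUnion, Set.mem_image]
      constructor
      · intro hx
        obtain ⟨k, z, rfl⟩ := hpt x
        refine ⟨k, z, ?_, rfl⟩
        show ι k z ∈ U
        rw [← hf k, Scheme.Hom.comp_apply]
        exact hx
      · rintro ⟨k, z, hz, rfl⟩
        show f (Limits.Sigma.ι Z k z) ∈ U
        rw [← Scheme.Hom.comp_apply, hf k]
        exact hz
    rw [heq]
    exact isCompact_iUnion fun k =>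
      ((hU.preimage (ι k)).isCompact).image (Limits.Sigma.ι Z k).continuous
  haveI : UniversallyClosed f := by
    apply UniversallyClosed.of_valuativeCriterion
    intro S
    obtain ⟨k, z, hz⟩ := hpt (S.i₁ default)
    have hrange : Set.range S.i₁ ⊆ Set.range (Limits.Sigma.ι Z k) := by
      rintro _ ⟨y, rfl⟩
      rw [Subsingleton.elim y default, ← hz]
      exact ⟨z, rfl⟩
    let j : Spec (.of S.K) ⟶ Z k := IsOpenImmersion.lift (Limits.Sigma.ι Z k) S.i₁ hrange
    have hj : j ≫ Limits.Sigma.ι Z k = S.i₁ := IsOpenImmersion.lift_fac _ _ _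
    have hsq : CommSq j (Spec.map (CommRingCat.ofHom (algebraMap S.R S.K))) (ι k) S.i₂ := by
      constructor
      rw [← hf k, ← Category.assoc, hj]
      exact S.commSq.w
    let S' : ValuativeCommSq (ι k) :=
      { R := S.R, K := S.K, i₁ := j, i₂ := S.i₂, commSq := hsq }
    have hex : ValuativeCriterion.Existence (ι k) := by
      have : UniversallyClosed (ι k) := inferInstance
      rw [UniversallyClosed.eq_valuativeCriterion] at this
      exact this.1
    obtain ⟨⟨l⟩⟩ := hex S'
    refine ⟨⟨⟨l.l ≫ Limits.Sigma.ι Z k, ?_, ?_⟩⟩⟩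
    · rw [← Category.assoc, l.fac_left]
      exact hj
    · rw [Category.assoc, hf k]
      exact l.fac_right
  exact Groth.Agent.Lib.T2H6.Chevalley.isAffine_of_surjective_universallyClosed f


/-- Suppose a scheme X is covered, as a topological space, by finitely many closed subschemes each of
which is affine: there are closed immersions Z_k → X, indexed by a finite type, with each Z_k affine
and whose images cover X. Then X is affine. -/
theorem result (X : Scheme.{u}) {κ : Type v} [Finite κ]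
    (Z : κ → Scheme.{u}) (ι : ∀ k, Z k ⟶ X) [∀ k, IsClosedImmersion (ι k)] [∀ k, IsAffine (Z k)]
    (hcov : ∀ x : X, ∃ k, x ∈ Set.range (ι k).base) : IsAffine X := by
  classical
  obtain ⟨n, ⟨e⟩⟩ := Finite.exists_equiv_fin κ
  let e' : ULift.{u} (Fin n) ≃ κ := Equiv.ulift.trans e.symm
  haveI : ∀ k' : ULift.{u} (Fin n), IsClosedImmersion (ι (e' k')) := fun k' => inferInstance
  haveI : ∀ k' : ULift.{u} (Fin n), IsAffine (Z (e' k')) := fun k' => inferInstance
  refine aux X (fun k' : ULift.{u} (Fin n) => Z (e' k')) (fun k' => ι (e' k')) ?_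
  intro x
  obtain ⟨k, hk⟩ := hcov x
  refine ⟨e'.symm k, ?_⟩
  have key : ∀ k₂ : κ, k₂ = k → x ∈ Set.range (ι k₂).base := by
    intro k₂ h; subst h; exact hk
  exact key _ (e'.apply_symm_apply k)

end Groth.Agent.S9203
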