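import Groth.Statements.S9215
import Groth.Agent.Lib.T2H3LimFibDim

set_option autoImplicit false
set_option linter.style.haveILetI false
universe u
open CategoryTheory CategoryTheory.Limits AlgebraicGeometry
open Lim

namespace Groth.Agent.S9215

/-- Consider a system of scheme morphisms (f_i : X_i → S_i) indexed by a cofiltered category: two
diagrams X_•, S_• with a natural transformation between them, such that all transition morphisms
S_{i'} → S_i are affine, all S_i are quasi-compact and quasi-separated, all f_i are of finite type,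
and for every arrow i' → i the induced morphism X_{i'} → X_i ×_{S_i} S_{i'} is a closed immersion.
Let X = lim X_i and S = lim S_i (limit cones) and f : X → S the induced morphism. Let d be a natural
number. Suppose each fibre of f is of dimension at most d; then there is an index i for which all
fibres of f_i are of dimension at most d. -/
theorem result {I : Type u} [SmallCategory I] [IsCofiltered I]
    (DX DS : I ⥤ Scheme.{u}) (φ : DX ⟶ DS) (cX : Limits.Cone DX) (cS : Limits.Cone DS)
    (hX : Limits.IsLimit cX) (hS : Limits.IsLimit cS)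
    [∀ (i j : I) (a : i ⟶ j), IsAffineHom (DS.map a)] [∀ i, CompactSpace (DS.obj i)]
    [∀ i, QuasiSeparatedSpace (DS.obj i)] [∀ i, LocallyOfFiniteType (φ.app i)] [∀ i, QuasiCompact (φ.app i)]
    (hcl : ∀ (i j : I) (a : i ⟶ j), IsClosedImmersion (pullback.lift (DX.map a) (φ.app i) (φ.naturality a)))
    (f : cX.pt ⟶ cS.pt) (hf : ∀ i, f ≫ cS.π.app i = cX.π.app i ≫ φ.app i) (d : ℕ)
    (hd : ∀ s : cS.pt, topologicalKrullDim ↥(f.fiber s) ≤ d) :
    ∃ i : I, ∀ s : DS.obj i, topologicalKrullDim ↥((φ.app i).fiber s) ≤ d := by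
  classical
  obtain ⟨j₀⟩ : Nonempty I := IsCofiltered.nonempty
  let F : Over j₀ ⥤ I := Over.forget j₀
  haveI : ∀ {a b : Over j₀} (u : a ⟶ b), IsAffineHom ((F ⋙ DS).map u) := fun u =>
    (inferInstance : IsAffineHom (DS.map u.left))
  haveI : ∀ a : Over j₀, CompactSpace ((F ⋙ DS).obj a) := fun a =>
    (inferInstance : CompactSpace (DS.obj a.left))
  haveI : ∀ a : Over j₀, LocallyOfFiniteType ((Functor.whiskerLeft F φ).app a) := fun a =>
    (inferInstance : LocallyOfFiniteType (φ.app a.left))
  haveI : ∀ a : Over j₀, QuasiCompact ((Functor.whiskerLeft F φ).app a) := fun a =>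
    (inferInstance : QuasiCompact (φ.app a.left))
  have hX' : IsLimit (cX.whisker F) := (Functor.Initial.isLimitWhiskerEquiv F cX).symm hX
  have hS' : IsLimit (cS.whisker F) := (Functor.Initial.isLimitWhiskerEquiv F cS).symm hS
  have hd' : ∀ x : cX.pt, FlatMor.fibreDimAt f x ≤ d := fun x =>
    (Groth.Agent.Lib.Helper4.FibDim.topologicalKrullDim_fiber_le_iff f (f x) d).mp (hd (f x)) x rfl
  obtain ⟨k, hk⟩ := Groth.Agent.Lib.T2H3.LimFibDim.exists_stage (F ⋙ DX) (F ⋙ DS)
    (Functor.whiskerLeft F φ) (cX.whisker F) (cS.whisker F) f (fun a => hf a.left)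
    (fun a b u => hcl a.left b.left u.left) hX' hS' (Over.mk (𝟙 j₀)) Over.mkIdTerminal d hd'
  refine ⟨k.left, fun s => ?_⟩
  rw [Groth.Agent.Lib.Helper4.FibDim.topologicalKrullDim_fiber_le_iff]
  intro x _
  exact hk x

end Groth.Agent.S9215
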