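import Groth.Statements.S9216
import Mathlib
import Groth.Agent.Lib.T2H6DimFP

set_option autoImplicit false
universe u
open CategoryTheory CategoryTheory.Limits AlgebraicGeometry
open Lim

namespace Groth.Agent.S9216

/-- Let S be a quasi-compact quasi-separated scheme, f : X → S a morphism of finite presentation and d a
natural number. Let Z be a closed subscheme of X such that every fibre of Z → S has dimension at
most d. Then there is a closed subscheme Z' of X containing Z such that Z' → X is of finite
presentation and every fibre of Z' → S has dimension at most d. -/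
theorem result {X S Z : Scheme.{u}} [CompactSpace S]
    [QuasiSeparatedSpace S] (f : X ⟶ S) [LocallyOfFinitePresentation f] [QuasiCompact f] [QuasiSeparated f]
    (d : ℕ) (ι : Z ⟶ X) [IsClosedImmersion ι] (hZ : ∀ s : S, topologicalKrullDim ↥((ι ≫ f).fiber s) ≤ d) :
    ∃ (Z' : Scheme.{u}) (ι' : Z' ⟶ X) (k : Z ⟶ Z'), IsClosedImmersion ι' ∧ LocallyOfFinitePresentation ι' ∧
      k ≫ ι' = ι ∧ ∀ s : S, topologicalKrullDim ↥((ι' ≫ f).fiber s) ≤ d := by
  classical
  haveI : CompactSpace X := QuasiCompact.compactSpace_of_compactSpace f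
  haveI : QuasiSeparatedSpace X := quasiSeparatedSpace_of_quasiSeparated f
  let I : X.IdealSheafData := ι.ker
  let e : Z ≅ I.subscheme := asIso ι.toImage
  have he : e.hom ≫ I.subschemeι = ι := ι.toImage_imageι
  have hI : ∀ t : I.subscheme, FlatMor.fibreDimAt (I.subschemeι ≫ f) t ≤ d := by
    intro t
    obtain ⟨z, rfl⟩ : ∃ z, e.hom z = t := ⟨e.inv t, by
      rw [← Scheme.Hom.comp_apply, e.inv_hom_id]; rfl⟩
    have hrange : Set.range ι.base = (I.support : Set X) := by
      rw [← I.range_subschemeι, ← he]
      simp only [Scheme.Hom.comp_base, TopCat.coe_comp]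
      rw [Set.range_comp, Set.range_eq_univ.mpr e.hom.surjective, Set.image_univ]
    have hz : ι.base z = I.subschemeι.base (e.hom z) := by
      rw [← he]; rfl
    have hmem : ι.base z ∈ (I.support : Set X) := by
      rw [hz]; exact Groth.Agent.Lib.T2H6.DimFP.mem_support I _
    have h1 := Groth.Agent.Lib.Helper6.Uni.localDim_range_inter_fibre f ι (I.support : Set X)
      hrange z hmem
    rw [Groth.Agent.Lib.T2H6.DimFP.fibreDimAt_subscheme,
      ← Groth.Agent.Lib.T2H6.DimFP.localDim_congr_pt f (I.support : Set X) _ _ hz hmem, h1]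
    unfold FlatMor.fibreDimAt
    exact (Groth.Agent.Lib.Helper7.TopDim.localDim_le_dim _).trans (hZ _)
  obtain ⟨J, hJ, hJd⟩ := Groth.Agent.Lib.T2H6.DimFP.exists_ft_fibre_dim_le f d I hI
  haveI : LocallyOfFinitePresentation J.subschemeι :=
    Groth.Agent.Lib.Helper22.FTLimit.locallyOfFinitePresentation_subschemeι J hJ.2
  refine ⟨J.subscheme, J.subschemeι, e.hom ≫ Scheme.IdealSheafData.inclusion hJ.1,
    inferInstance, inferInstance, ?_, hJd⟩
  rw [Category.assoc, Scheme.IdealSheafData.inclusion_subschemeι, he]

end Groth.Agent.S9216
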