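import Groth.Statements.S9224
import Groth.Agent.Lib.T2H3ClosedFibreFP

set_option autoImplicit false
set_option linter.style.haveILetI false
universe u
open CategoryTheory CategoryTheory.Limits AlgebraicGeometry
open Lim

namespace Groth.Agent.S9224

/-- Let f : X → S be a quasi-compact morphism, g : T → S a morphism, t a point of T and Z a closed
subset of X_T = X ×_S T which does not meet the fibre of X_T → T over t. Then there exist an affine
open neighbourhood V of t in T, an affine scheme T' with a morphism b : T' → S locally of finite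
presentation, a morphism a : V → T' whose composite with b is the restriction of g, and a closed
subset Z' of X_{T'} = X ×_S T' which does not meet the fibre over t' = a(t), such that the induced
morphism X_V → X_{T'} maps every point of X_V lying over Z (under X_V → X_T) into Z'. The morphisms
X_V → X_T and X_V → X_{T'} are the canonical ones, characterised by their projections. -/
theorem result {X S T : Scheme.{u}} (f : X ⟶ S) [QuasiCompact f] (g : T ⟶ S) (t : T)
    (Z : Set ↥(pullback f g)) (hZ : IsClosed Z) (hZt : ∀ z ∈ Z, (pullback.snd f g).base z ≠ t) :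
    ∃ (V : T.Opens) (ht : t ∈ V) (T' : Scheme.{u}) (b : T' ⟶ S) (a : (V : Scheme.{u}) ⟶ T')
      (n : pullback f (V.ι ≫ g) ⟶ pullback f g) (m : pullback f (V.ι ≫ g) ⟶ pullback f b)
      (Z' : Set ↥(pullback f b)),
      IsAffineOpen V ∧ IsAffine T' ∧ LocallyOfFinitePresentation b ∧ a ≫ b = V.ι ≫ g ∧
      n ≫ pullback.fst f g = pullback.fst f (V.ι ≫ g) ∧ n ≫ pullback.snd f g = pullback.snd f (V.ι ≫ g) ≫ V.ι ∧
      m ≫ pullback.fst f b = pullback.fst f (V.ι ≫ g) ∧ m ≫ pullback.snd f b = pullback.snd f (V.ι ≫ g) ≫ a ∧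
      IsClosed Z' ∧ (∀ z' ∈ Z', (pullback.snd f b).base z' ≠ a.base ⟨t, ht⟩) ∧
      ∀ z : ↥(pullback f (V.ι ≫ g)), n.base z ∈ Z → m.base z ∈ Z' := by
  classical
  obtain ⟨S₀, hS₀, htS₀⟩ : ∃ S₀ : S.Opens, IsAffineOpen S₀ ∧ g t ∈ S₀ := by
    obtain ⟨S₀, hS₀, htS₀, -⟩ := TopologicalSpace.Opens.isBasis_iff_nbhd.mp S.isBasis_affineOpens
      (show g t ∈ (⊤ : S.Opens) from trivial)
    exact ⟨S₀, hS₀, htS₀⟩
  obtain ⟨V, hV, htV, hVle⟩ : ∃ V : T.Opens, IsAffineOpen V ∧ t ∈ V ∧ V ≤ g ⁻¹ᵁ S₀ :=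
    TopologicalSpace.Opens.isBasis_iff_nbhd.mp T.isBasis_affineOpens
      (show t ∈ g ⁻¹ᵁ S₀ from htS₀)
  letI : Algebra Γ(S, S₀) Γ(T, V) := (g.appLE S₀ V hVle).hom.toAlgebra
  have halg : CommRingCat.ofHom (algebraMap Γ(S, S₀) Γ(T, V)) = g.appLE S₀ V hVle := rfl
  let σ : Spec (CommRingCat.of Γ(S, S₀)) ⟶ S := hS₀.fromSpec
  let h' : Spec (CommRingCat.of Γ(T, V)) ⟶ S :=
    Spec.map (CommRingCat.ofHom (algebraMap Γ(S, S₀) Γ(T, V))) ≫ σ
  have hh' : h' = hV.fromSpec ≫ g := by
    show Spec.map (CommRingCat.ofHom (algebraMap Γ(S, S₀) Γ(T, V))) ≫ hS₀.fromSpec = _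
    rw [halg]
    exact hS₀.SpecMap_appLE_fromSpec g hV hVle
  have hkey : V.ι ≫ g = hV.isoSpec.hom ≫ h' := by
    rw [hh', ← Category.assoc, hV.isoSpec_hom_fromSpec]
  let n' : pullback f h' ⟶ pullback f g :=
    pullback.lift (pullback.fst f h') (pullback.snd f h' ≫ hV.fromSpec)
      (by rw [pullback.condition, hh', Category.assoc])
  let tA : ↥(Spec (CommRingCat.of Γ(T, V))) := hV.isoSpec.hom ⟨t, htV⟩
  have htA : hV.fromSpec tA = t := by
    have := congrArg (fun q : (V : Scheme.{u}) ⟶ T => q ⟨t, htV⟩) hV.isoSpec_hom_fromSpec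
    exact this
  obtain ⟨k, ψ, Z', hZ'c, hZ't, hZ'm⟩ := Groth.Agent.Lib.T2H3.ClosedFibreFP.exists_fp_stage f
    Γ(S, S₀) Γ(T, V) σ (n' ⁻¹' Z) (hZ.preimage n'.continuous) tA (by
      intro z hz heq
      apply hZt (n' z) hz
      have h1 : (pullback.snd f g) (n' z) = hV.fromSpec ((pullback.snd f h') z) :=
        congrArg (fun q : pullback f h' ⟶ T => q z) (pullback.lift_snd _ _ _)
      exact h1.trans ((congrArg hV.fromSpec heq).trans htA))
  let b : Spec (CommRingCat.of (MvPolynomial (Fin k) Γ(S, S₀))) ⟶ S :=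
    Spec.map (CommRingCat.ofHom (algebraMap Γ(S, S₀) (MvPolynomial (Fin k) Γ(S, S₀)))) ≫ σ
  let a : (V : Scheme.{u}) ⟶ Spec (CommRingCat.of (MvPolynomial (Fin k) Γ(S, S₀))) :=
    hV.isoSpec.hom ≫ Spec.map (CommRingCat.ofHom ψ.toRingHom)
  have hab : a ≫ b = V.ι ≫ g := by
    rw [hkey]
    show (hV.isoSpec.hom ≫ Spec.map _) ≫ Spec.map _ ≫ σ = hV.isoSpec.hom ≫ Spec.map _ ≫ σ
    rw [Category.assoc, ← Category.assoc (Spec.map _), ← Spec.map_comp]
    congr 3
    ext x
    exact ψ.commutes x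
  let n : pullback f (V.ι ≫ g) ⟶ pullback f g :=
    pullback.lift (pullback.fst f (V.ι ≫ g)) (pullback.snd f (V.ι ≫ g) ≫ V.ι)
      (by rw [pullback.condition, Category.assoc])
  let m : pullback f (V.ι ≫ g) ⟶ pullback f b :=
    pullback.lift (pullback.fst f (V.ι ≫ g)) (pullback.snd f (V.ι ≫ g) ≫ a)
      (by rw [pullback.condition, Category.assoc, hab])
  let e : pullback f (V.ι ≫ g) ⟶ pullback f h' :=
    pullback.lift (pullback.fst f (V.ι ≫ g)) (pullback.snd f (V.ι ≫ g) ≫ hV.isoSpec.hom)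
      (by rw [pullback.condition, hkey, Category.assoc])
  have hen : e ≫ n' = n := by
    apply pullback.hom_ext
    · simp only [e, n', n, Category.assoc, pullback.lift_fst]
    · simp only [e, n', n, Category.assoc, pullback.lift_snd, pullback.lift_snd_assoc,
        hV.isoSpec_hom_fromSpec]
  haveI : LocallyOfFinitePresentation
      (Spec.map (CommRingCat.ofHom (algebraMap Γ(S, S₀) (MvPolynomial (Fin k) Γ(S, S₀))))) := by
    rw [HasRingHomProperty.Spec_iff (P := @LocallyOfFinitePresentation)]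
    exact RingHom.finitePresentation_algebraMap.mpr inferInstance
  haveI : LocallyOfFinitePresentation b := by
    show LocallyOfFinitePresentation (Spec.map _ ≫ hS₀.fromSpec)
    infer_instance
  refine ⟨V, htV, _, b, a, n, m, Z', hV, inferInstance, inferInstance, hab,
    pullback.lift_fst _ _ _, pullback.lift_snd _ _ _, pullback.lift_fst _ _ _,
    pullback.lift_snd _ _ _, hZ'c, ?_, ?_⟩
  · intro z' hz'
    exact hZ't z' hz'
  · intro z hz
    refine hZ'm _ e m ?_ ?_ z ?_
    · exact (pullback.lift_fst _ _ _).trans (pullback.lift_fst _ _ _).symm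
    · refine (pullback.lift_snd _ _ _).trans ?_
      have h2 : e ≫ pullback.snd f h' = pullback.snd f (V.ι ≫ g) ≫ hV.isoSpec.hom :=
        pullback.lift_snd _ _ _
      show _ = e ≫ pullback.snd f h' ≫ _
      rw [← Category.assoc, ← h2, Category.assoc]
    · show n' (e z) ∈ Z
      have : n' (e z) = n z := congrArg (fun q : pullback f (V.ι ≫ g) ⟶ pullback f g => q z) hen
      rw [this]
      exact hz

end Groth.Agent.S9224
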