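import Groth.Statements.S9267
import Groth.Agent.Lib.T2H2KzPerm
import Groth.Agent.Lib.T2H2KzCechD
import Groth.Agent.Lib.Helper1ExtCech

set_option autoImplicit false
universe u
attribute [local instance] HasDerivedCategory.standard
open CategoryTheory
open DerCA

namespace Groth.Agent.S9267

theorem koszul_eq (A : Type u) [CommRing A] : ∀ l : List A,
    Koszul.koszul A l = CohIII.koszulCx (ModuleCat.of A A) l
  | [] => rfl
  | f :: l => by
    show CochainComplex.mappingCone (f • 𝟙 (Koszul.koszul A l)) =
      CochainComplex.mappingCone (f • 𝟙 (CohIII.koszulCx (ModuleCat.of A A) l))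
    rw [koszul_eq A l]

theorem isZero_congr {A : Type u} [CommRing A] {K L : CochainComplex (ModuleCat.{u} A) ℤ}
    (h : K = L) (i : ℤ) : Limits.IsZero (K.homology i) ↔ Limits.IsZero (L.homology i) := by
  subst h; rfl

/-- For a Koszul-regular sequence f_1, ..., f_r in a ring R, the extended alternating Cech complex R → ⊕
R_{f_i} → ... → R_{f_1 ... f_r} has cohomology only in degree r. -/
theorem result (R : Type u) [CommRing R] (fs : List R)
    (hfs : LCI.IsKoszulRegularSeq R fs) (q : ℤ) (hq : q ≠ (fs.length : ℤ)) :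
    Limits.IsZero (DerCA.extCechH fs (ModuleCat.of R R) q) := by
  by_cases h : q < 0 ∨ (fs.length : ℤ) < q
  · exact Groth.Agent.Lib.Helper1.ExtCech.isZero_extCechH fs _ q h
  · push Not at h
    obtain ⟨p, rfl⟩ := Int.eq_ofNat_of_zero_le h.1
    have hK : Groth.Agent.Lib.T2H2.KzPerm.KAcyc (ModuleCat.of R R) fs :=
      fun i hi => (isZero_congr (koszul_eq R fs) i).mp (hfs i hi)
    obtain ⟨e⟩ := Groth.Agent.Lib.T2H2.KzCech.nonempty_koszulHLim_equiv_extCechH fs
      (ModuleCat.of R R) p
    rw [ModuleCat.isZero_iff_subsingleton]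
    have hne : (p : ℤ) - fs.length ≠ 0 := fun h0 => hq (by omega)
    have key : ∀ z : CohIII.koszulHLim fs (ModuleCat.of R R) p, z = 0 := by
      intro z
      obtain ⟨n, x, rfl⟩ := Module.DirectLimit.exists_of z
      have hz := hK.map_pow n _ hne
      have := ModuleCat.subsingleton_of_isZero hz
      rw [Subsingleton.elim x 0, map_zero]
      rfl
    have : Subsingleton (CohIII.koszulHLim fs (ModuleCat.of R R) p) :=
      ⟨fun a b => by rw [key a, key b]⟩
    exact e.symm.toEquiv.subsingleton

end Groth.Agent.S9267
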