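import Groth.Statements.S9312
import Mathlib

set_option autoImplicit false
universe u
open CAlg

namespace Groth.Agent.S9312

open scoped TensorProduct

theorem mv_mem_range {S₀ S τ : Type*} [CommRing S₀] [CommRing S] (f : S₀ →+* S)
    (x : MvPolynomial τ S) (h : ∀ m, x.coeff m ∈ Set.range f) :
    ∃ y : MvPolynomial τ S₀, MvPolynomial.map f y = x := by
  have h1 : x ∈ Set.range (MvPolynomial.map f) := by
    rw [MvPolynomial.mem_range_map_iff_coeffs_subset]
    intro c hc
    obtain ⟨n, -, rfl⟩ := MvPolynomial.mem_coeffs_iff.mp (Finset.mem_coe.mp hc)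
    exact h n
  exact h1

theorem poly_mem_range {S₀ S : Type*} [CommRing S₀] [CommRing S] (f : S₀ →+* S)
    (p : Polynomial S) (h : ∀ n, p.coeff n ∈ f.range) :
    ∃ q : Polynomial S₀, q.map f = p := by
  have h1 : p ∈ (Polynomial.mapRingHom f).range := (Polynomial.mem_map_range f).mpr h
  obtain ⟨q, hq⟩ := h1
  exact ⟨q, hq⟩

/-- The linear form `∑ l, (σ • r l) X_l`. -/
noncomputable def ell {R G τ : Type*} [CommRing R] [Group G] [MulSemiringAction G R] [Fintype τ]
    (r : τ → R) (σ : G) : MvPolynomial τ R :=
  ∑ l : τ, MvPolynomial.C (σ • r l) * MvPolynomial.X l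

theorem normPoly (R G : Type u) [CommRing R] [Group G] [Fintype G] [MulSemiringAction G R]
    (τ : Type u) [Fintype τ] (r : τ → R) :
    ∃ Q₀ : Polynomial (MvPolynomial τ (FixedPoints.subring R G)), Q₀.Monic ∧
      Q₀.map (MvPolynomial.map (algebraMap (FixedPoints.subring R G) R)) =
        ∏ σ : G, (Polynomial.X - Polynomial.C (ell r σ)) := by
  classical
  have hιinj : Function.Injective (algebraMap (FixedPoints.subring R G) R) :=
    fun x y h => Subtype.ext h
  have hmon : (∏ σ : G, (Polynomial.X - Polynomial.C (ell r σ)) :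
      Polynomial (MvPolynomial τ R)).Monic :=
    Polynomial.monic_prod_of_monic _ _ (fun σ _ => Polynomial.monic_X_sub_C _)
  have hg : ∀ ρ σ : G,
      MvPolynomial.map (MulSemiringAction.toRingHom G R ρ) (ell r σ) = ell r (ρ * σ) := by
    intro ρ σ
    simp only [ell, map_sum, map_mul, MvPolynomial.map_C, MvPolynomial.map_X,
      MulSemiringAction.toRingHom_apply, mul_smul]
  have hinv : ∀ ρ : G,
      (∏ σ : G, (Polynomial.X - Polynomial.C (ell r σ)) : Polynomial (MvPolynomial τ R)).map
        (MvPolynomial.map (MulSemiringAction.toRingHom G R ρ)) =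
      ∏ σ : G, (Polynomial.X - Polynomial.C (ell r σ)) := by
    intro ρ
    rw [Polynomial.map_prod]
    simp only [Polynomial.map_sub, Polynomial.map_X, Polynomial.map_C, hg]
    exact Fintype.prod_equiv (Equiv.mulLeft ρ)
      (fun σ => (Polynomial.X - Polynomial.C (ell r (ρ * σ)) : Polynomial (MvPolynomial τ R)))
      (fun σ => (Polynomial.X - Polynomial.C (ell r σ) : Polynomial (MvPolynomial τ R)))
      (fun σ => rfl)
  have hcoeff : ∀ n m,
      ((∏ σ : G, (Polynomial.X - Polynomial.C (ell r σ)) :
        Polynomial (MvPolynomial τ R)).coeff n).coeff m ∈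
        Set.range (algebraMap (FixedPoints.subring R G) R) := by
    intro n m
    have hfix : ∀ ρ : G, ρ • (((∏ σ : G, (Polynomial.X - Polynomial.C (ell r σ)) :
        Polynomial (MvPolynomial τ R)).coeff n).coeff m) =
        ((∏ σ : G, (Polynomial.X - Polynomial.C (ell r σ)) :
        Polynomial (MvPolynomial τ R)).coeff n).coeff m := by
      intro ρ
      have h1 := congrArg (fun p => (Polynomial.coeff p n).coeff m) (hinv ρ)
      simp only [Polynomial.coeff_map, MvPolynomial.coeff_map,
        MulSemiringAction.toRingHom_apply] at h1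
      exact h1
    exact ⟨⟨_, hfix⟩, rfl⟩
  have hcoeff' : ∀ n, (∏ σ : G, (Polynomial.X - Polynomial.C (ell r σ)) :
        Polynomial (MvPolynomial τ R)).coeff n ∈
        (MvPolynomial.map (algebraMap (FixedPoints.subring R G) R)).range := by
    intro n
    obtain ⟨y, hy⟩ := mv_mem_range (algebraMap (FixedPoints.subring R G) R) _
      (fun m => hcoeff n m)
    exact RingHom.mem_range.mpr ⟨y, hy⟩
  obtain ⟨Q₀, hQ₀⟩ := poly_mem_range
    (MvPolynomial.map (algebraMap (FixedPoints.subring R G) R)) _ hcoeff'
  refine ⟨Q₀, ?_, hQ₀⟩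
  apply Polynomial.monic_of_injective (MvPolynomial.map_injective _ hιinj)
  rw [hQ₀]
  exact hmon

theorem part1 (R G A : Type u) [CommRing R] [Group G] [Fintype G]
    [MulSemiringAction G R] [CommRing A] [Algebra (FixedPoints.subring R G) A]
    (b : TensorProduct (FixedPoints.subring R G) A R)
    (hb : ∀ σ : G, Algebra.TensorProduct.map (AlgHom.id (FixedPoints.subring R G) A)
        (MulSemiringAction.toAlgHom (FixedPoints.subring R G) R σ) b = b) :
    ∃ P : Polynomial A, P.Monic ∧
        Polynomial.map (algebraMap A (TensorProduct (FixedPoints.subring R G) A R)) P =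
          (Polynomial.X - Polynomial.C b) ^ Fintype.card G := by
  classical
  obtain ⟨S, hS⟩ := TensorProduct.exists_finset b
  obtain ⟨Q₀, hQmon, hQ⟩ := normPoly R G (↥S) (fun l => l.1.2)
  let aev : MvPolynomial (↥S) (FixedPoints.subring R G) →+* A :=
    MvPolynomial.eval₂Hom (algebraMap (FixedPoints.subring R G) A) (fun l => l.1.1)
  let θ : MvPolynomial (↥S) R →+* TensorProduct (FixedPoints.subring R G) A R :=
    MvPolynomial.eval₂Hom
      (Algebra.TensorProduct.includeRight :
        R →ₐ[FixedPoints.subring R G] TensorProduct (FixedPoints.subring R G) A R).toRingHom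
      (fun l => l.1.1 ⊗ₜ[FixedPoints.subring R G] (1 : R))
  have hcomp : (algebraMap A (TensorProduct (FixedPoints.subring R G) A R)).comp aev =
      θ.comp (MvPolynomial.map (algebraMap (FixedPoints.subring R G) R)) := by
    apply MvPolynomial.ringHom_ext
    · intro c
      simp only [RingHom.comp_apply, aev, θ, MvPolynomial.eval₂Hom_C, MvPolynomial.map_C]
      show (algebraMap (FixedPoints.subring R G) A c) ⊗ₜ[FixedPoints.subring R G] (1 : R) =
        (1 : A) ⊗ₜ[FixedPoints.subring R G] (algebraMap (FixedPoints.subring R G) R c)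
      rw [Algebra.algebraMap_eq_smul_one, Algebra.algebraMap_eq_smul_one,
        TensorProduct.smul_tmul]
    · intro l
      simp only [RingHom.comp_apply, aev, θ, MvPolynomial.eval₂Hom_X', MvPolynomial.map_X]
      rfl
  have hθℓ : ∀ σ : G, θ (ell (fun l : ↥S => l.1.2) σ) = b := by
    intro σ
    have h1 : θ (ell (fun l : ↥S => l.1.2) σ) =
        ∑ l : ↥S, l.1.1 ⊗ₜ[FixedPoints.subring R G] (σ • l.1.2) := by
      simp only [ell, map_sum, map_mul, θ, MvPolynomial.eval₂Hom_C, MvPolynomial.eval₂Hom_X']
      refine Finset.sum_congr rfl (fun l _ => ?_)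
      show ((1 : A) ⊗ₜ[FixedPoints.subring R G] (σ • l.1.2)) *
        (l.1.1 ⊗ₜ[FixedPoints.subring R G] (1 : R)) = _
      rw [Algebra.TensorProduct.tmul_mul_tmul, one_mul, mul_one]
    have h2 : ∑ i ∈ S, i.1 ⊗ₜ[FixedPoints.subring R G] (σ • i.2) = b := by
      calc ∑ i ∈ S, i.1 ⊗ₜ[FixedPoints.subring R G] (σ • i.2)
          = Algebra.TensorProduct.map (AlgHom.id (FixedPoints.subring R G) A)
              (MulSemiringAction.toAlgHom (FixedPoints.subring R G) R σ)
              (∑ i ∈ S, i.1 ⊗ₜ[FixedPoints.subring R G] i.2) := by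
            rw [map_sum]
            exact Finset.sum_congr rfl (fun i _ => by simp)
        _ = Algebra.TensorProduct.map (AlgHom.id (FixedPoints.subring R G) A)
              (MulSemiringAction.toAlgHom (FixedPoints.subring R G) R σ) b := by rw [← hS]
        _ = b := hb σ
    rw [h1]
    exact (Finset.sum_coe_sort S
      (fun i => i.1 ⊗ₜ[FixedPoints.subring R G] (σ • i.2))).trans h2
  refine ⟨Q₀.map aev, hQmon.map aev, ?_⟩
  rw [Polynomial.map_map, hcomp, ← Polynomial.map_map, hQ, Polynomial.map_prod]
  simp only [Polynomial.map_sub, Polynomial.map_X, Polynomial.map_C, hθℓ]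
  rw [Finset.prod_const, Finset.card_univ]

theorem key2 (R G A : Type u) [CommRing R] [Group G] [Fintype G]
    [MulSemiringAction G R] [CommRing A] [Algebra (FixedPoints.subring R G) A]
    (a : A) (τ : Type u) [Fintype τ] (r : τ → R)
    (j : τ → MvPolynomial A (FixedPoints.subring R G))
    (hj : ∀ l, (MvPolynomial.aeval (fun x : A => x) :
      MvPolynomial A (FixedPoints.subring R G) →ₐ[FixedPoints.subring R G] A) (j l) = 0)
    (hX : (MvPolynomial.X a : MvPolynomial A R) =
      ∑ l : τ, MvPolynomial.map (algebraMap (FixedPoints.subring R G) R) (j l) *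
        MvPolynomial.C (r l)) :
    (Polynomial.X - Polynomial.C a) ^ Fintype.card G =
      (Polynomial.X : Polynomial A) ^ Fintype.card G := by
  classical
  obtain ⟨Q₀, -, hQ⟩ := normPoly R G τ r
  have hιinj : Function.Injective (algebraMap (FixedPoints.subring R G) R) :=
    fun x y h => Subtype.ext h
  have hιPinj : Function.Injective
      (MvPolynomial.map (σ := A) (algebraMap (FixedPoints.subring R G) R)) :=
    MvPolynomial.map_injective _ hιinj
  let e : MvPolynomial A (FixedPoints.subring R G) →+* A :=
    MvPolynomial.eval₂Hom (algebraMap (FixedPoints.subring R G) A) (fun x => x)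
  have he : ∀ p, e p = (MvPolynomial.aeval (fun x : A => x) :
      MvPolynomial A (FixedPoints.subring R G) →ₐ[FixedPoints.subring R G] A) p :=
    fun p => rfl
  let evj : MvPolynomial τ (FixedPoints.subring R G) →+*
      MvPolynomial A (FixedPoints.subring R G) := MvPolynomial.eval₂Hom MvPolynomial.C j
  let ev0 : MvPolynomial τ (FixedPoints.subring R G) →+*
      MvPolynomial A (FixedPoints.subring R G) :=
    MvPolynomial.eval₂Hom MvPolynomial.C (fun _ => 0)
  let evRj : MvPolynomial τ R →+* MvPolynomial A R :=
    MvPolynomial.eval₂Hom MvPolynomial.C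
      (fun l => MvPolynomial.map (algebraMap (FixedPoints.subring R G) R) (j l))
  let evR0 : MvPolynomial τ R →+* MvPolynomial A R :=
    MvPolynomial.eval₂Hom MvPolynomial.C (fun _ => 0)
  have hcj : (MvPolynomial.map (σ := A) (algebraMap (FixedPoints.subring R G) R)).comp evj =
      evRj.comp (MvPolynomial.map (algebraMap (FixedPoints.subring R G) R)) := by
    apply MvPolynomial.ringHom_ext
    · intro c
      simp only [RingHom.comp_apply, evj, evRj, MvPolynomial.eval₂Hom_C, MvPolynomial.map_C]
    · intro l
      simp only [RingHom.comp_apply, evj, evRj, MvPolynomial.eval₂Hom_X', MvPolynomial.map_X]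
  have hc0 : (MvPolynomial.map (σ := A) (algebraMap (FixedPoints.subring R G) R)).comp ev0 =
      evR0.comp (MvPolynomial.map (algebraMap (FixedPoints.subring R G) R)) := by
    apply MvPolynomial.ringHom_ext
    · intro c
      simp only [RingHom.comp_apply, ev0, evR0, MvPolynomial.eval₂Hom_C, MvPolynomial.map_C]
    · intro l
      simp only [RingHom.comp_apply, ev0, evR0, MvPolynomial.eval₂Hom_X', MvPolynomial.map_X,
        map_zero]
  have hrel : ∀ σ : G, evRj (ell r σ) = MvPolynomial.X a := by
    intro σ
    have h1 := congrArg (MvPolynomial.map (MulSemiringAction.toRingHom G R σ)) hX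
    have hfix : (MulSemiringAction.toRingHom G R σ).comp
        (algebraMap (FixedPoints.subring R G) R) = algebraMap (FixedPoints.subring R G) R := by
      ext x
      show σ • (x : R) = x
      exact x.2 σ
    simp only [map_sum, map_mul, MvPolynomial.map_X, MvPolynomial.map_C, MvPolynomial.map_map,
      hfix, MulSemiringAction.toRingHom_apply] at h1
    rw [h1]
    simp only [ell, map_sum, map_mul, evRj, MvPolynomial.eval₂Hom_C, MvPolynomial.eval₂Hom_X']
    exact Finset.sum_congr rfl (fun l _ => mul_comm _ _)
  have hrel0 : ∀ σ : G, evR0 (ell r σ) = 0 := by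
    intro σ
    simp only [ell, map_sum, map_mul, evR0, MvPolynomial.eval₂Hom_X', mul_zero,
      Finset.sum_const_zero]
  have h1 : Q₀.map evj =
      (Polynomial.X - Polynomial.C (MvPolynomial.X a)) ^ Fintype.card G := by
    apply Polynomial.map_injective _ hιPinj
    rw [Polynomial.map_map, hcj, ← Polynomial.map_map, hQ, Polynomial.map_prod]
    simp only [Polynomial.map_sub, Polynomial.map_X, Polynomial.map_C, hrel, Polynomial.map_pow,
      MvPolynomial.map_X]
    rw [Finset.prod_const, Finset.card_univ]
  have h0 : Q₀.map ev0 = Polynomial.X ^ Fintype.card G := by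
    apply Polynomial.map_injective _ hιPinj
    rw [Polynomial.map_map, hc0, ← Polynomial.map_map, hQ, Polynomial.map_prod]
    simp only [Polynomial.map_sub, Polynomial.map_X, Polynomial.map_C, hrel0, Polynomial.map_pow,
      map_zero, sub_zero]
    rw [Finset.prod_const, Finset.card_univ]
  have hε : e.comp evj = e.comp ev0 := by
    apply MvPolynomial.ringHom_ext
    · intro c
      simp only [RingHom.comp_apply, evj, ev0, MvPolynomial.eval₂Hom_C]
    · intro l
      simp only [RingHom.comp_apply, evj, ev0, MvPolynomial.eval₂Hom_X', map_zero]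
      rw [he]
      exact hj l
  have h2 := congrArg (Polynomial.map e) h1
  rw [Polynomial.map_map, hε, ← Polynomial.map_map, h0] at h2
  have h3 : e (MvPolynomial.X a) = a := MvPolynomial.eval₂Hom_X' _ _ _
  simp only [Polynomial.map_pow, Polynomial.map_sub, Polynomial.map_X, Polynomial.map_C, h3] at h2
  exact h2.symm

theorem rel2 (R G A : Type u) [CommRing R] [Group G] [Fintype G]
    [MulSemiringAction G R] [CommRing A] [Algebra (FixedPoints.subring R G) A]
    (a : A) (ha : algebraMap A (TensorProduct (FixedPoints.subring R G) A R) a = 0) :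
    ∃ S : Finset (↥(LinearMap.ker (MvPolynomial.aeval (fun x : A => x) :
        MvPolynomial A (FixedPoints.subring R G) →ₐ[FixedPoints.subring R G] A).toLinearMap) × R),
      (MvPolynomial.X a : MvPolynomial A R) =
        ∑ i ∈ S, MvPolynomial.map (algebraMap (FixedPoints.subring R G) R)
          (i.1 : MvPolynomial A (FixedPoints.subring R G)) * MvPolynomial.C i.2 := by
  classical
  let ε : MvPolynomial A (FixedPoints.subring R G) →ₐ[FixedPoints.subring R G] A :=
    MvPolynomial.aeval (fun x : A => x)
  have hεX : ∀ x : A, ε.toLinearMap (MvPolynomial.X x) = x := fun x => by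
    simp only [AlgHom.toLinearMap_apply, ε, MvPolynomial.aeval_X]
  have hsurj : Function.Surjective ε.toLinearMap := fun x => ⟨MvPolynomial.X x, hεX x⟩
  have hex : Function.Exact (LinearMap.ker ε.toLinearMap).subtype ε.toLinearMap :=
    LinearMap.exact_subtype_ker_map _
  have hex2 := @rTensor_exact (FixedPoints.subring R G) (LinearMap.ker ε.toLinearMap)
    (MvPolynomial A (FixedPoints.subring R G)) A _ _ _ _ _ _ _
    (LinearMap.ker ε.toLinearMap).subtype ε.toLinearMap R _ _ hex hsurj
  have h0 : LinearMap.rTensor R ε.toLinearMap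
      ((MvPolynomial.X a) ⊗ₜ[FixedPoints.subring R G] (1 : R)) = 0 := by
    rw [LinearMap.rTensor_tmul, hεX]
    exact ha
  obtain ⟨z, hz⟩ := (hex2 _).mp h0
  obtain ⟨S, hS⟩ := TensorProduct.exists_finset z
  refine ⟨S, ?_⟩
  let m : TensorProduct (FixedPoints.subring R G) (MvPolynomial A (FixedPoints.subring R G)) R
      →ₐ[FixedPoints.subring R G] MvPolynomial A R :=
    Algebra.TensorProduct.productMap
      (MvPolynomial.mapAlgHom (Algebra.ofId (FixedPoints.subring R G) R))
      (IsScalarTower.toAlgHom (FixedPoints.subring R G) R (MvPolynomial A R))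
  have hm : ∀ (p : MvPolynomial A (FixedPoints.subring R G)) (x : R),
      m (p ⊗ₜ[FixedPoints.subring R G] x) =
        MvPolynomial.map (algebraMap (FixedPoints.subring R G) R) p * MvPolynomial.C x := by
    intro p x
    rfl
  have h1 := congrArg m hz
  rw [hS] at h1
  simp only [map_sum, LinearMap.rTensor_tmul, Submodule.subtype_apply, hm, MvPolynomial.map_X,
    MvPolynomial.C_1, mul_one] at h1
  exact h1.symm

/-- Let a finite group G with n elements act on a ring R by ring automorphisms, with invariant ring R^G,
and let A be an algebra over R^G; G acts on A ⊗ R through the factor R. (1) For every G-invariant b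
∈ A ⊗ R there is a monic polynomial over A whose image in (A ⊗ R)[T] is (T - b)^n. (2) For every a
in the kernel of A → A ⊗ R, all coefficients of (T - a)^n below degree n vanish, that is (T - a)^n =
T^n in A[T]. -/
theorem result (R G A : Type u) [CommRing R] [Group G] [Fintype G]
    [MulSemiringAction G R] [CommRing A] [Algebra (FixedPoints.subring R G) A] :
    (∀ b : TensorProduct (FixedPoints.subring R G) A R,
      (∀ σ : G, Algebra.TensorProduct.map (AlgHom.id (FixedPoints.subring R G) A)
        (MulSemiringAction.toAlgHom (FixedPoints.subring R G) R σ) b = b) →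
      ∃ P : Polynomial A, P.Monic ∧
        Polynomial.map (algebraMap A (TensorProduct (FixedPoints.subring R G) A R)) P =
          (Polynomial.X - Polynomial.C b) ^ Fintype.card G) ∧
    (∀ a : A, algebraMap A (TensorProduct (FixedPoints.subring R G) A R) a = 0 →
      ∀ i : ℕ, i < Fintype.card G → ((Polynomial.X - Polynomial.C a) ^ Fintype.card G).coeff i = 0) := by
  refine ⟨fun b hb => part1 R G A b hb, fun a ha i hi => ?_⟩
  obtain ⟨S, hS⟩ := rel2 R G A a ha
  have key := key2 R G A a (↥S) (fun l => l.1.2)
    (fun l => (l.1.1 : MvPolynomial A (FixedPoints.subring R G)))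
    (fun l => LinearMap.mem_ker.mp l.1.1.2)
    (hS.trans (Finset.sum_coe_sort S
      (fun i => MvPolynomial.map (algebraMap (FixedPoints.subring R G) R)
          (i.1 : MvPolynomial A (FixedPoints.subring R G)) * MvPolynomial.C i.2)).symm)
  rw [key, Polynomial.coeff_X_pow, if_neg hi.ne]

end Groth.Agent.S9312
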