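import Groth.Statements.S9325
import Mathlib

set_option autoImplicit false
universe u
open CAlg

namespace Groth.Agent.S9325

open scoped BigOperators

theorem key_lemma {A' B : Type u} [CommRing A'] [CommRing B] (π : A' →+* B)
    (hπ : Function.Surjective π) (I' J' : Ideal A')
    {c : ℕ} (f : Fin c → B) (g : Fin c → A') (hgf : ∀ i, π (g i) = f i) :
    ∀ v ∈ Submodule.span B {v : Fin c → B | ∃ i j : Fin c,
      v = Pi.single i (f j) - Pi.single j (f i)},
      ∃ b : Fin c → A', (∀ k, π (b k) = v k) ∧ ∑ k, b k * g k ∈ I' * J' := by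
  classical
  intro v hv
  induction hv using Submodule.span_induction with
  | mem v hv =>
    obtain ⟨i, j, rfl⟩ := hv
    refine ⟨Pi.single i (g j) - Pi.single j (g i), fun k => ?_, ?_⟩
    · simp only [Pi.sub_apply, map_sub]
      congr 1
      · by_cases h : k = i
        · subst h; simp [hgf]
        · simp [Pi.single_eq_of_ne h]
      · by_cases h : k = j
        · subst h; simp [hgf]
        · simp [Pi.single_eq_of_ne h]
    · have : ∑ k, (Pi.single i (g j) - Pi.single j (g i) : Fin c → A') k * g k = 0 := by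
        simp only [Pi.sub_apply, sub_mul, Finset.sum_sub_distrib]
        rw [Finset.sum_eq_single i, Finset.sum_eq_single j]
        · simp [mul_comm]
        · intro k _ hk; simp [Pi.single_eq_of_ne hk]
        · simp
        · intro k _ hk; simp [Pi.single_eq_of_ne hk]
        · simp
      rw [this]; exact Ideal.zero_mem _
  | zero => exact ⟨0, fun k => by simp, by simp⟩
  | add v w _ _ hv hw =>
    obtain ⟨b1, h1, h1'⟩ := hv
    obtain ⟨b2, h2, h2'⟩ := hw
    refine ⟨b1 + b2, fun k => by simp [h1, h2], ?_⟩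
    simp only [Pi.add_apply, add_mul, Finset.sum_add_distrib]
    exact Ideal.add_mem _ h1' h2'
  | smul r v _ hv =>
    obtain ⟨b1, h1, h1'⟩ := hv
    obtain ⟨r', rfl⟩ := hπ r
    refine ⟨r' • b1, fun k => by simp [h1], ?_⟩
    simp only [Pi.smul_apply, smul_eq_mul, mul_assoc]
    rw [← Finset.mul_sum]
    exact Ideal.mul_mem_left _ _ h1'


theorem abstract_lemma {A' B : Type u} [CommRing A'] [CommRing B] (π : A' →+* B)
    (hπ : Function.Surjective π) (I' J' : Ideal A') (hker : RingHom.ker π = I')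
    {c : ℕ} (f : Fin c → B) (hf : CAlgX.IsH1Regular f)
    (hspan : Ideal.span (Set.range f) = J'.map π) :
    I' ⊓ J' ^ 2 ≤ I' * J' := by
  classical
  -- lift the generators
  have hg : ∀ i, ∃ y ∈ J', π y = f i := by
    intro i
    have : f i ∈ J'.map π := by
      rw [← hspan]; exact Ideal.subset_span ⟨i, rfl⟩
    exact (Ideal.mem_map_iff_of_surjective π hπ).mp this
  choose g hgJ hgf using hg
  have hkerI : ∀ a, π a = 0 → a ∈ I' := fun a ha => by rw [← hker]; exact ha
  -- J' ≤ I' ⊔ span g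
  have hJ : ∀ y ∈ J', ∃ a : Fin c → A', y - ∑ k, a k * g k ∈ I' := by
    intro y hy
    have : π y ∈ Ideal.span (Set.range f) := by
      rw [hspan]; exact Ideal.mem_map_of_mem π hy
    obtain ⟨a, ha⟩ := (Ideal.mem_span_range_iff_exists_fun).mp this
    choose a' ha' using fun k => hπ (a k)
    refine ⟨a', hkerI _ ?_⟩
    rw [map_sub, map_sum, ← ha, sub_eq_zero]
    refine (Finset.sum_congr rfl fun k _ => ?_).symm
    rw [map_mul, ha', hgf]
  -- congruence
  have hcongr : ∀ b b' : Fin c → A', (∀ k, π (b k) = π (b' k)) →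
      ∑ k, b k * g k - ∑ k, b' k * g k ∈ I' * J' := by
    intro b b' h
    rw [← Finset.sum_sub_distrib]
    refine Ideal.sum_mem _ fun k _ => ?_
    rw [← sub_mul]
    refine Ideal.mul_mem_mul (hkerI _ ?_) (hgJ k)
    rw [map_sub, h k, sub_self]
  have claim : ∀ b : Fin c → A', ∑ k, b k * g k ∈ I' → ∑ k, b k * g k ∈ I' * J' := by
    intro b hb
    have h0 : ∑ k, (fun k => π (b k)) k * f k = 0 := by
      have : π (∑ k, b k * g k) = 0 := by
        have : ∑ k, b k * g k ∈ RingHom.ker π := by rw [hker]; exact hb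
        exact this
      rw [map_sum] at this
      rw [← this]
      exact Finset.sum_congr rfl fun k _ => by rw [map_mul, hgf]
    obtain ⟨b', hb', hb'2⟩ := key_lemma π hπ I' J' f g hgf _ (hf _ h0)
    have := hcongr b b' (fun k => (hb' k).symm)
    have h2 := Ideal.add_mem _ this hb'2
    rwa [sub_add_cancel] at h2
  -- final
  have hJJ : J' * J' ≤ I' * J' ⊔ Ideal.span (Set.range g) := by
    rw [Ideal.mul_le]
    intro y hy y' hy'
    obtain ⟨a, ha⟩ := hJ y' hy'
    have e : y * y' = (y' - ∑ k, a k * g k) * y + ∑ k, (y * a k) * g k := by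
      rw [Finset.sum_congr rfl fun k _ => mul_assoc y (a k) (g k), ← Finset.mul_sum]
      ring
    rw [e]
    refine Ideal.add_mem _ (Ideal.mem_sup_left (Ideal.mul_mem_mul ha hy)) (Ideal.mem_sup_right ?_)
    exact Ideal.sum_mem _ fun k _ => Ideal.mul_mem_left _ _ (Ideal.subset_span ⟨k, rfl⟩)
  intro x hx
  have hxI : x ∈ I' := hx.1
  have hxJ : x ∈ J' * J' := by
    have := hx.2
    rwa [pow_two] at this
  obtain ⟨u, hu, z, hz, huz⟩ := Submodule.mem_sup.mp (hJJ hxJ)
  obtain ⟨b, hb⟩ := (Ideal.mem_span_range_iff_exists_fun).mp hz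
  have huI : u ∈ I' := Ideal.mul_le_left hu
  have hzI : z ∈ I' := by
    have := Ideal.sub_mem _ hxI huI
    rwa [← huz, add_sub_cancel_left] at this
  rw [← huz]
  refine Ideal.add_mem _ hu ?_
  rw [← hb] at hzI ⊢
  exact claim b hzI


theorem local_step {A : Type u} [CommRing A] (I J : Ideal A) (g' : A) (g : A ⧸ I)
    (hgg : Ideal.Quotient.mk I g' = g)
    {c : ℕ} (f : Fin c → Localization.Away g)
    (hf : CAlgX.IsH1Regular f)
    (hspan : Ideal.span (Set.range f) =
      (J.map (Ideal.Quotient.mk I)).map (algebraMap (A ⧸ I) (Localization.Away g)))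
    (x : A) (hx : x ∈ I ⊓ J ^ 2) : ∃ n : ℕ, g' ^ n * x ∈ I * J := by
  let A' := Localization.Away g'
  let B := Localization.Away g
  let φ : A →+* B := (algebraMap (A ⧸ I) B).comp (Ideal.Quotient.mk I)
  have hφ : ∀ a, φ a = algebraMap (A ⧸ I) B (Ideal.Quotient.mk I a) := fun a => rfl
  have hu : IsUnit (φ g') := by
    rw [hφ, hgg]
    exact IsLocalization.Away.algebraMap_isUnit g
  let π : A' →+* B := IsLocalization.Away.lift g' hu
  have hπφ : π.comp (algebraMap A A') = φ := IsLocalization.Away.lift_comp g' hu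
  have hπa : ∀ a, π (algebraMap A A' a) = φ a := fun a => IsLocalization.Away.lift_eq g' hu a
  have hφ0 : ∀ a, φ a = 0 → ∃ k : ℕ, g' ^ k * a ∈ I := by
    intro a ha
    obtain ⟨⟨m, k, hk⟩, hm⟩ :=
      (IsLocalization.map_eq_zero_iff (Submonoid.powers g) B (Ideal.Quotient.mk I a)).mp ha
    refine ⟨k, ?_⟩
    rw [← Ideal.Quotient.eq_zero_iff_mem, map_mul, map_pow, hgg]
    simpa [← hk] using hm
  have hsurj : Function.Surjective π := by
    intro y
    obtain ⟨a, s, rfl⟩ := IsLocalization.exists_mk'_eq (Submonoid.powers g) y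
    obtain ⟨a', rfl⟩ := Ideal.Quotient.mk_surjective a
    obtain ⟨s, k, rfl⟩ := s
    refine ⟨IsLocalization.mk' A' a' (⟨g' ^ k, k, rfl⟩ : Submonoid.powers g'), ?_⟩
    have h1 : π (IsLocalization.mk' A' a' (⟨g' ^ k, k, rfl⟩ : Submonoid.powers g')) * φ (g' ^ k)
        = φ a' := by
      rw [← hπa, ← hπa, ← map_mul, IsLocalization.mk'_spec]
    have h2 : IsLocalization.mk' B (Ideal.Quotient.mk I a')
        (⟨g ^ k, k, rfl⟩ : Submonoid.powers g) * φ (g' ^ k) = φ a' := by
      rw [hφ, hφ, map_pow, hgg]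
      exact IsLocalization.mk'_spec B (Ideal.Quotient.mk I a') (⟨g ^ k, k, rfl⟩ : Submonoid.powers g)
    have hu' : IsUnit (φ (g' ^ k)) := by rw [map_pow]; exact hu.pow k
    exact hu'.mul_right_cancel (h1.trans h2.symm)
  have hker : RingHom.ker π = I.map (algebraMap A A') := by
    apply le_antisymm
    · intro z hz
      obtain ⟨a, s, rfl⟩ := IsLocalization.exists_mk'_eq (Submonoid.powers g') z
      have h0 : φ a = 0 := by
        have h1 : π (IsLocalization.mk' A' a s) * φ (s : A) = φ a := by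
          rw [← hπa, ← hπa, ← map_mul, IsLocalization.mk'_spec]
        rw [← h1, (RingHom.mem_ker).mp hz, zero_mul]
      obtain ⟨k, hk⟩ := hφ0 a h0
      exact (IsLocalization.mk'_mem_map_algebraMap_iff (Submonoid.powers g') A' I a s).mpr
        ⟨g' ^ k, ⟨k, rfl⟩, hk⟩
    · rw [Ideal.map_le_iff_le_comap]
      intro a ha
      change π (algebraMap A A' a) = 0
      rw [hπa, hφ, Ideal.Quotient.eq_zero_iff_mem.mpr ha, map_zero]
  have hspan' : Ideal.span (Set.range f) = (J.map (algebraMap A A')).map π := by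
    rw [hspan, Ideal.map_map, Ideal.map_map, hπφ]
  have main := abstract_lemma π hsurj (I.map (algebraMap A A')) (J.map (algebraMap A A')) hker
    f hf hspan'
  have hx' : algebraMap A A' x ∈ I.map (algebraMap A A') ⊓ (J.map (algebraMap A A')) ^ 2 := by
    refine ⟨Ideal.mem_map_of_mem _ hx.1, ?_⟩
    rw [← Ideal.map_pow]
    exact Ideal.mem_map_of_mem _ hx.2
  have h2 := main hx'
  rw [← Ideal.map_mul] at h2
  obtain ⟨m, ⟨n, rfl⟩, hm⟩ :=
    (IsLocalization.algebraMap_mem_map_algebraMap_iff (Submonoid.powers g') A' (I * J) x).mp h2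
  exact ⟨n, hm⟩

/-- Let `A` be a ring and `I ⊆ J` ideals of `A` such that the ideal `J/I` of `A/I` is `H_1`-regular: for
every prime `𝔮` of `A/I` containing `J/I` there is `g ∉ 𝔮` such that the extension of `J/I` to
`(A/I)_g` is generated by an `H_1`-regular sequence (a finite sequence all of whose linear relations
are combinations of the trivial ones). Then `I ∩ J² = I J`. -/
theorem result {A : Type u} [CommRing A] (I J : Ideal A)
    (hIJ : I ≤ J)
    (h : ∀ (𝔮 : Ideal (A ⧸ I)) [𝔮.IsPrime], J.map (Ideal.Quotient.mk I) ≤ 𝔮 →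
      ∃ g : A ⧸ I, g ∉ 𝔮 ∧ ∃ (c : ℕ) (f : Fin c → Localization.Away g),
        CAlgX.IsH1Regular f ∧
          Ideal.span (Set.range f) =
            (J.map (Ideal.Quotient.mk I)).map (algebraMap (A ⧸ I) (Localization.Away g))) :
    I ⊓ J ^ 2 = I * J := by
  apply le_antisymm
  swap
  · refine le_inf Ideal.mul_le_left ?_
    rw [pow_two]
    exact Ideal.mul_mono_left hIJ
  intro x hx
  -- the colon ideal
  let 𝔞 : Ideal A := Submodule.comap (LinearMap.toSpanSingleton A A x) (I * J)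
  have h𝔞 : ∀ a, a ∈ 𝔞 ↔ a * x ∈ I * J := fun a => by
    change (LinearMap.toSpanSingleton A A x) a ∈ I * J ↔ _
    rw [LinearMap.toSpanSingleton_apply, smul_eq_mul]
  suffices htop : 𝔞 = ⊤ by
    have : (1 : A) ∈ 𝔞 := by rw [htop]; trivial
    simpa using (h𝔞 1).mp this
  by_contra hne
  obtain ⟨𝔭, h𝔭max, h𝔭⟩ := Ideal.exists_le_maximal 𝔞 hne
  have h𝔭prime : 𝔭.IsPrime := h𝔭max.isPrime
  by_cases hJ𝔭 : J ≤ 𝔭
  · have hI𝔭 : I ≤ 𝔭 := hIJ.trans hJ𝔭
    have hq : (𝔭.map (Ideal.Quotient.mk I)).IsPrime :=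
      Ideal.map_isPrime_of_surjective Ideal.Quotient.mk_surjective (by simpa using hI𝔭)
    obtain ⟨g, hg, c, f, hf, hspan⟩ := h (𝔭.map (Ideal.Quotient.mk I)) (Ideal.map_mono hJ𝔭)
    obtain ⟨g', rfl⟩ := Ideal.Quotient.mk_surjective g
    have hg' : g' ∉ 𝔭 := fun hmem => hg (Ideal.mem_map_of_mem _ hmem)
    obtain ⟨n, hn⟩ := local_step I J g' _ rfl f hf hspan x hx
    have : g' ^ n ∈ 𝔭 := h𝔭 ((h𝔞 _).mpr hn)
    exact hg' (h𝔭prime.mem_of_pow_mem n this)
  · obtain ⟨s, hsJ, hs𝔭⟩ := SetLike.not_le_iff_exists.mp hJ𝔭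
    have : s ∈ 𝔞 := by
      rw [h𝔞, mul_comm s x]
      exact Ideal.mul_mem_mul hx.1 hsJ
    exact hs𝔭 (h𝔭 this)

end Groth.Agent.S9325
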