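import Groth.Statements.S9352
import Mathlib
import Groth.Agent.Lib.T2H4PureB
import Groth.Agent.Lib.T2H4PureC
set_option backward.isDefEq.respectTransparency.types false

set_option autoImplicit false
universe u
open FlatMod

namespace Groth.Agent.S9352

open AlgebraicGeometry CategoryTheory in
/-- For a scheme X, every finite type flat quasi-coherent O_X-module is finite locally free if and only
if every closed subset of X that is stable under generalization is open. -/
theorem result (X : Scheme.{u}) :
    (∀ F : X.Modules, Coh.IsQCoh F → CohB1.IsFT F → FlatMod.IsFlat F → FlatMod.IsFinLocFree F) ↔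
      ∀ Z : Set ↑X, IsClosed Z → StableUnderGeneralization Z → IsOpen Z := by
  constructor
  · intro H Z hZ hg
    exact Groth.Agent.Lib.T2H4.PureC.isOpen_of_forall_isFinLocFree hZ hg H
  · intro H F hq hft hfl
    haveI : F.IsQuasicoherent := hq
    exact Groth.Agent.Lib.T2H4.PureB.isFinLocFree_of_forall_isOpen F H hft hfl

end Groth.Agent.S9352
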