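import Groth.Statements.S9365
import Groth.Agent.Lib.T2H9SyntMor
import Groth.Agent.Lib.T2H9CIFieldBC

set_option autoImplicit false
set_option linter.style.haveILetI false
universe u
open Synt

namespace Groth.Agent.S9365

open AlgebraicGeometry CategoryTheory in
/-- If f : X → S is flat, locally of finite presentation, and every fibre X_s → Spec κ(s) is syntomic
(X_s is a local complete intersection over κ(s)), then f is syntomic. -/
theorem result {X S : Scheme.{u}} (f : X ⟶ S) [Flat f] [LocallyOfFinitePresentation f]
    (hfib : ∀ s : S, Synt.IsSyntomicMor (f.fiberToSpecResidueField s)) :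
    Synt.IsSyntomicMor f := by
  rw [Groth.Agent.Lib.T2H9.SyntMor.isSyntomicMor_iff_isCIMorphism]
  refine ⟨inferInstance, inferInstance, fun x => ?_⟩
  have h1 := (Groth.Agent.Lib.T2H9.SyntMor.isSyntomicMor_iff_isCIMorphism _).mp (hfib (f x))
  haveI : LocallyOfFiniteType (f.fiberToSpecResidueField (f x)) := by
    dsimp only [Scheme.Hom.fiberToSpecResidueField]
    exact MorphismProperty.pullback_snd (P := @LocallyOfFiniteType) f _ inferInstance
  exact (Groth.Agent.Lib.T2H9.CIFieldBC.isCI_stalk_iff_fiberStalk
    (k := S.residueField (f x)) (f.fiberToSpecResidueField (f x)) (f.asFiber x)).mpr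
    (h1.2.2 (f.asFiber x))

end Groth.Agent.S9365
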