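import Groth.Statements.S9368
import Groth.Agent.Lib.T2H9LCIField

set_option autoImplicit false
set_option linter.style.haveILetI false
universe u
open Synt

namespace Groth.Agent.S9368

open AlgebraicGeometry CategoryTheory in
/-- For X locally of finite type over a field k with structure morphism p, the following are equivalent:
(1) p is syntomic; (2) every x ∈ X has an affine open neighbourhood whose coordinate ring is a
global complete intersection over k; (3) each stalk O_{X,x} is a complete intersection ring over k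
(k-algebra structures induced by p). -/
theorem result (k : Type u) [Field k] (X : Scheme.{u}) (p : X ⟶ Spec (CommRingCat.of k)) [LocallyOfFiniteType p] :
    [Synt.IsSyntomicMor p,
      ∀ x : ↑X, ∃ U : X.affineOpens, x ∈ U.1 ∧
        letI := ((Scheme.ΓSpecIso (CommRingCat.of k)).inv ≫ p.appLE ⊤ U.1 le_top).hom.toAlgebra
        Synt.IsGlobalCI k Γ(X, U.1),
      ∀ x : ↑X,
        letI := ((Scheme.ΓSpecIso (CommRingCat.of k)).inv ≫ p.appLE ⊤ ⊤ le_top ≫ X.presheaf.germ ⊤ x trivial).hom.toAlgebra
        Synt.IsCIOver k (X.presheaf.stalk x)].TFAE := by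
  have hstalk : ∀ x : X, (letI := ((Scheme.ΓSpecIso (CommRingCat.of k)).inv ≫ p.appLE ⊤ ⊤ le_top ≫
        X.presheaf.germ ⊤ x trivial).hom.toAlgebra
      Synt.IsCIOver k (X.presheaf.stalk x)) ↔ Pi1.IsCompleteIntersection (X.presheaf.stalk x) :=
    fun x => Groth.Agent.Lib.T2H9.CIOverStalk.isCIOver_stalk_iff p x
  tfae_have 1 ↔ 3 := by
    rw [Groth.Agent.Lib.T2H9.SyntMor.isSyntomicMor_iff_isCIMorphism]
    constructor
    · rintro ⟨-, -, hc⟩ x
      exact (hstalk x).mpr
        ((Groth.Agent.Lib.T2H9.CIFieldBC.isCI_stalk_iff_fiberStalk p x).mpr (hc x))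
    · intro h
      refine ⟨inferInstance, inferInstance, fun x => ?_⟩
      exact (Groth.Agent.Lib.T2H9.CIFieldBC.isCI_stalk_iff_fiberStalk p x).mp ((hstalk x).mp (h x))
  tfae_have 2 → 3 := by
    intro h x
    obtain ⟨U, hx, hG⟩ := h x
    exact (hstalk x).mpr (Groth.Agent.Lib.T2H9.LCIField.isCI_stalk_of_isGlobalCI p U.2 x hx hG)
  tfae_have 3 → 2 := by
    intro h x
    exact Groth.Agent.Lib.T2H9.LCIField.exists_affineOpen_isGlobalCI p x ((hstalk x).mp (h x))
  tfae_finish

end Groth.Agent.S9368
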