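import Groth.Statements.S9395
import Groth.Agent.Lib.Helper28AnalUnram

set_option autoImplicit false
universe u
open CAlg

namespace Groth.Agent.S9395

theorem result (R : Type u) [CommRing R] [IsDomain R] [IsNoetherianRing R]
    (S : Type u) [CommRing S] [IsDomain S] [Algebra (Polynomial R) S]
    [IsLocalization.Away (Polynomial.X : Polynomial R) S] (h : CAlg.IsN1 S) : CAlg.IsN1 R := by
  letI algRS : Algebra R S := ((algebraMap (Polynomial R) S).comp Polynomial.C).toAlgebra
  haveI : IsScalarTower R (Polynomial R) S := IsScalarTower.of_algebraMap_eq (fun r => rfl)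
  haveI : Module.Flat (Polynomial R) S :=
    IsLocalization.flat S (Submonoid.powers (Polynomial.X : Polynomial R))
  haveI : Module.Flat R S := Module.Flat.trans R (Polynomial R) S
  haveI : IsNoetherianRing S :=
    IsLocalization.isNoetherianRing (Submonoid.powers (Polynomial.X : Polynomial R)) S inferInstance
  -- the retraction `X ↦ 1`
  let g : Polynomial R →+* R := Polynomial.evalRingHom 1
  have hg : IsUnit (g Polynomial.X) := by simp [g]
  let σ : S →+* R := IsLocalization.Away.lift (Polynomial.X : Polynomial R) hg
  have hσ : ∀ r : R, σ (algebraMap R S r) = r := by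
    intro r
    change σ (algebraMap (Polynomial R) S (Polynomial.C r)) = r
    rw [IsLocalization.Away.lift_eq]
    simp [g]
  haveI : Module.FaithfullyFlat R S := by
    rw [Module.FaithfullyFlat.iff_flat_and_proper_ideal]
    refine ⟨inferInstance, fun I hI htop => hI ?_⟩
    have h1 : (1 : S) ∈ I • (⊤ : Submodule R S) := by rw [htop]; trivial
    have h2 : ∀ s ∈ I • (⊤ : Submodule R S), σ s ∈ I := by
      intro s hs
      refine Submodule.smul_induction_on hs ?_ ?_
      · intro r hr n _
        rw [Algebra.smul_def, map_mul, hσ]
        exact I.mul_mem_right _ hr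
      · intro x y hx hy
        rw [map_add]
        exact I.add_mem hx hy
    have h3 := h2 1 h1
    rw [map_one] at h3
    exact (Ideal.eq_top_iff_one I).mpr h3
  exact Groth.Agent.Lib.Helper28.isN1_of_faithfullyFlat S h

end Groth.Agent.S9395
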