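import Groth.Statements.S9441
import Groth.Agent.Lib.T2H7JacCritB

set_option autoImplicit false
universe u
open Synt

namespace Groth.Agent.S9441

/-- For a relative global complete intersection S = R[x_1, …, x_n]/(f_1, …, f_c) and a prime q of S, the
map R → S is smooth at q if and only if some c × c minor of the Jacobian matrix (∂f_j/∂x_i), taken
on c distinct variables, has image outside q. -/
theorem result (R : Type u) [CommRing R] (n c : ℕ)
    (F : Fin c → MvPolynomial (Fin n) R) (hF : Synt.IsRelGCI R n c F)
    (q : Ideal (Synt.RelGCIRing R n c F)) [q.IsPrime] :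
    Algebra.IsSmoothAt R q ↔ ∃ I : Fin c ↪ Fin n,
      Ideal.Quotient.mk (Ideal.span (Set.range F))
        (Matrix.det (Matrix.of fun j i => MvPolynomial.pderiv (I i) (F j))) ∉ q := by
  have hq' : Ideal.span (Set.range F) ≤
      q.comap (Ideal.Quotient.mk (Ideal.span (Set.range F))) := by
    intro x hx
    rw [Ideal.mem_comap, Ideal.Quotient.eq_zero_iff_mem.mpr hx]
    exact q.zero_mem
  have hreg1 := (Groth.Agent.Lib.T2H7.SyntC.regular_and_flat_localization F hF
    (q.comap (Ideal.Quotient.mk (Ideal.span (Set.range F)))) hq').1
  have hreg := (Groth.Agent.S15821.result _ _ hreg1.toIsWeaklyRegular).1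
  rw [List.map_ofFn] at hreg
  have key := Groth.Agent.Lib.T2H7.JacCritB.isSmoothAt_iff_exists_minor (R := R)
    (KaehlerDifferential.mvPolynomialBasis R (Fin n)) F q hreg
  simp only [KaehlerDifferential.mvPolynomialBasis_repr_apply] at key
  exact key

end Groth.Agent.S9441
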