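import Groth.Statements.S9521
import Mathlib
import Groth.Agent.Lib.T2H5GenSub
-- import your own Groth.Agent.* helpers here

set_option autoImplicit false
universe u
open Coherent

namespace Groth.Agent.S9521

open CategoryTheory CategoryTheory.Limits AlgebraicGeometry in
/-- Let X be a Noetherian scheme, i : Z → X a closed immersion with Z an integral scheme, ξ ∈ X the
image of the generic point of Z, and F a coherent O_X-module whose stalk F_ξ is annihilated by the
maximal ideal of O_{X,ξ}. Then one can find r ≥ 0 together with a coherent ideal sheaf I ⊆ O_Z and a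
monomorphism of O_X-modules i_*(I^⊕r) → F that becomes an isomorphism when restricted to some open
neighbourhood of ξ. -/
theorem result (X Z : Scheme.{u}) [IsNoetherian X]
    (i : Z ⟶ X) [IsClosedImmersion i] [IsIntegral Z] (F : X.Modules) (hF : Coh.IsCoh F)
    (hann : ∀ a ∈ IsLocalRing.maximalIdeal (X.presheaf.stalk (i (genericPoint Z))),
      ∀ m : ↑(F.presheaf.stalk (i (genericPoint Z))), a • m = 0) :
    ∃ (r : ℕ) (I : Z.Modules) (ι : I ⟶ Coh.structureModule Z) (φ : (Coh.push i).obj (∐ fun _ : Fin r => I) ⟶ F),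
      Mono ι ∧ Coh.IsCoh I ∧ Mono φ ∧
      ∃ U : X.Opens, i (genericPoint Z) ∈ U ∧ IsIso ((Scheme.Modules.restrictFunctor U.ι).map φ) := by
  obtain ⟨r, I, ι, φ, D, U, hι, hI, hφ, hξU, hφU, -, -⟩ :=
    Groth.Agent.Lib.T2H5.GenSub.exists_push_ideal_mono i F hF hann (Coh.structureModule Z)
      Groth.Agent.Lib.T2H5.GenIsoF.isCoh_structureModule (𝟙 _) ⊤ trivial
      (Groth.Agent.Lib.Helper23.Extend.isoOn_id _ _)
  refine ⟨r, I, ι, φ, hι, hI, hφ, U, hξU, ?_⟩
  rw [Groth.Agent.Lib.Helper23.Extend.isIso_restrict_iff, Scheme.Opens.opensRange_ι]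
  exact hφU

end Groth.Agent.S9521
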