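import Groth.Statements.S9525
import Mathlib
import Groth.Agent.Lib.Helper20SuppClosed
import Groth.Agent.Lib.Helper20ZClos4
import Groth.Agent.Lib.Helper20ZClos
import Groth.Agent.Lib.Helper23QCohAbelian
import Groth.Agent.Lib.Helper23FinTypeLocal
import Groth.Agent.S0046
-- import your own Groth.Agent.* helpers here

set_option autoImplicit false
universe u
open Coherent

namespace Groth.Agent.S9525

open CategoryTheory CategoryTheory.Limits AlgebraicGeometry
open Groth.Agent.Lib.Helper20.ZClosLib Groth.Agent.Lib.Helper23.QCohLocal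
  Groth.Agent.Lib.Helper23.FinType

attribute [local instance] restrictFunctor_isRightAdjoint

/-- the stalks of a restriction -/
noncomputable def stalkIso {X : Scheme.{u}} (M : X.Modules) (V : X.Opens) (y : V) :
    ((Scheme.Modules.restrictFunctor V.ι).obj M).presheaf.stalk y ≅ M.presheaf.stalk (V.ι y) :=
  (Scheme.Modules.restrictStalkNatIso V.ι y).app M

/-- the restriction to `V` of a module whose stalks vanish on `V` is zero. -/
theorem isZero_restrict {X : Scheme.{u}} (M : X.Modules) (V : X.Opens)
    (h : ∀ y ∈ V, Subsingleton (M.presheaf.stalk y)) :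
    IsZero ((Scheme.Modules.restrictFunctor V.ι).obj M) := by
  apply isZero_of_stalk_subsingleton
  intro y
  have h1 : Subsingleton (M.presheaf.stalk (V.ι y)) := h _ y.2
  exact (stalkIso M V y).addCommGroupIsoToAddEquiv.toEquiv.subsingleton

/-- a module of finite type whose stalk at `x` vanishes is zero near `x`. -/
theorem exists_isZero_restrict {X : Scheme.{u}} (M : X.Modules)
    (hM : SheafOfModules.IsFiniteType (R := X.ringCatSheaf) M) (x : X)
    (hx : Subsingleton (M.presheaf.stalk x)) :
    ∃ U : X.Opens, x ∈ U ∧ IsZero ((Scheme.Modules.restrictFunctor U.ι).obj M) := by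
  obtain ⟨V, hxV, hV⟩ := Groth.Agent.Lib.Helper20.SuppClosed.exists_opens_subsingleton_stalk M x hx
  exact ⟨V, hxV, isZero_restrict M V hV⟩


open CategoryTheory CategoryTheory.Limits AlgebraicGeometry in
/-- Let X be a locally Noetherian scheme, F and G coherent O_X-modules, φ : G → F a morphism and x ∈ X.
(1) If F_x = 0 there is an open neighbourhood U of x with F|_U = 0. (2) If the stalk map φ_x : G_x →
F_x is injective there is an open neighbourhood U of x with φ|_U injective. (4) If φ_x is bijective
there is an open neighbourhood U of x with φ|_U an isomorphism. (Part (3), surjectivity, is the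
finite-type statement valid on any ringed space and is not restated.) -/
theorem result (X : Scheme.{u}) [IsLocallyNoetherian X]
    (F G : X.Modules) (hF : Coh.IsCoh F) (hG : Coh.IsCoh G) (φ : G ⟶ F) (x : X) :
    (Subsingleton ↑(F.presheaf.stalk x) →
      ∃ U : X.Opens, x ∈ U ∧ IsZero ((Scheme.Modules.restrictFunctor U.ι).obj F)) ∧
    (Function.Injective ((TopCat.Presheaf.stalkFunctor _ x).map φ.mapPresheaf).hom →
      ∃ U : X.Opens, x ∈ U ∧ Mono ((Scheme.Modules.restrictFunctor U.ι).map φ)) ∧
    (Function.Bijective ((TopCat.Presheaf.stalkFunctor _ x).map φ.mapPresheaf).hom →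
      ∃ U : X.Opens, x ∈ U ∧ IsIso ((Scheme.Modules.restrictFunctor U.ι).map φ)) := by
  have hFq : F.IsQuasicoherent := hF.1
  have hGq : G.IsQuasicoherent := hG.1
  have hKq : (kernel φ).IsQuasicoherent := isQuasicoherent_kernel φ
  have hK : Coh.IsCoh (kernel φ) := Groth.Agent.S0046.result X G (kernel φ) (kernel.ι φ) hG hKq
  have hKf : SheafOfModules.IsFiniteType (R := X.ringCatSheaf) (kernel φ) := hK.2
  have hCq : (cokernel φ).IsQuasicoherent := isQuasicoherent_cokernel φ
  have hFf : SheafOfModules.IsFiniteType (R := X.ringCatSheaf) F := hF.2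
  have hCf : SheafOfModules.IsFiniteType (R := X.ringCatSheaf) (cokernel φ) :=
    @isFiniteType_of_epi X F (cokernel φ) hFq hCq (cokernel.π φ) inferInstance hFf
  -- the stalk of the kernel
  have hker : ∀ y : X, Function.Injective ((stalkF y).map φ) →
      Subsingleton ((kernel φ).presheaf.stalk y) := by
    intro y hinj
    have hι : Function.Injective ((stalkF y).map (kernel.ι φ)) :=
      (mono_iff_stalk_injective (kernel.ι φ)).1 inferInstance y
    suffices h0 : ∀ k : (kernel φ).presheaf.stalk y, k = 0 from ⟨fun a b => by rw [h0 a, h0 b]⟩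
    intro k
    obtain ⟨U, hyU, r, rfl⟩ := (kernel φ).presheaf.exists_germ_eq k
    have h1 : (stalkF y).map φ ((stalkF y).map (kernel.ι φ)
        ((kernel φ).presheaf.germ U y hyU r)) = 0 := by
      rw [stalkF_map_germ, stalkF_map_germ]
      have h2 : φ.app U ((kernel.ι φ).app U r) = (kernel.ι φ ≫ φ).app U r := rfl
      rw [h2, kernel.condition]
      exact map_zero _
    have h3 : (stalkF y).map (kernel.ι φ) ((kernel φ).presheaf.germ U y hyU r) = 0 :=
      hinj (h1.trans (map_zero _).symm)
    exact hι (h3.trans (map_zero _).symm)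
  -- the stalk of the cokernel
  have hcok : ∀ y : X, Function.Surjective ((stalkF y).map φ) →
      Subsingleton ((cokernel φ).presheaf.stalk y) := by
    intro y hsurj
    suffices h0 : ∀ c : (cokernel φ).presheaf.stalk y, c = 0 from ⟨fun a b => by rw [h0 a, h0 b]⟩
    intro c
    obtain ⟨c', rfl⟩ := Groth.Agent.Lib.Helper4.ModEpi.exists_germ_eq_of_epi (cokernel.π φ) y c
    obtain ⟨g, rfl⟩ := hsurj c'
    obtain ⟨U, hyU, r, rfl⟩ := G.presheaf.exists_germ_eq g
    change (stalkF y).map (cokernel.π φ) ((stalkF y).map φ (G.presheaf.germ U y hyU r)) = 0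
    rw [stalkF_map_germ, stalkF_map_germ]
    have h1 : (cokernel.π φ).app U (φ.app U r) = (φ ≫ cokernel.π φ).app U r := rfl
    rw [h1, cokernel.condition]
    exact map_zero _
  -- from the vanishing of the restricted kernel and cokernel
  have hmono : ∀ U : X.Opens, IsZero ((Scheme.Modules.restrictFunctor U.ι).obj (kernel φ)) →
      Mono ((Scheme.Modules.restrictFunctor U.ι).map φ) := by
    intro U hU
    have hz : IsZero (kernel ((Scheme.Modules.restrictFunctor U.ι).map φ)) :=
      hU.of_iso (PreservesKernel.iso (Scheme.Modules.restrictFunctor U.ι) φ).symm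
    exact Preadditive.mono_of_kernel_zero (hz.eq_of_src _ _)
  have hepi : ∀ U : X.Opens, IsZero ((Scheme.Modules.restrictFunctor U.ι).obj (cokernel φ)) →
      Epi ((Scheme.Modules.restrictFunctor U.ι).map φ) := by
    intro U hU
    have hz : IsZero (cokernel ((Scheme.Modules.restrictFunctor U.ι).map φ)) :=
      hU.of_iso (PreservesCokernel.iso (Scheme.Modules.restrictFunctor U.ι) φ).symm
    exact Preadditive.epi_of_cokernel_zero (hz.eq_of_tgt _ _)
  refine ⟨fun h => exists_isZero_restrict F hF.2 x h, fun h => ?_, fun h => ?_⟩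
  · obtain ⟨U, hxU, hU⟩ := exists_isZero_restrict (kernel φ) hKf x (hker x h)
    exact ⟨U, hxU, hmono U hU⟩
  · obtain ⟨V₁, hx₁, hV₁⟩ := @Groth.Agent.Lib.Helper20.SuppClosed.exists_opens_subsingleton_stalk
      X (kernel φ) hKf x (hker x h.1)
    obtain ⟨V₂, hx₂, hV₂⟩ := @Groth.Agent.Lib.Helper20.SuppClosed.exists_opens_subsingleton_stalk
      X (cokernel φ) hCf x (hcok x h.2)
    refine ⟨V₁ ⊓ V₂, ⟨hx₁, hx₂⟩, ?_⟩
    have hm := hmono (V₁ ⊓ V₂) (isZero_restrict _ _ fun y hy => hV₁ y hy.1)
    have he := hepi (V₁ ⊓ V₂) (isZero_restrict _ _ fun y hy => hV₂ y hy.2)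
    exact isIso_of_mono_of_epi _

end Groth.Agent.S9525
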