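import Groth.Statements.S9655
import Mathlib

set_option autoImplicit false
universe u
open CAlg

namespace Groth.Agent.S9655

open IsLocalRing

section Lemmas

theorem isLoc_of {R S : Type*} [CommRing R] [CommRing S] [Algebra R S] (C : Subalgebra R S)
    (h : ∀ s : S, ∃ t ∈ C, IsUnit t ∧ s * t ∈ C) :
    IsLocalization ((IsUnit.submonoid S).comap (algebraMap C S)) S := by
  constructor; constructor
  · exact fun y ↦ y.prop
  · intro s
    obtain ⟨t, ht, ht', h⟩ := h s
    exact ⟨⟨⟨_, h⟩, ⟨t, ht⟩, ht'⟩, rfl⟩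
  · intro x y e
    exact ⟨1, by simpa using Subtype.ext e⟩

theorem claimA {R S : Type*} [CommRing R] [CommRing S] [Algebra R S] (C : Subalgebra R S)
    (σ : Set S)
    (hσ : ∀ s : S, ∃ t ∈ Algebra.adjoin R σ, IsUnit t ∧ s * t ∈ Algebra.adjoin R σ)
    (hgen : ∀ s ∈ σ, ∃ u ∈ C, IsUnit u ∧ s * u ∈ C) :
    ∀ s : S, ∃ t ∈ C, IsUnit t ∧ s * t ∈ C := by
  have key : ∀ c ∈ Algebra.adjoin R σ, ∃ u ∈ C, IsUnit u ∧ c * u ∈ C := by
    intro c hc
    induction hc using Algebra.adjoin_induction with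
    | mem x hx => exact hgen x hx
    | algebraMap r =>
      exact ⟨1, one_mem _, isUnit_one, by rw [mul_one]; exact C.algebraMap_mem r⟩
    | add x y _ _ ihx ihy =>
      obtain ⟨u1, hu1, hu1', h1⟩ := ihx
      obtain ⟨u2, hu2, hu2', h2⟩ := ihy
      refine ⟨u1 * u2, mul_mem hu1 hu2, hu1'.mul hu2', ?_⟩
      have e : (x + y) * (u1 * u2) = (x * u1) * u2 + (y * u2) * u1 := by ring
      rw [e]
      exact add_mem (mul_mem h1 hu2) (mul_mem h2 hu1)
    | mul x y _ _ ihx ihy =>
      obtain ⟨u1, hu1, hu1', h1⟩ := ihx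
      obtain ⟨u2, hu2, hu2', h2⟩ := ihy
      refine ⟨u1 * u2, mul_mem hu1 hu2, hu1'.mul hu2', ?_⟩
      have e : (x * y) * (u1 * u2) = (x * u1) * (y * u2) := by ring
      rw [e]
      exact mul_mem h1 h2
  intro s
  obtain ⟨t0, ht0, hu0, hst0⟩ := hσ s
  obtain ⟨u1, hu1, hu1', h1⟩ := key _ hst0
  obtain ⟨u2, hu2, hu2', h2⟩ := key _ ht0
  refine ⟨(t0 * u2) * u1, mul_mem h2 hu1, (hu0.mul hu2').mul hu1', ?_⟩
  have e : s * ((t0 * u2) * u1) = (s * t0 * u1) * u2 := by ring
  rw [e]
  exact mul_mem h1 hu2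

theorem sel {S : Type*} [CommRing S] [IsLocalRing S] (V : ValuationSubring (ResidueField S))
    (s : S) : ∃ y : S, residue S y ∈ V ∧ (y = s ∨ (IsUnit s ∧ s * y = 1)) := by
  by_cases h : residue S s ∈ V
  · exact ⟨s, h, Or.inl rfl⟩
  · have hinv : (residue S s)⁻¹ ∈ V := (V.mem_or_inv_mem _).resolve_left h
    have hu : IsUnit s := by
      by_contra hnu
      have h0 : residue S s = 0 :=
        (residue_eq_zero_iff s).mpr ((mem_maximalIdeal s).mpr (mem_nonunits_iff.mpr hnu))
      apply h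
      rw [h0]
      exact V.zero_mem
    obtain ⟨u, rfl⟩ := hu
    refine ⟨((u⁻¹ : Sˣ) : S), ?_, Or.inr ⟨u.isUnit, u.mul_inv⟩⟩
    have h1 : residue S (u : S) * residue S ((u⁻¹ : Sˣ) : S) = 1 := by
      rw [← map_mul, u.mul_inv, map_one]
    have h2 : residue S ((u⁻¹ : Sˣ) : S) = (residue S (u : S))⁻¹ :=
      eq_inv_of_mul_eq_one_right h1
    rw [h2]
    exact hinv

end Lemmas


/-- Let R and S be local rings and R → S a ring map, not necessarily local, that is essentially of
finite type. Then for some n there is a maximal ideal m of the polynomial ring R[x_1, …, x_n] lying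
over the maximal ideal of R, together with an R-algebra map φ : R[x_1, …, x_n]_m → S making S a
localization of the image of φ; thus S arises from R[x_1, …, x_n]_m by passing to a quotient and
then localizing. -/
theorem result {R S : Type u} [CommRing R] [CommRing S] [Algebra R S] [IsLocalRing R] [IsLocalRing S] [Algebra.EssFiniteType R S] :
    ∃ (n : ℕ) (m : Ideal (MvPolynomial (Fin n) R)) (_ : m.IsMaximal), m.under R = IsLocalRing.maximalIdeal R ∧
      ∃ (φ : Localization.AtPrime m →ₐ[R] S) (T : Submonoid φ.range), IsLocalization T S := by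
  classical
  obtain ⟨σ, hσ⟩ := (Algebra.essFiniteType_iff R S).mp inferInstance
  obtain ⟨V, hV, hloc⟩ := IsLocalRing.exists_factor_valuationRing
    ((residue S).comp (algebraMap R S))
  choose ysel hy1 hy2 using sel V
  obtain ⟨e, -⟩ : ∃ e : Fin σ.card ≃ σ, True := ⟨σ.equivFin.symm, trivial⟩
  obtain ⟨y, hy⟩ : ∃ y : Fin σ.card → S, ∀ i, y i = ysel (e i : S) := ⟨_, fun _ => rfl⟩
  obtain ⟨ψ, hψ⟩ : ∃ ψ : MvPolynomial (Fin σ.card) R →ₐ[R] S, ∀ i, ψ (MvPolynomial.X i) = y i :=
    ⟨MvPolynomial.aeval y, MvPolynomial.aeval_X y⟩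
  have hψC : ∀ r, ψ (MvPolynomial.C r) = algebraMap R S r := by
    intro r
    rw [← MvPolynomial.algebraMap_eq, ψ.commutes]
  have hyψ : ∀ s ∈ σ, ysel s ∈ ψ.range := by
    intro s hs
    refine (AlgHom.mem_range ψ).mpr ⟨MvPolynomial.X (e.symm ⟨s, hs⟩), ?_⟩
    rw [hψ, hy, Equiv.apply_symm_apply]
  have hgen : ∀ s ∈ (σ : Set S), ∃ u ∈ ψ.range, IsUnit u ∧ s * u ∈ ψ.range := by
    intro s hs
    rcases hy2 s with h | ⟨_, h⟩
    · refine ⟨1, one_mem _, isUnit_one, ?_⟩
      rw [mul_one, ← h]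
      exact hyψ s hs
    · refine ⟨ysel s, hyψ s hs, IsUnit.of_mul_eq_one_right s h, ?_⟩
      rw [h]
      exact one_mem _
  have hA : ∀ s : S, ∃ t ∈ ψ.range, IsUnit t ∧ s * t ∈ ψ.range :=
    claimA ψ.range (σ : Set S) hσ hgen
  obtain ⟨g, hg⟩ : ∃ g : MvPolynomial (Fin σ.card) R →+* ResidueField S,
      ∀ P, g P = residue S (ψ P) := ⟨(residue S).comp ψ.toRingHom, fun P => rfl⟩
  have hgC : ∀ r, g (MvPolynomial.C r) = (residue S).comp (algebraMap R S) r := by
    intro r
    rw [hg, hψC]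
    rfl
  have hgV : ∀ P, g P ∈ V := by
    intro P
    induction P using MvPolynomial.induction_on with
    | C r =>
      rw [hgC]
      exact hV r
    | add p q hp hq =>
      rw [map_add]
      exact V.add_mem _ _ hp hq
    | mul_X p i hp =>
      rw [map_mul, hg (MvPolynomial.X i), hψ, hy]
      exact V.mul_mem _ _ hp (hy1 _)
  have hvle : ∀ P, V.valuation (g P) ≤ 1 := fun P => (V.valuation_le_one_iff _).mpr (hgV P)
  let J' : Ideal (MvPolynomial (Fin σ.card) R) :=
    { carrier := {P | V.valuation (g P) < 1}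
      zero_mem' := by
        show V.valuation (g 0) < 1
        rw [map_zero, map_zero]
        exact zero_lt_one
      add_mem' := fun {a b} ha hb => by
        show V.valuation (g (a + b)) < 1
        rw [map_add]
        exact lt_of_le_of_lt (V.valuation.map_add _ _) (max_lt ha hb)
      smul_mem' := fun c {a} ha => by
        show V.valuation (g (c • a)) < 1
        rw [smul_eq_mul, map_mul, map_mul]
        exact mul_lt_of_le_one_of_lt (hvle c) ha }
  have hJ'mem : ∀ P, P ∈ J' ↔ V.valuation (g P) < 1 := fun P => Iff.rfl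
  have hJ'1 : (1 : MvPolynomial (Fin σ.card) R) ∉ J' := by
    rw [hJ'mem, map_one, map_one]
    exact lt_irrefl _
  have hmR : ∀ r ∈ maximalIdeal R, MvPolynomial.C r ∈ J' := by
    intro r hr
    rw [hJ'mem, hgC]
    by_contra hlt
    have hle : V.valuation ((residue S).comp (algebraMap R S) r) ≤ 1 :=
      (V.valuation_le_one_iff _).mpr (hV r)
    have heq : V.valuation ((residue S).comp (algebraMap R S) r) = 1 :=
      le_antisymm hle (not_lt.mp hlt)
    have hne : (residue S).comp (algebraMap R S) r ≠ 0 := by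
      intro h0
      rw [h0, map_zero] at heq
      exact zero_ne_one heq
    have hinvV : ((residue S).comp (algebraMap R S) r)⁻¹ ∈ V := by
      apply (V.valuation_le_one_iff _).mp
      rw [map_inv₀, heq, inv_one]
    have hunit : IsUnit (((residue S).comp (algebraMap R S)).codRestrict V.toSubring hV r) := by
      refine ⟨⟨⟨_, hV r⟩, ⟨_, hinvV⟩, ?_, ?_⟩, rfl⟩
      · exact Subtype.ext (mul_inv_cancel₀ hne)
      · exact Subtype.ext (inv_mul_cancel₀ hne)
    exact (mem_nonunits_iff.mp ((mem_maximalIdeal r).mp hr)) (hloc.map_nonunit r hunit)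
  have hq' : ∀ P, ψ P ∈ maximalIdeal S → P ∈ J' := by
    intro P hP
    rw [hJ'mem, hg, (residue_eq_zero_iff _).mpr hP, map_zero]
    exact zero_lt_one
  have hJ'top : J' ≠ ⊤ := (Ideal.ne_top_iff_one J').mpr hJ'1
  obtain ⟨m, hm, hJm⟩ := Ideal.exists_le_maximal J' hJ'top
  have h1 : maximalIdeal R ≤ m.under R := by
    intro r hr
    show algebraMap R _ r ∈ m
    rw [MvPolynomial.algebraMap_eq]
    exact hJm (hmR r hr)
  have h2 : m.under R ≠ ⊤ := Ideal.comap_ne_top _ hm.ne_top
  have hunits : ∀ P : m.primeCompl, IsUnit (ψ P) := by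
    intro P
    by_contra hnu
    exact (Ideal.mem_primeCompl_iff.mp P.2)
      (hJm (hq' P ((mem_maximalIdeal _).mpr (mem_nonunits_iff.mpr hnu))))
  obtain ⟨φ, hφ⟩ : ∃ φ : Localization.AtPrime m →ₐ[R] S,
      ∀ P, φ (algebraMap _ (Localization.AtPrime m) P) = ψ P :=
    ⟨IsLocalization.liftAlgHom (M := m.primeCompl) (f := ψ) hunits, fun P => by simp⟩
  have hrange : ψ.range ≤ φ.range := by
    intro x hx
    obtain ⟨P, rfl⟩ := (AlgHom.mem_range ψ).mp hx
    exact (AlgHom.mem_range φ).mpr ⟨_, hφ P⟩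
  refine ⟨σ.card, m, hm, ((maximalIdeal.isMaximal R).eq_of_le h2 h1).symm, φ,
    (IsUnit.submonoid S).comap (algebraMap φ.range S), isLoc_of φ.range ?_⟩
  intro s
  obtain ⟨t, ht, hu, hst⟩ := hA s
  exact ⟨t, hrange ht, hu, hrange hst⟩

end Groth.Agent.S9655
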