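import Groth.Statements.S9659
import Mathlib

set_option autoImplicit false
universe u
open CAlg

namespace Groth.Agent.S9659

open DirectSum

section
variable {R S : Type u} [CommRing R] [CommRing S] [Algebra R S] (𝒜 : ℤ → Submodule R S)
  [GradedAlgebra 𝒜]

/-- image in `S` of an ideal of the degree-zero subring -/
def T (P : Ideal (SetLike.GradeZero.subring 𝒜)) : Set S :=
  {z | ∃ w : SetLike.GradeZero.subring 𝒜, w ∈ P ∧ (w : S) = z}

lemma T_zero (P : Ideal (SetLike.GradeZero.subring 𝒜)) : (0 : S) ∈ T 𝒜 P :=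
  ⟨0, P.zero_mem, rfl⟩

lemma T_add {P : Ideal (SetLike.GradeZero.subring 𝒜)} {a b : S} (ha : a ∈ T 𝒜 P)
    (hb : b ∈ T 𝒜 P) : a + b ∈ T 𝒜 P := by
  obtain ⟨w, hw, rfl⟩ := ha
  obtain ⟨w', hw', rfl⟩ := hb
  exact ⟨w + w', P.add_mem hw hw', rfl⟩

lemma T_mul {P : Ideal (SetLike.GradeZero.subring 𝒜)} {a z : S} (ha : a ∈ 𝒜 0)
    (hz : z ∈ T 𝒜 P) : a * z ∈ T 𝒜 P := by
  obtain ⟨w, hw, rfl⟩ := hz
  exact ⟨⟨a, ha⟩ * w, P.mul_mem_left _ hw, rfl⟩

lemma T_mem_iff {P : Ideal (SetLike.GradeZero.subring 𝒜)} (z : SetLike.GradeZero.subring 𝒜) :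
    (z : S) ∈ T 𝒜 P ↔ z ∈ P := by
  constructor
  · rintro ⟨w, hw, hwz⟩
    have : w = z := Subtype.ext hwz
    rwa [← this]
  · intro h
    exact ⟨z, h, rfl⟩

lemma T_prime {P : Ideal (SetLike.GradeZero.subring 𝒜)} [hP : P.IsPrime] {a b : S}
    (ha : a ∈ 𝒜 0) (hb : b ∈ 𝒜 0) (hab : a * b ∈ T 𝒜 P) : a ∈ T 𝒜 P ∨ b ∈ T 𝒜 P := by
  have h : (((⟨a, ha⟩ : SetLike.GradeZero.subring 𝒜) * ⟨b, hb⟩ :
      SetLike.GradeZero.subring 𝒜) : S) ∈ T 𝒜 P := hab
  rw [T_mem_iff] at h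
  rcases hP.mem_or_mem h with h | h
  · exact Or.inl ((T_mem_iff 𝒜 ⟨a, ha⟩).mpr h)
  · exact Or.inr ((T_mem_iff 𝒜 ⟨b, hb⟩).mpr h)

lemma T_one {P : Ideal (SetLike.GradeZero.subring 𝒜)} [hP : P.IsPrime] : (1 : S) ∉ T 𝒜 P := by
  intro h
  have h' : ((1 : SetLike.GradeZero.subring 𝒜) : S) ∈ T 𝒜 P := h
  rw [T_mem_iff] at h'
  exact hP.ne_top ((Ideal.eq_top_iff_one _).mpr h')

def inL (P : Ideal (SetLike.GradeZero.subring 𝒜)) (x : S) : Prop :=
  ∀ n : ℤ, ∀ y ∈ 𝒜 (-n), (decompose 𝒜 x n : S) * y ∈ T 𝒜 P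

lemma inL_zero (P : Ideal (SetLike.GradeZero.subring 𝒜)) : inL 𝒜 P 0 := by
  intro n y _
  rw [decompose_zero, DirectSum.zero_apply, ZeroMemClass.coe_zero, zero_mul]
  exact T_zero 𝒜 P

lemma inL_add {P : Ideal (SetLike.GradeZero.subring 𝒜)} {a b : S} (ha : inL 𝒜 P a)
    (hb : inL 𝒜 P b) : inL 𝒜 P (a + b) := by
  intro n y hy
  rw [decompose_add, DirectSum.add_apply, Submodule.coe_add, add_mul]
  exact T_add 𝒜 (ha n y hy) (hb n y hy)

lemma inL_mul {P : Ideal (SetLike.GradeZero.subring 𝒜)} {x : S} (hx : inL 𝒜 P x) :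
    ∀ c : S, inL 𝒜 P (c * x) := by
  refine DirectSum.Decomposition.inductionOn 𝒜 ?_ ?_ ?_
  · rw [zero_mul]
    exact inL_zero 𝒜 P
  · intro m c n y hy
    obtain ⟨j, rfl⟩ : ∃ j, n = m + j := ⟨n - m, by ring⟩
    rw [coe_decompose_mul_add_of_left_mem 𝒜 c.2, mul_assoc, mul_left_comm]
    apply hx j
    have h := SetLike.mul_mem_graded c.2 hy
    have e : m + -(m + j) = -j := by ring
    rwa [e] at h
  · intro c c' hc hc'
    rw [add_mul]
    exact inL_add 𝒜 hc hc'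

lemma inL_of_mem {P : Ideal (SetLike.GradeZero.subring 𝒜)} {n : ℤ} {x : S} (hx : x ∈ 𝒜 n) :
    inL 𝒜 P x ↔ ∀ y ∈ 𝒜 (-n), x * y ∈ T 𝒜 P := by
  constructor
  · intro h y hy
    have := h n y hy
    rwa [decompose_of_mem_same 𝒜 hx] at this
  · intro h k y hy
    by_cases hk : n = k
    · subst hk
      rw [decompose_of_mem_same 𝒜 hx]
      exact h y hy
    · rw [decompose_of_mem_ne 𝒜 hx hk, zero_mul]
      exact T_zero 𝒜 P

def liftIdeal (P : Ideal (SetLike.GradeZero.subring 𝒜)) : Ideal S where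
  carrier := {x | inL 𝒜 P x}
  zero_mem' := inL_zero 𝒜 P
  add_mem' := fun ha hb => inL_add 𝒜 ha hb
  smul_mem' := by
    intro c x hx
    exact inL_mul 𝒜 hx c

lemma liftIdeal_homogeneous (P : Ideal (SetLike.GradeZero.subring 𝒜)) :
    (liftIdeal 𝒜 P).IsHomogeneous 𝒜 := by
  intro i x hx
  show inL 𝒜 P _
  rw [inL_of_mem 𝒜 (SetLike.coe_mem _)]
  intro y hy
  exact hx i y hy

lemma liftIdeal_isPrime (P : Ideal (SetLike.GradeZero.subring 𝒜)) [hP : P.IsPrime] :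
    (liftIdeal 𝒜 P).IsPrime := by
  apply (liftIdeal_homogeneous 𝒜 P).isPrime_of_homogeneous_mem_or_mem
  · intro htop
    have h1 : (1 : S) ∈ liftIdeal 𝒜 P := by
      rw [htop]
      trivial
    have h1' : inL 𝒜 P 1 := h1
    rw [inL_of_mem 𝒜 (SetLike.one_mem_graded 𝒜)] at h1'
    have := h1' 1 (by rw [neg_zero]; exact SetLike.one_mem_graded 𝒜)
    rw [mul_one] at this
    exact T_one 𝒜 this
  · rintro x y ⟨n, hx⟩ ⟨m, hy⟩ hxy
    by_contra hcon
    rw [not_or] at hcon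
    obtain ⟨hx', hy'⟩ := hcon
    apply hy'
    show inL 𝒜 P y
    rw [inL_of_mem 𝒜 hy]
    intro b hb
    have hx'' : ¬ inL 𝒜 P x := hx'
    rw [inL_of_mem 𝒜 hx] at hx''
    push Not at hx''
    obtain ⟨a, ha, hxa⟩ := hx''
    have hxy' : inL 𝒜 P (x * y) := hxy
    rw [inL_of_mem 𝒜 (SetLike.mul_mem_graded hx hy)] at hxy'
    have hab : a * b ∈ 𝒜 (-(n + m)) := by
      have := SetLike.mul_mem_graded ha hb
      rwa [← neg_add] at this
    have h1 := hxy' (a * b) hab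
    have h2 : x * y * (a * b) = (x * a) * (y * b) := by ring
    rw [h2] at h1
    have hxa0 : x * a ∈ 𝒜 0 := by
      have := SetLike.mul_mem_graded hx ha
      rwa [add_neg_cancel] at this
    have hyb0 : y * b ∈ 𝒜 0 := by
      have := SetLike.mul_mem_graded hy hb
      rwa [add_neg_cancel] at this
    rcases T_prime 𝒜 hxa0 hyb0 h1 with h | h
    · exact absurd h hxa
    · exact h

lemma liftIdeal_comap (P : Ideal (SetLike.GradeZero.subring 𝒜)) :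
    Ideal.comap (SetLike.GradeZero.subring 𝒜).subtype (liftIdeal 𝒜 P) = P := by
  ext z
  rw [Ideal.mem_comap]
  show inL 𝒜 P (z : S) ↔ z ∈ P
  rw [inL_of_mem 𝒜 (show (z : S) ∈ 𝒜 0 from z.2)]
  constructor
  · intro h
    have := h 1 (by rw [neg_zero]; exact SetLike.one_mem_graded 𝒜)
    rw [mul_one] at this
    exact (T_mem_iff 𝒜 z).mp this
  · intro h y hy
    rw [neg_zero] at hy
    rw [mul_comm]
    exact T_mul 𝒜 hy ((T_mem_iff 𝒜 z).mpr h)

lemma inv_mem {f g : S} {d : ℤ} (hf : f ∈ 𝒜 d) (hfg : f * g = 1) : g ∈ 𝒜 (-d) := by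
  have h := coe_decompose_mul_add_of_left_mem 𝒜 (b := g) (j := -d) hf
  rw [add_neg_cancel, hfg, decompose_of_mem_same 𝒜 (SetLike.one_mem_graded 𝒜)] at h
  have h2 : g = (decompose 𝒜 g (-d) : S) := by
    calc g = g * 1 := (mul_one g).symm
      _ = g * (f * (decompose 𝒜 g (-d) : S)) := by rw [← h]
      _ = (f * g) * (decompose 𝒜 g (-d) : S) := by ring
      _ = (decompose 𝒜 g (-d) : S) := by rw [hfg, one_mul]
  rw [h2]
  exact SetLike.coe_mem _

lemma pow_mul_pow_mem {f g : S} {d : ℤ} (hf : f ∈ 𝒜 d) (hg : g ∈ 𝒜 (-d)) (a b : ℕ) (k : ℤ)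
    (hk : ((a : ℤ) - b) * d = k) : f ^ a * g ^ b ∈ 𝒜 k := by
  have h := SetLike.mul_mem_graded (SetLike.pow_mem_graded a hf) (SetLike.pow_mem_graded b hg)
  have e : a • d + b • (-d) = k := by
    rw [← hk, nsmul_eq_mul, nsmul_eq_mul]
    ring
  rwa [e] at h

def theta (f g : S) (e : ℕ) (n : ℤ) (x : S) : S := x ^ e * (f ^ (-n).toNat * g ^ n.toNat)

lemma theta_mem {f g : S} {d : ℤ} (hf : f ∈ 𝒜 d) (hg : g ∈ 𝒜 (-d)) (e : ℕ) (he : (e : ℤ) = d)
    {n : ℤ} {x : S} (hx : x ∈ 𝒜 n) : theta f g e n x ∈ 𝒜 0 := by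
  have h1 := SetLike.pow_mem_graded e hx
  have h2 : f ^ (-n).toNat * g ^ n.toNat ∈ 𝒜 (-(n * d)) := by
    apply pow_mul_pow_mem 𝒜 hf hg
    have h3 := Int.toNat_sub_toNat_neg n
    have h4 : (((-n).toNat : ℤ) - (n.toNat : ℤ)) = -n := by linarith
    rw [h4]
    ring
  have h := SetLike.mul_mem_graded h1 h2
  have e0 : e • n + -(n * d) = 0 := by
    rw [nsmul_eq_mul, he]
    ring
  rw [e0] at h
  exact h

omit [Algebra R S] in
lemma theta_mem_prime_iff {f g : S} (hfg : f * g = 1) (e : ℕ) (he : 0 < e) (n : ℤ) (x : S)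
    (p : Ideal S) [hp : p.IsPrime] : theta f g e n x ∈ p ↔ x ∈ p := by
  have hu : IsUnit (f ^ (-n).toNat * g ^ n.toNat) := by
    have hf : IsUnit f := IsUnit.of_mul_eq_one _ hfg
    have hg : IsUnit g := IsUnit.of_mul_eq_one f (by rwa [mul_comm] at hfg)
    exact (hf.pow _).mul (hg.pow _)
  constructor
  · intro h
    rcases hp.mem_or_mem h with h | h
    · exact hp.mem_of_pow_mem e h
    · exact absurd (Ideal.eq_top_of_isUnit_mem _ h hu) hp.ne_top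
  · intro h
    exact Ideal.mul_mem_right _ _ (Ideal.pow_mem_of_mem _ h e he)

def phi : {p : PrimeSpectrum S // p.asIdeal.IsHomogeneous 𝒜} →
    PrimeSpectrum (SetLike.GradeZero.subring 𝒜) :=
  fun p => PrimeSpectrum.comap (SetLike.GradeZero.subring 𝒜).subtype p.1

lemma key {f g : S} {d : ℤ} (hf : f ∈ 𝒜 d) (hg : g ∈ 𝒜 (-d)) (hfg : f * g = 1) (e : ℕ)
    (he : (e : ℤ) = d) (he0 : 0 < e)
    (p : {p : PrimeSpectrum S // p.asIdeal.IsHomogeneous 𝒜}) (n : ℤ) (y : S) (hy : y ∈ 𝒜 n) :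
    (⟨theta f g e n y, theta_mem 𝒜 hf hg e he hy⟩ : SetLike.GradeZero.subring 𝒜) ∈
      (phi 𝒜 p).asIdeal ↔ y ∈ p.1.asIdeal :=
  theta_mem_prime_iff hfg e he0 n y p.1.asIdeal

lemma phi_surjective : Function.Surjective (phi 𝒜) := by
  intro P
  have := liftIdeal_isPrime 𝒜 P.asIdeal
  refine ⟨⟨⟨liftIdeal 𝒜 P.asIdeal, inferInstance⟩, liftIdeal_homogeneous 𝒜 P.asIdeal⟩, ?_⟩
  apply PrimeSpectrum.ext
  exact liftIdeal_comap 𝒜 P.asIdeal

lemma main (f : S) (d : ℤ) (hd : 0 < d) (hf : f ∈ 𝒜 d) (hu : IsUnit f) :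
    IsHomeomorph (phi 𝒜) := by
  classical
  obtain ⟨g, hfg⟩ := hu.exists_right_inv
  have hgm : g ∈ 𝒜 (-d) := inv_mem 𝒜 hf hfg
  obtain ⟨e, he⟩ : ∃ e : ℕ, (e : ℤ) = d := ⟨d.toNat, Int.toNat_of_nonneg hd.le⟩
  have he0 : 0 < e := by omega
  have hsurj := phi_surjective 𝒜
  have hinj : Function.Injective (phi 𝒜) := by
    intro p q hpq
    apply Subtype.ext
    apply PrimeSpectrum.ext
    ext x
    rw [Ideal.IsHomogeneous.mem_iff 𝒜 p.2, Ideal.IsHomogeneous.mem_iff 𝒜 q.2]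
    refine forall_congr' fun i => ?_
    have hy := SetLike.coe_mem (decompose 𝒜 x i)
    have h1 := key 𝒜 hf hgm hfg e he he0 p i _ hy
    have h2 := key 𝒜 hf hgm hfg e he he0 q i _ hy
    rw [hpq] at h1
    exact h1.symm.trans h2
  refine ⟨?_, ?_, hinj, hsurj⟩
  · exact (PrimeSpectrum.continuous_comap _).comp continuous_subtype_val
  · intro U hU
    obtain ⟨V, hV, rfl⟩ := isOpen_induced_iff.mp hU
    obtain ⟨s, hs⟩ := (PrimeSpectrum.isOpen_iff V).mp hV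
    have hVmem : ∀ p : PrimeSpectrum S, p ∈ V ↔ ∃ a ∈ s, a ∉ p.asIdeal := by
      intro p
      rw [← not_iff_not, ← Set.mem_compl_iff, hs, PrimeSpectrum.mem_zeroLocus]
      push Not
      rfl
    have himg : phi 𝒜 '' (Subtype.val ⁻¹' V) = ⋃ a ∈ s, ⋃ n : ℤ,
        (PrimeSpectrum.basicOpen (⟨theta f g e n (decompose 𝒜 a n),
          theta_mem 𝒜 hf hgm e he (SetLike.coe_mem _)⟩ : SetLike.GradeZero.subring 𝒜) :
          Set (PrimeSpectrum (SetLike.GradeZero.subring 𝒜))) := by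
      apply Set.eq_of_subset_of_subset
      · rintro _ ⟨p, hpV, rfl⟩
        obtain ⟨a, has, hap⟩ := (hVmem p.1).mp hpV
        rw [Ideal.IsHomogeneous.mem_iff 𝒜 p.2] at hap
        push Not at hap
        obtain ⟨n, hn⟩ := hap
        refine Set.mem_iUnion₂.mpr ⟨a, has, Set.mem_iUnion.mpr ⟨n, ?_⟩⟩
        refine (PrimeSpectrum.mem_basicOpen _ _).mpr ?_
        intro hmem
        exact hn ((key 𝒜 hf hgm hfg e he he0 p n _ (SetLike.coe_mem _)).mp hmem)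
      · intro P hP
        obtain ⟨a, has, hP⟩ := Set.mem_iUnion₂.mp hP
        obtain ⟨n, hn⟩ := Set.mem_iUnion.mp hP
        have hn' := (PrimeSpectrum.mem_basicOpen _ _).mp hn
        obtain ⟨p, rfl⟩ := hsurj P
        refine ⟨p, ?_, rfl⟩
        rw [Set.mem_preimage, hVmem]
        refine ⟨a, has, fun hap => hn' ?_⟩
        exact (key 𝒜 hf hgm hfg e he he0 p n _ (SetLike.coe_mem _)).mpr (p.2 n hap)
    rw [himg]
    exact isOpen_iUnion fun a => isOpen_iUnion fun _ => isOpen_iUnion fun n =>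
      PrimeSpectrum.isOpen_basicOpen

end

/-- Let S be a ℤ-graded ring which contains an invertible homogeneous element of positive degree. Then
the set of homogeneous prime ideals of S, with the topology induced from Spec(S), maps
homeomorphically onto Spec(S₀) by p ↦ p ∩ S₀. -/
theorem result {R S : Type u} [CommRing R] [CommRing S] [Algebra R S] (𝒜 : ℤ → Submodule R S) [GradedAlgebra 𝒜]
    (f : S) (d : ℤ) (hd : 0 < d) (hf : f ∈ 𝒜 d) (hu : IsUnit f) :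
    IsHomeomorph (fun p : {p : PrimeSpectrum S // p.asIdeal.IsHomogeneous 𝒜} => PrimeSpectrum.comap (SetLike.GradeZero.subring 𝒜).subtype p.1) := by
  exact main 𝒜 f d hd hf hu

end Groth.Agent.S9659
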