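import Groth.Statements.S9673
import Groth.Agent.Lib.T2H3NormSrcSchB
import Groth.Agent.S9672

set_option autoImplicit false
set_option linter.style.haveILetI false
universe u
open CategoryTheory CategoryTheory.Limits AlgebraicGeometry
open Mor
open Groth.Agent.Lib.T2H3

namespace Groth.Agent.S9673

/-- Let f : Y ⟶ X be quasi-compact and quasi-separated, with Y normal and the irreducible components of
Y locally finite (equivalently, each quasi-compact open subset of Y meets only finitely many of
them). Let X' be the normalization of X in Y and f' : Y ⟶ X' the canonical morphism. Then X' is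
normal with locally finitely many irreducible components (hence a disjoint union of normal integral
schemes), f' maps generic points of irreducible components of Y to generic points of irreducible
components of X', and over each generic point of a component of X' there lies exactly one generic
point of a component of Y. (Dominance of f' holds for every quasi-compact quasi-separated f and is
not restated.) -/
theorem result {X Y : Scheme.{u}} (f : Y ⟶ X)
    [QuasiCompact f] [QuasiSeparated f] (hY : Pi1.IsNormalScheme Y)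
    (hfin : LocallyFinite (fun Z : ↥(irreducibleComponents ↥Y) => (Z : Set ↥Y))) :
    Pi1.IsNormalScheme f.normalization ∧
    LocallyFinite (fun Z : ↥(irreducibleComponents ↥f.normalization) => (Z : Set ↥f.normalization)) ∧
    (∀ y : Y, closure {y} ∈ irreducibleComponents ↥Y →
      closure {f.toNormalization.base y} ∈ irreducibleComponents ↥f.normalization) ∧
    (∀ x' : ↥f.normalization, closure {x'} ∈ irreducibleComponents ↥f.normalization →
      ∃! y : Y, closure {y} ∈ irreducibleComponents ↥Y ∧ f.toNormalization.base y = x') := by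
  classical
  have hdom : ∀ y : Y, IsDomain (Y.presheaf.stalk y) := fun y => (hY y).1
  have hclopen : ∀ Z : Set Y, Z ∈ irreducibleComponents Y → IsClopen Z := fun Z hZ =>
    ⟨isClosed_of_mem_irreducibleComponents Z hZ,
      NormSrc.isOpen_of_mem_irreducibleComponents hdom hfin hZ⟩
  have hmem : ∀ (U : X.Opens) (y : Y), y ∈ f ⁻¹ᵁ U ↔
      f.toNormalization y ∈ f.fromNormalization ⁻¹ᵁ U := by
    intro U y
    have h1 : f ⁻¹ᵁ U = f.toNormalization ⁻¹ᵁ (f.fromNormalization ⁻¹ᵁ U) := by
      rw [← Scheme.Hom.comp_preimage, f.toNormalization_fromNormalization]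
    rw [h1]
    rfl
  -- generic point of a component through a point of `X'`, with a preimage in `Y`
  have hgen : ∀ x' : f.normalization, ∃ (η' : f.normalization) (y₀ : Y), η' ⤳ x' ∧
      closure {η'} ∈ irreducibleComponents f.normalization ∧
      closure {y₀} ∈ irreducibleComponents Y ∧ f.toNormalization y₀ = η' := by
    intro x'
    obtain ⟨η', hη'⟩ := Groth.Agent.Lib.Helper14.exists_closure_eq_of_mem_irreducibleComponents
      (irreducibleComponent_mem_irreducibleComponents x')
    have hcomp : closure {η'} ∈ irreducibleComponents f.normalization :=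
      hη' ▸ irreducibleComponent_mem_irreducibleComponents x'
    obtain ⟨y₀, hy₀, hy₀η⟩ := Groth.Agent.S9672.result f η' hcomp
    refine ⟨η', y₀, ?_, hcomp, hy₀, hy₀η⟩
    rw [specializes_iff_mem_closure, hη']
    exact mem_irreducibleComponent
  -- affine neighbourhoods
  have haff : ∀ x' : f.normalization, ∃ U : X.Opens, IsAffineOpen U ∧
      x' ∈ f.fromNormalization ⁻¹ᵁ U := by
    intro x'
    obtain ⟨_, ⟨U, hU, rfl⟩, hxU, -⟩ := X.isBasis_affineOpens.exists_subset_of_mem_open
      (Set.mem_univ (f.fromNormalization x')) isOpen_univ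
    exact ⟨U, hU, hxU⟩
  -- separation
  have hsep : ∀ (U : X.Opens) (_ : IsAffineOpen U) (ya yb : Y), ya ∈ f ⁻¹ᵁ U → yb ∈ f ⁻¹ᵁ U →
      closure {ya} ∈ irreducibleComponents Y → yb ∉ closure {ya} →
      ¬ (f.toNormalization ya ⤳ f.toNormalization yb) := by
    intro U hU ya yb hya hyb hcomp hnot hsp
    have hZ := hclopen _ hcomp
    obtain ⟨ebar, hebar⟩ := NormSrc.exists_ebar f hU hZ
    have h1 := (NormSrc.sep f hZ ebar hebar yb hyb).2 hnot
    have h2 := (NormSrc.sep f hZ ebar hebar ya hya).1 (subset_closure (Set.mem_singleton ya))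
    exact h2 (hsp.mem_open (f.normalization.basicOpen (1 - ebar)).isOpen h1)
  refine ⟨?_, ?_, ?_, ?_⟩
  · -- normality
    intro x'
    obtain ⟨U, hU, hx'W⟩ := haff x'
    obtain ⟨η', y₀, hsp, -, hy₀, hy₀η⟩ := hgen x'
    have hη'W : η' ∈ f.fromNormalization ⁻¹ᵁ U :=
      hsp.mem_open (f.fromNormalization ⁻¹ᵁ U).isOpen hx'W
    have hy₀V : y₀ ∈ f ⁻¹ᵁ U := (hmem U y₀).mpr (hy₀η ▸ hη'W)
    have hZ := hclopen _ hy₀
    obtain ⟨ebar, hebar⟩ := NormSrc.exists_ebar f hU hZ
    have hnot : x' ∉ f.normalization.basicOpen (1 - ebar) := by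
      intro h
      have h1 := hsp.mem_open (f.normalization.basicOpen (1 - ebar)).isOpen h
      rw [← hy₀η] at h1
      exact (NormSrc.sep f hZ ebar hebar y₀ hy₀V).1 (subset_closure (Set.mem_singleton y₀)) h1
    have hW : IsAffineOpen (f.fromNormalization ⁻¹ᵁ U) := hU.preimage f.fromNormalization
    have hunit : IsUnit (f.normalization.presheaf.germ (f.fromNormalization ⁻¹ᵁ U) x' hx'W ebar) := by
      have h1 : f.normalization.presheaf.germ (f.fromNormalization ⁻¹ᵁ U) x' hx'W ebar +
          f.normalization.presheaf.germ (f.fromNormalization ⁻¹ᵁ U) x' hx'W (1 - ebar) = 1 := by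
        rw [← map_add, add_sub_cancel, map_one]
      rcases IsLocalRing.isUnit_or_isUnit_of_add_one h1 with h | h
      · exact h
      · exact absurd ((Scheme.mem_basicOpen _ _ x' hx'W).mpr h) hnot
    letI := TopCat.Presheaf.algebra_section_stalk f.normalization.presheaf ⟨x', hx'W⟩
    haveI hloc := hW.isLocalization_stalk ⟨x', hx'W⟩
    haveI := (hW.primeIdealOf ⟨x', hx'W⟩).isPrime
    have hp : ebar ∉ (hW.primeIdealOf ⟨x', hx'W⟩).asIdeal := by
      rw [NormNormal.mem_primeIdealOf_iff hW x' hx'W]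
      intro h
      exact (IsLocalRing.mem_maximalIdeal _).mp h hunit
    have hirr : IsIrreducible (NormSrc.inOpen (f ⁻¹ᵁ U) hZ : Set Y) := by
      refine ⟨⟨y₀, hy₀V, subset_closure (Set.mem_singleton y₀)⟩, ?_⟩
      exact (isIrreducible_singleton.closure).isPreirreducible.open_subset
        (NormSrc.inOpen (f ⁻¹ᵁ U) hZ).isOpen (fun y hy => hy.2)
    obtain ⟨hD1, hD2⟩ := NormSrc.isDomain_and_isIntegrallyClosed_sections hY _ hirr
    exact NormSrc.isDomain_and_isIntegrallyClosed_of_isLocalization (NormSrc.phi f (U := U))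
      (NormSrc.phi_injective f hU) (NormSrc.mem_range_phi f hU)
      (NormSrc.resIn (f ⁻¹ᵁ U) hZ) (NormSrc.resIn_surjective _ hZ)
      (NormSrc.idem (f ⁻¹ᵁ U) hZ) (NormSrc.idem_mul_idem _ hZ) (NormSrc.resIn_idem _ hZ)
      (NormSrc.mul_idem_eq_zero _ hZ) ebar hebar
      (hW.primeIdealOf ⟨x', hx'W⟩).asIdeal hp (f.normalization.presheaf.stalk x')
  · -- local finiteness
    intro x'
    obtain ⟨U, hU, hx'W⟩ := haff x'
    refine ⟨f.fromNormalization ⁻¹ᵁ U, (f.fromNormalization ⁻¹ᵁ U).isOpen.mem_nhds hx'W, ?_⟩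
    have hVc : IsCompact (f ⁻¹ᵁ U : Set Y) := f.isCompact_preimage hU.isCompact
    have hfinV := hfin.finite_nonempty_inter_compact hVc
    apply Set.Finite.of_finite_image _ Subtype.val_injective.injOn
    refine (hfinV.image (fun Z : ↥(irreducibleComponents ↥Y) =>
      closure (f.toNormalization '' (Z : Set Y)))).subset ?_
    rintro _ ⟨⟨Z', hZ'⟩, ⟨z, hzZ', hzW⟩, rfl⟩
    obtain ⟨η', hη'⟩ :=
      Groth.Agent.Lib.Helper14.exists_closure_eq_of_mem_irreducibleComponents hZ'
    have hcomp : closure {η'} ∈ irreducibleComponents f.normalization := hη' ▸ hZ'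
    obtain ⟨y₀, hy₀, hy₀η⟩ := Groth.Agent.S9672.result f η' hcomp
    have hsp : η' ⤳ z := by
      rw [specializes_iff_mem_closure, hη']; exact hzZ'
    have hη'W : η' ∈ f.fromNormalization ⁻¹ᵁ U :=
      hsp.mem_open (f.fromNormalization ⁻¹ᵁ U).isOpen hzW
    have hy₀V : y₀ ∈ f ⁻¹ᵁ U := (hmem U y₀).mpr (hy₀η ▸ hη'W)
    refine ⟨⟨closure {y₀}, hy₀⟩, ⟨y₀, subset_closure (Set.mem_singleton y₀), hy₀V⟩, ?_⟩
    change closure (f.toNormalization '' closure {y₀}) = Z'
    rw [← hη', ← hy₀η]
    apply subset_antisymm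
    · apply closure_minimal _ isClosed_closure
      refine (image_closure_subset_closure_image f.toNormalization.continuous).trans ?_
      rw [Set.image_singleton]
    · apply closure_mono
      rw [Set.singleton_subset_iff]
      exact ⟨y₀, subset_closure (Set.mem_singleton y₀), rfl⟩
  · -- generic points map to generic points
    intro y hy
    obtain ⟨U, hU, hx'W⟩ := haff (f.toNormalization y)
    obtain ⟨η', y₀, hsp, hcomp, hy₀, hy₀η⟩ := hgen (f.toNormalization y)
    have hη'W : η' ∈ f.fromNormalization ⁻¹ᵁ U :=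
      hsp.mem_open (f.fromNormalization ⁻¹ᵁ U).isOpen hx'W
    have hy₀V : y₀ ∈ f ⁻¹ᵁ U := (hmem U y₀).mpr (hy₀η ▸ hη'W)
    have hyV : y ∈ f ⁻¹ᵁ U := (hmem U y).mpr hx'W
    have hyZ : y ∈ closure {y₀} := by
      by_contra hnot
      exact hsep U hU y₀ y hy₀V hyV hy₀ hnot (hy₀η ▸ hsp)
    have hsp2 : y₀ ⤳ y := specializes_iff_mem_closure.mpr hyZ
    have heq : y₀ = y :=
      (Groth.Agent.Lib.Helper14.closure_mem_irreducibleComponents_iff y).mp hy y₀ hsp2
    rw [← heq, hy₀η]
    exact hcomp
  · -- uniqueness of the generic point above a generic point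
    intro x' hx'
    obtain ⟨y, hy, hyx⟩ := Groth.Agent.S9672.result f x' hx'
    refine ⟨y, ⟨hy, hyx⟩, ?_⟩
    rintro y₁ ⟨hy₁, hy₁x⟩
    obtain ⟨U, hU, hx'W⟩ := haff x'
    have hyV : y ∈ f ⁻¹ᵁ U := (hmem U y).mpr (hyx ▸ hx'W)
    have hy₁V : y₁ ∈ f ⁻¹ᵁ U := (hmem U y₁).mpr (hy₁x ▸ hx'W)
    have hy₁Z : y₁ ∈ closure {y} := by
      by_contra hnot
      refine hsep U hU y y₁ hyV hy₁V hy hnot ?_
      rw [hyx, hy₁x]
    have hsp2 : y ⤳ y₁ := specializes_iff_mem_closure.mpr hy₁Z
    exact ((Groth.Agent.Lib.Helper14.closure_mem_irreducibleComponents_iff y₁).mp hy₁ y hsp2).symm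

end Groth.Agent.S9673
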