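import Groth.Statements.S9695
import Mathlib
import Groth.Agent.Lib.T2H6VAmpleF
import Groth.Agent.S4380

set_option autoImplicit false
universe u
open CategoryTheory CategoryTheory.Limits AlgebraicGeometry
open Mor

namespace Groth.Agent.S9695

/-- Suppose f : X ⟶ S is a morphism of finite type and L is an invertible O_X-module. Then L is
f-relatively ample exactly when S can be covered by open subsets V with the following property: for
every such V there is an integer d ≥ 1 for which the tensor power L^{⊗d}, restricted to f⁻¹(V), is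
isomorphic to the pullback of O(1) under some V-immersion of f⁻¹(V) into a projective space P^n_V. -/
theorem result {X S : Scheme.{u}} (f : X ⟶ S)
    [LocallyOfFiniteType f] [QuasiCompact f] (L : X.Modules) (hLinv : PicF.IsInvertible L) :
    RelAmple.IsRelAmple f L ↔
      ∃ (ι : Type u) (V : ι → S.Opens), (⨆ j, V j) = ⊤ ∧
        ∀ j, ∃ d : ℕ, 0 < d ∧
          RelAmple.IsRelVeryAmplePn (f ∣_ V j) ((CohB1.tensorPow L d).restrict (f ⁻¹ᵁ V j).ι) := by
  constructor
  · intro hRA
    refine ⟨S.affineOpens, fun V => V.1, iSup_affineOpens_eq_top S, fun V => ?_⟩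
    have hA := hRA.2 V
    obtain ⟨n₀, hn₀⟩ := Groth.Agent.Lib.T2H6.VAmpleE.eventually_veryAmple_pow (f ∣_ V.1)
      (L.restrict (f ⁻¹ᵁ V.1).ι) hA
    obtain ⟨Θ⟩ := Groth.Agent.Lib.Helper23.SecTw.nonempty_restrict_tensorPow_iso L hLinv
      (f ⁻¹ᵁ V.1) (max n₀ 1)
    exact ⟨max n₀ 1, lt_of_lt_of_le Nat.zero_lt_one (le_max_right _ _),
      Groth.Agent.Lib.T2H6.VAmpleB.of_iso (f ∣_ V.1) Θ.symm (hn₀ _ (le_max_left _ _))⟩
  · rintro ⟨ι, V, hV, h⟩
    refine (Groth.Agent.S4380.result f L V hV).mpr (fun j => ?_)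
    obtain ⟨d, hd, hva⟩ := h j
    obtain ⟨Θ⟩ := Groth.Agent.Lib.Helper23.SecTw.nonempty_restrict_tensorPow_iso L hLinv
      (f ⁻¹ᵁ V j) d
    exact Groth.Agent.Lib.T2H6.VAmpleF.isRelAmple_of_pow_veryAmple (f ∣_ V j) _
      (Groth.Agent.Lib.Helper23.SecTw.isInvertible_restrict L hLinv _) d hd
      (Groth.Agent.Lib.T2H6.VAmpleB.of_iso (f ∣_ V j) Θ hva)

end Groth.Agent.S9695
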