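import Groth.Statements.S9712
import Mathlib
import Groth.Agent.Lib.T2H6VAmpleG
import Groth.Agent.S9705
import Groth.Agent.Lib.Helper23RestrJ

set_option autoImplicit false
universe u
open CategoryTheory CategoryTheory.Limits AlgebraicGeometry
open Mor

namespace Groth.Agent.S9712

/-- A morphism f : X ⟶ S is locally quasi-projective (S is covered by opens U with f⁻¹(U) ⟶ U
quasi-projective) if and only if S is covered by opens U such that f⁻¹(U) ⟶ U is H-quasi-projective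
(a quasi-compact immersion into some P^n_U followed by the projection). -/
theorem result {X S : Scheme.{u}} (f : X ⟶ S) :
    (∀ s : S, ∃ U : S.Opens, s ∈ U ∧ RelProj.IsQuasiProjective (f ∣_ U)) ↔
      (∀ s : S, ∃ U : S.Opens, s ∈ U ∧ RelProj.IsHQuasiProjective (f ∣_ U)) := by
  constructor
  · intro h s
    obtain ⟨U, hsU, hlft, hqc, L, hL⟩ := h s
    obtain ⟨V', hV', hsV', -⟩ := exists_isAffineOpen_mem_and_subset (X := (U : Scheme.{u}))
      (x := ⟨s, hsU⟩) (U := ⊤) trivial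
    have hsW : s ∈ U.ι ''ᵁ V' := ⟨⟨s, hsU⟩, hsV', rfl⟩
    refine ⟨U.ι ''ᵁ V', hsW, ?_⟩
    let ar := morphismRestrictRestrict f U V'
    haveI : LocallyOfFiniteType (f ∣_ U) := hlft
    haveI : QuasiCompact (f ∣_ U) := hqc
    haveI h1 : LocallyOfFiniteType (f ∣_ U.ι ''ᵁ V') :=
      (MorphismProperty.arrow_mk_iso_iff @LocallyOfFiniteType ar).mp inferInstance
    haveI h2 : QuasiCompact (f ∣_ U.ι ''ᵁ V') :=
      (MorphismProperty.arrow_mk_iso_iff @QuasiCompact ar).mp inferInstance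
    have hA := hL.2 ⟨V', hV'⟩
    let e : (↑(f ⁻¹ᵁ U.ι ''ᵁ V') : Scheme.{u}) ≅ (↑((f ∣_ U) ⁻¹ᵁ V') : Scheme.{u}) :=
      (Arrow.leftFunc.mapIso ar).symm
    have hA' : CohB1.IsAmple ((L.restrict ((f ∣_ U) ⁻¹ᵁ V').ι).restrict e.hom) :=
      (Groth.Agent.Lib.Helper23.RestrJ.isAmple_restrict_iff_of_isIso e.hom _).mpr hA
    obtain ⟨n, i, himm, hcomp⟩ :=
      Groth.Agent.Lib.T2H6.VAmpleG.exists_immersion_of_isAmple (f ∣_ U.ι ''ᵁ V') _ hA'
    refine ⟨n, i, himm, ?_, hcomp⟩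
    let p : CohB1.ProjSpaceOver n (↑(U.ι ''ᵁ V') : Scheme.{u}) ⟶ (↑(U.ι ''ᵁ V') : Scheme.{u}) :=
      CohB1.ProjSpaceOver.toBase n _
    haveI hp : IsProper p := Groth.Agent.S9705.isProper_toBase n _
    have hcomp' : i ≫ p = f ∣_ U.ι ''ᵁ V' := hcomp
    haveI : QuasiCompact (i ≫ p) := by rw [hcomp']; exact h2
    exact QuasiCompact.of_comp i p
  · intro h s
    obtain ⟨U, hsU, n, i, himm, hqc, hcomp⟩ := h s
    refine ⟨U, hsU, ?_⟩
    let p : CohB1.ProjSpaceOver n (↑U : Scheme.{u}) ⟶ (↑U : Scheme.{u}) :=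
      CohB1.ProjSpaceOver.toBase n _
    haveI hp : IsProper p := Groth.Agent.S9705.isProper_toBase n _
    have hcomp' : i ≫ p = f ∣_ U := hcomp
    haveI : QuasiCompact (f ∣_ U) := by rw [← hcomp']; infer_instance
    refine ⟨?_, inferInstance, ?_⟩
    · rw [← hcomp']; infer_instance
    · have hva : RelAmple.IsRelVeryAmplePn (f ∣_ U)
          ((Scheme.Modules.pullback i).obj (Twist.twistOver n (↑U : Scheme.{u}) 1)) :=
        ⟨n, i, himm, hcomp, ⟨Iso.refl _⟩⟩
      have hinv : PicF.IsInvertible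
          ((Scheme.Modules.pullback i).obj (Twist.twistOver n (↑U : Scheme.{u}) 1)) :=
        Groth.Agent.Lib.Helper23.PB.isInvertible_pullback i _
          (Groth.Agent.Lib.Helper23.PB.isInvertible_pullback _ _
            (Groth.Agent.Lib.T2H5.Twist.isInvertible_twist n (ULift.{u} ℤ) 1))
      exact ⟨_, Groth.Agent.Lib.T2H6.VAmpleF.isRelAmple_of_pow_veryAmple (f ∣_ U) _ hinv 1 Nat.one_pos
        (Groth.Agent.Lib.T2H6.VAmpleB.of_iso (f ∣_ U)
          (Groth.Agent.Lib.Helper23.TensorUnit.unitTensorIso _).symm hva)⟩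

end Groth.Agent.S9712
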