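import Groth.Statements.S9713
import Mathlib
import Groth.Agent.Lib.T2H6LocProj
import Groth.Agent.S9693

set_option autoImplicit false
universe u
open CategoryTheory CategoryTheory.Limits AlgebraicGeometry
open Mor

namespace Groth.Agent.S9713

/-- A base change of a locally projective morphism (every point of the base has an open neighbourhood U
with f⁻¹(U) ⟶ U projective) is locally projective. Here f⁻¹(U) ⟶ U projective means isomorphic over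
U to the relative Proj of a quasi-coherent graded algebra generated by its finite-type degree-one
part; the published definition uses closed subschemes of P(E) with E of finite type, an equivalent
condition. -/
theorem result {X S S' : Scheme.{u}} (f : X ⟶ S) (hf : RelProj.IsLocallyProjective f)
    (g : S' ⟶ S) : RelProj.IsLocallyProjective (pullback.snd f g) := by
  rw [Groth.Agent.Lib.T2H6.LocProj.isLocallyProjective_iff] at hf ⊢
  intro s'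
  obtain ⟨U, hsU, hU⟩ := hf (g.base s')
  refine ⟨g ⁻¹ᵁ U, hsU, ?_⟩
  set p₁ := pullback.fst f g with hp₁
  set p₂ := pullback.snd f g with hp₂
  have hA : IsPullback (p₂ ⁻¹ᵁ (g ⁻¹ᵁ U)).ι (p₂ ∣_ (g ⁻¹ᵁ U)) p₂ (g ⁻¹ᵁ U).ι :=
    (isPullback_morphismRestrict p₂ (g ⁻¹ᵁ U)).flip
  have hB : IsPullback p₁ p₂ f g := IsPullback.of_hasPullback f g
  have hAB := hA.paste_horiz hB
  have hD : IsPullback (f ⁻¹ᵁ U).ι (f ∣_ U) f U.ι := (isPullback_morphismRestrict f U).flip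
  have hC : (g ⁻¹ᵁ U).ι ≫ g = g ∣_ U ≫ U.ι := (morphismRestrict_ι g U).symm
  rw [hC] at hAB
  have w : ((p₂ ⁻¹ᵁ (g ⁻¹ᵁ U)).ι ≫ p₁) ≫ f = (p₂ ∣_ (g ⁻¹ᵁ U) ≫ g ∣_ U) ≫ U.ι := by
    rw [Category.assoc, Category.assoc]
    exact hAB.w
  set t := hD.lift ((p₂ ⁻¹ᵁ (g ⁻¹ᵁ U)).ι ≫ p₁) (p₂ ∣_ (g ⁻¹ᵁ U) ≫ g ∣_ U) w with ht
  have ht1 : t ≫ (f ⁻¹ᵁ U).ι = (p₂ ⁻¹ᵁ (g ⁻¹ᵁ U)).ι ≫ p₁ := hD.lift_fst _ _ _
  have ht2 : t ≫ f ∣_ U = p₂ ∣_ (g ⁻¹ᵁ U) ≫ g ∣_ U := hD.lift_snd _ _ _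
  rw [← ht1] at hAB
  have key : IsPullback t (p₂ ∣_ (g ⁻¹ᵁ U)) (f ∣_ U) (g ∣_ U) := IsPullback.of_right hAB ht2 hD
  have hbc : RelProj.IsHProjective (pullback.snd (f ∣_ U) (g ∣_ U)) :=
    Groth.Agent.S9693.result (f ∣_ U) hU (g ∣_ U)
  refine Groth.Agent.Lib.T2H6.LocProj.isHProjective_of_arrow_iso
    (pullback.snd (f ∣_ U) (g ∣_ U)) (p₂ ∣_ (g ⁻¹ᵁ U)) key.isoPullback (Iso.refl _) ?_ hbc
  rw [Iso.refl_hom, Category.comp_id, IsPullback.isoPullback_hom_snd]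

end Groth.Agent.S9713
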