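import Groth.Statements.S9724
import Groth.Agent.S9725
import Groth.Agent.Lib.T2H2SliceSepSch

set_option autoImplicit false
universe u
open FlatMor

namespace Groth.Agent.S9724

open AlgebraicGeometry CategoryTheory Limits in
/-- Let f : X ⟶ S be a morphism and x a point such that f is smooth on an open neighbourhood of x, the
residue field extension κ(x)/κ(f x) is separable (formally smooth), and x is not the generic point
of any irreducible component of the fibre over f x, i.e. (the fibre being smooth over a field near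
x) the maximal ideal of the local ring of the fibre at x is nonzero. Then there are an affine open U
∋ x and a nonzerodivisor h' of Γ(X, U) vanishing at x such that the closed subscheme V(h') of U, an
effective Cartier divisor through x, is smooth over S. -/
theorem result {X S : Scheme.{u}} (f : X ⟶ S) (x : X)
    (W : X.Opens) (hxW : x ∈ W) (hW : Smooth (W.ι ≫ f))
    (hsep : letI := (f.residueFieldMap x).hom.toAlgebra
      Algebra.FormallySmooth (S.residueField (f x)) (X.residueField x))
    (hgen : IsLocalRing.maximalIdeal ↑((f.fiber (f x)).presheaf.stalk (f.asFiber x)) ≠ ⊥) :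
    ∃ (U : X.Opens) (hU : IsAffineOpen U) (hx : x ∈ U) (h' : Γ(X, U)), h' ∈ nonZeroDivisors Γ(X, U) ∧
      X.presheaf.germ U x hx h' ∈ IsLocalRing.maximalIdeal ↑(X.presheaf.stalk x) ∧
      Smooth (Spec.map (CommRingCat.ofHom (Ideal.Quotient.mk (Ideal.span {h'}))) ≫ hU.fromSpec ≫ f) := by
  -- charts
  obtain ⟨_, ⟨S₀, hS₀ : IsAffineOpen S₀, rfl⟩, hfxS₀, -⟩ :=
    S.isBasis_affineOpens.exists_subset_of_mem_open (Set.mem_univ (f x)) isOpen_univ
  obtain ⟨_, ⟨V, hV : IsAffineOpen V, rfl⟩, hxV, hVle⟩ :=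
    X.isBasis_affineOpens.exists_subset_of_mem_open
      (show x ∈ W ⊓ f ⁻¹ᵁ S₀ from ⟨hxW, hfxS₀⟩) (W ⊓ f ⁻¹ᵁ S₀).isOpen
  have hVW : V ≤ W := fun y hy => (hVle hy).1
  have hVS : V ≤ f ⁻¹ᵁ S₀ := fun y hy => (hVle hy).2
  have hsmV := Groth.Agent.Lib.T2H2.SliceSmoothSch.smooth_appLE_of_le f W hW hS₀ hV hVW hVS
  -- the local algebra
  let _ := (f.stalkMap x).hom.toAlgebra
  have : IsLocalHom (algebraMap ↑(S.presheaf.stalk (f x)) ↑(X.presheaf.stalk x)) :=
    inferInstanceAs (IsLocalHom (f.stalkMap x).hom)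
  have hfs : Algebra.FormallySmooth ↑(S.presheaf.stalk (f x)) ↑(X.presheaf.stalk x) := by
    have := hW
    exact Groth.Agent.Lib.Helper20.FlatDesc.formallySmooth_stalkMap_of_nbhd f x W hxW
  have heft : Algebra.EssFiniteType ↑(S.presheaf.stalk (f x)) ↑(X.presheaf.stalk x) :=
    Groth.Agent.Lib.T2H2.SliceSepSch.essFiniteType_stalkMap_of_chart f x hS₀ hV hVS hxV
      (RingHom.FiniteType.of_finitePresentation hsmV.finitePresentation)
  have hne : IsLocalRing.maximalIdeal ↑(X.presheaf.stalk x) ≠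
      (IsLocalRing.maximalIdeal ↑(S.presheaf.stalk (f x))).map
        (algebraMap ↑(S.presheaf.stalk (f x)) ↑(X.presheaf.stalk x)) := by
    intro hcon
    apply hgen
    obtain ⟨e⟩ := Groth.Agent.Lib.Helper5.FiberStalk.nonempty_stalk_asFiber_equiv f x
    have hmax : ((IsLocalRing.maximalIdeal ↑(S.presheaf.stalk (f x))).map
        (f.stalkMap x).hom).IsMaximal := by
      have h1 : (IsLocalRing.maximalIdeal ↑(S.presheaf.stalk (f x))).map (f.stalkMap x).hom =
          IsLocalRing.maximalIdeal ↑(X.presheaf.stalk x) := hcon.symm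
      rw [h1]
      infer_instance
    have hfield : IsField (↑(X.presheaf.stalk x) ⧸
        (IsLocalRing.maximalIdeal ↑(S.presheaf.stalk (f x))).map (f.stalkMap x).hom) :=
      (Ideal.Quotient.maximal_ideal_iff_isField_quotient _).mp hmax
    have hfield' : IsField ↑((f.fiber (f x)).presheaf.stalk (f.asFiber x)) :=
      e.toMulEquiv.isField hfield
    exact IsLocalRing.isField_iff_maximalIdeal_eq.mp hfield'
  obtain ⟨h, hhm, hd⟩ := Groth.Agent.Lib.T2H2.SliceSep.exists_mem_maximalIdeal_D_ne_zero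
    (R := ↑(S.presheaf.stalk (f x))) (P := ↑(X.presheaf.stalk x)) hsep hne
  obtain ⟨U, hU, hxU, h', hgerm, hnzd, hsm⟩ :=
    Groth.Agent.S9725.result f x W hxW hW h hhm hd
  exact ⟨U, hU, hxU, h', hnzd, hgerm ▸ hhm, hsm⟩

end Groth.Agent.S9724
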