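import Groth.Statements.S9756
import Groth.Agent.S1348
import Groth.Agent.Lib.Helper5FiberStalk
import Groth.Agent.Lib.Helper28Depth

set_option autoImplicit false
universe u
open FlatMor

namespace Groth.Agent.S9756

open AlgebraicGeometry CategoryTheory Limits in
/-- Let f : X ⟶ S be locally of finite presentation and flat at a point x, and assume the local ring of
the fibre X_{f x} at x has depth at least 1. Then there are an affine open U ∋ x and a
nonzerodivisor h' of Γ(X, U) vanishing at x such that the closed subscheme V(h') of U, an effective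
Cartier divisor through x, is flat and locally of finite presentation over S. The published
statement concludes that V(h') ⟶ S is of finite presentation; this row concludes only that it is
flat and locally of finite presentation, which is what the published argument (slicing by a lift of
a fibrewise nonzerodivisor) yields, and which is equivalent when S is quasi-separated, V(h') being
affine. -/
theorem result {X S : Scheme.{u}} (f : X ⟶ S) [LocallyOfFinitePresentation f] (x : X)
    (hflat : (f.stalkMap x).hom.Flat)
    (hdepth : 1 ≤ LocCoh.depth ↑((f.fiber (f x)).presheaf.stalk (f.asFiber x)) ↑((f.fiber (f x)).presheaf.stalk (f.asFiber x))) :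
    ∃ (U : X.Opens) (hU : IsAffineOpen U) (hx : x ∈ U) (h' : Γ(X, U)), h' ∈ nonZeroDivisors Γ(X, U) ∧
      X.presheaf.germ U x hx h' ∈ IsLocalRing.maximalIdeal ↑(X.presheaf.stalk x) ∧
      Flat (Spec.map (CommRingCat.ofHom (Ideal.Quotient.mk (Ideal.span {h'}))) ≫ hU.fromSpec ≫ f) ∧
      LocallyOfFinitePresentation (Spec.map (CommRingCat.ofHom (Ideal.Quotient.mk (Ideal.span {h'}))) ≫ hU.fromSpec ≫ f) := by
  obtain ⟨e⟩ := Groth.Agent.Lib.Helper5.FiberStalk.nonempty_stalk_asFiber_equiv f x
  set R' := (f.fiber (f x)).presheaf.stalk (f.asFiber x) with hR'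
  have htop : (IsLocalRing.maximalIdeal R') • (⊤ : Submodule R' R') ≠ ⊤ := by
    rw [Ideal.smul_top_eq_map, Algebra.algebraMap_self, Ideal.map_id]
    intro hcon
    exact (IsLocalRing.maximalIdeal.isMaximal R').ne_top
      (by simpa using congrArg (Submodule.restrictScalars R') hcon)
  obtain ⟨r, hr, hrreg⟩ :=
    (Groth.Agent.Lib.Helper28.one_le_idealDepth_iff htop).mp hdepth
  obtain ⟨h, hh⟩ := Ideal.Quotient.mk_surjective (e r)
  have hm : h ∈ IsLocalRing.maximalIdeal (X.presheaf.stalk x) := by
    rw [IsLocalRing.mem_maximalIdeal, mem_nonunits_iff]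
    intro hu
    have h1 : IsUnit (e r) := by
      rw [← hh]
      exact hu.map _
    have h2 : IsUnit r := by
      have := h1.map e.symm
      simpa using this
    exact hr h2
  have hreg : Ideal.Quotient.mk (Ideal.map (f.stalkMap x).hom
      (IsLocalRing.maximalIdeal (S.presheaf.stalk (f x)))) h ∈
      nonZeroDivisors (X.presheaf.stalk x ⧸ Ideal.map (f.stalkMap x).hom
        (IsLocalRing.maximalIdeal (S.presheaf.stalk (f x)))) := by
    rw [hh, mem_nonZeroDivisors_iff_right]
    intro z hz
    obtain ⟨z, rfl⟩ := e.surjective z
    have h3 : z * r = 0 := e.injective (by rw [map_mul, map_zero]; exact hz)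
    have h4 : z = 0 := by
      apply hrreg
      change r • z = r • (0 : R')
      rw [smul_zero, smul_eq_mul, mul_comm]
      exact h3
    rw [h4, map_zero]
  obtain ⟨U, hU, hxU, h', hgerm, hnzd, hfl, hlfp⟩ :=
    Groth.Agent.S1348.result f x hflat h hm hreg
  exact ⟨U, hU, hxU, h', hnzd, hgerm ▸ hm, hfl, hlfp⟩

end Groth.Agent.S9756
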