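import Groth.Statements.S9762
import Mathlib
import Groth.Agent.Lib.Helper20EtFinFibre
import Groth.Agent.Lib.Helper27QFinBC

set_option autoImplicit false
universe u
open FlatMor

namespace Groth.Agent.S9762

open AlgebraicGeometry CategoryTheory Limits in
/-- For f : X ⟶ S separated and locally of finite type, and a point s of S such that only finitely many
points of the fibre over s are isolated, some elementary étale neighbourhood (U, u) of (S, s) admits
an open and closed V ⊆ U ×_S X, finite over U, such that no point of the fibre over u lying outside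
V is isolated in that fibre. The published statement also asserts that the complement of V has empty
fibre over u when the fibre over s is finite; this row omits that clause. -/
theorem result {X S : Scheme.{u}} (f : X ⟶ S) [LocallyOfFiniteType f] [IsSeparated f] (s : S)
    (hfin : {x : ↑(f.fiber s) | IsOpen ({x} : Set ↑(f.fiber s))}.Finite) :
    ∃ (U : Scheme.{u}) (g : U ⟶ S) (u : U), Hens2.IsEtaleNbhd g u s ∧
      ∃ V : (pullback f g).Opens, IsClopen (V : Set ↑(pullback f g)) ∧ IsFinite (V.ι ≫ pullback.snd f g) ∧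
        ∀ w : ↑((pullback.snd f g).fiber u), (pullback.snd f g).fiberι u w ∉ V →
          ¬ IsOpen ({w} : Set ↑((pullback.snd f g).fiber u)) := by
  -- the finite set of points of the fibre at which `f` is quasi-finite
  have hT : {x : ↑X | f x = s ∧ f.QuasiFiniteAt x}.Finite := by
    refine (hfin.image (f.fiberι s)).subset ?_
    rintro x ⟨hxs, hxq⟩
    obtain ⟨z, hz, hzo⟩ := (Groth.Agent.Lib.Helper27QFinBC.quasiFiniteAt_iff_fiber f x s hxs).1 hxq
    exact ⟨z, hzo, hz⟩
  obtain ⟨U, g, u, hg, hu, hbij, d⟩ :=
    Groth.Agent.Lib.Helper20.EtSections.hasFinParts_of_finite (f := f) s _ hT (fun t ht => ht)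
  have hd : ∀ t : {x : ↑X | f x = s ∧ f.QuasiFiniteAt x}, ∃ V : (pullback f g).Opens,
      IsFinite (V.ι ≫ pullback.snd f g) ∧
      ∀ w : ↥(pullback f g), pullback.snd f g w = u → (w ∈ V ↔ pullback.fst f g w = t.1) :=
    fun t => d t.1 t.2
  choose V hVfin hV using hd
  have hfinT : Finite {x : ↑X | f x = s ∧ f.QuasiFiniteAt x} := hT.to_subtype
  have hVc : ∀ t, IsClosed (V t : Set ↥(pullback f g)) := by
    intro t
    have := hVfin t
    exact Groth.Agent.Lib.Helper20.FinUnion.isClosed_of_isFinite (pullback.snd f g) (V t)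
  obtain ⟨h1, h2⟩ := Groth.Agent.Lib.Helper20.FinUnion.isFinite_iSup_of_isClosed
    (pullback.snd f g) V hVc hVfin
  refine ⟨U, g, u, ⟨hg, hu, hbij⟩, ⨆ t, V t, ⟨h2, (⨆ t, V t).2⟩, h1, ?_⟩
  intro w hw hopen
  apply hw
  have hwu : pullback.snd f g ((pullback.snd f g).fiberι u w) = u := by
    have := (pullback.snd f g).range_fiberι u ▸ Set.mem_range_self (f := (pullback.snd f g).fiberι u) w
    exact this
  have hq : (pullback.snd f g).QuasiFiniteAt ((pullback.snd f g).fiberι u w) :=
    (Groth.Agent.Lib.Helper27QFinBC.quasiFiniteAt_iff_fiber (pullback.snd f g) _ u hwu).2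
      ⟨w, rfl, hopen⟩
  have hmain := Groth.Agent.Lib.Helper27QFinBC.main f g (pullback.fst f g) (pullback.snd f g)
    (IsPullback.of_hasPullback f g)
  have hq' : f.QuasiFiniteAt (pullback.fst f g ((pullback.snd f g).fiberι u w)) := by
    have : (pullback.snd f g).fiberι u w ∈ {x' : ↑(pullback f g) | (pullback.snd f g).QuasiFiniteAt x'} := hq
    rw [hmain] at this
    exact this
  have hfs : f (pullback.fst f g ((pullback.snd f g).fiberι u w)) = s := by
    rw [← Scheme.Hom.comp_apply, pullback.condition, Scheme.Hom.comp_apply, hwu, hu]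
  rw [TopologicalSpace.Opens.mem_iSup]
  exact ⟨⟨_, hfs, hq'⟩, (hV ⟨_, hfs, hq'⟩ _ hwu).mpr rfl⟩

end Groth.Agent.S9762
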