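import Groth.Statements.S9781
import Groth.Agent.Lib.T2H1BranchCount
import Groth.Agent.S9235
import Groth.Agent.S9752

set_option autoImplicit false
universe u
open Brnch

namespace Groth.Agent.S9781

open AlgebraicGeometry CategoryTheory Limits in
/-- The local ring of X at x is unibranch exactly when, for each étale morphism g : U ⟶ X and point u
over x with trivial residue field extension (an elementary étale neighbourhood), the point u lies on
a single irreducible component of U. -/
theorem result (X : Scheme.{u}) (x : X) :
    CAlg2.IsUnibranch ↑(X.presheaf.stalk x) ↔ ∀ (U : Scheme.{u}) (g : U ⟶ X) (u : U), Hens2.IsEtaleNbhd g u x →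
      {Z : Set ↑U | Z ∈ irreducibleComponents ↑U ∧ u ∈ Z}.encard = 1 := by
  rw [← Groth.Agent.S9235.result]
  have hN : Brnch.numBranches ↑(X.presheaf.stalk x) = Brnch.numBranchesAt X x := rfl
  constructor
  · intro h1 U g u hn
    rw [Groth.Agent.Lib.T2H1.BranchCount.encard_irreducibleComponents_mem]
    apply le_antisymm
    · obtain ⟨het, hbase, hres⟩ := hn
      subst hbase
      haveI := het
      have := Groth.Agent.Lib.T2H1.BranchCount.encard_minimalPrimes_stalk_le_numBranchesAt g u hres
      rw [← hN, h1] at this
      exact this
    · rw [Set.one_le_encard_iff_nonempty]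
      exact Set.nonempty_coe_sort.1 (Ideal.nonempty_minimalPrimes
        (bot_ne_top : (⊥ : Ideal ↑(U.presheaf.stalk u)) ≠ ⊤))
  · intro hall
    rw [hN, Groth.Agent.S9752.result X x]
    apply le_antisymm
    · refine iSup_le fun U => iSup_le fun g => iSup_le fun u => iSup_le fun hn => ?_
      rw [hall U g u hn]
    · have hid : Hens2.IsEtaleNbhd (𝟙 X) x x := by
        refine ⟨inferInstance, rfl, ?_⟩
        rw [Scheme.residueFieldMap_id]
        exact Function.bijective_id
      refine le_trans ?_ (le_iSup_of_le X <| le_iSup_of_le (𝟙 X) <| le_iSup_of_le x <|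
        le_iSup_of_le hid le_rfl)
      rw [hall X (𝟙 X) x hid]

end Groth.Agent.S9781
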