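import Groth.Statements.S9782
import Groth.Agent.Lib.T2H1GeomBranchCount
import Groth.Agent.S9236
import Groth.Agent.S9753

set_option autoImplicit false
universe u
open Brnch

namespace Groth.Agent.S9782

open AlgebraicGeometry CategoryTheory Limits in
/-- The local ring of X at x is geometrically unibranch exactly when, for each étale morphism g : U ⟶ X
and each point u over x, the point u lies on a single irreducible component of U. -/
theorem result (X : Scheme.{u}) (x : X) :
    CAlg2.IsGeomUnibranch ↑(X.presheaf.stalk x) ↔ ∀ (U : Scheme.{u}) (g : U ⟶ X) (u : U), Etale g → g u = x →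
      {Z : Set ↑U | Z ∈ irreducibleComponents ↑U ∧ u ∈ Z}.encard = 1 := by
  rw [← Groth.Agent.S9236.result]
  have hN : Brnch.numGeomBranches ↑(X.presheaf.stalk x) = Brnch.numGeomBranchesAt X x := rfl
  constructor
  · intro h1 U g u het hgu
    rw [Groth.Agent.Lib.T2H1.BranchCount.encard_irreducibleComponents_mem]
    apply le_antisymm
    · subst hgu
      haveI := het
      have := Groth.Agent.Lib.T2H1.GeomBranchCount.encard_minimalPrimes_stalk_le_numGeomBranchesAt g u
      rw [← hN, h1] at this
      exact this
    · rw [Set.one_le_encard_iff_nonempty]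
      exact Set.nonempty_coe_sort.1 (Ideal.nonempty_minimalPrimes
        (bot_ne_top : (⊥ : Ideal ↑(U.presheaf.stalk u)) ≠ ⊤))
  · intro hall
    rw [hN, Groth.Agent.S9753.result X x]
    apply le_antisymm
    · refine iSup_le fun U => iSup_le fun g => iSup_le fun u => iSup_le fun hn => ?_
      rw [hall U g u hn.1 hn.2]
    · have hid : Etale (𝟙 X) ∧ (𝟙 X : X ⟶ X) x = x := ⟨inferInstance, rfl⟩
      refine le_trans ?_ (le_iSup_of_le X <| le_iSup_of_le (𝟙 X) <| le_iSup_of_le x <|
        le_iSup_of_le hid le_rfl)
      rw [hall X (𝟙 X) x hid.1 hid.2]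

end Groth.Agent.S9782
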