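import Groth.Statements.S9784
import Groth.Agent.Lib.T2H3ConormalTrans

set_option autoImplicit false
set_option linter.style.haveILetI false
universe u
open OmegaSh

namespace Groth.Agent.S9784

open AlgebraicGeometry CategoryTheory Limits in
/-- Let i : Z ⟶ Y and b : Y ⟶ X be formally unramified, let (i' : Z ⟶ Z', c) be a first order thickening
over X that is universal for i ≫ b, (j : Y ⟶ Y', d) one universal for b, m : Z' ⟶ Y' the morphism of
thickenings over X compatible with i, (i'' : Z ⟶ Z'', e) a first order thickening over Y that is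
universal for i, and n : Z'' ⟶ Z' the morphism of thickenings over X extending the identity of Z.
Let ψ₁ : i^*C_{Y/Y'} ⟶ C_{Z/Z'} and ψ₂ : C_{Z/Z'} ⟶ C_{Z/Z''} be the canonical maps of conormal
sheaves induced by (i, m) and (id, n). These are the conormal sheaves C_{Y/X}, C_{Z/X}, C_{Z/Y} of
the formally unramified morphisms and the canonical maps between them. Then the sequence i^*C_{Y/X}
⟶ C_{Z/X} ⟶ C_{Z/Y} ⟶ 0 they form is exact. -/
theorem result {Z Y X Z' Y' Z'' : Scheme.{u}} (i : Z ⟶ Y) (b : Y ⟶ X)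
    [FormallyUnramified i] [FormallyUnramified b]
    (i' : Z ⟶ Z') (c : Z' ⟶ X) (hZ' : OmegaSh.IsUnivThickening (i ≫ b) i' c)
    (j : Y ⟶ Y') (d : Y' ⟶ X) (hY' : OmegaSh.IsUnivThickening b j d)
    (m : Z' ⟶ Y') (hm₁ : i' ≫ m = i ≫ j) (hm₂ : m ≫ d = c)
    (i'' : Z ⟶ Z'') (e : Z'' ⟶ Y) (hZ'' : OmegaSh.IsUnivThickening i i'' e)
    (n : Z'' ⟶ Z') (hn₁ : i'' ≫ n = i') (hn₂ : n ≫ c = e ≫ b)
    (ψ₁ : (Scheme.Modules.pullback i).obj (Omega.conormal j) ⟶ Omega.conormal i') (hψ₁ : OmegaSh.IsConormalMap i' j m i ψ₁)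
    (ψ₂ : (Scheme.Modules.pullback (𝟙 Z)).obj (Omega.conormal i') ⟶ Omega.conormal i'') (hψ₂ : OmegaSh.IsConormalMap i'' i' n (𝟙 Z) ψ₂) :
    ∃ w : (Scheme.Modules.pullback (𝟙 Z)).map ψ₁ ≫ ψ₂ = 0, (ShortComplex.mk _ _ w).Exact ∧ Epi ψ₂ := by
  obtain ⟨m₀, hm₀, hm₀d, hP⟩ := Groth.Agent.S9741.result i b i' c hZ' j d hY'
  have hmm : m₀ = m := by
    obtain ⟨a', -, hun⟩ := hY'.2.2 Z Z' i' c i hZ'.1 hZ'.2.1
    rw [hun m₀ ⟨hm₀, hm₀d⟩, hun m ⟨hm₁, hm₂⟩]
  subst hmm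
  have hid : 𝟙 Z ≫ i = i := Category.id_comp _
  haveI hθiso : IsIso (Groth.Agent.Helper18UT.comparison hZ'' hP (𝟙 Z) hid) :=
    Groth.Agent.Helper18UT.isIso_comparison hZ'' hP (𝟙 Z) hid
  have hθ₁ : i'' ≫ Groth.Agent.Helper18UT.comparison hZ'' hP (𝟙 Z) hid =
      pullback.lift i i' hm₀.symm := by
    rw [Groth.Agent.Helper18UT.comparison_fac, Category.id_comp]
  have hθ₂ : Groth.Agent.Helper18UT.comparison hZ'' hP (𝟙 Z) hid ≫ pullback.fst j m₀ = e :=
    Groth.Agent.Helper18UT.comparison_comp hZ'' hP (𝟙 Z) hid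
  generalize Groth.Agent.Helper18UT.comparison hZ'' hP (𝟙 Z) hid = θ at hθiso hθ₁ hθ₂
  have hn : n = θ ≫ pullback.snd j m₀ := by
    obtain ⟨a', -, hun⟩ := hZ'.2.2 Z Z'' i'' (e ≫ b) (𝟙 Z) hZ''.1
      (by rw [← Category.assoc, hZ''.2.1, Category.id_comp])
    rw [hun n ⟨by rw [hn₁, Category.id_comp], hn₂⟩]
    refine (hun (θ ≫ pullback.snd j m₀) ⟨?_, ?_⟩).symm
    · rw [← Category.assoc, hθ₁, pullback.lift_snd, Category.id_comp]
    · rw [Category.assoc, ← hm₀d, ← Category.assoc (pullback.snd j m₀), ← pullback.condition,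
        Category.assoc, hY'.2.1, ← Category.assoc, hθ₂]
  have hsq : IsPullback n e m₀ j := by
    have h0 : IsPullback (pullback.snd j m₀) (pullback.fst j m₀) m₀ j :=
      (IsPullback.of_hasPullback j m₀).flip
    refine IsPullback.of_iso h0 (asIso θ).symm (Iso.refl _) (Iso.refl _) (Iso.refl _) ?_ ?_ ?_ ?_
    · simp [hn]
    · simp [← hθ₂]
    · simp
    · simp
  haveI : IsClosedImmersion i'' := hZ''.1.1.1
  haveI : IsClosedImmersion j := hY'.1.1.1
  haveI : IsClosedImmersion n := MorphismProperty.of_isPullback hsq.flip (inferInstance : IsClosedImmersion j)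
  have hi : i'' ≫ e = i := hZ''.2.1
  subst hn₁
  subst hi
  exact Groth.Agent.Lib.T2H3.ConormalTrans.exact_of_isPullback i'' n e j m₀ hsq ψ₁ hψ₁ ψ₂ hψ₂

end Groth.Agent.S9784
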