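import Groth.Statements.S9823
import Mathlib
import Groth.Agent.Lib.T2H6FTSupport

set_option autoImplicit false
universe u
open CategoryTheory CategoryTheory.Limits AlgebraicGeometry TopologicalSpace Opposite
open Props

namespace Groth.Agent.S9823

/-- In a quasi-compact quasi-separated scheme, an open subset is quasi-compact exactly when its
complement is the support of some quasi-coherent ideal sheaf of finite type. -/
theorem result (X : Scheme.{u}) [CompactSpace X] [QuasiSeparatedSpace X]
    (U : X.Opens) :
    IsCompact (U : Set X) ↔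
      ∃ I : X.IdealSheafData, (∀ V : X.affineOpens, (I.ideal V).FG) ∧ (I.support : Set X) = (U : Set X)ᶜ := by
  classical
  constructor
  · intro hU
    obtain ⟨J, hJ, hsupp⟩ := Groth.Agent.Lib.T2H6.FTSupport.exists_ft_support_eq U hU
    exact ⟨J, hJ, hsupp⟩
  · rintro ⟨I, hI, hsupp⟩
    -- a finite affine cover
    have hcov : ∀ x : X, ∃ W : X.affineOpens, x ∈ W.1 := by
      intro x
      obtain ⟨_, ⟨W, hW, rfl⟩, hxW, -⟩ := (X.isBasis_affineOpens).exists_subset_of_mem_open
        (Set.mem_univ x) isOpen_univ
      exact ⟨⟨W, hW⟩, hxW⟩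
    choose W hW using hcov
    obtain ⟨t, ht⟩ := isCompact_univ.elim_finite_subcover (fun x : X => ((W x).1 : Set X))
      (fun x => (W x).1.isOpen) (fun x _ => Set.mem_iUnion.2 ⟨x, hW x⟩)
    -- generators on each member
    have hgen : ∀ x : X, ∃ s : Finset Γ(X, (W x).1), Ideal.span (s : Set Γ(X, (W x).1)) = I.ideal (W x) :=
      fun x => hI (W x)
    choose s hs using hgen
    have hUeq : (U : Set X) = ⋃ x ∈ t, ⋃ c ∈ s x, (X.basicOpen c : Set X) := by
      ext y
      simp only [Set.mem_iUnion, SetLike.mem_coe, exists_prop]
      constructor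
      · intro hy
        obtain ⟨x, hxt, hyx⟩ := Set.mem_iUnion₂.1 (ht (Set.mem_univ y))
        have hyS : y ∉ I.support := by
          intro h
          have : y ∈ (U : Set X)ᶜ := hsupp ▸ h
          exact this hy
        rw [Scheme.IdealSheafData.mem_support_iff_of_mem (U := W x) hyx, ← hs x,
          Scheme.zeroLocus_span, Scheme.mem_zeroLocus_iff] at hyS
        push Not at hyS
        obtain ⟨c, hc, hyc⟩ := hyS
        exact ⟨x, hxt, c, hc, hyc⟩
      · rintro ⟨x, -, c, hc, hyc⟩
        have hcI : c ∈ I.ideal (W x) := by
          rw [← hs x]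
          exact Ideal.subset_span hc
        have := Groth.Agent.Lib.T2H6.FTSupport.not_mem_support_of_mem_basicOpen I (W x) c hcI y hyc
        by_contra hyU
        apply this
        have : y ∈ (I.support : Set X) := by rw [hsupp]; exact hyU
        exact this
    rw [hUeq]
    refine t.isCompact_biUnion fun x _ => (s x).isCompact_biUnion fun c _ => ?_
    exact ((W x).2.basicOpen c).isCompact

end Groth.Agent.S9823
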