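import Groth.Statements.S9863
import Groth.Agent.Lib.T2H9SyntLocal

set_option autoImplicit false
set_option linter.style.haveILetI false
open CategoryTheory CategoryTheory.Limits AlgebraicGeometry Opposite
universe u
open Desc

namespace Groth.Agent.S9863

/-- The property 'locally Noetherian and (S_k)' is local in the syntomic topology: for a jointly
surjective family of syntomic morphisms f i : X i ⟶ S and k a natural number, S is locally
Noetherian with all local rings satisfying Serre's condition (S_k) if and only if every X i is. -/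
theorem result {ι : Type u} {S : Scheme.{u}} {X : ι → Scheme.{u}} (f : ∀ i, X i ⟶ S)
    (hsurj : ∀ s : S, ∃ i, s ∈ Set.range (f i).base) (hsyn : ∀ i, Synt.IsSyntomicMor (f i)) (k : ℕ) :
    (IsLocallyNoetherian S ∧ ∀ s : S, LocCoh.HasSk k (S.presheaf.stalk s) (S.presheaf.stalk s)) ↔
      ∀ i, IsLocallyNoetherian (X i) ∧ ∀ x : X i, LocCoh.HasSk k ((X i).presheaf.stalk x) ((X i).presheaf.stalk x) := by
  have hci : ∀ i, CInt.IsCIMorphism (f i) := fun i =>
    (Groth.Agent.Lib.T2H9.SyntMor.isSyntomicMor_iff_isCIMorphism (f i)).mp (hsyn i)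
  constructor
  · rintro ⟨hN, hS⟩ i
    haveI := hN
    haveI := (hci i).2.1
    haveI hNX : IsLocallyNoetherian (X i) := LocallyOfFiniteType.isLocallyNoetherian (f i)
    exact ⟨hNX, fun x =>
      Groth.Agent.Lib.T2H9.SyntLocal.hasSk_stalk_of_forall (f i) (hci i) k hS x⟩
  · intro h
    haveI hN : IsLocallyNoetherian S :=
      Groth.Agent.Lib.T2H9.SyntLocal.isLocallyNoetherian_of_family f hsurj
        (fun i => (hci i).1) (fun i => (hci i).2.1) (fun i => (h i).1)
    refine ⟨hN, fun s => ?_⟩
    obtain ⟨i, x, rfl⟩ := hsurj s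
    haveI := (h i).1
    haveI := (hci i).1
    exact Groth.Agent.Lib.T2H9.SyntLocal.hasSk_stalk_of_flat (f i) k x ((h i).2 x)

end Groth.Agent.S9863
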