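import Groth.Statements.S9877
import Groth.Agent.Lib.T2H1Coprod2
import Groth.Agent.S9884
import Groth.Agent.S9928

set_option autoImplicit false
universe u
open CategoryTheory CategoryTheory.Limits AlgebraicGeometry
open AlgSp

namespace Groth.Agent.S9877


open Groth.Agent.S13210 Groth.Agent.S9878 Groth.Agent.Lib.Helper1.Sig
  Groth.Agent.Lib.Helper12.ZarGlue Groth.Agent.Lib.T2H1.Coprod Opposite

variable {S : Scheme.{u}}

/-- refining the base change of the diagonal along an open subscheme through which every point of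
the base change factors. -/
lemma isPullback_diag_of_open {F A : AlgSp.Sp S} (m : A ⟶ F) {V O' W : Over S}
    (h : (AlgSp.yon S).obj V ⟶ F ⨯ F) (α : (AlgSp.yon S).obj V ⟶ A)
    (hα : α ≫ m = h ≫ prod.fst) (o' : O' ⟶ V) [Mono o'] (β' : (AlgSp.yon S).obj O' ⟶ A)
    (sqO : IsPullback β' ((AlgSp.yon S).map o') m (h ≫ prod.snd)) (w : W ⟶ O')
    (a'' : (AlgSp.yon S).obj W ⟶ F)
    (sqW : IsPullback a'' ((AlgSp.yon S).map w) (Limits.diag F) ((AlgSp.yon S).map o' ≫ h)) :
    IsPullback a'' ((AlgSp.yon S).map (w ≫ o')) (Limits.diag F) h := by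
  have hw : a'' ≫ Limits.diag F = (AlgSp.yon S).map (w ≫ o') ≫ h := by
    rw [sqW.w, Functor.map_comp, Category.assoc]
  refine isPullback_of_yon hw (fun T'' x c' hx => ?_)
  obtain ⟨t, rfl⟩ := (AlgSp.yon S).map_surjective c'
  have hx1 : x = (AlgSp.yon S).map t ≫ h ≫ prod.fst := by
    have := congrArg (fun m => m ≫ prod.fst) hx
    simp only [Category.assoc, Limits.diag, prod.lift_fst, Category.comp_id] at this
    exact this
  have hx2 : x = (AlgSp.yon S).map t ≫ h ≫ prod.snd := by
    have := congrArg (fun m => m ≫ prod.snd) hx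
    simp only [Category.assoc, Limits.diag, prod.lift_snd, Category.comp_id] at this
    exact this
  obtain ⟨τ, hτ⟩ := (AlgSp.yon S).map_surjective
    (sqO.lift ((AlgSp.yon S).map t ≫ α) ((AlgSp.yon S).map t) (by
      rw [Category.assoc, hα, ← hx1, hx2]))
  have hτ' : τ ≫ o' = t := by
    apply (AlgSp.yon S).map_injective
    rw [Functor.map_comp, hτ, sqO.lift_snd]
  have hx3 : x ≫ Limits.diag F = (AlgSp.yon S).map τ ≫ (AlgSp.yon S).map o' ≫ h := by
    rw [hx, ← Category.assoc, ← Functor.map_comp, hτ']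
  refine ⟨sqW.lift x ((AlgSp.yon S).map τ) hx3, ⟨sqW.lift_fst _ _ _, ?_⟩, ?_⟩
  · rw [Functor.map_comp, ← Category.assoc, sqW.lift_snd, ← Functor.map_comp, hτ']
  · rintro s' ⟨hs1, hs2⟩
    apply sqW.hom_ext
    · rw [hs1, sqW.lift_fst]
    · rw [sqW.lift_snd]
      obtain ⟨σ, hσ⟩ := (AlgSp.yon S).map_surjective (s' ≫ (AlgSp.yon S).map w)
      rw [← hσ]
      congr 1
      rw [← cancel_mono o', hτ']
      apply (AlgSp.yon S).map_injective
      rw [Functor.map_comp, hσ, Category.assoc, ← Functor.map_comp, hs2]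

/-- Let `F` be an fppf sheaf of sets over `S` and `F_i ⟶ F` a family of maps of sheaves such that each
`F_i` is an algebraic space over `S`, each `F_i ⟶ F` is representable by open immersions, the
induced map from the coproduct `∐ F_i` (in sheaves) to `F` is a surjective map of sheaves, and `∐
F_i` is an algebraic space. Then `F` is an algebraic space over `S`. -/
theorem result (S : Scheme.{u}) (F : AlgSp.Sp S) {ι : Type u} (Fi : ι → AlgSp.Sp S)
    (f : ∀ i, Fi i ⟶ F) (halg : ∀ i, AlgSp.IsAlgSpace (Fi i))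
    (hopen : ∀ i, AlgSp.RepWith @IsOpenImmersion (f i)) (c : Cofan Fi) (hc : IsColimit c)
    (hsurj : Sheaf.IsLocallySurjective (Cofan.IsColimit.desc hc f)) (hcop : AlgSp.IsAlgSpace c.pt) :
    AlgSp.IsAlgSpace F := by
  have hDf : ∀ i, c.inj i ≫ Cofan.IsColimit.desc hc f = f i := fun i =>
    Cofan.IsColimit.fac hc f i
  haveI hmono : ∀ i, Mono (f i) := fun i =>
    Groth.Agent.S9928.mono_of_repWith @IsOpenImmersion
      (fun X Y g hg => by haveI : IsOpenImmersion g := hg; infer_instance) (f i) (hopen i)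
  -- joint surjectivity on `T`-points
  have hjs : ∀ (T : Over S) (g : (AlgSp.yon S).obj T ⟶ F) (t : T.left),
      ∃ i, t ∈ Set.range ((hopen i).rep.snd g).left := by
    intro T g t
    haveI := hsurj
    obtain ⟨R, hR, hlift⟩ := Groth.Agent.S9884.exists_fppf_lift (Cofan.IsColimit.desc hc f) g
    obtain ⟨I, Z, φ, rfl⟩ := Presieve.exists_eq_ofArrows R
    let 𝒰 : Scheme.Cover Scheme.fppfPrecoverage T.left := ⟨⟨I, Z, φ⟩, hR⟩
    obtain ⟨k, y, hy⟩ := 𝒰.exists_eq t
    obtain ⟨b, hb⟩ := hlift (φ k) ⟨k⟩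
    obtain ⟨W, -, hcov, hW⟩ := exists_clopen_decomposition c hc b
    have hyW : y ∈ ⨆ j, W j := by rw [hcov]; trivial
    obtain ⟨i, hi⟩ := TopologicalSpace.Opens.mem_iSup.1 hyW
    obtain ⟨β, sqβ⟩ := hW i
    refine ⟨i, ?_⟩
    have h2 := (hopen i).rep.isPullback g
    let r : Over.mk ((W i).ι ≫ (Over.mk (φ k ≫ T.hom)).hom) ⟶ T :=
      (Over.homMk (W i).ι rfl : _ ⟶ Over.mk (φ k ≫ T.hom)) ≫ Over.homMk (φ k) rfl
    obtain ⟨e, he⟩ := (AlgSp.yon S).map_surjective (h2.lift β ((AlgSp.yon S).map r) (by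
      rw [← hDf i, ← Category.assoc, sqβ.w, Category.assoc, hb, ← Category.assoc,
        ← Functor.map_comp]))
    have h3 : e ≫ (hopen i).rep.snd g = r := by
      apply (AlgSp.yon S).map_injective
      rw [Functor.map_comp, he, h2.lift_snd]
    refine ⟨e.left ⟨y, hi⟩, ?_⟩
    have := congrArg (fun m => m.left ⟨y, hi⟩) h3
    simp only [Over.comp_left, Scheme.Hom.comp_apply] at this
    rw [this]
    exact hy
  -- the map from the coproduct is representable, computed on the coproduct of the open pieces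
  have hDrep : ∀ (P : MorphismProperty Scheme.{u}) [P.RespectsIso],
      (∀ (T : Over S) (V : ι → Over S) (v : ∀ i, V i ⟶ T), (∀ i, IsOpenImmersion (v i).left) →
        (∀ t : T.left, ∃ i, t ∈ Set.range (v i).left) →
        P (Groth.Agent.Lib.Helper1.Sig.desc V v).left) →
      AlgSp.RepWith P (Cofan.IsColimit.desc hc f) := by
    intro P _ hP
    haveI : (P.inverseImage (Over.forget S)).RespectsIso :=
      MorphismProperty.RespectsIso.inverseImage P _
    refine MorphismProperty.relative.of_exists (fun T g => ?_)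
    obtain ⟨X, -, sqX⟩ := exists_isPullback_sig c hc (Cofan.IsColimit.desc hc f) g
      (fun i => (hopen i).rep.pullback g) (fun i => (hopen i).rep.snd g)
      (fun i => (hopen i).rep.fst g) (fun i => by
        rw [hDf]
        exact (hopen i).rep.isPullback g)
    exact ⟨_, X, _, sqX, hP T _ _ (fun i => (hopen i).property_snd g) (hjs T g)⟩
  have hDet : AlgSp.RepWith @Etale (Cofan.IsColimit.desc hc f) := by
    refine hDrep @Etale (fun T V v hv _ => ?_)
    haveI : ∀ i, Etale (v i).left := fun i => by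
      haveI := hv i
      infer_instance
    exact IsZariskiLocalAtSource.sigmaDesc (P := @Etale) (fun i => inferInstance)
  have hDsurj : AlgSp.RepWith @Surjective (Cofan.IsColimit.desc hc f) := by
    refine hDrep @Surjective (fun T V v _ hv => ⟨fun t => ?_⟩)
    obtain ⟨i, y, hy⟩ := hv t
    refine ⟨(Groth.Agent.Lib.Helper1.Sig.inj V i).left y, ?_⟩
    rw [← hy, ← Scheme.Hom.comp_apply]
    have := congrArg (fun m => m.left) (Groth.Agent.Lib.Helper1.Sig.inj_desc V v i)
    simp only [Over.comp_left] at this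
    rw [this]
  constructor
  · intro T g
    let Ti : ι × ι → Over S := fun k =>
      Over.mk (pullback.fst ((hopen k.1).rep.snd (g ≫ prod.fst)).left
        ((hopen k.2).rep.snd (g ≫ prod.snd)).left ≫ ((hopen k.1).rep.pullback (g ≫ prod.fst)).hom)
    let pa : ∀ k, Ti k ⟶ (hopen k.1).rep.pullback (g ≫ prod.fst) := fun k =>
      Over.homMk (pullback.fst _ _) rfl
    let pb : ∀ k, Ti k ⟶ (hopen k.2).rep.pullback (g ≫ prod.snd) := fun k =>
      Over.homMk (pullback.snd _ _) (by
        have h1 := Over.w ((hopen k.1).rep.snd (g ≫ prod.fst))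
        have h2 := Over.w ((hopen k.2).rep.snd (g ≫ prod.snd))
        simp only [Ti, Over.mk_hom]
        rw [← h1, ← h2, ← Category.assoc, ← Category.assoc, pullback.condition])
    let ji : ∀ k, Ti k ⟶ T := fun k => pa k ≫ (hopen k.1).rep.snd (g ≫ prod.fst)
    have hji' : ∀ k, pb k ≫ (hopen k.2).rep.snd (g ≫ prod.snd) = ji k := by
      intro k
      ext1
      exact pullback.condition.symm
    haveI : ∀ k, IsOpenImmersion (ji k).left := fun k => by
      haveI : IsOpenImmersion ((hopen k.1).rep.snd (g ≫ prod.fst)).left :=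
        (hopen k.1).property_snd _
      haveI : IsOpenImmersion ((hopen k.2).rep.snd (g ≫ prod.snd)).left :=
        (hopen k.2).property_snd _
      exact (inferInstance : IsOpenImmersion
        (pullback.fst ((hopen k.1).rep.snd (g ≫ prod.fst)).left
          ((hopen k.2).rep.snd (g ≫ prod.snd)).left ≫ ((hopen k.1).rep.snd (g ≫ prod.fst)).left))
    have hji : ∀ t : T.left, ∃ k, t ∈ Set.range (ji k).left := by
      intro t
      obtain ⟨i, y, hy⟩ := hjs T (g ≫ prod.fst) t
      obtain ⟨j, z, hz⟩ := hjs T (g ≫ prod.snd) t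
      obtain ⟨w, hw1, -⟩ := Scheme.Pullback.exists_preimage_pullback
        (f := ((hopen i).rep.snd (g ≫ prod.fst)).left)
        (g := ((hopen j).rep.snd (g ≫ prod.snd)).left) y z (hy.trans hz.symm)
      refine ⟨(i, j), w, ?_⟩
      simp only [ji, pa, Over.comp_left, Over.homMk_left, Scheme.Hom.comp_apply]
      rw [hw1, hy]
    have key : ∀ k, ∃ (W : Over S) (w : W ⟶ Ti k) (a' : (AlgSp.yon S).obj W ⟶ F),
        IsPullback a' ((AlgSp.yon S).map w) (Limits.diag F)
          ((AlgSp.yon S).map (ji k) ≫ g) := by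
      rintro ⟨i, j⟩
      have hα : ((AlgSp.yon S).map (pa (i, j)) ≫ (hopen i).rep.fst (g ≫ prod.fst)) ≫ f i =
          ((AlgSp.yon S).map (ji (i, j)) ≫ g) ≫ prod.fst := by
        rw [Category.assoc, ((hopen i).rep.isPullback (g ≫ prod.fst)).w, ← Category.assoc,
          ← Functor.map_comp, Category.assoc]
      have sqO := (hopen i).rep.isPullback (((AlgSp.yon S).map (ji (i, j)) ≫ g) ≫ prod.snd)
      haveI : IsOpenImmersion
          ((hopen i).rep.snd (((AlgSp.yon S).map (ji (i, j)) ≫ g) ≫ prod.snd)).left :=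
        (hopen i).property_snd _
      haveI : Mono ((hopen i).rep.snd (((AlgSp.yon S).map (ji (i, j)) ≫ g) ≫ prod.snd)) :=
        le_mono _ ((hopen i).property_snd _)
      obtain ⟨W, w, a'', sqW⟩ := exists_pullback_diag_of_mono (f i) (halg i).diag
        ((AlgSp.yon S).map ((hopen i).rep.snd (((AlgSp.yon S).map (ji (i, j)) ≫ g) ≫ prod.snd)) ≫
          (AlgSp.yon S).map (ji (i, j)) ≫ g)
        ((AlgSp.yon S).map ((hopen i).rep.snd (((AlgSp.yon S).map (ji (i, j)) ≫ g) ≫ prod.snd)) ≫
          (AlgSp.yon S).map (pa (i, j)) ≫ (hopen i).rep.fst (g ≫ prod.fst))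
        ((hopen i).rep.fst (((AlgSp.yon S).map (ji (i, j)) ≫ g) ≫ prod.snd))
        (by
          simp only [Category.assoc] at hα ⊢
          rw [hα])
        (by
          rw [sqO.w]
          simp only [Category.assoc])
      exact ⟨W, w ≫ _, a'', isPullback_diag_of_open (f i) _ _ hα _ _ sqO w a'' sqW⟩
    choose W w a' sq using key
    obtain ⟨W₀, w₀, a₀, sq₀, -⟩ := exists_rep_of_openCover (Limits.diag F) g Ti ji W w a' sq hji
    exact ⟨W₀, w₀, a₀, sq₀⟩
  · obtain ⟨U, p, hp, hps⟩ := hcop.atlas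
    exact ⟨U, p ≫ Cofan.IsColimit.desc hc f,
      (AlgSp.RepWith @Etale).comp_mem _ _ hp hDet,
      (AlgSp.RepWith @Surjective).comp_mem _ _ hps hDsurj⟩

end Groth.Agent.S9877
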