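import Groth.Statements.S9890
import Groth.Agent.Lib.T2H7DiagProp
import Groth.Agent.Lib.T2H7SigmaDesc
import Groth.Agent.Lib.T2H1FreeAct
import Groth.Agent.Lib.T2H1RepIso
import Groth.Agent.Lib.Helper12Descent
-- import your own Groth.Agent.* helpers here

set_option autoImplicit false
universe u
open CategoryTheory CategoryTheory.Limits AlgebraicGeometry
open AlgSp

namespace Groth.Agent.S9890

open Groth.Agent.Lib.Helper1.Sig Groth.Agent.Lib.T2H7.DiagRep Groth.Agent.Lib.T2H7.SigmaDesc

section Aux

variable {S : Scheme.{u}} (U : Over S) {G : Type u} [Group G] (ρ : G →* Aut U)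

/-- the graph `(ρ g, 1) : U ⟶ U ×_S U`. -/
noncomputable def graph (g : G) : U.left ⟶ pullback U.hom U.hom :=
  pullback.lift (ρ g).hom.left (𝟙 _) (by rw [Over.w, Category.id_comp])

theorem graph_eq (g : G) :
    graph U ρ g = pullback.diagonal U.hom ≫
      pullback.map U.hom U.hom U.hom U.hom (ρ g).hom.left (𝟙 _) (𝟙 S)
        (by rw [Over.w, Category.comp_id]) (by rw [Category.id_comp, Category.comp_id]) := by
  apply pullback.hom_ext
  · rw [graph, pullback.lift_fst, Category.assoc, pullback.lift_fst, ← Category.assoc,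
      pullback.diagonal_fst, Category.id_comp]
  · rw [graph, pullback.lift_snd, Category.assoc, pullback.lift_snd, ← Category.assoc,
      pullback.diagonal_snd, Category.id_comp]

instance (g : G) : IsIso (ρ g).hom.left :=
  inferInstanceAs (IsIso ((Over.forget S).map (ρ g).hom))

theorem quasiCompact_graph [QuasiSeparated U.hom] (g : G) : QuasiCompact (graph U ρ g) := by
  rw [graph_eq]
  infer_instance

theorem isClosedImmersion_graph [IsSeparated U.hom] (g : G) : IsClosedImmersion (graph U ρ g) := by
  rw [graph_eq]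
  infer_instance

variable (s t : sig (fun _ : G => U) ⟶ U) (hs : ∀ g, inj (fun _ : G => U) g ≫ s = 𝟙 U)
  (ht : ∀ g, inj (fun _ : G => U) g ≫ t = (ρ g).hom)

include hs ht in
theorem jR_sig : (jR s t : (∐ fun _ : G => U.left) ⟶ pullback U.hom U.hom) =
    Sigma.desc (graph U ρ) := by
  apply Sigma.hom_ext
  intro g
  rw [Sigma.ι_desc]
  have h1 : Sigma.ι (fun _ : G => U.left) g ≫ t.left = (ρ g).hom.left :=
    congrArg (fun m => m.left) (ht g)
  have h2 : Sigma.ι (fun _ : G => U.left) g ≫ s.left = 𝟙 _ :=
    congrArg (fun m => m.left) (hs g)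
  have e1 : (jR s t : (∐ fun _ : G => U.left) ⟶ pullback U.hom U.hom) ≫
      pullback.fst U.hom U.hom = t.left := jR_fst s t
  have e2 : (jR s t : (∐ fun _ : G => U.left) ⟶ pullback U.hom U.hom) ≫
      pullback.snd U.hom U.hom = s.left := jR_snd s t
  have g1 : graph U ρ g ≫ pullback.fst U.hom U.hom = (ρ g).hom.left := by
    rw [graph, pullback.lift_fst]
  have g2 : graph U ρ g ≫ pullback.snd U.hom U.hom = 𝟙 _ := by
    rw [graph, pullback.lift_snd]
  apply pullback.hom_ext
  · exact (Category.assoc _ _ _).trans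
      ((congrArg (fun m => Sigma.ι (fun _ : G => U.left) g ≫ m) e1).trans (h1.trans g1.symm))
  · exact (Category.assoc _ _ _).trans
      ((congrArg (fun m => Sigma.ι (fun _ : G => U.left) g ≫ m) e2).trans (h2.trans g2.symm))

end Aux

/-- Let a finite group `G` act freely (no non-identity element fixes a point together with its residue
field) by `S`-automorphisms on a scheme `U` over `S`, and let `s, t : R = ∐_{g ∈ G} U ⟶ U` be the
identity and the action. When `U ⟶ S` is quasi-separated, so is the quotient sheaf `U/G = U/R` over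
`S`; when `U ⟶ S` is separated, `U/G` is also separated over `S`. -/
theorem result (S : Scheme.{u}) (U : Over S) (G : Type u) [Group G] [Finite G]
    (ρ : G →* Aut U)
    (hfree : ∀ (g : G) (x : U.left), g ≠ 1 →
      U.left.fromSpecResidueField x ≫ (ρ g).hom.left ≠ U.left.fromSpecResidueField x)
    (c : Cofan (fun _ : G => U)) (hc : IsColimit c) (s t : c.pt ⟶ U)
    (hs : ∀ g, c.inj g ≫ s = 𝟙 U) (ht : ∀ g, c.inj g ≫ t = (ρ g).hom) :
    (QuasiSeparated U.hom → AlgSp.IsQuasiSeparatedSp (QuotSh.quot Scheme.fppfPrecoverage s t)) ∧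
      (IsSeparated U.hom → AlgSp.IsSeparatedSp (QuotSh.quot Scheme.fppfPrecoverage s t)) := by
  have h : AlgSp.IsEtaleEqvRel s t :=
    Groth.Agent.Lib.T2H1.FreeAct.isEtaleEqvRel_of_free hfree c hc s t hs ht
  have sq := Groth.Agent.Lib.T2H1.RepIso.isPullback_yon_quotπ s t h.toIsEqvRel
  set p := (QuotSh.repIsoUliftYoneda Scheme.fppfPrecoverage U).inv ≫
    QuotSh.quotπ Scheme.fppfPrecoverage s t with hp
  haveI : Epi (QuotSh.quotπ Scheme.fppfPrecoverage s t) := by
    unfold QuotSh.quotπ
    exact coequalizer.π_epi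
  haveI : Epi p := epi_comp _ _
  haveI : Sheaf.IsLocallySurjective p := (Sheaf.isLocallySurjective_iff_epi _).mpr inferInstance
  haveI : Etale t.left := h.etale_right
  -- transport to the standard coproduct
  let e : c.pt ≅ sig (fun _ : G => U) :=
    hc.coconePointUniqueUpToIso (Groth.Agent.Lib.T2H1.FreeAct.isColimitSig (fun _ : G => U))
  have he : ∀ g, inj (fun _ : G => U) g ≫ e.inv = c.inj g := fun g =>
    IsColimit.comp_coconePointUniqueUpToIso_inv hc
      (Groth.Agent.Lib.T2H1.FreeAct.isColimitSig (fun _ : G => U)) ⟨g⟩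
  have hs' : ∀ g, inj (fun _ : G => U) g ≫ e.inv ≫ s = 𝟙 U := fun g => by
    rw [← Category.assoc, he, hs]
  have ht' : ∀ g, inj (fun _ : G => U) g ≫ e.inv ≫ t = (ρ g).hom := fun g => by
    rw [← Category.assoc, he, ht]
  haveI : IsIso e.hom.left := inferInstanceAs (IsIso ((Over.forget S).map e.hom))
  haveI : IsIso e.inv.left := inferInstanceAs (IsIso ((Over.forget S).map e.inv))
  have hj : jR s t = e.hom.left ≫ Sigma.desc (graph U ρ) := by
    rw [← jR_sig U ρ (e.inv ≫ s) (e.inv ≫ t) hs' ht']
    apply pullback.hom_ext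
    · rw [Category.assoc, jR_fst, jR_fst, ← Over.comp_left, e.hom_inv_id_assoc]
    · rw [Category.assoc, jR_snd, jR_snd, ← Over.comp_left, e.hom_inv_id_assoc]
  haveI hmono : Mono (jR s t) := mono_jR _ p s t sq
  have hinj : Function.Injective (Sigma.desc (graph U ρ)) := by
    have h1 : Sigma.desc (graph U ρ) = e.inv.left ≫ jR s t := by
      rw [hj, ← Category.assoc, ← Over.comp_left, e.inv_hom_id]
      exact (Category.id_comp _).symm
    have hm : Mono (Sigma.desc (graph U ρ)) := by
      rw [h1]
      exact @mono_comp _ _ _ _ _ e.inv.left inferInstance (jR s t) hmono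
    exact @Groth.Agent.Lib.T2H7.SigmaDesc.injective_of_mono _ _ _ hm
  constructor
  · intro hqs
    haveI := hqs
    haveI : ∀ g, QuasiCompact (graph U ρ g) := fun g => quasiCompact_graph U ρ g
    have hq : QuasiCompact (Sigma.desc (graph U ρ)) := quasiCompact_sigmaDesc (graph U ρ)
    haveI : MorphismProperty.IsLocalAtTarget (@QuasiCompact : MorphismProperty Scheme.{u})
        Scheme.fppfPrecoverage :=
      Groth.Agent.Lib.T2H1.RepIso.isLocalAtTarget_fppf _
        Groth.Agent.Lib.Helper12.descendsAlong_quasiCompact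
    refine Groth.Agent.Lib.T2H7.DiagProp.repWith_diag _ p s t sq @QuasiCompact ?_
    rw [hj]
    exact @quasiCompact_comp _ _ _ e.hom.left (Sigma.desc (graph U ρ)) inferInstance hq
  · intro hsep
    haveI := hsep
    haveI : ∀ g, IsClosedImmersion (graph U ρ g) := fun g => isClosedImmersion_graph U ρ g
    have hq : IsClosedImmersion (Sigma.desc (graph U ρ)) :=
      isClosedImmersion_sigmaDesc (graph U ρ) hinj
    haveI : MorphismProperty.IsLocalAtTarget (@IsClosedImmersion : MorphismProperty Scheme.{u})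
        Scheme.fppfPrecoverage :=
      Groth.Agent.Lib.T2H1.RepIso.isLocalAtTarget_fppf _
        Groth.Agent.Lib.Helper12.descendsAlong_isClosedImmersion
    refine Groth.Agent.Lib.T2H7.DiagProp.repWith_diag _ p s t sq @IsClosedImmersion ?_
    rw [hj]
    exact @IsClosedImmersion.comp _ _ _ e.hom.left (Sigma.desc (graph U ρ)) inferInstance hq

end Groth.Agent.S9890
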