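import Groth.Statements.S9894
import Groth.Agent.Lib.T2H7LocRep
import Groth.Agent.Lib.T2H1LimAffine
import Groth.Agent.S9927
import Groth.Agent.S9876
import Groth.Agent.S9884

set_option autoImplicit false
universe u
open CategoryTheory CategoryTheory.Limits AlgebraicGeometry
open AlgSp

namespace Groth.Agent.S9894

/-- Let `P` be a property of morphisms of schemes which is stable under base change, fppf local on the
base, and such that morphisms of type `P` satisfy descent: for every surjective, flat, locally
finitely presented `p : X' ⟶ S'` every descent datum relative to `p` whose scheme has structure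
morphism in `P` is effective (descent is asked along single fppf covers, the case the argument
uses). Let `F` be an algebraic space over `S`, `G` an fppf sheaf of sets with a map `f : G ⟶ F`, and
`q : h_U ⟶ F` representable etale and surjective such that the base change of `f` along `q` is
represented by a scheme `V` over `S` with `g : V ⟶ U` having `P`. Then `G` is an algebraic space
over `S` and `f` is representable by schemes with property `P`. -/
theorem result (S : Scheme.{u}) (P : MorphismProperty Scheme.{u})
    [P.IsStableUnderBaseChange] [P.IsLocalAtTarget Scheme.fppfPrecoverage]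
    (hdesc : ∀ ⦃X' S' : Scheme.{u}⦄ (p : X' ⟶ S'), Surjective p → Flat p → LocallyOfFinitePresentation p →
      ∀ D : Desc.SchDD p, P D.obj.hom → (Desc.toDD p).essImage D)
    (F : AlgSp.Space S) (G : AlgSp.Sp S) (f : G ⟶ F.obj) {U V : Over S} (q : (AlgSp.yon S).obj U ⟶ F.obj)
    (hqe : AlgSp.RepWith @Etale q) (hqs : AlgSp.RepWith @Surjective q) (fst : (AlgSp.yon S).obj V ⟶ G)
    (g : V ⟶ U) (sq : IsPullback fst ((AlgSp.yon S).map g) f q) (hP : P g.left) :
    AlgSp.IsAlgSpace G ∧ AlgSp.RepWith P f := by
  -- representability of `f`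
  have hrep : AlgSp.Representable f := by
    intro T ξ
    obtain ⟨W, w, ζ, sqW⟩ := hqe.1 ξ
    haveI hwe : Etale w.left := hqe.2 ξ ζ w sqW
    haveI hws : Surjective w.left := hqs.2 ξ ζ w sqW
    obtain ⟨u, rfl⟩ := (AlgSp.yon S).map_surjective ζ
    -- the base change of the chart
    have sqV : IsPullback ((AlgSp.yon S).map (pullback.fst g u))
        ((AlgSp.yon S).map (pullback.snd g u)) ((AlgSp.yon S).map g) ((AlgSp.yon S).map u) :=
      (IsPullback.of_hasPullback g u).map (AlgSp.yon S)
    have sqO := sqV.paste_horiz sq
    have hc : ((AlgSp.yon S).map (pullback.fst g u) ≫ fst) ≫ f =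
        ((AlgSp.yon S).map (pullback.snd g u) ≫ (AlgSp.yon S).map w) ≫ ξ := by
      rw [sqO.w, Category.assoc, sqW.w]
    let a : (AlgSp.yon S).obj (pullback g u) ⟶ pullback f ξ := pullback.lift _ _ hc
    have ha1 : a ≫ pullback.fst f ξ = (AlgSp.yon S).map (pullback.fst g u) ≫ fst :=
      pullback.lift_fst _ _ _
    have ha2 : a ≫ pullback.snd f ξ =
        (AlgSp.yon S).map (pullback.snd g u) ≫ (AlgSp.yon S).map w := pullback.lift_snd _ _ _
    have sqH : IsPullback a ((AlgSp.yon S).map (pullback.snd g u)) (pullback.snd f ξ)
        ((AlgSp.yon S).map w) := by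
      refine IsPullback.of_right ?_ ha2 (IsPullback.of_hasPullback f ξ)
      rw [ha1, ← sqW.w]
      exact sqO
    have hP' : P (pullback.snd g u).left :=
      MorphismProperty.pullback_snd (P := P.inverseImage (Over.forget S)) g u hP
    have heff := hdesc w.left hws inferInstance inferInstance
      (Groth.Agent.Lib.T2H7.LocRep.dd (pullback f ξ) (pullback.snd f ξ) w a (pullback.snd g u) sqH)
      hP'
    obtain ⟨Z, z, Φ, sqZ⟩ := Groth.Agent.Lib.T2H7.LocRep.exists_isPullback (pullback f ξ)
      (pullback.snd f ξ) w a (pullback.snd g u) sqH heff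
    have sqF := sqZ.paste_horiz (IsPullback.of_hasPullback f ξ)
    rw [Category.id_comp] at sqF
    exact ⟨Z, z, Φ ≫ pullback.fst f ξ, sqF⟩
  constructor
  · have h1 := Groth.Agent.S9876.result S F G.obj f.hom
      (Groth.Agent.Lib.T2H1.LimAffine.pyon_relativelyRepresentable f hrep)
    exact (AlgSp.isAlgSpaceP_obj_iff G).1 h1
  · haveI : Epi q := Groth.Agent.S9927.epi_of_repWith q hqe hqs
    haveI : Sheaf.IsLocallySurjective q := (Sheaf.isLocallySurjective_iff_epi q).2 inferInstance
    exact Groth.Agent.S9884.result S G F.obj ((AlgSp.yon S).obj U) f hrep q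
      ((AlgSp.yon S).obj V) fst ((AlgSp.yon S).map g) sq P
      ((AlgSp.repWith_yon_map_iff P g).2 hP)

end Groth.Agent.S9894
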