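import Groth.Statements.S9935
import Mathlib
import Groth.Agent.S10538
import Groth.Agent.S9912
import Groth.Agent.Lib.Helper1ClosedSub

set_option autoImplicit false
universe u
open CategoryTheory CategoryTheory.Limits AlgebraicGeometry
open AlgSp

namespace Groth.Agent.S9935

open Groth.Agent.Lib.Helper1

variable {S : Scheme.{u}}

/-- invariance of the scheme-theoretic image of a quasi-compact morphism `v : V ⟶ U` to a chart
`c : h_U ⟶ X`, when `V` itself is invariant. -/
theorem invariant_image {X : AlgSp.Sp S} (hX : AlgSp.IsAlgSpace X) {U V : Over S}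
    (c : (AlgSp.yon S).obj U ⟶ X) (hce : AlgSp.RepWith @Etale c) (v : V ⟶ U)
    [QuasiCompact v.left]
    (hV : ∀ (T : Over S) (a b : T ⟶ U), (AlgSp.yon S).map a ≫ c = (AlgSp.yon S).map b ≫ c →
      (∃ l : T ⟶ V, l ≫ v = a) → ∃ l : T ⟶ V, l ≫ v = b)
    {C : Over S} (iC : C ⟶ U) [IsClosedImmersion iC.left] (hker : iC.left.ker = v.left.ker) :
    ClosedSub.Invariant c iC := by
  -- the equivalence relation
  obtain ⟨R, p₂, p₁', sqR⟩ := hce.1 c
  obtain ⟨p₁, rfl⟩ := (AlgSp.yon S).map_surjective p₁'
  haveI : Etale p₂.left := hce.2 c _ p₂ sqR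
  haveI : Etale p₁.left := hce.2 c _ p₁ sqR.flip
  have hle : ∀ (p q : R ⟶ U) [Flat p.left] [Flat q.left],
      (AlgSp.yon S).map p ≫ c = (AlgSp.yon S).map q ≫ c →
      v.left.ker.comap q.left ≤ v.left.ker.comap p.left := by
    intro p q _ _ hpq
    let T' : Over S := Over.mk (pullback.fst p.left v.left ≫ R.hom)
    let f₁ : T' ⟶ R := Over.homMk (pullback.fst p.left v.left) rfl
    let f₂ : T' ⟶ V := Over.homMk (pullback.snd p.left v.left) (by
      show pullback.snd p.left v.left ≫ V.hom = pullback.fst p.left v.left ≫ R.hom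
      rw [← Over.w v, ← Category.assoc, ← pullback.condition, Category.assoc, Over.w p])
    have hf : f₂ ≫ v = f₁ ≫ p := by
      ext
      exact pullback.condition.symm
    obtain ⟨l, hl⟩ := hV T' (f₁ ≫ p) (f₁ ≫ q)
      (by rw [Functor.map_comp, Functor.map_comp, Category.assoc, Category.assoc, hpq])
      ⟨f₂, hf⟩
    have hl' : l.left ≫ v.left = pullback.fst p.left v.left ≫ q.left :=
      congrArg (fun x => x.left) hl
    rw [← Groth.Agent.S10538.ker_pullback_fst_of_flat, ← Groth.Agent.S10538.ker_pullback_fst_of_flat]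
    have : pullback.lift (pullback.fst p.left v.left) l.left hl'.symm ≫
        pullback.fst q.left v.left = pullback.fst p.left v.left := pullback.lift_fst _ _ _
    rw [← this]
    exact Scheme.Hom.le_ker_comp _ _
  have stab : v.left.ker.comap p₁.left = v.left.ker.comap p₂.left :=
    le_antisymm (hle p₂ p₁ sqR.w.symm) (hle p₁ p₂ sqR.w)
  intro T a b hab ⟨l, hl⟩
  obtain ⟨r, hr⟩ := (AlgSp.yon S).map_surjective (sqR.lift _ _ hab)
  have hr1 : r ≫ p₁ = a := by
    apply (AlgSp.yon S).map_injective
    rw [Functor.map_comp, hr, sqR.lift_fst]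
  have hr2 : r ≫ p₂ = b := by
    apply (AlgSp.yon S).map_injective
    rw [Functor.map_comp, hr, sqR.lift_snd]
  have ha : iC.left.ker ≤ a.left.ker := by
    have : a.left = l.left ≫ iC.left := (congrArg (fun x => x.left) hl).symm
    rw [this]
    exact Scheme.Hom.le_ker_comp _ _
  have ha' : a.left.ker = r.left.ker.map p₁.left := by
    have : a.left = r.left ≫ p₁.left := (congrArg (fun x => x.left) hr1).symm
    rw [this, Scheme.Hom.ker_comp]
  have hb' : b.left.ker = r.left.ker.map p₂.left := by
    have : b.left = r.left ≫ p₂.left := (congrArg (fun x => x.left) hr2).symm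
    rw [this, Scheme.Hom.ker_comp]
  have hb : iC.left.ker ≤ b.left.ker := by
    rw [hb', Scheme.IdealSheafData.le_map_iff_comap_le, hker, ← stab, ← hker,
      ← Scheme.IdealSheafData.le_map_iff_comap_le, ← ha']
    exact ha
  refine ⟨Over.homMk (IsClosedImmersion.lift iC.left b.left hb) ?_, ?_⟩
  · rw [← Over.w iC, ← Category.assoc, IsClosedImmersion.lift_fac, Over.w b]
  · ext
    exact IsClosedImmersion.lift_fac _ _ _

/-- A quasi-compact immersion of algebraic spaces factors as an open immersion into a closed subspace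
followed by the closed immersion. -/
theorem result {S : Scheme.{u}} {Z X : AlgSp.Space S}
    (i : Z ⟶ X) (hi : AlgSp.RepWith @IsImmersion i.hom) (hq : AlgSp.IsQuasiCompactMor i.hom) :
    ∃ (Zbar : AlgSp.Space S) (j : Z ⟶ Zbar) (c : Zbar ⟶ X), j ≫ c = i ∧
      AlgSp.RepWith @IsOpenImmersion j.hom ∧ AlgSp.RepWith @IsClosedImmersion c.hom := by
  obtain ⟨U, c, hce, hcs⟩ := X.property.atlas
  have hqc : AlgSp.RepWith @QuasiCompact i.hom := (Groth.Agent.S9912.result i hi.1).2 hq
  obtain ⟨V, v, pr, sqV⟩ := hi.1 c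
  haveI : IsImmersion v.left := hi.2 c pr v sqV
  haveI : QuasiCompact v.left := hqc.2 c pr v sqV
  -- the scheme theoretic image of `V` in `U`
  let C : Over S := Over.mk (v.left.imageι ≫ U.hom)
  let iC : C ⟶ U := Over.homMk v.left.imageι rfl
  let o : V ⟶ C := Over.homMk v.left.toImage (by
    show v.left.toImage ≫ v.left.imageι ≫ U.hom = V.hom
    rw [← Category.assoc, v.left.toImage_imageι, Over.w v])
  have ho : o ≫ iC = v := by
    ext
    exact v.left.toImage_imageι
  haveI : IsClosedImmersion iC.left := inferInstanceAs (IsClosedImmersion v.left.imageι)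
  haveI : Mono iC.left := inferInstance
  haveI : Mono iC := (Over.forget S).mono_of_mono_map ‹_›
  have hVinv : ∀ (T : Over S) (a b : T ⟶ U),
      (AlgSp.yon S).map a ≫ c = (AlgSp.yon S).map b ≫ c →
      (∃ l : T ⟶ V, l ≫ v = a) → ∃ l : T ⟶ V, l ≫ v = b := by
    rintro T a b hab ⟨l, hl⟩
    have hw : ((AlgSp.yon S).map l ≫ pr) ≫ i.hom = (AlgSp.yon S).map b ≫ c := by
      rw [Category.assoc, sqV.w, ← Category.assoc, ← Functor.map_comp, hl, hab]
    obtain ⟨l', hl'⟩ := (AlgSp.yon S).map_surjective (sqV.lift _ _ hw)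
    refine ⟨l', ?_⟩
    apply (AlgSp.yon S).map_injective
    rw [Functor.map_comp, hl', sqV.lift_snd]
  have hinv : ClosedSub.Invariant c iC :=
    invariant_image X.property c hce v hVinv iC (Scheme.IdealSheafData.ker_subschemeι _)
  have hZbar := ClosedSub.isAlgSpace_obj c iC X.property hce hcs hinv
  have hincl := ClosedSub.repWith_incl c iC X.property hce hcs hinv inferInstance
  obtain ⟨a', sqC⟩ := ClosedSub.exists_chart c iC hinv
  obtain ⟨j, hj⟩ := (ClosedSub.exists_factor_iff c iC i.hom).2 (by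
    intro T ξ a h
    obtain ⟨m, hm⟩ := (AlgSp.yon S).map_surjective (sqV.lift ξ ((AlgSp.yon S).map a) h.symm)
    have hmv : m ≫ v = a := by
      apply (AlgSp.yon S).map_injective
      rw [Functor.map_comp, hm, sqV.lift_snd]
    exact ⟨m ≫ o, by rw [Category.assoc, ho, hmv]⟩)
  refine ⟨⟨ClosedSub.obj c iC, hZbar⟩, ObjectProperty.homMk j,
    ObjectProperty.homMk (ClosedSub.incl c iC), ?_, ?_, hincl⟩
  · apply ObjectProperty.hom_ext
    exact hj
  · have hcomm : (AlgSp.yon S).map o ≫ a' = pr ≫ j := by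
      rw [← cancel_mono (ClosedSub.incl c iC), Category.assoc, sqC.w, ← Category.assoc,
        ← Functor.map_comp, ho, Category.assoc, hj, sqV.w]
    have big : IsPullback ((AlgSp.yon S).map o ≫ (AlgSp.yon S).map iC) pr c
        (j ≫ ClosedSub.incl c iC) := by
      rw [← Functor.map_comp, ho, hj]
      exact sqV.flip
    have hleft : IsPullback ((AlgSp.yon S).map o) pr a' j :=
      IsPullback.of_right big hcomm sqC.flip
    have hae : AlgSp.RepWith @Etale a' :=
      MorphismProperty.of_isPullback (P := AlgSp.RepWith @Etale) sqC.flip hce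
    have has : AlgSp.RepWith @Surjective a' :=
      MorphismProperty.of_isPullback (P := AlgSp.RepWith @Surjective) sqC.flip hcs
    exact Groth.Agent.S9932.result (X := Z) (Y := ⟨ClosedSub.obj c iC, hZbar⟩) @IsOpenImmersion
      (Or.inr (Or.inl rfl)) (ObjectProperty.homMk j) C a' hae has pr ((AlgSp.yon S).map o)
      hleft.flip ((AlgSp.repWith_yon_map_iff @IsOpenImmersion o).2
        (inferInstanceAs (IsOpenImmersion v.left.toImage)))

end Groth.Agent.S9935
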