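import Groth.Statements.S9942
import Groth.Agent.Lib.T2H1AffDesc4
import Groth.Agent.Lib.T2H1Gpd2
import Groth.Agent.S10533
import Groth.Agent.S10176

set_option autoImplicit false
universe u
open CategoryTheory CategoryTheory.Limits AlgebraicGeometry
open AlgSp

namespace Groth.Agent.S9942

/-- (3) ⇒ (2): if X x_Y V is an affine scheme for every affine scheme V etale over Y, then f : X -> Y is
affine. -/
theorem result {S : Scheme.{u}} {X Y : AlgSp.Space S} (f : X ⟶ Y)
    (h : ∀ (V : Over S), IsAffine V.left → ∀ (b : (AlgSp.yon S).obj V ⟶ Y.obj), AlgSp.RepWith @Etale b →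
      ∀ (P : AlgSp.Sp S) (fst : P ⟶ X.obj) (snd : P ⟶ (AlgSp.yon S).obj V), IsPullback fst snd f.hom b →
      ∃ (W : Over S), IsAffine W.left ∧ Nonempty ((AlgSp.yon S).obj W ≅ P)) :
    AlgSp.IsAffineMor f.hom := by
  obtain ⟨U, p, hpe, hps⟩ := Y.property.atlas
  let 𝒰 := U.left.affineCover
  let V : 𝒰.I₀ → Over S := fun k => Over.mk (𝒰.f k ≫ U.hom)
  let j : ∀ k, V k ⟶ U := fun k => Over.homMk (𝒰.f k) rfl
  let b : ∀ k, (AlgSp.yon S).obj (V k) ⟶ Y.obj := fun k => (AlgSp.yon S).map (j k) ≫ p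
  have hbe : ∀ k, AlgSp.RepWith @Etale (b k) := fun k =>
    (AlgSp.RepWith @Etale).comp_mem _ _
      ((AlgSp.repWith_yon_map_iff @Etale _).2 (by
        change Etale (𝒰.f k)
        infer_instance)) hpe
  have hVa : ∀ k, IsAffine (V k).left := fun k => inferInstanceAs (IsAffine (𝒰.X k))
  let V' : 𝒰.I₀ → AlgSp.Space S := fun k => ⟨(AlgSp.yon S).obj (V k), AlgSp.IsAlgSpace.yon_obj _⟩
  let b' : ∀ k, V' k ⟶ Y := fun k => ObjectProperty.homMk (b k)
  have hcov : AlgSp.IsFpqcCover (fun k => (AlgSp.yon S).obj (V k)) b := by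
    refine Groth.Agent.S10505.result Y V' b' ⟨fun k => ⟨?_, ?_⟩, ?_⟩
    · refine (Groth.Agent.S9948.result @Flat (.inr (.inr (.inl rfl))) (b' k) (hbe k).1).2 ?_
      exact Groth.Agent.Lib.Helper12.OpenSub.repWith_mono
        (fun _ _ g hg => by haveI : Etale g := hg; infer_instance) (hbe k)
    · refine (Groth.Agent.S9948.result @LocallyOfFinitePresentation (.inr (.inl rfl)) (b' k)
        (hbe k).1).2 ?_
      exact Groth.Agent.Lib.Helper12.OpenSub.repWith_mono
        (fun _ _ g hg => by haveI : Etale g := hg; infer_instance) (hbe k)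
    · intro x
      obtain ⟨u, hu⟩ := Groth.Agent.S10177.surjective_ofPt p hps x
      obtain ⟨k, y, hy⟩ := 𝒰.exists_eq u
      refine ⟨k, AlgSp.Points.ofScheme (V k) y, ?_⟩
      change AlgSp.Points.map (b k) (AlgSp.Points.ofScheme (V k) y) = x
      rw [← AlgSp.Points.ofPt_eq_map_ofScheme, Groth.Agent.S10176.ofPt_map_comp]
      change AlgSp.Points.ofPt p ((𝒰.f k) y) = x
      rw [hy, hu]
  refine (Groth.Agent.S10533.result S (fun k => (AlgSp.yon S).obj (V k)) b Y.property
    (fun k => AlgSp.IsAlgSpace.yon_obj _) hcov f.hom X.property (fun k => pullback f.hom (b k))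
    (fun k => pullback.snd _ _) (fun k => pullback.fst _ _)
    (fun k => Groth.Agent.S9874.isAlgSpace_of_isPullback Y.property.diag X.property
      (AlgSp.IsAlgSpace.yon_obj _) (IsPullback.of_hasPullback f.hom (b k)))
    (fun k => IsPullback.of_hasPullback _ _)).2 (fun k => ?_)
  obtain ⟨W, hW, ⟨e⟩⟩ := h (V k) (hVa k) (b k) (hbe k) _ _ _
    (IsPullback.of_hasPullback f.hom (b k))
  obtain ⟨w, hw⟩ := (AlgSp.yon S).map_surjective (e.hom ≫ pullback.snd f.hom (b k))
  haveI := hW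
  haveI := hVa k
  haveI : IsAffineHom w.left := inferInstance
  have h1 := Groth.Agent.Lib.T2H1.Gpd2.isAffineMor_yon_map w
  intro Z hZ c
  obtain ⟨W', i, a, sqW, hW'⟩ := h1 hZ c
  refine ⟨W', i, a ≫ e.hom, ?_, hW'⟩
  rw [hw] at sqW
  exact IsPullback.of_iso sqW (Iso.refl _) e (Iso.refl _) (Iso.refl _) (by simp) (by simp)
    (by simp) (by simp)

end Groth.Agent.S9942
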