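import Groth.Statements.S9945
import Groth.Agent.S9942
import Groth.Agent.S10185
import Groth.Agent.S10265

set_option autoImplicit false
universe u
open CategoryTheory CategoryTheory.Limits AlgebraicGeometry
open AlgSp

namespace Groth.Agent.S9945

/-- Over a base scheme with quasi-separated underlying space, every morphism from the spectrum of an
Artinian ring to an algebraic space quasi-separated over S is affine. (The published statement
assumes X quasi-separated in the absolute sense over any base; this row assumes the base
quasi-separated and X quasi-separated over it, which on such bases is the same condition.) -/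
theorem result {S : Scheme.{u}} [QuasiSeparatedSpace ↥S] (X : AlgSp.Space S)
    (hX : AlgSp.IsQuasiSeparatedSp X.obj) (A : Type u) [CommRing A] [IsArtinianRing A]
    (str : Spec (CommRingCat.of A) ⟶ S) (a : (AlgSp.yon S).obj (Over.mk str) ⟶ X.obj) :
    AlgSp.IsAffineMor a := by
  let T : Over S := Over.mk str
  let T' : AlgSp.Space S := ⟨(AlgSp.yon S).obj T, AlgSp.IsAlgSpace.yon_obj T⟩
  let a' : T' ⟶ X := ObjectProperty.homMk a
  refine Groth.Agent.S9942.result (X := T') (Y := X) a' ?_
  intro V hV b hb P fst snd sq
  obtain ⟨W, pr, fst', sq'⟩ := hb.1 a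
  haveI : Etale pr.left := hb.2 _ _ pr sq'
  obtain ⟨sndV, rfl⟩ := (AlgSp.yon S).map_surjective fst'
  haveI : CompactSpace ↥T.left := inferInstanceAs (CompactSpace ↥(Spec (CommRingCat.of A)))
  haveI : IsAffine V.left := hV
  haveI : CompactSpace ↥W.left :=
    Groth.Agent.S10185.result X hX T V W a b pr sndV sq'.flip
  haveI : LocallyQuasiFinite pr.left := Groth.Agent.S10265.locallyQuasiFinite_of_unramified pr.left
  haveI : IsArtinianRing (CommRingCat.of A) := ‹IsArtinianRing A›
  haveI : IsLocallyArtinian T.left :=
    (Scheme.isLocallyArtinianScheme_Spec (R := CommRingCat.of A)).2 inferInstance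
  haveI : IsLocallyArtinian W.left := IsLocallyArtinian.of_locallyQuasiFinite pr.left
  haveI : Finite ↥W.left := finite_of_compact_of_discrete
  refine ⟨W, inferInstance, ⟨?_⟩⟩
  exact IsPullback.isoIsPullback _ _ sq'.flip sq

end Groth.Agent.S9945
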