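import Groth.Statements.S9967
import Mathlib
import Groth.Agent.Lib.Helper1SchImageBC
import Groth.Agent.Lib.Helper12OpenSub2
import Groth.Agent.S10265
import Groth.Agent.S9919

set_option autoImplicit false
universe u
open CategoryTheory CategoryTheory.Limits AlgebraicGeometry
open AlgSp

namespace Groth.Agent.S9967

open Groth.Agent.Lib.Helper1

/-- For a separated f : X -> Y and a section s of f over a quasi-compact open V of Y, the scheme
theoretic image of s maps isomorphically to Y over V. -/
theorem result {S : Scheme.{u}} {X Y V Y' : AlgSp.Space S} (f : X ⟶ Y) (j : V ⟶ Y)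
    (hj : AlgSp.RepWith @IsOpenImmersion j.hom) (hjq : AlgSp.IsQuasiCompactMor j.hom) (hf : AlgSp.IsSeparatedMor f.hom)
    (s : V ⟶ X) (hs : s ≫ f = j) (c : Y' ⟶ X) (hc : AlgSp.IsSchImage s.hom c.hom)
    {P : AlgSp.Sp S} (fst : P ⟶ Y'.obj) (snd : P ⟶ V.obj) (sq : IsPullback fst snd (c ≫ f).hom j.hom) :
    IsIso snd := by
  have hs' : s.hom ≫ f.hom = j.hom := congrArg (fun m => m.hom) hs
  haveI hjm : Mono j.hom := Groth.Agent.S9928.mono_of_repWith @IsOpenImmersion
    (fun _ _ g hg => by haveI : IsOpenImmersion g := hg; infer_instance) j.hom hj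
  -- the base change X_V
  let π₁ : pullback f.hom j.hom ⟶ X.obj := pullback.fst f.hom j.hom
  let π₂ : pullback f.hom j.hom ⟶ V.obj := pullback.snd f.hom j.hom
  have hXV : AlgSp.IsAlgSpace (pullback f.hom j.hom) :=
    Groth.Agent.S9874.isAlgSpace_of_isPullback Y.property.diag X.property V.property
      (IsPullback.of_hasPullback f.hom j.hom)
  let σ : V.obj ⟶ pullback f.hom j.hom := pullback.lift s.hom (𝟙 _) (by rw [hs', Category.id_comp])
  have hσ₁ : σ ≫ π₁ = s.hom := pullback.lift_fst _ _ _
  have hσ₂ : σ ≫ π₂ = 𝟙 _ := pullback.lift_snd _ _ _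
  have hcond : π₁ ≫ f.hom = π₂ ≫ j.hom := pullback.condition
  -- σ is a closed immersion
  have hw : π₁ ≫ f.hom = (π₂ ≫ s.hom) ≫ f.hom := by rw [Category.assoc, hs', hcond]
  have sqσ : IsPullback s.hom σ (pullback.diagonal f.hom) (pullback.lift π₁ (π₂ ≫ s.hom) hw) := by
    refine IsPullback.of_isLimit' ⟨?_⟩ ?_
    · apply pullback.hom_ext
      · simp only [Category.assoc, pullback.diagonal_fst, pullback.lift_fst, Category.comp_id, hσ₁]
      · simp only [Category.assoc, pullback.diagonal_snd, pullback.lift_snd, Category.comp_id]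
        rw [← Category.assoc, hσ₂, Category.id_comp]
    · refine PullbackCone.IsLimit.mk _ (fun t => t.snd ≫ π₂) ?_ ?_ ?_
      · intro t
        have h1 := congrArg (fun m => m ≫ pullback.fst f.hom f.hom) t.condition
        have h2 := congrArg (fun m => m ≫ pullback.snd f.hom f.hom) t.condition
        simp only [Category.assoc, pullback.diagonal_fst, pullback.diagonal_snd, pullback.lift_fst,
          pullback.lift_snd, Category.comp_id] at h1 h2
        rw [Category.assoc, ← h2]
      · intro t
        have h1 := congrArg (fun m => m ≫ pullback.fst f.hom f.hom) t.condition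
        have h2 := congrArg (fun m => m ≫ pullback.snd f.hom f.hom) t.condition
        simp only [Category.assoc, pullback.diagonal_fst, pullback.diagonal_snd, pullback.lift_fst,
          pullback.lift_snd, Category.comp_id] at h1 h2
        apply pullback.hom_ext
        · rw [Category.assoc]
          change _ ≫ σ ≫ π₁ = _ ≫ π₁
          rw [hσ₁, Category.assoc, ← h2, h1]
        · rw [Category.assoc]
          change _ ≫ σ ≫ π₂ = _ ≫ π₂
          rw [hσ₂, Category.comp_id]
      · intro t m _ hm2
        rw [← hm2, Category.assoc, hσ₂, Category.comp_id]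
  have hσcl : AlgSp.RepWith @IsClosedImmersion σ :=
    (AlgSp.RepWith @IsClosedImmersion).of_isPullback sqσ hf
  -- s is quasi-compact
  have hfqs : AlgSp.IsQuasiSeparatedMor f.hom :=
    Groth.Agent.Lib.Helper12.OpenSub.repWith_mono
      (fun _ _ g hg => by haveI : IsClosedImmersion g := hg; infer_instance) hf
  have hsqc : AlgSp.IsQuasiCompactMor s.hom :=
    Groth.Agent.S9919.result s f (by rw [hs]; exact hjq) hfqs
  -- π₁ is flat
  have hπ₁o : AlgSp.RepWith @IsOpenImmersion π₁ :=
    (AlgSp.RepWith @IsOpenImmersion).of_isPullback (IsPullback.of_hasPullback f.hom j.hom).flip hj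
  let XV : AlgSp.Space S := ⟨pullback f.hom j.hom, hXV⟩
  let p₁ : XV ⟶ X := ObjectProperty.homMk π₁
  have hπ₁e : AlgSp.IsEtaleMor p₁.hom := fun U φ hφ =>
    MorphismProperty.comp_mem _ _ _ hφ (Groth.Agent.Lib.Helper12.OpenSub.repWith_mono
      (fun _ _ g hg => by haveI : IsOpenImmersion g := hg; infer_instance) hπ₁o)
  have hπ₁f : AlgSp.LocP @Flat π₁ := (Groth.Agent.S10265.result p₁ hπ₁e).2.2.1
  -- base change square for s
  have sqV : IsPullback (𝟙 V.obj) σ s.hom π₁ := by
    refine IsPullback.of_isLimit' ⟨by rw [Category.id_comp, hσ₁]⟩ ?_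
    refine PullbackCone.IsLimit.mk _ (fun t => t.fst) ?_ ?_ ?_
    · intro t
      exact Category.comp_id _
    · intro t
      apply pullback.hom_ext
      · rw [Category.assoc]
        change _ ≫ σ ≫ π₁ = _ ≫ π₁
        rw [hσ₁, t.condition]
      · rw [Category.assoc]
        change _ ≫ σ ≫ π₂ = _ ≫ π₂
        rw [hσ₂, Category.comp_id, ← cancel_mono j.hom, Category.assoc, ← hcond, ← Category.assoc,
          ← t.condition, Category.assoc, hs']
    · intro t m hm1 _
      rw [← hm1, Category.comp_id]
  have hI : AlgSp.IsSchImage σ (pullback.snd c.hom π₁) :=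
    SchImage.isSchImage_base_change X.property hXV V.property π₁ hπ₁f s.hom hsqc c.hom hc (𝟙 _) σ
      sqV (pullback.fst c.hom π₁) (pullback.snd c.hom π₁) (IsPullback.of_hasPullback _ _)
  obtain ⟨k, hk⟩ := hI.2.2 σ V.property hσcl ⟨𝟙 _, Category.id_comp _⟩
  obtain ⟨f', hf'⟩ := hI.2.1
  haveI := SchImage.mono_of_closed _ hI.1
  haveI : Mono σ := mono_of_mono_fac hσ₂
  have hkf : k ≫ f' = 𝟙 _ := by
    rw [← cancel_mono (pullback.snd c.hom π₁), Category.assoc, hf', hk, Category.id_comp]
  have hfk : f' ≫ k = 𝟙 _ := by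
    rw [← cancel_mono σ, Category.assoc, hk, hf', Category.id_comp]
  -- pasting
  have sqP : IsPullback (pullback.fst c.hom π₁) (pullback.snd c.hom π₁ ≫ π₂) (c.hom ≫ f.hom) j.hom :=
    ((IsPullback.of_hasPullback c.hom π₁).flip.paste_horiz
      (IsPullback.of_hasPullback f.hom j.hom).flip).flip
  have hsnd : snd = (sq.isoIsPullback _ _ sqP).hom ≫ k := by
    have h1 : pullback.snd c.hom π₁ ≫ π₂ = k := by
      rw [← hk, Category.assoc, hσ₂, Category.comp_id]
    rw [← h1]
    exact (IsPullback.isoIsPullback_hom_snd _ _ sq sqP).symm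
  haveI : IsIso k := ⟨⟨f', hkf, hfk⟩⟩
  rw [hsnd]
  infer_instance

end Groth.Agent.S9967
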