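import Groth.Statements.S9978
import Mathlib
import Groth.Agent.S0566
import Groth.Agent.Lib.T2H9NagataSch

set_option autoImplicit false
universe u
open CategoryTheory CategoryTheory.Limits AlgebraicGeometry
open AlgSp

namespace Groth.Agent.S9978

/-- Affine opens of a scheme locally of finite type over a scheme with Nagata affine opens are
Nagata. -/
theorem isNagata_of_locallyOfFiniteType {U V : Scheme.{u}} (g : U ⟶ V) [LocallyOfFiniteType g]
    (hV : ∀ V' : V.Opens, IsAffineOpen V' → CAlg.IsNagata ↑Γ(V, V'))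
    (U' : U.Opens) (hU' : IsAffineOpen U') : CAlg.IsNagata ↑Γ(U, U') := by
  let ι := { p : U.affineOpens × V.affineOpens // (p.1 : U.Opens) ≤ g ⁻¹ᵁ (p.2 : V.Opens) }
  refine Groth.Agent.Lib.T2H9.NagataSch.isNagata_of_cover (Z := U) (ι := ι)
    (fun p => p.1.1) ?_ (fun p => ?_) ⟨U', hU'⟩
  · ext x
    simp only [TopologicalSpace.Opens.coe_iSup, Set.mem_iUnion, TopologicalSpace.Opens.coe_top, Set.mem_univ, iff_true]
    obtain ⟨V', hV', hxV', -⟩ := exists_isAffineOpen_mem_and_subset (x := g x) (U := ⊤) trivial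
    obtain ⟨W, hW, hxW, hWV⟩ := exists_isAffineOpen_mem_and_subset (x := x) (U := g ⁻¹ᵁ V') hxV'
    exact ⟨⟨(⟨W, hW⟩, ⟨V', hV'⟩), hWV⟩, hxW⟩
  · obtain ⟨⟨W, V'⟩, e⟩ := p
    have hft : (g.appLE V'.1 W.1 e).hom.FiniteType :=
      HasRingHomProperty.appLE (P := @LocallyOfFiniteType) g inferInstance V' W e
    algebraize [(g.appLE V'.1 W.1 e).hom]
    exact Groth.Agent.S0566.result Γ(V, V'.1) (hV _ V'.2) Γ(U, W.1)

/-- An algebraic space locally of finite type over a Nagata algebraic space is Nagata. -/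
theorem result {S : Scheme.{u}} {X Y : AlgSp.Space S} (f : X ⟶ Y)
    (hf : AlgSp.LocP @LocallyOfFiniteType f.hom)
    (hY : AlgSp.EtaleLocally (fun U => ∀ V : U.Opens, IsAffineOpen V → CAlg.IsNagata ↑Γ(U, V)) Y.obj) :
    AlgSp.EtaleLocally (fun U => ∀ V : U.Opens, IsAffineOpen V → CAlg.IsNagata ↑Γ(U, V)) X.obj := by
  obtain ⟨V, b, hb, hbs, hV⟩ := hY
  obtain ⟨W, w, hw, hws⟩ := X.property.atlas
  obtain ⟨U, snd, fst, sq⟩ := hb.1 (w ≫ f.hom)
  obtain ⟨h, rfl⟩ := (AlgSp.yon S).map_surjective fst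
  haveI : Etale snd.left := hb.2 _ _ _ sq
  haveI : Surjective snd.left := hbs.2 _ _ _ sq
  have hsnd : AlgSp.RepWith @Etale ((AlgSp.yon S).map snd) :=
    (AlgSp.repWith_yon_map_iff _ _).2 (inferInstance : Etale snd.left)
  have hsnds : AlgSp.RepWith @Surjective ((AlgSp.yon S).map snd) :=
    (AlgSp.repWith_yon_map_iff _ _).2 (inferInstance : Surjective snd.left)
  have ha : AlgSp.RepWith @Etale ((AlgSp.yon S).map snd ≫ w) :=
    (AlgSp.RepWith @Etale).comp_mem _ _ hsnd hw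
  have has : AlgSp.RepWith @Surjective ((AlgSp.yon S).map snd ≫ w) :=
    (AlgSp.RepWith @Surjective).comp_mem _ _ hsnds hws
  refine ⟨U, (AlgSp.yon S).map snd ≫ w, ha, has, ?_⟩
  haveI hlft : LocallyOfFiniteType h.left :=
    hf ((AlgSp.yon S).map snd ≫ w) b h ha hb (by rw [Category.assoc, sq.w])
  exact isNagata_of_locallyOfFiniteType h.left hV

end Groth.Agent.S9978
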