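import Groth.Statements.S9980
import Groth.Agent.Lib.T2H1ResidualSp
import Groth.Agent.Lib.Helper12FTPoint2
import Groth.Agent.Lib.Helper15OpenSub
import Groth.Agent.S9947
import Groth.Agent.S9948
import Groth.Agent.S9985

set_option autoImplicit false
universe u
open CategoryTheory CategoryTheory.Limits AlgebraicGeometry
open AlgSp

namespace Groth.Agent.S9980


open Groth.Agent.Lib.Helper12.FTPoint in
/-- the residual space of a finite type point. -/
theorem exists_mono_of_isFT {S : Scheme.{u}} (X : AlgSp.Space S) (x : AlgSp.Points X.obj)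
    (hx : IsFT X.obj x) :
    ∃ (Z : AlgSp.Space S) (f : Z ⟶ X) (k : Type u) (_ : Field k) (str : Spec (CommRingCat.of k) ⟶ S)
      (z : (AlgSp.yon S).obj (Over.mk str) ⟶ Z.obj), AlgSp.RepWith @Etale z ∧
      AlgSp.RepWith @Surjective z ∧ AlgSp.LocP @LocallyOfFiniteType f.hom ∧ Mono f.hom ∧
      AlgSp.Points.ofPt (z ≫ f.hom) (IsLocalRing.closedPoint k) = x := by
  obtain ⟨U, φ, u, hφ, hu, rfl⟩ := exists_isClosed_of_isFT X.property x hx
  obtain ⟨h1, h2⟩ := Groth.Agent.Lib.T2H1.ResidualSp.repWith_snd_ofPt X.property φ hφ u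
  obtain ⟨hZ, he, hs⟩ := Groth.Agent.Lib.T2H1.ResidualSp.isAlgSpace_image X.property
    (AlgSp.FieldPt.ofPt φ u).toHom h1 h2
  let qu : AlgSp.FieldPt X.obj := AlgSp.FieldPt.ofPt φ u
  let Z : AlgSp.Space S := ⟨Sheaf.image qu.toHom, hZ⟩
  let f : Z ⟶ X := ObjectProperty.homMk (Sheaf.imageι qu.toHom)
  let ι : qu.pt ⟶ U := Over.homMk (U.left.fromSpecResidueField u) rfl
  have hqu : qu.toHom = (AlgSp.yon S).map ι ≫ φ := AlgSp.FieldPt.toHom_ofPt φ u
  haveI : IsClosedImmersion (U.left.fromSpecResidueField u) :=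
    isClosed_singleton_iff_isClosedImmersion.mp hu
  have hι : LocallyOfFiniteType ι.left :=
    (inferInstance : LocallyOfFiniteType (U.left.fromSpecResidueField u))
  refine ⟨Z, f, qu.K, qu.field, qu.str, Sheaf.toImage qu.toHom, he, hs, ?_,
    (inferInstance : Mono (Sheaf.imageι qu.toHom)), ?_⟩
  · exact Groth.Agent.S9947.result @LocallyOfFiniteType (Or.inl rfl) f (Sheaf.toImage qu.toHom) φ ι
      he hs hφ (by rw [← hqu]; exact Sheaf.toImage_ι qu.toHom) hι
  · show AlgSp.Points.ofPt (Sheaf.toImage qu.toHom ≫ Sheaf.imageι qu.toHom) _ = _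
    rw [Sheaf.toImage_ι, AlgSp.Points.ofPt_toHom]
    rfl

/-- an étale chart by a scheme is locally of finite type. -/
theorem locP_lft_of_etale {S : Scheme.{u}} {Z : AlgSp.Space S} {T : Over S}
    (z : (AlgSp.yon S).obj T ⟶ Z.obj) (hz : AlgSp.RepWith @Etale z) :
    AlgSp.LocP @LocallyOfFiniteType z := by
  let Y : AlgSp.Space S := ⟨(AlgSp.yon S).obj T, AlgSp.IsAlgSpace.yon_obj T⟩
  let e : Y ⟶ Z := ObjectProperty.homMk z
  refine (Groth.Agent.S9948.result @LocallyOfFiniteType (Or.inl rfl) e hz.1).2 ?_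
  exact Groth.Agent.Lib.Helper15OpenSub.repWith_mono (P := @Etale) (Q := @LocallyOfFiniteType)
    (fun A B g hg => by haveI : Etale g := hg; infer_instance) hz

/-- composing a locally finite type chart with a locally finite type morphism. -/
theorem locP_lft_comp {S : Scheme.{u}} {Z X : AlgSp.Space S} {T : Over S}
    (z : (AlgSp.yon S).obj T ⟶ Z.obj) (hz : AlgSp.LocP @LocallyOfFiniteType z) (f : Z ⟶ X)
    (hf : AlgSp.LocP @LocallyOfFiniteType f.hom) : AlgSp.LocP @LocallyOfFiniteType (z ≫ f.hom) := by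
  let Y : AlgSp.Space S := ⟨(AlgSp.yon S).obj T, AlgSp.IsAlgSpace.yon_obj T⟩
  let e : Y ⟶ Z := ObjectProperty.homMk z
  exact Groth.Agent.S9985.result @LocallyOfFiniteType (Or.inl rfl) e f hz hf

/-- Characterizations of finite type points via one-point algebraic spaces locally of finite type over X
and via monomorphisms from quotients of spectra of fields. -/
theorem result {S : Scheme.{u}} (X : AlgSp.Space S) (x : AlgSp.Points X.obj) :
    ((∃ (k : Type u) (_ : Field k) (str : Spec (CommRingCat.of k) ⟶ S) (ξ : (AlgSp.yon S).obj (Over.mk str) ⟶ X.obj),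
        AlgSp.LocP @LocallyOfFiniteType ξ ∧ AlgSp.Points.ofPt ξ (IsLocalRing.closedPoint k) = x) ↔
      ∃ (Z : AlgSp.Space S) (f : Z ⟶ X), Nonempty (Unique (AlgSp.Points Z.obj)) ∧
        AlgSp.LocP @LocallyOfFiniteType f.hom ∧ Set.range (AlgSp.Points.map f.hom) = {x}) ∧
    ((∃ (k : Type u) (_ : Field k) (str : Spec (CommRingCat.of k) ⟶ S) (ξ : (AlgSp.yon S).obj (Over.mk str) ⟶ X.obj),
        AlgSp.LocP @LocallyOfFiniteType ξ ∧ AlgSp.Points.ofPt ξ (IsLocalRing.closedPoint k) = x) ↔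
      ∃ (Z : AlgSp.Space S) (f : Z ⟶ X) (k : Type u) (_ : Field k) (str : Spec (CommRingCat.of k) ⟶ S)
        (z : (AlgSp.yon S).obj (Over.mk str) ⟶ Z.obj), AlgSp.RepWith @Etale z ∧ AlgSp.RepWith @Surjective z ∧
        AlgSp.LocP @LocallyOfFiniteType f.hom ∧ Mono f.hom ∧
        AlgSp.Points.ofPt (z ≫ f.hom) (IsLocalRing.closedPoint k) = x) := by
  have hA1 : Groth.Agent.Lib.Helper12.FTPoint.IsFT X.obj x →
      ∃ (Z : AlgSp.Space S) (f : Z ⟶ X), Nonempty (Unique (AlgSp.Points Z.obj)) ∧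
        AlgSp.LocP @LocallyOfFiniteType f.hom ∧ Set.range (AlgSp.Points.map f.hom) = {x} := by
    rintro ⟨k, _, str, ξ, hξ, hx⟩
    let Y : AlgSp.Space S := ⟨(AlgSp.yon S).obj (Over.mk str), AlgSp.IsAlgSpace.yon_obj _⟩
    let f : Y ⟶ X := ObjectProperty.homMk ξ
    haveI : Unique ↥(Spec (CommRingCat.of k)) := PrimeSpectrum.instUnique
    have hall : ∀ y : AlgSp.Points Y.obj, y = AlgSp.Points.ofScheme (Over.mk str)
        (IsLocalRing.closedPoint k) := by
      intro y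
      obtain ⟨t, rfl⟩ := (AlgSp.Points.schemeEquiv (Over.mk str)).surjective y
      show AlgSp.Points.ofScheme (Over.mk str) t = _
      have ht : t = IsLocalRing.closedPoint k :=
        @Subsingleton.elim ↥(Spec (CommRingCat.of k)) _ t (IsLocalRing.closedPoint k)
      rw [ht]
    refine ⟨Y, f, ⟨⟨⟨AlgSp.Points.ofScheme (Over.mk str) (IsLocalRing.closedPoint k)⟩, hall⟩⟩,
      hξ, ?_⟩
    ext y
    simp only [Set.mem_range, Set.mem_singleton_iff]
    constructor
    · rintro ⟨z, rfl⟩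
      rw [hall z, ← AlgSp.Points.ofPt_eq_map_ofScheme]
      exact hx
    · rintro rfl
      exact ⟨_, ((AlgSp.Points.ofPt_eq_map_ofScheme ξ _).symm.trans hx)⟩
  have hA2 : (∃ (Z : AlgSp.Space S) (f : Z ⟶ X), Nonempty (Unique (AlgSp.Points Z.obj)) ∧
        AlgSp.LocP @LocallyOfFiniteType f.hom ∧ Set.range (AlgSp.Points.map f.hom) = {x}) →
      Groth.Agent.Lib.Helper12.FTPoint.IsFT X.obj x := by
    rintro ⟨Z, f, ⟨hU⟩, hf, hr⟩
    obtain ⟨z₀, -, k, _, str, ξ₀, hξ₀, hz₀⟩ :=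
      Groth.Agent.Lib.Helper12.FTPoint.exists_isFT_mem Z.property Set.univ
        isOpen_univ.isLocallyClosed ⟨hU.default, trivial⟩
    refine ⟨k, inferInstance, str, ξ₀ ≫ f.hom, locP_lft_comp ξ₀ hξ₀ f hf, ?_⟩
    have : AlgSp.Points.map f.hom z₀ ∈ Set.range (AlgSp.Points.map f.hom) := ⟨z₀, rfl⟩
    rw [hr, Set.mem_singleton_iff] at this
    rw [← AlgSp.Points.map_ofPt, hz₀]
    exact this
  have hB2 : (∃ (Z : AlgSp.Space S) (f : Z ⟶ X) (k : Type u) (_ : Field k)
        (str : Spec (CommRingCat.of k) ⟶ S)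
        (z : (AlgSp.yon S).obj (Over.mk str) ⟶ Z.obj), AlgSp.RepWith @Etale z ∧
        AlgSp.RepWith @Surjective z ∧
        AlgSp.LocP @LocallyOfFiniteType f.hom ∧ Mono f.hom ∧
        AlgSp.Points.ofPt (z ≫ f.hom) (IsLocalRing.closedPoint k) = x) →
      Groth.Agent.Lib.Helper12.FTPoint.IsFT X.obj x := by
    rintro ⟨Z, f, k, _, str, z, hz, -, hf, -, hx⟩
    exact ⟨k, inferInstance, str, z ≫ f.hom, locP_lft_comp z (locP_lft_of_etale z hz) f hf, hx⟩
  exact ⟨⟨hA1, hA2⟩, ⟨exists_mono_of_isFT X x, hB2⟩⟩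

end Groth.Agent.S9980
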