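import Groth.Statements.S9986
import Groth.Agent.Lib.T2H7EtDenseE

set_option autoImplicit false
universe u
open CategoryTheory CategoryTheory.Limits AlgebraicGeometry
open AlgSp

namespace Groth.Agent.S9986

/-- For an open immersion j : U -> X of algebraic spaces, U is scheme theoretically dense in X exactly
when the comparison map from O_X to j_* O_U on the small etale site of X is a monomorphism of
sheaves of rings. -/
theorem result {S : Scheme.{u}} {U X : AlgSp.Space S} (j : U ⟶ X)
    (hj : AlgSp.RepWith @IsOpenImmersion j.hom) :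
    AlgSp.IsSchDense j.hom ↔ Mono (AlgSp.bcRingHom hj.1) := by
  constructor
  · intro hD
    have hcomp : ∀ E, Mono ((AlgSp.bcRingHom hj.1).hom.app E) := by
      intro E
      apply ConcreteCategory.mono_of_injective
      intro s t hst
      have sqE := AlgSp.EtOver.isPullback_bcObj hj.1 E.unop
      have hinj := Groth.Agent.Lib.T2H7.EtDense.appTop_injective_of_isSchDense j.hom hD
        E.unop.obj.hom E.unop.property (AlgSp.EtOver.bcπ hj.1 E.unop) _ sqE
      have h1 : (AlgSp.EtOver.bcπ hj.1 E.unop).left.appTop.hom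
          (show ULift.{u + 1} Γ(E.unop.obj.left.left, ⊤) from s).down =
          (AlgSp.EtOver.bcπ hj.1 E.unop).left.appTop.hom
          (show ULift.{u + 1} Γ(E.unop.obj.left.left, ⊤) from t).down :=
        congrArg ULift.down hst
      exact ULift.ext _ _ (hinj h1)
    have hpre : Mono (AlgSp.bcRingHom hj.1).hom := NatTrans.mono_of_mono_app _
    exact Sheaf.Hom.mono_of_presheaf_mono _ _ _
  · intro hM
    refine Groth.Agent.Lib.T2H7.EtDense.isSchDense_of_appTop_injective X.property j.hom hj ?_
    intro V V' φ hφ π fst' sq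
    have hpre : Mono (AlgSp.bcRingHom hj.1).hom := (sheafToPresheaf _ _).map_mono (AlgSp.bcRingHom hj.1)
    have hMapp := (NatTrans.mono_iff_mono_app (AlgSp.bcRingHom hj.1).hom).mp inferInstance
      (Opposite.op (AlgSp.EtOver.mk φ hφ))
    have hinjE := (ConcreteCategory.mono_iff_injective_of_preservesPullback _).mp hMapp
    have sqE := AlgSp.EtOver.isPullback_bcObj hj.1 (AlgSp.EtOver.mk φ hφ)
    obtain ⟨e, he⟩ := Groth.Agent.Lib.T2H7.EtDense.exists_iso_of_isPullback j.hom φ π
      (AlgSp.EtOver.bcπ hj.1 (AlgSp.EtOver.mk φ hφ)) fst' _ sq sqE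
    have hinjπ : Function.Injective
        (AlgSp.EtOver.bcπ hj.1 (AlgSp.EtOver.mk φ hφ)).left.appTop.hom := by
      intro x y hxy
      have := @hinjE (ULift.up x : ULift.{u + 1} Γ(V.left, ⊤)) (ULift.up y) (ULift.ext _ _ hxy)
      exact congrArg ULift.down this
    have h1 : π.left = e.hom.left ≫ (AlgSp.EtOver.bcπ hj.1 (AlgSp.EtOver.mk φ hφ)).left := by
      rw [← he]; rfl
    have h2 : π.left.appTop =
        (AlgSp.EtOver.bcπ hj.1 (AlgSp.EtOver.mk φ hφ)).left.appTop ≫ e.hom.left.appTop := by
      rw [h1, Scheme.Hom.comp_appTop]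
    have hiso : IsIso e.hom.left := (Over.forget S).map_isIso e.hom
    have hiso2 : IsIso e.hom.left.appTop := by
      show IsIso (e.hom.left.app ⊤)
      infer_instance
    have hinj1 : Function.Injective e.hom.left.appTop.hom :=
      ((ConcreteCategory.isIso_iff_bijective _).mp hiso2).injective
    intro x y hxy
    have ex := congrArg (fun k => k.hom x) h2
    have ey := congrArg (fun k => k.hom y) h2
    exact hinjπ (hinj1 (ex.symm.trans (hxy.trans ey)))

end Groth.Agent.S9986
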