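import Groth.Statements.S9987
import Mathlib

set_option autoImplicit false
universe u
open CategoryTheory CategoryTheory.Limits AlgebraicGeometry Opposite
open AlgSp

namespace Groth.Agent.S9987

/-- For a closed immersion i : Z ⟶ X of algebraic spaces over S (representable, every base change to a
scheme a closed immersion), the comparison map O_X ⟶ i_* O_Z of sheaves of rings on the small etale
site of X is locally surjective. (The published statement also asserts that i_* O_Z is a
quasi-coherent O_X-module and that the kernel of O_X ⟶ i_* O_Z is a quasi-coherent sheaf of ideals;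
those two assertions are the closed-immersion cases of the general facts that direct images along
quasi-compact quasi-separated morphisms preserve quasi-coherence and that the kernel ideal of a
quasi-compact morphism is quasi-coherent, a closed immersion being quasi-compact and separated, and
only the surjectivity is stated here.) -/
theorem result {S : Scheme.{u}} {Z X : AlgSp.Space S} (i : Z ⟶ X)
    (hi : AlgSp.RepWith @IsClosedImmersion i.hom) :
    Presheaf.IsLocallySurjective (AlgSp.etTop X.obj) (AlgSp.bcRingHom hi.1).hom := by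
  refine ⟨fun {E} s => ?_⟩
  -- affine open cover of E
  let 𝒰 := E.obj.left.left.affineCover
  let Ek : 𝒰.I₀ → AlgSp.EtOver X.obj := fun k =>
    AlgSp.EtOver.mk (U := Over.mk (𝒰.f k ≫ E.obj.left.hom))
      ((AlgSp.yon S).map (Over.homMk (𝒰.f k) rfl : Over.mk (𝒰.f k ≫ E.obj.left.hom) ⟶ E.obj.left)
        ≫ E.obj.hom)
      ((AlgSp.RepWith @Etale).comp_mem _ _
        ((AlgSp.repWith_yon_map_iff _ _).2 (inferInstance : Etale (𝒰.f k))) E.property)
  let gk : ∀ k, Ek k ⟶ E := fun k => AlgSp.EtOver.homMk (Over.homMk (𝒰.f k) rfl) rfl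
  have hcov : Sieve.ofArrows Ek gk ∈ AlgSp.etTop X.obj E := by
    apply AlgSp.ofArrows_mem_etTop
    intro x
    obtain ⟨k, y, hy⟩ := 𝒰.exists_eq x
    exact ⟨k, y, hy⟩
  refine (AlgSp.etTop X.obj).superset_covering ?_ hcov
  rintro V g ⟨W, l, _, ⟨k⟩, rfl⟩
  apply Sieve.downward_closed
  haveI hEk : IsAffine (Ek k).obj.left.left := by
    change IsAffine (𝒰.X k)
    infer_instance
  have sqZ := AlgSp.EtOver.isPullback_bcObj hi.1 (Ek k)
  haveI : IsClosedImmersion (AlgSp.EtOver.bcπ hi.1 (Ek k)).left := hi.2 _ _ _ sqZ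
  obtain ⟨-, hsurj⟩ :=
    IsClosedImmersion.isAffine_surjective_of_isAffine (AlgSp.EtOver.bcπ hi.1 (Ek k)).left
  rw [Presheaf.imageSieve_apply]
  generalize ((((AlgSp.EtOver.bc hi.1).sheafPushforwardContinuous RingCat (AlgSp.etTop X.obj)
    (AlgSp.etTop Z.obj)).obj (AlgSp.OEtRing Z.obj)).obj.map (gk k).op) s = r
  obtain ⟨a, ha⟩ := hsurj
    (show ULift.{u + 1} Γ((AlgSp.EtOver.bcObj hi.1 (Ek k)).obj.left.left, ⊤) from r).down
  refine ⟨(ULift.up a : ULift.{u + 1} Γ((Ek k).obj.left.left, ⊤)), ?_⟩
  apply ULift.ext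
  exact ha

end Groth.Agent.S9987
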