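import Groth.Statements.S9997
import Mathlib

set_option autoImplicit false
universe u
open CategoryTheory CategoryTheory.Limits AlgebraicGeometry Opposite
open AlgSp

namespace Groth.Agent.S9997

/-- A closed immersion with affine target is locally of finite presentation iff the kernel of the
map on global sections is finitely generated. -/
lemma lfp_iff_ker_fg {A B : Scheme.{u}} (g : A ⟶ B) [IsClosedImmersion g] [IsAffine B] :
    LocallyOfFinitePresentation g ↔ (RingHom.ker g.appTop.hom).FG := by
  obtain ⟨hA, hsurj⟩ := IsClosedImmersion.isAffine_surjective_of_isAffine g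
  haveI := hA
  rw [HasRingHomProperty.iff_of_isAffine (P := @LocallyOfFinitePresentation)]
  constructor
  · intro h
    algebraize [g.appTop.hom]
    have hfp : Algebra.FinitePresentation Γ(B, ⊤) Γ(A, ⊤) := h
    exact Algebra.FinitePresentation.ker_fG_of_surjective (R := Γ(B, ⊤))
      (Algebra.ofId Γ(B, ⊤) Γ(A, ⊤)) hsurj
  · exact RingHom.FinitePresentation.of_surjective _ hsurj

/-- A closed immersion i : Z ⟶ X of algebraic spaces is (locally) of finite presentation if and only if
its sheaf of ideals is of finite type; finite type is rendered chart by chart, as finite generation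
of the kernel ideal Ker(Γ(U, O_U) → Γ(Z ×_X U, O)) for every affine etale chart U of X (for a
quasi-coherent sheaf of ideals the two readings agree by descent of finite generation along etale
coverings). -/
theorem result {S : Scheme.{u}} {Z X : AlgSp.Space S} (i : Z ⟶ X)
    (hi : AlgSp.RepWith @IsClosedImmersion i.hom) :
    AlgSp.LocP @LocallyOfFinitePresentation i.hom ↔
      ∀ (E : AlgSp.EtOver X.obj) (hE : IsAffine E.obj.left.left), ((AlgSp.idealOfRep hi.1).ideal E hE).FG := by
  constructor
  · intro hloc E hE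
    haveI := hE
    have sq := AlgSp.EtOver.isPullback_bcObj hi.1 E
    haveI : IsClosedImmersion (AlgSp.EtOver.bcπ hi.1 E).left := hi.2 _ _ _ sq
    have hlfp : LocallyOfFinitePresentation (AlgSp.EtOver.bcπ hi.1 E).left :=
      hloc (AlgSp.EtOver.bcObj hi.1 E).obj.hom E.obj.hom (AlgSp.EtOver.bcπ hi.1 E)
        (AlgSp.EtOver.bcObj hi.1 E).property E.property sq.w
    exact (lfp_iff_ker_fg _).1 hlfp
  · intro hfg U V a b h ha hb hc
    rw [IsZariskiLocalAtTarget.iff_of_openCover (P := @LocallyOfFinitePresentation)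
      V.left.affineCover]
    intro j
    -- the affine open piece of `V` as an object of the small etale site of `X`
    let ιj : V.left.affineCover.X j ⟶ V.left := V.left.affineCover.f j
    let Vj : Over S := Over.mk (ιj ≫ V.hom)
    let ιj' : Vj ⟶ V := Over.homMk ιj rfl
    have hιj : AlgSp.RepWith @Etale ((AlgSp.yon S).map ιj') :=
      (AlgSp.repWith_yon_map_iff _ _).2 (inferInstance : Etale ιj)
    let Ej : AlgSp.EtOver X.obj := AlgSp.EtOver.mk ((AlgSp.yon S).map ιj' ≫ b)
      ((AlgSp.RepWith @Etale).comp_mem _ _ hιj hb)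
    have hEj : IsAffine Ej.obj.left.left := by
      change IsAffine (V.left.affineCover.X j)
      infer_instance
    have sq := AlgSp.EtOver.isPullback_bcObj hi.1 Ej
    haveI : IsClosedImmersion (AlgSp.EtOver.bcπ hi.1 Ej).left := hi.2 _ _ _ sq
    haveI := hEj
    haveI hπ : LocallyOfFinitePresentation (AlgSp.EtOver.bcπ hi.1 Ej).left :=
      (lfp_iff_ker_fg _).2 (hfg Ej hEj)
    -- the piece of `U` over it
    let p1 : pullback h.left ιj ⟶ U.left := pullback.fst h.left ιj
    let p2 : pullback h.left ιj ⟶ V.left.affineCover.X j := pullback.snd h.left ιj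
    let Uj : Over S := Over.mk (p1 ≫ U.hom)
    let p1' : Uj ⟶ U := Over.homMk p1 rfl
    let p2' : Uj ⟶ Vj := Over.homMk p2 (by
      change p2 ≫ ιj ≫ V.hom = p1 ≫ U.hom
      rw [← Over.w h, ← Category.assoc, ← Category.assoc]
      congr 1
      exact (pullback.condition).symm)
    have hp : p1' ≫ h = p2' ≫ ιj' := by
      ext
      exact pullback.condition
    have hp1 : AlgSp.RepWith @Etale ((AlgSp.yon S).map p1') :=
      (AlgSp.repWith_yon_map_iff _ _).2 (inferInstance : Etale p1)
    let Fj : AlgSp.EtOver Z.obj := AlgSp.EtOver.mk ((AlgSp.yon S).map p1' ≫ a)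
      ((AlgSp.RepWith @Etale).comp_mem _ _ hp1 ha)
    have hcomm : ((AlgSp.yon S).map p1' ≫ a) ≫ i.hom = (AlgSp.yon S).map p2' ≫ Ej.obj.hom := by
      change _ = (AlgSp.yon S).map p2' ≫ (AlgSp.yon S).map ιj' ≫ b
      rw [Category.assoc, hc, ← Category.assoc, ← Category.assoc, ← Functor.map_comp,
        ← Functor.map_comp, hp]
    obtain ⟨k, hk⟩ := (AlgSp.yon S).map_surjective
      (sq.lift ((AlgSp.yon S).map p1' ≫ a) ((AlgSp.yon S).map p2') hcomm)
    have hk1 : (AlgSp.yon S).map k ≫ (AlgSp.EtOver.bcObj hi.1 Ej).obj.hom =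
        (AlgSp.yon S).map p1' ≫ a := by
      rw [hk]; exact sq.lift_fst _ _ _
    have hk2 : k ≫ AlgSp.EtOver.bcπ hi.1 Ej = p2' := (AlgSp.yon S).map_injective (by
      rw [Functor.map_comp, hk]; exact sq.lift_snd _ _ _)
    let kk : Fj ⟶ AlgSp.EtOver.bcObj hi.1 Ej := AlgSp.EtOver.homMk k hk1
    haveI : Etale k.left := AlgSp.EtOver.etale_left kk
    have : V.left.affineCover.pullbackHom h.left j = k.left ≫ (AlgSp.EtOver.bcπ hi.1 Ej).left := by
      rw [← Over.comp_left, hk2]
      rfl
    rw [this]
    haveI hk' : LocallyOfFinitePresentation k.left := inferInstance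
    exact MorphismProperty.comp_mem (W := @LocallyOfFinitePresentation) _ _ hk' hπ

end Groth.Agent.S9997
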